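import Mathlib.AlgebraicGeometry.Morphisms.Etale
import Mathlib.AlgebraicGeometry.Morphisms.Smooth
import Mathlib.AlgebraicGeometry.Morphisms.Flat
import Mathlib.AlgebraicGeometry.Morphisms.FormallyUnramified
import Mathlib.RingTheory.Unramified.Locus
import Mathlib.RingTheory.Flat.Localization

set_option autoImplicit false

namespace Groth.Agent.Lib.Helper13

open CategoryTheory AlgebraicGeometry

universe u

variable {X Y : Scheme.{u}}

/-- The stalk map of `f` at `x` is formally unramified iff the corresponding prime is in the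
unramified locus of an affine chart. -/
lemma formallyUnramified_stalkMap_iff {f : X ⟶ Y} {x : X} (U : Y.Opens)
      (hU : IsAffineOpen U) (V : X.Opens) (hV : IsAffineOpen V) (hVU : V ≤ f ⁻¹ᵁ U)
      (hx : x ∈ V) :
    letI := (f.appLE U V hVU).hom.toAlgebra
    (f.stalkMap x).hom.FormallyUnramified ↔
      hV.primeIdealOf ⟨x, hx⟩ ∈ Algebra.unramifiedLocus Γ(Y, U) Γ(X, V) := by
  let := (f.appLE U V hVU).hom.toAlgebra
  let p := (hU.primeIdealOf ⟨f x, hVU hx⟩).asIdeal
  let q := (hV.primeIdealOf ⟨x, hx⟩).asIdeal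
  have : q.LiesOver p :=
    ⟨congr($(IsAffineOpen.comap_primeIdealOf_appLE U hU V hV hVU hx).1).symm⟩
  let := Localization.AtPrime.algebraOfLiesOver p q
  trans Algebra.FormallyUnramified (Localization.AtPrime p) (Localization.AtPrime q)
  · rw [← RingHom.formallyUnramified_algebraMap]
    exact RingHom.FormallyUnramified.respectsIso.arrow_mk_iso_iff
      (IsAffineOpen.arrowStalkMapIso f U hU V hV hVU hx)
  · constructor
    · intro h
      exact Algebra.FormallyUnramified.comp Γ(Y, U) (Localization.AtPrime p) _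
    · intro h
      have : Algebra.FormallyUnramified Γ(Y, U) (Localization.AtPrime q) := h
      exact Algebra.FormallyUnramified.of_restrictScalars Γ(Y, U) _ _

/-- The stalk map of `f` at `x` is flat iff the localization of an affine chart at the
corresponding prime is flat over the base chart. -/
lemma flat_stalkMap_iff {f : X ⟶ Y} {x : X} (U : Y.Opens)
      (hU : IsAffineOpen U) (V : X.Opens) (hV : IsAffineOpen V) (hVU : V ≤ f ⁻¹ᵁ U)
      (hx : x ∈ V) :
    letI := (f.appLE U V hVU).hom.toAlgebra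
    (f.stalkMap x).hom.Flat ↔
      Module.Flat Γ(Y, U) (Localization.AtPrime (hV.primeIdealOf ⟨x, hx⟩).asIdeal) := by
  let := (f.appLE U V hVU).hom.toAlgebra
  let p := (hU.primeIdealOf ⟨f x, hVU hx⟩).asIdeal
  let q := (hV.primeIdealOf ⟨x, hx⟩).asIdeal
  have : q.LiesOver p :=
    ⟨congr($(IsAffineOpen.comap_primeIdealOf_appLE U hU V hV hVU hx).1).symm⟩
  let := Localization.AtPrime.algebraOfLiesOver p q
  trans Module.Flat (Localization.AtPrime p) (Localization.AtPrime q)
  · rw [← RingHom.flat_algebraMap_iff]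
    exact RingHom.Flat.respectsIso.arrow_mk_iso_iff
      (IsAffineOpen.arrowStalkMapIso f U hU V hV hVU hx)
  · exact Module.flat_iff_of_isLocalization (Localization.AtPrime p) p.primeCompl _

end Groth.Agent.Lib.Helper13

namespace Groth.Agent.Lib.Helper13

open CategoryTheory AlgebraicGeometry

universe u

variable {X Y : Scheme.{u}}

set_option backward.defeqAttrib.useBackward true in
set_option backward.isDefEq.respectTransparency false in
/-- Membership in a basic open in terms of `primeIdealOf`. -/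
lemma mem_basicOpen_iff_primeIdealOf {V : X.Opens} (hV : IsAffineOpen V) (r : Γ(X, V))
    {z : X} (hz : z ∈ V) :
    z ∈ X.basicOpen r ↔ r ∉ (hV.primeIdealOf ⟨z, hz⟩).asIdeal := by
  rw [← PrimeSpectrum.mem_basicOpen, IsAffineOpen.primeIdealOf,
    ← hV.fromSpec_preimage_basicOpen, Scheme.Hom.mem_preimage, ← Scheme.Hom.comp_apply,
    IsAffineOpen.isoSpec_hom, IsAffineOpen.toSpecΓ_fromSpec]
  rfl

/-- The locus where the stalk maps of a morphism locally of finite type are formally unramified
is a neighbourhood of each of its points. -/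
lemma exists_open_forall_formallyUnramified_stalkMap (f : X ⟶ Y) [LocallyOfFiniteType f] (x : X)
    (H : (f.stalkMap x).hom.FormallyUnramified) :
    ∃ W : X.Opens, x ∈ W ∧ ∀ z ∈ W, (f.stalkMap z).hom.FormallyUnramified := by
  obtain ⟨_, ⟨U, hU, rfl⟩, hxU, -⟩ :=
    Y.isBasis_affineOpens.exists_subset_of_mem_open (Set.mem_univ (f x)) isOpen_univ
  obtain ⟨_, ⟨V, hV, rfl⟩, hxV, hVU⟩ :=
    X.isBasis_affineOpens.exists_subset_of_mem_open hxU (U.2.preimage f.continuous)
  have := f.finiteType_appLE hU hV hVU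
  algebraize [(f.appLE U V hVU).hom]
  have hq := (formallyUnramified_stalkMap_iff U hU V hV hVU hxV).mp H
  obtain ⟨_, ⟨_, ⟨r, rfl⟩, rfl⟩, hxr, hr⟩ :=
    PrimeSpectrum.isBasis_basic_opens.exists_subset_of_mem_open hq
      (Algebra.isOpen_unramifiedLocus (R := Γ(Y, U)) (A := Γ(X, V)))
  refine ⟨X.basicOpen r, (mem_basicOpen_iff_primeIdealOf hV r hxV).mpr hxr, fun z hz => ?_⟩
  have hzV : z ∈ V := X.basicOpen_le r hz
  rw [formallyUnramified_stalkMap_iff U hU V hV hVU hzV]
  exact hr ((mem_basicOpen_iff_primeIdealOf hV r hzV).mp hz)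

end Groth.Agent.Lib.Helper13

namespace Groth.Agent.Lib.Helper13

open CategoryTheory AlgebraicGeometry

universe u

variable {X Y : Scheme.{u}}

/-- The stalk map of `U.ι ≫ f` has a property respecting isomorphisms iff that of `f` does. -/
lemma stalkMap_ι_comp_iff {Q : ∀ {R S : Type u} [CommRing R] [CommRing S], (R →+* S) → Prop}
    (hQ : RingHom.RespectsIso Q) (f : X ⟶ Y) (U : X.Opens) (z : U) :
    Q ((U.ι ≫ f).stalkMap z).hom ↔ Q (f.stalkMap z.1).hom := by
  rw [Scheme.Hom.stalkMap_comp]
  exact hQ.cancel_right_isIso _ (U.ι.stalkMap z)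

/-- If `f` is formally unramified at all points of an open `U`, then `U.ι ≫ f` is formally
unramified. -/
lemma formallyUnramified_ι_comp_of_forall (f : X ⟶ Y) (U : X.Opens)
    (H : ∀ z ∈ U, (f.stalkMap z).hom.FormallyUnramified) : FormallyUnramified (U.ι ≫ f) :=
  HasRingHomProperty.of_stalkMap RingHom.FormallyUnramified.ofLocalizationPrime fun z =>
    (stalkMap_ι_comp_iff RingHom.FormallyUnramified.respectsIso f U z).mpr (H z.1 z.2)

/-- If `U` is contained in the smooth locus, `U.ι ≫ f` is smooth. -/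
lemma smooth_ι_comp_of_le_smoothLocus (f : X ⟶ Y) [LocallyOfFinitePresentation f] (U : X.Opens)
    (H : U ≤ f.smoothLocus) : Smooth (U.ι ≫ f) := by
  rw [← Scheme.Hom.smoothLocus_eq_top_iff, ← Scheme.Hom.preimage_smoothLocus_eq, ← top_le_iff]
  rintro ⟨z, hz⟩ -
  exact H hz

/-- If `U` is contained in the smooth locus and `f` is formally unramified at all points of `U`,
then `U.ι ≫ f` is étale. -/
lemma etale_ι_comp_of_forall (f : X ⟶ Y) [LocallyOfFinitePresentation f] (U : X.Opens)
    (H₁ : U ≤ f.smoothLocus) (H₂ : ∀ z ∈ U, (f.stalkMap z).hom.FormallyUnramified) :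
    Etale (U.ι ≫ f) := by
  have := smooth_ι_comp_of_le_smoothLocus f U H₁
  have := formallyUnramified_ι_comp_of_forall f U H₂
  exact Etale.iff_flat_and_formallyUnramified.mpr ⟨inferInstance, inferInstance, inferInstance⟩

/-- If `U.ι ≫ f` is smooth then `U` is contained in the smooth locus of `f`. -/
lemma le_smoothLocus_of_smooth_ι_comp (f : X ⟶ Y) [LocallyOfFinitePresentation f] (U : X.Opens)
    [Smooth (U.ι ≫ f)] : U ≤ f.smoothLocus := by
  intro z hz
  have h := Scheme.Hom.smoothLocus_eq_top (U.ι ≫ f)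
  rw [← Scheme.Hom.preimage_smoothLocus_eq] at h
  have : (⟨z, hz⟩ : U) ∈ U.ι ⁻¹ᵁ f.smoothLocus := h ▸ trivial
  exact this

/-- If `U.ι ≫ f` is formally unramified then `f` is formally unramified at all points of `U`. -/
lemma formallyUnramified_stalkMap_of_ι_comp (f : X ⟶ Y) (U : X.Opens)
    [FormallyUnramified (U.ι ≫ f)] {z : X} (hz : z ∈ U) :
    (f.stalkMap z).hom.FormallyUnramified :=
  (stalkMap_ι_comp_iff RingHom.FormallyUnramified.respectsIso f U ⟨z, hz⟩).mp
    (FormallyUnramified.stalkMap (U.ι ≫ f) ⟨z, hz⟩)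

end Groth.Agent.Lib.Helper13
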