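import Groth.Agent.Lib.Helper13.Rebase
import Mathlib.AlgebraicGeometry.Cover.Open

set_option autoImplicit false
set_option linter.unusedSectionVars false

universe u

namespace Groth.Agent.Lib.Helper13

open AlgebraicGeometry CategoryTheory CategoryTheory.Limits Groth.Agent.Lib.Helper5

/-- A property local at the target can be checked on a jointly surjective family of open
immersions, using arbitrary pullback squares. -/
lemma of_isPullback_of_jointly_surjective {P : MorphismProperty Scheme.{u}}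
    [IsZariskiLocalAtTarget P] {X Y : Scheme.{u}} (f : X ⟶ Y) {J : Type u} (U : J → Scheme.{u})
    (u : ∀ a, U a ⟶ Y) [∀ a, IsOpenImmersion (u a)] (hcov : ∀ y, ∃ a z, u a z = y)
    (X' : J → Scheme.{u}) (f' : ∀ a, X' a ⟶ U a) (s : ∀ a, X' a ⟶ X)
    (h : ∀ a, IsPullback (s a) (f' a) f (u a)) (hP : ∀ a, P (f' a)) : P f := by
  let 𝒰 : Y.OpenCover := Scheme.Cover.mkOfCovers J U u hcov
  apply IsZariskiLocalAtTarget.of_openCover 𝒰
  intro a
  have h1 : 𝒰.pullbackHom f a = (h a).isoPullback.inv ≫ f' a :=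
    ((h a).isoPullback_inv_snd).symm
  rw [h1]
  exact (P.cancel_left_of_respectsIso (h a).isoPullback.inv (f' a)).mpr (hP a)

namespace LimitDescent

variable {I : Type u} [SmallCategory I] (D : I ⥤ Scheme.{u}) {c : Cone D}
  (i₀ : I) {X₀ Y₀ : Scheme.{u}} (f₀ : X₀ ⟶ Y₀) (g₀ : Y₀ ⟶ D.obj i₀)
  {X Y : Scheme.{u}} {f : X ⟶ Y} {g : Y ⟶ c.pt} {qY : Y ⟶ Y₀} {qX : X ⟶ X₀}

set_option backward.isDefEq.respectTransparency false in
/-- The transition squares of the stage maps are pullbacks. -/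
lemma isPullback_map_fj {l j : Over i₀} (e : l ⟶ j) :
    IsPullback ((bcDiagram D i₀ (f₀ ≫ g₀)).map e) (fj D i₀ f₀ g₀ l) (fj D i₀ f₀ g₀ j)
      ((bcDiagram D i₀ g₀).map e) := by
  refine IsPullback.of_right ?_ (bcDiagram_map_fj D i₀ f₀ g₀ e) (isPullback_Xj D i₀ f₀ g₀ j)
  have h1 : (bcDiagram D i₀ (f₀ ≫ g₀)).map e ≫ pXj D i₀ f₀ g₀ j = pXj D i₀ f₀ g₀ l :=
    bcDiagram_map_pYj D i₀ (f₀ ≫ g₀) e
  have h2 : (bcDiagram D i₀ g₀).map e ≫ pYj D i₀ g₀ j = pYj D i₀ g₀ l :=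
    bcDiagram_map_pYj D i₀ g₀ e
  rw [h1, h2]
  exact isPullback_Xj D i₀ f₀ g₀ l

section baseChange

variable {W : Scheme.{u}} (ι : W ⟶ Y₀)

variable {D i₀ f₀ g₀} in
/-- Base change of the `Y`-square along `ι : W ⟶ Y₀`. -/
lemma isPullback_Y_baseChange (hY : IsPullback qY g g₀ (c.π.app i₀)) :
    IsPullback (pullback.snd qY ι) (pullback.fst qY ι ≫ g) (ι ≫ g₀) (c.π.app i₀) :=
  (IsPullback.of_hasPullback qY ι).flip.paste_vert hY

/-- The map `X ×_Y (Y ×_{Y₀} W) ⟶ X₀ ×_{Y₀} W`. -/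
noncomputable def qXbc (hX : IsPullback qX f f₀ qY) :
    pullback f (pullback.fst qY ι) ⟶ pullback f₀ ι :=
  pullback.lift (pullback.fst f (pullback.fst qY ι) ≫ qX)
    (pullback.snd f (pullback.fst qY ι) ≫ pullback.snd qY ι) (by
      rw [Category.assoc, hX.w, pullback.condition_assoc, Category.assoc,
        pullback.condition])

variable {f₀} in
/-- Base change of the `X`-square along `ι : W ⟶ Y₀`. -/
lemma isPullback_X_baseChange (hX : IsPullback qX f f₀ qY) :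
    IsPullback (qXbc f₀ ι hX) (pullback.snd f (pullback.fst qY ι)) (pullback.snd f₀ ι)
      (pullback.snd qY ι) := by
  refine IsPullback.of_right ?_ (pullback.lift_snd _ _ _) (IsPullback.of_hasPullback f₀ ι)
  have h1 : qXbc f₀ ι hX ≫ pullback.fst f₀ ι = pullback.fst f (pullback.fst qY ι) ≫ qX :=
    pullback.lift_fst _ _ _
  rw [h1, ← pullback.condition]
  exact (IsPullback.of_hasPullback f (pullback.fst qY ι)).paste_horiz hX

/-- The stage maps of the base-changed problem are base changes of the stage maps. -/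
lemma exists_isPullback_stage_baseChange (l : Over i₀) :
    ∃ s : Xj D i₀ (pullback.snd f₀ ι) (ι ≫ g₀) l ⟶ Xj D i₀ f₀ g₀ l,
      IsPullback s (fj D i₀ (pullback.snd f₀ ι) (ι ≫ g₀) l) (fj D i₀ f₀ g₀ l)
        (fj D i₀ ι g₀ l) := by
  have hbig : IsPullback (pXj D i₀ (pullback.snd f₀ ι) (ι ≫ g₀) l ≫ pullback.fst f₀ ι)
      (fj D i₀ (pullback.snd f₀ ι) (ι ≫ g₀) l) f₀ (pYj D i₀ (ι ≫ g₀) l ≫ ι) :=
    (isPullback_Xj D i₀ (pullback.snd f₀ ι) (ι ≫ g₀) l).paste_horiz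
      (IsPullback.of_hasPullback f₀ ι)
  have hr := isPullback_Xj D i₀ f₀ g₀ l
  have hv : fj D i₀ ι g₀ l ≫ pYj D i₀ g₀ l = pYj D i₀ (ι ≫ g₀) l ≫ ι := fj_pYj D i₀ ι g₀ l
  have hw : (pXj D i₀ (pullback.snd f₀ ι) (ι ≫ g₀) l ≫ pullback.fst f₀ ι) ≫ f₀ =
      (fj D i₀ (pullback.snd f₀ ι) (ι ≫ g₀) l ≫ fj D i₀ ι g₀ l) ≫ pYj D i₀ g₀ l := by
    simpa only [Category.assoc, hv] using hbig.w
  refine ⟨hr.lift _ _ hw, IsPullback.of_right ?_ (hr.lift_snd _ _ hw) hr⟩
  rw [hr.lift_fst, hv]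
  exact hbig

end baseChange

/-- A property which is local at the target and stable under base change descends to a finite
stage as soon as it does so locally on `Y₀`. -/
theorem exists_stage_of_cover [IsCofiltered I] (P : MorphismProperty Scheme.{u})
    [IsZariskiLocalAtTarget P] [P.IsStableUnderBaseChange]
    {J : Type u} [Finite J] (W : J → Scheme.{u}) (ι : ∀ a, W a ⟶ Y₀)
    [∀ a, IsOpenImmersion (ι a)] (hcov : ∀ y, ∃ a z, ι a z = y)
    (H : ∀ a, ∃ j : Over i₀, P (fj D i₀ (pullback.snd f₀ (ι a)) (ι a ≫ g₀) j)) :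
    ∃ j : Over i₀, P (fj D i₀ f₀ g₀ j) := by
  classical
  choose k hk using H
  cases nonempty_fintype J
  obtain ⟨l, hl⟩ := IsCofiltered.inf_objs_exists (Finset.univ.image k)
  refine ⟨l, ?_⟩
  have hPl : ∀ a, P (fj D i₀ (pullback.snd f₀ (ι a)) (ι a ≫ g₀) l) := fun a => by
    obtain ⟨e⟩ := hl (Finset.mem_image_of_mem k (Finset.mem_univ a))
    exact P.of_isPullback (isPullback_map_fj D i₀ (pullback.snd f₀ (ι a)) (ι a ≫ g₀) e) (hk a)
  choose s hs using fun a => exists_isPullback_stage_baseChange D i₀ f₀ g₀ (ι a) l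
  have : ∀ a, IsOpenImmersion (fj D i₀ (ι a) g₀ l) := fun a =>
    MorphismProperty.of_isPullback (isPullback_Xj D i₀ (ι a) g₀ l) inferInstance
  refine of_isPullback_of_jointly_surjective (P := P) (fj D i₀ f₀ g₀ l)
    (fun a => Yj D i₀ (ι a ≫ g₀) l) (fun a => fj D i₀ (ι a) g₀ l) ?_ _ _ s hs hPl
  intro y
  obtain ⟨a, z, hz⟩ := hcov (pYj D i₀ g₀ l y)
  have hy : y ∈ Set.range (fj D i₀ (ι a) g₀ l) := by
    rw [(isPullback_Xj D i₀ (ι a) g₀ l).range_snd_scheme]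
    exact ⟨z, hz⟩
  obtain ⟨z', hz'⟩ := hy
  exact ⟨a, z', hz'⟩

end LimitDescent

end Groth.Agent.Lib.Helper13
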