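import Groth.Agent.Lib.Helper13.SmoothDesc3
import Mathlib.RingTheory.RingHom.Smooth
import Mathlib.Algebra.Category.Ring.Constructions
set_option linter.style.haveILetI false

/-!
# Descent of smoothness through a cofiltered system of rings, in terms of pushout squares
-/

set_option autoImplicit false
universe u v w
open MvPolynomial CategoryTheory CategoryTheory.Limits
open scoped TensorProduct

namespace Groth.Agent.Lib.Helper13.SD

section Pushout

variable {A₀ B₀ T B : Type u} [CommRing A₀] [CommRing B₀] [CommRing T] [CommRing B]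
  (φ₀ : A₀ →+* B₀) (α : A₀ →+* T) (β : B₀ →+* B) (φ : T →+* B)

lemma smooth_iff_of_isPushout
    (h : IsPushout (CommRingCat.ofHom φ₀) (CommRingCat.ofHom α) (CommRingCat.ofHom β)
      (CommRingCat.ofHom φ)) :
    φ.Smooth ↔ (letI := φ₀.toAlgebra; letI := α.toAlgebra; Algebra.Smooth T (T ⊗[A₀] B₀)) := by
  letI := φ₀.toAlgebra
  letI := α.toAlgebra
  letI := β.toAlgebra
  letI := φ.toAlgebra
  letI : Algebra A₀ B := (φ.comp α).toAlgebra
  haveI : IsScalarTower A₀ T B := .of_algebraMap_eq' rfl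
  haveI : IsScalarTower A₀ B₀ B := .of_algebraMap_eq' (by
    have := h.w
    exact (congr(CommRingCat.Hom.hom $this)).symm)
  have hp : Algebra.IsPushout A₀ T B₀ B := CommRingCat.isPushout_iff_isPushout.mp h.flip
  let e := Algebra.IsPushout.equiv A₀ T B₀ B
  change Algebra.Smooth T B ↔ Algebra.Smooth T (T ⊗[A₀] B₀)
  exact ⟨fun _ => Algebra.Smooth.of_equiv e.symm, fun _ => Algebra.Smooth.of_equiv e⟩

end Pushout

variable {J : Type v} [Category.{w} J] [IsCofiltered J] (S : RingSys.{u} J)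
  {A₀ B₀ : Type u} [CommRing A₀] [CommRing B₀]
  (α : ∀ j, A₀ →+* S.R j) (hα : ∀ {l j : J} (e : l ⟶ j), (S.tr e).comp (α j) = α l)
  (αA : A₀ →+* S.A) (hαA : ∀ j, (S.a j).comp (α j) = αA)

include hα hαA in
/-- Smoothness descends to a finite stage of a cofiltered system of rings. -/
theorem exists_smooth_stage (φ₀ : A₀ →+* B₀) (hφ₀ : φ₀.FinitePresentation)
    {BA : Type u} [CommRing BA] (βA : B₀ →+* BA) (φA : S.A →+* BA)
    (hA : IsPushout (CommRingCat.ofHom φ₀) (CommRingCat.ofHom αA) (CommRingCat.ofHom βA)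
      (CommRingCat.ofHom φA))
    (hsm : φA.Smooth) :
    ∃ j : J, ∀ {Bj : Type u} [CommRing Bj] (βj : B₀ →+* Bj) (φj : S.R j →+* Bj),
      IsPushout (CommRingCat.ofHom φ₀) (CommRingCat.ofHom (α j)) (CommRingCat.ofHom βj)
        (CommRingCat.ofHom φj) → φj.Smooth := by
  letI := φ₀.toAlgebra
  have hfp : Algebra.FinitePresentation A₀ B₀ := hφ₀
  have h1 := (smooth_iff_of_isPushout φ₀ αA βA φA hA).1 hsm
  obtain ⟨j, hj⟩ := exists_formallySmooth_stage S α hα αA hαA
    (Algebra.Presentation.ofFinitePresentation A₀ B₀)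
    (by letI := αA.toAlgebra; exact h1.formallySmooth)
  refine ⟨j, fun {Bj} _ βj φj hsq => ?_⟩
  rw [smooth_iff_of_isPushout φ₀ (α j) βj φj hsq]
  letI := (α j).toAlgebra
  exact ⟨hj, inferInstance⟩

end Groth.Agent.Lib.Helper13.SD
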