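import Mathlib.Algebra.Homology.Additive
import Mathlib.CategoryTheory.Adjunction.Additive

/-!
# An adjunction of additive functors induces an adjunction on homological complexes
-/

set_option autoImplicit false

namespace Groth.Agent.Lib.Helper13.Kan

open CategoryTheory CategoryTheory.Limits

variable {V W : Type*} [Category V] [Category W] [Preadditive V] [Preadditive W]
  {G : V ⥤ W} {F : W ⥤ V} (adj : G ⊣ F) [G.Additive] [F.Additive]
  {ι : Type*} (c : ComplexShape ι)

/-- The unit of the adjunction on complexes. -/
@[simps]
def adjCxUnit : 𝟭 (HomologicalComplex V c) ⟶
    G.mapHomologicalComplex c ⋙ F.mapHomologicalComplex c where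
  app K :=
    { f := fun i => adj.unit.app (K.X i)
      comm' := fun i j _ => by
        dsimp
        exact (adj.unit.naturality (K.d i j)).symm }
  naturality K L f := by
    ext i
    dsimp
    exact adj.unit.naturality (f.f i)

/-- The counit of the adjunction on complexes. -/
@[simps]
def adjCxCounit : F.mapHomologicalComplex c ⋙ G.mapHomologicalComplex c ⟶
    𝟭 (HomologicalComplex W c) where
  app K :=
    { f := fun i => adj.counit.app (K.X i)
      comm' := fun i j _ => by
        dsimp
        exact (adj.counit.naturality (K.d i j)).symm }
  naturality K L f := by
    ext i
    dsimp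
    exact adj.counit.naturality (f.f i)

/-- The adjunction on homological complexes. -/
def adjCx : G.mapHomologicalComplex c ⊣ F.mapHomologicalComplex c :=
  Adjunction.mkOfUnitCounit
    { unit := adjCxUnit adj c
      counit := adjCxCounit adj c
      left_triangle := by
        ext K i
        dsimp
        simp only [Category.id_comp]
        exact adj.left_triangle_components (K.X i)
      right_triangle := by
        ext K i
        dsimp
        simp only [Category.id_comp]
        exact adj.right_triangle_components (K.X i) }

@[simp]
lemma adjCx_unit_app_f (K : HomologicalComplex V c) (i : ι) :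
    ((adjCx adj c).unit.app K).f i = adj.unit.app (K.X i) := rfl

@[simp]
lemma adjCx_counit_app_f (K : HomologicalComplex W c) (i : ι) :
    ((adjCx adj c).counit.app K).f i = adj.counit.app (K.X i) := rfl

end Groth.Agent.Lib.Helper13.Kan
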