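import Groth.Agent.Lib.Helper13.DRingPC
import Groth.Prelude.Def_DDual2

/-!
# Restriction of scalars and pseudo-coherence in `D(A)`
-/

set_option autoImplicit false
universe u
open CategoryTheory CategoryTheory.Limits
open PCoh

namespace Groth.Agent.Lib.Helper13.DR

open Groth.Agent.Lib.Helper13.PC
open DerivedCategory

attribute [local instance] HasDerivedCategory.standard

variable {A B : Type u} [CommRing A] [CommRing B] (φ : A →+* B)

/-- `restrictD (Q E) ≅ Q (restrictCx E)`. -/
noncomputable def restrictDQIso (E : DRing.Cx B) :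
    (DRing.restrictD φ).obj (Q.obj E) ≅ Q.obj ((DRing.restrictCx φ).obj E) :=
  (ModuleCat.restrictScalars.{u} φ).mapDerivedCategoryFactors.app E

/-- homology of restrictCx -/
noncomputable def restrictCxHomologyIso (E : DRing.Cx B) (i : ℤ) :
    ((DRing.restrictCx φ).obj E).homology i ≅ (ModuleCat.restrictScalars.{u} φ).obj (E.homology i) :=
  (E.sc i).mapHomologyIso (ModuleCat.restrictScalars.{u} φ)

lemma finite_of_finite_restrictScalars (H : ModuleCat.{u} B)
    (h : Module.Finite A ((ModuleCat.restrictScalars.{u} φ).obj H)) : Module.Finite B H := by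
  obtain ⟨S, hS⟩ := h.fg_top
  refine ⟨⟨S, ?_⟩⟩
  rw [eq_top_iff]
  rintro x -
  have hx : x ∈ Submodule.span A (S : Set ((ModuleCat.restrictScalars.{u} φ).obj H)) := by
    rw [hS]; trivial
  induction hx using Submodule.span_induction with
  | mem y hy => exact Submodule.subset_span hy
  | zero => exact Submodule.zero_mem _
  | add y z _ _ hy hz => exact Submodule.add_mem _ hy hz
  | smul a y _ hy => exact Submodule.smul_mem _ (φ a) hy

lemma isZero_of_isZero_restrictScalars (H : ModuleCat.{u} B)
    (h : IsZero ((ModuleCat.restrictScalars.{u} φ).obj H)) : IsZero H := by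
  have := ModuleCat.subsingleton_of_isZero h
  exact @ModuleCat.isZero_of_subsingleton _ _ H (this)


/-- The functor `M ↦ (M|_A)[0]`. -/
noncomputable abbrev resSingle : ModuleCat.{u} B ⥤ DerivedCategory (ModuleCat.{u} A) :=
  ModuleCat.restrictScalars.{u} φ ⋙ DerivedCategory.singleFunctor (ModuleCat.{u} A) 0

lemma isPC_resSingle_biprod {X Y : ModuleCat.{u} B} (hX : IsPC (Pff A) ((resSingle φ).obj X))
    (hY : IsPC (Pff A) ((resSingle φ).obj Y)) : IsPC (Pff A) ((resSingle φ).obj (X ⊞ Y)) := by
  intro n
  have : PreservesBinaryBiproducts (resSingle φ) :=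
    preservesBinaryBiproducts_of_preservesBiproducts _
  exact (isNPC_pt_of_isBilimit Pff_prod hqs_Pff hql_Pff _
    (BinaryBiproduct.isBilimit ((resSingle φ).obj X) ((resSingle φ).obj Y)) (hX n) (hY n)).of_iso
    ((resSingle φ).mapBiprod X Y).symm

lemma isPC_resSingle_pi
    (hB : IsPC (Pff A) ((resSingle φ).obj (ModuleCat.of B B))) (k : ℕ) :
    IsPC (Pff A) ((resSingle φ).obj (ModuleCat.of B (Fin k → B))) := by
  induction k with
  | zero =>
    intro n
    exact isNPC_single_of_isZero (Functor.map_isZero _
      (ModuleCat.isZero_of_subsingleton (ModuleCat.of B (Fin 0 → B)))) 0 n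
  | succ k ih =>
    have e : ModuleCat.of B B ⊞ ModuleCat.of B (Fin k → B) ≅ ModuleCat.of B (Fin (k + 1) → B) :=
      ModuleCat.biprodIsoProd _ _ ≪≫
        (Fin.consLinearEquiv B (fun _ : Fin (k + 1) => B)).toModuleIso
    exact isPC_of_iso (isPC_resSingle_biprod φ hB ih) ((resSingle φ).mapIso e)

lemma isPC_resSingle_of_Pff
    (hB : IsPC (Pff A) ((resSingle φ).obj (ModuleCat.of B B))) {M : ModuleCat.{u} B}
    (hM : Pff B M) : IsPC (Pff A) ((resSingle φ).obj M) := by
  obtain ⟨h1, h2⟩ := hM
  rcases subsingleton_or_nontrivial B with hs | hn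
  · have : Subsingleton M := Module.subsingleton B M
    intro n
    exact isNPC_single_of_isZero (Functor.map_isZero _ (ModuleCat.isZero_of_subsingleton M)) 0 n
  · let e : M ≅ ModuleCat.of B (Fin (Module.finrank B M) → B) :=
      (Module.finBasis B M).equivFun.toModuleIso
    exact isPC_of_iso (isPC_resSingle_pi φ hB _) ((resSingle φ).mapIso e.symm)


open CochainComplex HomologicalComplex Pretriangulated in
/-- A bounded above complex of `B`-modules whose terms in degrees `≥ n` are finite free, restricted
to `A`, is `n`-pseudo-coherent. -/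
lemma isNPC_Q_restrictCx (hB : IsPC (Pff A) ((resSingle φ).obj (ModuleCat.of B B))) (n : ℤ)
    (E : DRing.Cx B) (hE : IsStrictPC (Pff B) n E) :
    IsNPC (Pff A) n (Q.obj ((DRing.restrictCx φ).obj E)) := by
  obtain ⟨⟨b, hb⟩, hP⟩ := hE
  exact isNPC_of_termwise Pff_prod hqs_Pff hql_Pff _ b
    (fun i hi => Functor.map_isZero (ModuleCat.restrictScalars.{u} φ) (hb i hi))
    (fun i hi => isPC_resSingle_of_Pff φ hB (hP i hi) (n - i))

/-- Restriction of scalars along `A → B` with `B` pseudo-coherent over `A` preserves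
`m`-pseudo-coherence. -/
theorem isNPC_restrictD (hB : IsPC (Pff A) ((resSingle φ).obj (ModuleCat.of B B))) {m : ℤ}
    {K : Dual.D B} (h : IsNPC (Pff B) m K) : IsNPC (Pff A) m ((DRing.restrictD φ).obj K) := by
  obtain ⟨E, hE, ⟨e⟩⟩ := h
  exact (isNPC_Q_restrictCx φ hB m E hE).of_iso
    ((restrictDQIso φ E).symm ≪≫ (DRing.restrictD φ).mapIso e)

open CochainComplex HomologicalComplex Pretriangulated in
/-- Restriction of scalars along `A → B` with `B` pseudo-coherent over `A` reflects
`m`-pseudo-coherence. -/
theorem isNPC_of_isNPC_restrictD (hB : IsPC (Pff A) ((resSingle φ).obj (ModuleCat.of B B))) {m : ℤ}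
    {K : Dual.D B} (h : IsNPC (Pff A) m ((DRing.restrictD φ).obj K)) : IsNPC (Pff B) m K := by
  let E := Q.objPreimage K
  let e : Q.obj E ≅ K := Q.objObjPreimageIso K
  have hE : IsNPC (Pff A) m (Q.obj ((DRing.restrictCx φ).obj E)) :=
    h.of_iso ((DRing.restrictD φ).mapIso e.symm ≪≫ restrictDQIso φ E)
  obtain ⟨b, hb⟩ := exists_bound_of_isNPC hE
  have hEx : ∀ i : ℤ, b < i → E.ExactAt i := fun i hi => by
    rw [exactAt_iff_isZero_homology]
    apply isZero_of_isZero_restrictScalars φ
    exact (hb i hi).of_iso ((restrictCxHomologyIso φ E i).symm ≪≫ (homologyQIso _ i).symm)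
  obtain ⟨G, g, hGP, hz, hiso, hepi⟩ := exists_nQuasiIso_of_oracle (Pff B) Pff_prod hql_Pff E m b hEx
    (fun k hk G g hP hz hiso hepi => by
      rw [isOfFiniteType_Pff_iff]
      apply finite_of_finite_restrictScalars φ
      let g' := (DRing.restrictCx φ).map g
      have hG : IsNPC (Pff A) (k + 1) (Q.obj ((DRing.restrictCx φ).obj G)) :=
        isNPC_Q_restrictCx φ hB (k + 1) G
          (isStrictPC_of_forall (fun i hi => hz i (Or.inr hi)) hP _)
      have h1 : IsNPC (Pff A) k (Q.obj (mappingCone g')) :=
        isNPC_obj₃ Pff_prod hqs_Pff hql_Pff _ (mappingCone_triangle_distinguished g') hG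
          (hE.of_le hk)
      have iso : ∀ i : ℤ, (DerivedCategory.homologyFunctor _ i).obj (Q.obj (mappingCone g')) ≅
          (ModuleCat.restrictScalars.{u} φ).obj ((mappingCone g).homology i) := fun i =>
        homologyQIso _ i ≪≫ (HomologicalComplex.homologyFunctor _ _ i).mapIso
          (mappingCone.mapHomologicalComplexIso g (ModuleCat.restrictScalars.{u} φ)).symm ≪≫
          restrictCxHomologyIso φ (mappingCone g) i
      have hac : ∀ i : ℤ, k < i →
          IsZero ((DerivedCategory.homologyFunctor _ i).obj (Q.obj (mappingCone g'))) := fun i hi => by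
        refine IsZero.of_iso (Functor.map_isZero _ ?_) (iso i)
        have h1 := hiso (i + 1) (by lia)
        have h2 : Epi (homologyMap g i) := by
          rcases (show k + 1 ≤ i from hi).lt_or_eq with h | h
          · have := hiso i h; infer_instance
          · subst h; exact hepi
        exact (exactAt_mappingCone g i (i + 1) rfl inferInstance h2).isZero_homology
      exact (isOfFiniteType_Pff_iff _).1 (isOfFiniteType_of_iso _ (iso k)
        (isOfFiniteType_homology_of_isNPC hqs_Pff h1 hac)))
  exact (isNPC_Q_of_nQuasiIso Pff_prod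
    (isStrictPC_of_forall (fun i hi => hz i (Or.inr hi)) hGP _) g hiso hepi).of_iso e


/-- An additive equivalence compatible with scalars gives an isomorphism of modules. -/
noncomputable def isoOfAddEquiv {A : Type u} [CommRing A] (M N : ModuleCat.{u} A) (e : M ≃+ N)
    (h : ∀ (a : A) (x : M), e (a • x) = a • e x) : M ≅ N :=
  LinearEquiv.toModuleIso { e with map_smul' := h }

/-- `B` as an `A`-module via the algebra structure is the restriction of scalars of `B`. -/
noncomputable def algebraRestrictIso (A B : Type u) [CommRing A] [CommRing B] [Algebra A B] :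
    ModuleCat.of A B ≅ (ModuleCat.restrictScalars.{u} (algebraMap A B)).obj (ModuleCat.of B B) :=
  isoOfAddEquiv (ModuleCat.of A B)
    ((ModuleCat.restrictScalars.{u} (algebraMap A B)).obj (ModuleCat.of B B)) (AddEquiv.refl B)
    (fun a b => Algebra.smul_def a b)

lemma isPC_resSingle_self_of_algebra (A B : Type u) [CommRing A] [CommRing B] [Algebra A B]
    (hB : DRing.IsPseudoCoherentModule' A B) :
    IsPC (Pff A) ((resSingle (algebraMap A B)).obj (ModuleCat.of B B)) :=
  isPC_of_iso ((isPseudoCoherent'_iff _).1 hB)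
    ((DerivedCategory.singleFunctor (ModuleCat.{u} A) 0).mapIso (algebraRestrictIso A B))

end Groth.Agent.Lib.Helper13.DR
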