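import Groth.Prelude.Def_DTen5

/-!
# The mixed comparison `res Y ⊗_R K ≅ res (Y ⊗_{R'} (K ⊗_R R'))`
-/

set_option autoImplicit false
set_option backward.isDefEq.respectTransparency false
set_option linter.style.haveILetI false
universe u
open CategoryTheory CategoryTheory.Limits MonoidalCategory TensorProduct ChangeOfRings

namespace Groth.Agent.Lib.Helper13.RE

variable {R R' : Type u} [CommRing R] [CommRing R'] (φ : R →+* R')

/-- `m ⊗ n ↦ m ⊗ (1 ⊗ n)`. -/
noncomputable def θ (M : ModuleCat.{u} R') (N : ModuleCat.{u} R) :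
    (DTen.resM φ).obj M ⊗ N ⟶ (DTen.resM φ).obj (M ⊗ (ModuleCat.extendScalars.{u, u, u} φ).obj N) :=
  ((DTen.resM φ).obj M ◁ (ModuleCat.extendRestrictScalarsAdj.{u, u, u} φ).unit.app N) ≫
    DTen.resTen₀app φ M ((ModuleCat.extendScalars.{u, u, u} φ).obj N)

lemma θ_tmul (M : ModuleCat.{u} R') (N : ModuleCat.{u} R) (m : M) (n : N) :
    (θ φ M N).hom ((show (DTen.resM φ).obj M from m) ⊗ₜ[R] n) =
      (show (DTen.resM φ).obj (M ⊗ (ModuleCat.extendScalars.{u, u, u} φ).obj N) from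
        (m ⊗ₜ[R'] ((1 : R') ⊗ₜ[R, φ] n) :
          (M ⊗ (ModuleCat.extendScalars.{u, u, u} φ).obj N : ModuleCat.{u} R'))) := rfl

section

variable (M : Type u) [AddCommGroup M] [Module R' M] (N : Type u) [AddCommGroup N] [Module R N]

/-- The inverse, `m ⊗ (s ⊗ n) ↦ (s • m) ⊗ n`, on plain types. -/
noncomputable def ψ₀ :
    letI : Algebra R R' := φ.toAlgebra
    letI : Module R M := Module.compHom M φ
    M ⊗[R'] (R' ⊗[R] N) ≃+ M ⊗[R] N :=
  letI : Algebra R R' := φ.toAlgebra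
  letI : Module R M := Module.compHom M φ
  haveI : IsScalarTower R R' M := ⟨fun r s m => by
    change (φ r * s) • m = φ r • (s • m)
    rw [mul_smul]⟩
  (TensorProduct.AlgebraTensorModule.cancelBaseChange R R' R' M N).toAddEquiv

lemma ψ₀_tmul (m : M) (s : R') (n : N) :
    letI : Algebra R R' := φ.toAlgebra
    letI : Module R M := Module.compHom M φ
    ψ₀ φ M N (m ⊗ₜ[R'] (s ⊗ₜ[R] n)) = (s • m) ⊗ₜ[R] n := by
  letI : Algebra R R' := φ.toAlgebra
  letI : Module R M := Module.compHom M φ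
  haveI : IsScalarTower R R' M := ⟨fun r s m => by
    change (φ r * s) • m = φ r • (s • m)
    rw [mul_smul]⟩
  exact TensorProduct.AlgebraTensorModule.cancelBaseChange_tmul (R := R) (A := R') (B := R') m n s

end

/-- The inverse as an additive equivalence between the carriers of the `ModuleCat` objects. -/
noncomputable def ψ (M : ModuleCat.{u} R') (N : ModuleCat.{u} R) :
    ((DTen.resM φ).obj (M ⊗ (ModuleCat.extendScalars.{u, u, u} φ).obj N) : ModuleCat.{u} R) ≃+
      ((DTen.resM φ).obj M ⊗ N : ModuleCat.{u} R) :=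
  ψ₀ φ M N

lemma ψ_θ (M : ModuleCat.{u} R') (N : ModuleCat.{u} R)
    (x : ((DTen.resM φ).obj M ⊗ N : ModuleCat.{u} R)) :
    ψ φ M N ((θ φ M N).hom x) = x := by
  induction x using TensorProduct.induction_on with
  | zero => rw [map_zero, map_zero]
  | tmul m n =>
    refine (ψ₀_tmul φ M N m 1 n).trans ?_
    rw [one_smul]
  | add x y hx hy =>
    rw [map_add, map_add, hx, hy]

lemma θ_bijective (M : ModuleCat.{u} R') (N : ModuleCat.{u} R) :
    Function.Bijective (θ φ M N).hom := by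
  constructor
  · exact Function.LeftInverse.injective (ψ_θ φ M N)
  · intro y
    refine ⟨ψ φ M N y, (ψ φ M N).injective ?_⟩
    rw [ψ_θ]

instance isIso_θ (M : ModuleCat.{u} R') (N : ModuleCat.{u} R) : IsIso (θ φ M N) :=
  (ConcreteCategory.isIso_iff_bijective _).2 (θ_bijective φ M N)

end Groth.Agent.Lib.Helper13.RE

namespace Groth.Agent.Lib.Helper13.RE

open HomologicalComplex

variable {R R' : Type u} [CommRing R] [CommRing R'] (φ : R →+* R')

/-- The complex-level comparison `res Y ⊗_R K ⟶ res (Y ⊗_{R'} (K ⊗_R R'))`. -/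
noncomputable def resExtCx (Y : DRing.Cx R') (K : DRing.Cx R) :
    (DTen.resCx φ).obj Y ⊗ K ⟶ (DTen.resCx φ).obj (Y ⊗ (DTen.extCx φ).obj K) :=
  ((DTen.resCx φ).obj Y ◁ (DTen.unitCx φ).app K) ≫ DTen.resTenCx φ Y ((DTen.extCx φ).obj K)

lemma ι_whiskerLeft_f (X : DRing.Cx R) {K K' : DRing.Cx R} (g : K ⟶ K') (p q n : ℤ) (h : p + q = n) :
    ιTensorObj X K p q n h ≫ (X ◁ g).f n = (X.X p ◁ g.f q) ≫ ιTensorObj X K' p q n h := by
  have := HomologicalComplex.ι_mapBifunctorMap (𝟙 X) g (curriedTensor (ModuleCat.{u} R))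
    (ComplexShape.up ℤ) p q n h
  refine this.trans ?_
  dsimp
  rw [MonoidalCategory.id_whiskerRight, Category.id_comp]

lemma ι_resExtCx (Y : DRing.Cx R') (K : DRing.Cx R) (p q n : ℤ) (h : p + q = n) :
    ιTensorObj ((DTen.resCx φ).obj Y) K p q n h ≫ (resExtCx φ Y K).f n =
      θ φ (Y.X p) (K.X q) ≫
        (DTen.resM φ).map (ιTensorObj Y ((DTen.extCx φ).obj K) p q n h) := by
  dsimp only [resExtCx]
  rw [HomologicalComplex.comp_f, ← Category.assoc, ι_whiskerLeft_f, Category.assoc]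
  have := DTen.ι_resTenCx φ Y ((DTen.extCx φ).obj K) p q n h
  erw [this]
  rfl

end Groth.Agent.Lib.Helper13.RE

namespace Groth.Agent.Lib.Helper13.RE

open HomologicalComplex

variable {R R' : Type u} [CommRing R] [CommRing R'] (φ : R →+* R')

/-- The degreewise inverse of `resExtCx`. -/
noncomputable def resExtInvX (Y : DRing.Cx R') (K : DRing.Cx R) (n : ℤ) :
    ((DTen.resCx φ).obj (Y ⊗ (DTen.extCx φ).obj K)).X n ⟶ ((DTen.resCx φ).obj Y ⊗ K).X n :=
  (TotMap.mapTotalXIso (DTen.resM φ) (DTen.tenBicx Y ((DTen.extCx φ).obj K))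
    (ComplexShape.up ℤ) n).hom ≫
    HomologicalComplex₂.totalDesc _ (fun p q h => inv (θ φ (Y.X p) (K.X q)) ≫
      ιTensorObj ((DTen.resCx φ).obj Y) K p q n h)

lemma resExtCx_f_resExtInvX (Y : DRing.Cx R') (K : DRing.Cx R) (n : ℤ) :
    (resExtCx φ Y K).f n ≫ resExtInvX φ Y K n = 𝟙 _ := by
  apply HomologicalComplex.mapBifunctor.hom_ext
  intro p q h
  have h' : p + q = n := h
  have e1 := ι_resExtCx φ Y K p q n h'
  have e2 := TotMap.map_ιTotal_mapTotalXIso_hom (DTen.resM φ)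
    (DTen.tenBicx Y ((DTen.extCx φ).obj K)) (ComplexShape.up ℤ) p q n h
  have e3 := HomologicalComplex₂.ι_totalDesc
    ((TotMap.map₂ (DTen.resM φ) _ _).obj (DTen.tenBicx Y ((DTen.extCx φ).obj K)))
    (c₁₂ := ComplexShape.up ℤ) (fun p q h => inv (θ φ (Y.X p) (K.X q)) ≫
      ιTensorObj ((DTen.resCx φ).obj Y) K p q n h) p q h
  erw [← Category.assoc, e1]
  dsimp only [resExtInvX]
  erw [Category.assoc, reassoc_of% e2, e3, IsIso.hom_inv_id_assoc, Category.comp_id]

end Groth.Agent.Lib.Helper13.RE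

namespace Groth.Agent.Lib.Helper13.RE

open HomologicalComplex

variable {R R' : Type u} [CommRing R] [CommRing R'] (φ : R →+* R')

lemma resExtInvX_resExtCx_f (Y : DRing.Cx R') (K : DRing.Cx R) (n : ℤ) :
    resExtInvX φ Y K n ≫ (resExtCx φ Y K).f n = 𝟙 _ := by
  rw [← cancel_epi (TotMap.mapTotalXIso (DTen.resM φ) (DTen.tenBicx Y ((DTen.extCx φ).obj K))
    (ComplexShape.up ℤ) n).inv]
  dsimp only [resExtInvX]
  rw [Category.assoc, Iso.inv_hom_id_assoc]
  erw [Category.comp_id]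
  refine HomologicalComplex₂.total.hom_ext _ (fun p q h => ?_)
  have h' : p + q = n := h
  have e1 := ι_resExtCx φ Y K p q n h'
  have e2 := TotMap.ιTotal_mapTotalXIso_inv (DTen.resM φ)
    (DTen.tenBicx Y ((DTen.extCx φ).obj K)) (ComplexShape.up ℤ) p q n h
  have e3 := HomologicalComplex₂.ι_totalDesc
    ((TotMap.map₂ (DTen.resM φ) _ _).obj (DTen.tenBicx Y ((DTen.extCx φ).obj K)))
    (c₁₂ := ComplexShape.up ℤ) (fun p q h => inv (θ φ (Y.X p) (K.X q)) ≫
      ιTensorObj ((DTen.resCx φ).obj Y) K p q n h) p q h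
  erw [reassoc_of% e3, e1, IsIso.inv_hom_id_assoc]
  exact e2.symm

instance isIso_resExtCx (Y : DRing.Cx R') (K : DRing.Cx R) : IsIso (resExtCx φ Y K) := by
  have : ∀ n, IsIso ((resExtCx φ Y K).f n) := fun n =>
    ⟨resExtInvX φ Y K n, resExtCx_f_resExtInvX φ Y K n, resExtInvX_resExtCx_f φ Y K n⟩
  exact HomologicalComplex.Hom.isIso_of_components _

/-- The mixed comparison isomorphism `res Y ⊗_R K ≅ res (Y ⊗_{R'} (K ⊗_R R'))`. -/
noncomputable def resExtIso (Y : DRing.Cx R') (K : DRing.Cx R) :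
    (DTen.resCx φ).obj Y ⊗ K ≅ (DTen.resCx φ).obj (Y ⊗ (DTen.extCx φ).obj K) :=
  asIso (resExtCx φ Y K)

end Groth.Agent.Lib.Helper13.RE
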