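import Groth.Agent.Lib.Helper13.KFlat5
import Groth.Agent.Lib.Helper13.ResExt1
import Groth.Agent.Lib.Helper13.DRingRestrict

/-!
# Base change of K-flat complexes
-/

set_option autoImplicit false
universe u
open CategoryTheory CategoryTheory.Limits MonoidalCategory
open CochainComplex HomologicalComplex

namespace Groth.Agent.Lib.Helper13.HT

open Groth.Agent.Lib.Helper13.DR Groth.Agent.Lib.Helper13.RE

variable {R R' : Type u} [CommRing R] [CommRing R'] (φ : R →+* R')

lemma acyclic_resCx (L : DRing.Cx R') (hL : ∀ i : ℤ, IsZero (L.homology i)) (j : ℤ) :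
    IsZero (((DTen.resCx φ).obj L).homology j) :=
  IsZero.of_iso (Functor.map_isZero _ (hL j)) (restrictCxHomologyIso φ L j)

lemma acyclic_of_acyclic_resCx (L : DRing.Cx R')
    (hL : ∀ i : ℤ, IsZero (((DTen.resCx φ).obj L).homology i)) (j : ℤ) :
    IsZero (L.homology j) :=
  isZero_of_isZero_restrictScalars φ _ (IsZero.of_iso (hL j) (restrictCxHomologyIso φ L j).symm)

/-- The termwise base change of a K-flat complex is K-flat. -/
theorem kflat_extCx (K : DRing.Cx R) (hK : KFlat K) : KFlat ((DTen.extCx φ).obj K) := by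
  intro L hL
  refine acyclic_of_acyclic_resCx φ _ (fun i => ?_)
  exact IsZero.of_iso (hK _ (acyclic_resCx φ L hL) i)
    ((HomologicalComplex.homologyFunctor _ _ i).mapIso (resExtIso φ L K).symm)

end Groth.Agent.Lib.Helper13.HT
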