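import Groth.Agent.Lib.Helper13.DRingTor4

set_option autoImplicit false
universe u
open CategoryTheory CategoryTheory.Limits TensorProduct MonoidalCategory Pretriangulated

namespace Groth.Agent.Lib.Helper13.DR

open Groth.Agent.Lib.Helper13.PC
open DerivedCategory
attribute [local instance] HasDerivedCategory.standard

variable {R : Type u} [CommRing R]

lemma isZero_of_retract {C : Type*} [Category C] [HasZeroMorphisms C] {X Y : C} (i : X ⟶ Y)
    (r : Y ⟶ X) (h : i ≫ r = 𝟙 X) (hY : IsZero Y) : IsZero X := by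
  rw [IsZero.iff_id_eq_zero, ← h, hY.eq_of_tgt i 0, zero_comp]

open HomologicalComplex in
theorem hasTorAmplitudeIn_of_biprod_left {K L : Dual.D R} [HasBinaryBiproduct K L] {a b : ℤ}
    (h : DRing.HasTorAmplitudeIn R a b (K ⊞ L)) : DRing.HasTorAmplitudeIn R a b K := by
  have hKL : ∀ i : ℤ, b < i →
      IsZero ((DerivedCategory.homologyFunctor (ModuleCat.{u} R) i).obj (K ⊞ L)) :=
    fun i hi => isZero_HD_of_hasTorAmplitudeIn h i (Or.inr hi)
  obtain ⟨P₁, hP₁, hz₁, ⟨e₁⟩⟩ := exists_projective_rep K b (fun i hi =>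
    isZero_of_retract ((DerivedCategory.homologyFunctor _ i).map (biprod.inl : K ⟶ K ⊞ L))
      ((DerivedCategory.homologyFunctor _ i).map (biprod.fst : K ⊞ L ⟶ K))
      (by rw [← Functor.map_comp, biprod.inl_fst, CategoryTheory.Functor.map_id]) (hKL i hi))
  obtain ⟨P₂, hP₂, hz₂, ⟨e₂⟩⟩ := exists_projective_rep L b (fun i hi =>
    isZero_of_retract ((DerivedCategory.homologyFunctor _ i).map (biprod.inr : L ⟶ K ⊞ L))
      ((DerivedCategory.homologyFunctor _ i).map (biprod.snd : K ⊞ L ⟶ L))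
      (by rw [← Functor.map_comp, biprod.inr_snd, CategoryTheory.Functor.map_id]) (hKL i hi))
  have hfl₁ : ∀ i : ℤ, Module.Flat R (P₁.X i) := fun i => flat_of_projective' _ (hP₁ i)
  have hfl₂ : ∀ i : ℤ, Module.Flat R (P₂.X i) := fun i => flat_of_projective' _ (hP₂ i)
  have hfl : ∀ i : ℤ, Module.Flat R ((P₁ ⊞ P₂).X i) := fun i => by
    have h : Pfl R ((P₁ ⊞ P₂).X i) :=
      (Pfl R).prop_of_iso ((biprod.isoProd _ _).symm ≪≫ (HomologicalComplex.biprodXIso P₁ P₂ i).symm)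
        (Pfl_prod _ _ (hfl₁ i) (hfl₂ i))
    exact h
  have hz : ∀ i : ℤ, b < i → IsZero ((P₁ ⊞ P₂).X i) := fun i hi => by
    refine IsZero.of_iso ?_ (HomologicalComplex.biprodXIso P₁ P₂ i)
    rw [biprod_isZero_iff]
    exact ⟨hz₁ i hi, hz₂ i hi⟩
  have : PreservesBinaryBiproducts (Q (C := ModuleCat.{u} R)) :=
    preservesBinaryBiproducts_of_preservesBiproducts Q
  let e : Q.obj (P₁ ⊞ P₂) ≅ K ⊞ L := Q.mapBiprod P₁ P₂ ≪≫ biprod.mapIso e₁ e₂
  refine hasTorAmplitudeIn_of_iso e₁ ?_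
  refine hasTorAmplitudeIn_of_tensor_vanishing P₁ b hz₁ hfl₁ a b (fun N i hi => ?_)
  have hv := tensor_vanishing_of_hasTorAmplitudeIn h (P₁ ⊞ P₂) b hz hfl e N i hi
  exact isZero_of_retract (homologyMap ((tensorCx N).map (biprod.inl : P₁ ⟶ P₁ ⊞ P₂)) i)
    (homologyMap ((tensorCx N).map (biprod.fst : P₁ ⊞ P₂ ⟶ P₁)) i)
    (by rw [← homologyMap_comp, ← Functor.map_comp, biprod.inl_fst, CategoryTheory.Functor.map_id,
      homologyMap_id]) hv

theorem hasTorAmplitudeIn_of_biprod_right {K L : Dual.D R} [HasBinaryBiproduct K L] {a b : ℤ}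
    (h : DRing.HasTorAmplitudeIn R a b (K ⊞ L)) : DRing.HasTorAmplitudeIn R a b L := by
  have : HasBinaryBiproduct L K := HasBinaryBiproducts.has_binary_biproduct L K
  exact hasTorAmplitudeIn_of_biprod_left (K := L) (L := K)
    (hasTorAmplitudeIn_of_iso (biprod.braiding K L) h)

end Groth.Agent.Lib.Helper13.DR
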