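import Groth.Agent.Lib.Helper13.DRingTor3

set_option autoImplicit false
universe u
open CategoryTheory CategoryTheory.Limits TensorProduct MonoidalCategory Pretriangulated

namespace Groth.Agent.Lib.Helper13.DR

open Groth.Agent.Lib.Helper13.PC
open DerivedCategory
attribute [local instance] HasDerivedCategory.standard

variable {R : Type u} [CommRing R]

lemma hasTorAmplitudeIn_shift {K : Dual.D R} {a b : ℤ} (h : DRing.HasTorAmplitudeIn R a b K)
    (n : ℤ) : DRing.HasTorAmplitudeIn R (a - n) (b - n)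
      ((CategoryTheory.shiftFunctor (Dual.D R) n).obj K) := by
  obtain ⟨E, hv, hI, ⟨e⟩⟩ := h
  exact ⟨(CategoryTheory.shiftFunctor (CochainComplex (ModuleCat.{u} R) ℤ) n).obj E,
    fun i hi => hv (i + n) (by lia), fun i => hI (i + n),
    ⟨(Q.commShiftIso n).app E ≪≫ (CategoryTheory.shiftFunctor (Dual.D R) n).mapIso e⟩⟩

open ZeroObject in
lemma hasTorAmplitudeIn_of_isZero {Z : Dual.D R} (hZ : IsZero Z) (a b : ℤ) :
    DRing.HasTorAmplitudeIn R a b Z := by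
  have hzero : ∀ i : ℤ, IsZero ((0 : CochainComplex (ModuleCat.{u} R) ℤ).X i) := fun i =>
    (HomologicalComplex.eval _ _ i).map_isZero (isZero_zero _)
  refine ⟨0, fun i _ => hzero i, fun i => ?_,
    ⟨((Q (C := ModuleCat.{u} R)).map_isZero (isZero_zero _)).iso hZ⟩⟩
  have := ModuleCat.subsingleton_of_isZero (hzero i)
  infer_instance

open CochainComplex HomologicalComplex in
/-- The third vertex of a distinguished triangle. -/
theorem hasTorAmplitudeIn_obj₃ (T : Triangle (Dual.D R)) (hT : T ∈ distTriang _)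
    {a₁ b₁ a₂ b₂ : ℤ} (h₁ : DRing.HasTorAmplitudeIn R a₁ b₁ T.obj₁)
    (h₂ : DRing.HasTorAmplitudeIn R a₂ b₂ T.obj₂) (a b : ℤ)
    (ha : a ≤ a₁ - 1) (ha' : a ≤ a₂) (hb : b₁ - 1 ≤ b) (hb' : b₂ ≤ b) :
    DRing.HasTorAmplitudeIn R a b T.obj₃ := by
  obtain ⟨P₁, hP₁, hz₁, ⟨e₁⟩⟩ := exists_projective_rep T.obj₁ b₁
    (fun i hi => isZero_HD_of_hasTorAmplitudeIn h₁ i (Or.inr hi))
  obtain ⟨P₂, hP₂, hz₂, ⟨e₂⟩⟩ := exists_projective_rep T.obj₂ b₂
    (fun i hi => isZero_HD_of_hasTorAmplitudeIn h₂ i (Or.inr hi))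
  have : P₁.IsKProjective := isKProjective_of_forall_projective P₁ b₁ hz₁ hP₁
  obtain ⟨f, hf⟩ := exists_Q_map_eq (e₁.hom ≫ T.mor₁ ≫ e₂.inv)
  have comm : (Q.mapTriangle.obj (mappingCone.triangle f)).mor₁ ≫ e₂.hom = e₁.hom ≫ T.mor₁ := by
    change Q.map f ≫ e₂.hom = _
    rw [hf]
    simp
  let eT := isoTriangleOfIso₁₂ _ _ (mappingCone_triangle_distinguished f) hT e₁ e₂ comm
  have hfl₁ : ∀ i : ℤ, Module.Flat R (P₁.X i) := fun i => flat_of_projective' _ (hP₁ i)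
  have hfl₂ : ∀ i : ℤ, Module.Flat R (P₂.X i) := fun i => flat_of_projective' _ (hP₂ i)
  refine hasTorAmplitudeIn_of_iso (Triangle.π₃.mapIso eT) ?_
  change DRing.HasTorAmplitudeIn R a b (Q.obj (mappingCone f))
  refine hasTorAmplitudeIn_of_tensor_vanishing (mappingCone f) (max b₁ b₂) (fun i hi => ?_)
    (flat_mappingCone_X f hfl₁ hfl₂) a b (fun N i hi => ?_)
  · rw [mappingCone.isZero_X_iff]
    exact ⟨hz₁ _ (by lia), hz₂ _ (by lia)⟩
  · have v₁ : IsZero (((tensorCx N).obj P₁).homology (i + 1)) :=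
      tensor_vanishing_of_hasTorAmplitudeIn h₁ P₁ b₁ hz₁ hfl₁ e₁ N (i + 1) (by lia)
    have v₂ : IsZero (((tensorCx N).obj P₂).homology i) :=
      tensor_vanishing_of_hasTorAmplitudeIn h₂ P₂ b₂ hz₂ hfl₂ e₂ N i (by lia)
    have hex : (mappingCone ((tensorCx N).map f)).ExactAt i :=
      exactAt_mappingCone _ i (i + 1) rfl ⟨fun _ _ _ => v₁.eq_of_tgt _ _⟩
        ⟨fun _ _ _ => v₂.eq_of_src _ _⟩
    rw [exactAt_iff_isZero_homology] at hex
    exact hex.of_iso ((HomologicalComplex.homologyFunctor _ _ i).mapIso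
      (mappingCone.mapHomologicalComplexIso f (MonoidalCategory.tensorRight N)))

/-- The middle vertex of a distinguished triangle. -/
theorem hasTorAmplitudeIn_obj₂ (T : Triangle (Dual.D R)) (hT : T ∈ distTriang _) (a b : ℤ)
    (h₁ : DRing.HasTorAmplitudeIn R a b T.obj₁) (h₃ : DRing.HasTorAmplitudeIn R a b T.obj₃) :
    DRing.HasTorAmplitudeIn R a b T.obj₂ := by
  have hT' := inv_rot_of_distTriang _ hT
  have h3 := hasTorAmplitudeIn_shift h₃ (-1)
  exact hasTorAmplitudeIn_obj₃ _ hT' h3 h₁ a b (by lia) le_rfl (by lia) le_rfl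

/-- The first vertex of a distinguished triangle. -/
theorem hasTorAmplitudeIn_obj₁ (T : Triangle (Dual.D R)) (hT : T ∈ distTriang _)
    {a₂ b₂ a₃ b₃ : ℤ} (h₂ : DRing.HasTorAmplitudeIn R a₂ b₂ T.obj₂)
    (h₃ : DRing.HasTorAmplitudeIn R a₃ b₃ T.obj₃) (a b : ℤ)
    (ha : a ≤ a₂) (ha' : a ≤ a₃ + 1) (hb : b₂ ≤ b) (hb' : b₃ + 1 ≤ b) :
    DRing.HasTorAmplitudeIn R a b T.obj₁ := by
  have hT' := inv_rot_of_distTriang _ (inv_rot_of_distTriang _ hT)
  have h3 := hasTorAmplitudeIn_shift h₃ (-1)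
  have h2 := hasTorAmplitudeIn_shift h₂ (-1)
  exact hasTorAmplitudeIn_obj₃ _ hT' h2 h3 a b (by lia) (by lia) (by lia) (by lia)

end Groth.Agent.Lib.Helper13.DR
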