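import Groth.Agent.Lib.Helper13.PCStrong
import Mathlib.CategoryTheory.Limits.Constructions.EventuallyConstant
import Mathlib.Algebra.Homology.HomologicalComplexLimits
import Mathlib.CategoryTheory.Functor.OfSequence
import Mathlib.Algebra.Homology.DerivedCategory.Fractions

/-!
# Infinite resolutions: strictly pseudo-coherent (all terms in `P`) models (SGA 6 Exp. I 2.2 c))
-/

set_option autoImplicit false
universe w v u
open CategoryTheory CategoryTheory.Limits
open PCoh

namespace Groth.Agent.Lib.Helper13.PC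

section Sequence

variable {D : Type*} [Category D]

/-- A multiplicative property of morphisms holding for all `f m`, `m ≥ N`, holds for the
transition maps of `Functor.ofSequence f` from level `≥ N`. -/
lemma ofSequence_map_mem (W : MorphismProperty D) [W.IsMultiplicative] {X : ℕ → D}
    (f : ∀ n, X n ⟶ X (n + 1)) (N : ℕ) (hf : ∀ m, N ≤ m → W (f m)) {m m' : ℕ} (h : m ≤ m')
    (hm : N ≤ m) : W ((Functor.ofSequence f).map (homOfLE h)) := by
  obtain ⟨k, rfl⟩ := Nat.exists_eq_add_of_le h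
  induction k with
  | zero =>
    have : homOfLE h = 𝟙 _ := Subsingleton.elim _ _
    rw [this, CategoryTheory.Functor.map_id]
    exact W.id_mem _
  | succ k ih =>
    rw [← homOfLE_comp (show m ≤ m + k by lia) (show m + k ≤ m + (k + 1) by lia),
      Functor.map_comp]
    refine W.comp_mem _ _ (ih (by lia)) ?_
    have : (Functor.ofSequence f).map (homOfLE (show m + k ≤ m + (k + 1) by lia)) = f (m + k) :=
      Functor.ofSequence_map_homOfLE_succ f (m + k)
    rw [this]
    exact hf _ (by lia)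

end Sequence

section Colimit

variable {C : Type u} [Category.{v} C] [Abelian C]

open HomologicalComplex

/-- A chain map which is an isomorphism in degrees `i - 1`, `i`, `i + 1` induces an isomorphism
on `H^i`. -/
lemma isIso_homologyMap_of_isIso_f {K L : CochainComplex C ℤ} (f : K ⟶ L) (i : ℤ)
    (h₁ : IsIso (f.f (i - 1))) (h₂ : IsIso (f.f i)) (h₃ : IsIso (f.f (i + 1))) :
    IsIso (homologyMap f i) := by
  rw [← quasiIsoAt_iff_isIso_homologyMap, quasiIsoAt_iff' _ (i - 1) i (i + 1) (by simp) (by simp)]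
  let φ := (shortComplexFunctor' C (ComplexShape.up ℤ) (i - 1) i (i + 1)).map f
  have : IsIso φ.τ₁ := h₁
  have : IsIso φ.τ₂ := h₂
  have : IsIso φ.τ₃ := h₃
  apply ShortComplex.quasiIso_of_epi_of_isIso_of_mono

/-- Colimit of a sequence of complexes which is eventually constant in each degree. -/
theorem exists_colimit_of_eventually_iso (G : ℕ → CochainComplex C ℤ)
    (φ : ∀ m, G m ⟶ G (m + 1)) (N : ℤ → ℕ) (hN : ∀ (i : ℤ) (m : ℕ), N i ≤ m → IsIso ((φ m).f i)) :
    ∃ (E' : CochainComplex C ℤ) (ι : ∀ m, G m ⟶ E'), (∀ m, φ m ≫ ι (m + 1) = ι m) ∧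
      (∀ (i : ℤ) (m : ℕ), N i ≤ m → IsIso ((ι m).f i)) ∧
      ∀ (F : CochainComplex C ℤ) (g : ∀ m, G m ⟶ F) (_ : ∀ m, φ m ≫ g (m + 1) = g m),
        ∃ u' : E' ⟶ F, ∀ m, ι m ≫ u' = g m := by
  let Φ := Functor.ofSequence φ
  have hEC : ∀ i : ℤ, (Φ ⋙ eval C (ComplexShape.up ℤ) i).IsEventuallyConstantFrom (N i) := by
    intro i j f
    have hf : f = homOfLE (leOfHom f) := Subsingleton.elim _ _
    rw [hf]
    exact ofSequence_map_mem
      ((MorphismProperty.isomorphisms C).inverseImage (eval C (ComplexShape.up ℤ) i)) φ (N i)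
      (fun m hm => hN i m hm) (leOfHom f) le_rfl
  have : ∀ i : ℤ, HasColimit (Φ ⋙ eval C (ComplexShape.up ℤ) i) := fun i => (hEC i).hasColimit
  refine ⟨colimit Φ, fun m => colimit.ι Φ m, fun m => ?_, fun i m hm => ?_, fun F g hg => ?_⟩
  · have := colimit.w Φ (homOfLE (Nat.le_add_right m 1))
    rwa [Functor.ofSequence_map_homOfLE_succ] at this
  · exact (hEC i).isIso_ι_of_isColimit'
      (isColimitOfPreserves (eval C (ComplexShape.up ℤ) i) (colimit.isColimit Φ)) m (homOfLE hm)
  · let c : Cocone Φ := Cocone.mk F (NatTrans.ofSequence (fun m => g m) (fun m => by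
      have h1 : Φ.map (homOfLE (Nat.le_add_right m 1)) = φ m :=
        Functor.ofSequence_map_homOfLE_succ φ m
      rw [h1]
      exact (hg m).trans (Category.comp_id _).symm))
    exact ⟨colimit.desc Φ c, fun m => colimit.ι_desc c m⟩

end Colimit

section Stages

variable {C : Type u} [Category.{v} C] [Abelian C]
variable (P : ObjectProperty C) [P.IsClosedUnderIsomorphisms] [P.ContainsZero]

open HomologicalComplex CochainComplex

/-- One step of the descending induction, recording the transition map. -/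
lemma exists_step_map (hsum : ∀ X Y : C, P X → P Y → P (X ⨯ Y)) (hql : IsQuasiLiftable P)
    {F G : CochainComplex C ℤ} (g : G ⟶ F) (k k' b : ℤ) (hk : k + 1 = k')
    (hP : ∀ i : ℤ, P (G.X i)) (hz : ∀ i : ℤ, b < i → IsZero (G.X i))
    (hiso : ∀ i : ℤ, k' < i → IsIso (homologyMap g i)) (hepi : Epi (homologyMap g k'))
    (hcone : IsOfFiniteType P ((mappingCone g).homology k)) :
    ∃ (G' : CochainComplex C ℤ) (φ : G ⟶ G') (g' : G' ⟶ F), φ ≫ g' = g ∧ (∀ i : ℤ, P (G'.X i)) ∧
      (∀ i : ℤ, max b k < i → IsZero (G'.X i)) ∧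
      (∀ i : ℤ, k < i → IsIso (homologyMap g' i)) ∧ Epi (homologyMap g' k) ∧
      (∀ i : ℤ, Mono (φ.f i)) ∧ (∀ i : ℤ, i ≠ k → IsIso (φ.f i)) := by
  subst hk
  obtain ⟨Q₀, π₀, hQ₀, hπ₀⟩ := hcone
  obtain ⟨Q', w, q, hQ', hq, hwq⟩ := exists_lift_of_quasiLiftable hql
    ((mappingCone g).homologyπ k) π₀ hQ₀
  have hw : Epi (w ≫ (mappingCone g).homologyπ k) := by
    rw [hwq]; exact epi_comp _ _
  have hex : ∀ j : ℤ, k < j → (mappingCone g).ExactAt j := fun j hj => by
    have := hiso (j + 1) (by lia)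
    have : Epi (homologyMap g j) := by
      rcases (show k + 1 ≤ j from hj).lt_or_eq with h | h
      · have := hiso j h; infer_instance
      · subst h; exact hepi
    exact exactAt_mappingCone g j (j + 1) rfl inferInstance inferInstance
  obtain ⟨h₁, h₂⟩ := nQuasiIso_twistDesc g (singleToCycles k w) k
    (fun j hj => isZero_single_obj_X _ k Q' j (by lia))
    (epi_homologyMap_singleToCycles k w hw) hex
  refine ⟨_, twistInr g (singleToCycles k w), twistDesc g (singleToCycles k w),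
    twistInr_desc _ _, fun i => ?_, fun i hi => ?_, h₁, h₂, fun i => inferInstance, fun i hi => ?_⟩
  · apply prop_twist_X P hsum _ _ _ _ (hP i)
    by_cases h : i = k
    · subst h
      exact (P.prop_iff_of_iso (singleObjXSelf _ i Q')).2 hQ'
    · exact P.prop_of_isZero (isZero_single_obj_X _ k Q' i h)
  · change IsZero (_ ⊞ _)
    rw [biprod_isZero_iff]
    exact ⟨isZero_single_obj_X _ k Q' i (by have := le_max_right b k; lia),
      hz i (by have := le_max_left b k; lia)⟩
  · exact isIso_twistInr_f _ _ i (isZero_single_obj_X _ k Q' i hi)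

/-- The finite-type oracle for cones of partial resolutions of `F`. -/
def Oracle (F : CochainComplex C ℤ) : Prop :=
  ∀ (k : ℤ) (G : CochainComplex C ℤ) (g : G ⟶ F) (b : ℤ), (∀ i : ℤ, P (G.X i)) →
    (∀ i : ℤ, b < i → IsZero (G.X i)) → (∀ i : ℤ, k + 1 < i → IsIso (homologyMap g i)) →
    Epi (homologyMap g (k + 1)) → IsOfFiniteType P ((mappingCone g).homology k)

/-- A stage of the construction: a `k`-quasi-isomorphism `g : G ⟶ F` from a bounded above
complex with terms in `P`. -/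
structure Stage (F : CochainComplex C ℤ) where
  G : CochainComplex C ℤ
  g : G ⟶ F
  k : ℤ
  b : ℤ
  hP : ∀ i : ℤ, P (G.X i)
  hb : ∀ i : ℤ, b < i → IsZero (G.X i)
  hiso : ∀ i : ℤ, k < i → IsIso (homologyMap g i)
  hepi : Epi (homologyMap g k)

variable {P}

/-- The successor relation on stages. -/
def Stage.Rel {F : CochainComplex C ℤ} (s s' : Stage P F) : Prop :=
  s'.k = s.k - 1 ∧ ∃ φ : s.G ⟶ s'.G, φ ≫ s'.g = s.g ∧ (∀ i : ℤ, Mono (φ.f i)) ∧
    ∀ i : ℤ, i ≠ s'.k → IsIso (φ.f i)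

lemma Stage.exists_rel (hsum : ∀ X Y : C, P X → P Y → P (X ⨯ Y)) (hql : IsQuasiLiftable P)
    {F : CochainComplex C ℤ} (hF : Oracle P F) (s : Stage P F) : ∃ s' : Stage P F, s.Rel s' := by
  have hepi : ∀ j : ℤ, j = s.k → Epi (homologyMap s.g j) := by
    rintro j rfl
    exact s.hepi
  obtain ⟨G', φ, g', hφ, hP', hb', hiso', hepi', hmono, hisoφ⟩ :=
    exists_step_map P hsum hql s.g (s.k - 1) s.k s.b (by ring) s.hP s.hb s.hiso s.hepi
      (hF (s.k - 1) s.G s.g s.b s.hP s.hb
        (fun i hi => s.hiso i (by lia)) (hepi _ (by ring)))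
  exact ⟨⟨G', g', s.k - 1, max s.b (s.k - 1), hP', hb', hiso', hepi'⟩, rfl, φ, hφ, hmono, hisoφ⟩

lemma exists_stage_seq (hsum : ∀ X Y : C, P X → P Y → P (X ⨯ Y)) (hql : IsQuasiLiftable P)
    {F : CochainComplex C ℤ} (hF : Oracle P F) (s₀ : Stage P F) :
    ∃ S : ℕ → Stage P F, S 0 = s₀ ∧ ∀ m, (S m).Rel (S (m + 1)) :=
  ⟨fun m => Nat.rec s₀ (fun _ s => (Stage.exists_rel hsum hql hF s).choose) m, rfl,
    fun _ => (Stage.exists_rel hsum hql hF _).choose_spec⟩

end Stages

section Main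

variable {C : Type u} [Category.{v} C] [Abelian C]
variable {P : ObjectProperty C} [P.IsClosedUnderIsomorphisms] [P.ContainsZero]

open HomologicalComplex CochainComplex

/-- The infinite resolution: a stage extends to a quasi-isomorphism from a bounded above
complex with all terms in `P`. -/
theorem Stage.exists_limit (hsum : ∀ X Y : C, P X → P Y → P (X ⨯ Y)) (hql : IsQuasiLiftable P)
    {F : CochainComplex C ℤ} (hF : Oracle P F) (s₀ : Stage P F) :
    ∃ (E' : CochainComplex C ℤ) (v : s₀.G ⟶ E') (u' : E' ⟶ F), v ≫ u' = s₀.g ∧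
      IsStrictPCAll P E' ∧ QuasiIso u' ∧ (∀ j : ℤ, Mono (v.f j)) ∧
      (∀ j : ℤ, s₀.k ≤ j → IsIso (v.f j)) := by
  obtain ⟨S, rfl, hS⟩ := exists_stage_seq hsum hql hF s₀
  have hk : ∀ m : ℕ, (S m).k = (S 0).k - m := by
    intro m
    induction m with
    | zero => simp
    | succ m ih => rw [(hS m).1, ih]; push_cast; ring
  choose φ hφg hφmono hφiso using fun m => (hS m).2
  let N : ℤ → ℕ := fun i => ((S 0).k - i).toNat
  have hN : ∀ (i : ℤ) (m : ℕ), N i ≤ m → IsIso ((φ m).f i) := by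
    intro i m hm
    apply hφiso
    rw [hk]
    have : (S 0).k - i ≤ m := by
      have := Int.self_le_toNat ((S 0).k - i)
      have : (N i : ℤ) ≤ m := by exact_mod_cast hm
      lia
    push_cast
    lia
  obtain ⟨E', ι, hι, hιiso, hdesc⟩ := exists_colimit_of_eventually_iso (fun m => (S m).G) φ N hN
  obtain ⟨u', hu'⟩ := hdesc F (fun m => (S m).g) hφg
  have hmono : ∀ (j : ℤ) (d m : ℕ), Mono ((ι (m + d)).f j) → Mono ((ι m).f j) := by
    intro j d
    induction d with
    | zero => intro m h; exact h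
    | succ d ih =>
      intro m h
      have h1 : Mono ((ι (m + 1)).f j) := ih (m + 1) (by rwa [show m + 1 + d = m + (d + 1) by ring])
      have h2 := hφmono m j
      rw [← hι m]
      exact mono_comp _ _
  have hN0 : ∀ j : ℤ, (S 0).k ≤ j → N j = 0 := fun j hj => by
    simp only [N, Int.toNat_eq_zero]; lia
  refine ⟨E', ι 0, u', hu' 0, ⟨⟨max (S 0).b (S 0).k, fun i hi => ?_⟩, fun i => ?_⟩, ?_,
    fun j => ?_, fun j hj => ?_⟩
  · have := hιiso i 0 (by rw [hN0 i (by have := le_max_right (S 0).b (S 0).k; lia)])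
    exact ((S 0).hb i (by have := le_max_left (S 0).b (S 0).k; lia)).of_iso
      (asIso ((ι 0).f i)).symm
  · have := hιiso i (N i) le_rfl
    exact (P.prop_iff_of_iso (asIso ((ι (N i)).f i))).1 ((S (N i)).hP i)
  · rw [quasiIso_iff]
    intro i
    rw [quasiIsoAt_iff_isIso_homologyMap]
    have hNle : ∀ i' : ℤ, i - 1 ≤ i' → N i' ≤ N (i - 1) := fun i' hi' => by
      simp only [N]
      exact Int.toNat_le_toNat (by lia)
    have h1 : IsIso (homologyMap (ι (N (i - 1))) i) :=
      isIso_homologyMap_of_isIso_f _ i (hιiso _ _ le_rfl) (hιiso _ _ (hNle i (by lia)))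
        (hιiso _ _ (hNle (i + 1) (by lia)))
    have h2 : IsIso (homologyMap (S (N (i - 1))).g i) := by
      apply (S (N (i - 1))).hiso
      rw [hk]
      have := Int.self_le_toNat ((S 0).k - (i - 1))
      change (S 0).k - (N (i - 1) : ℤ) < i
      simp only [N]
      lia
    rw [← hu' (N (i - 1)), homologyMap_comp] at h2
    exact IsIso.of_isIso_comp_left (homologyMap (ι (N (i - 1))) i) _
  · apply hmono j (N j) 0
    rw [zero_add]
    have := hιiso j (N j) le_rfl
    infer_instance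
  · exact hιiso j 0 (by rw [hN0 j hj])

end Main

section Derived

variable {C : Type u} [Category.{v} C] [Abelian C] [HasDerivedCategory.{w} C]
variable {P : ObjectProperty C} [P.IsClosedUnderIsomorphisms] [P.ContainsZero]

open HomologicalComplex CochainComplex DerivedCategory

/-- Pseudo-coherence of `Q(F)` provides the oracle. -/
lemma oracle_of_isPC (hsum : ∀ X Y : C, P X → P Y → P (X ⨯ Y))
    (hqs : IsQuasiStableUnderKernels P) (hql : IsQuasiLiftable P) {F : CochainComplex C ℤ}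
    (hF : IsPC P (Q.obj F)) : Oracle P F :=
  fun k _ g b hP hz hiso hepi =>
    isOfFiniteType_homology_cone_of_isNPC hsum hqs hql g k b (hF k) hP hz hiso hepi

/-- SGA 6 I 2.2 c): factorisation of an `n`-quasi-isomorphism from a strictly pseudo-coherent
complex to a pseudo-coherent complex through a quasi-isomorphism. -/
theorem exists_strictPCAll_factorisation (hsum : ∀ X Y : C, P X → P Y → P (X ⨯ Y))
    (hqs : IsQuasiStableUnderKernels P) (hql : IsQuasiLiftable P)
    (n : ℤ) (E F : CochainComplex C ℤ) (hE : IsStrictPCAll P E) (hF : IsPC P (Q.obj F))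
    (u : E ⟶ F) (hiso : ∀ j : ℤ, n < j → IsIso (homologyMap u j))
    (hepi : Epi (homologyMap u n)) :
    ∃ (E' : CochainComplex C ℤ) (v : E ⟶ E') (u' : E' ⟶ F), v ≫ u' = u ∧ IsStrictPCAll P E' ∧
      QuasiIso u' ∧ (∀ j : ℤ, Mono (v.f j)) ∧ (∀ j : ℤ, n ≤ j → IsIso (v.f j)) := by
  obtain ⟨⟨b, hb⟩, hP⟩ := hE
  exact Stage.exists_limit hsum hql (oracle_of_isPC hsum hqs hql hF)
    ⟨E, u, n, b, hP, hb, hiso, hepi⟩

end Derived

section Derived2

variable {C : Type u} [Category.{v} C] [Abelian C] [HasDerivedCategory.{w} C]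
variable {P : ObjectProperty C} [P.IsClosedUnderIsomorphisms] [P.ContainsZero]

open HomologicalComplex CochainComplex DerivedCategory ZeroObject

/-- A complex with pseudo-coherent image in `D(C)`, acyclic in degrees `≥ m`, receives a
quasi-isomorphism from a complex with all terms in `P`, vanishing in degrees `≥ m`. -/
theorem exists_strictPCAll_quasiIso (hsum : ∀ X Y : C, P X → P Y → P (X ⨯ Y))
    (hqs : IsQuasiStableUnderKernels P) (hql : IsQuasiLiftable P)
    (F : CochainComplex C ℤ) (hF : IsPC P (Q.obj F)) (m : ℤ)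
    (hac : ∀ i : ℤ, m ≤ i → IsZero (F.homology i)) :
    ∃ (E' : CochainComplex C ℤ) (u' : E' ⟶ F), (∀ i : ℤ, P (E'.X i)) ∧
      (∀ i : ℤ, m ≤ i → IsZero (E'.X i)) ∧ QuasiIso u' := by
  have hzero : ∀ i : ℤ, IsZero ((0 : CochainComplex C ℤ).X i) := fun i =>
    (HomologicalComplex.eval C _ i).map_isZero (isZero_zero _)
  have hH0 : ∀ i : ℤ, IsZero ((0 : CochainComplex C ℤ).homology i) := fun i =>
    ShortComplex.isZero_homology_of_isZero_X₂ _ (hzero i)
  obtain ⟨E', v, u', -, ⟨-, hP⟩, hq, -, hv⟩ := exists_strictPCAll_factorisation hsum hqs hql m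
    (0 : CochainComplex C ℤ) F ⟨⟨m, fun i _ => hzero i⟩, fun i => P.prop_of_isZero (hzero i)⟩ hF 0
    (fun j hj => ⟨0, (hH0 j).eq_of_src _ _, (hac j (by lia)).eq_of_src _ _⟩)
    ⟨fun _ _ _ => (hac m le_rfl).eq_of_src _ _⟩
  refine ⟨E', u', hP, fun i hi => ?_, hq⟩
  have := hv i hi
  exact (hzero i).of_iso (asIso (v.f i)).symm

omit [P.IsClosedUnderIsomorphisms] [P.ContainsZero] in
lemma isPC_Q_of_strictPCAll {E : CochainComplex C ℤ} (hE : IsStrictPCAll P E) :
    IsPC P (Q.obj E) :=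
  fun _ => ⟨E, ⟨hE.1, fun i _ => hE.2 i⟩, ⟨Iso.refl _⟩⟩

omit [P.IsClosedUnderIsomorphisms] [P.ContainsZero] in
lemma isPC_of_iso {F F' : DerivedCategory C} (hF : IsPC P F) (e : F ≅ F') : IsPC P F' :=
  fun n => IsNPC.of_iso (hF n) e

/-- SGA 6 I 2.2 c) (S4295/S5618): pseudo-coherent objects acyclic in degrees `≥ m` are
represented by complexes with all terms in `P` vanishing in degrees `≥ m`. -/
theorem exists_strictPCAll_iso (hsum : ∀ X Y : C, P X → P Y → P (X ⨯ Y))
    (hqs : IsQuasiStableUnderKernels P) (hql : IsQuasiLiftable P)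
    (F : DerivedCategory C) (hF : IsPC P F) (m : ℤ)
    (hac : ∀ i : ℤ, m ≤ i → IsZero ((DerivedCategory.homologyFunctor C i).obj F)) :
    ∃ E : CochainComplex C ℤ, (∀ i : ℤ, P (E.X i)) ∧ (∀ i : ℤ, m ≤ i → IsZero (E.X i)) ∧
      Nonempty (Q.obj E ≅ F) := by
  obtain ⟨F₀, -, ⟨e⟩⟩ := hF 0
  obtain ⟨E', u', hP, hz, hq⟩ := exists_strictPCAll_quasiIso hsum hqs hql F₀
    (isPC_of_iso hF e.symm) m (fun i hi => (hac i hi).of_iso
      ((homologyQIso F₀ i).symm ≪≫ (DerivedCategory.homologyFunctor C i).mapIso e))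
  have : IsIso (Q.map u') := by rw [isIso_Q_map_iff_quasiIso]; exact hq
  exact ⟨E', hP, hz, ⟨asIso (Q.map u') ≪≫ e⟩⟩

end Derived2

section Derived3

variable {C : Type u} [Category.{v} C] [Abelian C] [HasDerivedCategory.{w} C]

open HomologicalComplex CochainComplex DerivedCategory ZeroObject

/-- If two chain maps agree in the derived category, they become homotopic after
precomposition with a quasi-isomorphism. -/
lemma exists_quasiIso_homotopy_of_Q_map_eq {E E' : CochainComplex C ℤ} (f g : E ⟶ E')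
    (hfg : Q.map f = Q.map g) :
    ∃ (X : CochainComplex C ℤ) (s : X ⟶ E), QuasiIso s ∧ Nonempty (Homotopy (s ≫ f) (s ≫ g)) := by
  have h : Qh.map ((HomotopyCategory.quotient _ _).map f) =
      Qh.map ((HomotopyCategory.quotient _ _).map g) := by
    have h1 := quotientCompQhIso_hom_naturality f
    have h2 := quotientCompQhIso_hom_naturality g
    rw [hfg, ← h2] at h1
    exact (cancel_mono _).1 h1
  rw [MorphismProperty.map_eq_iff_precomp Qh (HomotopyCategory.quasiIso C (ComplexShape.up ℤ))] at h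
  obtain ⟨Z, s, hs, fac⟩ := h
  obtain ⟨X, rfl⟩ := HomotopyCategory.quotient_obj_surjective Z
  obtain ⟨s, rfl⟩ := (HomotopyCategory.quotient _ _).map_surjective s
  rw [HomotopyCategory.quotient_map_mem_quasiIso_iff] at hs
  refine ⟨X, s, hs, ⟨HomotopyCategory.homotopyOfEq _ _ ?_⟩⟩
  rw [Functor.map_comp, Functor.map_comp]
  exact fac

end Derived3

section Derived4

variable {C : Type u} [Category.{v} C] [Abelian C] [HasDerivedCategory.{w} C]
variable {P : ObjectProperty C} [P.IsClosedUnderIsomorphisms] [P.ContainsZero]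

open HomologicalComplex CochainComplex DerivedCategory ZeroObject

/-- A complex quasi-isomorphic to a strictly pseudo-coherent complex receives a
quasi-isomorphism from a strictly pseudo-coherent complex. -/
theorem exists_strictPCAll_quasiIso_of_quasiIso (hsum : ∀ X Y : C, P X → P Y → P (X ⨯ Y))
    (hqs : IsQuasiStableUnderKernels P) (hql : IsQuasiLiftable P)
    {X E : CochainComplex C ℤ} (hE : IsStrictPCAll P E) (s : X ⟶ E) (hs : QuasiIso s) :
    ∃ (E'' : CochainComplex C ℤ) (u' : E'' ⟶ X), IsStrictPCAll P E'' ∧ QuasiIso u' := by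
  obtain ⟨b, hb⟩ := hE.1
  have : IsIso (Q.map s) := by rw [isIso_Q_map_iff_quasiIso]; exact hs
  have hH : ∀ i : ℤ, IsIso (homologyMap s i) := fun i => inferInstance
  obtain ⟨E'', u', hP, hz, hq⟩ := exists_strictPCAll_quasiIso hsum hqs hql X
    (isPC_of_iso (isPC_Q_of_strictPCAll hE) (asIso (Q.map s)).symm) (b + 1) (fun i hi =>
      IsZero.of_iso (ShortComplex.isZero_homology_of_isZero_X₂ _ (hb i (by lia)))
        (@asIso _ _ _ _ (homologyMap s i) (hH i)))
  exact ⟨E'', u', ⟨⟨b, fun i hi => hz i (by lia)⟩, hP⟩, hq⟩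

/-- Fullness (S4296). -/
theorem exists_roof_of_strictPCAll (hsum : ∀ X Y : C, P X → P Y → P (X ⨯ Y))
    (hqs : IsQuasiStableUnderKernels P) (hql : IsQuasiLiftable P)
    (E E' : CochainComplex C ℤ) (hE : IsStrictPCAll P E) (α : Q.obj E ⟶ Q.obj E') :
    ∃ (E'' : CochainComplex C ℤ) (s : E'' ⟶ E) (f : E'' ⟶ E'), IsStrictPCAll P E'' ∧ QuasiIso s ∧
      Q.map s ≫ α = Q.map f := by
  obtain ⟨X, s₀, hs₀, g, rfl⟩ := right_fac α
  have hq₀ : QuasiIso s₀ := by rwa [isIso_Q_map_iff_quasiIso] at hs₀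
  obtain ⟨E'', u', hE'', hq⟩ := exists_strictPCAll_quasiIso_of_quasiIso hsum hqs hql hE s₀ hq₀
  refine ⟨E'', u' ≫ s₀, u' ≫ g, hE'', inferInstance, ?_⟩
  rw [Functor.map_comp, Functor.map_comp, Category.assoc, IsIso.hom_inv_id_assoc]

/-- Faithfulness (S4297). -/
theorem exists_homotopy_of_strictPCAll (hsum : ∀ X Y : C, P X → P Y → P (X ⨯ Y))
    (hqs : IsQuasiStableUnderKernels P) (hql : IsQuasiLiftable P)
    (E E' : CochainComplex C ℤ) (hE : IsStrictPCAll P E) (f g : E ⟶ E')
    (hfg : Q.map f = Q.map g) :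
    ∃ (E'' : CochainComplex C ℤ) (s : E'' ⟶ E), IsStrictPCAll P E'' ∧ QuasiIso s ∧
      Nonempty (Homotopy (s ≫ f) (s ≫ g)) := by
  obtain ⟨X, s₀, hq₀, ⟨h⟩⟩ := exists_quasiIso_homotopy_of_Q_map_eq f g hfg
  obtain ⟨E'', u', hE'', hq⟩ := exists_strictPCAll_quasiIso_of_quasiIso hsum hqs hql hE s₀ hq₀
  exact ⟨E'', u' ≫ s₀, hE'', inferInstance, ⟨(Homotopy.ofEq (Category.assoc _ _ _)).trans
    ((h.compLeft u').trans (Homotopy.ofEq (Category.assoc _ _ _).symm))⟩⟩

end Derived4

end Groth.Agent.Lib.Helper13.PC
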