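import Groth.Agent.Lib.Helper13.PCTermwise
import Mathlib.Algebra.Homology.Embedding.ExtendHomology

set_option autoImplicit false
set_option linter.style.haveILetI false

universe w v u

namespace Groth.Agent.Lib.Helper13.PC

open CategoryTheory CategoryTheory.Limits HomologicalComplex CochainComplex PCoh Pretriangulated
  ZeroObject DerivedCategory

variable {C : Type u} [Category.{v} C] [Abelian C] [HasDerivedCategory.{w} C]

omit [HasDerivedCategory.{w} C] in
/-- The projection onto the bottom term `F ⟶ F^a[-a]` when `F^{a-1} = 0`. -/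
noncomputable def bottomProjection (F : CochainComplex C ℤ) (a : ℤ) (hF : IsZero (F.X (a - 1))) :
    F ⟶ (HomologicalComplex.single C (ComplexShape.up ℤ) a).obj (F.X a) :=
  mkHomToSingle (𝟙 _) (fun k hk => by
    obtain rfl : k = a - 1 := by simp at hk; lia
    exact hF.eq_of_src _ _)

/-- Removing the bottom term of a complex: there is a complex `F'` with `F'^a = 0`, `F'^k ≅ F^k`
for `k ≠ a`, and a distinguished triangle `F' ⟶ F ⟶ F^a[-a] ⟶`. -/
theorem exists_bottom_sub (F : CochainComplex C ℤ) (a : ℤ) (hF : IsZero (F.X (a - 1))) :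
    ∃ (F' : CochainComplex C ℤ), IsZero (F'.X a) ∧ (∀ k : ℤ, k ≠ a → Nonempty (F'.X k ≅ F.X k)) ∧
      ∃ (T : Triangle (DerivedCategory C)), T ∈ distTriang _ ∧
        Nonempty (T.obj₁ ≅ Q.obj F') ∧ Nonempty (T.obj₂ ≅ Q.obj F) ∧
        Nonempty (T.obj₃ ≅ Q.obj ((HomologicalComplex.single C (ComplexShape.up ℤ) a).obj (F.X a))) := by
  let p := bottomProjection F a hF
  have hpa : p.f a = (singleObjXSelf (ComplexShape.up ℤ) a (F.X a)).inv := by
    simp [p, bottomProjection]
  have hp : ∀ k : ℤ, Epi (p.f k) := fun k => by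
    by_cases h : k = a
    · subst h
      rw [hpa]; infer_instance
    · exact ⟨fun _ _ _ => (isZero_single_obj_X (ComplexShape.up ℤ) a (F.X a) k h).eq_of_src _ _⟩
  have : Epi p := HomologicalComplex.epi_of_epi_f p hp
  let S : ShortComplex (CochainComplex C ℤ) := ShortComplex.mk (kernel.ι p) p (kernel.condition p)
  have hS : S.ShortExact :=
    { exact := ShortComplex.exact_kernel p
      mono_f := inferInstanceAs (Mono (kernel.ι p))
      epi_g := this }
  have hSk : ∀ k : ℤ, (S.map (HomologicalComplex.eval C (ComplexShape.up ℤ) k)).ShortExact :=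
    fun k => hS.map_of_exact _
  refine ⟨kernel p, ?_, fun k hk => ?_, triangleOfSES hS, triangleOfSES_distinguished hS,
    ⟨Iso.refl _⟩, ⟨Iso.refl _⟩, ⟨Iso.refl _⟩⟩
  · have h1 : IsIso (S.map (HomologicalComplex.eval C (ComplexShape.up ℤ) a)).g := by
      change IsIso (p.f a)
      rw [hpa]; infer_instance
    exact (hSk a).isIso_g_iff.1 h1
  · have h1 : IsIso (S.map (HomologicalComplex.eval C (ComplexShape.up ℤ) k)).f :=
      (hSk k).isIso_f_iff.2 (isZero_single_obj_X (ComplexShape.up ℤ) a (F.X a) k hk)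
    exact ⟨@asIso _ _ _ _ (S.map (HomologicalComplex.eval C (ComplexShape.up ℤ) k)).f h1⟩


variable {P : ObjectProperty C} [P.IsClosedUnderIsomorphisms] [P.ContainsZero]

/-- In an acyclic bounded above complex all of whose terms except `E^a` are pseudo-coherent
(placed in degree `0`), with `E^{a-1} = 0`, the term `E^a` is pseudo-coherent too. -/
theorem isNPC_bottom_of_acyclic (hsum : ∀ X Y : C, P X → P Y → P (X ⨯ Y))
    (hqs : IsQuasiStableUnderKernels P) (hql : IsQuasiLiftable P)
    (E : CochainComplex C ℤ) (a b : ℤ) (hE : ∀ i : ℤ, E.ExactAt i) (ha : IsZero (E.X (a - 1)))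
    (hb : ∀ i : ℤ, b < i → IsZero (E.X i))
    (hpc : ∀ i : ℤ, i ≠ a → ∀ m : ℤ, IsNPC P m ((DerivedCategory.singleFunctor C 0).obj (E.X i)))
    (m : ℤ) : IsNPC P m ((DerivedCategory.singleFunctor C a).obj (E.X a)) := by
  obtain ⟨F', hF'a, hiso, T, hT, ⟨e₁⟩, ⟨e₂⟩, ⟨e₃⟩⟩ := exists_bottom_sub E a ha
  have h1 : IsNPC P (m + 1) T.obj₁ := by
    refine (isNPC_of_termwise hsum hqs hql F' (max b a) (fun i hi => ?_) (fun i hi => ?_)).of_iso
      e₁.symm
    · by_cases h : i = a
      · subst h; exact hF'a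
      · obtain ⟨e⟩ := hiso i h
        exact (hb i (by have := le_max_left b a; lia)).of_iso e
    · by_cases h : i = a
      · subst h; exact isNPC_single_of_isZero hF'a _ _
      · obtain ⟨e⟩ := hiso i h
        exact (hpc i h _).of_iso ((DerivedCategory.singleFunctor C 0).mapIso e.symm)
  have h2 : IsNPC P m T.obj₂ := by
    refine (isNPC_of_acyclic (fun i _ => ?_)).of_iso e₂.symm
    exact (hE i).isZero_homology.of_iso (homologyQIso E i)
  exact (isNPC_obj₃ hsum hqs hql T hT h1 h2).of_iso (e₃ ≪≫ (singleIsoQ a _).symm)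

omit [P.ContainsZero] in
lemma isOfFiniteType_of_isNPC_single (hqs : IsQuasiStableUnderKernels P) {X : C}
    (h : IsNPC P 0 ((DerivedCategory.singleFunctor C 0).obj X)) : IsOfFiniteType P X :=
  isOfFiniteType_of_iso P (homologySingleIso 0 X)
    (isOfFiniteType_homology_of_isNPC hqs h (fun i hi => isZero_homology_single 0 i (by lia) X))

/-- If every object of `P₁ ⊇ P` is `P`-pseudo-coherent, then `P₁` is quasi-stable under kernels
of epimorphisms (even: the kernel term is of `P`-finite type). -/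
theorem isOfFiniteType_of_exact_nat (hsum : ∀ X Y : C, P X → P Y → P (X ⨯ Y))
    (hqs : IsQuasiStableUnderKernels P) (hql : IsQuasiLiftable P)
    (K : CochainComplex C ℕ) (hK : ∀ i : ℕ, K.ExactAt i)
    (hz : ∃ n : ℕ, ∀ i : ℕ, n < i → IsZero (K.X i))
    (hpc : ∀ i : ℕ, 1 ≤ i → ∀ m : ℤ, IsNPC P m ((DerivedCategory.singleFunctor C 0).obj (K.X i))) :
    IsOfFiniteType P (K.X 0) := by
  obtain ⟨N, hN⟩ := hz
  let e := ComplexShape.embeddingUpNat
  let E := K.extend e
  have hX : ∀ k : ℕ, E.X (k : ℤ) ≅ K.X k := fun k => K.extendXIso e (by simp [e])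
  have hneg : ∀ i : ℤ, i < 0 → IsZero (E.X i) := fun i hi =>
    K.isZero_extend_X e i (fun k => by simp [e]; lia)
  have hE : ∀ i : ℤ, E.ExactAt i := fun i => by
    by_cases h : 0 ≤ i
    · obtain ⟨k, rfl⟩ := Int.eq_ofNat_of_zero_le h
      exact (K.extend_exactAt_iff e (j := k) (by simp [e])).2 (hK k)
    · exact K.extend_exactAt e i (fun k => by simp [e]; lia)
  have h0 := isNPC_bottom_of_acyclic hsum hqs hql E 0 N hE (hneg _ (by lia)) (fun i hi => by
      obtain ⟨k, rfl⟩ := Int.eq_ofNat_of_zero_le (show 0 ≤ i by lia)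
      exact (hN k (by exact_mod_cast hi)).of_iso (hX k)) (fun i hi m => by
      by_cases h : 0 ≤ i
      · obtain ⟨k, rfl⟩ := Int.eq_ofNat_of_zero_le h
        exact (hpc k (by
          have : (k : ℤ) ≠ 0 := hi
          omega) m).of_iso ((DerivedCategory.singleFunctor C 0).mapIso (hX k).symm)
      · exact isNPC_single_of_isZero (hneg i (by lia)) _ _) 0
  exact isOfFiniteType_of_iso P (hX 0) (isOfFiniteType_of_isNPC_single hqs h0)

end Groth.Agent.Lib.Helper13.PC
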