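import Groth.Agent.Lib.Helper13.PCCoherent
import Groth.Agent.Lib.Helper13.PCBottom

set_option autoImplicit false
set_option linter.unusedSectionVars false
set_option linter.style.haveILetI false

universe w v u

namespace Groth.Agent.Lib.Helper13.PC

open CategoryTheory CategoryTheory.Limits HomologicalComplex CochainComplex PCoh Pretriangulated
  ZeroObject DerivedCategory

variable {C : Type u} [Category.{v} C] [Abelian C]
variable {P : ObjectProperty C} [P.IsClosedUnderIsomorphisms]

section Abelian

lemma isPrecoherent_of_mono {Z X : C} (ι : Z ⟶ X) [Mono ι] (hX : IsPrecoherent P X) :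
    IsPrecoherent P Z := fun E u hE =>
  isOfFiniteType_of_iso P (kernelCompMono u ι) (hX E (u ≫ ι) hE)

lemma isPrecoherent_of_iso {X Y : C} (e : X ≅ Y) (hX : IsPrecoherent P X) : IsPrecoherent P Y :=
  isPrecoherent_of_mono e.inv hX

/-- `P`-coherent: of finite type and precoherent. -/
def IsCoherent (P : ObjectProperty C) (X : C) : Prop := IsOfFiniteType P X ∧ IsPrecoherent P X

lemma isOfFiniteType_of_prop {X : C} (hX : P X) : IsOfFiniteType P X := ⟨X, 𝟙 X, hX, inferInstance⟩

variable (hcoh : ∀ (X E : C) (u : E ⟶ X), P X → P E → IsOfFiniteType P (kernel u))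

include hcoh in
lemma isCoherent_of_prop {X : C} (hX : P X) : IsCoherent P X :=
  ⟨isOfFiniteType_of_prop hX, fun E u hE => hcoh X E u hX hE⟩

/-- The cycles short complex `Z^i ⟶ E^i ⟶ Z^{i+1}`. -/
noncomputable def cyclesSC (E : CochainComplex C ℤ) (i j : ℤ) : ShortComplex C :=
  ShortComplex.mk (E.iCycles i) (E.toCycles i j) (by
    rw [← cancel_mono (E.iCycles j), Category.assoc, toCycles_i, iCycles_d, zero_comp])

lemma cyclesSC_exact (E : CochainComplex C ℤ) (i j : ℤ) (hij : i + 1 = j) :
    (cyclesSC E i j).Exact := by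
  rw [ShortComplex.exact_iff_exact_up_to_refinements]
  intro A (x : A ⟶ E.X i) (hx : x ≫ E.toCycles i j = 0)
  have hx' : x ≫ E.d i j = 0 := by
    have := hx =≫ E.iCycles j
    rw [zero_comp, Category.assoc, toCycles_i] at this
    exact this
  refine ⟨A, 𝟙 A, inferInstance, E.liftCycles x j (by simp [← hij]) hx', ?_⟩
  change 𝟙 A ≫ x = E.liftCycles x j _ hx' ≫ E.iCycles i
  simp

lemma epi_toCycles_of_exactAt (E : CochainComplex C ℤ) (i j : ℤ) (hij : i + 1 = j)
    (h : E.ExactAt j) : Epi (E.toCycles i j) := by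
  rw [epi_iff_surjective_up_to_refinements]
  intro A z
  rw [exactAt_iff_exact_up_to_refinements E i j (j + 1) (by simp [← hij]) (by simp)] at h
  obtain ⟨A', π, hπ, x₁, hx₁⟩ := h (z ≫ E.iCycles j) (by simp)
  exact ⟨A', π, hπ, x₁, by rw [← cancel_mono (E.iCycles j)]; simpa using hx₁⟩

include hcoh in
/-- Under coherence of `P`: if `E` is bounded above, with terms in `P` from degree `n` on and
acyclic in degrees `> n`, then `Z^i(E)` is `P`-coherent for `i ≥ n`. -/
theorem isCoherent_cycles [P.ContainsZero] (E : CochainComplex C ℤ) (n b : ℤ)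
    (hb : ∀ i : ℤ, b < i → IsZero (E.X i)) (hP : ∀ i : ℤ, n ≤ i → P (E.X i))
    (hac : ∀ i : ℤ, n < i → E.ExactAt i) (i : ℤ) (hi : n ≤ i) : IsCoherent P (E.cycles i) := by
  have key : ∀ k : ℤ, k ≤ max (b + 1) n → n ≤ k → IsCoherent P (E.cycles k) := by
    apply Int.leInductionDown
    · intro _
      have hz : IsZero (E.cycles (max (b + 1) n)) :=
        IsZero.of_mono (E.iCycles _) (hb _ (by have := le_max_left (b + 1) n; lia))
      exact isCoherent_of_prop hcoh (P.prop_of_isZero hz)
    · intro k _ ih hk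
      obtain ⟨_, h2⟩ := ih (by lia)
      have hPk : P (E.X (k - 1)) := hP _ hk
      have := epi_toCycles_of_exactAt E (k - 1) k (by lia) (hac k (by lia))
      have : Mono (cyclesSC E (k - 1) k).f := inferInstanceAs (Mono (E.iCycles (k - 1)))
      exact ⟨isOfFiniteType_kernel_of_precoherent P (cyclesSC E (k - 1) k)
          (cyclesSC_exact E (k - 1) k (by lia)) (isOfFiniteType_of_prop hPk) h2,
        isPrecoherent_of_mono (E.iCycles (k - 1)) (isCoherent_of_prop hcoh hPk).2⟩
  by_cases h : i ≤ max (b + 1) n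
  · exact key i h hi
  · have hz : IsZero (E.cycles i) :=
      IsZero.of_mono (E.iCycles _) (hb _ (by have := le_max_left (b + 1) n; lia))
    exact isCoherent_of_prop hcoh (P.prop_of_isZero hz)

include hcoh in
/-- Coherence of `P` implies quasi-stability under kernels of epimorphisms. -/
theorem isQuasiStableUnderKernels_of_coherent [P.ContainsZero] : IsQuasiStableUnderKernels P := by
  intro K hK hz hP
  obtain ⟨N, hN⟩ := hz
  let e := ComplexShape.embeddingUpNat
  let E := K.extend e
  have hX : ∀ k : ℕ, E.X (k : ℤ) ≅ K.X k := fun k => K.extendXIso e (by simp [e])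
  have hneg : ∀ i : ℤ, i < 0 → IsZero (E.X i) := fun i hi =>
    K.isZero_extend_X e i (fun k => by simp [e]; lia)
  have hE : ∀ i : ℤ, E.ExactAt i := fun i => by
    by_cases h : 0 ≤ i
    · obtain ⟨k, rfl⟩ := Int.eq_ofNat_of_zero_le h
      exact (K.extend_exactAt_iff e (j := k) (by simp [e])).2 (hK k)
    · exact K.extend_exactAt e i (fun k => by simp [e]; lia)
  have h1 := (isCoherent_cycles hcoh E 1 N (fun i hi => by
      obtain ⟨k, rfl⟩ := Int.eq_ofNat_of_zero_le (show 0 ≤ i by lia)
      exact (hN k (by exact_mod_cast hi)).of_iso (hX k)) (fun i hi => by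
      obtain ⟨k, rfl⟩ := Int.eq_ofNat_of_zero_le (show 0 ≤ i by lia)
      exact (P.prop_iff_of_iso (hX k)).2 (hP k (by exact_mod_cast hi))) (fun i _ => hE i) 1 le_rfl).1
  have hepi : Epi (E.toCycles 0 1) := epi_toCycles_of_exactAt E 0 1 (by lia) (hE 1)
  have hZ0 : IsZero (E.cycles 0) := by
    have := epi_toCycles_of_exactAt E (-1) 0 (by lia) (hE 0)
    exact IsZero.of_epi (E.toCycles (-1) 0) (hneg _ (by lia))
  have hmono : Mono (E.toCycles 0 1) :=
    (cyclesSC_exact E 0 1 (by lia)).mono_g (hZ0.eq_of_src _ _)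
  have : IsIso (E.toCycles 0 1) := isIso_of_mono_of_epi _
  exact isOfFiniteType_of_iso P ((asIso (E.toCycles 0 1)).symm ≪≫ hX 0) h1

end Abelian


section Derived

variable [HasDerivedCategory.{w} C] [P.ContainsZero]
variable (hcoh : ∀ (X E : C) (u : E ⟶ X), P X → P E → IsOfFiniteType P (kernel u))

include hcoh in
/-- Homology of a strictly `n`-pseudo-coherent complex under coherence of `P`. -/
theorem homology_of_strictPC_of_coherent (hsum : ∀ X Y : C, P X → P Y → P (X ⨯ Y))
    (hql : IsQuasiLiftable P) {n : ℤ} {E : CochainComplex C ℤ} (hE : IsStrictPC P n E) :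
    IsOfFiniteType P (E.homology n) ∧ ∀ i : ℤ, n < i → IsCoherent P (E.homology i) := by
  obtain ⟨_, hP⟩ := hE
  have hZ : ∀ i : ℤ, n ≤ i → IsOfFiniteType P (E.cycles i) := fun i hi => by
    have h1 := hcoh _ _ (E.d i (i + 1)) (hP _ (by lia)) (hP i hi)
    exact isOfFiniteType_of_iso P
      (IsLimit.conePointUniqueUpToIso (kernelIsKernel (E.d i (i + 1)))
        (E.cyclesIsKernel i (i + 1) (by simp))) h1
  refine ⟨isOfFiniteType_of_epi P (E.homologyπ n) (hZ n le_rfl), fun i hi => ?_⟩
  refine ⟨isOfFiniteType_of_epi P (E.homologyπ i) (hZ i hi.le), ?_⟩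
  let S : ShortComplex C := ShortComplex.mk (E.toCycles (i - 1) i) (E.homologyπ i) (by simp)
  have hS : S.Exact := ShortComplex.exact_of_g_is_cokernel _ (E.homologyIsCokernel (i - 1) i (by simp))
  have : Epi S.g := inferInstanceAs (Epi (E.homologyπ i))
  exact isPrecoherent_of_exact hsum hql S hS (isOfFiniteType_of_prop (hP _ (by lia)))
    (isPrecoherent_of_mono (E.iCycles i) (isCoherent_of_prop hcoh (hP i hi.le)).2)

include hcoh in
/-- A coherent object placed in degree `0` is pseudo-coherent. -/
theorem isNPC_single_of_isCoherent (hsum : ∀ X Y : C, P X → P Y → P (X ⨯ Y))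
    (hql : IsQuasiLiftable P) {H : C} (hH : IsCoherent P H) (m : ℤ) :
    IsNPC P m ((DerivedCategory.singleFunctor C 0).obj H) := by
  have hqs := isQuasiStableUnderKernels_of_coherent hcoh
  have key : ∀ (N : ℕ) (H : C), IsCoherent P H →
      IsNPC P (-(N : ℤ)) ((DerivedCategory.singleFunctor C 0).obj H) := by
    intro N
    induction N with
    | zero =>
      intro H hH
      refine isNPC_of_isOfFiniteType_homology hsum hql
        (fun i hi => isZero_homology_single 0 i (by simp at hi; lia) H) ?_
      exact isOfFiniteType_of_iso P (homologySingleIso 0 H).symm hH.1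
    | succ N ih =>
      intro H hH
      obtain ⟨Q₀, π, hQ₀, hπ⟩ := hH.1
      let S : ShortComplex C := ShortComplex.mk (kernel.ι π) π (kernel.condition π)
      have hS : S.ShortExact :=
        { exact := ShortComplex.exact_kernel π
          mono_f := inferInstanceAs (Mono (kernel.ι π))
          epi_g := hπ }
      have hK : IsCoherent P (kernel π) :=
        ⟨hH.2 Q₀ π hQ₀, isPrecoherent_of_mono (kernel.ι π) (isCoherent_of_prop hcoh hQ₀).2⟩
      have h1 : IsNPC P (-((N + 1 : ℕ) : ℤ) + 1) hS.singleTriangle.obj₁ := by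
        rw [show -((N + 1 : ℕ) : ℤ) + 1 = -(N : ℤ) by push_cast; ring]
        exact ih _ hK
      exact isNPC_obj₃ hsum hqs hql _ hS.singleTriangle_distinguished h1 (isNPC_single 0 hQ₀ _)
  by_cases hm : 0 ≤ m
  · have := key 0 H hH
    simp only [Nat.cast_zero, neg_zero] at this
    exact this.of_le hm
  · have := key (-m).toNat H hH
    rwa [Int.toNat_of_nonneg (by lia), neg_neg] at this

omit [P.ContainsZero] in
/-- An object of finite type placed in degree `0` is `0`-pseudo-coherent. -/
lemma isNPC_single_of_isOfFiniteType [P.ContainsZero] (hsum : ∀ X Y : C, P X → P Y → P (X ⨯ Y))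
    (hql : IsQuasiLiftable P) {H : C} (hH : IsOfFiniteType P H) :
    IsNPC P 0 ((DerivedCategory.singleFunctor C 0).obj H) :=
  isNPC_of_isOfFiniteType_homology hsum hql
    (fun i hi => isZero_homology_single 0 i (by lia) H)
    (isOfFiniteType_of_iso P (homologySingleIso 0 H).symm hH)

end Derived

end Groth.Agent.Lib.Helper13.PC
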