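import Groth.Agent.Lib.Helper13.PCTermwise

/-!
# Dévissage lemmas for properties of objects of `D(C)` stable under extensions
-/

set_option autoImplicit false
set_option linter.style.haveILetI false
universe w v u

namespace Groth.Agent.Lib.Helper13.PC

open CategoryTheory CategoryTheory.Limits HomologicalComplex CochainComplex PCoh Pretriangulated
  ZeroObject DerivedCategory

variable {C : Type u} [Category.{v} C] [Abelian C] [HasDerivedCategory.{w} C]

/-- An object of `D(C)` with vanishing cohomology is zero. -/
lemma isZero_of_forall_isZero_homology (F : DerivedCategory C)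
    (h : ∀ i : ℤ, IsZero ((DerivedCategory.homologyFunctor C i).obj F)) : IsZero F := by
  have : F.IsLE 0 := by
    rw [DerivedCategory.isLE_iff]
    exact fun i _ => h i
  obtain ⟨K, -, ⟨e⟩⟩ := F.exists_iso_Q_obj_of_isLE 0
  have hK : ∀ i : ℤ, IsZero (K.homology i) := fun i =>
    (h i).of_iso ((homologyQIso K i).symm ≪≫ (DerivedCategory.homologyFunctor C i).mapIso e.symm)
  have hzero : ∀ i : ℤ, IsZero ((0 : CochainComplex C ℤ).X i) := fun i =>
    (HomologicalComplex.eval C _ i).map_isZero (isZero_zero _)
  have hq : QuasiIso (0 : K ⟶ (0 : CochainComplex C ℤ)) := by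
    rw [quasiIso_iff]
    intro i
    rw [quasiIsoAt_iff_isIso_homologyMap]
    exact ⟨0, (hK i).eq_of_src _ _,
      (ShortComplex.isZero_homology_of_isZero_X₂ _ (hzero i)).eq_of_src _ _⟩
  have : IsIso (Q.map (0 : K ⟶ (0 : CochainComplex C ℤ))) := by
    rw [isIso_Q_map_iff_quasiIso]; exact hq
  exact ((Q (C := C)).map_isZero (isZero_zero _)).of_iso
    (e ≪≫ asIso (Q.map (0 : K ⟶ (0 : CochainComplex C ℤ))))

variable (W : ObjectProperty (DerivedCategory C)) [W.IsClosedUnderIsomorphisms]

/-- Dévissage along the terms of a bounded complex. -/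
theorem devissage_termwise
    (hext : ∀ T : Triangle (DerivedCategory C), T ∈ distTriang _ → W T.obj₁ → W T.obj₃ → W T.obj₂)
    (hzero : ∀ Z : DerivedCategory C, IsZero Z → W Z)
    (F : CochainComplex C ℤ) (a b : ℤ) (hvan : ∀ i : ℤ, i < a ∨ b < i → IsZero (F.X i))
    (hterm : ∀ i : ℤ, W ((DerivedCategory.singleFunctor C i).obj (F.X i))) : W (Q.obj F) := by
  have key : ∀ (j : ℕ) (F : CochainComplex C ℤ), (∀ i : ℤ, i < a ∨ a - 1 + j < i → IsZero (F.X i)) →
      (∀ i : ℤ, W ((DerivedCategory.singleFunctor C i).obj (F.X i))) → W (Q.obj F) := by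
    intro j
    induction j with
    | zero =>
      intro F hF _
      have hz : ∀ i : ℤ, IsZero (F.X i) := fun i => hF i (by simp; lia)
      have hF0 : IsZero F := by
        rw [IsZero.iff_id_eq_zero]
        ext i
        exact (hz i).eq_of_src _ _
      exact hzero _ ((Q (C := C)).map_isZero hF0)
    | succ j ih =>
      intro F hF hterm
      obtain ⟨b, hbj⟩ : ∃ b : ℤ, b = a + j := ⟨_, rfl⟩
      have hF' : ∀ i : ℤ, b < i → IsZero (F.X i) := fun i hi => hF i (Or.inr (by push_cast; lia))
      obtain ⟨F', hF'b, hiso, T, hT, ⟨e₁⟩, ⟨e₂⟩, ⟨e₃⟩⟩ := exists_top_quotient F b (hF' _ (by lia))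
      have h1 : W T.obj₁ := W.prop_of_iso (singleIsoQ b _ ≪≫ e₁.symm) (hterm b)
      have h3 : W T.obj₃ := by
        refine W.prop_of_iso e₃.symm (ih F' (fun i hi => ?_) (fun i => ?_))
        · by_cases h : i = b
          · subst h; exact hF'b
          · obtain ⟨e⟩ := hiso i h
            refine (hF i ?_).of_iso e.symm
            rcases hi with hi | hi
            · exact Or.inl hi
            · exact Or.inr (by push_cast; lia)
        · by_cases h : i = b
          · subst h
            exact hzero _ ((DerivedCategory.singleFunctor C i).map_isZero hF'b)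
          · obtain ⟨e⟩ := hiso i h
            exact W.prop_of_iso ((DerivedCategory.singleFunctor C i).mapIso e) (hterm i)
      exact W.prop_of_iso e₂ (hext T hT h1 h3)
  by_cases hab : a - 1 ≤ b
  · refine key (b - (a - 1)).toNat F (fun i hi => hvan i ?_) hterm
    rw [Int.toNat_of_nonneg (by lia)] at hi
    rcases hi with hi | hi
    · exact Or.inl hi
    · exact Or.inr (by lia)
  · refine key 0 F (fun i hi => hvan i ?_) hterm
    by_cases h : i < a
    · exact Or.inl h
    · exact Or.inr (by lia)

/-- Dévissage along the cohomology objects of an object with bounded cohomology. -/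
theorem devissage_homology
    (hext : ∀ T : Triangle (DerivedCategory C), T ∈ distTriang _ → W T.obj₁ → W T.obj₃ → W T.obj₂)
    (hzero : ∀ Z : DerivedCategory C, IsZero Z → W Z)
    (F : DerivedCategory C) (a b : ℤ)
    (hvan : ∀ i : ℤ, i < a ∨ b < i → IsZero ((DerivedCategory.homologyFunctor C i).obj F))
    (hH : ∀ i : ℤ, W ((DerivedCategory.singleFunctor C i).obj
      ((DerivedCategory.homologyFunctor C i).obj F))) : W F := by
  have key : ∀ (j : ℕ) (F : DerivedCategory C),
      (∀ i : ℤ, i < a ∨ a - 1 + j < i → IsZero ((DerivedCategory.homologyFunctor C i).obj F)) →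
      (∀ i : ℤ, W ((DerivedCategory.singleFunctor C i).obj
        ((DerivedCategory.homologyFunctor C i).obj F))) → W F := by
    intro j
    induction j with
    | zero =>
      intro F hF _
      exact hzero _ (isZero_of_forall_isZero_homology F (fun i => hF i (by simp; lia)))
    | succ j ih =>
      intro F hF hH
      obtain ⟨b, hbj⟩ : ∃ b : ℤ, b = a + j := ⟨_, rfl⟩
      have hF' : ∀ i : ℤ, b < i → IsZero ((DerivedCategory.homologyFunctor C i).obj F) :=
        fun i hi => hF i (Or.inr (by push_cast; lia))
      have : F.IsLE b := by rw [DerivedCategory.isLE_iff]; exact hF'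
      obtain ⟨K, hK, ⟨e⟩⟩ := F.exists_iso_Q_obj_of_isLE b
      let p := toSingleOpcycles K b
      have hT := mappingCocone_triangle_distinguished p
      have hS : ∀ i : ℤ, i ≠ b → IsZero ((DerivedCategory.homologyFunctor C i).obj
          (Q.mapTriangle.obj (mappingCocone.triangle p)).obj₃) := fun i hi => by
        have h1 : IsZero (((HomologicalComplex.single C (ComplexShape.up ℤ) b).obj
            (K.opcycles b)).homology i) :=
          ShortComplex.isZero_homology_of_isZero_X₂ _
            (isZero_single_obj_X (ComplexShape.up ℤ) b _ i hi)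
        exact h1.of_iso (homologyQIso _ i)
      have hpiso : IsIso (homologyMap p b) :=
        isIso_homologyMap_toSingleOpcycles K b (K.isZero_of_isStrictlyLE b (b + 1) (by lia))
      have hb' : IsIso ((DerivedCategory.homologyFunctor C b).map
          (Q.mapTriangle.obj (mappingCocone.triangle p)).mor₂) :=
        (isIso_homologyFunctor_map_Q_iff p b).2 hpiso
      obtain ⟨h1, h2⟩ := homology_obj₁_of_concentrated _ hT b hS hb'
      have isoA : (DerivedCategory.homologyFunctor C b).obj F ≅ K.opcycles b :=
        (DerivedCategory.homologyFunctor C b).mapIso e ≪≫ homologyQIso K b ≪≫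
          asIso (homologyMap p b) ≪≫ singleObjHomologySelfIso (ComplexShape.up ℤ) b _
      have h3 : W (Q.obj ((HomologicalComplex.single C (ComplexShape.up ℤ) b).obj
          (K.opcycles b))) :=
        W.prop_of_iso ((DerivedCategory.singleFunctor C b).mapIso isoA ≪≫ singleIsoQ b _) (hH b)
      have isoG : ∀ i : ℤ, i ≠ b → ((DerivedCategory.homologyFunctor C i).obj
          (Q.obj (mappingCocone p)) ≅ (DerivedCategory.homologyFunctor C i).obj F) := fun i hi =>
        @asIso _ _ _ _ ((DerivedCategory.homologyFunctor C i).map
          (Q.mapTriangle.obj (mappingCocone.triangle p)).mor₁) (h1 i hi) ≪≫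
          (DerivedCategory.homologyFunctor C i).mapIso e.symm
      have hG : W (Q.obj (mappingCocone p)) := by
        refine ih _ (fun i hi => ?_) (fun i => ?_)
        · by_cases h : i = b
          · subst h; exact h2
          · refine (hF i ?_).of_iso (isoG i h)
            rcases hi with hi | hi
            · exact Or.inl hi
            · exact Or.inr (by push_cast; lia)
        · by_cases h : i = b
          · subst h
            exact hzero _ ((DerivedCategory.singleFunctor C i).map_isZero h2)
          · exact W.prop_of_iso ((DerivedCategory.singleFunctor C i).mapIso (isoG i h).symm) (hH i)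
      exact W.prop_of_iso e.symm (hext _ hT hG h3)
  by_cases hab : a - 1 ≤ b
  · refine key (b - (a - 1)).toNat F (fun i hi => hvan i ?_) hH
    rw [Int.toNat_of_nonneg (by lia)] at hi
    rcases hi with hi | hi
    · exact Or.inl hi
    · exact Or.inr (by lia)
  · refine key 0 F (fun i hi => hvan i ?_) hH
    by_cases h : i < a
    · exact Or.inl h
    · exact Or.inr (by lia)

end Groth.Agent.Lib.Helper13.PC
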