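import Groth.Agent.Lib.Helper13.PCBottom
import Groth.Agent.Lib.Helper13.PCCoherent2
import Groth.Agent.Lib.Helper13.PCDevissage
import Mathlib.Algebra.Homology.DerivedCategory.KProjective

/-!
# Perfect complexes relative to a liftable subcategory stable under kernels of epimorphisms
(SGA 6 Exp. I §4): basic tools.
-/

set_option autoImplicit false
universe w v u
open CategoryTheory CategoryTheory.Limits
open PCoh

namespace Groth.Agent.Lib.Helper13.PC

variable {C : Type u} [Category.{v} C] [Abelian C]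
variable (P : ObjectProperty C)


/-- Liftability: objects of `P` are projective. -/
lemma projective_of_hlift (hlift : ∀ (E F : C) (u : E ⟶ F), Epi u → P F → IsSplitEpi u)
    {X : C} (hX : P X) : Projective X := by
  refine ⟨fun {E Y} f e _ => ?_⟩
  have : Epi (pullback.fst f e) := inferInstance
  obtain ⟨⟨s, hs⟩⟩ := hlift _ _ (pullback.fst f e) inferInstance hX
  exact ⟨s ≫ pullback.snd f e, by rw [Category.assoc, ← pullback.condition, reassoc_of% hs]⟩

lemma isKProjective_of_hlift (hlift : ∀ (E F : C) (u : E ⟶ F), Epi u → P F → IsSplitEpi u)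
    (E : CochainComplex C ℤ) (b : ℤ) (hb : ∀ i : ℤ, b < i → IsZero (E.X i))
    (hP : ∀ i : ℤ, P (E.X i)) : E.IsKProjective := by
  have : E.IsStrictlyLE b := by
    rw [CochainComplex.isStrictlyLE_iff]
    exact hb
  have : ∀ n : ℤ, Projective (E.X n) := fun n => projective_of_hlift P hlift (hP n)
  exact CochainComplex.isKProjective_of_projective E b



/-- If `S` is an exact short complex with `S.f` mono and `S.g` epi, with `X₂`, `X₃` in `P`, then
`X₁` is in `P` (stability under kernels of epimorphisms). -/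
lemma prop_X₁_of_hst [P.IsClosedUnderIsomorphisms]
    (hst : ∀ (E F : C) (u : E ⟶ F), Epi u → P E → P F → P (kernel u))
    (S : ShortComplex C) (hS : S.Exact) [Mono S.f] [Epi S.g] (h₂ : P S.X₂) (h₃ : P S.X₃) :
    P S.X₁ :=
  (P.prop_iff_of_iso (IsLimit.conePointUniqueUpToIso (kernelIsKernel S.g) hS.fIsKernel)).1
    (hst _ _ S.g inferInstance h₂ h₃)

/-- Under stability under kernels of epimorphisms: if `M` is bounded above by `b`, has terms in
`P` in degrees `> a` and is acyclic in degrees `> a + 1`, then `Z^i(M)` is in `P` for `i > a`. -/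
theorem prop_cycles_of_hst [P.IsClosedUnderIsomorphisms] [P.ContainsZero]
    (hst : ∀ (E F : C) (u : E ⟶ F), Epi u → P E → P F → P (kernel u))
    (M : CochainComplex C ℤ) (a b : ℤ)
    (hb : ∀ i : ℤ, b < i → IsZero (M.X i)) (hP : ∀ i : ℤ, a < i → P (M.X i))
    (hac : ∀ i : ℤ, a + 1 < i → M.ExactAt i) (i : ℤ) (hi : a < i) : P (M.cycles i) := by
  have key : ∀ k : ℤ, k ≤ max (b + 1) (a + 1) → a < k → P (M.cycles k) := by
    apply Int.leInductionDown
    · intro _
      exact P.prop_of_isZero (IsZero.of_mono (M.iCycles _)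
        (hb _ (by have := le_max_left (b + 1) (a + 1); lia)))
    · intro k hk ih hk'
      have h2 := ih (by lia)
      have := epi_toCycles_of_exactAt M (k - 1) k (by lia) (hac k (by lia))
      have : Mono (cyclesSC M (k - 1) k).f := inferInstanceAs (Mono (M.iCycles (k - 1)))
      have : Epi (cyclesSC M (k - 1) k).g := inferInstanceAs (Epi (M.toCycles (k - 1) k))
      exact prop_X₁_of_hst P hst (cyclesSC M (k - 1) k) (cyclesSC_exact M (k - 1) k (by lia))
        (hP _ hk') h2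
  by_cases h : i ≤ max (b + 1) (a + 1)
  · exact key i h hi
  · exact P.prop_of_isZero (IsZero.of_mono (M.iCycles _)
      (hb _ (by have := le_max_left (b + 1) (a + 1); lia)))



/-- In an exact short complex `X₁ ↪ X₂ ↠ X₃` with `X₁`, `X₃` in `P` (liftable), `X₂` is in `P`. -/
lemma prop_X₂_of_hlift [P.IsClosedUnderIsomorphisms]
    (hsum : ∀ X Y : C, P X → P Y → P (X ⨯ Y))
    (hlift : ∀ (E F : C) (u : E ⟶ F), Epi u → P F → IsSplitEpi u)
    (S : ShortComplex C) (hS : S.Exact) [Mono S.f] [Epi S.g] (h₁ : P S.X₁) (h₃ : P S.X₃) :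
    P S.X₂ := by
  obtain ⟨⟨s, hs⟩⟩ := hlift _ _ S.g inferInstance h₃
  exact (P.prop_iff_of_iso
    (ShortComplex.Splitting.ofExactOfSection S hS s hs inferInstance).isoBinaryBiproduct).2
    (prop_biprod P hsum h₁ h₃)

/-- An acyclic bounded complex all of whose terms but (possibly) `M^a` are in `P`, with
`M^i = 0` for `i < a - 1`, has `M^a` in `P`. -/
theorem prop_X_of_acyclic [P.IsClosedUnderIsomorphisms] [P.ContainsZero]
    (hsum : ∀ X Y : C, P X → P Y → P (X ⨯ Y))
    (hlift : ∀ (E F : C) (u : E ⟶ F), Epi u → P F → IsSplitEpi u)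
    (hst : ∀ (E F : C) (u : E ⟶ F), Epi u → P E → P F → P (kernel u))
    (M : CochainComplex C ℤ) (a b : ℤ)
    (hb : ∀ i : ℤ, b < i → IsZero (M.X i)) (ha : ∀ i : ℤ, i < a - 1 → IsZero (M.X i))
    (hP : ∀ i : ℤ, i ≠ a → P (M.X i)) (hac : ∀ i : ℤ, M.ExactAt i) : P (M.X a) := by
  have hZ1 : P (M.cycles (a + 1)) := prop_cycles_of_hst P hst M a b hb
    (fun i hi => hP i (by lia)) (fun i _ => hac i) (a + 1) (by lia)
  have hepi : Epi (M.toCycles a (a + 1)) := epi_toCycles_of_exactAt M a (a + 1) rfl (hac _)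
  have hepi' : Epi (M.toCycles (a - 1) a) := epi_toCycles_of_exactAt M (a - 1) a (by lia) (hac _)
  have hZ0 : IsZero (M.cycles (a - 1)) := by
    have := epi_toCycles_of_exactAt M (a - 1 - 1) (a - 1) (by lia) (hac _)
    exact IsZero.of_epi (M.toCycles (a - 1 - 1) (a - 1)) (ha _ (by lia))
  have hmono : Mono (M.toCycles (a - 1) a) :=
    (cyclesSC_exact M (a - 1) a (by lia)).mono_g (hZ0.eq_of_src _ _)
  have : IsIso (M.toCycles (a - 1) a) := isIso_of_mono_of_epi _
  have hZa : P (M.cycles a) :=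
    (P.prop_iff_of_iso (asIso (M.toCycles (a - 1) a))).1 (hP _ (by lia))
  have : Mono (cyclesSC M a (a + 1)).f := inferInstanceAs (Mono (M.iCycles a))
  have : Epi (cyclesSC M a (a + 1)).g := hepi
  exact prop_X₂_of_hlift P hsum hlift (cyclesSC M a (a + 1)) (cyclesSC_exact M a (a + 1) rfl)
    hZa hZ1

/-- Stability under kernels of epimorphisms: a complement of a `P`-object in a `P`-object is
in `P`. -/
lemma prop_of_biprod_of_hst [P.IsClosedUnderIsomorphisms]
    (hst : ∀ (E F : C) (u : E ⟶ F), Epi u → P E → P F → P (kernel u))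
    {X Y : C} (hXY : P (X ⊞ Y)) (hX : P X) : P Y :=
  (P.prop_iff_of_iso (IsLimit.conePointUniqueUpToIso (kernelIsKernel (biprod.fst : X ⊞ Y ⟶ X))
    (biprod.isKernelFstKernelFork X Y))).1 (hst _ _ (biprod.fst : X ⊞ Y ⟶ X) inferInstance hXY hX)



open CochainComplex HomologicalComplex in
/-- Right truncation step: a strictly perfect complex in `[a, c]` with `H^c = 0` and `a < c`
is quasi-isomorphic to a strictly perfect complex in `[a, c - 1]`. -/
lemma exists_truncLE_step [P.IsClosedUnderIsomorphisms] [P.ContainsZero]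
    (hst : ∀ (E F : C) (u : E ⟶ F), Epi u → P E → P F → P (kernel u))
    (F : CochainComplex C ℤ) (a c : ℤ) (hP : ∀ i : ℤ, P (F.X i))
    (hvan : ∀ i : ℤ, i < a ∨ c < i → IsZero (F.X i)) (hex : IsZero (F.homology c)) :
    ∃ (F' : CochainComplex C ℤ) (v : F' ⟶ F), (∀ i : ℤ, P (F'.X i)) ∧
      (∀ i : ℤ, i < a ∨ c - 1 < i → IsZero (F'.X i)) ∧ QuasiIso v := by
  have hexact : ∀ i : ℤ, c - 1 < i → F.ExactAt i := by
    intro i hi
    by_cases h : i = c
    · subst h
      rwa [exactAt_iff_isZero_homology]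
    · rw [exactAt_iff_isZero_homology]
      exact ShortComplex.isZero_homology_of_isZero_X₂ _ (hvan i (Or.inr (by lia)))
  have hLE : F.IsLE (c - 1) := by
    rw [CochainComplex.isLE_iff]
    exact hexact
  have hzero : ∀ i : ℤ, c - 1 < i → IsZero ((F.truncLE (c - 1)).X i) := fun i hi =>
    CochainComplex.isZero_of_isStrictlyLE _ (c - 1) i (by lia)
  have hZ : P (F.cycles (c - 1)) := prop_cycles_of_hst P hst F (c - 1 - 1) c
    (fun i hi => hvan i (Or.inr hi)) (fun i _ => hP i) (fun i hi => hexact i (by lia)) (c - 1)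
    (by lia)
  refine ⟨F.truncLE (c - 1), F.ιTruncLE (c - 1), fun i => ?_, fun i hi => ?_, ?_⟩
  · rcases lt_trichotomy i (c - 1) with h | h | h
    · exact (P.prop_iff_of_iso (F.truncLEXIso (c - 1) i h)).2 (hP i)
    · subst h
      exact (P.prop_iff_of_iso (F.truncLEXIsoCycles (c - 1))).2 hZ
    · exact P.prop_of_isZero (hzero i h)
  · rcases hi with hi | hi
    · by_cases h : i < c - 1
      · exact (hvan i (Or.inl hi)).of_iso (F.truncLEXIso (c - 1) i h)
      · by_cases h' : i = c - 1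
        · subst h'
          exact IsZero.of_iso (IsZero.of_mono (F.iCycles _) (hvan _ (Or.inl hi)))
            (F.truncLEXIsoCycles (c - 1))
        · exact hzero i (by lia)
    · exact hzero i hi
  · rw [CochainComplex.quasiIso_ιTruncLE_iff]
    exact hLE

open CochainComplex HomologicalComplex in
/-- SGA 6 I 4.?: a strictly perfect complex in `[a, c]` acyclic in degrees `> b` has perfect
amplitude in `[a, min b c]`. -/
theorem exists_strictPerfect_truncated [P.IsClosedUnderIsomorphisms] [P.ContainsZero]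
    (hst : ∀ (E F : C) (u : E ⟶ F), Epi u → P E → P F → P (kernel u))
    (a b : ℤ) (hab : a ≤ b) (k : ℕ) : ∀ (c : ℤ) (_ : a ≤ c) (_ : c ≤ b + k) (F : CochainComplex C ℤ)
    (_ : ∀ i : ℤ, P (F.X i)) (_ : ∀ i : ℤ, i < a ∨ c < i → IsZero (F.X i))
    (_ : ∀ i : ℤ, b < i → IsZero (F.homology i)),
    ∃ (F' : CochainComplex C ℤ) (v : F' ⟶ F), (∀ i : ℤ, P (F'.X i)) ∧
      (∀ i : ℤ, i < a ∨ min b c < i → IsZero (F'.X i)) ∧ QuasiIso v := by
  induction k with
  | zero =>
    intro c hac hc F hP hvan hcoh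
    refine ⟨F, 𝟙 F, hP, fun i hi => hvan i ?_, inferInstance⟩
    rw [min_eq_right (by simpa using hc)] at hi
    exact hi
  | succ k ih =>
    intro c hac hc F hP hvan hcoh
    by_cases hcb : c ≤ b
    · refine ⟨F, 𝟙 F, hP, fun i hi => hvan i ?_, inferInstance⟩
      rw [min_eq_right hcb] at hi
      exact hi
    · obtain ⟨F₁, v₁, hP₁, hvan₁, hq₁⟩ := exists_truncLE_step P hst F a c hP hvan (hcoh c (by lia))
      obtain ⟨F', v, hP', hvan', hq'⟩ := ih (c - 1) (by lia) (by push_cast at hc; lia) F₁ hP₁ hvan₁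
        (fun i hi => (hcoh i hi).of_iso (asIso (homologyMap v₁ i)))
      refine ⟨F', v ≫ v₁, hP', fun i hi => hvan' i ?_, inferInstance⟩
      rw [min_eq_left (by lia)] at hi ⊢
      exact hi


/-- Terms of a biproduct of complexes. -/
noncomputable def biprodXIso (E' E'' : CochainComplex C ℤ) (i : ℤ) :
    (E' ⊞ E'').X i ≅ E'.X i ⊞ E''.X i :=
  (HomologicalComplex.eval C (ComplexShape.up ℤ) i).mapBiprod E' E''


omit [Abelian C] in
lemma isQuasiLiftable_of_hlift
    (hlift : ∀ (E F : C) (u : E ⟶ F), Epi u → P F → IsSplitEpi u) : IsQuasiLiftable P := by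
  intro E F u hu hF
  obtain ⟨⟨s, hs⟩⟩ := hlift E F u hu hF
  exact ⟨F, s, hF, by rw [hs]; infer_instance⟩

/-- Stability under kernels of epimorphisms implies quasi-stability. -/
theorem isQuasiStableUnderKernels_of_hst [P.IsClosedUnderIsomorphisms] [P.ContainsZero]
    (hst : ∀ (E F : C) (u : E ⟶ F), Epi u → P E → P F → P (kernel u)) :
    IsQuasiStableUnderKernels P := by
  intro K hK hz hP
  obtain ⟨N, hN⟩ := hz
  let e := ComplexShape.embeddingUpNat
  let E := K.extend e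
  have hX : ∀ k : ℕ, E.X (k : ℤ) ≅ K.X k := fun k => K.extendXIso e (by simp [e])
  have hneg : ∀ i : ℤ, i < 0 → IsZero (E.X i) := fun i hi =>
    K.isZero_extend_X e i (fun k => by simp [e]; lia)
  have hE : ∀ i : ℤ, E.ExactAt i := fun i => by
    by_cases h : 0 ≤ i
    · obtain ⟨k, rfl⟩ := Int.eq_ofNat_of_zero_le h
      exact (K.extend_exactAt_iff e (j := k) (by simp [e])).2 (hK k)
    · exact K.extend_exactAt e i (fun k => by simp [e]; lia)
  have h1 : P (E.cycles 1) := prop_cycles_of_hst P hst E 0 N (fun i hi => by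
      obtain ⟨k, rfl⟩ := Int.eq_ofNat_of_zero_le (show 0 ≤ i by lia)
      exact (hN k (by exact_mod_cast hi)).of_iso (hX k)) (fun i hi => by
      obtain ⟨k, rfl⟩ := Int.eq_ofNat_of_zero_le (show 0 ≤ i by lia)
      exact (P.prop_iff_of_iso (hX k)).2 (hP k (by lia))) (fun i _ => hE i) 1 (by lia)
  have hepi : Epi (E.toCycles 0 1) := epi_toCycles_of_exactAt E 0 1 (by lia) (hE 1)
  have hZ0 : IsZero (E.cycles 0) := by
    have := epi_toCycles_of_exactAt E (-1) 0 (by lia) (hE 0)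
    exact IsZero.of_epi (E.toCycles (-1) 0) (hneg _ (by lia))
  have hmono : Mono (E.toCycles 0 1) :=
    (cyclesSC_exact E 0 1 (by lia)).mono_g (hZ0.eq_of_src _ _)
  have : IsIso (E.toCycles 0 1) := isIso_of_mono_of_epi _
  exact isOfFiniteType_of_prop
    ((P.prop_iff_of_iso ((asIso (E.toCycles 0 1)).symm ≪≫ hX 0)).1 h1)


/-- The bottom term of a bounded acyclic complex whose other terms are in `P`
(stable under kernels of epimorphisms) is in `P`. -/
theorem prop_bottom_of_acyclic [P.IsClosedUnderIsomorphisms] [P.ContainsZero]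
    (hst : ∀ (E F : C) (u : E ⟶ F), Epi u → P E → P F → P (kernel u))
    (M : CochainComplex C ℤ) (c b : ℤ)
    (hb : ∀ i : ℤ, b < i → IsZero (M.X i)) (hc : ∀ i : ℤ, i < c → IsZero (M.X i))
    (hP : ∀ i : ℤ, c < i → P (M.X i)) (hac : ∀ i : ℤ, M.ExactAt i) : P (M.X c) := by
  have hZ1 : P (M.cycles (c + 1)) := prop_cycles_of_hst P hst M c b hb hP (fun i _ => hac i)
    (c + 1) (by lia)
  have hepi : Epi (M.toCycles c (c + 1)) := epi_toCycles_of_exactAt M c (c + 1) rfl (hac _)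
  have hZ0 : IsZero (M.cycles c) := by
    have := epi_toCycles_of_exactAt M (c - 1) c (by lia) (hac _)
    exact IsZero.of_epi (M.toCycles (c - 1) c) (hc _ (by lia))
  have hmono : Mono (M.toCycles c (c + 1)) :=
    (cyclesSC_exact M c (c + 1) rfl).mono_g (hZ0.eq_of_src _ _)
  have : IsIso (M.toCycles c (c + 1)) := isIso_of_mono_of_epi _
  exact (P.prop_iff_of_iso (asIso (M.toCycles c (c + 1)))).2 hZ1

lemma prop_of_biprod_of_isZero [P.IsClosedUnderIsomorphisms] {X Z : C} (hZ : IsZero Z)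
    (h : P (X ⊞ Z)) : P X := by
  have : IsIso (biprod.fst : X ⊞ Z ⟶ X) := by
    refine ⟨biprod.inl, ?_, biprod.inl_fst⟩
    apply biprod.hom_ext
    · simp
    · exact hZ.eq_of_tgt _ _
  exact (P.prop_iff_of_iso (asIso (biprod.fst : X ⊞ Z ⟶ X))).1 h

open CochainComplex HomologicalComplex in
/-- If `w : E ⟶ F'` is a quasi-isomorphism of complexes concentrated in `[a, b]`, all terms of
`F'` and the terms `E^i`, `i > a`, being in `P` (stable under kernels of epimorphisms and finite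
sums), then `E^a` is in `P`. -/
theorem prop_first_of_quasiIso [P.IsClosedUnderIsomorphisms] [P.ContainsZero]
    (hsum : ∀ X Y : C, P X → P Y → P (X ⨯ Y))
    (hst : ∀ (E F : C) (u : E ⟶ F), Epi u → P E → P F → P (kernel u))
    {E F' : CochainComplex C ℤ} (w : E ⟶ F') (hw : QuasiIso w) (a b : ℤ)
    (hEb : ∀ i : ℤ, b < i → IsZero (E.X i)) (hEa : ∀ i : ℤ, i < a → IsZero (E.X i))
    (hFb : ∀ i : ℤ, b < i → IsZero (F'.X i)) (hFa : ∀ i : ℤ, i < a → IsZero (F'.X i))
    (hF : ∀ i : ℤ, P (F'.X i)) (hE : ∀ i : ℤ, a < i → P (E.X i)) : P (E.X a) := by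
  have hM : P ((mappingCone w).X (a - 1)) := by
    apply prop_bottom_of_acyclic P hst (mappingCone w) (a - 1) b
    · intro i hi
      rw [mappingCone.isZero_X_iff]
      exact ⟨hEb _ (by lia), hFb _ hi⟩
    · intro i hi
      rw [mappingCone.isZero_X_iff]
      exact ⟨hEa _ (by lia), hFa _ (by lia)⟩
    · intro i hi
      exact prop_mappingCone_X P hsum w i (i + 1) rfl (hE _ (by lia)) (hF i)
    · intro i
      exact exactAt_mappingCone w i (i + 1) rfl inferInstance inferInstance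
  have h1 := (P.prop_iff_of_iso (homotopyCofiber.XIsoBiprod w (a - 1) a (by simp))).1 hM
  exact prop_of_biprod_of_isZero P (hFa _ (by lia)) h1

section Derived

variable [HasDerivedCategory.{w} C]

open DerivedCategory in
lemma exists_Q_map_eq {K L : CochainComplex C ℤ} [K.IsKProjective] (φ : Q.obj K ⟶ Q.obj L) :
    ∃ f : K ⟶ L, Q.map f = φ := by
  obtain ⟨g, hg⟩ := (CochainComplex.IsKProjective.Qh_map_bijective K
    ((HomotopyCategory.quotient _ _).obj L)).surjective
    ((quotientCompQhIso C).hom.app K ≫ φ ≫ (quotientCompQhIso C).inv.app L)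
  obtain ⟨f, rfl⟩ := (HomotopyCategory.quotient _ _).map_surjective g
  refine ⟨f, ?_⟩
  have := quotientCompQhIso_hom_naturality f
  rw [hg] at this
  simpa using this.symm



open DerivedCategory CochainComplex HomologicalComplex in
/-- SGA 6 I 4.?: first term of a complex of perfect amplitude in `[a, b]`. -/
theorem prop_first_term [P.IsClosedUnderIsomorphisms] [P.ContainsZero]
    (hsum : ∀ X Y : C, P X → P Y → P (X ⨯ Y))
    (hlift : ∀ (E F : C) (u : E ⟶ F), Epi u → P F → IsSplitEpi u)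
    (hst : ∀ (E F : C) (u : E ⟶ F), Epi u → P E → P F → P (kernel u))
    (a b : ℤ) (F : CochainComplex C ℤ)
    (hvan : ∀ i : ℤ, i < a ∨ b < i → IsZero (F.X i)) (hP : ∀ i : ℤ, a < i → P (F.X i))
    (E : CochainComplex C ℤ) (hPE : ∀ i : ℤ, P (E.X i))
    (hvanE : ∀ i : ℤ, i < a ∨ b < i → IsZero (E.X i)) (e : Q.obj E ≅ Q.obj F) :
    P (F.X a) := by
  have : E.IsKProjective := isKProjective_of_hlift P hlift E b (fun i hi => hvanE i (Or.inr hi)) hPE
  obtain ⟨f, hf⟩ := exists_Q_map_eq e.hom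
  have hiso : IsIso (Q.map f) := by rw [hf]; infer_instance
  rw [isIso_Q_map_iff_quasiIso] at hiso
  have hM : P ((mappingCone f).X a) := by
    apply prop_X_of_acyclic P hsum hlift hst (mappingCone f) a b
    · intro i hi
      rw [mappingCone.isZero_X_iff]
      exact ⟨hvanE _ (Or.inr (by lia)), hvan _ (Or.inr hi)⟩
    · intro i hi
      rw [mappingCone.isZero_X_iff]
      exact ⟨hvanE _ (Or.inl (by lia)), hvan _ (Or.inl (by lia))⟩
    · intro i hi
      apply prop_mappingCone_X P hsum f i (i + 1) rfl (hPE _)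
      by_cases h : a < i
      · exact hP i h
      · exact P.prop_of_isZero (hvan i (Or.inl (by lia)))
    · intro i
      exact exactAt_mappingCone f i (i + 1) rfl inferInstance inferInstance
  exact prop_of_biprod_of_hst P hst
    ((P.prop_iff_of_iso (homotopyCofiber.XIsoBiprod f a (a + 1) rfl)).1 hM) (hPE _)



open DerivedCategory CochainComplex HomologicalComplex CategoryTheory.Pretriangulated in
/-- Cones of morphisms between perfect complexes are perfect. -/
theorem exists_strictPerfect_obj₃ [P.IsClosedUnderIsomorphisms] [P.ContainsZero]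
    (hsum : ∀ X Y : C, P X → P Y → P (X ⨯ Y))
    (hlift : ∀ (E F : C) (u : E ⟶ F), Epi u → P F → IsSplitEpi u)
    (T : Triangle (DerivedCategory C)) (hT : T ∈ distinguishedTriangles)
    (E : CochainComplex C ℤ) (a₁ b₁ : ℤ) (hvan₁ : ∀ i : ℤ, i < a₁ ∨ b₁ < i → IsZero (E.X i))
    (hP₁ : ∀ i : ℤ, P (E.X i)) (e₁ : Q.obj E ≅ T.obj₁)
    (F : CochainComplex C ℤ) (a₂ b₂ : ℤ) (hvan₂ : ∀ i : ℤ, i < a₂ ∨ b₂ < i → IsZero (F.X i))
    (hP₂ : ∀ i : ℤ, P (F.X i)) (e₂ : Q.obj F ≅ T.obj₂) :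
    ∃ (G : CochainComplex C ℤ), (∀ i : ℤ, i < min (a₁ - 1) a₂ ∨ max (b₁ - 1) b₂ < i → IsZero (G.X i)) ∧
      (∀ i : ℤ, P (G.X i)) ∧ Nonempty (Q.obj G ≅ T.obj₃) := by
  have : E.IsKProjective :=
    isKProjective_of_hlift P hlift E b₁ (fun i hi => hvan₁ i (Or.inr hi)) hP₁
  obtain ⟨f, hf⟩ := exists_Q_map_eq (e₁.hom ≫ T.mor₁ ≫ e₂.inv)
  have comm : (Q.mapTriangle.obj (mappingCone.triangle f)).mor₁ ≫ e₂.hom = e₁.hom ≫ T.mor₁ := by
    change Q.map f ≫ e₂.hom = _
    rw [hf]
    simp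
  let eT := isoTriangleOfIso₁₂ _ _ (mappingCone_triangle_distinguished f) hT e₁ e₂ comm
  refine ⟨mappingCone f, fun i hi => ?_, fun i => ?_, ⟨Triangle.π₃.mapIso eT⟩⟩
  · rw [mappingCone.isZero_X_iff]
    rcases hi with hi | hi
    · exact ⟨hvan₁ _ (Or.inl (by have := min_le_left (a₁ - 1) a₂; lia)),
        hvan₂ _ (Or.inl (by have := min_le_right (a₁ - 1) a₂; lia))⟩
    · exact ⟨hvan₁ _ (Or.inr (by have := le_max_left (b₁ - 1) b₂; lia)),
        hvan₂ _ (Or.inr (by have := le_max_right (b₁ - 1) b₂; lia))⟩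
  · exact prop_mappingCone_X P hsum f i (i + 1) rfl (hP₁ _) (hP₂ i)


open DerivedCategory in
/-- Biproducts of complexes of perfect amplitude in `[a, b]`. -/
theorem exists_strictPerfect_biprod [P.IsClosedUnderIsomorphisms]
    (hsum : ∀ X Y : C, P X → P Y → P (X ⨯ Y)) (a b : ℤ)
    (F' F'' : DerivedCategory C) [HasBinaryBiproduct F' F'']
    (E' : CochainComplex C ℤ) (hP' : ∀ i : ℤ, P (E'.X i))
    (hvan' : ∀ i : ℤ, i < a ∨ b < i → IsZero (E'.X i)) (e' : Q.obj E' ≅ F')
    (E'' : CochainComplex C ℤ) (hP'' : ∀ i : ℤ, P (E''.X i))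
    (hvan'' : ∀ i : ℤ, i < a ∨ b < i → IsZero (E''.X i)) (e'' : Q.obj E'' ≅ F'') :
    ∃ E : CochainComplex C ℤ, (∀ i : ℤ, P (E.X i)) ∧ (∀ i : ℤ, i < a ∨ b < i → IsZero (E.X i)) ∧
      Nonempty (Q.obj E ≅ (F' ⊞ F'')) := by
  have : PreservesBinaryBiproducts (Q (C := C)) := preservesBinaryBiproducts_of_preservesBiproducts Q
  refine ⟨E' ⊞ E'', fun i => ?_, fun i hi => ?_, ⟨Q.mapBiprod E' E'' ≪≫ biprod.mapIso e' e''⟩⟩
  · exact (P.prop_iff_of_iso (biprodXIso E' E'' i)).2 (prop_biprod P hsum (hP' i) (hP'' i))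
  · refine IsZero.of_iso ?_ (biprodXIso E' E'' i)
    rw [biprod_isZero_iff]
    exact ⟨hvan' i hi, hvan'' i hi⟩


open DerivedCategory CochainComplex HomologicalComplex in
/-- An `(a+1)`-pseudo-coherent object with cohomology in `[a, b]` is represented by a complex
in `[a, b]` with terms in `P` in degrees `> a`. -/
theorem exists_repr_in_range [P.IsClosedUnderIsomorphisms] [P.ContainsZero]
    (hsum : ∀ X Y : C, P X → P Y → P (X ⨯ Y))
    (hqs : IsQuasiStableUnderKernels P) (hql : IsQuasiLiftable P) (a b : ℤ) (hab : a ≤ b)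
    (F : DerivedCategory C) (hF : IsNPC P (a + 1) F)
    (hcoh : ∀ i : ℤ, i < a ∨ b < i → IsZero ((DerivedCategory.homologyFunctor C i).obj F)) :
    ∃ Y : CochainComplex C ℤ, (∀ i : ℤ, i < a ∨ b < i → IsZero (Y.X i)) ∧
      (∀ i : ℤ, a < i → P (Y.X i)) ∧ Nonempty (Q.obj Y ≅ F) := by
  obtain ⟨X, hX, ⟨e⟩⟩ := id hF
  have hXh : ∀ i : ℤ, i < a ∨ b < i → IsZero (X.homology i) := fun i hi =>
    (hcoh i hi).of_iso ((homologyQIso X i).symm ≪≫ (DerivedCategory.homologyFunctor C i).mapIso e)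
  obtain ⟨X', v, hX', hz', hq⟩ := exists_strictPC_quasiIso_of_isNPC hsum hqs hql (n := a + 1)
    (m := b + 1) (X := X) ⟨X, hX, ⟨Iso.refl _⟩⟩ (fun i hi => by
      rw [exactAt_iff_isZero_homology]
      exact hXh i (Or.inr (by lia)))
  have hGE : X'.IsGE a := by
    rw [CochainComplex.isGE_iff]
    intro i hi
    rw [exactAt_iff_isZero_homology]
    exact (hXh i (Or.inl hi)).of_iso (asIso (homologyMap v i))
  have hq' : QuasiIso (X'.πTruncGE a) := by
    rw [CochainComplex.quasiIso_πTruncGE_iff]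
    exact hGE
  have h1 : IsIso (Q.map v) := by rw [isIso_Q_map_iff_quasiIso]; exact hq
  have h2 : IsIso (Q.map (X'.πTruncGE a)) := by rw [isIso_Q_map_iff_quasiIso]; exact hq'
  refine ⟨X'.truncGE a, fun i hi => ?_, fun i hi => ?_,
    ⟨(asIso (Q.map (X'.πTruncGE a))).symm ≪≫ asIso (Q.map v) ≪≫ e⟩⟩
  · rcases hi with hi | hi
    · exact CochainComplex.isZero_of_isStrictlyGE _ a i hi
    · exact (hz' i (by lia)).of_iso (X'.truncGEXIso a i (by lia))
  · exact (P.prop_iff_of_iso (X'.truncGEXIso a i hi)).2 (hX'.2 i (by lia))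


open DerivedCategory CochainComplex HomologicalComplex in
/-- Direct summands of objects of perfect amplitude in `[a, b]`, when `P` is stable under
direct factors. -/
theorem exists_strictPerfect_of_biprod [P.IsClosedUnderIsomorphisms] [P.ContainsZero]
    (hsum : ∀ X Y : C, P X → P Y → P (X ⨯ Y))
    (hlift : ∀ (E F : C) (u : E ⟶ F), Epi u → P F → IsSplitEpi u)
    (hst : ∀ (E F : C) (u : E ⟶ F), Epi u → P E → P F → P (kernel u))
    (hfac : ∀ (E' E'' : C) [HasBinaryBiproduct E' E''], P (E' ⊞ E'') → P E' ∧ P E'')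
    (a b : ℤ) (hab : a ≤ b) (F' F'' : DerivedCategory C) [HasBinaryBiproduct F' F'']
    (E : CochainComplex C ℤ) (hPE : ∀ i : ℤ, P (E.X i))
    (hvanE : ∀ i : ℤ, i < a ∨ b < i → IsZero (E.X i)) (e : Q.obj E ≅ (F' ⊞ F'')) :
    (∃ E' : CochainComplex C ℤ, (∀ i : ℤ, P (E'.X i)) ∧
      (∀ i : ℤ, i < a ∨ b < i → IsZero (E'.X i)) ∧ Nonempty (Q.obj E' ≅ F')) ∧
    (∃ E'' : CochainComplex C ℤ, (∀ i : ℤ, P (E''.X i)) ∧
      (∀ i : ℤ, i < a ∨ b < i → IsZero (E''.X i)) ∧ Nonempty (Q.obj E'' ≅ F'')) := by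
  have hql := isQuasiLiftable_of_hlift P hlift
  have hqs := isQuasiStableUnderKernels_of_hst P hst
  have hnpc : IsNPC P (a + 1) (F' ⊞ F'') :=
    ⟨E, isStrictPC_of_forall (fun i hi => hvanE i (Or.inr hi)) hPE _, ⟨e⟩⟩
  obtain ⟨h', h''⟩ := isNPC_of_isBilimit hsum hqs hql (BinaryBiproduct.bicone F' F'')
    (BinaryBiproduct.isBilimit F' F'') hnpc
  have hcoh : ∀ i : ℤ, i < a ∨ b < i →
      IsZero ((DerivedCategory.homologyFunctor C i).obj (F' ⊞ F'')) := fun i hi =>
    IsZero.of_iso (ShortComplex.isZero_homology_of_isZero_X₂ _ (hvanE i hi))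
      ((DerivedCategory.homologyFunctor C i).mapIso e.symm ≪≫ homologyQIso E i)
  obtain ⟨Y', hvan', hP', ⟨e'⟩⟩ := exists_repr_in_range P hsum hqs hql a b hab F' h'
    (fun i hi => isZero_homology_of_retract biprod.inl biprod.fst biprod.inl_fst i (hcoh i hi))
  obtain ⟨Y'', hvan'', hP'', ⟨e''⟩⟩ := exists_repr_in_range P hsum hqs hql a b hab F'' h''
    (fun i hi => isZero_homology_of_retract biprod.inr biprod.snd biprod.inr_snd i (hcoh i hi))
  have : PreservesBinaryBiproducts (Q (C := C)) := preservesBinaryBiproducts_of_preservesBiproducts Q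
  have hYa : P ((Y' ⊞ Y'').X a) := by
    refine prop_first_term P hsum hlift hst a b (Y' ⊞ Y'') (fun i hi => ?_) (fun i hi => ?_)
      E hPE hvanE (e ≪≫ (biprod.mapIso e' e'').symm ≪≫ (Q.mapBiprod Y' Y'').symm)
    · refine IsZero.of_iso ?_ (biprodXIso Y' Y'' i)
      rw [biprod_isZero_iff]
      exact ⟨hvan' i hi, hvan'' i hi⟩
    · exact (P.prop_iff_of_iso (biprodXIso Y' Y'' i)).2 (prop_biprod P hsum (hP' i hi) (hP'' i hi))
  obtain ⟨ha', ha''⟩ := hfac _ _ ((P.prop_iff_of_iso (biprodXIso Y' Y'' a)).1 hYa)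
  refine ⟨⟨Y', fun i => ?_, hvan', ⟨e'⟩⟩, ⟨Y'', fun i => ?_, hvan'', ⟨e''⟩⟩⟩
  · rcases lt_trichotomy i a with h | h | h
    · exact P.prop_of_isZero (hvan' i (Or.inl h))
    · subst h; exact ha'
    · exact hP' i h
  · rcases lt_trichotomy i a with h | h | h
    · exact P.prop_of_isZero (hvan'' i (Or.inl h))
    · subst h; exact ha''
    · exact hP'' i h


open DerivedCategory CochainComplex HomologicalComplex CategoryTheory.Pretriangulated ZeroObject

/-- `F` is perfect relative to `P`: isomorphic to a bounded complex with terms in `P`. -/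
def IsPerf : ObjectProperty (DerivedCategory C) := fun F =>
  ∃ (E : CochainComplex C ℤ) (a b : ℤ), (∀ i : ℤ, i < a ∨ b < i → IsZero (E.X i)) ∧
    (∀ i : ℤ, P (E.X i)) ∧ Nonempty (Q.obj E ≅ F)

variable {P}

lemma IsPerf.of_iso {F F' : DerivedCategory C} (h : IsPerf P F) (e : F ≅ F') : IsPerf P F' := by
  obtain ⟨E, a, b, hv, hP, ⟨e'⟩⟩ := h
  exact ⟨E, a, b, hv, hP, ⟨e' ≪≫ e⟩⟩

instance : (IsPerf (C := C) P).IsClosedUnderIsomorphisms where
  of_iso e h := IsPerf.of_iso h e

lemma IsPerf.shift {F : DerivedCategory C} (h : IsPerf P F) (m : ℤ) :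
    IsPerf P ((CategoryTheory.shiftFunctor (DerivedCategory C) m).obj F) := by
  obtain ⟨E, a, b, hv, hP, ⟨e⟩⟩ := h
  refine ⟨(CategoryTheory.shiftFunctor (CochainComplex C ℤ) m).obj E, a - m, b - m, fun i hi => ?_,
    fun i => hP (i + m),
    ⟨((Q.commShiftIso m).app E) ≪≫ (CategoryTheory.shiftFunctor (DerivedCategory C) m).mapIso e⟩⟩
  exact hv (i + m) (by lia)

lemma isPerf_of_isZero [P.IsClosedUnderIsomorphisms] [P.ContainsZero] {Z : DerivedCategory C} (hZ : IsZero Z) : IsPerf P Z := by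
  have hzero : ∀ i : ℤ, IsZero ((0 : CochainComplex C ℤ).X i) := fun i =>
    (HomologicalComplex.eval C _ i).map_isZero (isZero_zero _)
  exact ⟨0, 0, 0, fun i _ => hzero i, fun i => P.prop_of_isZero (hzero i),
    ⟨((Q (C := C)).map_isZero (isZero_zero _)).iso hZ⟩⟩

lemma isPerf_single [P.IsClosedUnderIsomorphisms] [P.ContainsZero] (n : ℤ) {X : C} (hX : P X) :
    IsPerf P ((DerivedCategory.singleFunctor C n).obj X) := by
  refine ⟨(HomologicalComplex.single C (ComplexShape.up ℤ) n).obj X, n, n,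
    fun i hi => isZero_single_obj_X _ n X i (by lia), fun i => ?_, ⟨(singleIsoQ n X).symm⟩⟩
  by_cases h : i = n
  · subst h
    exact (P.prop_iff_of_iso (singleObjXSelf _ i X)).2 hX
  · exact P.prop_of_isZero (isZero_single_obj_X _ n X i h)

/-- If `X[0]` is perfect then so is `X[-b]`. -/
lemma IsPerf.single_shift {X : C} (h : IsPerf P ((DerivedCategory.singleFunctor C 0).obj X)) (b : ℤ) :
    IsPerf P ((DerivedCategory.singleFunctor C b).obj X) :=
  (h.shift (-b)).of_iso (singleShiftIso b X)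

section

variable [P.IsClosedUnderIsomorphisms] [P.ContainsZero]
  (hsum : ∀ X Y : C, P X → P Y → P (X ⨯ Y))
  (hlift : ∀ (E F : C) (u : E ⟶ F), Epi u → P F → IsSplitEpi u)

include hsum hlift

theorem isPerf_obj₃ (T : Triangle (DerivedCategory C)) (hT : T ∈ distTriang _)
    (h₁ : IsPerf P T.obj₁) (h₂ : IsPerf P T.obj₂) : IsPerf P T.obj₃ := by
  obtain ⟨E, a₁, b₁, hvan₁, hP₁, ⟨e₁⟩⟩ := h₁
  obtain ⟨F, a₂, b₂, hvan₂, hP₂, ⟨e₂⟩⟩ := h₂
  obtain ⟨G, hG, hPG, hG'⟩ := exists_strictPerfect_obj₃ P hsum hlift T hT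
    E a₁ b₁ hvan₁ hP₁ e₁ F a₂ b₂ hvan₂ hP₂ e₂
  exact ⟨G, _, _, hG, hPG, hG'⟩

theorem isPerf_obj₂ (T : Triangle (DerivedCategory C)) (hT : T ∈ distTriang _)
    (h₁ : IsPerf P T.obj₁) (h₃ : IsPerf P T.obj₃) : IsPerf P T.obj₂ :=
  isPerf_obj₃ hsum hlift T.invRotate (inv_rot_of_distTriang _ hT) (h₃.shift (-1)) h₁

theorem isPerf_obj₁ (T : Triangle (DerivedCategory C)) (hT : T ∈ distTriang _)
    (h₂ : IsPerf P T.obj₂) (h₃ : IsPerf P T.obj₃) : IsPerf P T.obj₁ :=
  ((isPerf_obj₃ hsum hlift T.rotate (rot_of_distTriang _ hT) h₂ h₃).shift (-1)).of_iso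
    (shiftShiftNeg T.obj₁ (1 : ℤ))

end


section

variable [P.IsClosedUnderIsomorphisms] [P.ContainsZero]
  (hsum : ∀ X Y : C, P X → P Y → P (X ⨯ Y))
  (hlift : ∀ (E F : C) (u : E ⟶ F), Epi u → P F → IsSplitEpi u)

include hsum hlift

/-- Direct summands of perfect objects are perfect (when `P` is stable under kernels of
epimorphisms and direct factors). -/
theorem isPerf_of_biprod (hst : ∀ (E F : C) (u : E ⟶ F), Epi u → P E → P F → P (kernel u))
    (hfac : ∀ (E' E'' : C) [HasBinaryBiproduct E' E''], P (E' ⊞ E'') → P E' ∧ P E'')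
    (F' F'' : DerivedCategory C) [HasBinaryBiproduct F' F''] (h : IsPerf P (F' ⊞ F'')) :
    IsPerf P F' ∧ IsPerf P F'' := by
  obtain ⟨E, a, b, hv, hP, ⟨e⟩⟩ := h
  obtain ⟨⟨E', hP', hv', he'⟩, ⟨E'', hP'', hv'', he''⟩⟩ :=
    exists_strictPerfect_of_biprod P hsum hlift hst hfac a (max a b) (le_max_left a b) F' F'' E hP
      (fun i hi => hv i (by
        rcases hi with hi | hi
        · exact Or.inl hi
        · exact Or.inr (by have := le_max_right a b; lia))) e
  exact ⟨⟨E', _, _, hv', hP', he'⟩, ⟨E'', _, _, hv'', hP'', he''⟩⟩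

/-- A bounded complex whose terms are perfect (placed in degree `0`) is perfect. -/
theorem isPerf_of_termwise (F : CochainComplex C ℤ) (a b : ℤ)
    (hvan : ∀ i : ℤ, i < a ∨ b < i → IsZero (F.X i))
    (hterm : ∀ i : ℤ, IsPerf P ((DerivedCategory.singleFunctor C 0).obj (F.X i))) :
    IsPerf P (Q.obj F) :=
  devissage_termwise (IsPerf P) (fun T hT h₁ h₃ => isPerf_obj₂ hsum hlift T hT h₁ h₃)
    (fun _ hZ => isPerf_of_isZero hZ) F a b hvan (fun i => (hterm i).single_shift i)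

/-- An object with bounded cohomology whose cohomology objects are perfect is perfect. -/
theorem isPerf_of_homology (F : DerivedCategory C) (a b : ℤ)
    (hvan : ∀ i : ℤ, i < a ∨ b < i → IsZero ((DerivedCategory.homologyFunctor C i).obj F))
    (hH : ∀ i : ℤ, IsPerf P ((DerivedCategory.singleFunctor C 0).obj
      ((DerivedCategory.homologyFunctor C i).obj F))) : IsPerf P F :=
  devissage_homology (IsPerf P) (fun T hT h₁ h₃ => isPerf_obj₂ hsum hlift T hT h₁ h₃)
    (fun _ hZ => isPerf_of_isZero hZ) F a b hvan (fun i => (hH i).single_shift i)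

end

end Derived

end Groth.Agent.Lib.Helper13.PC
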