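import Mathlib.LinearAlgebra.TensorProduct.Prod
import Mathlib.RingTheory.Flat.EquationalCriterion
import Mathlib.RingTheory.Flat.Equalizer
import Mathlib.LinearAlgebra.Pi
import Mathlib.RingTheory.Noetherian.Basic
import Mathlib.Algebra.Category.ModuleCat.Kernels
import Mathlib.Algebra.Module.FinitePresentation
import Groth.Agent.Lib.Helper13.PCPerfect
import Groth.Agent.Lib.Helper13.PCInfinite
import Groth.Prelude.Def_DRing2
import Mathlib.Algebra.Category.ModuleCat.Biproducts
import Mathlib.LinearAlgebra.FreeModule.Finite.Basic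
import Mathlib.RingTheory.Finiteness.Prod

/-!
# Bridge between the abstract pseudo-coherence library (`PC*`) and `Def_DRing2`
(`P` = finite free, resp. finite projective modules over a commutative ring).
-/

set_option autoImplicit false
universe u
open CategoryTheory CategoryTheory.Limits
open PCoh

namespace Groth.Agent.Lib.Helper13.DR

open Groth.Agent.Lib.Helper13.PC

variable (A : Type u) [CommRing A]

/-- Finite free modules. -/
def Pff : ObjectProperty (ModuleCat.{u} A) := fun M => Module.Finite A M ∧ Module.Free A M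

/-- Finite projective modules. -/
def Pfp : ObjectProperty (ModuleCat.{u} A) := fun M => Module.Finite A M ∧ Module.Projective A M

variable {A}

lemma Pff_le_Pfp {M : ModuleCat.{u} A} (h : Pff A M) : Pfp A M :=
  ⟨h.1, by have := h.2; infer_instance⟩

instance : (Pff A).IsClosedUnderIsomorphisms where
  of_iso e h := by
    obtain ⟨h1, h2⟩ := h
    exact ⟨Module.Finite.equiv e.toLinearEquiv, Module.Free.of_equiv e.toLinearEquiv⟩

instance : (Pfp A).IsClosedUnderIsomorphisms where
  of_iso e h := by
    obtain ⟨h1, h2⟩ := h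
    exact ⟨Module.Finite.equiv e.toLinearEquiv, Module.Projective.of_equiv e.toLinearEquiv⟩

lemma Pff_of_subsingleton (M : ModuleCat.{u} A) [Subsingleton M] : Pff A M :=
  ⟨inferInstance, inferInstance⟩

instance : (Pff A).ContainsZero where
  exists_zero := ⟨ModuleCat.of A PUnit, ModuleCat.isZero_of_subsingleton _, Pff_of_subsingleton _⟩

instance : (Pfp A).ContainsZero where
  exists_zero := ⟨ModuleCat.of A PUnit, ModuleCat.isZero_of_subsingleton _,
    Pff_le_Pfp (Pff_of_subsingleton _)⟩

lemma Pff_prod (X Y : ModuleCat.{u} A) (hX : Pff A X) (hY : Pff A Y) : Pff A (X ⨯ Y) := by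
  obtain ⟨h1, h2⟩ := hX
  obtain ⟨h3, h4⟩ := hY
  have : Pff A (ModuleCat.of A (X × Y)) := ⟨inferInstance, inferInstance⟩
  exact (ObjectProperty.prop_iff_of_iso _
    ((biprod.isoProd X Y).symm ≪≫ ModuleCat.biprodIsoProd X Y)).2 this

lemma Pfp_prod (X Y : ModuleCat.{u} A) (hX : Pfp A X) (hY : Pfp A Y) : Pfp A (X ⨯ Y) := by
  obtain ⟨h1, h2⟩ := hX
  obtain ⟨h3, h4⟩ := hY
  have : Pfp A (ModuleCat.of A (X × Y)) := ⟨inferInstance, inferInstance⟩
  exact (ObjectProperty.prop_iff_of_iso _
    ((biprod.isoProd X Y).symm ≪≫ ModuleCat.biprodIsoProd X Y)).2 this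

/-- Retracts of finite projective modules are finite projective. -/
lemma Pfp_of_retract {X Y : ModuleCat.{u} A} (i : X ⟶ Y) (r : Y ⟶ X) (h : i ≫ r = 𝟙 X)
    (hY : Pfp A Y) : Pfp A X := by
  obtain ⟨h1, h2⟩ := hY
  have hri : r.hom ∘ₗ i.hom = LinearMap.id := by
    ext x
    have := congrArg (fun f => f.hom x) h
    simpa using this
  refine ⟨Module.Finite.of_surjective r.hom (fun x => ⟨i.hom x, ?_⟩),
    Module.Projective.of_split i.hom r.hom hri⟩
  exact LinearMap.congr_fun hri x

lemma projective_of_Pfp {M : ModuleCat.{u} A} (h : Pfp A M) : Projective M := by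
  have := h.2
  exact (IsProjective.iff_projective (R := A) (P := M)).1 this

lemma hlift_Pfp (E F : ModuleCat.{u} A) (u : E ⟶ F) (hu : Epi u) (hF : Pfp A F) : IsSplitEpi u := by
  have := projective_of_Pfp hF
  exact ⟨⟨Projective.factorThru (𝟙 F) u, Projective.factorThru_comp _ _⟩⟩

lemma hlift_Pff (E F : ModuleCat.{u} A) (u : E ⟶ F) (hu : Epi u) (hF : Pff A F) : IsSplitEpi u :=
  hlift_Pfp E F u hu (Pff_le_Pfp hF)

lemma hst_Pfp (E F : ModuleCat.{u} A) (u : E ⟶ F) (hu : Epi u) (hE : Pfp A E) (hF : Pfp A F) :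
    Pfp A (kernel u) := by
  obtain ⟨⟨s, hs⟩⟩ := hlift_Pfp E F u hu hF
  refine Pfp_of_retract (kernel.ι u) (kernel.lift u (𝟙 E - u ≫ s) ?_) ?_ hE
  · rw [Preadditive.sub_comp, Category.id_comp, Category.assoc, hs, Category.comp_id, sub_self]
  · rw [← cancel_mono (kernel.ι u), Category.assoc, kernel.lift_ι, Preadditive.comp_sub,
      Category.comp_id, kernel.condition_assoc, zero_comp, sub_zero, Category.id_comp]

lemma hql_Pfp : IsQuasiLiftable (Pfp A) := isQuasiLiftable_of_hlift _ hlift_Pfp
lemma hql_Pff : IsQuasiLiftable (Pff A) := isQuasiLiftable_of_hlift _ hlift_Pff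
lemma hqs_Pfp : IsQuasiStableUnderKernels (Pfp A) := isQuasiStableUnderKernels_of_hst _ hst_Pfp

/-- `Pff`-finite type = `Pfp`-finite type = finitely generated. -/
lemma isOfFiniteType_Pff_iff (M : ModuleCat.{u} A) : IsOfFiniteType (Pff A) M ↔ Module.Finite A M := by
  constructor
  · rintro ⟨E, π, ⟨h1, -⟩, hπ⟩
    exact Module.Finite.of_surjective π.hom ((ModuleCat.epi_iff_surjective π).1 hπ)
  · intro h
    obtain ⟨n, f, hf⟩ := Module.Finite.exists_fin' A M
    exact ⟨ModuleCat.of A (Fin n → A), ModuleCat.ofHom f, ⟨inferInstance, inferInstance⟩,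
      (ModuleCat.epi_iff_surjective _).2 hf⟩

lemma isOfFiniteType_Pfp_iff (M : ModuleCat.{u} A) : IsOfFiniteType (Pfp A) M ↔ Module.Finite A M := by
  constructor
  · rintro ⟨E, π, ⟨h1, -⟩, hπ⟩
    exact Module.Finite.of_surjective π.hom ((ModuleCat.epi_iff_surjective π).1 hπ)
  · intro h
    obtain ⟨E, π, hE, hπ⟩ := (isOfFiniteType_Pff_iff M).2 h
    exact ⟨E, π, Pff_le_Pfp hE, hπ⟩

lemma hqs_Pff : IsQuasiStableUnderKernels (Pff A) := by
  intro K hK hz hP
  exact (isOfFiniteType_Pff_iff _).2 ((isOfFiniteType_Pfp_iff _).1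
    (hqs_Pfp K hK hz (fun i hi => Pff_le_Pfp (hP i hi))))

section Derived

attribute [local instance] HasDerivedCategory.standard

variable {A : Type u} [CommRing A]

open DerivedCategory

/-- Retracts of `n`-pseudo-coherent single objects (abelian-level retract). -/
lemma isNPC_single_of_retract {C : Type*} [Category C] [Abelian C] [HasDerivedCategory C]
    {P : ObjectProperty C} [P.IsClosedUnderIsomorphisms] [P.ContainsZero]
    (hsum : ∀ X Y : C, P X → P Y → P (X ⨯ Y))
    (hqs : IsQuasiStableUnderKernels P) (hql : IsQuasiLiftable P) {X Y : C} (i : X ⟶ Y) (r : Y ⟶ X)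
    (h : i ≫ r = 𝟙 X) (n : ℤ) (hY : IsNPC P n ((DerivedCategory.singleFunctor C 0).obj Y)) :
    IsNPC P n ((DerivedCategory.singleFunctor C 0).obj X) := by
  have : IsSplitMono i := ⟨⟨r, h⟩⟩
  let b := binaryBiconeOfIsSplitMonoOfCokernel (cokernelIsCokernel i)
  have hb : b.IsBilimit := isBilimitBinaryBiconeOfIsSplitMonoOfCokernel (cokernelIsCokernel i)
  have : PreservesBinaryBiproducts (DerivedCategory.singleFunctor C 0) :=
    preservesBinaryBiproducts_of_preservesBiproducts _
  exact (isNPC_of_isBilimit hsum hqs hql ((DerivedCategory.singleFunctor C 0).mapBinaryBicone b)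
    (isBinaryBilimitOfPreserves _ hb) hY).1

/-- Finite projective modules are `Pff`-pseudo-coherent. -/
lemma isPC_single_of_Pfp {M : ModuleCat.{u} A} (hM : Pfp A M) :
    IsPC (Pff A) ((DerivedCategory.singleFunctor (ModuleCat.{u} A) 0).obj M) := by
  intro n
  obtain ⟨h1, h2⟩ := hM
  obtain ⟨k, f, hf⟩ := Module.Finite.exists_fin' A M
  obtain ⟨s, hs⟩ := Module.projective_lifting_property f LinearMap.id hf
  refine isNPC_single_of_retract Pff_prod hqs_Pff hql_Pff (ModuleCat.ofHom s) (ModuleCat.ofHom f) ?_ n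
    (isNPC_single 0 (X := ModuleCat.of A (Fin k → A)) ⟨inferInstance, inferInstance⟩ n)
  ext x
  exact LinearMap.congr_fun hs x

lemma isNPC_Pfp_iff_Pff (n : ℤ) (K : DerivedCategory (ModuleCat.{u} A)) :
    IsNPC (Pfp A) n K ↔ IsNPC (Pff A) n K := by
  constructor
  · rintro ⟨E, ⟨⟨b, hb⟩, hP⟩, ⟨e⟩⟩
    exact (isNPC_of_termwise Pff_prod hqs_Pff hql_Pff E b hb
      (fun i hi => isPC_single_of_Pfp (hP i hi) (n - i))).of_iso e
  · rintro ⟨E, ⟨hb, hP⟩, e⟩
    exact ⟨E, ⟨hb, fun i hi => Pff_le_Pfp (hP i hi)⟩, e⟩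

/-- `DRing.IsPseudoCoherent` is `n`-pseudo-coherence relative to finite free modules. -/
lemma isPseudoCoherent_iff (m : ℤ) (K : Dual.D A) :
    DRing.IsPseudoCoherent A m K ↔ IsNPC (Pff A) m K := by
  constructor
  · rintro ⟨E, a, b, α, hv, hff, hiso, hepi⟩
    exact isNPC_of_nIso Pff_prod (E := E) ⟨⟨b, fun i hi => hv i (Or.inr hi)⟩, fun i _ => hff i⟩ α
      hiso hepi
  · intro h
    obtain ⟨E, b, α, hz, hP, hiso, hepi⟩ := exists_nIso_of_isNPC Pff_prod hqs_Pff hql_Pff h
    exact ⟨E, m, b, α, hz, hP, hiso, hepi⟩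

/-- `DRing.IsPseudoCoherent'` is pseudo-coherence relative to finite free modules. -/
lemma isPseudoCoherent'_iff (K : Dual.D A) : DRing.IsPseudoCoherent' A K ↔ IsPC (Pff A) K := by
  constructor
  · rintro ⟨E, b, hb, hff, ⟨e⟩⟩
    exact isPC_of_iso (isPC_Q_of_strictPCAll (P := Pff A) (E := E) ⟨⟨b, hb⟩, hff⟩) e
  · intro h
    obtain ⟨E₀, ⟨⟨b, hb⟩, -⟩, ⟨e⟩⟩ := h 0
    obtain ⟨E, hP, hz, hE⟩ := exists_strictPCAll_iso Pff_prod hqs_Pff hql_Pff K h (b + 1)
      (fun i hi => IsZero.of_iso (ShortComplex.isZero_homology_of_isZero_X₂ _ (hb i (by lia)))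
        ((DerivedCategory.homologyFunctor _ i).mapIso e.symm ≪≫ homologyQIso E₀ i))
    exact ⟨E, b, fun i hi => hz i (by lia), hP, hE⟩

lemma isPseudoCoherent'_iff_forall (K : Dual.D A) :
    DRing.IsPseudoCoherent' A K ↔ ∀ m : ℤ, DRing.IsPseudoCoherent A m K := by
  rw [isPseudoCoherent'_iff]
  exact forall_congr' fun m => (isPseudoCoherent_iff m K).symm

/-- `DRing.IsPerfect` in terms of `Pfp`. -/
lemma isPerfect_iff (K : Dual.D A) : DRing.IsPerfect A K ↔
    ∃ (E : CochainComplex (ModuleCat.{u} A) ℤ) (a b : ℤ), (∀ i : ℤ, i < a ∨ b < i → IsZero (E.X i)) ∧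
      (∀ i : ℤ, Pfp A (E.X i)) ∧ Nonempty (Q.obj E ≅ K) := Iff.rfl

/-- `M[0]` is `0`-pseudo-coherent iff `M` is finitely generated. -/
lemma isNPC_single_zero_iff (M : ModuleCat.{u} A) :
    IsNPC (Pff A) 0 ((DerivedCategory.singleFunctor (ModuleCat.{u} A) 0).obj M) ↔
      Module.Finite A M := by
  rw [← isOfFiniteType_Pff_iff]
  exact ⟨fun h => isOfFiniteType_of_isNPC_single hqs_Pff h,
    fun h => isNPC_single_of_isOfFiniteType Pff_prod hql_Pff h⟩

/-- The short exact sequence `0 → ker π → E → M → 0` of an epimorphism. -/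
lemma shortExact_kernel {E M : ModuleCat.{u} A} (π : E ⟶ M) [Epi π] :
    (ShortComplex.mk (kernel.ι π) π (kernel.condition π)).ShortExact :=
  { exact := ShortComplex.exact_kernel π
    mono_f := inferInstanceAs (Mono (kernel.ι π))
    epi_g := inferInstanceAs (Epi π) }

lemma finite_kernel_iff {n : ℕ} {M : ModuleCat.{u} A} (f : (Fin n → A) →ₗ[A] M) :
    Module.Finite A (kernel (ModuleCat.ofHom f : ModuleCat.of A (Fin n → A) ⟶ M) : ModuleCat.{u} A) ↔
      (LinearMap.ker f).FG := by
  rw [← Module.Finite.iff_fg]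
  exact Module.Finite.equiv_iff (ModuleCat.kernelIsoKer (ModuleCat.ofHom f)).toLinearEquiv

/-- `M[0]` is `(-1)`-pseudo-coherent iff `M` is finitely presented. -/
lemma isNPC_single_neg_one_iff (M : ModuleCat.{u} A) :
    IsNPC (Pff A) (-1) ((DerivedCategory.singleFunctor (ModuleCat.{u} A) 0).obj M) ↔
      Module.FinitePresentation A M := by
  constructor
  · intro h
    have hfin : Module.Finite A M := (isNPC_single_zero_iff M).1 (h.of_le (by lia))
    obtain ⟨n, f, hf⟩ := Module.Finite.exists_fin' A M
    let π : ModuleCat.of A (Fin n → A) ⟶ M := ModuleCat.ofHom f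
    have : Epi π := (ModuleCat.epi_iff_surjective _).2 hf
    have hS := shortExact_kernel π
    have hK : IsNPC (Pff A) (-1 + 1) hS.singleTriangle.obj₁ :=
      isNPC_obj₁ Pff_prod hqs_Pff hql_Pff _ hS.singleTriangle_distinguished
        (isNPC_single 0 (X := ModuleCat.of A (Fin n → A)) ⟨inferInstance, inferInstance⟩ _) h
    rw [show (-1 : ℤ) + 1 = 0 by ring] at hK
    have hK' : Module.Finite A (kernel π : ModuleCat.{u} A) := (isNPC_single_zero_iff _).1 hK
    exact (Module.FinitePresentation.fg_ker_iff f hf).1 ((finite_kernel_iff f).1 hK')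
  · intro h
    obtain ⟨n, f, hf⟩ := Module.Finite.exists_fin' A M
    let π : ModuleCat.of A (Fin n → A) ⟶ M := ModuleCat.ofHom f
    have : Epi π := (ModuleCat.epi_iff_surjective _).2 hf
    have hS := shortExact_kernel π
    have hK' : Module.Finite A (kernel π : ModuleCat.{u} A) :=
      (finite_kernel_iff f).2 ((Module.FinitePresentation.fg_ker_iff f hf).2 h)
    have hK : IsNPC (Pff A) (-1 + 1) hS.singleTriangle.obj₁ := by
      rw [show (-1 : ℤ) + 1 = 0 by ring]
      exact (isNPC_single_zero_iff _).2 hK'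
    exact isNPC_obj₃ Pff_prod hqs_Pff hql_Pff _ hS.singleTriangle_distinguished hK
      (isNPC_single 0 (X := ModuleCat.of A (Fin n → A)) ⟨inferInstance, inferInstance⟩ _)

lemma finite_kernel_iff' {E M : ModuleCat.{u} A} (u : E ⟶ M) :
    Module.Finite A (kernel u : ModuleCat.{u} A) ↔ (LinearMap.ker u.hom).FG := by
  rw [← Module.Finite.iff_fg]
  exact Module.Finite.equiv_iff (ModuleCat.kernelIsoKer u).toLinearEquiv

/-- "Coherence" hypothesis for `Pff A`: kernels of maps from finite free modules to `M`
are finitely generated. -/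
def KerFG (A : Type u) [CommRing A] (M : ModuleCat.{u} A) : Prop :=
  ∀ (E : ModuleCat.{u} A) (u : E ⟶ M), Pff A E → (LinearMap.ker u.hom).FG

lemma isPrecoherent_iff_kerFG (M : ModuleCat.{u} A) : IsPrecoherent (Pff A) M ↔ KerFG A M := by
  refine forall_congr' fun E => forall_congr' fun u => forall_congr' fun _ => ?_
  rw [isOfFiniteType_Pff_iff, finite_kernel_iff']

lemma kerFG_of_isNoetherianRing [IsNoetherianRing A] (M : ModuleCat.{u} A) : KerFG A M := by
  intro E u hE
  have := hE.1
  have : IsNoetherian A E := isNoetherian_of_isNoetherianRing_of_finite A E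
  exact IsNoetherian.noetherian _

/-- The abstract coherence hypothesis on `Pff A`, from: kernels of maps between finite free
modules are finitely generated. -/
lemma hcoh_of_kerFG (h : ∀ M : ModuleCat.{u} A, Pff A M → KerFG A M) :
    ∀ (X E : ModuleCat.{u} A) (u : E ⟶ X), Pff A X → Pff A E → IsOfFiniteType (Pff A) (kernel u) :=
  fun X E u hX hE => by
    rw [isOfFiniteType_Pff_iff, finite_kernel_iff']
    exact h X hX E u hE

lemma isCoherent_iff (M : ModuleCat.{u} A) :
    IsCoherent (Pff A) M ↔ Module.Finite A M ∧ KerFG A M := by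
  unfold IsCoherent
  rw [isOfFiniteType_Pff_iff, isPrecoherent_iff_kerFG]

/-- Cohomological characterisation of `m`-pseudo-coherence when finite free modules are
coherent. -/
theorem isNPC_iff_of_kerFG (h : ∀ M : ModuleCat.{u} A, Pff A M → KerFG A M) (m : ℤ)
    (K : DerivedCategory (ModuleCat.{u} A)) (b : ℤ)
    (hb : ∀ i : ℤ, b < i → IsZero ((DerivedCategory.homologyFunctor (ModuleCat.{u} A) i).obj K)) :
    IsNPC (Pff A) m K ↔ (Module.Finite A ((DerivedCategory.homologyFunctor (ModuleCat.{u} A) m).obj K) ∧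
      ∀ i : ℤ, m < i → Module.Finite A ((DerivedCategory.homologyFunctor (ModuleCat.{u} A) i).obj K) ∧
        KerFG A ((DerivedCategory.homologyFunctor (ModuleCat.{u} A) i).obj K)) := by
  have hcoh := hcoh_of_kerFG h
  constructor
  · rintro ⟨E, hE, ⟨e⟩⟩
    have iso : ∀ i : ℤ, E.homology i ≅ (DerivedCategory.homologyFunctor (ModuleCat.{u} A) i).obj K := fun i =>
      (homologyQIso E i).symm ≪≫ (DerivedCategory.homologyFunctor (ModuleCat.{u} A) i).mapIso e
    obtain ⟨h1, h2⟩ := homology_of_strictPC_of_coherent hcoh Pff_prod hql_Pff hE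
    refine ⟨(isOfFiniteType_Pff_iff _).1 (isOfFiniteType_of_iso _ (iso m) h1), fun i hi => ?_⟩
    rw [← isCoherent_iff]
    exact ⟨isOfFiniteType_of_iso _ (iso i) (h2 i hi).1, isPrecoherent_of_iso (iso i) (h2 i hi).2⟩
  · rintro ⟨h1, h2⟩
    have hqs := isQuasiStableUnderKernels_of_coherent hcoh
    refine isNPC_of_homology Pff_prod hqs hql_Pff K b hb (fun i hi => ?_)
    rcases hi.lt_or_eq with h' | h'
    · exact isNPC_single_of_isCoherent hcoh Pff_prod hql_Pff ((isCoherent_iff _).2 (h2 i h')) _
    · subst h'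
      rw [sub_self]
      exact (isNPC_single_zero_iff _).2 h1

lemma exists_bound_of_isNPC {C : Type*} [Category C] [Abelian C] [HasDerivedCategory C]
    {P : ObjectProperty C} {m : ℤ} {K : DerivedCategory C} (h : IsNPC P m K) :
    ∃ b : ℤ, ∀ i : ℤ, b < i → IsZero ((DerivedCategory.homologyFunctor C i).obj K) := by
  obtain ⟨E, ⟨⟨b, hb⟩, -⟩, ⟨e⟩⟩ := h
  exact ⟨b, fun i hi => IsZero.of_iso (ShortComplex.isZero_homology_of_isZero_X₂ _ (hb i hi))
    ((DerivedCategory.homologyFunctor C i).mapIso e.symm ≪≫ homologyQIso E i)⟩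

/-- Over a Noetherian ring: `m`-pseudo-coherence in terms of cohomology. -/
theorem isPseudoCoherent_iff_of_isNoetherianRing [IsNoetherianRing A] (m : ℤ) (K : Dual.D A) :
    DRing.IsPseudoCoherent A m K ↔
      (∃ b : ℤ, ∀ i : ℤ, b < i → Subsingleton (Dual.HD A K i)) ∧
        ∀ i : ℤ, m ≤ i → Module.Finite A (Dual.HD A K i) := by
  rw [isPseudoCoherent_iff]
  constructor
  · intro h
    obtain ⟨b, hb⟩ := exists_bound_of_isNPC h
    have := (isNPC_iff_of_kerFG (fun M _ => kerFG_of_isNoetherianRing M) m K b hb).1 h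
    refine ⟨⟨b, fun i hi => ModuleCat.subsingleton_of_isZero (hb i hi)⟩, fun i hi => ?_⟩
    rcases hi.lt_or_eq with h' | h'
    · exact (this.2 i h').1
    · subst h'; exact this.1
  · rintro ⟨⟨b, hb⟩, hfin⟩
    refine (isNPC_iff_of_kerFG (fun M _ => kerFG_of_isNoetherianRing M) m K b (fun i hi => by
      have := hb i hi
      exact ModuleCat.isZero_of_subsingleton _)).2 ⟨hfin m le_rfl, fun i hi =>
        ⟨hfin i hi.le, kerFG_of_isNoetherianRing _⟩⟩

/-- Over a Noetherian ring a module is pseudo-coherent iff it is finitely generated. -/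
theorem isPseudoCoherentModule'_iff_of_isNoetherianRing [IsNoetherianRing A] (M : Type u)
    [AddCommGroup M] [Module A M] : DRing.IsPseudoCoherentModule' A M ↔ Module.Finite A M := by
  unfold DRing.IsPseudoCoherentModule'
  rw [isPseudoCoherent'_iff]
  constructor
  · intro h
    exact (isNPC_single_zero_iff (ModuleCat.of A M)).1 (h 0)
  · intro h n
    exact isNPC_single_of_isCoherent (hcoh_of_kerFG (fun M _ => kerFG_of_isNoetherianRing M))
      Pff_prod hql_Pff ((isCoherent_iff (ModuleCat.of A M)).2 ⟨h, kerFG_of_isNoetherianRing _⟩) n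

end Derived

section Coherent

variable (A : Type u) [CommRing A]

/-- Every finitely generated module injecting into `M` is finitely presented. -/
def SubFP (M : Type u) [AddCommGroup M] [Module A M] : Prop :=
  ∀ (E : Type u) [AddCommGroup E] [Module A E] (u : E →ₗ[A] M), Function.Injective u →
    Module.Finite A E → Module.FinitePresentation A E

variable {A}

lemma SubFP.of_injective {M M' : Type u} [AddCommGroup M] [Module A M] [AddCommGroup M']
    [Module A M'] (h : SubFP A M') (j : M →ₗ[A] M') (hj : Function.Injective j) : SubFP A M :=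
  fun E _ _ u hu hE => h E (j ∘ₗ u) (hj.comp hu) hE

lemma SubFP.of_ker {M M'' : Type u} [AddCommGroup M] [Module A M] [AddCommGroup M'']
    [Module A M''] (p : M →ₗ[A] M'') (h' : SubFP A (LinearMap.ker p)) (h'' : SubFP A M'') :
    SubFP A M := by
  intro E _ _ u hu hE
  let q : E →ₗ[A] M'' := p ∘ₗ u
  have hfp : Module.FinitePresentation A (LinearMap.range q) :=
    h'' _ (LinearMap.range q).subtype (Submodule.injective_subtype _) inferInstance
  have hsurj : Function.Surjective q.rangeRestrict := LinearMap.surjective_rangeRestrict q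
  have hker : (LinearMap.ker q.rangeRestrict).FG := Module.FinitePresentation.fg_ker _ hsurj
  have hkerfin : Module.Finite A (LinearMap.ker q.rangeRestrict) := Module.Finite.iff_fg.2 hker
  let j : LinearMap.ker q.rangeRestrict →ₗ[A] LinearMap.ker p :=
    LinearMap.codRestrict _ (u ∘ₗ (LinearMap.ker q.rangeRestrict).subtype) (fun x => by
      have hx := x.2
      rw [LinearMap.mem_ker] at hx ⊢
      have h1 : ((q.rangeRestrict x.1 : LinearMap.range q) : M'') = 0 := by rw [hx]; rfl
      exact h1)
  have hj : Function.Injective j := by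
    intro x y hxy
    have := congrArg Subtype.val hxy
    exact Subtype.ext (hu this)
  have : Module.FinitePresentation A (LinearMap.ker q.rangeRestrict) := h' _ j hj hkerfin
  exact Module.finitePresentation_of_ker q.rangeRestrict hsurj

variable (hR : ∀ I : Ideal A, I.FG → Module.FinitePresentation A I)

include hR in
lemma subFP_self : SubFP A A := by
  intro E _ _ u hu hE
  have hfg : (LinearMap.range u).FG := by
    rw [LinearMap.range_eq_map]
    exact Submodule.FG.map u Module.Finite.fg_top
  have := hR (LinearMap.range u) hfg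
  exact Module.FinitePresentation.of_equiv (LinearEquiv.ofInjective u hu).symm

include hR in
lemma subFP_pi (n : ℕ) : SubFP A (Fin n → A) := by
  induction n with
  | zero =>
    intro E _ _ u hu hE
    have : Subsingleton E := hu.subsingleton
    infer_instance
  | succ n ih =>
    refine SubFP.of_ker (LinearMap.proj (R := A) (φ := fun _ : Fin (n + 1) => A) 0) ?_ (subFP_self hR)
    let t : (Fin (n + 1) → A) →ₗ[A] (Fin n → A) :=
      LinearMap.pi (fun i => LinearMap.proj (R := A) (φ := fun _ : Fin (n + 1) => A) i.succ)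
    refine ih.of_injective (t ∘ₗ (LinearMap.ker _).subtype) ?_
    intro x y hxy
    apply Subtype.ext
    funext i
    refine Fin.cases ?_ (fun i => ?_) i
    · have hx := x.2
      have hy := y.2
      rw [LinearMap.mem_ker] at hx hy
      exact hx.trans hy.symm
    · exact congrFun hxy i

include hR in
lemma subFP_of_finite_free (M : Type u) [AddCommGroup M] [Module A M] [Module.Finite A M]
    [Module.Free A M] : SubFP A M := by
  rcases subsingleton_or_nontrivial A with hA | hA
  · intro E _ _ u hu hE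
    have : Subsingleton M := Module.subsingleton A M
    have : Subsingleton E := hu.subsingleton
    infer_instance
  · obtain ⟨n, ⟨b⟩⟩ : ∃ n : ℕ, Nonempty (Module.Basis (Fin n) A M) :=
      ⟨_, ⟨Module.finBasis A M⟩⟩
    exact (subFP_pi hR n).of_injective b.equivFun.toLinearMap b.equivFun.injective

include hR in
lemma kerFG_of_coherent (M : ModuleCat.{u} A) (hM : Pff A M) : KerFG A M := by
  intro E u hE
  have := hM.1
  have := hM.2
  have := hE.1
  have hfp : Module.FinitePresentation A (LinearMap.range u.hom) :=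
    subFP_of_finite_free hR M _ (LinearMap.range u.hom).subtype (Submodule.injective_subtype _)
      inferInstance
  have := Module.FinitePresentation.fg_ker u.hom.rangeRestrict
    (LinearMap.surjective_rangeRestrict _)
  rwa [LinearMap.ker_rangeRestrict] at this

end Coherent

section CoherentDerived

attribute [local instance] HasDerivedCategory.standard

variable {A : Type u} [CommRing A]

open DerivedCategory

lemma finitePresentation_of_finite_of_kerFG (M : ModuleCat.{u} A) (h1 : Module.Finite A M)
    (h2 : KerFG A M) : Module.FinitePresentation A M := by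
  obtain ⟨n, f, hf⟩ := Module.Finite.exists_fin' A M
  have := h2 (ModuleCat.of A (Fin n → A)) (ModuleCat.ofHom f) ⟨inferInstance, inferInstance⟩
  exact (Module.FinitePresentation.fg_ker_iff f hf).1 this

variable (hR : ∀ I : Ideal A, I.FG → Module.FinitePresentation A I)

include hR in
/-- Over a coherent ring, finitely presented modules are pseudo-coherent. -/
theorem isPC_single_of_finitePresentation (M : ModuleCat.{u} A) (hM : Module.FinitePresentation A M) :
    IsPC (Pff A) ((DerivedCategory.singleFunctor (ModuleCat.{u} A) 0).obj M) := by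
  have key : ∀ (N : ℕ) (M : ModuleCat.{u} A), Module.FinitePresentation A M →
      IsNPC (Pff A) (-(N : ℤ)) ((DerivedCategory.singleFunctor (ModuleCat.{u} A) 0).obj M) := by
    intro N
    induction N with
    | zero =>
      intro M hM
      simp only [Nat.cast_zero, neg_zero]
      exact (isNPC_single_zero_iff M).2 inferInstance
    | succ N ih =>
      intro M hM
      obtain ⟨n, f, hf⟩ := Module.Finite.exists_fin' A M
      let π : ModuleCat.of A (Fin n → A) ⟶ M := ModuleCat.ofHom f
      have : Epi π := (ModuleCat.epi_iff_surjective _).2 hf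
      have hS := shortExact_kernel π
      have hK' : Module.Finite A (kernel π : ModuleCat.{u} A) :=
        (finite_kernel_iff f).2 ((Module.FinitePresentation.fg_ker_iff f hf).2 hM)
      have hKfp : Module.FinitePresentation A (kernel π : ModuleCat.{u} A) :=
        subFP_pi hR n _ (kernel.ι π).hom ((ModuleCat.mono_iff_injective _).1 inferInstance) hK'
      have h1 : IsNPC (Pff A) (-((N + 1 : ℕ) : ℤ) + 1) hS.singleTriangle.obj₁ := by
        rw [show -((N + 1 : ℕ) : ℤ) + 1 = -(N : ℤ) by push_cast; ring]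
        exact ih _ hKfp
      exact isNPC_obj₃ Pff_prod hqs_Pff hql_Pff _ hS.singleTriangle_distinguished h1
        (isNPC_single 0 (X := ModuleCat.of A (Fin n → A)) ⟨inferInstance, inferInstance⟩ _)
  intro m
  by_cases hm : 0 ≤ m
  · have := key 0 M hM
    simp only [Nat.cast_zero, neg_zero] at this
    exact this.of_le hm
  · have := key (-m).toNat M hM
    rwa [Int.toNat_of_nonneg (by lia), neg_neg] at this

include hR in
/-- Over a coherent ring: `m`-pseudo-coherence in terms of cohomology. -/
theorem isPseudoCoherent_iff_of_coherent (K : Dual.D A)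
    (hb : ∃ b : ℤ, ∀ i : ℤ, b < i → Subsingleton (Dual.HD A K i)) (m : ℤ) :
    DRing.IsPseudoCoherent A m K ↔
      Module.Finite A (Dual.HD A K m) ∧ ∀ i : ℤ, m < i → Module.FinitePresentation A (Dual.HD A K i) := by
  obtain ⟨b, hb⟩ := hb
  have hb' : ∀ i : ℤ, b < i → IsZero ((DerivedCategory.homologyFunctor (ModuleCat.{u} A) i).obj K) :=
    fun i hi => by
      have := hb i hi
      exact ModuleCat.isZero_of_subsingleton _
  rw [isPseudoCoherent_iff]
  constructor
  · intro h
    have := (isNPC_iff_of_kerFG (kerFG_of_coherent hR) m K b hb').1 h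
    exact ⟨this.1, fun i hi => finitePresentation_of_finite_of_kerFG _ (this.2 i hi).1 (this.2 i hi).2⟩
  · rintro ⟨h1, h2⟩
    refine isNPC_of_homology Pff_prod hqs_Pff hql_Pff K b hb' (fun i hi => ?_)
    rcases hi.lt_or_eq with h' | h'
    · exact isPC_single_of_finitePresentation hR _ (h2 i h') _
    · subst h'
      rw [sub_self]
      exact (isNPC_single_zero_iff _).2 h1

include hR in
theorem isPseudoCoherent'_iff_of_coherent (K : Dual.D A)
    (hb : ∃ b : ℤ, ∀ i : ℤ, b < i → Subsingleton (Dual.HD A K i)) :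
    DRing.IsPseudoCoherent' A K ↔ ∀ i : ℤ, Module.FinitePresentation A (Dual.HD A K i) := by
  rw [isPseudoCoherent'_iff_forall]
  constructor
  · intro h i
    exact ((isPseudoCoherent_iff_of_coherent hR K hb (i - 1)).1 (h (i - 1))).2 i (by lia)
  · intro h m
    exact (isPseudoCoherent_iff_of_coherent hR K hb m).2
      ⟨by have := h m; infer_instance, fun i _ => h i⟩

end CoherentDerived

section Flat

open TensorProduct in
lemma flat_prod {R : Type u} [CommRing R] {X Y : Type u} [AddCommGroup X] [AddCommGroup Y]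
    [Module R X] [Module R Y] [Module.Flat R X] [Module.Flat R Y] : Module.Flat R (X × Y) := by
  rw [Module.Flat.iff_rTensor_preserves_injective_linearMap]
  intro N N' _ _ _ _ i hi
  have key : (TensorProduct.prodRight R R N' X Y).toLinearMap ∘ₗ i.rTensor (X × Y) =
      (LinearMap.prodMap (i.rTensor X) (i.rTensor Y)) ∘ₗ
        (TensorProduct.prodRight R R N X Y).toLinearMap := by
    apply TensorProduct.ext'
    intro n p
    simp
  have h1 : Function.Injective ((TensorProduct.prodRight R R N' X Y).toLinearMap ∘ₗ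
      i.rTensor (X × Y)) := by
    rw [key]
    exact (Function.Injective.prodMap (Module.Flat.rTensor_preserves_injective_linearMap i hi)
      (Module.Flat.rTensor_preserves_injective_linearMap i hi)).comp
      (TensorProduct.prodRight R R N X Y).injective
  exact Function.Injective.of_comp h1

/-- In a short exact sequence `0 → M → N → P → 0` with `N`, `P` flat, `M` is flat. -/
lemma flat_of_exact {R : Type u} [CommRing R] {M N P : Type u} [AddCommGroup M] [AddCommGroup N]
    [AddCommGroup P] [Module R M] [Module R N] [Module R P] [Module.Flat R N] [Module.Flat R P]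
    (g : M →ₗ[R] N) (hg : Function.Injective g) (f : N →ₗ[R] P) (hf : Function.Surjective f)
    (H : Function.Exact g f) : Module.Flat R M := by
  rw [Module.Flat.iff_rTensor_preserves_injective_linearMap]
  intro A' A _ _ _ _ i hi
  refine .of_comp (f := g.lTensor A) ?_
  rw [← LinearMap.coe_comp, LinearMap.lTensor_comp_rTensor, ← LinearMap.rTensor_comp_lTensor,
    LinearMap.coe_comp]
  exact (Module.Flat.rTensor_preserves_injective_linearMap i hi).comp
    (LinearMap.lTensor_injective_of_exact_of_flat f hf g hg H A')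

variable (A : Type u) [CommRing A]

/-- Flat modules. -/
def Pfl : ObjectProperty (ModuleCat.{u} A) := fun M => Module.Flat A M

variable {A}

instance : (Pfl A).IsClosedUnderIsomorphisms where
  of_iso e h := by
    have : Module.Flat A _ := h
    exact Module.Flat.of_linearEquiv e.toLinearEquiv.symm

instance : (Pfl A).ContainsZero where
  exists_zero := ⟨ModuleCat.of A PUnit, ModuleCat.isZero_of_subsingleton _,
    (inferInstance : Module.Flat A PUnit)⟩

lemma Pfl_prod (X Y : ModuleCat.{u} A) (hX : Pfl A X) (hY : Pfl A Y) : Pfl A (X ⨯ Y) := by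
  have : Module.Flat A X := hX
  have : Module.Flat A Y := hY
  have : Pfl A (ModuleCat.of A (X × Y)) := (flat_prod : Module.Flat A (X × Y))
  exact (ObjectProperty.prop_iff_of_iso _
    ((biprod.isoProd X Y).symm ≪≫ ModuleCat.biprodIsoProd X Y)).2 this

lemma hst_Pfl (E F : ModuleCat.{u} A) (u : E ⟶ F) (hu : Epi u) (hE : Pfl A E) (hF : Pfl A F) :
    Pfl A (kernel u) := by
  have : Module.Flat A E := hE
  have : Module.Flat A F := hF
  exact flat_of_exact (kernel.ι u).hom ((ModuleCat.mono_iff_injective _).1 inferInstance) u.hom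
    ((ModuleCat.epi_iff_surjective _).1 hu)
    ((ShortComplex.ShortExact.moduleCat_exact_iff_function_exact _).1
      (shortExact_kernel u).exact)

lemma Pfp_le_Pfl {M : ModuleCat.{u} A} (h : Pfp A M) : Pfl A M := by
  have := h.2
  exact (inferInstance : Module.Flat A M)

end Flat

section PerfectFlat

attribute [local instance] HasDerivedCategory.standard

variable {A : Type u} [CommRing A]

open DerivedCategory HomologicalComplex CochainComplex

/-- The module of `a`-opcycles of a complex with finite free terms in degrees `a - 1`, `a`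
is finitely presented. -/
lemma finitePresentation_opcycles (X : CochainComplex (ModuleCat.{u} A) ℤ) (a : ℤ)
    (h1 : Pff A (X.X (a - 1))) (h2 : Pff A (X.X a)) : Module.FinitePresentation A (X.opcycles a) := by
  have := h1.1
  have := h2.1
  have := h2.2
  have : Module.FinitePresentation A (X.X a) := Module.finitePresentation_of_projective A _
  let S : ShortComplex (ModuleCat.{u} A) := ShortComplex.mk (X.d (a - 1) a) (X.pOpcycles a) (by simp)
  have hS : S.Exact :=
    ShortComplex.exact_of_g_is_cokernel _ (X.opcyclesIsCokernel (a - 1) a (by simp))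
  have hex : Function.Exact (X.d (a - 1) a).hom (X.pOpcycles a).hom :=
    (ShortComplex.ShortExact.moduleCat_exact_iff_function_exact S).1 hS
  have hsurj : Function.Surjective (X.pOpcycles a).hom :=
    (ModuleCat.epi_iff_surjective _).1 inferInstance
  refine Module.finitePresentation_of_surjective (X.pOpcycles a).hom hsurj ?_
  rw [LinearMap.exact_iff.1 hex, LinearMap.range_eq_map]
  exact Submodule.FG.map _ Module.Finite.fg_top

/-- Key lemma: an `(a-1)`-pseudo-coherent object represented by a complex of flat modules in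
`[a, b]` is represented by a complex of finite projective modules in `[a, b]`. -/
theorem exists_perfect_of_isNPC_of_flat (a b : ℤ) (K : DerivedCategory (ModuleCat.{u} A))
    (hpc : IsNPC (Pff A) (a - 1) K) (F : CochainComplex (ModuleCat.{u} A) ℤ)
    (hFv : ∀ i : ℤ, i < a ∨ b < i → IsZero (F.X i)) (hFl : ∀ i : ℤ, Module.Flat A (F.X i))
    (e : Q.obj F ≅ K) :
    ∃ E : CochainComplex (ModuleCat.{u} A) ℤ, (∀ i : ℤ, i < a ∨ b < i → IsZero (E.X i)) ∧
      (∀ i : ℤ, Pfp A (E.X i)) ∧ Nonempty (Q.obj E ≅ K) := by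
  have hFh : ∀ i : ℤ, i < a ∨ b < i → IsZero (F.homology i) := fun i hi =>
    ShortComplex.isZero_homology_of_isZero_X₂ _ (hFv i hi)
  obtain ⟨X', v, hX', hz', hq⟩ := exists_strictPC_quasiIso_of_isNPC Pff_prod hqs_Pff hql_Pff
    (n := a - 1) (m := b + 1) (X := F) (hpc.of_iso e.symm) (fun i hi => by
      rw [exactAt_iff_isZero_homology]
      exact hFh i (Or.inr (by lia)))
  have hHv : ∀ i : ℤ, IsIso (homologyMap v i) := fun i => inferInstance
  have hGE : X'.IsGE a := by
    rw [CochainComplex.isGE_iff]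
    intro i hi
    rw [exactAt_iff_isZero_homology]
    exact (hFh i (Or.inl hi)).of_iso (@asIso _ _ _ _ (homologyMap v i) (hHv i))
  have hFGE : F.IsStrictlyGE a := by
    rw [CochainComplex.isStrictlyGE_iff]
    exact fun i hi => hFv i (Or.inl hi)
  have hq' : QuasiIso (X'.πTruncGE a) := by
    rw [CochainComplex.quasiIso_πTruncGE_iff]
    exact hGE
  let w : X'.truncGE a ⟶ F.truncGE a := CochainComplex.truncGEMap v a
  have hw : QuasiIso w := by
    rw [CochainComplex.quasiIso_truncGEMap_iff]
    intro i _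
    infer_instance
  -- terms of `F.truncGE a`
  have eF : ∀ i : ℤ, F.X i ≅ (F.truncGE a).X i := fun i =>
    (HomologicalComplex.eval _ _ i).mapIso (asIso (F.πTruncGE a))
  have hFb : ∀ i : ℤ, b < i → IsZero ((F.truncGE a).X i) := fun i hi =>
    (hFv i (Or.inr hi)).of_iso (eF i).symm
  have hFa : ∀ i : ℤ, i < a → IsZero ((F.truncGE a).X i) := fun i hi =>
    (hFv i (Or.inl hi)).of_iso (eF i).symm
  have hF : ∀ i : ℤ, Pfl A ((F.truncGE a).X i) := fun i =>
    (ObjectProperty.prop_iff_of_iso _ (eF i)).1 (hFl i)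
  -- terms of `E = X'.truncGE a`
  have hEa : ∀ i : ℤ, i < a → IsZero ((X'.truncGE a).X i) := fun i hi =>
    CochainComplex.isZero_of_isStrictlyGE _ a i hi
  have hEb : ∀ i : ℤ, b < i → IsZero ((X'.truncGE a).X i) := fun i hi => by
    rcases lt_trichotomy i a with h | h | h
    · exact hEa i h
    · subst h
      exact IsZero.of_iso (IsZero.of_epi (X'.pOpcycles i) (hz' i (by lia)))
        (X'.truncGEXIsoOpcycles i)
    · exact (hz' i (by lia)).of_iso (X'.truncGEXIso a i h)
  have hEff : ∀ i : ℤ, a < i → Pff A ((X'.truncGE a).X i) := fun i hi =>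
    (ObjectProperty.prop_iff_of_iso _ (X'.truncGEXIso a i hi)).2 (hX'.2 i (by lia))
  have hEflat : Pfl A ((X'.truncGE a).X a) :=
    prop_first_of_quasiIso (Pfl A) Pfl_prod hst_Pfl w hw a b hEb hEa hFb hFa hF
      (fun i hi => Pfp_le_Pfl (Pff_le_Pfp (hEff i hi)))
  have hEfp : Module.FinitePresentation A ((X'.truncGE a).X a) := by
    have := finitePresentation_opcycles X' a (hX'.2 _ (by lia)) (hX'.2 _ (by lia))
    exact Module.FinitePresentation.of_equiv (X'.truncGEXIsoOpcycles a).toLinearEquiv.symm
  have hEproj : Pfp A ((X'.truncGE a).X a) := by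
    have : Module.Flat A ((X'.truncGE a).X a) := hEflat
    exact ⟨inferInstance, Module.Flat.projective_of_finitePresentation⟩
  have h1 : IsIso (Q.map v) := by rw [isIso_Q_map_iff_quasiIso]; exact hq
  have h2 : IsIso (Q.map (X'.πTruncGE a)) := by rw [isIso_Q_map_iff_quasiIso]; exact hq'
  refine ⟨X'.truncGE a, fun i hi => ?_, fun i => ?_,
    ⟨(asIso (Q.map (X'.πTruncGE a))).symm ≪≫ asIso (Q.map v) ≪≫ e⟩⟩
  · rcases hi with hi | hi
    · exact hEa i hi
    · exact hEb i hi
  · rcases lt_trichotomy i a with h | h | h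
    · exact (Pfp A).prop_of_isZero (hEa i h)
    · subst h; exact hEproj
    · exact Pff_le_Pfp (hEff i h)

end PerfectFlat

section Thick

attribute [local instance] HasDerivedCategory.standard

variable {A : Type u} [CommRing A]

open DerivedCategory HomologicalComplex CochainComplex CategoryTheory.Pretriangulated

/-- Every perfect object lies in any thick subcategory containing `A[0]`. -/
theorem prop_of_isPerfect_of_thick (W : ObjectProperty (DerivedCategory (ModuleCat.{u} A)))
    [W.IsClosedUnderIsomorphisms]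
    (hA : W ((DerivedCategory.singleFunctor (ModuleCat.{u} A) 0).obj (ModuleCat.of A A)))
    (hshift : ∀ (K : DerivedCategory (ModuleCat.{u} A)) (n : ℤ), W K →
      W ((CategoryTheory.shiftFunctor (DerivedCategory (ModuleCat.{u} A)) n).obj K))
    (hext : ∀ T : Triangle (DerivedCategory (ModuleCat.{u} A)), T ∈ distTriang _ →
      W T.obj₁ → W T.obj₃ → W T.obj₂)
    (hsum : ∀ (X Y : DerivedCategory (ModuleCat.{u} A)) [HasBinaryBiproduct X Y], W (X ⊞ Y) → W X)
    (K : DerivedCategory (ModuleCat.{u} A)) (hK : IsPerf (Pfp A) K) : W K := by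
  let S₀ := DerivedCategory.singleFunctor (ModuleCat.{u} A) 0
  have : PreservesBinaryBiproducts S₀ := preservesBinaryBiproducts_of_preservesBiproducts _
  have hbiprod : ∀ X Y : DerivedCategory (ModuleCat.{u} A), W X → W Y → W (X ⊞ Y) :=
    fun X Y hX hY => hext _ (binaryBiproductTriangle_distinguished X Y) hX hY
  have hzero : ∀ Z : DerivedCategory (ModuleCat.{u} A), IsZero Z → W Z := by
    intro Z hZ
    have e : Z ⊞ S₀.obj (ModuleCat.of A A) ≅ S₀.obj (ModuleCat.of A A) :=
      { hom := biprod.snd
        inv := biprod.inr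
        hom_inv_id := by
          apply biprod.hom_ext
          · exact hZ.eq_of_tgt _ _
          · simp
        inv_hom_id := biprod.inr_snd }
    exact hsum Z _ (W.prop_of_iso e.symm hA)
  have hfree : ∀ n : ℕ, W (S₀.obj (ModuleCat.of A (Fin n → A))) := by
    intro n
    induction n with
    | zero =>
      exact hzero _ (S₀.map_isZero (ModuleCat.isZero_of_subsingleton _))
    | succ n ih =>
      have e : ModuleCat.of A A ⊞ ModuleCat.of A (Fin n → A) ≅ ModuleCat.of A (Fin (n + 1) → A) :=
        ModuleCat.biprodIsoProd _ _ ≪≫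
          (Fin.consLinearEquiv A (fun _ : Fin (n + 1) => A)).toModuleIso
      exact W.prop_of_iso ((S₀.mapBiprod _ _).symm ≪≫ S₀.mapIso e) (hbiprod _ _ hA ih)
  have hproj : ∀ M : ModuleCat.{u} A, Pfp A M → W (S₀.obj M) := by
    intro M hM
    obtain ⟨h1, h2⟩ := hM
    obtain ⟨k, f, hf⟩ := Module.Finite.exists_fin' A M
    obtain ⟨s, hs⟩ := Module.projective_lifting_property f LinearMap.id hf
    have hsf : (ModuleCat.ofHom s : M ⟶ ModuleCat.of A (Fin k → A)) ≫ ModuleCat.ofHom f = 𝟙 M := by
      ext x
      exact LinearMap.congr_fun hs x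
    have : IsSplitMono (ModuleCat.ofHom s : M ⟶ ModuleCat.of A (Fin k → A)) :=
      ⟨⟨ModuleCat.ofHom f, hsf⟩⟩
    let b := binaryBiconeOfIsSplitMonoOfCokernel
      (cokernelIsCokernel (ModuleCat.ofHom s : M ⟶ ModuleCat.of A (Fin k → A)))
    have hb : b.IsBilimit := isBilimitBinaryBiconeOfIsSplitMonoOfCokernel _
    have e : ModuleCat.of A (Fin k → A) ≅ M ⊞ cokernel (ModuleCat.ofHom s) :=
      biprod.uniqueUpToIso _ _ hb
    exact hsum _ _ (W.prop_of_iso (S₀.mapIso e ≪≫ S₀.mapBiprod _ _) (hfree k))
  obtain ⟨E, a, b, hv, hP, ⟨e⟩⟩ := hK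
  refine W.prop_of_iso e (devissage_termwise W hext hzero E a b hv (fun i => ?_))
  exact W.prop_of_iso (singleShiftIso i (E.X i)) (hshift _ (-i) (hproj _ (hP i)))

end Thick

end Groth.Agent.Lib.Helper13.DR
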