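import Groth.Agent.Lib.Helper13.TorBridge1
import Groth.Agent.Lib.Helper13.DRingTor4
import Groth.Agent.S6954

set_option autoImplicit false
universe u
open CategoryTheory CategoryTheory.Limits MonoidalCategory Pretriangulated

namespace Groth.Agent.Lib.Helper13.TB

open Groth.Agent.Lib.Helper13.DR DerivedCategory

attribute [local instance] HasDerivedCategory.standard

variable {A : Type u} [CommRing A]

lemma hasFiniteTorDimCx_of_iso {K L : Dual.D A} (e : K ≅ L) (h : DRing.HasFiniteTorDimCx A K) :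
    DRing.HasFiniteTorDimCx A L := by
  obtain ⟨a, b, h⟩ := h
  exact ⟨a, b, hasTorAmplitudeIn_of_iso e h⟩

variable (hA : ∀ (M : Type u) [AddCommGroup M] [Module A M], DRing.HasFiniteTorDim A M)

include hA in
lemma hasFiniteTorDimCx_single (M : ModuleCat.{u} A) (a : ℤ) :
    DRing.HasFiniteTorDimCx A ((DerivedCategory.singleFunctor (ModuleCat.{u} A) a).obj M) := by
  obtain ⟨d, hd⟩ := hA M
  have h1 := (hasTorDimLE_iff_hasTorAmplitudeIn A M d).1 hd
  have h2 := hasTorAmplitudeIn_shift h1 (-a)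
  refine ⟨_, _, hasTorAmplitudeIn_of_iso ?_ h2⟩
  exact ((DerivedCategory.singleFunctors (ModuleCat.{u} A)).shiftIso (-a) a 0 (by lia)).app M

include hA in
lemma hasFiniteTorDimCx_of_isGE_of_isLE : ∀ (n : ℕ) (X : Dual.D A) (a : ℤ),
    X.IsGE a → X.IsLE (a + n) → DRing.HasFiniteTorDimCx A X := by
  intro n
  induction n with
  | zero =>
    intro X a h1 h2
    have h2' : X.IsLE a := by simpa using h2
    obtain ⟨M, ⟨e⟩⟩ := exists_iso_singleFunctor_obj_of_isGE_of_isLE X a
    exact hasFiniteTorDimCx_of_iso e.symm (hasFiniteTorDimCx_single hA M a)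
  | succ n ih =>
    intro X a h1 h2
    let t := DerivedCategory.TStructure.t (C := ModuleCat.{u} A)
    let b : ℤ := a + n + 1
    have hb : X.IsLE b := by
      have : a + ((n + 1 : ℕ) : ℤ) = b := by simp [b]; ring
      rwa [this] at h2
    have hT := t.triangleLEGE_distinguished (b - 1) b (by lia) X
    have : t.IsGE X a := h1
    have : t.IsLE X b := hb
    have h₁ : DRing.HasFiniteTorDimCx A ((t.truncLE (b - 1)).obj X) := by
      apply ih _ a
      · exact (inferInstance : t.IsGE ((t.truncLE (b - 1)).obj X) a)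
      · have : a + (n : ℤ) = b - 1 := by simp [b]
        rw [this]
        exact (inferInstance : t.IsLE ((t.truncLE (b - 1)).obj X) (b - 1))
    have h₃ : DRing.HasFiniteTorDimCx A ((t.truncGE b).obj X) := by
      have : ((t.truncGE b).obj X).IsGE b := (inferInstance : t.IsGE ((t.truncGE b).obj X) b)
      have : ((t.truncGE b).obj X).IsLE b := (inferInstance : t.IsLE ((t.truncGE b).obj X) b)
      obtain ⟨M, ⟨e⟩⟩ := exists_iso_singleFunctor_obj_of_isGE_of_isLE ((t.truncGE b).obj X) b
      exact hasFiniteTorDimCx_of_iso e.symm (hasFiniteTorDimCx_single hA M b)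
    obtain ⟨a₁, b₁, h₁⟩ := h₁
    obtain ⟨a₃, b₃, h₃⟩ := h₃
    exact ⟨min a₁ a₃, max b₁ b₃, hasTorAmplitudeIn_obj₂ _ hT _ _
      (hasTorAmplitudeIn_mono (K := (t.truncLE (b - 1)).obj X) (min_le_left _ _) (le_max_left _ _) h₁)
      (hasTorAmplitudeIn_mono (K := (t.truncGE b).obj X) (min_le_right _ _) (le_max_right _ _) h₃)⟩

include hA in
theorem hasFiniteTorDimCx_iff_bounded (K : Dual.D A) :
    DRing.HasFiniteTorDimCx A K ↔
      ∃ a b : ℤ, ∀ i : ℤ, i < a ∨ b < i → Subsingleton (Dual.HD A K i) := by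
  constructor
  · rintro ⟨a, b, h⟩
    exact ⟨a, b, fun i hi => ModuleCat.subsingleton_of_isZero
      (isZero_HD_of_hasTorAmplitudeIn h i hi)⟩
  · rintro ⟨a, b, h⟩
    have h1 : K.IsGE a := by
      rw [isGE_iff]
      intro i hi
      have := h i (Or.inl hi)
      exact ModuleCat.isZero_of_subsingleton _
    have h2 : K.IsLE (a + ((max a b - a).toNat : ℤ)) := by
      rw [isLE_iff]
      intro i hi
      have := h i (Or.inr (by lia))
      exact ModuleCat.isZero_of_subsingleton _
    exact hasFiniteTorDimCx_of_isGE_of_isLE hA _ K a h1 h2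

include hA in
theorem isPerfect_iff_bounded_and_pseudoCoherent (K : Dual.D A) :
    DRing.IsPerfect A K ↔
      (∃ a b : ℤ, ∀ i : ℤ, i < a ∨ b < i → Subsingleton (Dual.HD A K i)) ∧
        DRing.IsPseudoCoherent' A K := by
  rw [Groth.Agent.S6954.result, hasFiniteTorDimCx_iff_bounded hA]
  exact And.comm

end Groth.Agent.Lib.Helper13.TB
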