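import Groth.Agent.Lib.Helper13.TorDimLB
import Groth.Agent.Lib.Helper28.KFlatAbs2

set_option autoImplicit false
universe u
open CategoryTheory CategoryTheory.Limits MonoidalCategory Pretriangulated Opposite

namespace Groth.Agent.Lib.Helper13.DV

open DTen Groth.Agent.Lib.Helper13.SF Groth.Agent.Lib.Helper13.DT Groth.Agent.Lib.Helper13.DR
  Groth.Agent.Lib.Helper13.HT Groth.Agent.Lib.Helper13.RE Groth.Agent.Lib.Helper13.PC

attribute [local instance] HasDerivedCategory.standard

section TS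

variable {A : Type u} [CommRing A]

open Groth.Agent.Lib.Helper28.KFlatAbs in
/-- Termwise tensoring with a module is tensoring with the module placed in degree `0`. -/
noncomputable def tensorSingleIso (X : DRing.Cx A) (N : ModuleCat.{u} A) :
    (tensorCx N).obj X ≅
      X ⊗ (HomologicalComplex.single (ModuleCat.{u} A) (ComplexShape.up ℤ) 0).obj N :=
  HomologicalComplex.Hom.isoOfComponents
    (fun p => @asIso _ _ _ _ (θ (curriedTensor (ModuleCat.{u} A)) X N 0 p p (add_zero p))
      (isIso_θ _ X N 0 p p (add_zero p)))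
    (fun p p' hp => θ_d (curriedTensor (ModuleCat.{u} A)) X N 0 p p p' p' (add_zero p) hp hp)

/-- Tensoring on the left with a K-flat complex preserves quasi-isomorphisms. -/
lemma quasiIso_whiskerLeft_of_kflat_left (F : DRing.Cx A) (hF : KFlat F) {C C' : DRing.Cx A}
    (f : C ⟶ C') [QuasiIso f] : QuasiIso (F ◁ f) := by
  rw [whiskerLeft_eq_braid]
  have := quasiIso_whiskerRight_of_kflat F hF f
  infer_instance

lemma isZero_homology_tensor_of_isGE (F C : DRing.Cx A) (hF : KFlat F) (a c : ℤ)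
    (hFa : ∀ p : ℤ, p < a → IsZero (F.X p)) (hC : ∀ j : ℤ, j < c → IsZero (C.homology j))
    (i : ℤ) (hi : i < a + c) : IsZero ((F ⊗ C).homology i) := by
  have : C.IsGE c := by
    rw [CochainComplex.isGE_iff]
    intro j hj
    rw [HomologicalComplex.exactAt_iff_isZero_homology]
    exact hC j hj
  have q := quasiIso_whiskerLeft_of_kflat_left F hF (C.πTruncGE c)
  rw [isZero_homology_of_quasiIso (F ◁ C.πTruncGE c) i]
  refine ShortComplex.isZero_homology_of_isZero_X₂ _ (isZero_tensor_X F _ i (fun p q hpq => ?_))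
  by_cases hp : p < a
  · exact Or.inl (hFa p hp)
  · exact Or.inr (CochainComplex.isZero_of_isStrictlyGE (C.truncGE c) c q (by lia))

lemma isZero_homology_tensor_of_isLE (F C : DRing.Cx A) (hF : KFlat F) (b d : ℤ)
    (hFb : ∀ p : ℤ, b < p → IsZero (F.X p)) (hC : ∀ j : ℤ, d < j → IsZero (C.homology j))
    (i : ℤ) (hi : b + d < i) : IsZero ((F ⊗ C).homology i) := by
  have : C.IsLE d := by
    rw [CochainComplex.isLE_iff]
    intro j hj
    rw [HomologicalComplex.exactAt_iff_isZero_homology]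
    exact hC j hj
  have q := quasiIso_whiskerLeft_of_kflat_left F hF (C.ιTruncLE d)
  rw [← isZero_homology_of_quasiIso (F ◁ C.ιTruncLE d) i]
  refine ShortComplex.isZero_homology_of_isZero_X₂ _ (isZero_tensor_X F _ i (fun p q hpq => ?_))
  by_cases hp : b < p
  · exact Or.inl (hFb p hp)
  · exact Or.inr (CochainComplex.isZero_of_isStrictlyLE (C.truncLE d) d q (by lia))

/-- Vanishing of `H^j(L' ⊗ Z)` outside the tor amplitude of `L'`, for a K-flat resolution `Z` of a
module. -/
lemma isZero_homology_tensor_of_torAmp (L' : DRing.Cx A) (c d : ℤ)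
    (hL : DRing.HasTorAmplitudeIn A c d (DerivedCategory.Q.obj L')) (Z S : DRing.Cx A)
    (hZ : KFlat Z) (π : Z ⟶ S) [QuasiIso π] (hS : ∀ q : ℤ, q ≠ 0 → IsZero (S.X q)) (j : ℤ)
    (hj : j < c ∨ d < j) : IsZero ((L' ⊗ Z).homology j) := by
  obtain ⟨G, hGv, hGfl, ⟨eG⟩⟩ := hL
  refine isZero_homology_tensor_of_iso Z hZ G L' eG j ?_
  have hG : KFlat G := Groth.Agent.S6901.result A G d (fun i hi => hGv i (Or.inr hi)) hGfl
  have q := quasiIso_whiskerLeft_of_kflat_left G hG π
  rw [isZero_homology_of_quasiIso (G ◁ π) j]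
  refine ShortComplex.isZero_homology_of_isZero_X₂ _ (isZero_tensor_X G S j (fun p q hpq => ?_))
  by_cases hq : q = 0
  · subst hq
    obtain rfl : p = j := by lia
    exact Or.inl (hGv p hj)
  · exact Or.inr (hS q hq)

end TS

section Core

variable {A B : Type u} [CommRing A] [CommRing B] (φ : A →+* B)

/-- `res (F ⊗_B L) ⊗_A Z ≅ res (F ⊗_B (L ⊗_B (Z ⊗_A B)))`. -/
noncomputable def coreIso (F L : DRing.Cx B) (Z : DRing.Cx A) :
    (resCx φ).obj (F ⊗ L) ⊗ Z ≅ (resCx φ).obj (F ⊗ (L ⊗ (extCx φ).obj Z)) :=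
  resExtIso φ (F ⊗ L) Z ≪≫ (resCx φ).mapIso (α_ F L ((extCx φ).obj Z))

lemma isZero_homology_resCx_iff (C : DRing.Cx B) (j : ℤ) :
    IsZero (((resCx φ).obj C).homology j) ↔ IsZero (C.homology j) :=
  ⟨fun h => isZero_of_isZero_restrictScalars φ _
      (IsZero.of_iso h (restrictCxHomologyIso φ C j).symm),
    fun h => IsZero.of_iso (Functor.map_isZero _ h) (restrictCxHomologyIso φ C j)⟩

lemma isZero_homology_mix_iff (L : DRing.Cx B) (Z : DRing.Cx A) (j : ℤ) :
    IsZero ((L ⊗ (extCx φ).obj Z).homology j) ↔ IsZero (((resCx φ).obj L ⊗ Z).homology j) := by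
  rw [← isZero_homology_resCx_iff φ]
  exact ((HomologicalComplex.homologyFunctor _ _ j).mapIso (resExtIso φ L Z)).symm.isZero_iff

lemma isZero_homology_core_lower (F L : DRing.Cx B) (hF : KFlat F) (Z : DRing.Cx A) (a c : ℤ)
    (hFa : ∀ p : ℤ, p < a → IsZero (F.X p))
    (hV : ∀ j : ℤ, j < c → IsZero (((resCx φ).obj L ⊗ Z).homology j)) (i : ℤ) (hi : i < a + c) :
    IsZero (((resCx φ).obj (F ⊗ L) ⊗ Z).homology i) := by
  refine IsZero.of_iso ?_ ((HomologicalComplex.homologyFunctor _ _ i).mapIso (coreIso φ F L Z))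
  rw [HomologicalComplex.homologyFunctor_obj, isZero_homology_resCx_iff]
  exact isZero_homology_tensor_of_isGE F _ hF a c hFa
    (fun j hj => (isZero_homology_mix_iff φ L Z j).2 (hV j hj)) i hi

lemma isZero_homology_core_upper (F L : DRing.Cx B) (hF : KFlat F) (Z : DRing.Cx A) (b d : ℤ)
    (hFb : ∀ p : ℤ, b < p → IsZero (F.X p))
    (hV : ∀ j : ℤ, d < j → IsZero (((resCx φ).obj L ⊗ Z).homology j)) (i : ℤ) (hi : b + d < i) :
    IsZero (((resCx φ).obj (F ⊗ L) ⊗ Z).homology i) := by
  refine IsZero.of_iso ?_ ((HomologicalComplex.homologyFunctor _ _ i).mapIso (coreIso φ F L Z))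
  rw [HomologicalComplex.homologyFunctor_obj, isZero_homology_resCx_iff]
  exact isZero_homology_tensor_of_isLE F _ hF b d hFb
    (fun j hj => (isZero_homology_mix_iff φ L Z j).2 (hV j hj)) i hi

/-- The tor amplitude over `A` of `F ⊗_B L` for a bounded complex `F` of flat `B`-modules. -/
theorem hasTorAmplitudeIn_res_tensor (F L : DRing.Cx B) (a b c d : ℤ)
    (hFv : DRing.VanishesOutside F a b) (hFfl : DRing.TermwiseFlat F)
    (hL : DRing.HasTorAmplitudeIn A c d (DerivedCategory.Q.obj ((resCx φ).obj L))) :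
    DRing.HasTorAmplitudeIn A (a + c) (b + d)
      (DerivedCategory.Q.obj ((resCx φ).obj (F ⊗ L))) := by
  have hF : KFlat F := Groth.Agent.S6901.result B F b (fun i hi => hFv i (Or.inr hi)) hFfl
  have key : ∀ (Z S : DRing.Cx A) (hZ : KFlat Z) (π : Z ⟶ S) [QuasiIso π]
      (hS : ∀ q : ℤ, q ≠ 0 → IsZero (S.X q)) (i : ℤ), (i < a + c ∨ b + d < i) →
      IsZero (((resCx φ).obj (F ⊗ L) ⊗ Z).homology i) := by
    intro Z S hZ π _ hS i hi
    rcases hi with hi | hi
    · exact isZero_homology_core_lower φ F L hF Z a c (fun p hp => hFv p (Or.inl hp))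
        (fun j hj => isZero_homology_tensor_of_torAmp _ c d hL Z S hZ π hS j (Or.inl hj)) i hi
    · exact isZero_homology_core_upper φ F L hF Z b d (fun p hp => hFv p (Or.inr hp))
        (fun j hj => isZero_homology_tensor_of_torAmp _ c d hL Z S hZ π hS j (Or.inr hj)) i hi
  have hX : ∀ i : ℤ, b + d < i → IsZero (((resCx φ).obj (F ⊗ L)).homology i) := by
    intro i hi
    rw [isZero_homology_resCx_iff]
    refine isZero_homology_tensor_of_isLE F L hF b d (fun p hp => hFv p (Or.inr hp))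
      (fun j hj => ?_) i hi
    rw [← isZero_homology_resCx_iff φ]
    exact (isZero_HD_of_hasTorAmplitudeIn hL j (Or.inr hj)).of_iso (homologyQIso _ j).symm
  obtain ⟨P', f, hf, hP', hz'⟩ := exists_projective_quasiIso _ (b + d) hX
  have kp : P'.IsKProjective := isKProjective_of_forall_projective P' (b + d) hz' hP'
  have hiso : IsIso (DerivedCategory.Q.map f) := by
    rw [DerivedCategory.isIso_Q_map_iff_quasiIso]; exact hf
  refine hasTorAmplitudeIn_of_iso (asIso (DerivedCategory.Q.map f))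
    (hasTorAmplitudeIn_of_tensor_vanishing P' (b + d) hz'
      (fun i => flat_of_projective' _ (hP' i)) _ _ ?_)
  intro N i hi
  let PN := projectiveResolution N
  have hZ : KFlat PN.cochainComplex := isKFlat_of_isKProjective _
  refine IsZero.of_iso ?_ ((HomologicalComplex.homologyFunctor _ _ i).mapIso (tensorSingleIso P' N))
  have q1 : QuasiIso (P' ◁ PN.π') :=
    quasiIso_whiskerLeft_of_kflat_left P' (isKFlat_of_isKProjective P') PN.π'
  have q2 : QuasiIso (f ▷ PN.cochainComplex) := quasiIso_whiskerRight_of_kflat _ hZ f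
  rw [HomologicalComplex.homologyFunctor_obj]
  erw [← isZero_homology_of_quasiIso (P' ◁ PN.π') i]
  rw [isZero_homology_of_quasiIso (f ▷ PN.cochainComplex) i]
  exact key PN.cochainComplex _ hZ PN.π'
    (fun q hq => HomologicalComplex.isZero_single_obj_X (ComplexShape.up ℤ) 0 N q hq) i hi

end Core

section Restrict

variable {A B : Type u} [CommRing A] [CommRing B] [Algebra A B]

/-- If `B` has tor amplitude in `[-d, 0]` over `A`, restriction of scalars enlarges the tor
amplitude of an object of `D(B)` by at most `d` on the left. -/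
theorem hasTorAmplitudeIn_restrictD (d : ℕ)
    (hB : DRing.HasTorAmplitudeIn A (-(d : ℤ)) 0 (Dual.inD A B)) (K : Dual.D B) (a b : ℤ)
    (hK : DRing.HasTorAmplitudeIn B a b K) :
    DRing.HasTorAmplitudeIn A (a - d) b ((DRing.restrictD (algebraMap A B)).obj K) := by
  obtain ⟨F, hFv, hFfl, ⟨eF⟩⟩ := hK
  have hL : DRing.HasTorAmplitudeIn A (-(d : ℤ)) 0
      (DerivedCategory.Q.obj ((resCx (algebraMap A B)).obj (𝟙_ (DRing.Cx B)))) :=
    hasTorAmplitudeIn_of_iso resUnitIso.symm hB
  have h := hasTorAmplitudeIn_res_tensor (algebraMap A B) F (𝟙_ _) a b (-(d : ℤ)) 0 hFv hFfl hL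
  let e : DerivedCategory.Q.obj ((resCx (algebraMap A B)).obj (F ⊗ 𝟙_ _)) ≅
      (DRing.restrictD (algebraMap A B)).obj K :=
    DerivedCategory.Q.mapIso ((resCx (algebraMap A B)).mapIso (ρ_ F)) ≪≫
      (restrictDQIso (algebraMap A B) F).symm ≪≫ (DRing.restrictD (algebraMap A B)).mapIso eF
  exact hasTorAmplitudeIn_mono (by lia) (by lia) (hasTorAmplitudeIn_of_iso e h)

end Restrict

end Groth.Agent.Lib.Helper13.DV
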