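import Groth.Agent.Lib.Helper13.DRingTor

set_option autoImplicit false
universe u
open CategoryTheory CategoryTheory.Limits TensorProduct MonoidalCategory

namespace Groth.Agent.Lib.Helper13.DR

open Groth.Agent.Lib.Helper13.PC
open DerivedCategory
attribute [local instance] HasDerivedCategory.standard

variable {R : Type u} [CommRing R]

/-- In a bounded above complex of flat modules exact above `b`, boundaries in degrees `> b` are
flat. -/
lemma flat_range_of_exactAbove (C : DRing.Cx R) (c : ℤ) (hc : ∀ i : ℤ, c < i → IsZero (C.X i))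
    (hfl : ∀ i : ℤ, Module.Flat R (C.X i)) (b : ℤ) (hac : ∀ i : ℤ, b < i → C.ExactAt i)
    (i j : ℤ) (hij : i + 1 = j) (hi : b ≤ i) :
    Module.Flat R (LinearMap.range (C.d i j).hom) := by
  have key : ∀ (n : ℕ) (i j : ℤ), i + 1 = j → b ≤ i → c - n ≤ i →
      Module.Flat R (LinearMap.range (C.d i j).hom) := by
    intro n
    induction n with
    | zero =>
      intro i j hij _ hi
      have : Subsingleton (C.X j) := ModuleCat.subsingleton_of_isZero (hc j (by lia))
      infer_instance
    | succ n ih =>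
      intro i j hij hb hi
      refine flat_range_of_exact (C.d i j).hom (C.d j (j + 1)).hom
        ((exactAt_iff_function_exact C i j (j + 1) hij rfl).1 (hac j (by lia)))
        (ih j (j + 1) rfl (by lia) (by push_cast at hi; lia)) (hfl j)
  exact key (c - i).toNat i j hij hi (by lia)

lemma flat_ker_of_exactAbove (C : DRing.Cx R) (c : ℤ) (hc : ∀ i : ℤ, c < i → IsZero (C.X i))
    (hfl : ∀ i : ℤ, Module.Flat R (C.X i)) (b : ℤ) (hac : ∀ i : ℤ, b < i → C.ExactAt i)
    (i j : ℤ) (hij : i + 1 = j) (hi : b ≤ i) :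
    Module.Flat R (LinearMap.ker (C.d i j).hom) := by
  have h1 := flat_range_of_exactAbove C c hc hfl b hac i j hij hi
  have h2 := hfl i
  exact flat_of_exact (LinearMap.ker (C.d i j).hom).subtype (Submodule.injective_subtype _)
    (C.d i j).hom.rangeRestrict (C.d i j).hom.surjective_rangeRestrict
    (by
      intro y
      constructor
      · intro hy
        exact ⟨⟨y, congrArg Subtype.val hy⟩, rfl⟩
      · rintro ⟨y', rfl⟩
        exact Subtype.ext y'.2)

lemma flat_cycles_of_exactAbove (C : DRing.Cx R) (c : ℤ) (hc : ∀ i : ℤ, c < i → IsZero (C.X i))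
    (hfl : ∀ i : ℤ, Module.Flat R (C.X i)) (b : ℤ) (hac : ∀ i : ℤ, b < i → C.ExactAt i) :
    Pfl R (C.cycles b) := by
  have h := flat_ker_of_exactAbove C c hc hfl b hac b ((ComplexShape.up ℤ).next b) (by simp) le_rfl
  have h' : Pfl R (ModuleCat.of R (LinearMap.ker (C.d b ((ComplexShape.up ℤ).next b)).hom)) := h
  exact (Pfl R).prop_of_iso (C.sc b).moduleCatCyclesIso.symm h'

lemma flat_opcycles_of_tensor_exact (C : DRing.Cx R) (a : ℤ) (hfl : Module.Flat R (C.X a))
    (hex : C.ExactAt (a - 1))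
    (hexN : ∀ N : ModuleCat.{u} R, ((tensorCx N).obj C).ExactAt (a - 1)) :
    Pfl R (C.opcycles a) := by
  have hp : (ComplexShape.up ℤ).prev a = a - 1 := by simp
  have h : Module.Flat R (C.X a ⧸ LinearMap.range (C.d (a - 1) a).hom) := by
    refine flat_quotient_range_of_rTensor_exact (C.d (a - 1 - 1) (a - 1)).hom (C.d (a - 1) a).hom
      ((exactAt_iff_function_exact C (a - 1 - 1) (a - 1) a (by ring) (by ring)).1 hex) hfl
      (fun I => ?_)
    exact (exactAt_iff_function_exact _ (a - 1 - 1) (a - 1) a (by ring) (by ring)).1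
      (hexN (ModuleCat.of R (R ⧸ I)))
  have h' : Pfl R (ModuleCat.of R (C.X a ⧸ LinearMap.range (C.d ((ComplexShape.up ℤ).prev a) a).hom)) := by
    rw [hp]; exact h
  exact (Pfl R).prop_of_iso (C.sc a).moduleCatOpcyclesIso.symm h'

/-- Tensoring with the unit is the identity. -/
noncomputable def tensorCxUnitIso (C : DRing.Cx R) :
    (tensorCx (𝟙_ (ModuleCat.{u} R))).obj C ≅ C :=
  (NatIso.mapHomologicalComplex (MonoidalCategory.rightUnitorNatIso (ModuleCat.{u} R))
    (ComplexShape.up ℤ)).app C ≪≫ (Functor.mapHomologicalComplexIdIso _ _).app C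

open HomologicalComplex in
lemma isZero_homology_of_quasiIso {C : Type*} [Category C] [Abelian C] {K L : CochainComplex C ℤ}
    (f : K ⟶ L) [QuasiIso f] (i : ℤ) : IsZero (K.homology i) ↔ IsZero (L.homology i) :=
  (asIso (homologyMap f i)).isZero_iff

/-- Lemma C: a bounded above complex of flat modules whose tensor products with all modules are
acyclic outside `[a, b]` has tor amplitude in `[a, b]`. -/
theorem hasTorAmplitudeIn_of_tensor_vanishing (P : DRing.Cx R) (c : ℤ)
    (hc : ∀ i : ℤ, c < i → IsZero (P.X i)) (hfl : ∀ i : ℤ, Module.Flat R (P.X i)) (a b : ℤ)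
    (h : ∀ (N : ModuleCat.{u} R) (i : ℤ), (i < a ∨ b < i) →
      IsZero (((tensorCx N).obj P).homology i)) :
    DRing.HasTorAmplitudeIn R a b (Q.obj P) := by
  have hH : ∀ i : ℤ, (i < a ∨ b < i) → IsZero (P.homology i) := fun i hi =>
    (h (𝟙_ _) i hi).of_iso ((HomologicalComplex.homologyFunctor _ _ i).mapIso (tensorCxUnitIso P).symm)
  -- upper truncation
  obtain ⟨P₁, f, hqf, hz₁, hfl₁, -⟩ := exists_truncLE_of_prop (Pfl R) P b hfl
    (fun i hi => hH i (Or.inr hi))
    (flat_cycles_of_exactAbove P c hc hfl b (fun i hi => by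
      rw [HomologicalComplex.exactAt_iff_isZero_homology]; exact hH i (Or.inr hi)))
  have hz₁' : ∀ i : ℤ, max b c < i → IsZero (P₁.X i) := fun i hi => hz₁ i (by lia)
  have hc' : ∀ i : ℤ, max b c < i → IsZero (P.X i) := fun i hi => hc i (by lia)
  have h₁ : ∀ (N : ModuleCat.{u} R) (i : ℤ), i < a → IsZero (((tensorCx N).obj P₁).homology i) := by
    intro N i hi
    have := quasiIso_tensorCx_map f (max b c) hz₁' hc' hfl₁ hfl N
    rw [isZero_homology_of_quasiIso ((tensorCx N).map f) i]
    exact h N i (Or.inl hi)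
  have hH₁ : ∀ i : ℤ, i < a → IsZero (P₁.homology i) := fun i hi => by
    rw [isZero_homology_of_quasiIso f i]
    exact hH i (Or.inl hi)
  -- lower truncation
  obtain ⟨E, g, hqg, hzE, hflE⟩ := exists_truncGE_of_prop (Pfl R) P₁ a b hz₁ hfl₁ hH₁
    (flat_opcycles_of_tensor_exact P₁ a (hfl₁ a)
      (by rw [HomologicalComplex.exactAt_iff_isZero_homology]; exact hH₁ _ (by lia))
      (fun N => by rw [HomologicalComplex.exactAt_iff_isZero_homology]; exact h₁ N _ (by lia)))
  have : IsIso (Q.map f) := by rw [isIso_Q_map_iff_quasiIso]; exact hqf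
  have : IsIso (Q.map g) := by rw [isIso_Q_map_iff_quasiIso]; exact hqg
  exact ⟨E, hzE, hflE, ⟨(asIso (Q.map g)).symm ≪≫ asIso (Q.map f)⟩⟩

end Groth.Agent.Lib.Helper13.DR
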