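import Groth.Prelude.Def_DTen5
import Mathlib.Algebra.Category.ModuleCat.Monoidal.Adjunction

/-!
# Extension of scalars on complexes is strong monoidal (chain level)
-/

set_option autoImplicit false
set_option backward.isDefEq.respectTransparency false
universe u
open CategoryTheory CategoryTheory.Limits MonoidalCategory

namespace Groth.Agent.Lib.Helper13.ET

variable {R R' : Type u} [CommRing R] [CommRing R'] (φ : R →+* R')

/-- extension of scalars on modules -/
noncomputable abbrev extM : ModuleCat.{u} R ⥤ ModuleCat.{u} R' := ModuleCat.extendScalars.{u, u, u} φ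

/-- `(M, N) ↦ ext (M ⊗ N)` -/
noncomputable abbrev extTenSrc : ModuleCat.{u} R ⥤ ModuleCat.{u} R ⥤ ModuleCat.{u} R' :=
  curriedTensor (ModuleCat.{u} R) ⋙ (Functor.whiskeringRight _ _ _).obj (extM φ)

/-- `(M, N) ↦ ext M ⊗ ext N` -/
noncomputable abbrev extTenTgt : ModuleCat.{u} R ⥤ ModuleCat.{u} R ⥤ ModuleCat.{u} R' :=
  extM φ ⋙ curriedTensor (ModuleCat.{u} R') ⋙ (Functor.whiskeringLeft _ _ _).obj (extM φ)

/-- The strong monoidal comparison as an isomorphism of bifunctors. -/
noncomputable def extTen₀ : extTenSrc φ ≅ extTenTgt φ :=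
  NatIso.ofComponents
    (fun M => NatIso.ofComponents (fun N => (Functor.Monoidal.μIso (extM φ) M N).symm)
      (fun {N N'} g => by
        dsimp
        rw [Functor.Monoidal.μIso_inv, Functor.Monoidal.μIso_inv]
        exact (Functor.OplaxMonoidal.δ_natural_right (extM φ) M g).symm))
    (fun {M M'} f => by
      ext N : 2
      dsimp
      rw [Functor.Monoidal.μIso_inv, Functor.Monoidal.μIso_inv]
      exact (Functor.OplaxMonoidal.δ_natural_left (extM φ) f N).symm)

lemma extTen₀_hom_app_app (M N : ModuleCat.{u} R) :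
    ((extTen₀ φ).hom.app M).app N = Functor.OplaxMonoidal.δ (extM φ) M N := rfl


open HomologicalComplex

/-- The chain-level strong monoidal comparison `ext (P ⊗ P') ≅ ext P ⊗ ext P'`. -/
noncomputable def extTenIso (P P' : DRing.Cx R) :
    (DTen.extCx φ).obj ((DTen.tensorT R).obj (P, P')) ≅
      (DTen.tensorT R').obj ((DTen.extCx φ).obj P, (DTen.extCx φ).obj P') :=
  (TotMap.mapTotalIso (extM φ) (DTen.tenBicx P P') (ComplexShape.up ℤ)) ≪≫
  (HomologicalComplex₂.total.mapIso
    (TotMap.mapBifunctorPostcompIso (curriedTensor (ModuleCat.{u} R)) (extM φ) P P')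
      (ComplexShape.up ℤ)).symm ≪≫
  TotMap.mapBifunctorNatIso P P' (ComplexShape.up ℤ) (extTen₀ φ) ≪≫
  (HomologicalComplex₂.total.mapIso
    (TotMap.mapBifunctorPrecompIso (extM φ) (extM φ) (curriedTensor (ModuleCat.{u} R')) P P')
      (ComplexShape.up ℤ)).symm


/-- The summand formula for `extTenIso`. -/
@[reassoc]
lemma map_ι_extTenIso_hom (P P' : DRing.Cx R) (p q n : ℤ) (h : p + q = n) :
    (extM φ).map (ιTensorObj P P' p q n h) ≫ (extTenIso φ P P').hom.f n =
      Functor.OplaxMonoidal.δ (extM φ) (P.X p) (P'.X q) ≫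
        ιTensorObj ((DTen.extCx φ).obj P) ((DTen.extCx φ).obj P') p q n h := by
  dsimp only [extTenIso, Iso.trans_hom, Iso.symm_hom]
  simp only [HomologicalComplex.comp_f, HomologicalComplex.ιTensorObj, HomologicalComplex.ιMapBifunctor]
  erw [TotMap.map_ιTotal_mapTotalIso_hom_f_assoc (extM φ) (DTen.tenBicx P P') (ComplexShape.up ℤ) p q n h]
  simp only [HomologicalComplex₂.total.mapIso_inv]
  erw [HomologicalComplex₂.ιTotal_map_assoc]
  dsimp only [TotMap.mapBifunctorNatIso]
  erw [TotMap.ι_mapBifunctorNatMap_assoc (extTen₀ φ).hom P P' (ComplexShape.up ℤ) p q n h]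
  erw [HomologicalComplex₂.ιTotal_map]
  simp only [TotMap.mapBifunctorPrecompIso,
    HomologicalComplex.Hom.isoOfComponents_inv_f, Iso.refl_inv]
  erw [Category.id_comp]
  rfl


/-- Module-level compatibility of the unit of `ext ⊣ res` with the monoidal comparisons. -/
lemma unit_comp_res_δ (M N : ModuleCat.{u} R) :
    (ModuleCat.extendRestrictScalarsAdj.{u, u, u} φ).unit.app (M ⊗ N) ≫
        (DTen.resM φ).map (Functor.OplaxMonoidal.δ (extM φ) M N) =
      ((ModuleCat.extendRestrictScalarsAdj.{u, u, u} φ).unit.app M ⊗ₘ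
          (ModuleCat.extendRestrictScalarsAdj.{u, u, u} φ).unit.app N) ≫
        DTen.resTen₀app φ ((extM φ).obj M) ((extM φ).obj N) := by
  apply ModuleCat.MonoidalCategory.tensor_ext
  intro m n
  rfl


/-- Chain-level compatibility: the unit of `P ⊗ P'` followed by `res` of the monoidal comparison is the tensor of the
units followed by the lax comparison of restriction. -/
lemma unitCx_comp_res_extTenIso (P P' : DRing.Cx R) :
    (DTen.unitCx φ).app ((DTen.tensorT R).obj (P, P')) ≫ (DTen.resCx φ).map (extTenIso φ P P').hom =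
      ((DTen.unitCx φ).app P ⊗ₘ (DTen.unitCx φ).app P') ≫
        DTen.resTenCx φ ((DTen.extCx φ).obj P) ((DTen.extCx φ).obj P') := by
  refine HomologicalComplex.hom_ext _ _ (fun n => HomologicalComplex.mapBifunctor.hom_ext (fun p q h => ?_))
  have e1 := (ModuleCat.extendRestrictScalarsAdj.{u, u, u} φ).unit.naturality (ιTensorObj P P' p q n h)
  have e2 := map_ι_extTenIso_hom φ P P' p q n h
  have e3 := DTen.ι_resTenCx φ ((DTen.extCx φ).obj P) ((DTen.extCx φ).obj P') p q n h
  have e4 := HomologicalComplex.ι_mapBifunctorMap ((DTen.unitCx φ).app P) ((DTen.unitCx φ).app P')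
    (curriedTensor (ModuleCat.{u} R)) (ComplexShape.up ℤ) p q n h
  have e5 := unit_comp_res_δ φ (P.X p) (P'.X q)
  dsimp at e1 e4
  have L : ιTensorObj P P' p q n h ≫ ((DTen.unitCx φ).app ((DTen.tensorT R).obj (P, P'))).f n ≫
      ((DTen.resCx φ).map (extTenIso φ P P').hom).f n =
      (ModuleCat.extendRestrictScalarsAdj.{u, u, u} φ).unit.app (P.X p ⊗ P'.X q) ≫
        (DTen.resM φ).map (Functor.OplaxMonoidal.δ (extM φ) (P.X p) (P'.X q) ≫
          ιTensorObj ((DTen.extCx φ).obj P) ((DTen.extCx φ).obj P') p q n h) := by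
    rw [← e2, Functor.map_comp, ← Category.assoc, ← Category.assoc]
    congr 1
  have Rr : ιTensorObj P P' p q n h ≫ ((DTen.unitCx φ).app P ⊗ₘ (DTen.unitCx φ).app P').f n ≫
      (DTen.resTenCx φ ((DTen.extCx φ).obj P) ((DTen.extCx φ).obj P')).f n =
      ((ModuleCat.extendRestrictScalarsAdj.{u, u, u} φ).unit.app (P.X p) ⊗ₘ
        (ModuleCat.extendRestrictScalarsAdj.{u, u, u} φ).unit.app (P'.X q)) ≫
      DTen.resTen₀app φ (((DTen.extCx φ).obj P).X p) (((DTen.extCx φ).obj P').X q) ≫
      (DTen.resM φ).map (ιTensorObj ((DTen.extCx φ).obj P) ((DTen.extCx φ).obj P') p q n h) := by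
    rw [← e3, ← Category.assoc, ← Category.assoc]
    congr 1
    refine (show ιTensorObj P P' p q n h ≫ ((DTen.unitCx φ).app P ⊗ₘ (DTen.unitCx φ).app P').f n = _
      from e4).trans ?_
    rw [MonoidalCategory.tensorHom_def, Category.assoc]
    rfl
  rw [HomologicalComplex.comp_f, HomologicalComplex.comp_f]
  refine L.trans (Eq.trans ?_ Rr.symm)
  rw [Functor.map_comp, ← Category.assoc, e5, Category.assoc]
  rfl

end Groth.Agent.Lib.Helper13.ET
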