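import Groth.Agent.Lib.Helper13.PCProj
import Groth.Agent.Lib.Helper13.DRingPC
import Mathlib.Algebra.Category.ModuleCat.EnoughInjectives

/-!
# Projective amplitude in `D(R)`
-/

set_option autoImplicit false
universe u
open CategoryTheory CategoryTheory.Limits
open PCoh

namespace Groth.Agent.Lib.Helper13.DR

open Groth.Agent.Lib.Helper13.PC
open DerivedCategory

attribute [local instance] HasDerivedCategory.standard

variable {R : Type u} [CommRing R]

/-- `(X[0])⟦i⟧ ≅ X[-j]` when `i + j = 0`. -/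
noncomputable def shiftSingleIso {C : Type*} [Category C] [Abelian C] [HasDerivedCategory C]
    (i j : ℤ) (h : i + j = 0) (X : C) :
    ((DerivedCategory.singleFunctor C 0).obj X)⟦i⟧ ≅ (DerivedCategory.singleFunctor C j).obj X :=
  ((DerivedCategory.singleFunctors C).shiftIso i j 0 h).app X

lemma subsingleton_hom_of_iso {D : Type*} [Category D] {X X' Y Y' : D} (e₁ : X ≅ X') (e₂ : Y ≅ Y')
    (h : Subsingleton (X ⟶ Y)) : Subsingleton (X' ⟶ Y') :=
  ⟨fun f g => by
    have := Subsingleton.elim (e₁.hom ≫ f ≫ e₂.inv) (e₁.hom ≫ g ≫ e₂.inv)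
    simpa using this⟩

lemma isZero_iff_subsingleton (M : ModuleCat.{u} R) : IsZero M ↔ Subsingleton M :=
  ⟨fun h => ModuleCat.subsingleton_of_isZero h, fun _ => ModuleCat.isZero_of_subsingleton M⟩

lemma projective_iff (M : ModuleCat.{u} R) : Projective M ↔ Module.Projective R M :=
  (IsProjective.iff_projective (R := R) (P := M)).symm


/-- `K` has projective amplitude in `[a, b]`. -/
def HasProjAmp (K : Dual.D R) (a b : ℤ) : Prop :=
  ∃ P : DRing.Cx R, DRing.VanishesOutside P a b ∧ (∀ i : ℤ, Module.Projective R (P.X i)) ∧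
    Nonempty (DRing.toD P ≅ K)

lemma ext_subsingleton_of_hasProjAmp {K : Dual.D R} {a b : ℤ} (h : HasProjAmp K a b)
    (N : Type u) [AddCommGroup N] [Module R N] (i : ℤ) (hi : i < -b ∨ -a < i) :
    Subsingleton (DRing.ExtD R K (Dual.inD R N) i) := by
  obtain ⟨P, hv, hP, ⟨e⟩⟩ := h
  have : P.IsKProjective := isKProjective_of_forall_projective P b (fun i hi => hv i (Or.inr hi))
    (fun i => (projective_iff _).2 (hP i))
  refine subsingleton_hom_of_iso e (shiftSingleIso i (-i) (by ring) (ModuleCat.of R N)).symm ?_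
  exact subsingleton_hom_single_of_isZero P (-i) (hv (-i) (by lia)) _

lemma isZero_homology_of_ext_subsingleton (K : Dual.D R) (n : ℤ)
    (h : ∀ (N : Type u) [AddCommGroup N] [Module R N],
      Subsingleton (DRing.ExtD R K (Dual.inD R N) (-n))) :
    IsZero ((DerivedCategory.homologyFunctor (ModuleCat.{u} R) n).obj K) := by
  refine isZero_homology_of_subsingleton_hom_single K n (fun N _ => ?_)
  exact subsingleton_hom_of_iso (Iso.refl K) (shiftSingleIso (-n) n (by ring) N) (h N)

/-- Acyclicity of `K` in degree `j` and projectivity of `P^{j+1}/B^{j+1}` from `Ext^{-j}`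
vanishing. -/
lemma key_of_ext_subsingleton (K : Dual.D R) (P : DRing.Cx R) (b : ℤ)
    (hb : ∀ i : ℤ, b < i → IsZero (P.X i)) (hP : ∀ i : ℤ, Projective (P.X i)) (e : Q.obj P ≅ K)
    (j : ℤ) (h : ∀ (N : Type u) [AddCommGroup N] [Module R N],
      Subsingleton (DRing.ExtD R K (Dual.inD R N) (-j))) :
    IsZero (P.homology j) ∧ Projective (P.opcycles (j + 1)) := by
  have : P.IsKProjective := isKProjective_of_forall_projective P b hb hP
  refine isZero_homology_and_projective_opcycles P j (hP _) ?_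
  exact subsingleton_hom_of_iso e.symm (shiftSingleIso (-j) j (by ring) (P.opcycles j))
    (h (P.opcycles j))

lemma exists_projective_rep' (K : Dual.D R) (b : ℤ)
    (hb : ∀ n : ℤ, b < n → Subsingleton (Dual.HD R K n)) :
    ∃ P : DRing.Cx R, (∀ i : ℤ, Projective (P.X i)) ∧ (∀ i : ℤ, b < i → IsZero (P.X i)) ∧
      Nonempty (Q.obj P ≅ K) :=
  exists_projective_rep K b (fun i hi => (isZero_iff_subsingleton _).2 (hb i hi))

lemma subsingleton_HD_iff (K : Dual.D R) (P : DRing.Cx R) (e : Q.obj P ≅ K) (n : ℤ) :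
    Subsingleton (Dual.HD R K n) ↔ IsZero (P.homology n) := by
  rw [← isZero_iff_subsingleton]
  exact Iso.isZero_iff ((DerivedCategory.homologyFunctor _ n).mapIso e.symm ≪≫ homologyQIso P n)

theorem hasProjAmp_of_four (K : Dual.D R) (a b : ℤ)
    (h1 : ∀ n : ℤ, (n < a - 1 ∨ b < n) → Subsingleton (Dual.HD R K n))
    (h2 : ∀ (N : Type u) [AddCommGroup N] [Module R N],
      Subsingleton (DRing.ExtD R K (Dual.inD R N) (-a + 1))) : HasProjAmp K a b := by
  obtain ⟨P, hP, hb, ⟨e⟩⟩ := exists_projective_rep' K b (fun n hn => h1 n (Or.inr hn))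
  obtain ⟨j, rfl⟩ : ∃ j : ℤ, a = j + 1 := ⟨a - 1, by ring⟩
  obtain ⟨hz, hproj⟩ := key_of_ext_subsingleton K P b hb hP e j (fun N _ _ => by
    have := h2 N
    rwa [show -(j + 1) + 1 = -j by ring] at this)
  obtain ⟨E, hE1, hE2, ⟨e'⟩⟩ := exists_projective_truncGE P (j + 1) b hb hP (fun i hi => by
    rcases (show i ≤ j by lia).lt_or_eq with h | h
    · exact (subsingleton_HD_iff K P e i).1 (h1 i (Or.inl (by lia)))
    · subst h; exact hz) hproj
  exact ⟨E, hE1, fun i => (projective_iff _).1 (hE2 i), ⟨e' ≪≫ e⟩⟩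

lemma isLE_of_subsingleton_HD (K : Dual.D R) (n : ℤ)
    (h : ∀ i : ℤ, n < i → Subsingleton (Dual.HD R K i)) : K.IsLE n := by
  rw [DerivedCategory.isLE_iff]
  exact fun i hi => (isZero_iff_subsingleton _).2 (h i hi)

lemma subsingleton_hom_of_hasProjAmp {L : Dual.D R} {a b : ℤ} (hL : HasProjAmp L a b)
    (K : Dual.D R) [K.IsLE (a - 1)] : Subsingleton (L ⟶ K) := by
  obtain ⟨P, hv, hP, ⟨e⟩⟩ := hL
  have : P.IsKProjective := isKProjective_of_forall_projective P b (fun i hi => hv i (Or.inr hi))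
    (fun i => (projective_iff _).2 (hP i))
  exact subsingleton_hom_of_iso e (Iso.refl K)
    (subsingleton_hom_of_isLE P a (fun i hi => hv i (Or.inl hi)) K)

end Groth.Agent.Lib.Helper13.DR
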