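import Groth.Agent.Lib.Helper13.PCStrong
import Mathlib.Algebra.Homology.DerivedCategory.SingleTriangle
import Mathlib.Algebra.Homology.SingleHomology

set_option autoImplicit false
set_option linter.style.haveILetI false

universe w v u

namespace Groth.Agent.Lib.Helper13.PC

open CategoryTheory CategoryTheory.Limits HomologicalComplex CochainComplex PCoh Pretriangulated
  ZeroObject DerivedCategory

variable {C : Type u} [Category.{v} C] [Abelian C] [HasDerivedCategory.{w} C]

/-- `(singleFunctor C n).obj X ≅ Q(X[-n])`. -/
noncomputable def singleIsoQ (n : ℤ) (X : C) :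
    (DerivedCategory.singleFunctor C n).obj X ≅
      Q.obj ((HomologicalComplex.single C (ComplexShape.up ℤ) n).obj X) :=
  (singleFunctorIsoCompQ C n).app X

lemma isZero_homology_single (n i : ℤ) (h : i ≠ n) (X : C) :
    IsZero ((DerivedCategory.homologyFunctor C i).obj ((DerivedCategory.singleFunctor C n).obj X)) := by
  have h1 : IsZero (((HomologicalComplex.single C (ComplexShape.up ℤ) n).obj X).homology i) :=
    ShortComplex.isZero_homology_of_isZero_X₂ _ (isZero_single_obj_X (ComplexShape.up ℤ) n X i h)
  exact h1.of_iso ((DerivedCategory.homologyFunctor C i).mapIso (singleIsoQ n X) ≪≫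
    homologyQIso _ i)

/-- `H^n(X[-n]) ≅ X`. -/
noncomputable def homologySingleIso (n : ℤ) (X : C) :
    (DerivedCategory.homologyFunctor C n).obj ((DerivedCategory.singleFunctor C n).obj X) ≅ X :=
  (DerivedCategory.homologyFunctor C n).mapIso (singleIsoQ n X) ≪≫ homologyQIso _ n ≪≫
    (HomologicalComplex.singleObjHomologySelfIso (ComplexShape.up ℤ) n X)

/-- `(X[0])⟦-b⟧ ≅ X[-b]`. -/
noncomputable def singleShiftIso (b : ℤ) (X : C) :
    (CategoryTheory.shiftFunctor (DerivedCategory C) (-b)).obj
      ((DerivedCategory.singleFunctor C 0).obj X) ≅ (DerivedCategory.singleFunctor C b).obj X :=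
  ((DerivedCategory.singleFunctors C).shiftIso (-b) b 0 (by lia)).app X

variable {P : ObjectProperty C} [P.IsClosedUnderIsomorphisms] [P.ContainsZero]

omit [HasDerivedCategory.{w} C] in
lemma isStrictPC_single (n : ℤ) {X : C} (hX : P X) (m : ℤ) :
    IsStrictPC P m ((HomologicalComplex.single C (ComplexShape.up ℤ) n).obj X) := by
  refine ⟨⟨n, fun i hi => isZero_single_obj_X _ n X i (by lia)⟩, fun i _ => ?_⟩
  by_cases h : i = n
  · subst h
    exact (P.prop_iff_of_iso (singleObjXSelf _ i X)).2 hX
  · exact P.prop_of_isZero (isZero_single_obj_X _ n X i h)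

lemma isNPC_single (n : ℤ) {X : C} (hX : P X) (m : ℤ) :
    IsNPC P m ((DerivedCategory.singleFunctor C n).obj X) :=
  (isNPC_Q (isStrictPC_single n hX m)).of_iso (singleIsoQ n X).symm

omit [P.IsClosedUnderIsomorphisms] [P.ContainsZero] in
/-- If `X[0]` is `m`-pseudo-coherent then `X[-b]` is `(m + b)`-pseudo-coherent. -/
lemma IsNPC.single_shift {m : ℤ} {X : C}
    (h : IsNPC P m ((DerivedCategory.singleFunctor C 0).obj X)) (b : ℤ) :
    IsNPC P (m + b) ((DerivedCategory.singleFunctor C b).obj X) := by
  have := (h.shift (-b)).of_iso (singleShiftIso b X)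
  rwa [show m - -b = m + b by ring] at this

lemma isNPC_single_of_isZero {X : C} (hX : IsZero X) (n m : ℤ) :
    IsNPC P m ((DerivedCategory.singleFunctor C n).obj X) :=
  isNPC_single n (P.prop_of_isZero hX) m


section TopCohomology

omit [HasDerivedCategory.{w} C] in
/-- The chain map `K ⟶ (K^b / B^b)[-b]`. -/
noncomputable def toSingleOpcycles (K : CochainComplex C ℤ) (b : ℤ) :
    K ⟶ (HomologicalComplex.single C (ComplexShape.up ℤ) b).obj (K.opcycles b) :=
  mkHomToSingle (K.pOpcycles b) (fun i _ => by simp)

omit [HasDerivedCategory.{w} C] in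
lemma toSingleOpcycles_f (K : CochainComplex C ℤ) (b : ℤ) :
    (toSingleOpcycles K b).f b = K.pOpcycles b ≫ (singleObjXSelf _ b (K.opcycles b)).inv := by
  simp [toSingleOpcycles]

omit [HasDerivedCategory.{w} C] in
lemma isIso_homologyMap_toSingleOpcycles (K : CochainComplex C ℤ) (b : ℤ)
    (hK : IsZero (K.X (b + 1))) : IsIso (homologyMap (toSingleOpcycles K b) b) := by
  have hmono : Mono (homologyMap (toSingleOpcycles K b) b) := by
    rw [mono_homologyMap_iff_up_to_refinements _ (b - 1) b (b + 1) (by simp) (by simp)]
    intro A x₂ _ y₁ hy₁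
    rw [toSingleOpcycles_f, single_obj_d, comp_zero, ← Category.assoc] at hy₁
    have h0 : x₂ ≫ K.pOpcycles b = 0 := by
      rw [← cancel_mono (singleObjXSelf (ComplexShape.up ℤ) b (K.opcycles b)).inv, hy₁, zero_comp]
    exact (K.comp_pOpcycles_eq_zero_iff_up_to_refinements x₂ (b - 1) (by simp)).1 h0
  have hepi : Epi (homologyMap (toSingleOpcycles K b) b) := by
    rw [epi_homologyMap_iff_up_to_refinements _ (b - 1) b (b + 1) (by simp) (by simp)]
    intro A y₂ _
    obtain ⟨A', π, hπ, x₂, hx₂⟩ := surjective_up_to_refinements_of_epi (K.pOpcycles b)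
      (y₂ ≫ (singleObjXSelf (ComplexShape.up ℤ) b (K.opcycles b)).hom)
    refine ⟨A', π, hπ, x₂, hK.eq_of_tgt _ _, 0, ?_⟩
    rw [toSingleOpcycles_f, ← Category.assoc, ← hx₂]
    simp
  exact isIso_of_mono_of_epi _

/-- Homology of the first term of a distinguished triangle whose third term has homology
concentrated in degree `b`, and whose second map is an isomorphism on `H^b`. -/
lemma homology_obj₁_of_concentrated (T : Triangle (DerivedCategory C)) (hT : T ∈ distTriang _)
    (b : ℤ) (hS : ∀ i : ℤ, i ≠ b → IsZero ((DerivedCategory.homologyFunctor C i).obj T.obj₃))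
    (hb : IsIso ((DerivedCategory.homologyFunctor C b).map T.mor₂)) :
    (∀ i : ℤ, i ≠ b → IsIso ((DerivedCategory.homologyFunctor C i).map T.mor₁)) ∧
      IsZero ((DerivedCategory.homologyFunctor C b).obj T.obj₁) := by
  have hmono : ∀ i : ℤ, Mono ((DerivedCategory.homologyFunctor C i).map T.mor₁) := fun i => by
    rw [HomologySequence.mono_homologyMap_mor₁_iff T hT (i - 1) i (by lia)]
    by_cases h : i - 1 = b
    · obtain rfl : i = b + 1 := by lia
      have : Epi ((DerivedCategory.homologyFunctor C (b + 1 - 1)).map T.mor₂) := by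
        rw [show b + 1 - 1 = b by ring]; infer_instance
      exact (HomologySequence.epi_homologyMap_mor₂_iff T hT (b + 1 - 1) (b + 1) (by lia)).1 this
    · exact (hS (i - 1) h).eq_of_src _ _
  refine ⟨fun i hi => ?_, ?_⟩
  · have := hmono i
    have : Epi ((DerivedCategory.homologyFunctor C i).map T.mor₁) := by
      rw [HomologySequence.epi_homologyMap_mor₁_iff T hT i]
      exact (hS i hi).eq_of_tgt _ _
    exact isIso_of_mono_of_epi _
  · have h0 : (DerivedCategory.homologyFunctor C b).map T.mor₁ = 0 := by
      rw [← cancel_mono ((DerivedCategory.homologyFunctor C b).map T.mor₂), zero_comp,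
        ← Functor.map_comp, comp_distTriang_mor_zero₁₂ _ hT, Functor.map_zero]
    have := hmono b
    rw [IsZero.iff_id_eq_zero, ← cancel_mono ((DerivedCategory.homologyFunctor C b).map T.mor₁), h0]
    simp

end TopCohomology


/-- If `F` has bounded above cohomology and `H^i(F)[0]` is `(n-i)`-pseudo-coherent for all
`i ≥ n`, then `F` is `n`-pseudo-coherent. -/
theorem isNPC_of_homology (hsum : ∀ X Y : C, P X → P Y → P (X ⨯ Y))
    (hqs : IsQuasiStableUnderKernels P) (hql : IsQuasiLiftable P) {n : ℤ}
    (F : DerivedCategory C) (b : ℤ)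
    (hb : ∀ i : ℤ, b < i → IsZero ((DerivedCategory.homologyFunctor C i).obj F))
    (hfp : ∀ i : ℤ, n ≤ i → IsNPC P (n - i)
      ((DerivedCategory.singleFunctor C 0).obj ((DerivedCategory.homologyFunctor C i).obj F))) :
    IsNPC P n F := by
  have key : ∀ (j : ℕ) (F : DerivedCategory C),
      (∀ i : ℤ, n - 1 + j < i → IsZero ((DerivedCategory.homologyFunctor C i).obj F)) →
      (∀ i : ℤ, n ≤ i → IsNPC P (n - i)
        ((DerivedCategory.singleFunctor C 0).obj ((DerivedCategory.homologyFunctor C i).obj F))) →
      IsNPC P n F := by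
    intro j
    induction j with
    | zero =>
      intro F hF _
      exact isNPC_of_acyclic (fun i hi => hF i (by simp; lia))
    | succ j ih =>
      intro F hF hfp
      obtain ⟨b, hbj⟩ : ∃ b : ℤ, b = n + j := ⟨_, rfl⟩
      have hF' : ∀ i : ℤ, b < i → IsZero ((DerivedCategory.homologyFunctor C i).obj F) :=
        fun i hi => hF i (by push_cast; lia)
      have : F.IsLE b := by rw [DerivedCategory.isLE_iff]; exact hF'
      obtain ⟨K, hK, ⟨e⟩⟩ := F.exists_iso_Q_obj_of_isLE b
      let p := toSingleOpcycles K b
      have hT := mappingCocone_triangle_distinguished p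
      have hS : ∀ i : ℤ, i ≠ b → IsZero ((DerivedCategory.homologyFunctor C i).obj
          (Q.mapTriangle.obj (mappingCocone.triangle p)).obj₃) := fun i hi => by
        have h1 : IsZero (((HomologicalComplex.single C (ComplexShape.up ℤ) b).obj
            (K.opcycles b)).homology i) :=
          ShortComplex.isZero_homology_of_isZero_X₂ _
            (isZero_single_obj_X (ComplexShape.up ℤ) b _ i hi)
        exact h1.of_iso (homologyQIso _ i)
      have hpiso : IsIso (homologyMap p b) :=
        isIso_homologyMap_toSingleOpcycles K b (K.isZero_of_isStrictlyLE b (b + 1) (by lia))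
      have hb' : IsIso ((DerivedCategory.homologyFunctor C b).map
          (Q.mapTriangle.obj (mappingCocone.triangle p)).mor₂) :=
        (isIso_homologyFunctor_map_Q_iff p b).2 hpiso
      obtain ⟨h1, h2⟩ := homology_obj₁_of_concentrated _ hT b hS hb'
      -- the third term is `n`-pseudo-coherent
      have isoA : (DerivedCategory.homologyFunctor C b).obj F ≅ K.opcycles b :=
        (DerivedCategory.homologyFunctor C b).mapIso e ≪≫ homologyQIso K b ≪≫
          asIso (homologyMap p b) ≪≫ singleObjHomologySelfIso (ComplexShape.up ℤ) b _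
      have h3 : IsNPC P n (Q.obj ((HomologicalComplex.single C (ComplexShape.up ℤ) b).obj
          (K.opcycles b))) := by
        have := ((hfp b (by lia)).of_iso
          ((DerivedCategory.singleFunctor C 0).mapIso isoA)).single_shift b
        rw [show n - b + b = n by ring] at this
        exact this.of_iso (singleIsoQ b _)
      -- the first term, by induction
      have isoG : ∀ i : ℤ, i ≠ b → ((DerivedCategory.homologyFunctor C i).obj
          (Q.obj (mappingCocone p)) ≅ (DerivedCategory.homologyFunctor C i).obj F) := fun i hi =>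
        @asIso _ _ _ _ ((DerivedCategory.homologyFunctor C i).map
          (Q.mapTriangle.obj (mappingCocone.triangle p)).mor₁) (h1 i hi) ≪≫
          (DerivedCategory.homologyFunctor C i).mapIso e.symm
      have hG : IsNPC P n (Q.obj (mappingCocone p)) := by
        refine ih _ (fun i hi => ?_) (fun i hi => ?_)
        · by_cases h : i = b
          · subst h; exact h2
          · exact (hF' i (by lia)).of_iso (isoG i h)
        · by_cases h : i = b
          · subst h; exact isNPC_single_of_isZero h2 _ _
          · exact (hfp i hi).of_iso ((DerivedCategory.singleFunctor C 0).mapIso (isoG i h).symm)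
      exact (isNPC_obj₂ hsum hqs hql _ hT hG h3).of_iso e.symm
  by_cases hnb : n - 1 ≤ b
  · refine key (b - (n - 1)).toNat F (fun i hi => hb i ?_) hfp
    rw [Int.toNat_of_nonneg (by lia)] at hi
    lia
  · exact key 0 F (fun i hi => hb i (by simp at hi; lia)) hfp

end Groth.Agent.Lib.Helper13.PC
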