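import Groth.Agent.Lib.Helper13.PCProj
import Groth.Agent.Lib.Helper13.PCSingle

set_option autoImplicit false

universe w v u

namespace Groth.Agent.Lib.Helper13.PC

open CategoryTheory CategoryTheory.Limits HomologicalComplex CochainComplex PCoh Pretriangulated
  ZeroObject DerivedCategory

variable {C : Type u} [Category.{v} C] [Abelian C]

section ChainLevel

variable (M : C) (Y : CochainComplex C ℤ) (n : ℤ)

/-- The map `M ⟶ Z^n(Y)` underlying a chain map `M[-n] ⟶ Y`. -/
noncomputable def cyclesOfFromSingle (g : (HomologicalComplex.single C (ComplexShape.up ℤ) n).obj M ⟶ Y) :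
    M ⟶ Y.cycles n :=
  (singleObjCyclesSelfIso (ComplexShape.up ℤ) n M).inv ≫ cyclesMap g n

lemma cyclesOfFromSingle_iCycles
    (g : (HomologicalComplex.single C (ComplexShape.up ℤ) n).obj M ⟶ Y) :
    cyclesOfFromSingle M Y n g ≫ Y.iCycles n =
      (singleObjXSelf (ComplexShape.up ℤ) n M).inv ≫ g.f n := by
  simp [cyclesOfFromSingle]

lemma cyclesOfFromSingle_homologyπ
    (g : (HomologicalComplex.single C (ComplexShape.up ℤ) n).obj M ⟶ Y) :
    cyclesOfFromSingle M Y n g ≫ Y.homologyπ n =
      (singleObjHomologySelfIso (ComplexShape.up ℤ) n M).inv ≫ homologyMap g n := by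
  rw [cyclesOfFromSingle, Category.assoc, ← homologyπ_naturality,
    singleObjCyclesSelfIso_inv_homologyπ_assoc]

/-- The chain map `M[-n] ⟶ Y` attached to `M ⟶ Z^n(Y)`. -/
noncomputable def fromSingleOfCycles (ψ : M ⟶ Y.cycles n) :
    (HomologicalComplex.single C (ComplexShape.up ℤ) n).obj M ⟶ Y :=
  mkHomFromSingle (ψ ≫ Y.iCycles n) (fun k hk => by simp)

lemma cyclesOfFromSingle_fromSingleOfCycles (ψ : M ⟶ Y.cycles n) :
    cyclesOfFromSingle M Y n (fromSingleOfCycles M Y n ψ) = ψ := by
  rw [← cancel_mono (Y.iCycles n), cyclesOfFromSingle_iCycles, fromSingleOfCycles,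
    mkHomFromSingle_f, Iso.inv_hom_id_assoc]

variable [Projective M]

/-- Every `M ⟶ H^n(Y)` is induced by a chain map `M[-n] ⟶ Y` (`M` projective). -/
lemma exists_fromSingle_of_projective (φ : M ⟶ Y.homology n) :
    ∃ g : (HomologicalComplex.single C (ComplexShape.up ℤ) n).obj M ⟶ Y,
      (singleObjHomologySelfIso (ComplexShape.up ℤ) n M).inv ≫ homologyMap g n = φ := by
  refine ⟨fromSingleOfCycles M Y n (Projective.factorThru φ (Y.homologyπ n)), ?_⟩
  rw [← cyclesOfFromSingle_homologyπ, cyclesOfFromSingle_fromSingleOfCycles,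
    Projective.factorThru_comp]

/-- A chain map `M[-n] ⟶ Y` (`M` projective) which is zero on `H^n` has its component
factoring through the differential. -/
lemma exists_factor_of_homologyMap_eq_zero
    (g : (HomologicalComplex.single C (ComplexShape.up ℤ) n).obj M ⟶ Y)
    (hg : homologyMap g n = 0) (i : ℤ) (hi : i + 1 = n) :
    ∃ h : M ⟶ Y.X i, h ≫ Y.d i n = (singleObjXSelf (ComplexShape.up ℤ) n M).inv ≫ g.f n := by
  have hS : (ShortComplex.mk (Y.toCycles i n) (Y.homologyπ n) (by simp)).Exact :=
    ShortComplex.exact_of_g_is_cokernel _ (Y.homologyIsCokernel i n (by simp; lia))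
  have h0 : cyclesOfFromSingle M Y n g ≫ Y.homologyπ n = 0 := by
    rw [cyclesOfFromSingle_homologyπ, hg, comp_zero]
  refine ⟨hS.liftFromProjective (cyclesOfFromSingle M Y n g) h0, ?_⟩
  have := hS.liftFromProjective_comp (cyclesOfFromSingle M Y n g) h0
  dsimp at this
  rw [← cyclesOfFromSingle_iCycles]
  conv_rhs => rw [← this]
  rw [Category.assoc, toCycles_i]

/-- A chain map `M[-n] ⟶ Y` (`M` projective) which is zero on `H^n` is null-homotopic. -/
noncomputable def homotopyOfHomologyMapEqZero
    (g : (HomologicalComplex.single C (ComplexShape.up ℤ) n).obj M ⟶ Y)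
    (hg : homologyMap g n = 0) : Homotopy g 0 := by
  obtain h := (exists_factor_of_homologyMap_eq_zero M Y n g hg (n - 1) (by ring)).choose
  have hh := (exists_factor_of_homologyMap_eq_zero M Y n g hg (n - 1) (by ring)).choose_spec
  let hom : ∀ i j, (ComplexShape.up ℤ).Rel j i →
      (((HomologicalComplex.single C (ComplexShape.up ℤ) n).obj M).X i ⟶ Y.X j) := fun i j hij =>
    if hi : i = n then (singleObjXIsoOfEq (ComplexShape.up ℤ) n M i hi).hom ≫
      (exists_factor_of_homologyMap_eq_zero M Y n g hg (n - 1) (by ring)).choose ≫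
        eqToHom (by congr 1; simp at hij; lia) else 0
  have e : g = Homotopy.nullHomotopicMap' hom := by
    apply from_single_hom_ext
    rw [Homotopy.nullHomotopicMap'_f (show (ComplexShape.up ℤ).Rel (n - 1) n by simp)
      (show (ComplexShape.up ℤ).Rel n (n + 1) by simp)]
    simp only [single_obj_d, zero_comp, zero_add, hom, dif_pos rfl, eqToHom_refl, Category.comp_id,
      Category.assoc]
    rw [hh]
    simp [singleObjXIsoOfEq, singleObjXSelf]
  rw [e]
  exact Homotopy.nullHomotopy' hom

end ChainLevel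

section Derived

variable [HasDerivedCategory.{w} C] (M : C) [Projective M] (n : ℤ)

lemma homologyQIso_naturality {K L : CochainComplex C ℤ} (g : K ⟶ L) (i : ℤ) :
    (DerivedCategory.homologyFunctor C i).map (Q.map g) ≫ (homologyQIso L i).hom =
      (homologyQIso K i).hom ≫ homologyMap g i :=
  (homologyFunctorFactors C i).hom.naturality g

omit [HasDerivedCategory.{w} C] in
instance isKProjective_single :
    CochainComplex.IsKProjective ((HomologicalComplex.single C (ComplexShape.up ℤ) n).obj M) :=
  isKProjective_of_forall_projective _ n (fun i hi => isZero_single_obj_X _ n M i (by lia))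
    (fun i => by
      by_cases h : i = n
      · subst h
        exact Projective.of_iso (singleObjXSelf _ i M).symm inferInstance
      · exact (isZero_single_obj_X _ n M i h).projective)

/-- The comparison map `Hom(M[-n], Y) → Hom(M, H^n Y)`. -/
noncomputable def fromSingleHomologyMap (Y : DerivedCategory C)
    (g : (DerivedCategory.singleFunctor C n).obj M ⟶ Y) :
    M ⟶ (DerivedCategory.homologyFunctor C n).obj Y :=
  (homologySingleIso n M).inv ≫ (DerivedCategory.homologyFunctor C n).map g

omit [Projective M] in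
lemma fromSingleHomologyMap_comp {Y Y' : DerivedCategory C}
    (g : (DerivedCategory.singleFunctor C n).obj M ⟶ Y) (y : Y ⟶ Y') :
    fromSingleHomologyMap M n Y' (g ≫ y) =
      fromSingleHomologyMap M n Y g ≫ (DerivedCategory.homologyFunctor C n).map y := by
  simp [fromSingleHomologyMap]

omit [Projective M] in
lemma fromSingleHomologyMap_Q (Y : CochainComplex C ℤ)
    (g : (HomologicalComplex.single C (ComplexShape.up ℤ) n).obj M ⟶ Y) :
    fromSingleHomologyMap M n (Q.obj Y) ((singleIsoQ n M).hom ≫ Q.map g) ≫ (homologyQIso Y n).hom =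
      (singleObjHomologySelfIso (ComplexShape.up ℤ) n M).inv ≫ homologyMap g n := by
  simp only [fromSingleHomologyMap, homologySingleIso, Iso.trans_inv, Functor.mapIso_inv,
    Category.assoc, Functor.map_comp, homologyQIso_naturality]
  rw [← Functor.map_comp_assoc, Iso.inv_hom_id, CategoryTheory.Functor.map_id, Category.id_comp,
    Iso.inv_hom_id_assoc]

/-- For `M` projective, `Hom_{D(C)}(M[-n], Y) ≃ Hom_C(M, H^n(Y))`. -/
theorem bijective_fromSingleHomologyMap (Y : DerivedCategory C) :
    Function.Bijective (fromSingleHomologyMap M n Y) := by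
  -- reduce to `Y = Q Y'`
  suffices H : ∀ Y' : CochainComplex C ℤ, Function.Bijective (fromSingleHomologyMap M n (Q.obj Y')) by
    let e : Q.obj (Q.objPreimage Y) ≅ Y := Q.objObjPreimageIso Y
    have h := H (Q.objPreimage Y)
    constructor
    · intro g g' hgg'
      have : g ≫ e.inv = g' ≫ e.inv := h.injective (by
        rw [fromSingleHomologyMap_comp, fromSingleHomologyMap_comp, hgg'])
      simpa using this =≫ e.hom
    · intro φ
      obtain ⟨g, hg⟩ := h.surjective (φ ≫ (DerivedCategory.homologyFunctor C n).map e.inv)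
      refine ⟨g ≫ e.hom, ?_⟩
      rw [fromSingleHomologyMap_comp, hg, Category.assoc, ← Functor.map_comp, Iso.inv_hom_id,
        CategoryTheory.Functor.map_id, Category.comp_id]
  intro Y'
  constructor
  · intro g₁ g₂ h
    obtain ⟨g₁', hg₁⟩ := exists_Q_map_eq ((singleIsoQ n M).inv ≫ g₁)
    obtain ⟨g₂', hg₂⟩ := exists_Q_map_eq ((singleIsoQ n M).inv ≫ g₂)
    have e₁ : g₁ = (singleIsoQ n M).hom ≫ Q.map g₁' := by rw [hg₁, Iso.hom_inv_id_assoc]
    have e₂ : g₂ = (singleIsoQ n M).hom ≫ Q.map g₂' := by rw [hg₂, Iso.hom_inv_id_assoc]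
    have h' := congrArg (fun t => t ≫ (homologyQIso Y' n).hom) h
    rw [e₁, e₂, fromSingleHomologyMap_Q, fromSingleHomologyMap_Q] at h'
    have h0 : homologyMap (g₁' - g₂') n = 0 := by
      rw [homologyMap_sub, sub_eq_zero]
      simpa using h'
    have hQ : Q.map (g₁' - g₂') = 0 := by
      have := DerivedCategory.Q_map_eq_of_homotopy C (homotopyOfHomologyMapEqZero M Y' n _ h0)
      rw [this, Functor.map_zero]
    rw [Functor.map_sub, sub_eq_zero] at hQ
    rw [e₁, e₂, hQ]
  · intro φ
    obtain ⟨g, hg⟩ := exists_fromSingle_of_projective M Y' n (φ ≫ (homologyQIso Y' n).hom)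
    refine ⟨(singleIsoQ n M).hom ≫ Q.map g, ?_⟩
    rw [← cancel_mono (homologyQIso Y' n).hom, fromSingleHomologyMap_Q, hg]

end Derived

end Groth.Agent.Lib.Helper13.PC
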