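import Groth.Agent.Lib.Helper13.KanCounit
import Groth.Agent.Lib.Helper13.PCSingleHom
import Groth.Agent.Lib.Helper13.DRingProj
import Mathlib.Algebra.Category.ModuleCat.Adjunctions
import Mathlib.CategoryTheory.Functor.Derived.LeftDerived
import Groth.Prelude.Def_DDual2

set_option autoImplicit false
universe u
open CategoryTheory CategoryTheory.Limits

namespace Groth.Agent.Lib.Helper13.DR

open Groth.Agent.Lib.Helper13.PC Groth.Agent.Lib.Helper13.Kan
open DerivedCategory
attribute [local instance] HasDerivedCategory.standard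

variable (B : Type u) [CommRing B]

/-- The functor `H^n : D(B) ⥤ Type u`. -/
noncomputable abbrev Hn (n : ℤ) : Dual.D B ⥤ Type u :=
  DerivedCategory.homologyFunctor (ModuleCat.{u} B) n ⋙ forget (ModuleCat.{u} B)

instance projective_free (S : Type u) : Projective ((ModuleCat.free B).obj S) := by
  rw [projective_iff]
  change Module.Projective B (S →₀ B)
  infer_instance

lemma bijective_eval_free (S : Type u) (N : ModuleCat.{u} B) :
    Function.Bijective (fun (φ : (ModuleCat.free B).obj S ⟶ N) (s : S) =>
      φ.hom (Finsupp.single s (1 : B))) := by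
  have h1 : Function.Bijective (fun (φ : (ModuleCat.free B).obj S ⟶ N) => φ.hom) :=
    (ModuleCat.homEquiv).bijective
  have h2 := (Finsupp.lift N B S).symm.bijective
  convert h2.comp h1 using 1
  funext φ s
  rfl

/-- Copowers of `B[-n]` in `D(B)`. -/
noncomputable def copowerHn (n : ℤ) (S : Type u) : Copower (Hn B n) S where
  Z := (DerivedCategory.singleFunctor (ModuleCat.{u} B) n).obj ((ModuleCat.free B).obj S)
  ι s := (homologySingleIso n ((ModuleCat.free B).obj S)).inv.hom (Finsupp.single s (1 : B))
  bij Y := by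
    have h1 := bijective_fromSingleHomologyMap ((ModuleCat.free B).obj S) n Y
    have h2 := bijective_eval_free B S ((DerivedCategory.homologyFunctor (ModuleCat.{u} B) n).obj Y)
    exact h2.comp h1

section KProjective

variable {A : Type u} [CommRing A] {B}
  (F : HomotopyCategory (ModuleCat.{u} A) (ComplexShape.up ℤ) ⥤ Dual.D B)
  (LF : Dual.D A ⥤ Dual.D B) (α : Qh ⋙ LF ⟶ F) [LF.IsRightKanExtension α]
  (P : DRing.Cx A) [P.IsKProjective]

instance small_hom_Qh_of_isKProjective (Y : Dual.D A) :
    Small.{u} (Qh.obj ((HomotopyCategory.quotient _ _).obj P) ⟶ Y) := by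
  let X := Qh.objPreimage Y
  let e : Qh.obj X ≅ Y := Qh.objObjPreimageIso Y
  have e1 : (Qh.obj ((HomotopyCategory.quotient _ _).obj P) ⟶ Y) ≃
      (Qh.obj ((HomotopyCategory.quotient _ _).obj P) ⟶ Qh.obj X) :=
    (Iso.homCongr (Iso.refl _) e.symm)
  have e2 : ((HomotopyCategory.quotient _ _).obj P ⟶ X) ≃
      (Qh.obj ((HomotopyCategory.quotient _ _).obj P) ⟶ Qh.obj X) :=
    Equiv.ofBijective _ (CochainComplex.IsKProjective.Qh_map_bijective P X)
  exact small_map (e1.trans e2.symm)

/-- **Theorem V**: the counit of a left derived functor `K(A) ⥤ D(B)` is an isomorphism at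
K-projective complexes. -/
theorem isIso_counit_app_of_isKProjective :
    IsIso (α.app ((HomotopyCategory.quotient _ _).obj P)) := by
  rw [DerivedCategory.isIso_iff]
  intro n
  have hb : Function.Bijective ((Hn B n).map (α.app ((HomotopyCategory.quotient _ _).obj P))) :=
    bijective_map_counit Qh F LF α ((HomotopyCategory.quotient _ _).obj P) (Hn B n)
      (copowerHn B n)
      (fun X f => (CochainComplex.IsKProjective.Qh_map_bijective P X).surjective f)
      (fun X f g h => by rw [(CochainComplex.IsKProjective.Qh_map_bijective P X).injective h])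
  rw [← isIso_iff_bijective] at hb
  have hb' : IsIso ((forget (ModuleCat.{u} B)).map ((DerivedCategory.homologyFunctor
      (ModuleCat.{u} B) n).map (α.app ((HomotopyCategory.quotient _ _).obj P)))) := hb
  exact isIso_of_reflects_iso _ (forget (ModuleCat.{u} B))

end KProjective

section Additive

variable {A : Type u} [CommRing A] {B}
  (Φ : ModuleCat.{u} A ⥤ ModuleCat.{u} B) [Φ.Additive]
  [(Φ.mapHomotopyCategory (ComplexShape.up ℤ) ⋙ Qh).HasLeftDerivedFunctor
    (HomotopyCategory.quasiIso (ModuleCat.{u} A) (ComplexShape.up ℤ))]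

/-- The total left derived functor of a termwise additive functor, computed on a K-projective
complex. -/
noncomputable def totalLeftDerivedIso (P : DRing.Cx A) [P.IsKProjective] :
    ((Φ.mapHomotopyCategory (ComplexShape.up ℤ) ⋙ Qh).totalLeftDerived Qh
      (HomotopyCategory.quasiIso (ModuleCat.{u} A) (ComplexShape.up ℤ))).obj (Q.obj P) ≅
      Q.obj ((Φ.mapHomologicalComplex (ComplexShape.up ℤ)).obj P) :=
  have : ((Φ.mapHomotopyCategory (ComplexShape.up ℤ) ⋙ Qh).totalLeftDerived Qh
      (HomotopyCategory.quasiIso (ModuleCat.{u} A) (ComplexShape.up ℤ))).IsRightKanExtension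
      ((Φ.mapHomotopyCategory (ComplexShape.up ℤ) ⋙ Qh).totalLeftDerivedCounit Qh
        (HomotopyCategory.quasiIso (ModuleCat.{u} A) (ComplexShape.up ℤ))) :=
    Functor.IsLeftDerivedFunctor.isRightKanExtension _ _
      (W := HomotopyCategory.quasiIso (ModuleCat.{u} A) (ComplexShape.up ℤ))
  have := isIso_counit_app_of_isKProjective (Φ.mapHomotopyCategory (ComplexShape.up ℤ) ⋙ Qh) _
    ((Φ.mapHomotopyCategory (ComplexShape.up ℤ) ⋙ Qh).totalLeftDerivedCounit Qh
      (HomotopyCategory.quasiIso (ModuleCat.{u} A) (ComplexShape.up ℤ))) P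
  ((Φ.mapHomotopyCategory (ComplexShape.up ℤ) ⋙ Qh).totalLeftDerived Qh
      (HomotopyCategory.quasiIso (ModuleCat.{u} A) (ComplexShape.up ℤ))).mapIso
        ((quotientCompQhIso (ModuleCat.{u} A)).app P).symm ≪≫
    asIso (((Φ.mapHomotopyCategory (ComplexShape.up ℤ) ⋙ Qh).totalLeftDerivedCounit Qh
      (HomotopyCategory.quasiIso (ModuleCat.{u} A) (ComplexShape.up ℤ))).app
        ((HomotopyCategory.quotient _ _).obj P)) ≪≫
    Qh.mapIso ((Φ.mapHomotopyCategoryFactors (ComplexShape.up ℤ)).app P) ≪≫
    (quotientCompQhIso (ModuleCat.{u} B)).app _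

end Additive

section Concrete

variable {A : Type u} [CommRing A] {B}

/-- Derived base change of a K-projective complex is computed termwise. -/
noncomputable def LBaseChangeIso (φ : A →+* B) [DRing.HasLBaseChange φ] (P : DRing.Cx A)
    [P.IsKProjective] :
    (DRing.LBaseChange φ).obj (Q.obj P) ≅
      Q.obj (((ModuleCat.extendScalars.{u, u, u} φ).mapHomologicalComplex (ComplexShape.up ℤ)).obj P) :=
  totalLeftDerivedIso (ModuleCat.extendScalars.{u, u, u} φ) P

/-- The derived tensor product with a module, on a K-projective complex, is computed termwise. -/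
noncomputable def LTensorIso (M : ModuleCat.{u} A) [DRing.HasLTensor A M] (P : DRing.Cx A)
    [P.IsKProjective] :
    (DRing.LTensor A M).obj (Q.obj P) ≅
      Q.obj (((MonoidalCategory.tensorRight M).mapHomologicalComplex (ComplexShape.up ℤ)).obj P) :=
  totalLeftDerivedIso (MonoidalCategory.tensorRight M) P

end Concrete

end Groth.Agent.Lib.Helper13.DR
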