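import Groth.Agent.Lib.Helper13.SemiFree3
import Mathlib.Algebra.Category.ModuleCat.FilteredColimits
import Mathlib.Algebra.Category.ModuleCat.Colimits
import Mathlib.CategoryTheory.Limits.Preserves.Filtered
import Mathlib.Algebra.Homology.DerivedCategory.Basic

/-!
# Semi-free resolutions of unbounded complexes of modules
-/

set_option autoImplicit false
universe w u
open CategoryTheory CategoryTheory.Limits

namespace Groth.Agent.Lib.Helper13.SF

open CochainComplex HomologicalComplex HomComplex ZeroObject

variable {R : Type u} [Ring R] (K : CochainComplex (ModuleCat.{u} R) ℤ)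

/-- The stages of the semi-free resolution. -/
noncomputable def stage : ℕ → Stage K
  | 0 => ⟨0, 0⟩
  | (k + 1) => (stage k).next

/-- The sequence of stages as a functor. -/
noncomputable def seqF : ℕ ⥤ CochainComplex (ModuleCat.{u} R) ℤ :=
  Functor.ofSequence (X := fun k => (stage K k).P) (fun k => (stage K k).ι)

lemma seqF_map_succ (k : ℕ) :
    (seqF K).map (homOfLE (Nat.le_add_right k 1)) = (stage K k).ι :=
  Functor.ofSequence_map_homOfLE_succ _ k

/-- The cocone over the sequence with point `K`. -/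
noncomputable def seqCocone : Cocone (seqF K) where
  pt := K
  ι := NatTrans.ofSequence (F := seqF K) (G := (Functor.const ℕ).obj K)
    (fun k => (stage K k).f) (fun k => by
      rw [seqF_map_succ]
      dsimp
      rw [Category.comp_id]
      exact (stage K k).ι_f)

/-- The semi-free resolution. -/
noncomputable def res : CochainComplex (ModuleCat.{u} R) ℤ := colimit (seqF K)

/-- The structure map of the semi-free resolution. -/
noncomputable def resMap : res K ⟶ K := colimit.desc (seqF K) (seqCocone K)

/-- The inclusion of a stage. -/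
noncomputable def resι (k : ℕ) : (stage K k).P ⟶ res K := colimit.ι (seqF K) k

@[reassoc (attr := simp)]
lemma resι_resMap (k : ℕ) : resι K k ≫ resMap K = (stage K k).f :=
  colimit.ι_desc (seqCocone K) k

@[reassoc (attr := simp)]
lemma ι_resι (k : ℕ) : (stage K k).ι ≫ resι K (k + 1) = resι K k := by
  rw [← seqF_map_succ]
  exact colimit.w (seqF K) (homOfLE (Nat.le_add_right k 1))

/-- The resolution is degreewise a colimit. -/
noncomputable def isColimitEval (p : ℤ) :
    IsColimit ((HomologicalComplex.eval _ (ComplexShape.up ℤ) p).mapCocone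
      (colimit.cocone (seqF K))) :=
  isColimitOfPreserves _ (colimit.isColimit (seqF K))

instance res_isKProjective : (res K).IsKProjective := by
  refine isKProjective_of_seq (colimit.cocone (seqF K)) (isColimitEval K) ?_ ?_
  · intro L _ f
    refine ⟨0, ?_⟩
    have : f = 0 := (isZero_zero _).eq_of_src _ _
    rw [this, δ_zero, Cochain.ofHom_zero]
  · intro k L hL f β hβ
    rw [seqF_map_succ] at hβ ⊢
    exact exists_extension (attach (stage K k))
      (fun γ hγ => exists_coboundary_of_zero_d (freeCx_d _) inferInstance hL γ hγ) f β hβ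

instance preservesColimitsOfShape_nat_forget :
    PreservesColimitsOfShape ℕ (forget (ModuleCat.{u} R)) := by
  have : PreservesFilteredColimitsOfSize.{0, 0} (forget (ModuleCat.{u} R)) :=
    preservesFilteredColimitsOfSize_shrink.{0, u, 0, u} _
  exact PreservesFilteredColimitsOfSize.preserves_filtered_colimits ℕ

/-- Every element of the resolution comes from a stage. -/
lemma exists_rep (n : ℤ) (x : (res K).X n) :
    ∃ (k : ℕ) (y : (stage K k).P.X n), (resι K k).f n y = x :=
  Concrete.isColimit_exists_rep (seqF K ⋙ HomologicalComplex.eval _ (ComplexShape.up ℤ) n)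
    (isColimitEval K n) x

/-- The transition maps of the sequence. -/
noncomputable def trans (k l : ℕ) (h : k ≤ l) : (stage K k).P ⟶ (stage K l).P :=
  (seqF K).map (homOfLE h)

@[reassoc (attr := simp)]
lemma trans_resι (k l : ℕ) (h : k ≤ l) : trans K k l h ≫ resι K l = resι K k :=
  colimit.w (seqF K) (homOfLE h)

@[reassoc (attr := simp)]
lemma trans_f (k l : ℕ) (h : k ≤ l) : trans K k l h ≫ (stage K l).f = (stage K k).f := by
  rw [← resι_resMap, trans_resι_assoc, resι_resMap]

/-- An element of a stage dying in the resolution dies at a later stage. -/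
lemma exists_trans_eq_zero (n : ℤ) (k : ℕ) (y : (stage K k).P.X n)
    (hy : (resι K k).f n y = 0) : ∃ (l : ℕ) (h : k ≤ l), (trans K k l h).f n y = 0 := by
  have := (Concrete.isColimit_rep_eq_iff_exists
    (seqF K ⋙ HomologicalComplex.eval _ (ComplexShape.up ℤ) n) (isColimitEval K n)
    (i := k) (j := k) y 0).1 (hy.trans (map_zero _).symm)
  obtain ⟨l, f, g, hfg⟩ := this
  refine ⟨l, leOfHom f, ?_⟩
  refine hfg.trans ?_
  exact map_zero _

lemma comm_apply {P Q : CochainComplex (ModuleCat.{u} R) ℤ} (φ : P ⟶ Q) (i j : ℤ) (x : P.X i) :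
    (φ.f j).hom ((P.d i j).hom x) = (Q.d i j).hom ((φ.f i).hom x) :=
  (congrArg (fun g => g.hom x) (φ.comm i j)).symm

lemma comp_f_apply {P Q T : CochainComplex (ModuleCat.{u} R) ℤ} (φ : P ⟶ Q) (ψ : Q ⟶ T) (i : ℤ)
    (x : P.X i) : ((φ ≫ ψ).f i).hom x = (ψ.f i).hom ((φ.f i).hom x) := rfl

instance quasiIso_resMap : QuasiIso (resMap K) := by
  apply quasiIso_of_elementwise
  · rintro n x hx ⟨w, hw⟩
    obtain ⟨k, y, rfl⟩ := exists_rep K n x
    have h1 : ((resι K k).f (n + 1)).hom (((stage K k).P.d n (n + 1)).hom y) = 0 :=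
      (comm_apply (resι K k) n (n + 1) y).trans hx
    obtain ⟨l, hkl, h2⟩ := exists_trans_eq_zero K (n + 1) k _ h1
    have hy'd : ((stage K l).P.d n (n + 1)).hom (((trans K k l hkl).f n).hom y) = 0 :=
      (comm_apply (trans K k l hkl) n (n + 1) y).symm.trans h2
    have hy'f : ((stage K l).f.f n).hom (((trans K k l hkl).f n).hom y) =
        (K.d (n - 1) n).hom w := by
      rw [← comp_f_apply, trans_f, ← resι_resMap, comp_f_apply]
      exact hw
    obtain ⟨v, hv⟩ := (stage K l).exists_boundary n (n - 1) (by omega) _ hy'd w hy'f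
    refine ⟨((resι K (l + 1)).f (n - 1)).hom v, ?_⟩
    refine (comm_apply (resι K (l + 1)) (n - 1) n v).symm.trans ?_
    refine (congrArg ((resι K (l + 1)).f n).hom hv).trans ?_
    exact (congrArg (fun φ : (stage K l).P ⟶ res K =>
        (φ.f n).hom (((trans K k l hkl).f n).hom y)) (ι_resι K l)).trans
      (congrArg (fun φ : (stage K k).P ⟶ res K => (φ.f n).hom y) (trans_resι K k l hkl))
  · intro n y hy
    obtain ⟨x, hx, hxy⟩ := (stage K 0).exists_cycle (n + 1) n (by omega) y hy
    refine ⟨((resι K 1).f n).hom x, ?_, 0, ?_⟩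
    · refine (comm_apply (resι K 1) n (n + 1) x).symm.trans ?_
      refine (congrArg ((resι K 1).f (n + 1)).hom hx).trans (map_zero _)
    · rw [map_zero, add_zero, ← comp_f_apply, resι_resMap]
      exact hxy.symm

section ProjectiveAbstract

variable {C : Type*} [Category C] [Abelian C]

open mappingCone in
/-- Extending a lift from `G.X n` to `(mappingCone φ).X n`. -/
lemma exists_extension_hom {F G : CochainComplex C ℤ} (φ : F ⟶ G) (n : ℤ)
    [Projective (F.X (n + 1))] {A B : C} (e : A ⟶ B) [Epi e] (t : (mappingCone φ).X n ⟶ B)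
    (a : G.X n ⟶ A) (ha : a ≫ e = (inr φ).f n ≫ t) :
    ∃ a' : (mappingCone φ).X n ⟶ A, a' ≫ e = t ∧ (inr φ).f n ≫ a' = a := by
  let b : F.X (n + 1) ⟶ A := Projective.factorThru ((inl φ).v (n + 1) n (by omega) ≫ t) e
  refine ⟨(fst φ).1.v n (n + 1) rfl ≫ b + (snd φ).v n n (add_zero n) ≫ a, ?_, ?_⟩
  · apply ext_from φ (n + 1) n rfl
    · rw [Preadditive.add_comp, Preadditive.comp_add, Category.assoc, Category.assoc,
        inl_v_fst_v_assoc, inl_v_snd_v_assoc, zero_comp, add_zero, Projective.factorThru_comp]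
    · rw [Preadditive.add_comp, Preadditive.comp_add, Category.assoc, Category.assoc,
        inr_f_fst_v_assoc, inr_f_snd_v_assoc, zero_comp, zero_add, ha]
  · rw [Preadditive.comp_add, inr_f_fst_v_assoc, inr_f_snd_v_assoc, zero_comp, zero_add]

/-- A sequential colimit is projective provided lifts extend along each step. -/
theorem projective_of_seq {F : ℕ ⥤ C} (c : Cocone F) (hc : IsColimit c) (h0 : IsZero (F.obj 0))
    (hstep : ∀ (k : ℕ) {A B : C} (e : A ⟶ B), Epi e → ∀ (t : F.obj (k + 1) ⟶ B) (a : F.obj k ⟶ A),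
      a ≫ e = F.map (homOfLE (Nat.le_add_right k 1)) ≫ t →
      ∃ a' : F.obj (k + 1) ⟶ A, a' ≫ e = t ∧ F.map (homOfLE (Nat.le_add_right k 1)) ≫ a' = a) :
    Projective c.pt := by
  refine ⟨fun {A B} t e he => ?_⟩
  let T : ℕ → Type _ := fun k => { a : F.obj k ⟶ A // a ≫ e = c.ι.app k ≫ t }
  have hw : ∀ k : ℕ, F.map (homOfLE (Nat.le_add_right k 1)) ≫ c.ι.app (k + 1) ≫ t =
      c.ι.app k ≫ t := fun k => by rw [← Category.assoc, c.w]
  let next : ∀ k : ℕ, T k → T (k + 1) := fun k a =>
    ⟨(hstep k e he (c.ι.app (k + 1) ≫ t) a.1 (by rw [a.2, hw])).choose,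
      (hstep k e he (c.ι.app (k + 1) ≫ t) a.1 (by rw [a.2, hw])).choose_spec.1⟩
  have hnext : ∀ (k : ℕ) (a : T k),
      F.map (homOfLE (Nat.le_add_right k 1)) ≫ (next k a).1 = a.1 := fun k a =>
    (hstep k e he (c.ι.app (k + 1) ≫ t) a.1 (by rw [a.2, hw])).choose_spec.2
  let a0 : T 0 := ⟨0, by rw [zero_comp]; exact h0.eq_of_src _ _⟩
  let a : ∀ k : ℕ, T k := fun k => Nat.rec a0 next k
  have ha : ∀ k : ℕ, F.map (homOfLE (Nat.le_add_right k 1)) ≫ (a (k + 1)).1 = (a k).1 :=
    fun k => hnext k (a k)
  let c' : Cocone F := ⟨A, NatTrans.ofSequence (F := F) (G := (Functor.const ℕ).obj A)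
    (fun k => (a k).1) (fun k => by
      dsimp
      rw [Category.comp_id]
      exact ha k)⟩
  refine ⟨hc.desc c', ?_⟩
  apply hc.hom_ext
  intro k
  rw [← Category.assoc, hc.fac]
  exact (a k).2

end ProjectiveAbstract

section Projective

/-- The terms of the semi-free resolution are projective. -/
instance res_X_projective (n : ℤ) : Projective ((res K).X n) := by
  refine projective_of_seq _ (isColimitEval K n) ?_ ?_
  · exact Functor.map_isZero (HomologicalComplex.eval _ (ComplexShape.up ℤ) n) (isZero_zero _)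
  · intro k A B e he t a ha
    have h1 : (seqF K ⋙ HomologicalComplex.eval _ (ComplexShape.up ℤ) n).map
        (homOfLE (Nat.le_add_right k 1)) = (mappingCone.inr (attach (stage K k))).f n :=
      congrArg (fun φ => φ.f n) (seqF_map_succ K k)
    rw [h1] at ha ⊢
    exact exists_extension_hom (attach (stage K k)) n e t a ha

end Projective

/-- **Spaltenstein**: every complex of modules admits a K-projective resolution with projective
terms. -/
theorem exists_kprojective_resolution (K : CochainComplex (ModuleCat.{u} R) ℤ) :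
    ∃ (P : CochainComplex (ModuleCat.{u} R) ℤ) (f : P ⟶ K), P.IsKProjective ∧
      (∀ n : ℤ, Projective (P.X n)) ∧ QuasiIso f :=
  ⟨res K, resMap K, inferInstance, inferInstance, inferInstance⟩

/-- Every object of the derived category of modules is represented by a K-projective complex with
projective terms. -/
theorem exists_kprojective_rep [HasDerivedCategory.{w} (ModuleCat.{u} R)]
    (X : DerivedCategory (ModuleCat.{u} R)) :
    ∃ P : CochainComplex (ModuleCat.{u} R) ℤ, P.IsKProjective ∧
      (∀ n : ℤ, Projective (P.X n)) ∧ Nonempty (DerivedCategory.Q.obj P ≅ X) := by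
  obtain ⟨K, ⟨e⟩⟩ : ∃ K : CochainComplex (ModuleCat.{u} R) ℤ,
      Nonempty (DerivedCategory.Q.obj K ≅ X) :=
    ⟨_, ⟨DerivedCategory.Q.objObjPreimageIso X⟩⟩
  have : IsIso (DerivedCategory.Q.map (resMap K)) := by
    rw [DerivedCategory.isIso_Q_map_iff_quasiIso]
    infer_instance
  exact ⟨res K, inferInstance, inferInstance, ⟨asIso (DerivedCategory.Q.map (resMap K)) ≪≫ e⟩⟩

end Groth.Agent.Lib.Helper13.SF
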