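import Groth.Agent.Lib.Helper13.KanResolutions
import Groth.Agent.Lib.Helper13.AdjCx
import Groth.Agent.Lib.Helper13.SemiFree4
import Groth.Agent.Lib.Helper13.DRingLDerived
import Mathlib.CategoryTheory.Functor.Derived.Adjunction
import Mathlib.CategoryTheory.Functor.Derived.PointwiseRightDerived

/-!
# Derived base change is left adjoint to restriction of scalars
-/

set_option autoImplicit false
universe u
open CategoryTheory CategoryTheory.Limits

namespace Groth.Agent.Lib.Helper13.DR

open Groth.Agent.Lib.Helper13.PC Groth.Agent.Lib.Helper13.SF Groth.Agent.Lib.Helper13.Kan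
open DerivedCategory
attribute [local instance] HasDerivedCategory.standard

variable {A B : Type u} [CommRing A] [CommRing B] (φ : A →+* B)

/-- Extension of scalars on complexes. -/
noncomputable abbrev extC : DRing.Cx A ⥤ DRing.Cx B :=
  (ModuleCat.extendScalars.{u, u, u} φ).mapHomologicalComplex (ComplexShape.up ℤ)

/-- Restriction of scalars on complexes. -/
noncomputable abbrev resC : DRing.Cx B ⥤ DRing.Cx A :=
  (ModuleCat.restrictScalars.{u} φ).mapHomologicalComplex (ComplexShape.up ℤ)

/-- The adjunction on complexes. -/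
noncomputable def adjC : extC φ ⊣ resC φ :=
  adjCx (ModuleCat.extendRestrictScalarsAdj.{u, u, u} φ) (ComplexShape.up ℤ)

variable [DRing.HasLBaseChange φ]

/-- The counit of derived base change, along `Q`. -/
noncomputable def αQ : Q ⋙ DRing.LBaseChange φ ⟶ extC φ ⋙ Q :=
  Functor.whiskerRight (quotientCompQhIso (ModuleCat.{u} A)).inv (DRing.LBaseChange φ) ≫
    (Functor.associator _ _ _).hom ≫
    Functor.whiskerLeft (HomotopyCategory.quotient _ _)
      ((DRing.baseChangeKh φ).totalLeftDerivedCounit Qh
        (HomotopyCategory.quasiIso (ModuleCat.{u} A) (ComplexShape.up ℤ))) ≫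
    (Functor.associator _ _ _).inv ≫
    Functor.whiskerRight ((ModuleCat.extendScalars.{u, u, u} φ).mapHomotopyCategoryFactors
      (ComplexShape.up ℤ)).hom Qh ≫
    (Functor.associator _ _ _).hom ≫
    Functor.whiskerLeft (extC φ) (quotientCompQhIso (ModuleCat.{u} B)).hom

lemma isIso_αQ_app (P : DRing.Cx A) [P.IsKProjective] : IsIso ((αQ φ).app P) := by
  have : (DRing.LBaseChange φ).IsRightKanExtension
      ((DRing.baseChangeKh φ).totalLeftDerivedCounit Qh
        (HomotopyCategory.quasiIso (ModuleCat.{u} A) (ComplexShape.up ℤ))) :=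
    Functor.IsLeftDerivedFunctor.isRightKanExtension _ _
      (W := HomotopyCategory.quasiIso (ModuleCat.{u} A) (ComplexShape.up ℤ))
  have := isIso_counit_app_of_isKProjective (DRing.baseChangeKh φ) _
    ((DRing.baseChangeKh φ).totalLeftDerivedCounit Qh
      (HomotopyCategory.quasiIso (ModuleCat.{u} A) (ComplexShape.up ℤ))) P
  dsimp [αQ]
  infer_instance

/-- K-projective resolutions adapted to any natural transformation which is an isomorphism on
K-projective complexes. -/
noncomputable def resolutions {𝒯 : Type*} [Category 𝒯] {F : DRing.Cx A ⥤ 𝒯}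
    {LF : Dual.D A ⥤ 𝒯} (α : Q ⋙ LF ⟶ F)
    (hα : ∀ (P : DRing.Cx A) [P.IsKProjective], IsIso (α.app P)) : Resolutions Q α where
  P X := res X
  p X := resMap X
  hp _ := inferInstance
  lift _ _ f := exists_Q_map_eq f
  iso X := hα (res X)

instance isLeftDerivedFunctor_LBaseChange :
    (DRing.LBaseChange φ).IsLeftDerivedFunctor (αQ φ)
      (HomologicalComplex.quasiIso (ModuleCat.{u} A) (ComplexShape.up ℤ)) :=
  ⟨(resolutions (αQ φ) (fun P _ => isIso_αQ_app φ P)).isRightKanExtension
    (HomologicalComplex.quasiIso (ModuleCat.{u} A) (ComplexShape.up ℤ))⟩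

/-- The comparison isomorphism for restriction of scalars. -/
noncomputable def βQ : resC φ ⋙ Q ⟶ Q ⋙ DRing.restrictD φ :=
  (ModuleCat.restrictScalars.{u} φ).mapDerivedCategoryFactors.inv

instance isRightDerivedFunctor_restrictD :
    (DRing.restrictD φ).IsRightDerivedFunctor (βQ φ)
      (HomologicalComplex.quasiIso (ModuleCat.{u} B) (ComplexShape.up ℤ)) :=
  Functor.isRightDerivedFunctor_of_inverts _ _
    (ModuleCat.restrictScalars.{u} φ).mapDerivedCategoryFactors

instance isLeftDerivedFunctor_comp :
    (DRing.LBaseChange φ ⋙ DRing.restrictD φ).IsLeftDerivedFunctor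
      ((Functor.associator _ _ _).inv ≫ Functor.whiskerRight (αQ φ) (DRing.restrictD φ))
      (HomologicalComplex.quasiIso (ModuleCat.{u} A) (ComplexShape.up ℤ)) :=
  ⟨(resolutions ((Functor.associator _ _ _).inv ≫
      Functor.whiskerRight (αQ φ) (DRing.restrictD φ)) (fun P _ => by
    have := isIso_αQ_app φ P
    dsimp
    infer_instance)).isRightKanExtension
    (HomologicalComplex.quasiIso (ModuleCat.{u} A) (ComplexShape.up ℤ))⟩

instance isRightDerivedFunctor_comp :
    (DRing.restrictD φ ⋙ DRing.LBaseChange φ).IsRightDerivedFunctor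
      (Functor.whiskerRight (βQ φ) (DRing.LBaseChange φ) ≫ (Functor.associator _ _ _).hom)
      (HomologicalComplex.quasiIso (ModuleCat.{u} B) (ComplexShape.up ℤ)) := by
  have : IsIso (Functor.whiskerRight (βQ φ) (DRing.LBaseChange φ) ≫
      (Functor.associator Q (DRing.restrictD φ) (DRing.LBaseChange φ)).hom) := by
    unfold βQ
    infer_instance
  exact Functor.isRightDerivedFunctor_of_inverts _ _ (asIso (Functor.whiskerRight (βQ φ)
    (DRing.LBaseChange φ) ≫ (Functor.associator _ _ _).hom)).symm

/-- Derived base change is left adjoint to restriction of scalars. -/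
noncomputable def LBaseChangeAdj : DRing.LBaseChange φ ⊣ DRing.restrictD φ :=
  (adjC φ).derived (HomologicalComplex.quasiIso (ModuleCat.{u} A) (ComplexShape.up ℤ))
    (HomologicalComplex.quasiIso (ModuleCat.{u} B) (ComplexShape.up ℤ)) (αQ φ) (βQ φ)

end Groth.Agent.Lib.Helper13.DR
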