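import Groth.Agent.Lib.Helper13.DRingPCBC
import Mathlib.RingTheory.Flat.CategoryTheory
import Mathlib.Algebra.Homology.HomologySequence
import Mathlib.Algebra.Homology.HomologicalComplexAbelian

/-!
# Tensoring a termwise flat complex with a short exact sequence of modules
-/

set_option autoImplicit false
universe u
open CategoryTheory CategoryTheory.Limits MonoidalCategory TensorProduct

namespace Groth.Agent.Lib.Helper13.DR

open Groth.Agent.Lib.Helper13.PC

variable {R : Type u} [CommRing R]

/-- Functoriality of `E ⊗ N` in the module `N`. -/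
noncomputable def tensorCxMap (E : DRing.Cx R) {N N' : ModuleCat.{u} R} (g : N ⟶ N') :
    (tensorCx N).obj E ⟶ (tensorCx N').obj E :=
  (NatTrans.mapHomologicalComplex ((tensoringRight (ModuleCat.{u} R)).map g)
    (ComplexShape.up ℤ)).app E

@[simp]
lemma tensorCxMap_f (E : DRing.Cx R) {N N' : ModuleCat.{u} R} (g : N ⟶ N') (n : ℤ) :
    (tensorCxMap E g).f n = E.X n ◁ g := rfl

@[simp]
lemma tensorCxMap_id (E : DRing.Cx R) (N : ModuleCat.{u} R) : tensorCxMap E (𝟙 N) = 𝟙 _ := by
  ext n : 1
  simp
  rfl

@[reassoc (attr := simp)]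
lemma tensorCxMap_comp (E : DRing.Cx R) {N N' N'' : ModuleCat.{u} R} (g : N ⟶ N') (g' : N' ⟶ N'') :
    tensorCxMap E (g ≫ g') = tensorCxMap E g ≫ tensorCxMap E g' := by
  ext n : 1
  simp
  rfl

/-- `E ⊗ N ≅ E ⊗ N'` for isomorphic modules. -/
noncomputable def tensorCxMapIso (E : DRing.Cx R) {N N' : ModuleCat.{u} R} (e : N ≅ N') :
    (tensorCx N).obj E ≅ (tensorCx N').obj E where
  hom := tensorCxMap E e.hom
  inv := tensorCxMap E e.inv
  hom_inv_id := by rw [← tensorCxMap_comp, e.hom_inv_id, tensorCxMap_id]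
  inv_hom_id := by rw [← tensorCxMap_comp, e.inv_hom_id, tensorCxMap_id]

/-- The short complex of complexes `E ⊗ S`. -/
noncomputable def tensorCxSC (E : DRing.Cx R) (S : ShortComplex (ModuleCat.{u} R)) :
    ShortComplex (DRing.Cx R) :=
  ShortComplex.mk (tensorCxMap E S.f) (tensorCxMap E S.g) (by
    rw [← tensorCxMap_comp, S.zero]
    ext n : 1
    simp
    rfl)

lemma tensorCxSC_shortExact (E : DRing.Cx R) (hfl : ∀ i : ℤ, Module.Flat R (E.X i))
    (S : ShortComplex (ModuleCat.{u} R)) (hS : S.ShortExact) : (tensorCxSC E S).ShortExact := by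
  apply HomologicalComplex.shortExact_of_degreewise_shortExact
  intro i
  have := hfl i
  exact hS.map_of_exact (tensorLeft (E.X i))

/-- Vanishing of the middle homology from the vanishing of the outer ones. -/
lemma isZero_homology_tensorCx_of_shortExact (E : DRing.Cx R)
    (hfl : ∀ i : ℤ, Module.Flat R (E.X i)) (S : ShortComplex (ModuleCat.{u} R))
    (hS : S.ShortExact) (i : ℤ) (h₁ : IsZero (((tensorCx S.X₁).obj E).homology i))
    (h₃ : IsZero (((tensorCx S.X₃).obj E).homology i)) :
    IsZero (((tensorCx S.X₂).obj E).homology i) :=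
  ((tensorCxSC_shortExact E hfl S hS).homology_exact₂ i).isZero_of_both_zeros
    (h₁.eq_of_src _ _) (h₃.eq_of_tgt _ _)

lemma rTensor_exact_of_lTensor_exact {M₁ M₂ M₃ : Type u} [AddCommGroup M₁] [AddCommGroup M₂]
    [AddCommGroup M₃] [Module R M₁] [Module R M₂] [Module R M₃]
    (d₁ : M₁ →ₗ[R] M₂) (d₂ : M₂ →ₗ[R] M₃) (N : Type u) [AddCommGroup N] [Module R N]
    (h : Function.Exact (d₁.lTensor N) (d₂.lTensor N)) :
    Function.Exact (d₁.rTensor N) (d₂.rTensor N) := by
  intro y
  constructor
  · intro hy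
    have h1 : d₂.lTensor N (TensorProduct.comm R M₂ N y) = 0 := by
      rw [LinearMap.lTensor_comm, hy, map_zero]
    obtain ⟨x, hx⟩ := (h _).1 h1
    refine ⟨TensorProduct.comm R N M₁ x, ?_⟩
    rw [LinearMap.rTensor_comm, hx]
    exact (TensorProduct.comm R M₂ N).symm_apply_apply y
  · rintro ⟨x, rfl⟩
    apply (TensorProduct.comm R M₃ N).injective
    rw [← LinearMap.lTensor_comm, ← LinearMap.lTensor_comm, map_zero]
    exact (h _).2 ⟨_, rfl⟩

/-- Exactness of `E ⊗_A B` (as a complex of `A`-modules) and of the base change agree. -/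
lemma exactAt_tensorCx_iff_exactAt_extendCx (A B : Type u) [CommRing A] [CommRing B] [Algebra A B]
    (E : DRing.Cx A) (j : ℤ) :
    ((tensorCx (ModuleCat.of A B)).obj E).ExactAt j ↔ ((extendCx A B).obj E).ExactAt j := by
  rw [exactAt_extendCx_iff B E (j - 1) j (j + 1) (by ring) rfl,
    exactAt_iff_function_exact _ (j - 1) j (j + 1) (by ring) rfl]
  exact ⟨fun h => lTensor_exact_of_rTensor_exact _ _ B h,
    fun h => rTensor_exact_of_lTensor_exact _ _ B h⟩

/-- `E ⊗ N` is the zero complex for `N` subsingleton. -/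
lemma isZero_homology_tensorCx_of_subsingleton (E : DRing.Cx R) (N : ModuleCat.{u} R)
    [Subsingleton N] (i : ℤ) : IsZero (((tensorCx N).obj E).homology i) := by
  apply ShortComplex.isZero_homology_of_isZero_X₂
  exact Functor.map_isZero (tensorLeft (E.X i)) (ModuleCat.isZero_of_subsingleton N)

/-- Over a local ring, vanishing of `H^i(E ⊗ κ)` implies vanishing of `H^i(E ⊗ N)` for all
modules `N` of finite length, when `E` is termwise flat. -/
theorem isZero_homology_tensorCx_of_isFiniteLength [IsLocalRing R] (E : DRing.Cx R)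
    (hfl : ∀ i : ℤ, Module.Flat R (E.X i)) (i : ℤ)
    (hκ : IsZero (((tensorCx (ModuleCat.of R (IsLocalRing.ResidueField R))).obj E).homology i))
    (N : Type u) [AddCommGroup N] [Module R N] (hN : IsFiniteLength R N) :
    IsZero (((tensorCx (ModuleCat.of R N)).obj E).homology i) := by
  induction hN with
  | of_subsingleton => exact isZero_homology_tensorCx_of_subsingleton E _ i
  | @of_simple_quotient M _ _ N' hs _ ih =>
    obtain ⟨m, hm, ⟨e⟩⟩ := isSimpleModule_iff_quot_maximal.mp hs
    obtain rfl : m = IsLocalRing.maximalIdeal R := IsLocalRing.eq_maximalIdeal hm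
    let S : ShortComplex (ModuleCat.{u} R) :=
      ShortComplex.mk (ModuleCat.ofHom N'.subtype) (ModuleCat.ofHom N'.mkQ) (by
        ext x
        exact (Submodule.Quotient.mk_eq_zero N').2 x.2)
    have hS : S.ShortExact := by
      have h1 : Mono S.f := by
        rw [ModuleCat.mono_iff_injective]
        exact Submodule.injective_subtype N'
      have h2 : Epi S.g := by
        rw [ModuleCat.epi_iff_surjective]
        exact Submodule.mkQ_surjective N'
      refine ⟨?_⟩
      rw [ShortComplex.ShortExact.moduleCat_exact_iff_function_exact]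
      intro y
      change N'.mkQ y = 0 ↔ y ∈ Set.range N'.subtype
      rw [Submodule.mkQ_apply, Submodule.Quotient.mk_eq_zero]
      constructor
      · intro hy; exact ⟨⟨y, hy⟩, rfl⟩
      · rintro ⟨y', rfl⟩; exact y'.2
    refine isZero_homology_tensorCx_of_shortExact E hfl S hS i ih ?_
    refine hκ.of_iso ((HomologicalComplex.homologyFunctor _ _ i).mapIso
      (tensorCxMapIso E (LinearEquiv.toModuleIso e)))

end Groth.Agent.Lib.Helper13.DR
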