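import Groth.Agent.Lib.Helper13.DRingLDerived
import Groth.Agent.Lib.Helper13.DRingTor5
import Mathlib.CategoryTheory.Functor.Derived.PointwiseLeftDerived
import Mathlib.Algebra.Homology.DerivedCategory.ExactFunctor
import Mathlib.RingTheory.Flat.CategoryTheory

set_option autoImplicit false
universe u
open CategoryTheory CategoryTheory.Limits MonoidalCategory

namespace Groth.Agent.Lib.Helper13.DR

open Groth.Agent.Lib.Helper13.PC Groth.Agent.Lib.Helper13.Kan
open DerivedCategory
attribute [local instance] HasDerivedCategory.standard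

section Exact

variable {A B : Type u} [CommRing A] [CommRing B]
  (Φ : ModuleCat.{u} A ⥤ ModuleCat.{u} B) [Φ.Additive] [PreservesFiniteLimits Φ]
  [PreservesFiniteColimits Φ]
  [(Φ.mapHomotopyCategory (ComplexShape.up ℤ) ⋙ Qh).HasLeftDerivedFunctor
    (HomotopyCategory.quasiIso (ModuleCat.{u} A) (ComplexShape.up ℤ))]

/-- The total left derived functor of an exact functor is the induced functor. -/
noncomputable def totalLeftDerivedIsoOfExact :
    (Φ.mapHomotopyCategory (ComplexShape.up ℤ) ⋙ Qh).totalLeftDerived Qh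
      (HomotopyCategory.quasiIso (ModuleCat.{u} A) (ComplexShape.up ℤ)) ≅ Φ.mapDerivedCategory :=
  have := Functor.isLeftDerivedFunctor_of_inverts
    (HomotopyCategory.quasiIso (ModuleCat.{u} A) (ComplexShape.up ℤ)) Φ.mapDerivedCategory
    Φ.mapDerivedCategoryFactorsh
  Functor.leftDerivedUnique _ _
    ((Φ.mapHomotopyCategory (ComplexShape.up ℤ) ⋙ Qh).totalLeftDerivedCounit Qh
      (HomotopyCategory.quasiIso (ModuleCat.{u} A) (ComplexShape.up ℤ)))
    Φ.mapDerivedCategoryFactorsh.hom
    (HomotopyCategory.quasiIso (ModuleCat.{u} A) (ComplexShape.up ℤ))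

end Exact

section Concrete

variable {A : Type u} [CommRing A]

instance preservesFiniteColimits_tensorRight' (N : ModuleCat.{u} A) :
    PreservesFiniteColimits (tensorRight N) :=
  preservesFiniteColimits_of_natIso (BraidedCategory.tensorLeftIsoTensorRight N)

/-- The derived tensor product with a flat module is the termwise tensor product. -/
noncomputable def LTensorFlatIso (M : ModuleCat.{u} A) [Module.Flat A M] [DRing.HasLTensor A M] :
    DRing.LTensor A M ≅ (tensorRight M).mapDerivedCategory :=
  totalLeftDerivedIsoOfExact (tensorRight M)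

/-- `K ⊗^L M ≅ K ⊗ M` termwise, for `M` flat. -/
noncomputable def LTensorFlatQIso (M : ModuleCat.{u} A) [Module.Flat A M] [DRing.HasLTensor A M]
    (X : DRing.Cx A) : (DRing.LTensor A M).obj (Q.obj X) ≅ Q.obj ((tensorCx M).obj X) :=
  (LTensorFlatIso M).app (Q.obj X) ≪≫ (tensorRight M).mapDerivedCategoryFactors.app X

/-- `K ⊗^L A ≅ K`. -/
noncomputable def LTensorUnitIso [DRing.HasLTensor A (𝟙_ (ModuleCat.{u} A))] (X : DRing.Cx A) :
    (DRing.LTensor A (𝟙_ (ModuleCat.{u} A))).obj (Q.obj X) ≅ Q.obj X :=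
  have : Module.Flat A (𝟙_ (ModuleCat.{u} A) : ModuleCat.{u} A) :=
    inferInstanceAs (Module.Flat A A)
  LTensorFlatQIso (𝟙_ (ModuleCat.{u} A)) X ≪≫ Q.mapIso (tensorCxUnitIso X)

end Concrete

end Groth.Agent.Lib.Helper13.DR
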