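import Groth.Agent.Lib.Helper13.DRingProjFormula
import Groth.Agent.Lib.Helper13.DRingLDerived2
import Groth.Agent.Lib.Helper13.DRingRestrict

set_option autoImplicit false
universe u
open CategoryTheory CategoryTheory.Limits MonoidalCategory TensorProduct

namespace Groth.Agent.Lib.Helper13.DR

open Groth.Agent.Lib.Helper13.PC
open DerivedCategory
attribute [local instance] HasDerivedCategory.standard

variable (A B : Type u) [CommRing A] [CommRing B] [Algebra A B]

/-- The complex form of the projection formula. -/
noncomputable def projCxIso (Q' : Type u) [AddCommGroup Q'] [Module B Q'] [Module A Q']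
    [IsScalarTower A B Q'] (P : DRing.Cx A) :
    (DRing.restrictCx (algebraMap A B)).obj ((tensorCx (ModuleCat.of B Q')).obj
      ((extendCx A B).obj P)) ≅ (tensorCx (ModuleCat.of A Q')).obj P :=
  (NatIso.mapHomologicalComplex (projNatIsoRight A B Q') (ComplexShape.up ℤ)).app P

/-- Base change of a bounded above flat complex preserves tor amplitude. -/
theorem hasTorAmplitudeIn_extendCx (P : DRing.Cx A) (c : ℤ)
    (hz : ∀ i : ℤ, c < i → IsZero (P.X i)) (hfl : ∀ i : ℤ, Module.Flat A (P.X i)) (a b : ℤ)
    (h : DRing.HasTorAmplitudeIn A a b (Q.obj P)) :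
    DRing.HasTorAmplitudeIn B a b (Q.obj ((extendCx A B).obj P)) := by
  refine hasTorAmplitudeIn_of_tensor_vanishing ((extendCx A B).obj P) c
    (fun i hi => Functor.map_isZero (ModuleCat.extendScalars.{u, u, u} (algebraMap A B)) (hz i hi))
    (fun i => by
      have h1 : Pfl B ((ModuleCat.extendScalars.{u, u, u} (algebraMap A B)).obj (P.X i)) :=
        Pfl_extendScalars B (hfl i)
      exact h1) a b (fun N' i hi => ?_)
  let _ : Module A N' := Module.compHom N' (algebraMap A B)
  have : IsScalarTower A B N' := IsScalarTower.of_algebraMap_smul (fun r x => rfl)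
  apply isZero_of_isZero_restrictScalars (algebraMap A B)
  refine IsZero.of_iso ?_ ((restrictCxHomologyIso (algebraMap A B) _ i).symm ≪≫
    (HomologicalComplex.homologyFunctor _ _ i).mapIso (projCxIso A B N' P))
  exact tensor_vanishing_of_hasTorAmplitudeIn h P c hz hfl (Iso.refl _) (ModuleCat.of A N') i hi

end Groth.Agent.Lib.Helper13.DR
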