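import Groth.Agent.Lib.Helper13.KProjAdj
import Groth.Agent.Lib.Helper13.SemiFree4
import Groth.Agent.Lib.Helper13.DRingTensorSES
import Groth.Agent.Lib.Helper13.DRingTorBC

/-!
# K-projective complexes of modules: base change, homotopy equivalences, tensor computations
-/

set_option autoImplicit false
universe w v u
open CategoryTheory CategoryTheory.Limits MonoidalCategory

namespace Groth.Agent.Lib.Helper13.PC

open DerivedCategory

variable {C : Type u} [Category.{v} C] [Abelian C] [HasDerivedCategory.{w} C]

/-- K-projective complexes which are isomorphic in the derived category are homotopy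
equivalent. -/
lemma nonempty_homotopyEquiv_of_iso {P P' : CochainComplex C ℤ} [P.IsKProjective]
    [P'.IsKProjective] (e : Q.obj P ≅ Q.obj P') : Nonempty (HomotopyEquiv P P') := by
  obtain ⟨f, hf⟩ := exists_Q_map_eq (K := P) (L := P') e.hom
  obtain ⟨g, hg⟩ := exists_Q_map_eq (K := P') (L := P) e.inv
  obtain ⟨h1⟩ := exists_homotopy_of_Q_map_eq (f ≫ g) (𝟙 P) (by
    rw [CategoryTheory.Functor.map_comp, hf, hg, e.hom_inv_id, CategoryTheory.Functor.map_id])
  obtain ⟨h2⟩ := exists_homotopy_of_Q_map_eq (g ≫ f) (𝟙 P') (by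
    rw [CategoryTheory.Functor.map_comp, hf, hg, e.inv_hom_id, CategoryTheory.Functor.map_id])
  exact ⟨⟨f, g, h1, h2⟩⟩

end Groth.Agent.Lib.Helper13.PC

namespace Groth.Agent.Lib.Helper13.DR

open Groth.Agent.Lib.Helper13.PC Groth.Agent.Lib.Helper13.SF
open DerivedCategory
attribute [local instance] HasDerivedCategory.standard

section BaseChange

variable (A B : Type u) [CommRing A] [CommRing B] [Algebra A B]

/-- Base change preserves K-projective complexes. -/
instance isKProjective_extendCx (P : DRing.Cx A) [P.IsKProjective] :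
    CochainComplex.IsKProjective ((extendCx A B).obj P) := by
  refine isKProjective_map_of_adjunction
    (ModuleCat.extendRestrictScalarsAdj.{u, u, u} (algebraMap A B)) P (fun L hL i => ?_)
  rw [HomologicalComplex.exactAt_iff_isZero_homology]
  refine IsZero.of_iso (Functor.map_isZero _ ((hL i).isZero_homology))
    (restrictCxHomologyIso (algebraMap A B) L i)

end BaseChange

section Tensor

variable {R : Type u} [CommRing R]

/-- Homology of `P ⊗ N` for `P` K-projective only depends on the class of `P` in `D(R)`. -/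
lemma nonempty_homology_tensorCx_iso {P P' : DRing.Cx R} [P.IsKProjective] [P'.IsKProjective]
    (e : Q.obj P ≅ Q.obj P') (N : ModuleCat.{u} R) (i : ℤ) :
    Nonempty (((tensorCx N).obj P).homology i ≅ ((tensorCx N).obj P').homology i) := by
  obtain ⟨h⟩ := nonempty_homotopyEquiv_of_iso e
  let h' : HomotopyEquiv ((tensorCx N).obj P) ((tensorCx N).obj P') :=
    Functor.mapHomotopyEquiv (c := ComplexShape.up ℤ) (tensorRight N) h
  exact ⟨h'.toHomologyIso i⟩

/-- Homology of `P ⊗ N` for `P` K-projective, computed by a bounded above flat complex. -/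
lemma nonempty_homology_tensorCx_iso_of_flat {P F : DRing.Cx R} [P.IsKProjective] (c : ℤ)
    (hc : ∀ i : ℤ, c < i → IsZero (F.X i)) (hfl : ∀ i : ℤ, Module.Flat R (F.X i))
    (e : Q.obj P ≅ Q.obj F) (N : ModuleCat.{u} R) (i : ℤ) :
    Nonempty (((tensorCx N).obj P).homology i ≅ ((tensorCx N).obj F).homology i) := by
  obtain ⟨P₂, hproj, hz, ⟨e₂⟩⟩ := exists_projective_rep (Q.obj F) c (fun j hj =>
    IsZero.of_iso ((HomologicalComplex.ExactAt.of_isZero (hc j hj)).isZero_homology)
      (homologyQIso F j))
  have : P₂.IsKProjective := isKProjective_of_forall_projective P₂ c hz hproj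
  obtain ⟨u, hu⟩ := exists_Q_map_eq (K := P₂) (L := F) e₂.hom
  have hqi : QuasiIso u := by
    rw [← isIso_Q_map_iff_quasiIso, hu]
    infer_instance
  have := quasiIso_tensorCx_map u c hz hc (fun j => by
    have := (projective_iff _).1 (hproj j)
    infer_instance) hfl N
  obtain ⟨e₃⟩ := nonempty_homology_tensorCx_iso (e ≪≫ e₂.symm) N i
  have hiso : IsIso (HomologicalComplex.homologyMap ((tensorCx N).map u) i) := by
    have := this.quasiIsoAt i
    rw [quasiIsoAt_iff_isIso_homologyMap] at this
    exact this
  exact ⟨e₃ ≪≫ asIso (HomologicalComplex.homologyMap ((tensorCx N).map u) i)⟩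

/-- Dévissage along a submodule. -/
lemma isZero_homology_tensorCx_of_submodule (E : DRing.Cx R)
    (hfl : ∀ i : ℤ, Module.Flat R (E.X i)) (i : ℤ) (N : Type u) [AddCommGroup N] [Module R N]
    (N' : Submodule R N) (h₁ : IsZero (((tensorCx (ModuleCat.of R N')).obj E).homology i))
    (h₃ : IsZero (((tensorCx (ModuleCat.of R (N ⧸ N'))).obj E).homology i)) :
    IsZero (((tensorCx (ModuleCat.of R N)).obj E).homology i) := by
  let S : ShortComplex (ModuleCat.{u} R) :=
    ShortComplex.mk (ModuleCat.ofHom N'.subtype) (ModuleCat.ofHom N'.mkQ) (by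
      ext x
      exact (Submodule.Quotient.mk_eq_zero N').2 x.2)
  have hS : S.ShortExact := by
    have h1 : Mono S.f := by
      rw [ModuleCat.mono_iff_injective]
      exact Submodule.injective_subtype N'
    have h2 : Epi S.g := by
      rw [ModuleCat.epi_iff_surjective]
      exact Submodule.mkQ_surjective N'
    refine ⟨?_⟩
    rw [ShortComplex.ShortExact.moduleCat_exact_iff_function_exact]
    intro y
    change N'.mkQ y = 0 ↔ y ∈ Set.range N'.subtype
    rw [Submodule.mkQ_apply, Submodule.Quotient.mk_eq_zero]
    constructor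
    · intro hy; exact ⟨⟨y, hy⟩, rfl⟩
    · rintro ⟨y', rfl⟩; exact y'.2
  exact isZero_homology_tensorCx_of_shortExact E hfl S hS i h₁ h₃

/-- Dévissage along powers of an ideal: vanishing of `H^i(E ⊗ N)` for the modules `N` killed by
`I` implies vanishing for all modules killed by a power of `I`. -/
theorem isZero_homology_tensorCx_of_pow_smul_eq_zero (E : DRing.Cx R)
    (hfl : ∀ i : ℤ, Module.Flat R (E.X i)) (I : Ideal R) (i : ℤ)
    (h : ∀ (N : Type u) [AddCommGroup N] [Module R N], (∀ a ∈ I, ∀ x : N, a • x = 0) →
      IsZero (((tensorCx (ModuleCat.of R N)).obj E).homology i))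
    (k : ℕ) (N : Type u) [AddCommGroup N] [Module R N] (hN : ∀ a ∈ I ^ k, ∀ x : N, a • x = 0) :
    IsZero (((tensorCx (ModuleCat.of R N)).obj E).homology i) := by
  induction k generalizing N with
  | zero =>
    have : Subsingleton N := ⟨fun x y => by
      have hx := hN 1 (by simp) x
      have hy := hN 1 (by simp) y
      rw [one_smul] at hx hy
      rw [hx, hy]⟩
    exact isZero_homology_tensorCx_of_subsingleton E (ModuleCat.of R N) i
  | succ k ih =>
    let N' : Submodule R N := I • (⊤ : Submodule R N)
    refine isZero_homology_tensorCx_of_submodule E hfl i N N' (ih N' ?_) (h (N ⧸ N') ?_)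
    · rintro a ha ⟨y, hy⟩
      apply Subtype.ext
      change a • y = 0
      refine Submodule.smul_induction_on hy (fun b hb x _ => ?_) (fun x y hx hy => ?_)
      · rw [smul_smul]
        exact hN (a * b) (by rw [pow_succ]; exact Ideal.mul_mem_mul ha hb) x
      · rw [smul_add, hx, hy, add_zero]
    · intro a ha x
      obtain ⟨x, rfl⟩ := Submodule.mkQ_surjective N' x
      rw [← map_smul]
      exact (Submodule.Quotient.mk_eq_zero N').2 (Submodule.smul_mem_smul ha Submodule.mem_top)

/-- Dévissage along a nilpotent ideal: vanishing of `H^i(E ⊗ N)` for the modules `N` killed by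
`I` implies vanishing for all modules. -/
theorem isZero_homology_tensorCx_of_nilpotent (E : DRing.Cx R)
    (hfl : ∀ i : ℤ, Module.Flat R (E.X i)) (I : Ideal R) (hI : IsNilpotent I) (i : ℤ)
    (h : ∀ (N : Type u) [AddCommGroup N] [Module R N], (∀ a ∈ I, ∀ x : N, a • x = 0) →
      IsZero (((tensorCx (ModuleCat.of R N)).obj E).homology i))
    (N : Type u) [AddCommGroup N] [Module R N] :
    IsZero (((tensorCx (ModuleCat.of R N)).obj E).homology i) := by
  obtain ⟨k, hk⟩ := hI
  exact isZero_homology_tensorCx_of_pow_smul_eq_zero E hfl I i h k N (fun a ha x => by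
    rw [hk] at ha
    rw [(Submodule.mem_bot R).1 ha, zero_smul])

end Tensor

end Groth.Agent.Lib.Helper13.DR
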