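import Groth.Prelude.Def_DTen4
import Groth.Agent.Lib.Helper13.DRingAdj
import Groth.Agent.Lib.Helper13.DRingKProj
import Mathlib.Algebra.Homology.BifunctorHomotopy

/-!
# The counits of the jointly derived tensor products are isomorphisms on K-projective pairs
-/

set_option autoImplicit false
universe u
open CategoryTheory CategoryTheory.Limits MonoidalCategory

namespace Groth.Agent.Lib.Helper13.DT

open Groth.Agent.Lib.Helper13.PC Groth.Agent.Lib.Helper13.SF Groth.Agent.Lib.Helper13.Kan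
open Groth.Agent.Lib.Helper13.DR
open DerivedCategory DTen
attribute [local instance] HasDerivedCategory.standard

section Generic

variable {B : Type u} [CommRing B]

/-- **Theorem V**, generic form: the counit of a right Kan extension with values in `D(B)` is an
isomorphism at an object from which morphisms lift. -/
theorem isIso_counit_app_of_lifting {𝒦 𝒟 : Type*} [Category 𝒦] [Category 𝒟] (L : 𝒦 ⥤ 𝒟)
    (F : 𝒦 ⥤ Dual.D B) (LF : 𝒟 ⥤ Dual.D B) (α : L ⋙ LF ⟶ F) [LF.IsRightKanExtension α]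
    (P : 𝒦) [∀ Y : 𝒟, Small.{u} (L.obj P ⟶ Y)]
    (hP1 : ∀ (X : 𝒦) (f : L.obj P ⟶ L.obj X), ∃ f' : P ⟶ X, L.map f' = f)
    (hP2 : ∀ (X : 𝒦) (f g : P ⟶ X), L.map f = L.map g → F.map f = F.map g) :
    IsIso (α.app P) := by
  rw [DerivedCategory.isIso_iff]
  intro n
  have hb : Function.Bijective ((Hn B n).map (α.app P)) :=
    bijective_map_counit L F LF α P (Hn B n) (copowerHn B n) hP1 hP2
  rw [← isIso_iff_bijective] at hb
  have hb' : IsIso ((forget (ModuleCat.{u} B)).map ((DerivedCategory.homologyFunctor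
      (ModuleCat.{u} B) n).map (α.app P))) := hb
  exact isIso_of_reflects_iso _ (forget (ModuleCat.{u} B))

end Generic

section Small

variable {A : Type u} [CommRing A]

instance small_hom_Q_of_isKProjective (P : DRing.Cx A) [P.IsKProjective] (Y : Dual.D A) :
    Small.{u} (Q.obj P ⟶ Y) :=
  small_hom_Qh_of_isKProjective P Y

end Small

section Homotopy

variable {A : Type u} [CommRing A]

/-- The tensor product of maps of complexes only depends on the homotopy classes. -/
lemma Q_map_tensorHom_eq {K K' L L' : DRing.Cx A} {f f' : K ⟶ K'} {g g' : L ⟶ L'}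
    (hf : Nonempty (Homotopy f f')) (hg : Nonempty (Homotopy g g')) :
    (Q.map (f ⊗ₘ g) : Q.obj (K ⊗ L) ⟶ Q.obj (K' ⊗ L')) = Q.map (f' ⊗ₘ g') := by
  obtain ⟨hf⟩ := hf
  obtain ⟨hg⟩ := hg
  have h1 : Homotopy (HomologicalComplex.mapBifunctorMap f g (curriedTensor (ModuleCat.{u} A))
      (ComplexShape.up ℤ)) (HomologicalComplex.mapBifunctorMap f' g
        (curriedTensor (ModuleCat.{u} A)) (ComplexShape.up ℤ)) :=
    HomologicalComplex.mapBifunctorMapHomotopy₁ hf g _ _
  have h2 : Homotopy (HomologicalComplex.mapBifunctorMap f' g (curriedTensor (ModuleCat.{u} A))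
      (ComplexShape.up ℤ)) (HomologicalComplex.mapBifunctorMap f' g'
        (curriedTensor (ModuleCat.{u} A)) (ComplexShape.up ℤ)) :=
    HomologicalComplex.mapBifunctorMapHomotopy₂ f' hg _ _
  exact DerivedCategory.Q_map_eq_of_homotopy _ (h1.trans h2)

end Homotopy


section Pairs

variable (A : Type u) [CommRing A]

lemma isRightKanExtension_LTen₂ [HasLTen A] : (LTen₂ A).IsRightKanExtension (ε A) :=
  Functor.IsLeftDerivedFunctor.isRightKanExtension _ _ (W := qis₂ A)

/-- The counit `QP ⊗^L QP' ⟶ Q(P ⊗ P')` is an isomorphism for K-projective `P`, `P'`. -/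
theorem isIso_ε_app_of_isKProjective [HasLTen A] (P P' : DRing.Cx A) [P.IsKProjective]
    [P'.IsKProjective] : IsIso ((ε A).app (P, P')) := by
  have := isRightKanExtension_LTen₂ A
  have hs : ∀ Y : Dual.D A × Dual.D A, Small.{u} ((QQ A).obj (P, P') ⟶ Y) := fun Y =>
    inferInstanceAs (Small.{u} ((Q.obj P ⟶ Y.1) × (Q.obj P' ⟶ Y.2)))
  refine isIso_counit_app_of_lifting (QQ A) (tensor₂ A) (LTen₂ A) (ε A) (P, P') ?_ ?_
  · rintro ⟨X, X'⟩ ⟨f, f'⟩
    obtain ⟨g, hg⟩ := exists_Q_map_eq (K := P) (L := X) f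
    obtain ⟨g', hg'⟩ := exists_Q_map_eq (K := P') (L := X') f'
    exact ⟨(g, g'), Prod.ext hg hg'⟩
  · rintro ⟨X, X'⟩ ⟨f, f'⟩ ⟨g, g'⟩ h
    have h1 : Q.map f = Q.map g := congrArg Prod.fst h
    have h2 : Q.map f' = Q.map g' := congrArg Prod.snd h
    have e := Q_map_tensorHom_eq (exists_homotopy_of_Q_map_eq f g h1)
      (exists_homotopy_of_Q_map_eq f' g' h2)
    dsimp [tensor₂, tensorT]
    rw [← MonoidalCategory.tensorHom_def, ← MonoidalCategory.tensorHom_def]
    exact e

end Pairs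


section Mixed

variable {R A : Type u} [CommRing R] [CommRing A] (φ : R →+* A)

lemma isRightKanExtension_LTenMix [HasLTenMix φ] : (LTenMix φ).IsRightKanExtension (εMix φ) :=
  Functor.IsLeftDerivedFunctor.isRightKanExtension _ _ (W := qisMix R A)

/-- The counit `QP ⊗^L_R QN ⟶ Q((P ⊗_R A) ⊗_A N)` is an isomorphism for K-projective `P`, `N`. -/
theorem isIso_εMix_app_of_isKProjective [HasLTenMix φ] (P : DRing.Cx R) (N : DRing.Cx A)
    [P.IsKProjective] [N.IsKProjective] : IsIso ((εMix φ).app (P, N)) := by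
  have := isRightKanExtension_LTenMix φ
  have hs : ∀ Y : Dual.D R × Dual.D A, Small.{u} ((QMix R A).obj (P, N) ⟶ Y) := fun Y =>
    inferInstanceAs (Small.{u} ((Q.obj P ⟶ Y.1) × (Q.obj N ⟶ Y.2)))
  refine isIso_counit_app_of_lifting (QMix R A) (mix₂ φ) (LTenMix φ) (εMix φ) (P, N) ?_ ?_
  · rintro ⟨X, X'⟩ ⟨f, f'⟩
    obtain ⟨g, hg⟩ := exists_Q_map_eq (K := P) (L := X) f
    obtain ⟨g', hg'⟩ := exists_Q_map_eq (K := N) (L := X') f'
    exact ⟨(g, g'), Prod.ext hg hg'⟩
  · rintro ⟨X, X'⟩ ⟨f, f'⟩ ⟨g, g'⟩ h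
    have h1 : Q.map f = Q.map g := congrArg Prod.fst h
    have h2 : Q.map f' = Q.map g' := congrArg Prod.snd h
    obtain ⟨H1⟩ := exists_homotopy_of_Q_map_eq f g h1
    have e := Q_map_tensorHom_eq
      ⟨(ModuleCat.extendScalars.{u, u, u} φ).mapHomotopy H1⟩
      (exists_homotopy_of_Q_map_eq f' g' h2)
    dsimp [mix₂, mixT, tensorT]
    rw [← MonoidalCategory.tensorHom_def, ← MonoidalCategory.tensorHom_def]
    exact e

end Mixed


section Adjunct

variable {C D : Type*} [Category C] [Category D] {F : C ⥤ D} {G : D ⥤ C} (adj : F ⊣ G)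

/-- A morphism `F X ⟶ Y` whose adjunct is a universal arrow is an isomorphism. -/
lemma isIso_of_bijective_unit_comp {X : C} {Y : D} (g' : F.obj X ⟶ Y)
    (h : ∀ Z : D, Function.Bijective
      (fun k : Y ⟶ Z => (adj.unit.app X ≫ G.map g') ≫ G.map k)) : IsIso g' := by
  apply isIso_of_coyoneda_map_bijective
  intro T
  have e : (fun x : Y ⟶ T => g' ≫ x) =
      (adj.homEquiv X T).symm ∘ (fun k : Y ⟶ T => (adj.unit.app X ≫ G.map g') ≫ G.map k) := by
    funext x
    dsimp
    rw [Equiv.eq_symm_apply, Adjunction.homEquiv_unit, G.map_comp, Category.assoc]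
  rw [e]
  exact (adj.homEquiv X T).symm.bijective.comp (h T)

end Adjunct

section BaseCmp

variable {R A : Type u} [CommRing R] [CommRing A] (φ : R →+* A)

/-- Base change along a ring map preserves K-projective complexes. -/
lemma isKProjective_extCx (P : DRing.Cx R) [P.IsKProjective] :
    CochainComplex.IsKProjective ((extCx φ).obj P) := by
  refine isKProjective_map_of_adjunction
    (ModuleCat.extendRestrictScalarsAdj.{u, u, u} φ) P (fun L hL i => ?_)
  rw [HomologicalComplex.exactAt_iff_isZero_homology]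
  refine IsZero.of_iso (Functor.map_isZero _ ((hL i).isZero_homology))
    (restrictCxHomologyIso φ L i)

lemma adjC_unit_app (K : DRing.Cx R) : (adjC φ).unit.app K = (unitCx φ).app K := by
  ext i : 1
  rfl

lemma baseγ_comp_map_Q_map [HasLBase φ] (P : DRing.Cx R) {M : DRing.Cx A}
    (h' : (extCx φ).obj P ⟶ M) :
    (baseγ φ).app P ≫ (DRing.restrictD φ).map (Q.map h') =
      Q.map ((adjC φ).homEquiv P M h') ≫ (resFactors φ).inv.app M := by
  have nat := (resFactors φ).inv.naturality h'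
  dsimp at nat
  rw [Adjunction.homEquiv_unit, adjC_unit_app, Functor.map_comp, Category.assoc, nat]
  dsimp [baseγ]
  rw [Category.assoc]

/-- Derived base change is computed termwise on K-projective complexes: the comparison map
`(QP) ⊗^L_R A ⟶ Q(P ⊗_R A)` is an isomorphism. -/
theorem isIso_baseCmp_app_of_isKProjective [HasLBase φ] (P : DRing.Cx R) [P.IsKProjective] :
    IsIso ((baseCmp φ).app P) := by
  apply isIso_of_bijective_unit_comp (baseAdj φ)
  intro Z
  have hfac := baseCmp_fac φ P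
  dsimp only [Functor.comp_obj] at hfac ⊢
  rw [hfac]
  obtain ⟨M, ⟨e⟩⟩ : ∃ M : DRing.Cx A, Nonempty (Q.obj M ≅ Z) :=
    ⟨_, ⟨Q.objObjPreimageIso Z⟩⟩
  have : ((extCx φ).obj P).IsKProjective := isKProjective_extCx φ P
  constructor
  · intro h₁ h₂ h
    dsimp only at h
    obtain ⟨h₁', hh₁⟩ := exists_Q_map_eq (K := (extCx φ).obj P) (L := M) (h₁ ≫ e.inv)
    obtain ⟨h₂', hh₂⟩ := exists_Q_map_eq (K := (extCx φ).obj P) (L := M) (h₂ ≫ e.inv)
    have h3 : (baseγ φ).app P ≫ (DRing.restrictD φ).map (Q.map h₁') =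
        (baseγ φ).app P ≫ (DRing.restrictD φ).map (Q.map h₂') := by
      rw [hh₁, hh₂, Functor.map_comp, Functor.map_comp, ← Category.assoc, ← Category.assoc, h]
    rw [baseγ_comp_map_Q_map, baseγ_comp_map_Q_map, cancel_mono] at h3
    obtain ⟨H⟩ := exists_homotopy_of_Q_map_eq _ _ h3
    have e₁ : h₁' = (extCx φ).map ((adjC φ).homEquiv P M h₁') ≫ (adjC φ).counit.app M := by
      have := ((adjC φ).homEquiv P M).symm_apply_apply h₁'
      rw [Adjunction.homEquiv_counit] at this
      exact this.symm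
    have e₂ : h₂' = (extCx φ).map ((adjC φ).homEquiv P M h₂') ≫ (adjC φ).counit.app M := by
      have := ((adjC φ).homEquiv P M).symm_apply_apply h₂'
      rw [Adjunction.homEquiv_counit] at this
      exact this.symm
    have H' : Homotopy h₁' h₂' := by
      rw [e₁, e₂]
      exact ((ModuleCat.extendScalars.{u, u, u} φ).mapHomotopy H).compRight _
    have h4 : h₁ ≫ e.inv = h₂ ≫ e.inv := by
      rw [← hh₁, ← hh₂]
      exact DerivedCategory.Q_map_eq_of_homotopy _ H'
    exact (cancel_mono e.inv).1 h4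
  · intro k
    obtain ⟨k', hk'⟩ := exists_Q_map_eq (K := P)
      (L := (resCx φ).obj M) (k ≫ (DRing.restrictD φ).map e.inv ≫ (resFactors φ).hom.app M)
    refine ⟨Q.map (((adjC φ).homEquiv P M).symm k') ≫ e.hom, ?_⟩
    dsimp only
    rw [Functor.map_comp, ← Category.assoc, baseγ_comp_map_Q_map, Equiv.apply_symm_apply, hk']
    simp only [Category.assoc]
    rw [← NatTrans.comp_app_assoc, Iso.hom_inv_id]
    simp [← Functor.map_comp]

end BaseCmp


section Split

variable {R A : Type u} [CommRing R] [CommRing A] (φ : R →+* A)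

/-- The comparison `(E ⊗^L_R A) ⊗^L_A N ⟶ E ⊗^L_R N` is an isomorphism. -/
theorem isIso_split_app [HasLTen A] [HasLBase φ] [HasLTenMix φ] (E : Dual.D R) (N : Dual.D A) :
    IsIso ((split φ).app (E, N)) := by
  obtain ⟨P, hP, -, ⟨e₁⟩⟩ := exists_kprojective_rep E
  obtain ⟨N', hN', -, ⟨e₂⟩⟩ := exists_kprojective_rep N
  have e : ((Q.obj P, Q.obj N') : Dual.D R × Dual.D A) ≅ (E, N) := Iso.prod e₁ e₂
  rw [← NatTrans.isIso_app_iff_of_iso (split φ) e]
  have h1 := split_fac φ (P, N')
  have h2 := isIso_εMix_app_of_isKProjective φ P N'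
  have h3 := isIso_baseCmp_app_of_isKProjective φ P
  have : ((extCx φ).obj P).IsKProjective := isKProjective_extCx φ P
  have h4 := isIso_ε_app_of_isKProjective A ((extCx φ).obj P) N'
  have h5 : IsIso ((splitβ φ).app (P, N')) := by
    have h6 : IsIso (Prod.mkHom ((baseCmp φ).app P) (𝟙 (Q.obj N'))) := by
      rw [isIso_prod_iff]
      exact ⟨h3, inferInstance⟩
    dsimp [splitβ]
    infer_instance
  rw [← h1] at h5
  exact @IsIso.of_isIso_comp_right _ _ _ _ _ ((split φ).app (Q.obj P, Q.obj N'))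
    ((εMix φ).app (P, N')) h2 h5

end Split

end Groth.Agent.Lib.Helper13.DT
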