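import Groth.Agent.Lib.Helper13.KFlat6
import Groth.Agent.Lib.Helper13.DTenKProj

/-!
# Derived base change is computed termwise on K-flat complexes
-/

set_option autoImplicit false
universe u
open CategoryTheory CategoryTheory.Limits MonoidalCategory
open CochainComplex HomologicalComplex

namespace Groth.Agent.Lib.Helper13.HT

open Groth.Agent.Lib.Helper13.DR Groth.Agent.Lib.Helper13.RE Groth.Agent.Lib.Helper13.SF
open Groth.Agent.Lib.Helper13.PC Groth.Agent.Lib.Helper13.DT

attribute [local instance] HasDerivedCategory.standard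

section

variable {A : Type u} [CommRing A]

/-- Tensoring any complex with an acyclic K-flat complex gives an acyclic complex. -/
lemma acyclic_tensor_of_kflat_of_acyclic (Y Z : DRing.Cx A) (hZ : KFlat Z)
    (hZa : ∀ i : ℤ, IsZero (Z.homology i)) (i : ℤ) : IsZero ((Y ⊗ Z).homology i) := by
  have h1 : QuasiIso (resMap Y ▷ Z) := quasiIso_whiskerRight_of_kflat Z hZ (resMap Y)
  have h2 : IsZero ((res Y ⊗ Z).homology i) :=
    isZero_homology_tensor_of_isKProjective (res Y) Z hZa i
  exact IsZero.of_iso h2 (asIso (HomologicalComplex.homologyMap (resMap Y ▷ Z) i)).symm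

end

variable {R A : Type u} [CommRing R] [CommRing A] (φ : R →+* A)

/-- The termwise base change of an acyclic K-flat complex is acyclic. -/
lemma acyclic_extCx_of_kflat_of_acyclic (Z : DRing.Cx R) (hZ : KFlat Z)
    (hZa : ∀ i : ℤ, IsZero (Z.homology i)) (i : ℤ) :
    IsZero (((DTen.extCx φ).obj Z).homology i) := by
  have h1 : ∀ j, IsZero (((DTen.resCx φ).obj (𝟙_ (DRing.Cx A) ⊗ (DTen.extCx φ).obj Z)).homology j) :=
    fun j => IsZero.of_iso (acyclic_tensor_of_kflat_of_acyclic _ Z hZ hZa j)
      ((HomologicalComplex.homologyFunctor _ _ j).mapIso (resExtIso φ (𝟙_ (DRing.Cx A)) Z).symm)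
  have h2 := acyclic_of_acyclic_resCx φ _ h1 i
  exact IsZero.of_iso h2
    ((HomologicalComplex.homologyFunctor _ _ i).mapIso (λ_ ((DTen.extCx φ).obj Z)).symm)

/-- Termwise base change sends a quasi-isomorphism between K-flat complexes to a
quasi-isomorphism. -/
lemma quasiIso_extCx_map_of_kflat {P K : DRing.Cx R} (p : P ⟶ K) (hP : KFlat P) (hK : KFlat K)
    [QuasiIso p] : QuasiIso ((DTen.extCx φ).map p) := by
  apply quasiIso_of_acyclic_mappingCone
  intro i
  rw [exactAt_iff_isZero_homology]
  have hZ : KFlat (mappingCone p) := kflat_mappingCone p hP hK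
  have hZa : ∀ j : ℤ, IsZero ((mappingCone p).homology j) := fun j => by
    rw [← exactAt_iff_isZero_homology]
    exact exactAt_mappingCone p j (j + 1) rfl inferInstance inferInstance
  refine IsZero.of_iso (acyclic_extCx_of_kflat_of_acyclic φ _ hZ hZa i)
    ((HomologicalComplex.homologyFunctor _ _ i).mapIso
      (mappingCone.mapHomologicalComplexIso p (ModuleCat.extendScalars.{u, u, u} φ)).symm)

open DTen in
/-- Derived base change is computed termwise on K-flat complexes. -/
theorem isIso_baseCmp_app_of_kflat [HasLBase φ] (K : DRing.Cx R) (hK : KFlat K) :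
    IsIso ((baseCmp φ).app K) := by
  have h1 := isIso_baseCmp_app_of_isKProjective φ (res K)
  have h2 : QuasiIso ((extCx φ).map (resMap K)) :=
    quasiIso_extCx_map_of_kflat φ (resMap K) (isKFlat_of_isKProjective (res K)) hK
  have nat := (baseCmp φ).naturality (resMap K)
  have h3 : IsIso ((DerivedCategory.Q ⋙ LBase φ).map (resMap K)) := by
    dsimp only [Functor.comp_map]
    infer_instance
  have h4 : IsIso ((extCx φ ⋙ DerivedCategory.Q).map (resMap K)) := by
    dsimp only [Functor.comp_map]
    infer_instance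
  have h5 : IsIso ((DerivedCategory.Q ⋙ LBase φ).map (resMap K) ≫ (baseCmp φ).app K) := by
    rw [nat]
    infer_instance
  exact IsIso.of_isIso_comp_left ((DerivedCategory.Q ⋙ LBase φ).map (resMap K)) _

end Groth.Agent.Lib.Helper13.HT
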