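import Groth.Agent.Lib.Helper13.TorAmpRes
import Groth.Agent.Lib.Helper13.ExtTen1
import Groth.Agent.Lib.Helper13.KFlat7
import Mathlib.RingTheory.LocalProperties.Submodule
import Mathlib.RingTheory.Localization.BaseChange

set_option autoImplicit false
universe u
open CategoryTheory CategoryTheory.Limits MonoidalCategory Pretriangulated Opposite

namespace Groth.Agent.Lib.Helper13.DV

open DTen Groth.Agent.Lib.Helper13.SF Groth.Agent.Lib.Helper13.DT Groth.Agent.Lib.Helper13.DR
  Groth.Agent.Lib.Helper13.HT Groth.Agent.Lib.Helper13.RE Groth.Agent.Lib.Helper13.PC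

attribute [local instance] HasDerivedCategory.standard

section Criterion

variable {A : Type u} [CommRing A]

/-- Tor amplitude from the vanishing of `H^i(X ⊗ Z)` for K-flat resolutions `Z` of modules. -/
theorem hasTorAmplitudeIn_of_key (X : DRing.Cx A) (a b : ℤ)
    (key : ∀ (Z S : DRing.Cx A) (_ : KFlat Z) (π : Z ⟶ S) [QuasiIso π]
      (_ : ∀ q : ℤ, q ≠ 0 → IsZero (S.X q)) (i : ℤ), (i < a ∨ b < i) →
      IsZero ((X ⊗ Z).homology i)) :
    DRing.HasTorAmplitudeIn A a b (DerivedCategory.Q.obj X) := by
  have hX : ∀ i : ℤ, b < i → IsZero (X.homology i) := by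
    intro i hi
    have hS : ∀ q : ℤ, q ≠ 0 → IsZero ((𝟙_ (DRing.Cx A)).X q) := fun q hq =>
      HomologicalComplex.isZero_single_obj_X (ComplexShape.up ℤ) 0 _ q hq
    have hUp : ∀ q : ℤ, Projective ((𝟙_ (DRing.Cx A)).X q) := by
      intro q
      by_cases h : q = 0
      · subst h
        have h0 : Projective (𝟙_ (ModuleCat.{u} A)) :=
          (projective_iff _).2 (inferInstanceAs (Module.Projective A A))
        exact Projective.of_iso
          (HomologicalComplex.singleObjXSelf (ComplexShape.up ℤ) 0 (𝟙_ (ModuleCat.{u} A))).symm h0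
      · exact (hS q h).projective
    have : (𝟙_ (DRing.Cx A)).IsKProjective :=
      isKProjective_of_forall_projective _ 0 (fun q hq => hS q (by lia)) hUp
    have hU : KFlat (𝟙_ (DRing.Cx A)) := isKFlat_of_isKProjective _
    have h1 := key (𝟙_ _) (𝟙_ _) hU (𝟙 _) hS i (Or.inr hi)
    exact h1.of_iso ((HomologicalComplex.homologyFunctor _ _ i).mapIso (ρ_ X).symm)
  obtain ⟨P', f, hf, hP', hz'⟩ := exists_projective_quasiIso _ b hX
  have kp : P'.IsKProjective := isKProjective_of_forall_projective P' b hz' hP'
  have hiso : IsIso (DerivedCategory.Q.map f) := by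
    rw [DerivedCategory.isIso_Q_map_iff_quasiIso]; exact hf
  refine hasTorAmplitudeIn_of_iso (asIso (DerivedCategory.Q.map f))
    (hasTorAmplitudeIn_of_tensor_vanishing P' b hz'
      (fun i => flat_of_projective' _ (hP' i)) _ _ ?_)
  intro N i hi
  let PN := projectiveResolution N
  have hZ : KFlat PN.cochainComplex := isKFlat_of_isKProjective _
  refine IsZero.of_iso ?_ ((HomologicalComplex.homologyFunctor _ _ i).mapIso (tensorSingleIso P' N))
  have q1 : QuasiIso (P' ◁ PN.π') :=
    quasiIso_whiskerLeft_of_kflat_left P' (isKFlat_of_isKProjective P') PN.π'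
  have q2 : QuasiIso (f ▷ PN.cochainComplex) := quasiIso_whiskerRight_of_kflat _ hZ f
  rw [HomologicalComplex.homologyFunctor_obj]
  erw [← isZero_homology_of_quasiIso (P' ◁ PN.π') i]
  rw [isZero_homology_of_quasiIso (f ▷ PN.cochainComplex) i]
  exact key PN.cochainComplex _ hZ PN.π'
    (fun q hq => HomologicalComplex.isZero_single_obj_X (ComplexShape.up ℤ) 0 N q hq) i hi

end Criterion

section LocalGlobal

variable {B : Type u} [CommRing B]

open TensorProduct in
/-- A module is zero if all its localizations at maximal ideals are zero. -/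
lemma isZero_of_forall_maximal_extendScalars (H : ModuleCat.{u} B)
    (h : ∀ (m : Ideal B) [m.IsMaximal], IsZero ((ModuleCat.extendScalars.{u, u, u}
      (algebraMap B (Localization.AtPrime m))).obj H)) : IsZero H := by
  rw [ModuleCat.isZero_iff_subsingleton]
  refine ⟨fun x y => ?_⟩
  have key : ∀ z : H, z = 0 := by
    intro z
    refine Module.eq_zero_of_localization_maximal
      (fun (P : Ideal B) [P.IsMaximal] => Localization.AtPrime P ⊗[B] H)
      (fun (P : Ideal B) [P.IsMaximal] => TensorProduct.mk B (Localization.AtPrime P) H 1) z ?_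
    intro P hP
    have h1 := (ModuleCat.isZero_iff_subsingleton).1 (h P)
    have h2 : Subsingleton (Localization.AtPrime P ⊗[B] H) :=
      (extendScalarsEquiv (Localization.AtPrime P) H).symm.toEquiv.subsingleton
    exact Subsingleton.elim _ _
  rw [key x, key y]

end LocalGlobal

section FlatHomology

variable (B B' : Type u) [CommRing B] [CommRing B'] [Algebra B B'] [Module.Flat B B']

/-- Flat base change commutes with homology. -/
noncomputable def extendCxHomologyIso (W : DRing.Cx B) (i : ℤ) :
    ((extendCx B B').obj W).homology i ≅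
      (ModuleCat.extendScalars.{u, u, u} (algebraMap B B')).obj (W.homology i) :=
  (W.sc i).mapHomologyIso (ModuleCat.extendScalars.{u, u, u} (algebraMap B B'))

lemma quasiIso_extendCx_map {Z S : DRing.Cx B} (π : Z ⟶ S) [QuasiIso π] :
    QuasiIso ((extendCx B B').map π) :=
  inferInstance

end FlatHomology

section Comp

variable {R₁ R₂ R₃ : Type u} [CommRing R₁] [CommRing R₂] [CommRing R₃]

/-- Termwise extension of scalars along a composition. -/
noncomputable def extCxCompIso (f : R₁ →+* R₂) (g : R₂ →+* R₃) (Z : DRing.Cx R₁) :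
    (DTen.extCx g).obj ((DTen.extCx f).obj Z) ≅ (DTen.extCx (g.comp f)).obj Z :=
  ((NatIso.mapHomologicalComplex (ModuleCat.extendScalarsComp f g) (ComplexShape.up ℤ)).app Z).symm

end Comp

section Main

variable (A B : Type u) [CommRing A] [CommRing B] [Algebra A B]

theorem hasTorAmplitudeIn_restrict_of_forall_maximal (K : DRing.Cx B) (a b : ℤ)
    (h3 : ∀ (m : Ideal B) [m.IsMaximal],
      DRing.HasTorAmplitudeIn (Localization.AtPrime (m.comap (algebraMap A B))) a b
        (DRing.toD ((DRing.restrictCx (Localization.localRingHom (m.comap (algebraMap A B)) m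
          (algebraMap A B) rfl)).obj
          (((ModuleCat.extendScalars (algebraMap B (Localization.AtPrime m))).mapHomologicalComplex
            (ComplexShape.up ℤ)).obj K)))) :
    DRing.HasTorAmplitudeIn A a b (DRing.toD ((DRing.restrictCx (algebraMap A B)).obj K)) := by
  refine hasTorAmplitudeIn_of_key _ a b (fun Z S hZ π _ hS i hi => ?_)
  let φ : A →+* B := algebraMap A B
  show IsZero (((resCx φ).obj K ⊗ Z).homology i)
  rw [← isZero_homology_mix_iff φ K Z i]
  apply isZero_of_forall_maximal_extendScalars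
  intro m hm
  let Bm := Localization.AtPrime m
  let p : Ideal A := m.comap (algebraMap A B)
  let Ap := Localization.AtPrime p
  let lB : B →+* Bm := algebraMap B Bm
  let lA : A →+* Ap := algebraMap A Ap
  let φ' : Ap →+* Bm := Localization.localRingHom p m (algebraMap A B) rfl
  have hcomp : lB.comp φ = φ'.comp lA := by
    ext x
    exact (Localization.localRingHom_to_map p m (algebraMap A B) rfl x).symm
  let W : DRing.Cx B := K ⊗ (extCx φ).obj Z
  refine IsZero.of_iso ?_ (extendCxHomologyIso B Bm W i).symm
  let Km : DRing.Cx Bm := (extCx lB).obj K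
  let Zp : DRing.Cx Ap := (extCx lA).obj Z
  let Sp : DRing.Cx Ap := (extCx lA).obj S
  -- the chain of isomorphisms
  let e1 : (extCx lB).obj W ≅ Km ⊗ (extCx lB).obj ((extCx φ).obj Z) :=
    Groth.Agent.Lib.Helper13.ET.extTenIso lB K _
  let e2 : (extCx lB).obj ((extCx φ).obj Z) ≅ (extCx φ').obj Zp :=
    extCxCompIso φ lB Z ≪≫ eqToIso (by rw [hcomp]) ≪≫ (extCxCompIso lA φ' Z).symm
  let e : (extCx lB).obj W ≅ Km ⊗ (extCx φ').obj Zp := e1 ≪≫ whiskerLeftIso Km e2
  refine IsZero.of_iso ?_ ((HomologicalComplex.homologyFunctor _ _ i).mapIso e)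
  rw [HomologicalComplex.homologyFunctor_obj, isZero_homology_mix_iff φ' Km Zp i]
  have hZp : KFlat Zp := kflat_extCx lA Z hZ
  have hq : QuasiIso ((extCx lA).map π) := quasiIso_extendCx_map A Ap π
  have hSp : ∀ q : ℤ, q ≠ 0 → IsZero (Sp.X q) := fun q hq =>
    Functor.map_isZero (ModuleCat.extendScalars.{u, u, u} lA) (hS q hq)
  exact isZero_homology_tensor_of_torAmp ((resCx φ').obj Km) a b (h3 m) Zp Sp hZp
    ((extCx lA).map π) hSp i hi

end Main

end Groth.Agent.Lib.Helper13.DV
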