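import Groth.Agent.Lib.Helper13.ClosedImmersionDescent
import Mathlib.AlgebraicGeometry.Morphisms.Finite

set_option autoImplicit false
set_option linter.unusedSectionVars false

universe u

namespace Groth.Agent.Lib.Helper13

open Polynomial

/-- Generators of a finite type ring map, packaged as an induction principle. -/
lemma exists_finset_induction_of_finiteType {R A : Type u} [CommRing R] [CommRing A] (ρ : R →+* A)
    (hft : ρ.FiniteType) :
    ∃ s : Finset A, ∀ (P : A → Prop), (∀ r, P (ρ r)) → (∀ x y, P x → P y → P (x + y)) →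
      (∀ x y, P x → P y → P (x * y)) → (∀ x ∈ s, P x) → ∀ x, P x := by
  let _ := ρ.toAlgebra
  obtain ⟨s, hs⟩ := (show Algebra.FiniteType R A from hft).out
  refine ⟨s, fun P h1 h2 h3 h4 x => ?_⟩
  have hx : x ∈ Algebra.adjoin R (s : Set A) := hs ▸ Algebra.mem_top
  induction hx using Algebra.adjoin_induction with
  | mem x hx => exact h4 x hx
  | algebraMap r => exact h1 r
  | add x y _ _ hx hy => exact h2 x y hx hy
  | mul x y _ _ hx hy => exact h3 x y hx hy

lemma isIntegralElem_of_square {A B A' B' : Type*} [CommRing A] [CommRing B] [CommRing A']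
    [CommRing B'] (φ : A →+* B) (φ' : A' →+* B') (α : A →+* A') (β : B →+* B')
    (h : β.comp φ = φ'.comp α) (p : A[X]) (hp : p.Monic) (x : B) (hx : β (eval₂ φ x p) = 0) :
    φ'.IsIntegralElem (β x) :=
  ⟨p.map α, hp.map α, by rw [eval₂_map, ← h, ← hom_eval₂, hx]⟩

lemma map_eval₂_of_square {A B A' B' : Type*} [CommRing A] [CommRing B] [CommRing A']
    [CommRing B'] (φ : A →+* B) (φ' : A' →+* B') (α : A →+* A') (β : B →+* B')
    (h : β.comp φ = φ'.comp α) (p : A[X]) (x : B) :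
    β (eval₂ φ x p) = eval₂ φ' (β x) (p.map α) := by
  rw [eval₂_map, ← h, ← hom_eval₂]

lemma isIntegralElem_map_of_square {A B A' B' : Type*} [CommRing A] [CommRing B] [CommRing A']
    [CommRing B'] (φ : A →+* B) (φ' : A' →+* B') (α : A →+* A') (β : B →+* B')
    (h : β.comp φ = φ'.comp α) (x : B) (hx : φ.IsIntegralElem x) : φ'.IsIntegralElem (β x) := by
  have := hx.map β
  rw [h] at this
  exact RingHom.IsIntegralElem.of_comp this

/-- A monic polynomial over a directed union of subrings has a monic lift to one of them. -/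
lemma exists_monic_lift_of_directed {ι : Type*} [Nonempty ι] {A : Type*} [CommRing A]
    {Ak : ι → Type*} [∀ k, CommRing (Ak k)] (a : ∀ k, Ak k →+* A)
    (hdir : ∀ k l, ∃ m, (a k).range ≤ (a m).range ∧ (a l).range ≤ (a m).range)
    (hsurj : ∀ x : A, ∃ k, x ∈ (a k).range) (p : A[X]) (hp : p.Monic) :
    ∃ (k : ι) (q : (Ak k)[X]), q.Monic ∧ q.map (a k) = p := by
  classical
  have key : ∀ s : Finset A, ∃ k, ∀ x ∈ s, x ∈ (a k).range := by
    intro s
    induction s using Finset.induction_on with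
    | empty => exact ⟨Classical.arbitrary ι, by simp⟩
    | insert x s _ ih =>
      obtain ⟨k, hk⟩ := ih
      obtain ⟨l, hl⟩ := hsurj x
      obtain ⟨m, hm1, hm2⟩ := hdir k l
      refine ⟨m, fun y hy => ?_⟩
      rcases Finset.mem_insert.mp hy with rfl | hy
      · exact hm2 hl
      · exact hm1 (hk y hy)
  obtain ⟨k, hk⟩ := key p.coeffs
  have hlift : p ∈ Polynomial.lifts (a k) := by
    rw [Polynomial.lifts_iff_coeff_lifts]
    intro n
    by_cases hn : p.coeff n = 0
    · rw [hn]; exact ⟨0, map_zero _⟩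
    · exact hk _ (Polynomial.coeff_mem_coeffs hn)
  obtain ⟨q, hq1, -, hq3⟩ := Polynomial.lifts_and_natDegree_eq_and_monic hlift hp
  exact ⟨k, q, hq3, hq1⟩


namespace LimitDescent

open AlgebraicGeometry CategoryTheory CategoryTheory.Limits Groth.Agent.Lib.Helper5
  Groth.Agent.Lib.Helper13

variable {I : Type u} [SmallCategory I] [IsCofiltered I] {D : I ⥤ Scheme.{u}} {c : Cone D}
  (hc : IsLimit c) [∀ {i j} (f : i ⟶ j), IsAffineHom (D.map f)]
  {i₀ : I} [CompactSpace (D.obj i₀)] [QuasiSeparatedSpace (D.obj i₀)]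
  {X₀ Y₀ : Scheme.{u}} {f₀ : X₀ ⟶ Y₀} {g₀ : Y₀ ⟶ D.obj i₀}
  [QuasiCompact g₀] [QuasiSeparated g₀] [QuasiCompact (f₀ ≫ g₀)] [QuasiSeparated (f₀ ≫ g₀)]
  [LocallyOfFiniteType f₀]
  {X Y : Scheme.{u}} {f : X ⟶ Y} {g : Y ⟶ c.pt} {qY : Y ⟶ Y₀} {qX : X ⟶ X₀}

include hc in
set_option backward.isDefEq.respectTransparency false in
/-- Integral morphisms descend to a finite stage: the affine case. -/
theorem exists_isIntegralHom_stage_of_isAffine (hY : IsPullback qY g g₀ (c.π.app i₀))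
    (hX : IsPullback qX f f₀ qY) [IsIntegralHom f] [IsAffine Y₀] [IsAffine X₀] :
    ∃ j : Over i₀, IsIntegralHom (fj D i₀ f₀ g₀ j) := by
  classical
  let DY := bcDiagram D i₀ g₀
  let cY := bcCone D c i₀ g₀
  let hcY : IsLimit cY := isLimitBcCone D c hc i₀ g₀
  let DX := bcDiagram D i₀ (f₀ ≫ g₀)
  let cX := bcCone D c i₀ (f₀ ≫ g₀)
  let hcX : IsLimit cX := isLimitBcCone D c hc i₀ (f₀ ≫ g₀)
  have : ∀ j, CompactSpace (DY.obj j) := fun j => compactSpace_Yj D i₀ g₀ j
  have : ∀ j, QuasiSeparatedSpace (DY.obj j) := fun j => quasiSeparatedSpace_Yj D i₀ g₀ j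
  have : ∀ j, CompactSpace (DX.obj j) := fun j => compactSpace_Xj D i₀ f₀ g₀ j
  have hcXπ : ∀ j, cX.π.app j = (isoX hY hX).inv ≫ πX hY hX j := fun j => by
    rw [πX, Iso.inv_hom_id_assoc]
  have hqY : IsAffineHom qY := by
    have := isAffineHom_π_app D c hc i₀
    exact MorphismProperty.of_isPullback hY.flip inferInstance
  have : IsAffine Y := isAffine_of_isAffineHom qY
  have hft : f₀.appTop.hom.FiniteType :=
    (HasRingHomProperty.iff_of_isAffine (P := @LocallyOfFiniteType)).mp inferInstance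
  have hint : f.appTop.hom.IsIntegral :=
    ((HasAffineProperty.iff_of_isAffine (P := @IsIntegralHom)).mp inferInstance).2
  have : Nonempty (Over i₀) := ⟨Over.mk (𝟙 i₀)⟩
  -- the ranges of the sections of the stages `Y_k` in `Γ(Y, ⊤)` are directed and exhaustive
  have hrange : ∀ {k l : Over i₀} (e : l ⟶ k),
      (πY hY k).appTop.hom.range ≤ (πY hY l).appTop.hom.range := by
    rintro k l e _ ⟨a, rfl⟩
    refine ⟨(DY.map e).appTop a, ?_⟩
    have := πY_map hY e
    exact congr((Scheme.Hom.appTop $this).hom a)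
  have hdir : ∀ k l : Over i₀, ∃ m : Over i₀,
      (πY hY k).appTop.hom.range ≤ (πY hY m).appTop.hom.range ∧
      (πY hY l).appTop.hom.range ≤ (πY hY m).appTop.hom.range := fun k l =>
    ⟨IsCofiltered.min k l, hrange (IsCofiltered.minToLeft k l), hrange (IsCofiltered.minToRight k l)⟩
  have hsurj : ∀ α : Γ(Y, ⊤), ∃ k : Over i₀, α ∈ (πY hY k).appTop.hom.range := by
    intro α
    obtain ⟨k, a₀, ha₀⟩ := exists_appTop_π_eq_of_isLimit DY cY hcY ((isoY hY).inv.appTop α)
    let a : Γ(Yj D i₀ g₀ k, ⊤) := a₀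
    refine ⟨k, a, ?_⟩
    have h1 : (isoY hY).hom.appTop ((isoY hY).inv.appTop α) = α := by
      rw [appTop_appTop, Iso.hom_inv_id]; rfl
    rw [ha₀] at h1
    exact h1
  have key : ∀ b : Γ(X₀, ⊤), ∃ l : Over i₀,
      (fj D i₀ f₀ g₀ l).appTop.hom.IsIntegralElem ((pXj D i₀ f₀ g₀ l).appTop b) := by
    intro b
    obtain ⟨p, hp, hpb⟩ := hint (qX.appTop b)
    obtain ⟨k, q, hq, hqp⟩ := exists_monic_lift_of_directed
      (fun k : Over i₀ => (πY hY k).appTop.hom) hdir hsurj p hp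
    -- the evaluation at stage `k`
    let z : Γ(Xj D i₀ f₀ g₀ k, ⊤) :=
      Polynomial.eval₂ (fj D i₀ f₀ g₀ k).appTop.hom ((pXj D i₀ f₀ g₀ k).appTop b) q
    have hsq : (πX hY hX k).appTop.hom.comp (fj D i₀ f₀ g₀ k).appTop.hom =
        f.appTop.hom.comp (πY hY k).appTop.hom := by
      have := πX_fj hY hX k
      have := congr(Scheme.Hom.appTop $this)
      rw [Scheme.Hom.comp_appTop, Scheme.Hom.comp_appTop] at this
      exact congr(CommRingCat.Hom.hom $this)
    have hz : (πX hY hX k).appTop z = 0 := by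
      have h1 := map_eval₂_of_square _ _ _ _ hsq q ((pXj D i₀ f₀ g₀ k).appTop b)
      have h2 : (πX hY hX k).appTop ((pXj D i₀ f₀ g₀ k).appTop b) = qX.appTop b := by
        rw [appTop_appTop, πX_pXj]
      change (πX hY hX k).appTop.hom z = 0
      erw [h1, h2, hqp]
      exact hpb
    have hs : (cX.π.app k).app ⊤ z = (cX.π.app k).app ⊤ 0 := by
      rw [map_zero]
      have : (cX.π.app k).app ⊤ z = ((isoX hY hX).inv ≫ πX hY hX k).appTop z :=
        congr((Scheme.Hom.appTop $(hcXπ k)).hom z)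
      rw [this]
      change (isoX hY hX).inv.appTop ((πX hY hX k).appTop z) = 0
      rw [hz, map_zero]
    obtain ⟨l, e, hl⟩ := exists_app_map_eq_map_of_isLimit DX cX hcX (i := k) (U := ⊤)
      isCompact_univ z 0 hs
    rw [map_zero] at hl
    have E1 : DX.map e ≫ fj D i₀ f₀ g₀ k = fj D i₀ f₀ g₀ l ≫ DY.map e :=
      bcDiagram_map_fj D i₀ f₀ g₀ e
    have E2 : DX.map e ≫ pXj D i₀ f₀ g₀ k = pXj D i₀ f₀ g₀ l :=
      bcDiagram_map_pYj D i₀ (f₀ ≫ g₀) e
    have hsq' : (DX.map e).appTop.hom.comp (fj D i₀ f₀ g₀ k).appTop.hom =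
        (fj D i₀ f₀ g₀ l).appTop.hom.comp (DY.map e).appTop.hom := by
      have := congr(Scheme.Hom.appTop $E1)
      rw [Scheme.Hom.comp_appTop, Scheme.Hom.comp_appTop] at this
      exact congr(CommRingCat.Hom.hom $this)
    refine ⟨l, ?_⟩
    have h3 := isIntegralElem_of_square _ _ _ _ hsq' q hq ((pXj D i₀ f₀ g₀ k).appTop b) hl
    have h4 : (DX.map e).appTop ((pXj D i₀ f₀ g₀ k).appTop b) = (pXj D i₀ f₀ g₀ l).appTop b :=
      congr((Scheme.Hom.appTop $E2).hom b)
    rw [← h4]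
    exact h3
  obtain ⟨t, ht⟩ := exists_finset_induction_of_finiteType _ hft
  choose l hl using key
  obtain ⟨m, hm⟩ := IsCofiltered.inf_objs_exists (t.image l)
  refine ⟨m, ?_⟩
  have : IsAffine (Yj D i₀ g₀ m) := isAffine_of_isAffineHom (pYj D i₀ g₀ m)
  have : IsAffine (Xj D i₀ f₀ g₀ m) := isAffine_of_isAffineHom (pYj D i₀ (f₀ ≫ g₀) m)
  rw [HasAffineProperty.iff_of_isAffine (P := @IsIntegralHom)]
  refine ⟨inferInstance, ?_⟩
  have hpush := isPushout_appTop_of_isPullback (isPullback_Xj D i₀ f₀ g₀ m)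
  have hcl := CommRingCat.closure_range_union_range_eq_top_of_isPushout hpush
  have h1 : ∀ b ∈ t, (fj D i₀ f₀ g₀ m).appTop.hom.IsIntegralElem
      ((pXj D i₀ f₀ g₀ m).appTop b) := by
    intro b hb
    obtain ⟨e⟩ := hm (Finset.mem_image_of_mem l hb)
    have E1 : DX.map e ≫ fj D i₀ f₀ g₀ (l b) = fj D i₀ f₀ g₀ m ≫ DY.map e :=
      bcDiagram_map_fj D i₀ f₀ g₀ e
    have E2 : DX.map e ≫ pXj D i₀ f₀ g₀ (l b) = pXj D i₀ f₀ g₀ m :=
      bcDiagram_map_pYj D i₀ (f₀ ≫ g₀) e
    have hsq' : (DX.map e).appTop.hom.comp (fj D i₀ f₀ g₀ (l b)).appTop.hom =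
        (fj D i₀ f₀ g₀ m).appTop.hom.comp (DY.map e).appTop.hom := by
      have := congr(Scheme.Hom.appTop $E1)
      rw [Scheme.Hom.comp_appTop, Scheme.Hom.comp_appTop] at this
      exact congr(CommRingCat.Hom.hom $this)
    have h3 := isIntegralElem_map_of_square _ _ _ _ hsq' _ (hl b)
    have h4 : (DX.map e).appTop ((pXj D i₀ f₀ g₀ (l b)).appTop b) =
        (pXj D i₀ f₀ g₀ m).appTop b := congr((Scheme.Hom.appTop $E2).hom b)
    rw [← h4]
    exact h3
  have h2 : ∀ b, (fj D i₀ f₀ g₀ m).appTop.hom.IsIntegralElem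
      ((pXj D i₀ f₀ g₀ m).appTop b) := by
    refine ht (fun b => (fj D i₀ f₀ g₀ m).appTop.hom.IsIntegralElem
      ((pXj D i₀ f₀ g₀ m).appTop b)) ?_ ?_ ?_ h1
    · intro r
      have : (pXj D i₀ f₀ g₀ m).appTop (f₀.appTop r) =
          (fj D i₀ f₀ g₀ m).appTop ((pYj D i₀ g₀ m).appTop r) := by
        rw [appTop_appTop, appTop_appTop, fj_pYj]
      change (fj D i₀ f₀ g₀ m).appTop.hom.IsIntegralElem
        ((pXj D i₀ f₀ g₀ m).appTop (f₀.appTop r))
      rw [this]
      exact RingHom.isIntegralElem_map _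
    · intro x y hx hy
      rw [map_add]
      exact RingHom.IsIntegralElem.add _ hx hy
    · intro x y hx hy
      rw [map_mul]
      exact RingHom.IsIntegralElem.mul _ hx hy
  intro x
  have hx : x ∈ Subring.closure (Set.range (pXj D i₀ f₀ g₀ m).appTop ∪
      Set.range (fj D i₀ f₀ g₀ m).appTop) := hcl ▸ Subring.mem_top x
  refine IsIntegral.of_mem_closure'' _ ?_ x hx
  rintro _ (⟨b, rfl⟩ | ⟨a, rfl⟩)
  · exact h2 b
  · exact RingHom.isIntegralElem_map _


include hc in
set_option backward.isDefEq.respectTransparency false in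
/-- Integral morphisms descend to a finite stage: the case where `f₀` is affine. -/
theorem exists_isIntegralHom_stage_of_isAffineHom (hY : IsPullback qY g g₀ (c.π.app i₀))
    (hX : IsPullback qX f f₀ qY) [IsIntegralHom f] [IsAffineHom f₀] :
    ∃ j : Over i₀, IsIntegralHom (fj D i₀ f₀ g₀ j) := by
  have : CompactSpace Y₀ := QuasiCompact.compactSpace_of_compactSpace g₀
  have : QuasiCompact f₀ := QuasiCompact.of_comp f₀ g₀
  have : QuasiSeparated f₀ := QuasiSeparated.of_comp f₀ g₀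
  let 𝒰 := Y₀.affineCover.finiteSubcover
  refine exists_stage_of_cover D i₀ f₀ g₀ @IsIntegralHom 𝒰.X 𝒰.f 𝒰.exists_eq fun a => ?_
  have : IsAffine (𝒰.X a) := inferInstanceAs (IsAffine (Y₀.affineCover.X _))
  exact exists_isIntegralHom_stage_of_isAffine hc (isPullback_Y_baseChange (𝒰.f a) hY)
    (isPullback_X_baseChange (𝒰.f a) hX)

include hc in
set_option backward.isDefEq.respectTransparency false in
/-- Integral morphisms descend to a finite stage. -/
theorem exists_isIntegralHom_descend (hY : IsPullback qY g g₀ (c.π.app i₀))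
    (hX : IsPullback qX f f₀ qY) [IsIntegralHom f] :
    ∃ (i : I) (φ : i ⟶ i₀) (Xi Yi : Scheme.{u}) (fi : Xi ⟶ Yi) (gi : Yi ⟶ D.obj i)
      (pY : Yi ⟶ Y₀) (pX : Xi ⟶ X₀),
      IsPullback pY gi g₀ (D.map φ) ∧ IsPullback pX fi f₀ pY ∧ IsIntegralHom fi := by
  obtain ⟨k, hk⟩ := exists_isAffineHom_stage hc hY hX
  apply conclusion_rebase D i₀ f₀ g₀ (fun f => IsIntegralHom f) k
  have : LocallyOfFiniteType (fj D i₀ f₀ g₀ k) :=
    MorphismProperty.of_isPullback (isPullback_Xj D i₀ f₀ g₀ k) inferInstance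
  have := quasiCompact_fj_gj D i₀ f₀ g₀ k
  have := quasiSeparated_fj_gj D i₀ f₀ g₀ k
  obtain ⟨j, hj⟩ := exists_isIntegralHom_stage_of_isAffineHom hc (isPullback_πY hY k)
    (isPullback_πX hY hX k)
  exact conclusion D k.left (fj D i₀ f₀ g₀ k) (gj D i₀ g₀ k) (fun f => IsIntegralHom f) j hj

include hc in
/-- Finite morphisms descend to a finite stage. -/
theorem exists_isFinite_descend (hY : IsPullback qY g g₀ (c.π.app i₀))
    (hX : IsPullback qX f f₀ qY) [IsFinite f] :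
    ∃ (i : I) (φ : i ⟶ i₀) (Xi Yi : Scheme.{u}) (fi : Xi ⟶ Yi) (gi : Yi ⟶ D.obj i)
      (pY : Yi ⟶ Y₀) (pX : Xi ⟶ X₀),
      IsPullback pY gi g₀ (D.map φ) ∧ IsPullback pX fi f₀ pY ∧ IsFinite fi := by
  obtain ⟨i, φ, Xi, Yi, fi, gi, pY, pX, h1, h2, h3⟩ := exists_isIntegralHom_descend hc hY hX
  refine ⟨i, φ, Xi, Yi, fi, gi, pY, pX, h1, h2, ?_⟩
  have : LocallyOfFiniteType fi := MorphismProperty.of_isPullback h2 inferInstance
  exact (IsFinite.iff_isIntegralHom_and_locallyOfFiniteType fi).mpr ⟨h3, inferInstance⟩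

end LimitDescent

end Groth.Agent.Lib.Helper13
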