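import Groth.Agent.Lib.Helper13.SurjectiveDescent

set_option autoImplicit false

universe u

namespace Groth.Agent.Lib.Helper13.LimitDescent

open AlgebraicGeometry CategoryTheory CategoryTheory.Limits Groth.Agent.Lib.Helper5

variable {I : Type u} [SmallCategory I] (D : I ⥤ Scheme.{u}) (c : Cone D)
  (i₀ : I) {X₀ Y₀ : Scheme.{u}} (f₀ : X₀ ⟶ Y₀) (g₀ : Y₀ ⟶ D.obj i₀)

set_option backward.isDefEq.respectTransparency false in
@[reassoc (attr := simp)]
lemma bcDiagram_map_pYj {j k : Over i₀} (ψ : j ⟶ k) :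
    (bcDiagram D i₀ g₀).map ψ ≫ pYj D i₀ g₀ k = pYj D i₀ g₀ j := by
  simp [bcDiagram]

set_option backward.isDefEq.respectTransparency false in
@[reassoc (attr := simp)]
lemma bcDiagram_map_gj {j k : Over i₀} (ψ : j ⟶ k) :
    (bcDiagram D i₀ g₀).map ψ ≫ gj D i₀ g₀ k = gj D i₀ g₀ j ≫ D.map ψ.left := by
  simp [bcDiagram]

set_option backward.isDefEq.respectTransparency false in
@[reassoc]
lemma bcDiagram_map_fj {j k : Over i₀} (ψ : j ⟶ k) :
    (bcDiagram D i₀ (f₀ ≫ g₀)).map ψ ≫ fj D i₀ f₀ g₀ k =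
      fj D i₀ f₀ g₀ j ≫ (bcDiagram D i₀ g₀).map ψ := by
  apply pullback.hom_ext
  · simp [bcDiagram]
  · simp [bcDiagram]

instance quasiSeparatedSpace_left [∀ {i j} (f : i ⟶ j), IsAffineHom (D.map f)]
    [QuasiSeparatedSpace (D.obj i₀)] (j : Over i₀) : QuasiSeparatedSpace (D.obj j.left) :=
  quasiSeparatedSpace_of_quasiSeparated (D.map j.hom)

instance quasiSeparatedSpace_Yj [∀ {i j} (f : i ⟶ j), IsAffineHom (D.map f)]
    [QuasiSeparatedSpace (D.obj i₀)] [QuasiSeparated g₀] (j : Over i₀) :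
    QuasiSeparatedSpace (Yj D i₀ g₀ j) :=
  quasiSeparatedSpace_of_quasiSeparated (gj D i₀ g₀ j)

instance quasiSeparatedSpace_Xj [∀ {i j} (f : i ⟶ j), IsAffineHom (D.map f)]
    [QuasiSeparatedSpace (D.obj i₀)] [QuasiSeparated (f₀ ≫ g₀)] (j : Over i₀) :
    QuasiSeparatedSpace (Xj D i₀ f₀ g₀ j) :=
  quasiSeparatedSpace_Yj D i₀ (f₀ ≫ g₀) j

section

variable {D c i₀ f₀ g₀}
variable {X Y : Scheme.{u}} {f : X ⟶ Y} {g : Y ⟶ c.pt} {qY : Y ⟶ Y₀} {qX : X ⟶ X₀}

set_option backward.isDefEq.respectTransparency false in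
@[reassoc (attr := simp)]
lemma πY_gj (hY : IsPullback qY g g₀ (c.π.app i₀)) (j : Over i₀) :
    πY hY j ≫ gj D i₀ g₀ j = g ≫ c.π.app j.left := by
  rw [πY, Category.assoc]
  erw [bcCone_π_app_fst]
  rw [isoY_hom_fst_assoc]

set_option backward.isDefEq.respectTransparency false in
@[reassoc (attr := simp)]
lemma πX_fst (hY : IsPullback qY g g₀ (c.π.app i₀)) (hX : IsPullback qX f f₀ qY) (j : Over i₀) :
    πX hY hX j ≫ pullback.fst (D.map j.hom) (f₀ ≫ g₀) = f ≫ g ≫ c.π.app j.left := by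
  rw [πX, Category.assoc]
  erw [bcCone_π_app_fst]
  rw [isoX_hom_fst_assoc]

set_option maxHeartbeats 400000 in
@[reassoc]
lemma πX_fj (hY : IsPullback qY g g₀ (c.π.app i₀)) (hX : IsPullback qX f f₀ qY) (j : Over i₀) :
    πX hY hX j ≫ fj D i₀ f₀ g₀ j = f ≫ πY hY j := by
  have h1 := πY_gj hY j
  have h2 := πY_pYj hY j
  have h3 := πX_pXj hY hX j
  have h4 := πX_fst hY hX j
  have h5 := fj_gj D i₀ f₀ g₀ j
  have h6 := fj_pYj D i₀ f₀ g₀ j
  apply pullback.hom_ext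
  · rw [Category.assoc, Category.assoc, h5, h4, h1]
  · rw [Category.assoc, Category.assoc, h6, h2, reassoc_of% h3]
    exact hX.w

set_option backward.isDefEq.respectTransparency false in
@[reassoc (attr := simp)]
lemma πY_map (hY : IsPullback qY g g₀ (c.π.app i₀)) {j k : Over i₀} (ψ : j ⟶ k) :
    πY hY j ≫ (bcDiagram D i₀ g₀).map ψ = πY hY k := by
  rw [πY, πY, Category.assoc, Cone.w]

set_option backward.isDefEq.respectTransparency false in
@[reassoc (attr := simp)]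
lemma πX_map (hY : IsPullback qY g g₀ (c.π.app i₀)) (hX : IsPullback qX f f₀ qY)
    {j k : Over i₀} (ψ : j ⟶ k) :
    πX hY hX j ≫ (bcDiagram D i₀ (f₀ ≫ g₀)).map ψ = πX hY hX k := by
  rw [πX, πX, Category.assoc, Cone.w]

end

section IsoDescent

/-- The structure morphisms of the base-changed diagram to `D.obj i₀`. -/
noncomputable def tY : bcDiagram D i₀ g₀ ⟶ (Functor.const (Over i₀)).obj (D.obj i₀) where
  app j := pYj D i₀ g₀ j ≫ g₀
  naturality j k ψ := by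
    rw [bcDiagram_map_pYj_assoc]
    simp

@[simp]
lemma tY_app (j : Over i₀) : (tY D i₀ g₀).app j = pYj D i₀ g₀ j ≫ g₀ := rfl

variable {D c i₀ f₀ g₀}
variable [IsCofiltered I] (hc : IsLimit c) [∀ {i j} (f : i ⟶ j), IsAffineHom (D.map f)]
  [CompactSpace (D.obj i₀)] [QuasiSeparatedSpace (D.obj i₀)]
  [LocallyOfFinitePresentation g₀] [QuasiCompact g₀] [QuasiSeparated g₀]
  [LocallyOfFinitePresentation (f₀ ≫ g₀)] [QuasiCompact (f₀ ≫ g₀)]
  {X Y : Scheme.{u}} {f : X ⟶ Y} {g : Y ⟶ c.pt} {qY : Y ⟶ Y₀} {qX : X ⟶ X₀}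

include hc in
set_option backward.isDefEq.respectTransparency false in
/-- Isomorphisms descend to a finite stage. -/
theorem exists_isIso_stage (hY : IsPullback qY g g₀ (c.π.app i₀))
    (hX : IsPullback qX f f₀ qY) [IsIso f] :
    ∃ j : Over i₀, IsIso (fj D i₀ f₀ g₀ j) := by
  let DY := bcDiagram D i₀ g₀
  let cY := bcCone D c i₀ g₀
  let hcY : IsLimit cY := isLimitBcCone D c hc i₀ g₀
  let DX := bcDiagram D i₀ (f₀ ≫ g₀)
  let cX := bcCone D c i₀ (f₀ ≫ g₀)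
  let hcX : IsLimit cX := isLimitBcCone D c hc i₀ (f₀ ≫ g₀)
  have : ∀ j, CompactSpace (DY.obj j) := fun j => compactSpace_Yj D i₀ g₀ j
  have : ∀ j, QuasiSeparatedSpace (DY.obj j) := fun j => quasiSeparatedSpace_Yj D i₀ g₀ j
  have : ∀ j, CompactSpace (DX.obj j) := fun j => compactSpace_Xj D i₀ f₀ g₀ j
  have hcYπ : ∀ j, cY.π.app j = (isoY hY).inv ≫ πY hY j := fun j => by
    rw [πY, Iso.inv_hom_id_assoc]
  have hcXπ : ∀ j, cX.π.app j = (isoX hY hX).inv ≫ πX hY hX j := fun j => by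
    rw [πX, Iso.inv_hom_id_assoc]
  -- Step 1: the inverse, composed to `X₀`, factors through a finite stage.
  let a : cY.pt ⟶ X₀ := (isoY hY).inv ≫ inv f ≫ qX
  have ha : cY.π ≫ tY D i₀ g₀ = (Functor.const _).map (a ≫ f₀ ≫ g₀) := by
    ext j
    rw [NatTrans.comp_app, tY_app, hcYπ, Category.assoc, πY_pYj_assoc]
    simp only [Functor.const_obj_obj, Functor.const_map_app, a, Category.assoc]
    rw [hX.w_assoc, IsIso.inv_hom_id_assoc]
  obtain ⟨j, aj, haj, haj'⟩ := Scheme.exists_π_app_comp_eq_of_locallyOfFinitePresentation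
    DY (tY D i₀ g₀) (f₀ ≫ g₀) cY hcY a ha
  rw [tY_app] at haj'
  have haj2 : πY hY j ≫ aj = inv f ≫ qX := by
    have := haj
    rw [hcYπ, Category.assoc, Iso.inv_comp_eq] at this
    rw [this, Iso.hom_inv_id_assoc]
  -- Step 2: after refining, it is a section of `f₀` over `Y_k`.
  obtain ⟨k, ψ, hk⟩ := Scheme.exists_hom_comp_eq_comp_of_locallyOfFiniteType DY (tY D i₀ g₀) g₀
    cY hcY (i := j) (aj ≫ f₀) (pYj D i₀ g₀ j) (by rw [tY_app, Category.assoc, haj'])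
    (by rw [tY_app]) (by
      rw [hcYπ, Category.assoc, Category.assoc, reassoc_of% haj2, πY_pYj, hX.w,
        IsIso.inv_hom_id_assoc])
  have hak : DY.map ψ ≫ aj ≫ f₀ = pYj D i₀ g₀ k := by
    rw [hk, bcDiagram_map_pYj]
  have hak2 : πY hY k ≫ DY.map ψ ≫ aj = inv f ≫ qX := by
    rw [πY_map_assoc, haj2]
  -- Step 3: after refining again, it is also a retraction.
  obtain ⟨l, χ, hl⟩ := Scheme.exists_hom_comp_eq_comp_of_locallyOfFiniteType DX
    (tY D i₀ (f₀ ≫ g₀)) (f₀ ≫ g₀) cX hcX (i := k) (fj D i₀ f₀ g₀ k ≫ DY.map ψ ≫ aj)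
    (pXj D i₀ f₀ g₀ k) (by
      rw [tY_app]
      simp only [Category.assoc]
      rw [reassoc_of% hak, fj_pYj_assoc])
    (by rw [tY_app]) (by
      simp only [hcXπ, Category.assoc]
      rw [πX_fj_assoc, hak2, IsIso.hom_inv_id_assoc, πX_pXj])
  refine ⟨l, ?_⟩
  have hal : (DY.map χ ≫ DY.map ψ ≫ aj) ≫ f₀ = pYj D i₀ g₀ l := by
    simp only [Category.assoc]
    rw [hak, bcDiagram_map_pYj]
  let h' : Yj D i₀ g₀ l ⟶ Xj D i₀ f₀ g₀ l :=
    (isPullback_Xj D i₀ f₀ g₀ l).lift (DY.map χ ≫ DY.map ψ ≫ aj) (𝟙 _) (by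
      rw [hal, Category.id_comp])
  refine ⟨h', ?_, ?_⟩
  · apply (isPullback_Xj D i₀ f₀ g₀ l).hom_ext
    · rw [Category.assoc, IsPullback.lift_fst, Category.id_comp, ← bcDiagram_map_fj_assoc, hl,
        bcDiagram_map_pYj]
    · rw [Category.assoc, IsPullback.lift_snd, Category.comp_id, Category.id_comp]
  · exact IsPullback.lift_snd ..

end IsoDescent

end Groth.Agent.Lib.Helper13.LimitDescent
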