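import Groth.Agent.Lib.Helper13.SmoothDesc4
import Groth.Agent.Lib.Helper13.IsoDescent
import Groth.Agent.Lib.Helper13.IntegralDescent
import Mathlib.AlgebraicGeometry.Morphisms.Smooth
import Mathlib.AlgebraicGeometry.Morphisms.FinitePresentation

/-!
# Smooth morphisms descend to a finite stage: the affine case
-/

set_option autoImplicit false
set_option linter.unusedSectionVars false
set_option linter.style.haveILetI false
universe u

namespace Groth.Agent.Lib.Helper13.LimitDescent

open AlgebraicGeometry CategoryTheory CategoryTheory.Limits Groth.Agent.Lib.Helper5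
  Groth.Agent.Lib.Helper13

variable {I : Type u} [SmallCategory I] [IsCofiltered I] {D : I ⥤ Scheme.{u}} {c : Cone D}
  (hc : IsLimit c) [∀ {i j} (f : i ⟶ j), IsAffineHom (D.map f)]
  {i₀ : I} {X₀ Y₀ : Scheme.{u}} {f₀ : X₀ ⟶ Y₀} {g₀ : Y₀ ⟶ D.obj i₀}
  {X Y : Scheme.{u}} {f : X ⟶ Y} {g : Y ⟶ c.pt} {qY : Y ⟶ Y₀} {qX : X ⟶ X₀}

include hc in
set_option backward.isDefEq.respectTransparency false in
/-- The system of rings of global sections of the stages `Y_j`, for affine `Y₀`. -/
noncomputable def ringSysY (hY : IsPullback qY g g₀ (c.π.app i₀)) [IsAffine Y₀] :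
    SD.RingSys.{u} (Over i₀) where
  R j := Γ(Yj D i₀ g₀ j, ⊤)
  tr e := ((bcDiagram D i₀ g₀).map e).appTop.hom
  tr_comp e e' := by
    rw [Functor.map_comp, Scheme.Hom.comp_appTop]
    rfl
  A := Γ(Y, ⊤)
  a j := (πY hY j).appTop.hom
  a_tr e := by
    rw [← CommRingCat.hom_comp, ← Scheme.Hom.comp_appTop, πY_map]
  surj x := by
    have : ∀ j, IsAffine ((bcDiagram D i₀ g₀).obj j) := fun j =>
      isAffine_of_isAffineHom (pYj D i₀ g₀ j)
    obtain ⟨k, a₀, ha₀⟩ := exists_appTop_π_eq_of_isAffine_of_isLimit (bcDiagram D i₀ g₀)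
      (bcCone D c i₀ g₀) (isLimitBcCone D c hc i₀ g₀) ((isoY hY).inv.appTop x)
    let a : Γ(Yj D i₀ g₀ k, ⊤) := a₀
    refine ⟨k, a, ?_⟩
    have h1 : (isoY hY).hom.appTop ((isoY hY).inv.appTop x) = x := by
      rw [appTop_appTop, Iso.hom_inv_id]; rfl
    rw [← ha₀] at h1
    exact h1
  inj j y hy := by
    have : ∀ j, IsAffine ((bcDiagram D i₀ g₀).obj j) := fun j =>
      isAffine_of_isAffineHom (pYj D i₀ g₀ j)
    have hcπ : (bcCone D c i₀ g₀).π.app j = (isoY hY).inv ≫ πY hY j := by
      rw [πY, Iso.inv_hom_id_assoc]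
    have h0 : ((bcCone D c i₀ g₀).π.app j).appTop y = 0 := by
      rw [hcπ, Scheme.Hom.comp_appTop]
      change (isoY hY).inv.appTop ((πY hY j).appTop y) = 0
      have : (πY hY j).appTop y = 0 := hy
      rw [this, map_zero]
    exact exists_appTop_map_eq_zero_of_isAffine_of_isLimit (bcDiagram D i₀ g₀)
      (bcCone D c i₀ g₀) (isLimitBcCone D c hc i₀ g₀) j y h0

include hc in
set_option backward.isDefEq.respectTransparency false in
/-- Smooth morphisms descend to a finite stage: the affine case. -/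
theorem exists_smooth_stage_of_isAffine (hY : IsPullback qY g g₀ (c.π.app i₀))
    (hX : IsPullback qX f f₀ qY) [LocallyOfFinitePresentation f₀] [Smooth f]
    [IsAffine Y₀] [IsAffine X₀] :
    ∃ j : Over i₀, Smooth (fj D i₀ f₀ g₀ j) := by
  have hqY : IsAffineHom qY := by
    have := isAffineHom_π_app D c hc i₀
    exact MorphismProperty.of_isPullback hY.flip inferInstance
  have : IsAffine Y := isAffine_of_isAffineHom qY
  have hqX : IsAffineHom qX := MorphismProperty.of_isPullback hX.flip hqY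
  have : IsAffine X := isAffine_of_isAffineHom qX
  have hfp : f₀.appTop.hom.FinitePresentation :=
    (HasRingHomProperty.iff_of_isAffine (P := @LocallyOfFinitePresentation)).mp inferInstance
  have hsm : f.appTop.hom.Smooth :=
    (HasRingHomProperty.iff_of_isAffine (P := @Smooth)).mp inferInstance
  have hA := isPushout_appTop_of_isPullback hX
  obtain ⟨j, hj⟩ := SD.exists_smooth_stage (ringSysY hc hY)
    (fun j => (pYj D i₀ g₀ j).appTop.hom)
    (fun {l j} e => by
      change ((bcDiagram D i₀ g₀).map e).appTop.hom.comp (pYj D i₀ g₀ j).appTop.hom =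
        (pYj D i₀ g₀ l).appTop.hom
      rw [← CommRingCat.hom_comp, ← Scheme.Hom.comp_appTop, bcDiagram_map_pYj])
    qY.appTop.hom
    (fun j => by
      change (πY hY j).appTop.hom.comp (pYj D i₀ g₀ j).appTop.hom = qY.appTop.hom
      rw [← CommRingCat.hom_comp, ← Scheme.Hom.comp_appTop, πY_pYj])
    f₀.appTop.hom hfp qX.appTop.hom f.appTop.hom hA hsm
  refine ⟨j, ?_⟩
  have : IsAffine (Yj D i₀ g₀ j) := isAffine_of_isAffineHom (pYj D i₀ g₀ j)
  have : IsAffine (Xj D i₀ f₀ g₀ j) := isAffine_of_isAffineHom (pYj D i₀ (f₀ ≫ g₀) j)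
  rw [HasRingHomProperty.iff_of_isAffine (P := @Smooth)]
  exact hj (pXj D i₀ f₀ g₀ j).appTop.hom (fj D i₀ f₀ g₀ j).appTop.hom
    (isPushout_appTop_of_isPullback (isPullback_Xj D i₀ f₀ g₀ j))

end Groth.Agent.Lib.Helper13.LimitDescent
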