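import Groth.Agent.Lib.Helper13.IntegralDescent
import Groth.Agent.Lib.Helper13.IsoDescent
import Mathlib.AlgebraicGeometry.Morphisms.FinitePresentation

/-!
# Reduction of limit-descent statements to the affine case
-/

set_option autoImplicit false
set_option linter.unusedSectionVars false
universe u

namespace Groth.Agent.Lib.Helper13.LimitDescent

open AlgebraicGeometry CategoryTheory CategoryTheory.Limits Groth.Agent.Lib.Helper5
  Groth.Agent.Lib.Helper13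

section Comp

variable {I : Type u} [SmallCategory I] (D : I ⥤ Scheme.{u})
  (i₀ : I) {W₀ X₀ Y₀ : Scheme.{u}} (h₀ : W₀ ⟶ X₀) (f₀ : X₀ ⟶ Y₀) (g₀ : Y₀ ⟶ D.obj i₀)

/-- The stage of `h₀ ≫ f₀` over `g₀` is the stage of `h₀` over `f₀ ≫ g₀`. -/
noncomputable def compIso (j : Over i₀) :
    Xj D i₀ (h₀ ≫ f₀) g₀ j ≅ Xj D i₀ h₀ (f₀ ≫ g₀) j :=
  pullback.congrHom rfl (Category.assoc _ _ _)

set_option backward.isDefEq.respectTransparency false in
lemma fj_comp (j : Over i₀) :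
    fj D i₀ (h₀ ≫ f₀) g₀ j =
      (compIso D i₀ h₀ f₀ g₀ j).hom ≫ fj D i₀ h₀ (f₀ ≫ g₀) j ≫ fj D i₀ f₀ g₀ j := by
  apply pullback.hom_ext
  · have h1 := fj_gj D i₀ (h₀ ≫ f₀) g₀ j
    have h2 := fj_gj D i₀ f₀ g₀ j
    have h3 := fj_gj D i₀ h₀ (f₀ ≫ g₀) j
    rw [h1, Category.assoc (compIso D i₀ h₀ f₀ g₀ j).hom,
      Category.assoc (fj D i₀ h₀ (f₀ ≫ g₀) j)]
    erw [h2, h3]
    simp [compIso]
  · have h1 := fj_pYj D i₀ (h₀ ≫ f₀) g₀ j
    have h2 := fj_pYj D i₀ f₀ g₀ j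
    have h3 := fj_pYj D i₀ h₀ (f₀ ≫ g₀) j
    rw [h1, Category.assoc (compIso D i₀ h₀ f₀ g₀ j).hom,
      Category.assoc (fj D i₀ h₀ (f₀ ≫ g₀) j)]
    erw [h2, reassoc_of% h3]
    simp [compIso]

/-- A property local at the source can be checked on a jointly surjective family of open
immersions. -/
lemma of_jointly_surjective_source {P : MorphismProperty Scheme.{u}}
    [IsZariskiLocalAtSource P] {X Y : Scheme.{u}} (f : X ⟶ Y) {J : Type u} (U : J → Scheme.{u})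
    (u : ∀ a, U a ⟶ X) [∀ a, IsOpenImmersion (u a)] (hcov : ∀ x, ∃ a z, u a z = x)
    (hP : ∀ a, P (u a ≫ f)) : P f :=
  IsZariskiLocalAtSource.of_openCover (Scheme.Cover.mkOfCovers J U u hcov) hP

end Comp

section Reduce

variable {I : Type u} [SmallCategory I] [IsCofiltered I] {D : I ⥤ Scheme.{u}} {c : Cone D}
  {i₀ : I}

/-- The affine case of the descent statement for `P`. -/
def AffineCase (D : I ⥤ Scheme.{u}) (c : Cone D) (i₀ : I) (P : MorphismProperty Scheme.{u}) :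
    Prop :=
  ∀ {X₀ Y₀ : Scheme.{u}} [IsAffine X₀] [IsAffine Y₀] (f₀ : X₀ ⟶ Y₀) (g₀ : Y₀ ⟶ D.obj i₀)
    [LocallyOfFinitePresentation f₀] {X Y : Scheme.{u}} (f : X ⟶ Y) (g : Y ⟶ c.pt)
    (qY : Y ⟶ Y₀) (qX : X ⟶ X₀),
    IsPullback qY g g₀ (c.π.app i₀) → IsPullback qX f f₀ qY → P f →
      ∃ j : Over i₀, P (fj D i₀ f₀ g₀ j)

variable (P : MorphismProperty Scheme.{u}) [IsZariskiLocalAtSource P]
  [P.IsStableUnderBaseChange]
  (hPO : ∀ {A B C : Scheme.{u}} (a : A ⟶ B) (b : B ⟶ C) [IsOpenImmersion b], P a → P (a ≫ b))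
  (H : AffineCase D c i₀ P)
  {X₀ Y₀ : Scheme.{u}} (f₀ : X₀ ⟶ Y₀) (g₀ : Y₀ ⟶ D.obj i₀) [LocallyOfFinitePresentation f₀]
  {X Y : Scheme.{u}} {f : X ⟶ Y} {g : Y ⟶ c.pt} {qY : Y ⟶ Y₀} {qX : X ⟶ X₀}

include hPO H in
set_option backward.isDefEq.respectTransparency false in
lemma exists_stage_restrict (hY : IsPullback qY g g₀ (c.π.app i₀)) (hX : IsPullback qX f f₀ qY)
    (hf : P f) (U : X₀.Opens) (V : Y₀.Opens) (hU : IsAffineOpen U) (hV : IsAffineOpen V)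
    (e : U ≤ f₀ ⁻¹ᵁ V) : ∃ j : Over i₀, P (fj D i₀ (U.ι ≫ f₀) g₀ j) := by
  have : IsAffine ↑U := hU
  have : IsAffine ↑V := hV
  let fa : U.toScheme ⟶ V.toScheme := f₀.resLE V U e
  have hfa : fa ≫ V.ι = U.ι ≫ f₀ := Scheme.Hom.resLE_comp_ι f₀ e
  have hX1 : IsPullback (pullback.snd qX U.ι) (pullback.fst qX U.ι ≫ f) (U.ι ≫ f₀) qY :=
    (IsPullback.of_hasPullback qX U.ι).flip.paste_vert hX
  have hf1 : P (pullback.fst qX U.ι ≫ f) := IsZariskiLocalAtSource.comp hf _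
  rw [← hfa] at hX1
  have hw : (pullback.fst qX U.ι ≫ f) ≫ qY = (pullback.snd qX U.ι ≫ fa) ≫ V.ι := by
    rw [Category.assoc, Category.assoc]
    exact hX1.w.symm
  let f' : pullback qX U.ι ⟶ pullback qY V.ι :=
    pullback.lift (pullback.fst qX U.ι ≫ f) (pullback.snd qX U.ι ≫ fa) hw
  have hf'1 : f' ≫ pullback.fst qY V.ι = pullback.fst qX U.ι ≫ f := pullback.lift_fst _ _ _
  have hf'2 : f' ≫ pullback.snd qY V.ι = pullback.snd qX U.ι ≫ fa := pullback.lift_snd _ _ _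
  have hY2 := isPullback_Y_baseChange V.ι hY
  have hX2 : IsPullback (pullback.snd qX U.ι) f' fa (pullback.snd qY V.ι) := by
    refine (IsPullback.of_right ?_ hf'2 (IsPullback.of_hasPullback qY V.ι)).flip
    rw [hf'1]
    exact hX1.flip
  have hf2 : P f' := by
    have sq : IsPullback (𝟙 _) f' (pullback.fst qX U.ι ≫ f) (pullback.fst qY V.ι) :=
      IsPullback.of_horiz_isIso_mono ⟨by rw [Category.id_comp, hf'1]⟩
    exact P.of_isPullback sq hf1
  obtain ⟨j, hj⟩ := H fa (V.ι ≫ g₀) f' _ _ _ hY2 hX2 hf2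
  refine ⟨j, ?_⟩
  have key : ∀ (k : U.toScheme ⟶ Y₀), k = fa ≫ V.ι → P (fj D i₀ k g₀ j) := by
    rintro k rfl
    rw [fj_comp, P.cancel_left_of_respectsIso]
    have : IsOpenImmersion (fj D i₀ V.ι g₀ j) :=
      MorphismProperty.of_isPullback (isPullback_Xj D i₀ V.ι g₀ j) inferInstance
    exact hPO _ _ hj
  exact key _ hfa.symm

include hPO H in
set_option backward.isDefEq.respectTransparency false in
/-- A property local at the source, stable under base change and under composition with open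
immersions of the target descends to a finite stage as soon as it does so in the affine case. -/
theorem exists_stage_of_affineCase [CompactSpace X₀] (hY : IsPullback qY g g₀ (c.π.app i₀))
    (hX : IsPullback qX f f₀ qY) (hf : P f) : ∃ j : Over i₀, P (fj D i₀ f₀ g₀ j) := by
  classical
  have hch : ∀ x : X₀, ∃ (V : Y₀.Opens) (U : X₀.Opens),
      IsAffineOpen V ∧ IsAffineOpen U ∧ x ∈ U ∧ U ≤ f₀ ⁻¹ᵁ V := by
    intro x
    obtain ⟨_, ⟨V, hV, rfl⟩, hxV, -⟩ :=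
      Y₀.isBasis_affineOpens.exists_subset_of_mem_open (Set.mem_univ (f₀ x)) isOpen_univ
    obtain ⟨_, ⟨U, hU, rfl⟩, hxU, hUV⟩ :=
      X₀.isBasis_affineOpens.exists_subset_of_mem_open (show x ∈ f₀ ⁻¹ᵁ V from hxV)
        (f₀ ⁻¹ᵁ V).2
    exact ⟨V, U, hV, hU, hxU, hUV⟩
  choose V U hV hU hxU hUV using hch
  obtain ⟨t, ht⟩ := isCompact_univ.elim_finite_subcover (fun x => (U x : Set X₀))
    (fun x => (U x).2) (fun x _ => Set.mem_iUnion.2 ⟨x, hxU x⟩)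
  have hst : ∀ x : t, ∃ j : Over i₀, P (fj D i₀ ((U x).ι ≫ f₀) g₀ j) := fun x =>
    exists_stage_restrict P hPO H f₀ g₀ hY hX hf (U x) (V x) (hU x) (hV x) (hUV x)
  choose k hk using hst
  obtain ⟨l, hl⟩ := IsCofiltered.inf_objs_exists (Finset.univ.image k)
  refine ⟨l, ?_⟩
  have hPl : ∀ x : t, P (fj D i₀ ((U x).ι ≫ f₀) g₀ l) := fun x => by
    obtain ⟨e⟩ := hl (Finset.mem_image_of_mem k (Finset.mem_univ x))
    exact P.of_isPullback (isPullback_map_fj D i₀ ((U x).ι ≫ f₀) g₀ e) (hk x)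
  have : ∀ x : t, IsOpenImmersion (fj D i₀ (U x).ι (f₀ ≫ g₀) l) := fun x =>
    MorphismProperty.of_isPullback (isPullback_Xj D i₀ (U x).ι (f₀ ≫ g₀) l) inferInstance
  refine of_jointly_surjective_source (fj D i₀ f₀ g₀ l)
    (fun x : t => Xj D i₀ (U x).ι (f₀ ≫ g₀) l) (fun x => fj D i₀ (U x).ι (f₀ ≫ g₀) l) ?_ ?_
  · intro y
    have h1 := ht (Set.mem_univ (pXj D i₀ f₀ g₀ l y))
    obtain ⟨x, hx, hyx⟩ : ∃ x ∈ t, pXj D i₀ f₀ g₀ l y ∈ (U x : Set X₀) := by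
      simpa using h1
    have hy : y ∈ Set.range (fj D i₀ (U x).ι (f₀ ≫ g₀) l) := by
      rw [(isPullback_Xj D i₀ (U x).ι (f₀ ≫ g₀) l).range_snd_scheme]
      exact ⟨⟨_, hyx⟩, rfl⟩
    obtain ⟨z, hz⟩ := hy
    exact ⟨⟨x, hx⟩, z, hz⟩
  · intro x
    have h2 := hPl x
    rw [fj_comp, P.cancel_left_of_respectsIso] at h2
    exact h2

end Reduce

end Groth.Agent.Lib.Helper13.LimitDescent
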