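import Mathlib.AlgebraicGeometry.ZariskisMainTheorem
import Mathlib.AlgebraicGeometry.Morphisms.QuasiFinite
import Mathlib.AlgebraicGeometry.Morphisms.UniversallyOpen
import Mathlib.AlgebraicGeometry.Fiber

set_option autoImplicit false

namespace Groth.Agent.Lib.Helper13

open CategoryTheory CategoryTheory.Limits AlgebraicGeometry

universe u

/-- Quasi-finiteness at a point in terms of a point of an arbitrary fibre. -/
lemma quasiFiniteAt_iff_isOpen_singleton_fiber {Z S : Scheme.{u}} (g : Z ⟶ S)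
    [LocallyOfFiniteType g] (s : S) (w : g.fiber s) (z : Z) (hz : g.fiberι s w = z) :
    g.QuasiFiniteAt z ↔ IsOpen {w} := by
  have hs : g z = s := by
    have : z ∈ Set.range (g.fiberι s) := ⟨w, hz⟩
    rw [g.range_fiberι] at this
    exact this
  subst hs
  have : w = g.asFiber z :=
    (g.fiberι (g z)).isEmbedding.injective (by rw [hz, g.fiberι_asFiber])
  rw [this]
  exact Scheme.Hom.quasiFiniteAt_iff_isOpen_singleton_asFiber

set_option backward.isDefEq.respectTransparency false in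
/-- Quasi-finiteness at a point descends along arbitrary base change. -/
theorem quasiFiniteAt_of_isPullback {X Y X₀ Y₀ : Scheme.{u}} {qX : X ⟶ X₀} {f : X ⟶ Y}
    {f₀ : X₀ ⟶ Y₀} {qY : Y ⟶ Y₀} (hX : IsPullback qX f f₀ qY) [LocallyOfFiniteType f₀] (x : X)
    (hx : f.QuasiFiniteAt x) : f₀.QuasiFiniteAt (qX x) := by
  have : LocallyOfFiniteType f := MorphismProperty.of_isPullback hX inferInstance
  let y := f x
  let Φ : f.fiber y ⟶ f₀.fiber (qY y) :=
    pullback.map _ _ _ _ qX (Spec.map (qY.residueFieldMap y)) qY hX.w.symm (by simp)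
  have hΦ : IsPullback Φ (f.fiberToSpecResidueField y) (f₀.fiberToSpecResidueField (qY y))
      (Spec.map (qY.residueFieldMap y)) := isPullback_fiberToSpecResidueField_of_isPullback hX y
  have : UniversallyOpen (Spec.map (qY.residueFieldMap y)) := inferInstance
  have : UniversallyOpen Φ := MorphismProperty.of_isPullback hΦ.flip inferInstance
  have hΦι : Φ ≫ f₀.fiberι (qY y) = f.fiberι y ≫ qX := pullback.lift_fst ..
  have h1 : IsOpen {f.asFiber x} := Scheme.Hom.quasiFiniteAt_iff_isOpen_singleton_asFiber.mp hx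
  have h2 : IsOpen (Φ '' {f.asFiber x}) := Φ.isOpenMap _ h1
  rw [Set.image_singleton] at h2
  refine (quasiFiniteAt_iff_isOpen_singleton_fiber f₀ (qY y) (Φ (f.asFiber x)) (qX x) ?_).mpr h2
  rw [← Scheme.Hom.comp_apply, hΦι, Scheme.Hom.comp_apply, f.fiberι_asFiber]

/-- Quasi-finiteness at a point is stable under base change. -/
theorem quasiFiniteAt_of_isPullback' {X Y X₀ Y₀ : Scheme.{u}} {qX : X ⟶ X₀} {f : X ⟶ Y}
    {f₀ : X₀ ⟶ Y₀} {qY : Y ⟶ Y₀} (hX : IsPullback qX f f₀ qY) [LocallyOfFiniteType f₀] (x : X)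
    (hx : f₀.QuasiFiniteAt (qX x)) : f.QuasiFiniteAt x := by
  have : LocallyOfFiniteType f := MorphismProperty.of_isPullback hX inferInstance
  let U₀ := f₀.quasiFiniteLocus
  let W := qX ⁻¹ᵁ U₀
  have h1 : IsPullback (qX ∣_ U₀) (W.ι ≫ f) (U₀.ι ≫ f₀) qY :=
    (isPullback_morphismRestrict qX U₀).paste_vert hX
  have h2 : LocallyQuasiFinite (W.ι ≫ f) := MorphismProperty.of_isPullback h1 inferInstance
  have h3 : (W.ι ≫ f).quasiFiniteLocus = ⊤ := Scheme.Hom.quasiFiniteLocus_eq_top _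
  rw [Scheme.Hom.quasiFiniteLocus_comp] at h3
  have hxW : x ∈ W := hx
  have : (⟨x, hxW⟩ : W) ∈ W.ι ⁻¹ᵁ f.quasiFiniteLocus := h3 ▸ trivial
  exact this

end Groth.Agent.Lib.Helper13
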