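import Groth.Agent.Lib.Helper13.SurjectiveDescent
import Groth.Agent.Lib.Helper24.LimOverBase
import Mathlib.AlgebraicGeometry.Morphisms.Separated
import Mathlib.AlgebraicGeometry.Morphisms.Immersion

set_option autoImplicit false

universe u

namespace Groth.Agent.Lib.Helper13

open AlgebraicGeometry CategoryTheory CategoryTheory.Limits Groth.Agent.Lib.Helper24

/-- For a separated `f : X ⟶ T` and `i : T ⟶ S`, the diagonal of `X` over `S` is closed in the
preimage of the diagonal of `T` over `S`. -/
lemma mem_range_diagonal_of_mem_closure {X T S : Scheme.{u}} (f : X ⟶ T) (i : T ⟶ S)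
    [IsSeparated f]
    (z : ↥(pullback (f ≫ i) (f ≫ i)))
    (hz : z ∈ closure (Set.range (pullback.diagonal (f ≫ i))))
    (hq : pullback.map (f ≫ i) (f ≫ i) i i f f (𝟙 S) (Category.comp_id _) (Category.comp_id _) z ∈
      Set.range (pullback.diagonal i)) :
    z ∈ Set.range (pullback.diagonal (f ≫ i)) := by
  have sq := pullback_map_diagonal_isPullback f f i
  let ι := pullback.map f f (f ≫ i) (f ≫ i) (𝟙 X) (𝟙 X) i (Category.id_comp _).symm
    (Category.id_comp _).symm
  have hι : IsImmersion ι := MorphismProperty.of_isPullback sq inferInstance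
  have hrange : Set.range ι = _ ⁻¹' Set.range (pullback.diagonal i) := sq.range_snd_scheme
  have hzι : z ∈ Set.range ι := by rw [hrange]; exact hq
  obtain ⟨w, rfl⟩ := hzι
  have hdiag : pullback.diagonal f ≫ ι = pullback.diagonal (f ≫ i) := by
    apply pullback.hom_ext
    · simp only [ι, Category.assoc, pullback.lift_fst, pullback.diagonal_fst]
      rw [pullback.diagonal_fst_assoc]
    · simp only [ι, Category.assoc, pullback.lift_snd, pullback.diagonal_snd]
      rw [pullback.diagonal_snd_assoc]
  have hT : Set.range (pullback.diagonal (f ≫ i)) = ι '' Set.range (pullback.diagonal f) := by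
    rw [← hdiag, Scheme.Hom.comp_base, TopCat.coe_comp, Set.range_comp]
  rw [hT] at hz ⊢
  have hemb : Topology.IsEmbedding ι := ι.isEmbedding
  have hw : w ∈ closure (Set.range (pullback.diagonal f)) := by
    rw [hemb.isInducing.closure_eq_preimage_closure_image]
    exact hz
  have hcl : IsClosed (Set.range (pullback.diagonal f)) :=
    (pullback.diagonal f).isClosedEmbedding.isClosed_range
  rw [hcl.closure_eq] at hw
  exact ⟨w, hw, rfl⟩


section

variable {C : Type*} [Category C] {W X Y Z S T : C} (f₁ : W ⟶ S) (f₂ : X ⟶ S) [HasPullback f₁ f₂]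
  (g₁ : Y ⟶ T) (g₂ : Z ⟶ T) [HasPullback g₁ g₂] (i₁ : W ⟶ Y) (i₂ : X ⟶ Z) (i₃ : S ⟶ T)
  (eq₁ : f₁ ≫ i₃ = i₁ ≫ g₁) (eq₂ : f₂ ≫ i₃ = i₂ ≫ g₂)

@[reassoc]
lemma pmap_fst : pullback.map f₁ f₂ g₁ g₂ i₁ i₂ i₃ eq₁ eq₂ ≫ pullback.fst g₁ g₂ =
    pullback.fst f₁ f₂ ≫ i₁ := pullback.lift_fst _ _ _

@[reassoc]
lemma pmap_snd : pullback.map f₁ f₂ g₁ g₂ i₁ i₂ i₃ eq₁ eq₂ ≫ pullback.snd g₁ g₂ =
    pullback.snd f₁ f₂ ≫ i₂ := pullback.lift_snd _ _ _

end

variable {I : Type u} [SmallCategory I] {S : Scheme.{u}} (D : I ⥤ Scheme.{u})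
  (t : D ⟶ (Functor.const I).obj S) (c : Cone D)

/-- The structure map of the stage `i`. -/
abbrev tS (i : I) : D.obj i ⟶ S := t.app i

omit [SmallCategory I] in
lemma map_tS {I : Type u} [SmallCategory I] (D : I ⥤ Scheme.{u})
    (t : D ⟶ (Functor.const I).obj S) {i j : I} (f : i ⟶ j) :
    D.map f ≫ tS D t j = tS D t i := limOver_map_comp_app D t f

/-- The system of fibre squares `X_i ×_S X_i`. -/
noncomputable def sqDiagram : I ⥤ Scheme.{u} where
  obj i := pullback (tS D t i) (tS D t i)
  map {i j} f := pullback.map (tS D t i) (tS D t i) (tS D t j) (tS D t j) (D.map f) (D.map f) (𝟙 S)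
    (by rw [Category.comp_id, map_tS]) (by rw [Category.comp_id, map_tS])
  map_id i := by apply pullback.hom_ext <;> simp
  map_comp f g := by
    apply pullback.hom_ext
    · simp only [Category.assoc, pmap_fst, pmap_fst_assoc, Functor.map_comp]
    · simp only [Category.assoc, pmap_snd, pmap_snd_assoc, Functor.map_comp]

/-- First projection of the fibre square. -/
noncomputable def sqFst (i : I) : (sqDiagram D t).obj i ⟶ D.obj i := pullback.fst _ _

/-- Second projection of the fibre square. -/
noncomputable def sqSnd (i : I) : (sqDiagram D t).obj i ⟶ D.obj i := pullback.snd _ _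

lemma sq_condition (i : I) : sqFst D t i ≫ tS D t i = sqSnd D t i ≫ tS D t i := pullback.condition

variable {D t} in
lemma sq_hom_ext {i : I} {W : Scheme.{u}} {a b : W ⟶ (sqDiagram D t).obj i}
    (h1 : a ≫ sqFst D t i = b ≫ sqFst D t i) (h2 : a ≫ sqSnd D t i = b ≫ sqSnd D t i) : a = b :=
  pullback.hom_ext h1 h2

@[reassoc]
lemma sqDiagram_map_fst {i j : I} (f : i ⟶ j) : (sqDiagram D t).map f ≫ sqFst D t j =
    sqFst D t i ≫ D.map f := by dsimp only [sqDiagram, sqFst]; exact pmap_fst ..

@[reassoc]
lemma sqDiagram_map_snd {i j : I} (f : i ⟶ j) : (sqDiagram D t).map f ≫ sqSnd D t j =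
    sqSnd D t i ≫ D.map f := by dsimp only [sqDiagram, sqSnd]; exact pmap_snd ..

/-- The diagonal of the stage `i`. -/
noncomputable def sqDiag (i : I) : D.obj i ⟶ (sqDiagram D t).obj i := pullback.diagonal (tS D t i)

@[reassoc (attr := simp)]
lemma sqDiag_fst (i : I) : sqDiag D t i ≫ sqFst D t i = 𝟙 _ := pullback.diagonal_fst _

@[reassoc (attr := simp)]
lemma sqDiag_snd (i : I) : sqDiag D t i ≫ sqSnd D t i = 𝟙 _ := pullback.diagonal_snd _

@[reassoc]
lemma map_sqDiag {i j : I} (f : i ⟶ j) :
    D.map f ≫ sqDiag D t j = sqDiag D t i ≫ (sqDiagram D t).map f := by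
  apply sq_hom_ext
  · rw [Category.assoc, Category.assoc, sqDiagram_map_fst, sqDiag_fst, sqDiag_fst_assoc,
      Category.comp_id]
  · rw [Category.assoc, Category.assoc, sqDiagram_map_snd, sqDiag_snd, sqDiag_snd_assoc,
      Category.comp_id]

/-- The structure map of the vertex of a cone. -/
noncomputable def coneStr [IsCofiltered I] : c.pt ⟶ S :=
  c.π.app IsCofiltered.nonempty.some ≫ tS D t IsCofiltered.nonempty.some

variable [IsCofiltered I]

lemma π_app_comp (i : I) : c.π.app i ≫ tS D t i = coneStr D t c :=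
  limOver_structure_eq D t c _ _

/-- The cone of fibre squares. -/
noncomputable def sqCone : Cone (sqDiagram D t) where
  pt := pullback (coneStr D t c) (coneStr D t c)
  π :=
    { app := fun i => pullback.map (coneStr D t c) (coneStr D t c) (tS D t i) (tS D t i)
        (c.π.app i) (c.π.app i) (𝟙 S)
        (by rw [Category.comp_id, π_app_comp])
        (by rw [Category.comp_id, π_app_comp])
      naturality := fun i j f => by
        apply pullback.hom_ext
        · simp only [sqDiagram, Functor.const_obj_obj, Functor.const_obj_map, Category.id_comp,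
            Category.assoc, pmap_fst, pmap_fst_assoc, Cone.w]
        · simp only [sqDiagram, Functor.const_obj_obj, Functor.const_obj_map, Category.id_comp,
            Category.assoc, pmap_snd, pmap_snd_assoc, Cone.w] }

/-- First projection of the vertex of the cone of fibre squares. -/
noncomputable def ptFst : (sqCone D t c).pt ⟶ c.pt := pullback.fst _ _

/-- Second projection of the vertex of the cone of fibre squares. -/
noncomputable def ptSnd : (sqCone D t c).pt ⟶ c.pt := pullback.snd _ _

lemma pt_condition : ptFst D t c ≫ coneStr D t c = ptSnd D t c ≫ coneStr D t c :=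
  pullback.condition

variable {D t c} in
lemma pt_hom_ext {W : Scheme.{u}} {a b : W ⟶ (sqCone D t c).pt}
    (h1 : a ≫ ptFst D t c = b ≫ ptFst D t c) (h2 : a ≫ ptSnd D t c = b ≫ ptSnd D t c) : a = b :=
  pullback.hom_ext h1 h2

@[reassoc]
lemma sqCone_π_app_fst (i : I) : (sqCone D t c).π.app i ≫ sqFst D t i =
    ptFst D t c ≫ c.π.app i := by dsimp only [sqCone, sqFst, ptFst]; exact pmap_fst ..

@[reassoc]
lemma sqCone_π_app_snd (i : I) : (sqCone D t c).π.app i ≫ sqSnd D t i =
    ptSnd D t c ≫ c.π.app i := by dsimp only [sqCone, sqSnd, ptSnd]; exact pmap_snd ..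

/-- The diagonal of the vertex. -/
noncomputable def ptDiag : c.pt ⟶ (sqCone D t c).pt := pullback.diagonal (coneStr D t c)

@[reassoc (attr := simp)]
lemma ptDiag_fst : ptDiag D t c ≫ ptFst D t c = 𝟙 _ := pullback.diagonal_fst _

@[reassoc (attr := simp)]
lemma ptDiag_snd : ptDiag D t c ≫ ptSnd D t c = 𝟙 _ := pullback.diagonal_snd _

@[reassoc]
lemma ptDiag_π_app (i : I) :
    ptDiag D t c ≫ (sqCone D t c).π.app i = c.π.app i ≫ sqDiag D t i := by
  apply sq_hom_ext
  · rw [Category.assoc, Category.assoc, sqCone_π_app_fst, sqDiag_fst, ptDiag_fst_assoc,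
      Category.comp_id]
  · rw [Category.assoc, Category.assoc, sqCone_π_app_snd, sqDiag_snd, ptDiag_snd_assoc,
      Category.comp_id]

variable {D t c} in
/-- The cone of fibre squares is a limit cone. -/
noncomputable def isLimitSqCone (hc : IsLimit c) : IsLimit (sqCone D t c) where
  lift s := pullback.lift
    (hc.lift ⟨s.pt, { app := fun i => s.π.app i ≫ sqFst D t i
                      naturality := fun i j f => by
                        have := s.w f
                        simp only [Functor.const_obj_obj, Functor.const_obj_map, Category.id_comp]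
                        rw [← this, Category.assoc, Category.assoc, sqDiagram_map_fst] }⟩)
    (hc.lift ⟨s.pt, { app := fun i => s.π.app i ≫ sqSnd D t i
                      naturality := fun i j f => by
                        have := s.w f
                        simp only [Functor.const_obj_obj, Functor.const_obj_map, Category.id_comp]
                        rw [← this, Category.assoc, Category.assoc, sqDiagram_map_snd] }⟩)
    (by
      rw [← π_app_comp D t c IsCofiltered.nonempty.some, hc.fac_assoc, hc.fac_assoc]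
      simp only [Category.assoc]
      rw [sq_condition])
  fac s i := by
    apply sq_hom_ext
    · rw [Category.assoc, sqCone_π_app_fst]
      erw [pullback.lift_fst_assoc]
      rw [hc.fac]
    · rw [Category.assoc, sqCone_π_app_snd]
      erw [pullback.lift_snd_assoc]
      rw [hc.fac]
  uniq s m hm := by
    apply pt_hom_ext
    · erw [pullback.lift_fst]
      refine hc.hom_ext fun i => ?_
      rw [hc.fac]
      simp only [← hm i, Category.assoc, sqCone_π_app_fst]
    · erw [pullback.lift_snd]
      refine hc.hom_ext fun i => ?_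
      rw [hc.fac]
      simp only [← hm i, Category.assoc, sqCone_π_app_snd]


omit [IsCofiltered I] in
lemma isAffineHom_sqDiagram_map [∀ {i j : I} (f : i ⟶ j), IsAffineHom (D.map f)] {i j : I}
    (f : i ⟶ j) : IsAffineHom ((sqDiagram D t).map f) :=
  MorphismProperty.pullbackMap (P := @IsAffineHom) (f := tS D t i) (g := tS D t i)
    (f' := tS D t j) (g' := tS D t j) (i₁ := D.map f) (i₂ := D.map f)
    inferInstance inferInstance (map_tS D t f).symm (map_tS D t f).symm

omit [IsCofiltered I] in
lemma compactSpace_sqDiagram_obj [QuasiSeparatedSpace S] (i : I) [CompactSpace (D.obj i)] :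
    CompactSpace ((sqDiagram D t).obj i) := by
  have : QuasiCompact (tS D t i) := quasiCompact_of_compactSpace (Y := S) _
  have : QuasiCompact (sqFst D t i) :=
    inferInstanceAs (QuasiCompact (pullback.fst (tS D t i) (tS D t i)))
  exact QuasiCompact.compactSpace_of_compactSpace (sqFst D t i)

/-- The bad set: the boundary of the diagonal. -/
def sqBad (i : I) : Set ((sqDiagram D t).obj i) :=
  closure (Set.range (sqDiag D t i)) \ Set.range (sqDiag D t i)

omit [IsCofiltered I] in
lemma isClosed_sqBad (i : I) : IsClosed (sqBad D t i) := by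
  have : IsImmersion (sqDiag D t i) :=
    inferInstanceAs (IsImmersion (pullback.diagonal (tS D t i)))
  have h : IsLocallyClosed (Set.range (sqDiag D t i)) := (sqDiag D t i).isLocallyClosed_range
  have := h.isOpen_coborder
  rw [coborder, isOpen_compl_iff] at this
  exact this


lemma mem_range_diagonal_of_mem_closure' {X T S : Scheme.{u}} (f : X ⟶ T) (i : T ⟶ S)
    (k : X ⟶ S) (hk : f ≫ i = k) [IsSeparated f] (z : ↥(pullback k k))
    (hz : z ∈ closure (Set.range (pullback.diagonal k)))
    (hq : pullback.map k k i i f f (𝟙 S) (by rw [Category.comp_id, hk])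
      (by rw [Category.comp_id, hk]) z ∈ Set.range (pullback.diagonal i)) :
    z ∈ Set.range (pullback.diagonal k) := by
  subst hk
  exact mem_range_diagonal_of_mem_closure f i z hz hq

omit [IsCofiltered I] in
lemma mapsTo_sqBad [∀ {i j : I} (f : i ⟶ j), IsAffineHom (D.map f)] {i j : I} (f : i ⟶ j) :
    Set.MapsTo ((sqDiagram D t).map f) (sqBad D t i) (sqBad D t j) := by
  rintro z ⟨hz1, hz2⟩
  have himg : (sqDiagram D t).map f '' Set.range (sqDiag D t i) ⊆ Set.range (sqDiag D t j) := by
    rintro _ ⟨_, ⟨x, rfl⟩, rfl⟩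
    refine ⟨D.map f x, ?_⟩
    rw [← Scheme.Hom.comp_apply, ← Scheme.Hom.comp_apply, map_sqDiag]
  refine ⟨?_, fun hq => hz2 ?_⟩
  · have h1 := image_closure_subset_closure_image ((sqDiagram D t).map f).continuous
      (s := Set.range (sqDiag D t i))
    exact closure_mono himg (h1 ⟨z, hz1, rfl⟩)
  · have : IsSeparated (D.map f) := IsSeparated.of_isAffineHom _
    exact mem_range_diagonal_of_mem_closure' (D.map f) (tS D t j) (tS D t i) (map_tS D t f) z hz1 hq


omit [IsCofiltered I] in
lemma isSeparated_of_sqBad_eq_empty (i : I) (h : sqBad D t i = ∅) : IsSeparated (tS D t i) := by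
  have : IsImmersion (sqDiag D t i) :=
    inferInstanceAs (IsImmersion (pullback.diagonal (tS D t i)))
  have hcl : IsClosed (Set.range (sqDiag D t i)) := by
    rw [← closure_subset_iff_isClosed]
    exact Set.sdiff_eq_empty.mp h
  have : IsClosedImmersion (sqDiag D t i) := .of_isPreimmersion _ hcl
  exact ⟨this⟩

set_option backward.isDefEq.respectTransparency false in
/-- If the limit is separated over `S`, some `sqBad` is empty. -/
lemma exists_sqBad_eq_empty (hc : IsLimit c) [QuasiSeparatedSpace S]
    [∀ {i j : I} (f : i ⟶ j), IsAffineHom (D.map f)]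
    [∀ i, CompactSpace (D.obj i)] [∀ i, QuasiSeparatedSpace (D.obj i)]
    [IsSeparated (coneStr D t c)] : ∃ i, sqBad D t i = ∅ := by
  by_contra! hne
  let F := sqDiagram D t
  let cF := sqCone D t c
  let hcF : IsLimit cF := isLimitSqCone hc
  have : ∀ {i j : I} (f : i ⟶ j), IsAffineHom (F.map f) := fun f => isAffineHom_sqDiagram_map D t f
  have : ∀ i, CompactSpace (F.obj i) := fun i => compactSpace_sqDiagram_obj D t i
  obtain ⟨z, hz⟩ := exists_mem_of_isClosed_of_nonempty F cF hcF (sqBad D t) (isClosed_sqBad D t)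
    hne (fun i => (isClosed_sqBad D t i).isCompact) (fun f => mapsTo_sqBad D t f)
  have hci : IsClosedImmersion (ptDiag D t c) :=
    inferInstanceAs (IsClosedImmersion (pullback.diagonal (coneStr D t c)))
  have hT : IsClosed (Set.range (ptDiag D t c)) := (ptDiag D t c).isClosedEmbedding.isClosed_range
  have i₀ : I := IsCofiltered.nonempty.some
  have hzT : z ∉ Set.range (ptDiag D t c) := by
    rintro ⟨x, rfl⟩
    refine (hz i₀).2 ⟨c.π.app i₀ x, ?_⟩
    exact (congrArg (fun φ : c.pt ⟶ F.obj i₀ => φ x) (ptDiag_π_app D t c i₀)).symm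
  let G : cF.pt.Opens := ⟨(Set.range (ptDiag D t c))ᶜ, hT.isOpen_compl⟩
  obtain ⟨_, ⟨i, V, hV, rfl⟩, hzV, hVG⟩ :=
    TopologicalSpace.Opens.isBasis_iff_nbhd.mp (isBasis_preimage_isAffineOpen F cF hcF)
      (show z ∈ G from hzT)
  -- the preimage of `V` in the limit `X` is empty
  have hbot : c.π.app i ⁻¹ᵁ (sqDiag D t i ⁻¹ᵁ V) = c.π.app i ⁻¹ᵁ ⊥ := by
    rw [Scheme.Hom.preimage_bot, eq_bot_iff]
    intro x hx
    have h1 : (c.π.app i ≫ sqDiag D t i) x ∈ V := hx
    have h2 : (ptDiag D t c ≫ cF.π.app i) x ∈ V := by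
      have := congrArg (fun φ : c.pt ⟶ F.obj i => φ x) (ptDiag_π_app D t c i)
      exact this ▸ h1
    exact hVG (show ptDiag D t c x ∈ cF.π.app i ⁻¹ᵁ V from h2) ⟨x, rfl⟩
  have hqc : QuasiCompact (sqDiag D t i) :=
    inferInstanceAs (QuasiCompact (pullback.diagonal (tS D t i)))
  have hcpt : IsCompact ((sqDiag D t i ⁻¹ᵁ V : (D.obj i).Opens) : Set (D.obj i)) :=
    QuasiCompact.isCompact_preimage (f := sqDiag D t i) _ V.2 hV.isCompact
  obtain ⟨j, f, hj⟩ := exists_map_preimage_eq_map_preimage D c hc hcpt
    (show IsCompact ((⊥ : (D.obj i).Opens) : Set (D.obj i)) by simp) hbot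
  rw [Scheme.Hom.preimage_bot] at hj
  -- but `π_j z` is in the closure of the diagonal and in the open preimage of `V`
  have h1 : cF.π.app j z ∈ closure (Set.range (sqDiag D t j)) := (hz j).1
  have h2 : cF.π.app j z ∈ (F.map f ⁻¹ᵁ V : (F.obj j).Opens) := by
    have := congrArg (fun φ : cF.pt ⟶ F.obj i => φ z) (cF.w f)
    change (cF.π.app j ≫ F.map f) z ∈ V
    exact this ▸ hzV
  obtain ⟨_, hw1, ⟨x, rfl⟩⟩ := mem_closure_iff.mp h1 _ (F.map f ⁻¹ᵁ V).2 h2
  have h3 : x ∈ D.map f ⁻¹ᵁ (sqDiag D t i ⁻¹ᵁ V) := by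
    have := congrArg (fun φ : D.obj j ⟶ F.obj i => φ x) (map_sqDiag D t f)
    change (D.map f ≫ sqDiag D t i) x ∈ V
    exact this ▸ hw1
  rw [hj] at h3
  exact h3


/-- If the limit of a cofiltered system of qcqs schemes with affine transition maps over a
quasi-separated base `S` is separated over `S`, then so are the stages from some index on. -/
theorem exists_isSeparated_app (hc : IsLimit c) [QuasiSeparatedSpace S]
    [∀ {i j : I} (f : i ⟶ j), IsAffineHom (D.map f)]
    [∀ i, CompactSpace (D.obj i)] [∀ i, QuasiSeparatedSpace (D.obj i)] (i₀ : I)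
    [IsSeparated (c.π.app i₀ ≫ t.app i₀)] :
    ∃ i₁ : I, ∀ (i : I) (_ : i ⟶ i₁), IsSeparated (t.app i) := by
  have : IsSeparated (coneStr D t c) := by
    rw [← π_app_comp D t c i₀]
    exact inferInstanceAs (IsSeparated (c.π.app i₀ ≫ t.app i₀))
  obtain ⟨i₁, hi₁⟩ := exists_sqBad_eq_empty D t c hc
  refine ⟨i₁, fun i f => isSeparated_of_sqBad_eq_empty D t i ?_⟩
  rw [Set.eq_empty_iff_forall_notMem]
  intro z hz
  have := mapsTo_sqBad D t f hz
  rw [hi₁] at this
  exact this

end Groth.Agent.Lib.Helper13
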