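import Groth.Agent.Lib.Helper13.Rebase

set_option autoImplicit false
set_option linter.unusedSectionVars false

universe u

namespace Groth.Agent.Lib.Helper13

open AlgebraicGeometry CategoryTheory CategoryTheory.Limits Groth.Agent.Lib.Helper5

section general

variable {I : Type u} [Category.{u} I] [IsCofiltered I] (D : I ⥤ Scheme.{u}) (c : Cone D)
  (hc : IsLimit c) [∀ {i j} (f : i ⟶ j), IsAffineHom (D.map f)]
  [∀ i, QuasiSeparatedSpace (D.obj i)]

include hc in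
/-- If the preimage in the limit of a quasi-compact open is affine, then so is its preimage in
some finite stage. -/
lemma exists_isAffineOpen_map_preimage {i : I} (T : (D.obj i).Opens)
    (hT : IsCompact (T : Set (D.obj i))) (h : IsAffineOpen (c.π.app i ⁻¹ᵁ T)) :
    ∃ (k : I) (f : k ⟶ i), IsAffineOpen (D.map f ⁻¹ᵁ T) := by
  obtain ⟨j, V, hV, hVT⟩ := exists_isAffineOpen_preimage_eq D c hc _ h
  let m := IsCofiltered.min i j
  let a : m ⟶ i := IsCofiltered.minToLeft i j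
  let b : m ⟶ j := IsCofiltered.minToRight i j
  obtain ⟨k, e, hk⟩ := exists_map_preimage_eq_map_preimage D c hc
    (U := D.map a ⁻¹ᵁ T) (V := D.map b ⁻¹ᵁ V) ((D.map a).isCompact_preimage hT)
    ((hV.preimage (D.map b)).isCompact) (by
      rw [← Scheme.Hom.comp_preimage, ← Scheme.Hom.comp_preimage, c.w, c.w, hVT])
  refine ⟨k, e ≫ a, ?_⟩
  rw [D.map_comp, Scheme.Hom.comp_preimage, hk]
  exact (hV.preimage (D.map b)).preimage (D.map e)

end general

namespace LimitDescent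

variable {I : Type u} [SmallCategory I] [IsCofiltered I] {D : I ⥤ Scheme.{u}} {c : Cone D}
  (hc : IsLimit c) [∀ {i j} (f : i ⟶ j), IsAffineHom (D.map f)]
  {i₀ : I} [CompactSpace (D.obj i₀)] [QuasiSeparatedSpace (D.obj i₀)]
  {X₀ Y₀ : Scheme.{u}} {f₀ : X₀ ⟶ Y₀} {g₀ : Y₀ ⟶ D.obj i₀}
  [QuasiCompact g₀] [QuasiSeparated g₀]
  [QuasiCompact (f₀ ≫ g₀)] [QuasiSeparated (f₀ ≫ g₀)]
  {X Y : Scheme.{u}} {f : X ⟶ Y} {g : Y ⟶ c.pt} {qY : Y ⟶ Y₀} {qX : X ⟶ X₀}

omit [IsCofiltered I] [CompactSpace (D.obj i₀)] [QuasiSeparatedSpace (D.obj i₀)]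
  [QuasiCompact g₀] [QuasiSeparated g₀] in
instance isAffineHom_pYj (j : Over i₀) : IsAffineHom (pYj D i₀ g₀ j) :=
  MorphismProperty.pullback_snd (P := @IsAffineHom) _ _ inferInstance

include hc in
set_option backward.isDefEq.respectTransparency false in
/-- Affine morphisms descend to a finite stage. -/
theorem exists_isAffineHom_stage (hY : IsPullback qY g g₀ (c.π.app i₀))
    (hX : IsPullback qX f f₀ qY) [IsAffineHom f] :
    ∃ j : Over i₀, IsAffineHom (fj D i₀ f₀ g₀ j) := by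
  classical
  have : QuasiCompact f₀ := QuasiCompact.of_comp f₀ g₀
  have : CompactSpace Y₀ := QuasiCompact.compactSpace_of_compactSpace g₀
  let DX := bcDiagram D i₀ (f₀ ≫ g₀)
  let cX := bcCone D c i₀ (f₀ ≫ g₀)
  let hcX : IsLimit cX := isLimitBcCone D c hc i₀ (f₀ ≫ g₀)
  have : ∀ j, CompactSpace (DX.obj j) := fun j => compactSpace_Xj D i₀ f₀ g₀ j
  have : ∀ j, QuasiSeparatedSpace (DX.obj j) := fun j => quasiSeparatedSpace_Xj D i₀ f₀ g₀ j
  have hcXπ : ∀ j, cX.π.app j = (isoX hY hX).inv ≫ πX hY hX j := fun j => by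
    rw [πX, Iso.inv_hom_id_assoc]
  have hqY : IsAffineHom qY := by
    have := isAffineHom_π_app D c hc i₀
    exact MorphismProperty.of_isPullback hY.flip inferInstance
  -- a finite affine cover of `Y₀`
  obtain ⟨s, hs⟩ := isCompact_univ.elim_finite_subcover
    (fun W : Y₀.affineOpens => ((W : Y₀.Opens) : Set Y₀)) (fun W => W.1.2) (by
      intro y _
      obtain ⟨_, ⟨W, hW, rfl⟩, hyW, -⟩ :=
        Y₀.isBasis_affineOpens.exists_subset_of_mem_open (Set.mem_univ y) isOpen_univ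
      exact Set.mem_iUnion.mpr ⟨⟨W, hW⟩, hyW⟩)
  -- each member descends
  let j₀ : Over i₀ := Over.mk (𝟙 i₀)
  have key : ∀ W : Y₀.affineOpens, ∃ (k : Over i₀),
      IsAffineOpen (pXj D i₀ f₀ g₀ k ⁻¹ᵁ (f₀ ⁻¹ᵁ W.1)) := by
    intro W
    have hT : IsCompact ((pXj D i₀ f₀ g₀ j₀ ⁻¹ᵁ (f₀ ⁻¹ᵁ W.1) : (DX.obj j₀).Opens) :
        Set (DX.obj j₀)) :=
      (pXj D i₀ f₀ g₀ j₀).isCompact_preimage (f₀.isCompact_preimage W.2.isCompact)
    have haff : IsAffineOpen (cX.π.app j₀ ⁻¹ᵁ (pXj D i₀ f₀ g₀ j₀ ⁻¹ᵁ (f₀ ⁻¹ᵁ W.1))) := by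
      rw [hcXπ, Scheme.Hom.comp_preimage, ← Scheme.Hom.comp_preimage (πX hY hX j₀), πX_pXj,
        ← Scheme.Hom.comp_preimage qX, hX.w, Scheme.Hom.comp_preimage]
      exact ((W.2.preimage qY).preimage f).preimage _
    obtain ⟨k, e, hk⟩ := exists_isAffineOpen_map_preimage DX cX hcX _ hT haff
    refine ⟨k, ?_⟩
    rwa [← Scheme.Hom.comp_preimage, bcDiagram_map_pYj] at hk
  choose k hk using key
  obtain ⟨l, hl⟩ := IsCofiltered.inf_objs_exists (s.image k)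
  refine ⟨l, isAffineHom_of_forall_exists_isAffineOpen _ fun y => ?_⟩
  obtain ⟨W, hW, hyW⟩ : ∃ W ∈ s, (pYj D i₀ g₀ l) y ∈ (W : Y₀.Opens) := by
    have := hs (Set.mem_univ ((pYj D i₀ g₀ l) y))
    simpa using this
  refine ⟨pYj D i₀ g₀ l ⁻¹ᵁ W.1, hyW, W.2.preimage _, ?_⟩
  obtain ⟨e⟩ := hl (Finset.mem_image_of_mem k hW)
  rw [← Scheme.Hom.comp_preimage, fj_pYj, Scheme.Hom.comp_preimage]
  have := (hk W).preimage (DX.map e)
  rwa [← Scheme.Hom.comp_preimage, bcDiagram_map_pYj] at this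

end LimitDescent

end Groth.Agent.Lib.Helper13
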