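import Groth.Agent.Lib.Helper13.Localize
import Groth.Agent.Lib.Helper13.AffineDescent
import Mathlib.AlgebraicGeometry.Morphisms.ClosedImmersion

set_option autoImplicit false
set_option linter.unusedSectionVars false

universe u

namespace Groth.Agent.Lib.Helper13.LimitDescent

open AlgebraicGeometry CategoryTheory CategoryTheory.Limits Groth.Agent.Lib.Helper5
  Groth.Agent.Lib.Helper13

lemma appTop_appTop {X Y Z : Scheme.{u}} (f : X ⟶ Y) (g : Y ⟶ Z) (x : Γ(Z, ⊤)) :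
    f.appTop (g.appTop x) = (f ≫ g).appTop x := by
  rw [Scheme.Hom.comp_appTop]; rfl

variable {I : Type u} [SmallCategory I] [IsCofiltered I] {D : I ⥤ Scheme.{u}} {c : Cone D}
  (hc : IsLimit c) [∀ {i j} (f : i ⟶ j), IsAffineHom (D.map f)]
  {i₀ : I} [CompactSpace (D.obj i₀)] [QuasiSeparatedSpace (D.obj i₀)]
  {X₀ Y₀ : Scheme.{u}} {f₀ : X₀ ⟶ Y₀} {g₀ : Y₀ ⟶ D.obj i₀}
  [QuasiCompact g₀] [QuasiSeparated g₀] [QuasiCompact (f₀ ≫ g₀)] [QuasiSeparated (f₀ ≫ g₀)]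
  [LocallyOfFiniteType f₀]
  {X Y : Scheme.{u}} {f : X ⟶ Y} {g : Y ⟶ c.pt} {qY : Y ⟶ Y₀} {qX : X ⟶ X₀}

include hc in
set_option backward.isDefEq.respectTransparency false in
/-- Closed immersions descend to a finite stage: the affine case. -/
theorem exists_isClosedImmersion_stage_of_isAffine (hY : IsPullback qY g g₀ (c.π.app i₀))
    (hX : IsPullback qX f f₀ qY) [IsClosedImmersion f] [IsAffine Y₀] [IsAffine X₀] :
    ∃ j : Over i₀, IsClosedImmersion (fj D i₀ f₀ g₀ j) := by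
  classical
  let DY := bcDiagram D i₀ g₀
  let cY := bcCone D c i₀ g₀
  let hcY : IsLimit cY := isLimitBcCone D c hc i₀ g₀
  let DX := bcDiagram D i₀ (f₀ ≫ g₀)
  let cX := bcCone D c i₀ (f₀ ≫ g₀)
  let hcX : IsLimit cX := isLimitBcCone D c hc i₀ (f₀ ≫ g₀)
  have : ∀ j, CompactSpace (DY.obj j) := fun j => compactSpace_Yj D i₀ g₀ j
  have : ∀ j, QuasiSeparatedSpace (DY.obj j) := fun j => quasiSeparatedSpace_Yj D i₀ g₀ j
  have : ∀ j, CompactSpace (DX.obj j) := fun j => compactSpace_Xj D i₀ f₀ g₀ j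
  have hcXπ : ∀ j, cX.π.app j = (isoX hY hX).inv ≫ πX hY hX j := fun j => by
    rw [πX, Iso.inv_hom_id_assoc]
  have hqY : IsAffineHom qY := by
    have := isAffineHom_π_app D c hc i₀
    exact MorphismProperty.of_isPullback hY.flip inferInstance
  have : IsAffine Y := isAffine_of_isAffineHom qY
  have hft : f₀.appTop.hom.FiniteType :=
    (HasRingHomProperty.iff_of_isAffine (P := @LocallyOfFiniteType)).mp inferInstance
  have key : ∀ b : Γ(X₀, ⊤), ∃ l : Over i₀, ∃ a : Γ(Yj D i₀ g₀ l, ⊤),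
      (fj D i₀ f₀ g₀ l).appTop a = (pXj D i₀ f₀ g₀ l).appTop b := by
    intro b
    obtain ⟨α, hα⟩ := (IsClosedImmersion.isAffine_surjective_of_isAffine f).2 (qX.appTop b)
    obtain ⟨k, a₀, ha₀⟩ := exists_appTop_π_eq_of_isLimit DY cY hcY ((isoY hY).inv.appTop α)
    let a : Γ(Yj D i₀ g₀ k, ⊤) := a₀
    have ha' : (πY hY k).appTop a = α := by
      have h1 : (isoY hY).hom.appTop ((isoY hY).inv.appTop α) = α := by
        rw [appTop_appTop, Iso.hom_inv_id]; rfl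
      rw [ha₀] at h1
      exact h1
    have F1 : cX.π.app k ≫ fj D i₀ f₀ g₀ k = (isoX hY hX).inv ≫ f ≫ πY hY k := by
      rw [hcXπ, Category.assoc, πX_fj]
    have F2 : cX.π.app k ≫ pXj D i₀ f₀ g₀ k = (isoX hY hX).inv ≫ qX := by
      rw [hcXπ, Category.assoc, πX_pXj]
    have hs : (cX.π.app k).app ⊤ ((fj D i₀ f₀ g₀ k).appTop a) =
        (cX.π.app k).app ⊤ ((pXj D i₀ f₀ g₀ k).appTop b) :=
      calc (cX.π.app k).app ⊤ ((fj D i₀ f₀ g₀ k).appTop a)
          = (cX.π.app k ≫ fj D i₀ f₀ g₀ k).appTop a := rfl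
        _ = ((isoX hY hX).inv ≫ f ≫ πY hY k).appTop a := congr((Scheme.Hom.appTop $F1).hom a)
        _ = (isoX hY hX).inv.appTop (f.appTop ((πY hY k).appTop a)) := rfl
        _ = (isoX hY hX).inv.appTop (qX.appTop b) := by rw [ha', hα]
        _ = ((isoX hY hX).inv ≫ qX).appTop b := rfl
        _ = (cX.π.app k ≫ pXj D i₀ f₀ g₀ k).appTop b := congr((Scheme.Hom.appTop $F2.symm).hom b)
        _ = _ := rfl
    obtain ⟨l, e, hl⟩ := exists_app_map_eq_map_of_isLimit DX cX hcX (i := k) (U := ⊤)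
      isCompact_univ ((fj D i₀ f₀ g₀ k).appTop a) ((pXj D i₀ f₀ g₀ k).appTop b) hs
    have E1 : DX.map e ≫ fj D i₀ f₀ g₀ k = fj D i₀ f₀ g₀ l ≫ DY.map e :=
      bcDiagram_map_fj D i₀ f₀ g₀ e
    have E2 : DX.map e ≫ pXj D i₀ f₀ g₀ k = pXj D i₀ f₀ g₀ l :=
      bcDiagram_map_pYj D i₀ (f₀ ≫ g₀) e
    refine ⟨l, (DY.map e).appTop a, ?_⟩
    calc (fj D i₀ f₀ g₀ l).appTop ((DY.map e).appTop a)
        = (fj D i₀ f₀ g₀ l ≫ DY.map e).appTop a := rfl
      _ = (DX.map e ≫ fj D i₀ f₀ g₀ k).appTop a := congr((Scheme.Hom.appTop $E1.symm).hom a)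
      _ = (DX.map e).app ⊤ ((fj D i₀ f₀ g₀ k).appTop a) := rfl
      _ = (DX.map e).app ⊤ ((pXj D i₀ f₀ g₀ k).appTop b) := hl
      _ = (DX.map e ≫ pXj D i₀ f₀ g₀ k).appTop b := rfl
      _ = (pXj D i₀ f₀ g₀ l).appTop b := congr((Scheme.Hom.appTop $E2).hom b)
  algebraize [f₀.appTop.hom]
  obtain ⟨t, ht⟩ := (Algebra.FiniteType.out : (⊤ : Subalgebra Γ(Y₀, ⊤) Γ(X₀, ⊤)).FG)
  choose l a ha using key
  obtain ⟨m, hm⟩ := IsCofiltered.inf_objs_exists (t.image l)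
  refine ⟨m, ?_⟩
  have : IsAffine (Yj D i₀ g₀ m) := isAffine_of_isAffineHom (pYj D i₀ g₀ m)
  have : IsAffine (Xj D i₀ f₀ g₀ m) := isAffine_of_isAffineHom (pYj D i₀ (f₀ ≫ g₀) m)
  apply IsClosedImmersion.of_surjective_of_isAffine
  have hpush := isPushout_appTop_of_isPullback (isPullback_Xj D i₀ f₀ g₀ m)
  have hcl := CommRingCat.closure_range_union_range_eq_top_of_isPushout hpush
  let R : Subring Γ(Xj D i₀ f₀ g₀ m, ⊤) := (fj D i₀ f₀ g₀ m).appTop.hom.range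
  have h1 : ∀ b ∈ t, (pXj D i₀ f₀ g₀ m).appTop b ∈ R := by
    intro b hb
    obtain ⟨e⟩ := hm (Finset.mem_image_of_mem l hb)
    have E1 : DX.map e ≫ fj D i₀ f₀ g₀ (l b) = fj D i₀ f₀ g₀ m ≫ DY.map e :=
      bcDiagram_map_fj D i₀ f₀ g₀ e
    have E2 : DX.map e ≫ pXj D i₀ f₀ g₀ (l b) = pXj D i₀ f₀ g₀ m :=
      bcDiagram_map_pYj D i₀ (f₀ ≫ g₀) e
    refine ⟨(DY.map e).appTop (a b), ?_⟩
    calc (fj D i₀ f₀ g₀ m).appTop ((DY.map e).appTop (a b))
        = (fj D i₀ f₀ g₀ m ≫ DY.map e).appTop (a b) := rfl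
      _ = (DX.map e ≫ fj D i₀ f₀ g₀ (l b)).appTop (a b) :=
          congr((Scheme.Hom.appTop $E1.symm).hom (a b))
      _ = (DX.map e).appTop ((fj D i₀ f₀ g₀ (l b)).appTop (a b)) := rfl
      _ = (DX.map e).appTop ((pXj D i₀ f₀ g₀ (l b)).appTop b) := by rw [ha b]
      _ = (DX.map e ≫ pXj D i₀ f₀ g₀ (l b)).appTop b := rfl
      _ = (pXj D i₀ f₀ g₀ m).appTop b := congr((Scheme.Hom.appTop $E2).hom b)
  have h2 : ∀ b, (pXj D i₀ f₀ g₀ m).appTop b ∈ R := by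
    let S' : Subalgebra Γ(Y₀, ⊤) Γ(X₀, ⊤) :=
      { R.comap (pXj D i₀ f₀ g₀ m).appTop.hom with
        algebraMap_mem' := fun r => by
          refine ⟨(pYj D i₀ g₀ m).appTop r, ?_⟩
          change (fj D i₀ f₀ g₀ m).appTop ((pYj D i₀ g₀ m).appTop r) =
            (pXj D i₀ f₀ g₀ m).appTop (f₀.appTop r)
          rw [appTop_appTop, appTop_appTop, fj_pYj] }
    have hle : Algebra.adjoin Γ(Y₀, ⊤) (t : Set Γ(X₀, ⊤)) ≤ S' := Algebra.adjoin_le h1
    rw [ht] at hle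
    exact fun b => hle trivial
  have hle : Subring.closure (Set.range (pXj D i₀ f₀ g₀ m).appTop ∪
      Set.range (fj D i₀ f₀ g₀ m).appTop) ≤ R := by
    rw [Subring.closure_le]
    rintro _ (⟨b, rfl⟩ | ⟨a, rfl⟩)
    · exact h2 b
    · exact ⟨a, rfl⟩
  rw [hcl] at hle
  intro x
  obtain ⟨y, hy⟩ := hle (Subring.mem_top x)
  exact ⟨y, hy⟩

include hc in
set_option backward.isDefEq.respectTransparency false in
/-- Closed immersions descend to a finite stage: the case where `f₀` is affine. -/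
theorem exists_isClosedImmersion_stage_of_isAffineHom (hY : IsPullback qY g g₀ (c.π.app i₀))
    (hX : IsPullback qX f f₀ qY) [IsClosedImmersion f] [IsAffineHom f₀] :
    ∃ j : Over i₀, IsClosedImmersion (fj D i₀ f₀ g₀ j) := by
  have : CompactSpace Y₀ := QuasiCompact.compactSpace_of_compactSpace g₀
  have : QuasiCompact f₀ := QuasiCompact.of_comp f₀ g₀
  have : QuasiSeparated f₀ := QuasiSeparated.of_comp f₀ g₀
  let 𝒰 := Y₀.affineCover.finiteSubcover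
  refine exists_stage_of_cover D i₀ f₀ g₀ @IsClosedImmersion 𝒰.X 𝒰.f 𝒰.exists_eq fun a => ?_
  have : IsAffine (𝒰.X a) := inferInstanceAs (IsAffine (Y₀.affineCover.X _))
  exact exists_isClosedImmersion_stage_of_isAffine hc (isPullback_Y_baseChange (𝒰.f a) hY)
    (isPullback_X_baseChange (𝒰.f a) hX)

include hc in
set_option backward.isDefEq.respectTransparency false in
/-- Closed immersions descend to a finite stage. -/
theorem exists_isClosedImmersion_descend (hY : IsPullback qY g g₀ (c.π.app i₀))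
    (hX : IsPullback qX f f₀ qY) [IsClosedImmersion f] :
    ∃ (i : I) (φ : i ⟶ i₀) (Xi Yi : Scheme.{u}) (fi : Xi ⟶ Yi) (gi : Yi ⟶ D.obj i)
      (pY : Yi ⟶ Y₀) (pX : Xi ⟶ X₀),
      IsPullback pY gi g₀ (D.map φ) ∧ IsPullback pX fi f₀ pY ∧ IsClosedImmersion fi := by
  obtain ⟨k, hk⟩ := exists_isAffineHom_stage hc hY hX
  apply conclusion_rebase D i₀ f₀ g₀ (fun f => IsClosedImmersion f) k
  have : LocallyOfFiniteType (fj D i₀ f₀ g₀ k) :=
    MorphismProperty.of_isPullback (isPullback_Xj D i₀ f₀ g₀ k) inferInstance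
  have := quasiCompact_fj_gj D i₀ f₀ g₀ k
  have := quasiSeparated_fj_gj D i₀ f₀ g₀ k
  obtain ⟨j, hj⟩ := exists_isClosedImmersion_stage_of_isAffineHom hc (isPullback_πY hY k)
    (isPullback_πX hY hX k)
  exact conclusion D k.left (fj D i₀ f₀ g₀ k) (gj D i₀ g₀ k) (fun f => IsClosedImmersion f) j hj

end Groth.Agent.Lib.Helper13.LimitDescent
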