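import Mathlib.CategoryTheory.Limits.Shapes.Pullback.IsPullback.Basic
import Mathlib.CategoryTheory.Limits.Shapes.Diagonal

set_option autoImplicit false

universe v u

namespace Groth.Agent.Lib.Helper13

open CategoryTheory CategoryTheory.Limits

variable {C : Type u} [Category.{v} C] [HasPullbacks C]

/-- The map between the self-fibre-products induced by a commutative square. -/
noncomputable abbrev diagMap {X Y X₀ Y₀ : C} {qX : X ⟶ X₀} {f : X ⟶ Y} {f₀ : X₀ ⟶ Y₀} {qY : Y ⟶ Y₀}
    (hX : IsPullback qX f f₀ qY) : pullback f f ⟶ pullback f₀ f₀ :=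
  pullback.map f f f₀ f₀ qX qX qY hX.w.symm hX.w.symm

/-- For a pullback square, the square formed by second projections of the self fibre products is
a pullback. -/
lemma isPullback_diagMap_snd {X Y X₀ Y₀ : C} {qX : X ⟶ X₀} {f : X ⟶ Y} {f₀ : X₀ ⟶ Y₀}
    {qY : Y ⟶ Y₀} (hX : IsPullback qX f f₀ qY) :
    IsPullback (diagMap hX) (pullback.snd f f) (pullback.snd f₀ f₀) qX := by
  have h1 : IsPullback (pullback.fst f f ≫ qX) (pullback.snd f f) f₀ (f ≫ qY) :=
    (IsPullback.of_hasPullback f f).paste_horiz hX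
  have h2 : diagMap hX ≫ pullback.fst f₀ f₀ = pullback.fst f f ≫ qX := pullback.lift_fst ..
  have h3 : diagMap hX ≫ pullback.snd f₀ f₀ = pullback.snd f f ≫ qX := pullback.lift_snd ..
  refine IsPullback.of_right ?_ h3 (IsPullback.of_hasPullback f₀ f₀)
  rw [h2, hX.w]
  exact h1

/-- The diagonal of a base change is the base change of the diagonal. -/
lemma isPullback_diagonal {X Y X₀ Y₀ : C} {qX : X ⟶ X₀} {f : X ⟶ Y} {f₀ : X₀ ⟶ Y₀}
    {qY : Y ⟶ Y₀} (hX : IsPullback qX f f₀ qY) :
    IsPullback qX (pullback.diagonal f) (pullback.diagonal f₀) (diagMap hX) := by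
  refine IsPullback.of_bot ?_ ?_ (isPullback_diagMap_snd hX)
  · rw [pullback.diagonal_snd, pullback.diagonal_snd]
    exact IsPullback.of_vert_isIso ⟨by simp⟩
  · apply pullback.hom_ext
    · rw [Category.assoc, Category.assoc, pullback.diagonal_fst, Category.comp_id]
      erw [pullback.lift_fst]
      rw [pullback.diagonal_fst_assoc]
    · rw [Category.assoc, Category.assoc, pullback.diagonal_snd, Category.comp_id]
      erw [pullback.lift_snd]
      rw [pullback.diagonal_snd_assoc]

end Groth.Agent.Lib.Helper13
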