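import Groth.Agent.Lib.Helper13.IsoDescent
import Groth.Agent.Lib.Helper13.DiagonalBaseChange

set_option autoImplicit false

universe u

namespace Groth.Agent.Lib.Helper13.LimitDescent

open AlgebraicGeometry CategoryTheory CategoryTheory.Limits Groth.Agent.Lib.Helper5
  Groth.Agent.Lib.Helper13

variable {I : Type u} [SmallCategory I] (D : I ⥤ Scheme.{u}) (c : Cone D)
  (i₀ : I) {X₀ Y₀ : Scheme.{u}} (f₀ : X₀ ⟶ Y₀) (g₀ : Y₀ ⟶ D.obj i₀)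

/-- The structure morphism of `X₀ ×_{Y₀} X₀`. -/
noncomputable abbrev wDiag : pullback f₀ f₀ ⟶ D.obj i₀ := pullback.snd f₀ f₀ ≫ f₀ ≫ g₀

lemma diagonal_wDiag : pullback.diagonal f₀ ≫ wDiag D i₀ f₀ g₀ = f₀ ≫ g₀ := by
  simp [wDiag]

/-- The comparison map from the self fibre product of `X_j` over `Y_j` to the stage `j` of
`X₀ ×_{Y₀} X₀`. -/
noncomputable def τ (j : Over i₀) :
    pullback (fj D i₀ f₀ g₀ j) (fj D i₀ f₀ g₀ j) ⟶ Yj D i₀ (wDiag D i₀ f₀ g₀) j :=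
  pullback.lift (pullback.snd _ _ ≫ fj D i₀ f₀ g₀ j ≫ gj D i₀ g₀ j)
    (diagMap (isPullback_Xj D i₀ f₀ g₀ j)) (by
      rw [pullback.lift_snd_assoc, Category.assoc, Category.assoc, Category.assoc]
      have h0 : gj D i₀ g₀ j ≫ D.map j.hom = pYj D i₀ g₀ j ≫ g₀ := pullback.condition
      rw [h0, fj_pYj_assoc])

lemma τ_pYj (j : Over i₀) :
    τ D i₀ f₀ g₀ j ≫ pYj D i₀ (wDiag D i₀ f₀ g₀) j = diagMap (isPullback_Xj D i₀ f₀ g₀ j) :=
  pullback.lift_snd ..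

/-- The diagonal of the stage `f_j` is a base change of the stage `j` of the diagonal of `f₀`. -/
lemma exists_isPullback_diagonal_stage (j : Over i₀) :
    ∃ l : Xj D i₀ f₀ g₀ j ⟶ Xj D i₀ (pullback.diagonal f₀) (wDiag D i₀ f₀ g₀) j,
      IsPullback l (pullback.diagonal (fj D i₀ f₀ g₀ j))
        (fj D i₀ (pullback.diagonal f₀) (wDiag D i₀ f₀ g₀) j) (τ D i₀ f₀ g₀ j) := by
  have hbig := isPullback_diagonal (isPullback_Xj D i₀ f₀ g₀ j)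
  have hr := isPullback_Xj D i₀ (pullback.diagonal f₀) (wDiag D i₀ f₀ g₀) j
  have hw : pXj D i₀ f₀ g₀ j ≫ pullback.diagonal f₀ =
      (pullback.diagonal (fj D i₀ f₀ g₀ j) ≫ τ D i₀ f₀ g₀ j) ≫
        pYj D i₀ (wDiag D i₀ f₀ g₀) j := by
    rw [Category.assoc, τ_pYj]
    exact hbig.w
  refine ⟨hr.lift (pXj D i₀ f₀ g₀ j) (pullback.diagonal (fj D i₀ f₀ g₀ j) ≫ τ D i₀ f₀ g₀ j) hw,
    ?_⟩
  refine IsPullback.of_right ?_ (hr.lift_snd _ _ hw) hr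
  rw [hr.lift_fst, τ_pYj]
  exact hbig

end Groth.Agent.Lib.Helper13.LimitDescent
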