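import Groth.Agent.Lib.Helper13.IsoDescent

set_option autoImplicit false
set_option linter.unusedSectionVars false

universe u

namespace Groth.Agent.Lib.Helper13.LimitDescent

open AlgebraicGeometry CategoryTheory CategoryTheory.Limits Groth.Agent.Lib.Helper5

variable {I : Type u} [SmallCategory I] (D : I ⥤ Scheme.{u}) (c : Cone D)
  (i₀ : I) {X₀ Y₀ : Scheme.{u}} (f₀ : X₀ ⟶ Y₀) (g₀ : Y₀ ⟶ D.obj i₀)

/-- The structure morphisms of the base-changed diagram to `Y₀`. -/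
noncomputable def tY₀ : bcDiagram D i₀ g₀ ⟶ (Functor.const (Over i₀)).obj Y₀ where
  app j := pYj D i₀ g₀ j
  naturality j k ψ := by
    rw [bcDiagram_map_pYj]
    simp

@[simp]
lemma tY₀_app (j : Over i₀) : (tY₀ D i₀ g₀).app j = pYj D i₀ g₀ j := rfl

/-- The structure morphisms of the base-changed diagram of `X₀` to `Y₀`. -/
noncomputable def tX₀ : bcDiagram D i₀ (f₀ ≫ g₀) ⟶ (Functor.const (Over i₀)).obj Y₀ where
  app j := pXj D i₀ f₀ g₀ j ≫ f₀
  naturality j k ψ := by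
    have h1 : (bcDiagram D i₀ (f₀ ≫ g₀)).map ψ ≫ pXj D i₀ f₀ g₀ k = pXj D i₀ f₀ g₀ j :=
      bcDiagram_map_pYj D i₀ (f₀ ≫ g₀) ψ
    rw [reassoc_of% h1]
    simp

@[simp]
lemma tX₀_app (j : Over i₀) : (tX₀ D i₀ f₀ g₀).app j = pXj D i₀ f₀ g₀ j ≫ f₀ := rfl

variable {D c i₀ f₀ g₀}
variable [IsCofiltered I] (hc : IsLimit c) [∀ {i j} (f : i ⟶ j), IsAffineHom (D.map f)]
  [CompactSpace (D.obj i₀)] [QuasiSeparatedSpace (D.obj i₀)]
  [QuasiCompact g₀] [QuasiSeparated g₀] [QuasiCompact (f₀ ≫ g₀)]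
  {X Y : Scheme.{u}} {f : X ⟶ Y} {g : Y ⟶ c.pt} {qY : Y ⟶ Y₀} {qX : X ⟶ X₀}

include hc in
set_option backward.isDefEq.respectTransparency false in
/-- Isomorphisms descend to a finite stage (only `f₀` locally of finite presentation is
needed). -/
theorem exists_isIso_stage_of_lfp (hY : IsPullback qY g g₀ (c.π.app i₀))
    (hX : IsPullback qX f f₀ qY) [IsIso f] [LocallyOfFinitePresentation f₀] :
    ∃ j : Over i₀, IsIso (fj D i₀ f₀ g₀ j) := by
  let DY := bcDiagram D i₀ g₀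
  let cY := bcCone D c i₀ g₀
  let hcY : IsLimit cY := isLimitBcCone D c hc i₀ g₀
  let DX := bcDiagram D i₀ (f₀ ≫ g₀)
  let cX := bcCone D c i₀ (f₀ ≫ g₀)
  let hcX : IsLimit cX := isLimitBcCone D c hc i₀ (f₀ ≫ g₀)
  have : ∀ j, CompactSpace (DY.obj j) := fun j => compactSpace_Yj D i₀ g₀ j
  have : ∀ j, QuasiSeparatedSpace (DY.obj j) := fun j => quasiSeparatedSpace_Yj D i₀ g₀ j
  have : ∀ j, CompactSpace (DX.obj j) := fun j => compactSpace_Xj D i₀ f₀ g₀ j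
  have hcYπ : ∀ j, cY.π.app j = (isoY hY).inv ≫ πY hY j := fun j => by
    rw [πY, Iso.inv_hom_id_assoc]
  have hcXπ : ∀ j, cX.π.app j = (isoX hY hX).inv ≫ πX hY hX j := fun j => by
    rw [πX, Iso.inv_hom_id_assoc]
  let a : cY.pt ⟶ X₀ := (isoY hY).inv ≫ inv f ≫ qX
  have ha : cY.π ≫ tY₀ D i₀ g₀ = (Functor.const _).map (a ≫ f₀) := by
    ext j
    rw [NatTrans.comp_app, tY₀_app, hcYπ, Category.assoc, πY_pYj]
    simp only [Functor.const_obj_obj, Functor.const_map_app, a, Category.assoc]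
    rw [hX.w, IsIso.inv_hom_id_assoc]
  obtain ⟨j, aj, haj, haj'⟩ := Scheme.exists_π_app_comp_eq_of_locallyOfFinitePresentation
    DY (tY₀ D i₀ g₀) f₀ cY hcY a ha
  rw [tY₀_app] at haj'
  have haj2 : πY hY j ≫ aj = inv f ≫ qX := by
    have := haj
    rw [hcYπ, Category.assoc, Iso.inv_comp_eq] at this
    rw [this, Iso.hom_inv_id_assoc]
  obtain ⟨l, χ, hl⟩ := Scheme.exists_hom_comp_eq_comp_of_locallyOfFiniteType DX
    (tX₀ D i₀ f₀ g₀) f₀ cX hcX (i := j) (fj D i₀ f₀ g₀ j ≫ aj)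
    (pXj D i₀ f₀ g₀ j) (by
      rw [tX₀_app, Category.assoc, haj', fj_pYj])
    (by rw [tX₀_app]) (by
      simp only [hcXπ, Category.assoc]
      rw [πX_fj_assoc, haj2, IsIso.hom_inv_id_assoc, πX_pXj])
  refine ⟨l, ?_⟩
  have hal : (DY.map χ ≫ aj) ≫ f₀ = pYj D i₀ g₀ l := by
    rw [Category.assoc, haj', bcDiagram_map_pYj]
  let h' : Yj D i₀ g₀ l ⟶ Xj D i₀ f₀ g₀ l :=
    (isPullback_Xj D i₀ f₀ g₀ l).lift (DY.map χ ≫ aj) (𝟙 _) (by
      rw [hal, Category.id_comp])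
  refine ⟨h', ?_, ?_⟩
  · apply (isPullback_Xj D i₀ f₀ g₀ l).hom_ext
    · rw [Category.assoc, IsPullback.lift_fst, Category.id_comp, ← bcDiagram_map_fj_assoc, hl,
        bcDiagram_map_pYj]
    · rw [Category.assoc, IsPullback.lift_snd, Category.comp_id, Category.id_comp]
  · exact IsPullback.lift_snd ..

end Groth.Agent.Lib.Helper13.LimitDescent
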