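import Groth.Agent.Lib.Helper13.Rebase
import Groth.Agent.Lib.Helper13.IsoDescentQ

set_option autoImplicit false
set_option linter.unusedSectionVars false

universe u

namespace Groth.Agent.Lib.Helper13.LimitDescent

open AlgebraicGeometry CategoryTheory CategoryTheory.Limits Groth.Agent.Lib.Helper5
  Groth.Agent.Lib.Helper13

variable {I : Type u} [SmallCategory I] [IsCofiltered I] {D : I ⥤ Scheme.{u}} {c : Cone D}
  (hc : IsLimit c) [∀ {i j} (f : i ⟶ j), IsAffineHom (D.map f)]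
  {i₀ : I} [CompactSpace (D.obj i₀)] [QuasiSeparatedSpace (D.obj i₀)]
  {X₀ Y₀ : Scheme.{u}} {f₀ : X₀ ⟶ Y₀} {g₀ : Y₀ ⟶ D.obj i₀}
  [QuasiCompact g₀] [QuasiSeparated g₀] [QuasiCompact (f₀ ≫ g₀)] [QuasiSeparated (f₀ ≫ g₀)]
  {X Y : Scheme.{u}} {f : X ⟶ Y} {g : Y ⟶ c.pt} {qY : Y ⟶ Y₀} {qX : X ⟶ X₀}

include hc in
set_option backward.isDefEq.respectTransparency false in
/-- Core of the descent of open immersions: the case where the open image comes from the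
base stage. -/
theorem exists_isOpenImmersion_of_opens (hY : IsPullback qY g g₀ (c.π.app i₀))
    (hX : IsPullback qX f f₀ qY) [IsOpenImmersion f] [LocallyOfFinitePresentation f₀]
    (V : Y₀.Opens)
    (hV : IsCompact (V : Set Y₀)) (hV1 : f₀ ⁻¹ᵁ V = ⊤) (hV2 : qY ⁻¹ᵁ V = f.opensRange) :
    ∃ (i : I) (φ : i ⟶ i₀) (Xi Yi : Scheme.{u}) (fi : Xi ⟶ Yi) (gi : Yi ⟶ D.obj i)
      (pY : Yi ⟶ Y₀) (pX : Xi ⟶ X₀),
      IsPullback pY gi g₀ (D.map φ) ∧ IsPullback pX fi f₀ pY ∧ IsOpenImmersion fi := by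
  have hr : Set.range f₀ ⊆ Set.range V.ι := by
    rintro _ ⟨x, rfl⟩
    have : x ∈ f₀ ⁻¹ᵁ V := hV1 ▸ trivial
    simpa using this
  let f₀' : X₀ ⟶ ↑V := IsOpenImmersion.lift V.ι f₀ hr
  have hf₀' : f₀' ≫ V.ι = f₀ := IsOpenImmersion.lift_fac _ _ hr
  have : CompactSpace ↑V := isCompact_iff_compactSpace.mp hV
  have hcomp : f₀' ≫ V.ι ≫ g₀ = f₀ ≫ g₀ := by rw [reassoc_of% hf₀']
  have : LocallyOfFinitePresentation f₀' := by
    have : LocallyOfFinitePresentation (f₀' ≫ V.ι) := by rw [hf₀']; infer_instance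
    exact locallyOfFinitePresentation_of_comp f₀' V.ι
  have : QuasiCompact (f₀' ≫ V.ι ≫ g₀) := by rw [hcomp]; infer_instance
  have H : f ≫ qY = (qX ≫ f₀') ≫ V.ι := by rw [Category.assoc, hf₀', hX.w]
  have hYV : IsPullback (qX ≫ f₀') f V.ι qY :=
    IsOpenImmersion.isPullback (qX ≫ f₀') f V.ι qY H (by rw [Scheme.Opens.opensRange_ι, hV2])
  have hY' : IsPullback (qX ≫ f₀') (f ≫ g) (V.ι ≫ g₀) (c.π.app i₀) := hYV.paste_vert hY
  have hX' : IsPullback qX (𝟙 X) f₀' (qX ≫ f₀') := by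
    refine IsPullback.of_bot ?_ (by simp) hYV
    rw [Category.id_comp, hf₀']
    exact hX
  obtain ⟨j, hj⟩ := exists_isIso_stage_of_lfp hc hY' hX'
  refine ⟨j.left, j.hom, Xj D i₀ f₀' (V.ι ≫ g₀) j, Yj D i₀ g₀ j,
    fj D i₀ f₀' (V.ι ≫ g₀) j ≫ fj D i₀ V.ι g₀ j, gj D i₀ g₀ j, pYj D i₀ g₀ j,
    pXj D i₀ f₀' (V.ι ≫ g₀) j, isPullback_Yj D i₀ g₀ j, ?_, ?_⟩
  · have := (isPullback_Xj D i₀ f₀' (V.ι ≫ g₀) j).paste_vert (isPullback_Xj D i₀ V.ι g₀ j)
    rwa [hf₀'] at this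
  · have : IsOpenImmersion (fj D i₀ V.ι g₀ j) :=
      MorphismProperty.of_isPullback (isPullback_Xj D i₀ V.ι g₀ j) inferInstance
    infer_instance

include hc in
set_option backward.isDefEq.respectTransparency false in
/-- A quasi-compact open of `Y` containing the image of `X` comes from a finite stage. -/
theorem exists_opens_stage (hY : IsPullback qY g g₀ (c.π.app i₀))
    (hX : IsPullback qX f f₀ qY) (U : Y.Opens) (hU : IsCompact (U : Set Y))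
    (hfU : f ⁻¹ᵁ U = ⊤) :
    ∃ (k : Over i₀) (V : (Yj D i₀ g₀ k).Opens), IsCompact (V : Set (Yj D i₀ g₀ k)) ∧
      fj D i₀ f₀ g₀ k ⁻¹ᵁ V = ⊤ ∧ πY hY k ⁻¹ᵁ V = U := by
  let DY := bcDiagram D i₀ g₀
  let cY := bcCone D c i₀ g₀
  let hcY : IsLimit cY := isLimitBcCone D c hc i₀ g₀
  let DX := bcDiagram D i₀ (f₀ ≫ g₀)
  let cX := bcCone D c i₀ (f₀ ≫ g₀)
  let hcX : IsLimit cX := isLimitBcCone D c hc i₀ (f₀ ≫ g₀)
  have : ∀ j, CompactSpace (DY.obj j) := fun j => compactSpace_Yj D i₀ g₀ j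
  have : ∀ j, CompactSpace (DX.obj j) := fun j => compactSpace_Xj D i₀ f₀ g₀ j
  have hcXπ : ∀ j, cX.π.app j = (isoX hY hX).inv ≫ πX hY hX j := fun j => by
    rw [πX, Iso.inv_hom_id_assoc]
  let U' : cY.pt.Opens := (isoY hY).inv ⁻¹ᵁ U
  have hU' : IsCompact (U' : Set cY.pt) :=
    (isoY hY).inv.homeomorph.isCompact_preimage.mpr hU
  obtain ⟨j, V, hV, hVU⟩ := exists_preimage_eq DY cY hcY U' hU'
  have hVU2 : πY hY j ⁻¹ᵁ V = U := by
    rw [πY, Scheme.Hom.comp_preimage, hVU, ← Scheme.Hom.comp_preimage, Iso.hom_inv_id,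
      Scheme.Hom.id_preimage]
  have hW : cX.π.app j ⁻¹ᵁ (fj D i₀ f₀ g₀ j ⁻¹ᵁ V) = ⊤ := by
    rw [hcXπ, Scheme.Hom.comp_preimage, ← Scheme.Hom.comp_preimage (πX hY hX j), πX_fj,
      Scheme.Hom.comp_preimage, hVU2, hfU]
    rfl
  obtain ⟨k, ψ, hk⟩ := exists_map_eq_top DX cX hcX _ hW
  refine ⟨k, DY.map ψ ⁻¹ᵁ V, ?_, ?_, ?_⟩
  · exact (DY.map ψ).isCompact_preimage hV
  · rw [← Scheme.Hom.comp_preimage, ← bcDiagram_map_fj, Scheme.Hom.comp_preimage]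
    exact hk
  · rw [← Scheme.Hom.comp_preimage, πY_map, hVU2]

include hc in
set_option backward.isDefEq.respectTransparency false in
/-- Open immersions descend to a finite stage. -/
theorem exists_isOpenImmersion_descend (hY : IsPullback qY g g₀ (c.π.app i₀))
    (hX : IsPullback qX f f₀ qY) [IsOpenImmersion f] [LocallyOfFinitePresentation f₀] :
    ∃ (i : I) (φ : i ⟶ i₀) (Xi Yi : Scheme.{u}) (fi : Xi ⟶ Yi) (gi : Yi ⟶ D.obj i)
      (pY : Yi ⟶ Y₀) (pX : Xi ⟶ X₀),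
      IsPullback pY gi g₀ (D.map φ) ∧ IsPullback pX fi f₀ pY ∧ IsOpenImmersion fi := by
  have : CompactSpace X := by
    have : ∀ j, CompactSpace ((bcDiagram D i₀ (f₀ ≫ g₀)).obj j) :=
      fun j => compactSpace_Xj D i₀ f₀ g₀ j
    have := Scheme.compactSpace_of_isLimit _ _ (isLimitBcCone D c hc i₀ (f₀ ≫ g₀))
    exact (isoX hY hX).hom.homeomorph.symm.compactSpace
  obtain ⟨k, V, hV, hV1, hV2⟩ := exists_opens_stage hc hY hX f.opensRange (by
    rw [Scheme.Hom.coe_opensRange]; exact isCompact_range f.continuous) (by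
    rw [← top_le_iff]; rintro x -; exact ⟨x, rfl⟩)
  apply conclusion_rebase D i₀ f₀ g₀ (fun f => IsOpenImmersion f) k
  have : LocallyOfFinitePresentation (fj D i₀ f₀ g₀ k) :=
    MorphismProperty.of_isPullback (isPullback_Xj D i₀ f₀ g₀ k) inferInstance
  have := quasiCompact_fj_gj D i₀ f₀ g₀ k
  have := quasiSeparated_fj_gj D i₀ f₀ g₀ k
  exact exists_isOpenImmersion_of_opens hc (isPullback_πY hY k) (isPullback_πX hY hX k) V hV hV1 hV2

end Groth.Agent.Lib.Helper13.LimitDescent
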