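import Groth.Agent.Lib.Helper13.Stage
import Groth.Agent.Lib.Helper13.DiagonalStage
import Groth.Agent.Lib.Helper13.DiagonalLfp
import Groth.Agent.Lib.Helper13.ClosedImmersionDescent
import Groth.Agent.Lib.Helper13.OpenImmersionDescent
import Mathlib.AlgebraicGeometry.Morphisms.Separated

set_option autoImplicit false
set_option linter.unusedSectionVars false

universe u

namespace Groth.Agent.Lib.Helper13.LimitDescent

open AlgebraicGeometry CategoryTheory CategoryTheory.Limits Groth.Agent.Lib.Helper5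
  Groth.Agent.Lib.Helper13

variable {I : Type u} [SmallCategory I] [IsCofiltered I] {D : I ⥤ Scheme.{u}} {c : Cone D}
  (hc : IsLimit c) [∀ {i j} (f : i ⟶ j), IsAffineHom (D.map f)]
  {i₀ : I} [CompactSpace (D.obj i₀)] [QuasiSeparatedSpace (D.obj i₀)]
  {X₀ Y₀ : Scheme.{u}} {f₀ : X₀ ⟶ Y₀} {g₀ : Y₀ ⟶ D.obj i₀}
  [QuasiCompact g₀] [QuasiSeparated g₀] [QuasiCompact (f₀ ≫ g₀)] [QuasiSeparated (f₀ ≫ g₀)]
  {X Y : Scheme.{u}} {f : X ⟶ Y} {g : Y ⟶ c.pt} {qY : Y ⟶ Y₀} {qX : X ⟶ X₀}

include hc in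
set_option backward.isDefEq.respectTransparency false in
/-- Separated morphisms descend to a finite stage. -/
theorem exists_isSeparated_stage (hY : IsPullback qY g g₀ (c.π.app i₀))
    (hX : IsPullback qX f f₀ qY) [IsSeparated f] :
    ∃ j : Over i₀, IsSeparated (fj D i₀ f₀ g₀ j) := by
  have : QuasiCompact f₀ := QuasiCompact.of_comp f₀ g₀
  have : QuasiSeparated f₀ := QuasiSeparated.of_comp f₀ g₀
  have hΔw := diagonal_wDiag D i₀ f₀ g₀
  have : QuasiCompact (wDiag D i₀ f₀ g₀) := by dsimp only [wDiag]; infer_instance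
  have : QuasiSeparated (wDiag D i₀ f₀ g₀) := by dsimp only [wDiag]; infer_instance
  have : QuasiCompact (pullback.diagonal f₀ ≫ wDiag D i₀ f₀ g₀) := by rw [hΔw]; infer_instance
  have : QuasiSeparated (pullback.diagonal f₀ ≫ wDiag D i₀ f₀ g₀) := by
    rw [hΔw]; infer_instance
  have hY' : IsPullback (diagMap hX) (pullback.snd f f ≫ f ≫ g) (wDiag D i₀ f₀ g₀)
      (c.π.app i₀) :=
    (isPullback_diagMap_snd hX).paste_vert (hX.paste_vert hY)
  have hX' : IsPullback qX (pullback.diagonal f) (pullback.diagonal f₀) (diagMap hX) :=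
    isPullback_diagonal hX
  obtain ⟨j, hj⟩ := stage_of_conclusion D i₀ (pullback.diagonal f₀) (wDiag D i₀ f₀ g₀)
    @IsClosedImmersion (exists_isClosedImmersion_descend hc hY' hX')
  refine ⟨j, ⟨?_⟩⟩
  obtain ⟨l, hl⟩ := exists_isPullback_diagonal_stage D i₀ f₀ g₀ j
  exact MorphismProperty.of_isPullback (P := @IsClosedImmersion) hl hj

include hc in
set_option backward.isDefEq.respectTransparency false in
/-- Unramified morphisms descend to a finite stage. -/
theorem exists_formallyUnramified_stage (hY : IsPullback qY g g₀ (c.π.app i₀))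
    (hX : IsPullback qX f f₀ qY) [LocallyOfFiniteType f₀] [FormallyUnramified f] :
    ∃ j : Over i₀, FormallyUnramified (fj D i₀ f₀ g₀ j) := by
  have : QuasiCompact f₀ := QuasiCompact.of_comp f₀ g₀
  have : QuasiSeparated f₀ := QuasiSeparated.of_comp f₀ g₀
  have : LocallyOfFiniteType f := MorphismProperty.of_isPullback hX inferInstance
  have hΔw := diagonal_wDiag D i₀ f₀ g₀
  have : QuasiCompact (wDiag D i₀ f₀ g₀) := by dsimp only [wDiag]; infer_instance
  have : QuasiSeparated (wDiag D i₀ f₀ g₀) := by dsimp only [wDiag]; infer_instance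
  have : QuasiCompact (pullback.diagonal f₀ ≫ wDiag D i₀ f₀ g₀) := by rw [hΔw]; infer_instance
  have : QuasiSeparated (pullback.diagonal f₀ ≫ wDiag D i₀ f₀ g₀) := by
    rw [hΔw]; infer_instance
  have := locallyOfFinitePresentation_diagonal f₀
  have hY' : IsPullback (diagMap hX) (pullback.snd f f ≫ f ≫ g) (wDiag D i₀ f₀ g₀)
      (c.π.app i₀) :=
    (isPullback_diagMap_snd hX).paste_vert (hX.paste_vert hY)
  have hX' : IsPullback qX (pullback.diagonal f) (pullback.diagonal f₀) (diagMap hX) :=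
    isPullback_diagonal hX
  obtain ⟨j, hj⟩ := stage_of_conclusion D i₀ (pullback.diagonal f₀) (wDiag D i₀ f₀ g₀)
    @IsOpenImmersion (exists_isOpenImmersion_descend hc hY' hX')
  refine ⟨j, ?_⟩
  obtain ⟨l, hl⟩ := exists_isPullback_diagonal_stage D i₀ f₀ g₀ j
  have : IsOpenImmersion (pullback.diagonal (fj D i₀ f₀ g₀ j)) :=
    MorphismProperty.of_isPullback (P := @IsOpenImmersion) hl hj
  infer_instance

end Groth.Agent.Lib.Helper13.LimitDescent
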