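import Groth.Agent.Lib.Helper13.IsoDescent

set_option autoImplicit false

universe u

namespace Groth.Agent.Lib.Helper13.LimitDescent

open AlgebraicGeometry CategoryTheory CategoryTheory.Limits Groth.Agent.Lib.Helper5
  Groth.Agent.Lib.Helper13

variable {I : Type u} [SmallCategory I] (D : I ⥤ Scheme.{u}) {c : Cone D}
  (i₀ : I) {X₀ Y₀ : Scheme.{u}} (f₀ : X₀ ⟶ Y₀) (g₀ : Y₀ ⟶ D.obj i₀)
  {X Y : Scheme.{u}} {f : X ⟶ Y} {g : Y ⟶ c.pt} {qY : Y ⟶ Y₀} {qX : X ⟶ X₀}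

variable {D i₀ f₀ g₀} in
/-- The stage `j` can be used as a new base: the `Y`-square. -/
lemma isPullback_πY (hY : IsPullback qY g g₀ (c.π.app i₀)) (j : Over i₀) :
    IsPullback (πY hY j) g (gj D i₀ g₀ j) (c.π.app j.left) := by
  refine IsPullback.of_right ?_ (πY_gj hY j) (isPullback_Yj D i₀ g₀ j)
  rw [πY_pYj, c.w]
  exact hY

variable {D i₀ f₀ g₀} in
/-- The stage `j` can be used as a new base: the `X`-square. -/
lemma isPullback_πX (hY : IsPullback qY g g₀ (c.π.app i₀)) (hX : IsPullback qX f f₀ qY)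
    (j : Over i₀) :
    IsPullback (πX hY hX j) f (fj D i₀ f₀ g₀ j) (πY hY j) := by
  refine IsPullback.of_right ?_ (πX_fj hY hX j) (isPullback_Xj D i₀ f₀ g₀ j)
  rw [πX_pXj, πY_pYj]
  exact hX

/-- A conclusion over the stage `j` gives a conclusion over `i₀`. -/
lemma conclusion_rebase (P : ∀ {A B : Scheme.{u}}, (A ⟶ B) → Prop) (j : Over i₀)
    (h : ∃ (i : I) (φ : i ⟶ j.left) (Xi Yi : Scheme.{u}) (fi : Xi ⟶ Yi) (gi : Yi ⟶ D.obj i)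
      (pY : Yi ⟶ Yj D i₀ g₀ j) (pX : Xi ⟶ Xj D i₀ f₀ g₀ j),
      IsPullback pY gi (gj D i₀ g₀ j) (D.map φ) ∧ IsPullback pX fi (fj D i₀ f₀ g₀ j) pY ∧ P fi) :
    ∃ (i : I) (φ : i ⟶ i₀) (Xi Yi : Scheme.{u}) (fi : Xi ⟶ Yi) (gi : Yi ⟶ D.obj i)
      (pY : Yi ⟶ Y₀) (pX : Xi ⟶ X₀),
      IsPullback pY gi g₀ (D.map φ) ∧ IsPullback pX fi f₀ pY ∧ P fi := by
  obtain ⟨i, φ, Xi, Yi, fi, gi, pY, pX, h1, h2, h3⟩ := h
  refine ⟨i, φ ≫ j.hom, Xi, Yi, fi, gi, pY ≫ pYj D i₀ g₀ j, pX ≫ pXj D i₀ f₀ g₀ j, ?_, ?_, h3⟩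
  · rw [D.map_comp]
    exact h1.paste_horiz (isPullback_Yj D i₀ g₀ j)
  · exact h2.paste_horiz (isPullback_Xj D i₀ f₀ g₀ j)

section instances

lemma locallyOfFinitePresentation_fj_gj [LocallyOfFinitePresentation (f₀ ≫ g₀)] (j : Over i₀) :
    LocallyOfFinitePresentation (fj D i₀ f₀ g₀ j ≫ gj D i₀ g₀ j) := by
  rw [fj_gj]; infer_instance

lemma quasiCompact_fj_gj [QuasiCompact (f₀ ≫ g₀)] (j : Over i₀) :
    QuasiCompact (fj D i₀ f₀ g₀ j ≫ gj D i₀ g₀ j) := by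
  rw [fj_gj]; infer_instance

lemma quasiSeparated_fj_gj [QuasiSeparated (f₀ ≫ g₀)] (j : Over i₀) :
    QuasiSeparated (fj D i₀ f₀ g₀ j ≫ gj D i₀ g₀ j) := by
  rw [fj_gj]; infer_instance

end instances

end Groth.Agent.Lib.Helper13.LimitDescent
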