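import Groth.Agent.Lib.Helper13.LimitDescent

set_option autoImplicit false

universe u

namespace Groth.Agent.Lib.Helper13.LimitDescent

open AlgebraicGeometry CategoryTheory CategoryTheory.Limits Groth.Agent.Lib.Helper5

variable {I : Type u} [SmallCategory I] (D : I ⥤ Scheme.{u})
  (i₀ : I) {X₀ Y₀ : Scheme.{u}} (f₀ : X₀ ⟶ Y₀) (g₀ : Y₀ ⟶ D.obj i₀)

/-- For a property stable under base change, a conclusion in existential form gives a
conclusion for a canonical stage map. -/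
lemma stage_of_conclusion (P : MorphismProperty Scheme.{u}) [P.IsStableUnderBaseChange]
    (h : ∃ (i : I) (φ : i ⟶ i₀) (Xi Yi : Scheme.{u}) (fi : Xi ⟶ Yi) (gi : Yi ⟶ D.obj i)
      (pY : Yi ⟶ Y₀) (pX : Xi ⟶ X₀),
      IsPullback pY gi g₀ (D.map φ) ∧ IsPullback pX fi f₀ pY ∧ P fi) :
    ∃ j : Over i₀, P (fj D i₀ f₀ g₀ j) := by
  obtain ⟨i, φ, Xi, Yi, fi, gi, pY, pX, h1, h2, h3⟩ := h
  let j : Over i₀ := Over.mk φ
  refine ⟨j, ?_⟩
  have hw1 : pYj D i₀ g₀ j ≫ g₀ = gj D i₀ g₀ j ≫ D.map φ := pullback.condition.symm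
  let e : Yj D i₀ g₀ j ⟶ Yi := h1.lift (pYj D i₀ g₀ j) (gj D i₀ g₀ j) hw1
  have he : e ≫ pY = pYj D i₀ g₀ j := h1.lift_fst _ _ hw1
  have hw2 : pXj D i₀ f₀ g₀ j ≫ f₀ = (fj D i₀ f₀ g₀ j ≫ e) ≫ pY := by
    rw [Category.assoc, he, fj_pYj]
  have hsq : IsPullback (h2.lift _ _ hw2) (fj D i₀ f₀ g₀ j) fi e := by
    refine IsPullback.of_right ?_ (h2.lift_snd _ _ hw2) h2
    rw [h2.lift_fst, he]
    exact isPullback_Xj D i₀ f₀ g₀ j
  exact P.of_isPullback hsq h3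

end Groth.Agent.Lib.Helper13.LimitDescent
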