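import Groth.Agent.Lib.Helper13.SmoothDesc5
import Groth.Agent.Lib.Helper13.SmoothDesc6

/-!
# Smooth morphisms descend to a finite stage
-/

set_option autoImplicit false
set_option linter.unusedSectionVars false
universe u

namespace Groth.Agent.Lib.Helper13.LimitDescent

open AlgebraicGeometry CategoryTheory CategoryTheory.Limits Groth.Agent.Lib.Helper5
  Groth.Agent.Lib.Helper13

variable {I : Type u} [SmallCategory I] [IsCofiltered I] {D : I ⥤ Scheme.{u}} {c : Cone D}
  (hc : IsLimit c) [∀ {i j} (f : i ⟶ j), IsAffineHom (D.map f)]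
  {i₀ : I} {X₀ Y₀ : Scheme.{u}} {f₀ : X₀ ⟶ Y₀} {g₀ : Y₀ ⟶ D.obj i₀}
  {X Y : Scheme.{u}} {f : X ⟶ Y} {g : Y ⟶ c.pt} {qY : Y ⟶ Y₀} {qX : X ⟶ X₀}

include hc in
/-- Smooth morphisms descend to a finite stage (no hypothesis on the base system beyond affine
transition maps; `X₀` quasi-compact and `f₀` locally of finite presentation). -/
theorem exists_smooth_stage (hY : IsPullback qY g g₀ (c.π.app i₀))
    (hX : IsPullback qX f f₀ qY) [CompactSpace X₀] [LocallyOfFinitePresentation f₀] [Smooth f] :
    ∃ j : Over i₀, Smooth (fj D i₀ f₀ g₀ j) :=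
  exists_stage_of_affineCase @Smooth
    (fun a b _ ha => by
      have : Smooth a := ha
      exact inferInstanceAs (Smooth (a ≫ b)))
    (by
      intro X₀ Y₀ _ _ f₀ g₀ _ X Y f g qY qX hY hX hf
      have : Smooth f := hf
      exact exists_smooth_stage_of_isAffine hc hY hX)
    f₀ g₀ hY hX inferInstance

end Groth.Agent.Lib.Helper13.LimitDescent
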