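import Groth.Agent.Lib.Helper13.LimitDescent
import Groth.Agent.Lib.Helper5.LimitConstructible
import Mathlib.AlgebraicGeometry.Morphisms.FinitePresentation
import Mathlib.AlgebraicGeometry.Morphisms.QuasiSeparated
import Mathlib.AlgebraicGeometry.PullbackCarrier

set_option autoImplicit false

universe u

namespace Groth.Agent.Lib.Helper13

open AlgebraicGeometry CategoryTheory CategoryTheory.Limits

/-- If `f ≫ g` is locally of finite presentation and `g` is locally of finite type, then `f` is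
locally of finite presentation. (Same proof as `Groth.Agent.S12442.result`.) -/
theorem locallyOfFinitePresentation_of_comp {X Y S : Scheme.{u}} (f : X ⟶ Y) (g : Y ⟶ S)
    [LocallyOfFinitePresentation (f ≫ g)] [LocallyOfFiniteType g] :
    LocallyOfFinitePresentation f := by
  rw [HasRingHomProperty.iff_exists_appLE (P := @LocallyOfFinitePresentation)
    (RingHom.finitePresentation_stableUnderComposition.stableUnderCompositionWithLocalizationAway
      RingHom.finitePresentation_holdsForLocalizationAway).1]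
  intro x
  obtain ⟨_, ⟨W, hW, rfl⟩, hxW, -⟩ :=
    S.isBasis_affineOpens.exists_subset_of_mem_open (Set.mem_univ (g (f x))) isOpen_univ
  obtain ⟨_, ⟨U, hU, rfl⟩, hxU, hUW⟩ :=
    Y.isBasis_affineOpens.exists_subset_of_mem_open (show f x ∈ g ⁻¹ᵁ W from hxW)
      (g ⁻¹ᵁ W).2
  obtain ⟨_, ⟨V, hV, rfl⟩, hxV, hVU⟩ :=
    X.isBasis_affineOpens.exists_subset_of_mem_open (show x ∈ f ⁻¹ᵁ U from hxU) (f ⁻¹ᵁ U).2
  refine ⟨⟨U, hU⟩, ⟨V, hV⟩, hxV, hVU, ?_⟩
  have h1 := Scheme.Hom.appLE_comp_appLE f g W U V hUW hVU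
  have h2 : ((f ≫ g).appLE W V (hVU.trans ((TopologicalSpace.Opens.map f.base).map
      (homOfLE hUW)).le)).hom.FinitePresentation :=
    (f ≫ g).finitePresentation_appLE hW hV _
  rw [← h1, CommRingCat.hom_comp] at h2
  exact RingHom.FinitePresentation.of_comp_finiteType _ h2 (g.finiteType_appLE hW hU hUW)

/-- The range of the second projection of a pullback square. -/
lemma _root_.CategoryTheory.IsPullback.range_snd_scheme {P X Y S : Scheme.{u}} {fst : P ⟶ X}
    {snd : P ⟶ Y} {f : X ⟶ S} {g : Y ⟶ S} (h : IsPullback fst snd f g) :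
    Set.range snd = g ⁻¹' Set.range f := by
  have hs : Function.Surjective h.isoPullback.hom := h.isoPullback.hom.homeomorph.surjective
  rw [← h.isoPullback_hom_snd, Scheme.Hom.comp_base, TopCat.coe_comp, Set.range_comp,
    Set.range_eq_univ.mpr hs, Set.image_univ, Scheme.Pullback.range_snd]

namespace LimitDescent

open Groth.Agent.Lib.Helper5 Topology

variable {I : Type u} [SmallCategory I] [IsCofiltered I] (D : I ⥤ Scheme.{u}) (c : Cone D)
  (hc : IsLimit c) [∀ {i j} (f : i ⟶ j), IsAffineHom (D.map f)]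
  (i₀ : I) [CompactSpace (D.obj i₀)] [QuasiSeparatedSpace (D.obj i₀)]
  {X₀ Y₀ : Scheme.{u}} (f₀ : X₀ ⟶ Y₀) (g₀ : Y₀ ⟶ D.obj i₀)
  [LocallyOfFinitePresentation g₀] [QuasiCompact g₀] [QuasiSeparated g₀]
  [LocallyOfFinitePresentation (f₀ ≫ g₀)] [QuasiCompact (f₀ ≫ g₀)]
  {X Y : Scheme.{u}} {f : X ⟶ Y} {g : Y ⟶ c.pt} {qY : Y ⟶ Y₀} {qX : X ⟶ X₀}

include hc in
set_option backward.isDefEq.respectTransparency false in
/-- Surjectivity descends to a finite stage. -/
theorem exists_surjective_stage (hY : IsPullback qY g g₀ (c.π.app i₀))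
    (hX : IsPullback qX f f₀ qY) [Surjective f] :
    ∃ j : Over i₀, Surjective (fj D i₀ f₀ g₀ j) := by
  have : LocallyOfFinitePresentation f₀ := locallyOfFinitePresentation_of_comp f₀ g₀
  have : QuasiCompact f₀ := QuasiCompact.of_comp f₀ g₀
  have : CompactSpace Y₀ := QuasiCompact.compactSpace_of_compactSpace g₀
  have : QuasiSeparatedSpace Y₀ := quasiSeparatedSpace_of_quasiSeparated g₀
  have hR₀ : IsConstructible (Set.range f₀) := by
    rw [← Set.image_univ]
    exact f₀.isConstructible_image IsConstructible.univ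
  let DY := bcDiagram D i₀ g₀
  let cY := bcCone D c i₀ g₀
  let hcY : IsLimit cY := isLimitBcCone D c hc i₀ g₀
  have : ∀ j, CompactSpace (DY.obj j) := fun j => compactSpace_Yj D i₀ g₀ j
  let j₀ : Over i₀ := Over.mk (𝟙 i₀)
  let E : Set (DY.obj j₀) := (pYj D i₀ g₀ j₀) ⁻¹' (Set.range f₀)ᶜ
  have hE : IsConstructible E := (pYj D i₀ g₀ j₀).isConstructible_preimage hR₀.compl
  obtain ⟨j, ψ, hj⟩ := exists_map_preimage_inter_subset DY cY hcY (U := Set.univ) (E := E)
    (V := ∅) isOpen_univ isCompact_univ hE isOpen_empty (by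
      rintro z ⟨-, hz⟩
      exfalso
      obtain ⟨y, rfl⟩ := (isoY hY).hom.homeomorph.surjective z
      have h1 : (pYj D i₀ g₀ j₀) (cY.π.app j₀ ((isoY hY).hom y)) = qY y :=
        congr($(πY_pYj hY j₀) y)
      apply hz
      change (pYj D i₀ g₀ j₀) (cY.π.app j₀ ((isoY hY).hom y)) ∈ Set.range f₀
      rw [h1]
      have h2 : y ∈ Set.range f := f.surjective y
      rw [hX.range_snd_scheme] at h2
      exact h2)
  refine ⟨j, ⟨fun y => ?_⟩⟩
  have h2 : DY.map ψ ≫ pYj D i₀ g₀ j₀ = pYj D i₀ g₀ j := by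
    simp [DY, bcDiagram]
  have h3 : (pYj D i₀ g₀ j₀) (DY.map ψ y) = (pYj D i₀ g₀ j) y := congr($h2 y)
  have h4 : (pYj D i₀ g₀ j) y ∈ Set.range f₀ := by
    by_contra hcon
    have : y ∈ DY.map ψ ⁻¹' (Set.univ ∩ E) := ⟨trivial, by
      change (pYj D i₀ g₀ j₀) (DY.map ψ y) ∈ (Set.range f₀)ᶜ
      rw [h3]; exact hcon⟩
    exact hj this
  have h5 : y ∈ Set.range (fj D i₀ f₀ g₀ j) := by
    rw [(isPullback_Xj D i₀ f₀ g₀ j).range_snd_scheme]
    exact h4
  exact h5

end LimitDescent

end Groth.Agent.Lib.Helper13
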