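import Groth.Agent.Lib.Helper13.ClosedImmersionDescent
import Groth.Agent.Lib.Helper13.OpenImmersionDescent
import Mathlib.AlgebraicGeometry.Morphisms.Immersion

set_option autoImplicit false
set_option linter.unusedSectionVars false

universe u

namespace Groth.Agent.Lib.Helper13

open AlgebraicGeometry CategoryTheory CategoryTheory.Limits Groth.Agent.Lib.Helper5

/-- A quasi-compact immersion factors as a closed immersion into a quasi-compact open. -/
lemma exists_isCompact_opens_of_isImmersion {X Y : Scheme.{u}} (f : X ⟶ Y) [IsImmersion f]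
    [CompactSpace X] :
    ∃ U : Y.Opens, IsCompact (U : Set Y) ∧ f ⁻¹ᵁ U = ⊤ ∧ U ≤ f.coborderRange := by
  classical
  have hK : IsCompact (Set.range f) := isCompact_range f.continuous
  have key : ∀ y ∈ Set.range f, ∃ W : Y.Opens, IsAffineOpen W ∧ y ∈ W ∧ W ≤ f.coborderRange := by
    intro y hy
    have hy' : y ∈ f.coborderRange := subset_coborder hy
    obtain ⟨_, ⟨W, hW, rfl⟩, hyW, hWU⟩ :=
      Y.isBasis_affineOpens.exists_subset_of_mem_open hy' f.coborderRange.2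
    exact ⟨W, hW, hyW, hWU⟩
  choose! W hW1 hW2 hW3 using key
  obtain ⟨t, ht, htcover⟩ := hK.elim_nhds_subcover (fun y => (W y : Set Y))
    (fun y hy => (W y).2.mem_nhds (hW2 y hy))
  refine ⟨⟨⋃ y ∈ t, (W y : Set Y), isOpen_biUnion fun y _ => (W y).2⟩, ?_, ?_, ?_⟩
  · exact t.isCompact_biUnion fun y hy => (hW1 y (ht y hy)).isCompact
  · rw [← top_le_iff]
    rintro x -
    exact htcover ⟨x, rfl⟩
  · intro y hy
    obtain ⟨z, hz, hyz⟩ := Set.mem_iUnion₂.mp hy
    exact hW3 z (ht z hz) hyz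

/-- The lift of an immersion to an open contained in the coborder is a closed immersion. -/
lemma isClosedImmersion_lift_of_le_coborderRange {X Y : Scheme.{u}} (f : X ⟶ Y) [IsImmersion f]
    (U : Y.Opens) (hU : U ≤ f.coborderRange) (hr : Set.range f ⊆ Set.range U.ι) :
    IsClosedImmersion (IsOpenImmersion.lift U.ι f hr) := by
  have hfac : IsOpenImmersion.lift U.ι f hr ≫ U.ι = f := IsOpenImmersion.lift_fac _ _ _
  have : IsPreimmersion (IsOpenImmersion.lift U.ι f hr ≫ U.ι) := by rw [hfac]; infer_instance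
  have : IsPreimmersion (IsOpenImmersion.lift U.ι f hr) := .of_comp _ U.ι
  refine .of_isPreimmersion _ ?_
  have h1 : Set.range (IsOpenImmersion.lift U.ι f hr) = U.ι ⁻¹' (closure (Set.range f)) := by
    ext z
    constructor
    · rintro ⟨x, rfl⟩
      change U.ι ((IsOpenImmersion.lift U.ι f hr) x) ∈ closure (Set.range f)
      rw [← Scheme.Hom.comp_apply, hfac]
      exact subset_closure ⟨x, rfl⟩
    · intro hz
      have hz' : U.ι z ∈ coborder (Set.range f) := hU z.2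
      have : U.ι z ∈ coborder (Set.range f) ∩ closure (Set.range f) := ⟨hz', hz⟩
      rw [coborder_inter_closure] at this
      obtain ⟨x, hx⟩ := this
      refine ⟨x, U.ι.isOpenEmbedding.injective ?_⟩
      rw [← Scheme.Hom.comp_apply, hfac, hx]
  rw [h1]
  exact isClosed_closure.preimage U.ι.continuous

namespace LimitDescent

variable {I : Type u} [SmallCategory I] {D : I ⥤ Scheme.{u}} {c : Cone D}
  {i₀ : I} {X₀ Y₀ : Scheme.{u}} {f₀ : X₀ ⟶ Y₀} {g₀ : Y₀ ⟶ D.obj i₀}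
  {X Y : Scheme.{u}} {f : X ⟶ Y} {g : Y ⟶ c.pt} {qY : Y ⟶ Y₀} {qX : X ⟶ X₀}

/-- Restriction of the `Y`-square to an open of `Y₀`. -/
lemma isPullback_Y_opens (hY : IsPullback qY g g₀ (c.π.app i₀)) (V : Y₀.Opens) :
    IsPullback (qY ∣_ V) ((qY ⁻¹ᵁ V).ι ≫ g) (V.ι ≫ g₀) (c.π.app i₀) :=
  (isPullback_morphismRestrict qY V).paste_vert hY

/-- Restriction of the `X`-square to an open of `Y₀` through which `f₀` factors. -/
lemma isPullback_X_opens (hX : IsPullback qX f f₀ qY) (V : Y₀.Opens)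
    (hr₀ : Set.range f₀ ⊆ Set.range V.ι) (hr : Set.range f ⊆ Set.range (qY ⁻¹ᵁ V).ι) :
    IsPullback qX (IsOpenImmersion.lift (qY ⁻¹ᵁ V).ι f hr) (IsOpenImmersion.lift V.ι f₀ hr₀)
      (qY ∣_ V) := by
  refine IsPullback.of_bot ?_ ?_ (isPullback_morphismRestrict qY V)
  · rw [IsOpenImmersion.lift_fac, IsOpenImmersion.lift_fac]
    exact hX
  · rw [← cancel_mono V.ι, Category.assoc, Category.assoc, IsOpenImmersion.lift_fac,
      morphismRestrict_ι, IsOpenImmersion.lift_fac_assoc]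
    exact hX.w

/-- Assemble a conclusion for `f₀` from a conclusion for its lift to an open of `Y₀`. -/
lemma conclusion_opens (P Q : ∀ {A B : Scheme.{u}}, (A ⟶ B) → Prop)
    (hcomp : ∀ {A B C : Scheme.{u}} (a : A ⟶ B) (b : B ⟶ C), Q a → IsOpenImmersion b → P (a ≫ b))
    (V : Y₀.Opens) (f₀' : X₀ ⟶ ↑V) (hf₀' : f₀' ≫ V.ι = f₀)
    (h : ∃ (i : I) (φ : i ⟶ i₀) (Xi Yi : Scheme.{u}) (fi : Xi ⟶ Yi) (gi : Yi ⟶ D.obj i)
      (pY : Yi ⟶ ↑V) (pX : Xi ⟶ X₀),
      IsPullback pY gi (V.ι ≫ g₀) (D.map φ) ∧ IsPullback pX fi f₀' pY ∧ Q fi) :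
    ∃ (i : I) (φ : i ⟶ i₀) (Xi Yi : Scheme.{u}) (fi : Xi ⟶ Yi) (gi : Yi ⟶ D.obj i)
      (pY : Yi ⟶ Y₀) (pX : Xi ⟶ X₀),
      IsPullback pY gi g₀ (D.map φ) ∧ IsPullback pX fi f₀ pY ∧ P fi := by
  obtain ⟨i, φ, Xi, Yi, fi, gi, pY, pX, h1, h2, h3⟩ := h
  let o : Yi ⟶ pullback (D.map φ) g₀ := pullback.lift gi (pY ≫ V.ι) (by
    rw [Category.assoc]; exact h1.w.symm)
  have ho : IsPullback pY o V.ι (pullback.snd (D.map φ) g₀) := by
    refine IsPullback.of_bot ?_ (pullback.lift_snd _ _ _).symm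
      (IsPullback.of_hasPullback (D.map φ) g₀).flip
    rw [pullback.lift_fst]
    exact h1
  have : IsOpenImmersion o := MorphismProperty.of_isPullback ho inferInstance
  refine ⟨i, φ, Xi, pullback (D.map φ) g₀, fi ≫ o, pullback.fst _ _, pullback.snd _ _, pX,
    (IsPullback.of_hasPullback (D.map φ) g₀).flip, ?_, hcomp fi o h3 inferInstance⟩
  have := h2.paste_vert ho
  rwa [hf₀'] at this

variable [IsCofiltered I] (hc : IsLimit c) [∀ {i j} (f : i ⟶ j), IsAffineHom (D.map f)]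
  [CompactSpace (D.obj i₀)] [QuasiSeparatedSpace (D.obj i₀)]
  [QuasiCompact g₀] [QuasiSeparated g₀] [QuasiCompact (f₀ ≫ g₀)] [QuasiSeparated (f₀ ≫ g₀)]
  [LocallyOfFiniteType f₀]

include hc in
set_option backward.isDefEq.respectTransparency false in
/-- Core of the descent of immersions: the case where the open through which `f` factors as a
closed immersion comes from the base stage. -/
theorem exists_isImmersion_of_opens (hY : IsPullback qY g g₀ (c.π.app i₀))
    (hX : IsPullback qX f f₀ qY) [IsImmersion f] (V : Y₀.Opens)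
    (hV : IsCompact (V : Set Y₀)) (hV1 : f₀ ⁻¹ᵁ V = ⊤) (hV2 : qY ⁻¹ᵁ V ≤ f.coborderRange) :
    ∃ (i : I) (φ : i ⟶ i₀) (Xi Yi : Scheme.{u}) (fi : Xi ⟶ Yi) (gi : Yi ⟶ D.obj i)
      (pY : Yi ⟶ Y₀) (pX : Xi ⟶ X₀),
      IsPullback pY gi g₀ (D.map φ) ∧ IsPullback pX fi f₀ pY ∧ IsImmersion fi := by
  have hr₀ : Set.range f₀ ⊆ Set.range V.ι := by
    rintro _ ⟨x, rfl⟩
    have : x ∈ f₀ ⁻¹ᵁ V := hV1 ▸ trivial
    simpa using this
  have hr : Set.range f ⊆ Set.range (qY ⁻¹ᵁ V).ι := by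
    rintro _ ⟨x, rfl⟩
    have h1 : qX x ∈ f₀ ⁻¹ᵁ V := hV1 ▸ trivial
    have h2 : qY (f x) ∈ V := by
      rw [← Scheme.Hom.comp_apply, ← hX.w, Scheme.Hom.comp_apply]
      exact h1
    simpa using h2
  have hf₀' : IsOpenImmersion.lift V.ι f₀ hr₀ ≫ V.ι = f₀ := IsOpenImmersion.lift_fac _ _ hr₀
  have : CompactSpace ↑V := isCompact_iff_compactSpace.mp hV
  have hcomp : IsOpenImmersion.lift V.ι f₀ hr₀ ≫ V.ι ≫ g₀ = f₀ ≫ g₀ := by
    rw [reassoc_of% hf₀']
  have : LocallyOfFiniteType (IsOpenImmersion.lift V.ι f₀ hr₀) := by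
    have : LocallyOfFiniteType (IsOpenImmersion.lift V.ι f₀ hr₀ ≫ V.ι) := by
      rw [hf₀']; infer_instance
    exact locallyOfFiniteType_of_comp _ V.ι
  have : QuasiCompact (IsOpenImmersion.lift V.ι f₀ hr₀ ≫ V.ι ≫ g₀) := by
    rw [hcomp]; infer_instance
  have : QuasiSeparated (IsOpenImmersion.lift V.ι f₀ hr₀ ≫ V.ι ≫ g₀) := by
    rw [hcomp]; infer_instance
  have := isClosedImmersion_lift_of_le_coborderRange f (qY ⁻¹ᵁ V) hV2 hr
  refine conclusion_opens (fun f => IsImmersion f) (fun f => IsClosedImmersion f)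
    (fun a b ha hb => by have := ha; have := hb; infer_instance) V _ hf₀' ?_
  exact exists_isClosedImmersion_descend hc (isPullback_Y_opens hY V)
    (isPullback_X_opens hX V hr₀ hr)

include hc in
set_option backward.isDefEq.respectTransparency false in
/-- Immersions descend to a finite stage. -/
theorem exists_isImmersion_descend (hY : IsPullback qY g g₀ (c.π.app i₀))
    (hX : IsPullback qX f f₀ qY) [IsImmersion f] :
    ∃ (i : I) (φ : i ⟶ i₀) (Xi Yi : Scheme.{u}) (fi : Xi ⟶ Yi) (gi : Yi ⟶ D.obj i)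
      (pY : Yi ⟶ Y₀) (pX : Xi ⟶ X₀),
      IsPullback pY gi g₀ (D.map φ) ∧ IsPullback pX fi f₀ pY ∧ IsImmersion fi := by
  have : CompactSpace X := by
    have : ∀ j, CompactSpace ((bcDiagram D i₀ (f₀ ≫ g₀)).obj j) :=
      fun j => compactSpace_Xj D i₀ f₀ g₀ j
    have := Scheme.compactSpace_of_isLimit _ _ (isLimitBcCone D c hc i₀ (f₀ ≫ g₀))
    exact (isoX hY hX).hom.homeomorph.symm.compactSpace
  obtain ⟨U, hU, hfU, hUc⟩ := exists_isCompact_opens_of_isImmersion f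
  obtain ⟨k, V, hV, hV1, hV2⟩ := exists_opens_stage hc hY hX U hU hfU
  apply conclusion_rebase D i₀ f₀ g₀ (fun f => IsImmersion f) k
  have : LocallyOfFiniteType (fj D i₀ f₀ g₀ k) :=
    MorphismProperty.of_isPullback (isPullback_Xj D i₀ f₀ g₀ k) inferInstance
  have := quasiCompact_fj_gj D i₀ f₀ g₀ k
  have := quasiSeparated_fj_gj D i₀ f₀ g₀ k
  exact exists_isImmersion_of_opens hc (isPullback_πY hY k) (isPullback_πX hY hX k) V hV hV1
    (hV2.trans_le hUc)

end LimitDescent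

end Groth.Agent.Lib.Helper13
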