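import Groth.Agent.Lib.Helper13.SmoothDesc6
import Groth.Agent.Lib.Helper13.DiagonalDescent
import Groth.Agent.Lib.Helper13.Rebase

/-!
# Rebasing a descent problem to the system of stages `Y_j`, and unramified descent
-/

set_option autoImplicit false
set_option linter.unusedSectionVars false
universe u

namespace Groth.Agent.Lib.Helper13.LimitDescent

open AlgebraicGeometry CategoryTheory CategoryTheory.Limits Groth.Agent.Lib.Helper5
  Groth.Agent.Lib.Helper13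

section Rebase

variable {I : Type u} [SmallCategory I] (D : I ⥤ Scheme.{u})
  (i₀ : I) {X₀ Y₀ : Scheme.{u}} (f₀ : X₀ ⟶ Y₀) (g₀ : Y₀ ⟶ D.obj i₀)

set_option backward.isDefEq.respectTransparency false in
/-- A stage of the problem rebased to the system of the `Y_j` gives a stage of the original
problem. -/
lemma of_rebase (P : MorphismProperty Scheme.{u}) [P.IsStableUnderBaseChange]
    (j' : Over (Over.mk (𝟙 i₀)))
    (h : P (fj (bcDiagram D i₀ g₀) (Over.mk (𝟙 i₀))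
      (Y₀ := (bcDiagram D i₀ g₀).obj (Over.mk (𝟙 i₀))) (fj D i₀ f₀ g₀ (Over.mk (𝟙 i₀)))
      (𝟙 ((bcDiagram D i₀ g₀).obj (Over.mk (𝟙 i₀)))) j')) :
    P (fj D i₀ f₀ g₀ j'.left) := by
  let D' := bcDiagram D i₀ g₀
  let i₀' : Over i₀ := Over.mk (𝟙 i₀)
  let Y₀' : Scheme.{u} := D'.obj i₀'
  let f₀' : Xj D i₀ f₀ g₀ i₀' ⟶ Y₀' := fj D i₀ f₀ g₀ i₀'
  let e : j'.left ⟶ i₀' := j'.hom
  have S1 := isPullback_map_fj D i₀ f₀ g₀ e
  have S2 := isPullback_Xj D' i₀' f₀' (𝟙 Y₀') j'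
  have hc : gj D' i₀' (𝟙 Y₀') j' ≫ D'.map e =
      pYj D' i₀' (𝟙 Y₀') j' := by
    have := pullback.condition (f := D'.map j'.hom) (g := 𝟙 Y₀')
    rw [Category.comp_id] at this
    exact this
  have hw : pXj D' i₀' f₀' (𝟙 _) j' ≫ fj D i₀ f₀ g₀ i₀' =
      (fj D' i₀' f₀' (𝟙 _) j' ≫ gj D' i₀' (𝟙 _) j') ≫ D'.map e := by
    rw [Category.assoc, hc]
    exact S2.w
  have hsq : IsPullback (S1.lift _ _ hw) (fj D' i₀' f₀' (𝟙 _) j') (fj D i₀ f₀ g₀ j'.left)
      (gj D' i₀' (𝟙 _) j') := by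
    refine IsPullback.of_right ?_ (S1.lift_snd _ _ hw) S1
    rw [S1.lift_fst, hc]
    exact S2
  have hg : IsIso (gj D' i₀' (𝟙 Y₀') j') := by
    dsimp only [gj]
    infer_instance
  have ht : IsIso (S1.lift _ _ hw) := hsq.isIso_fst_of_isIso
  have h1 : P (fj D' i₀' f₀' (𝟙 _) j' ≫ gj D' i₀' (𝟙 _) j') :=
    (P.cancel_right_of_respectsIso _ _).2 h
  rw [← hsq.w, P.cancel_left_of_respectsIso] at h1
  exact h1

end Rebase

section Unramified

variable {I : Type u} [SmallCategory I] [IsCofiltered I] {D : I ⥤ Scheme.{u}} {c : Cone D}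
  (hc : IsLimit c) [∀ {i j} (f : i ⟶ j), IsAffineHom (D.map f)]
  {i₀ : I} {X₀ Y₀ : Scheme.{u}} {f₀ : X₀ ⟶ Y₀} {g₀ : Y₀ ⟶ D.obj i₀}
  {X Y : Scheme.{u}} {f : X ⟶ Y} {g : Y ⟶ c.pt} {qY : Y ⟶ Y₀} {qX : X ⟶ X₀}

include hc in
set_option backward.isDefEq.respectTransparency false in
/-- Unramified morphisms descend to a finite stage: the affine case, with no hypothesis on the
base system. -/
theorem exists_formallyUnramified_stage_of_isAffine (hY : IsPullback qY g g₀ (c.π.app i₀))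
    (hX : IsPullback qX f f₀ qY) [LocallyOfFiniteType f₀] [FormallyUnramified f]
    [IsAffine Y₀] [IsAffine X₀] :
    ∃ j : Over i₀, FormallyUnramified (fj D i₀ f₀ g₀ j) := by
  let D' := bcDiagram D i₀ g₀
  let c' := bcCone D c i₀ g₀
  have hc' : IsLimit c' := isLimitBcCone D c hc i₀ g₀
  let i₀' : Over i₀ := Over.mk (𝟙 i₀)
  let Y₀' : Scheme.{u} := D'.obj i₀'
  have hAY : IsAffine Y₀' := isAffine_of_isAffineHom (pYj D i₀ g₀ i₀')
  have hAX : IsAffine (Xj D i₀ f₀ g₀ i₀') := isAffine_of_isAffineHom (pYj D i₀ (f₀ ≫ g₀) i₀')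
  let f₀' : Xj D i₀ f₀ g₀ i₀' ⟶ Y₀' := fj D i₀ f₀ g₀ i₀'
  have hY' : IsPullback (c'.π.app i₀') (𝟙 c'.pt) (𝟙 Y₀') (c'.π.app i₀') := IsPullback.of_id_snd
  have hX' : IsPullback (πX hY hX i₀') (f ≫ (isoY hY).hom) f₀' (c'.π.app i₀') := by
    refine (isPullback_πX hY hX i₀').of_iso (Iso.refl _) (Iso.refl _) (isoY hY) (Iso.refl _)
      (by simp) (by simp) (by simp [f₀']) ?_
    rw [Iso.refl_hom, Category.comp_id]
    rfl
  have hf' : FormallyUnramified (f ≫ (isoY hY).hom) :=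
    (MorphismProperty.cancel_right_of_respectsIso @FormallyUnramified f (isoY hY).hom).2
      inferInstance
  have : LocallyOfFiniteType f₀' :=
    MorphismProperty.of_isPullback (isPullback_Xj D i₀ f₀ g₀ i₀') inferInstance
  have : IsAffineHom f₀' := isAffineHom_of_isAffine f₀'
  obtain ⟨j', hj'⟩ := exists_formallyUnramified_stage (D := D') (c := c') hc' (i₀ := i₀')
    (f₀ := f₀') (g₀ := 𝟙 Y₀') hY' hX'
  exact ⟨j'.left, of_rebase D i₀ f₀ g₀ @FormallyUnramified j' hj'⟩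

end Unramified

end Groth.Agent.Lib.Helper13.LimitDescent
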