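import Groth.Agent.Lib.Helper13.SmoothDesc7
import Groth.Agent.Lib.Helper13.SmoothDesc9
import Mathlib.AlgebraicGeometry.Morphisms.Etale

/-!
# Unramified and étale morphisms descend to a finite stage
-/

set_option autoImplicit false
set_option linter.unusedSectionVars false
universe u

namespace Groth.Agent.Lib.Helper13.LimitDescent

open AlgebraicGeometry CategoryTheory CategoryTheory.Limits Groth.Agent.Lib.Helper5
  Groth.Agent.Lib.Helper13

variable {I : Type u} [SmallCategory I] [IsCofiltered I] {D : I ⥤ Scheme.{u}} {c : Cone D}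
  (hc : IsLimit c) [∀ {i j} (f : i ⟶ j), IsAffineHom (D.map f)]
  {i₀ : I} {X₀ Y₀ : Scheme.{u}} {f₀ : X₀ ⟶ Y₀} {g₀ : Y₀ ⟶ D.obj i₀}
  {X Y : Scheme.{u}} {f : X ⟶ Y} {g : Y ⟶ c.pt} {qY : Y ⟶ Y₀} {qX : X ⟶ X₀}

include hc in
/-- Unramified morphisms descend to a finite stage (`X₀` quasi-compact, `f₀` locally of finite
presentation, no hypothesis on the base system). -/
theorem exists_formallyUnramified_stage_of_compact (hY : IsPullback qY g g₀ (c.π.app i₀))
    (hX : IsPullback qX f f₀ qY) [CompactSpace X₀] [LocallyOfFinitePresentation f₀]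
    [FormallyUnramified f] :
    ∃ j : Over i₀, FormallyUnramified (fj D i₀ f₀ g₀ j) :=
  exists_stage_of_affineCase @FormallyUnramified
    (fun a b _ ha => by
      have hb : FormallyUnramified b := inferInstance
      exact MorphismProperty.comp_mem @FormallyUnramified a b ha hb)
    (by
      intro X₀ Y₀ _ _ f₀ g₀ _ X Y f g qY qX hY hX hf
      have : FormallyUnramified f := hf
      exact exists_formallyUnramified_stage_of_isAffine hc hY hX)
    f₀ g₀ hY hX inferInstance

include hc in
/-- Étale morphisms descend to a finite stage. -/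
theorem exists_etale_stage (hY : IsPullback qY g g₀ (c.π.app i₀))
    (hX : IsPullback qX f f₀ qY) [CompactSpace X₀] [LocallyOfFinitePresentation f₀] [Etale f] :
    ∃ j : Over i₀, Etale (fj D i₀ f₀ g₀ j) := by
  obtain ⟨j₁, h₁⟩ := exists_smooth_stage hc hY hX
  obtain ⟨j₂, h₂⟩ := exists_formallyUnramified_stage_of_compact hc hY hX
  let l := IsCofiltered.min j₁ j₂
  have h₁' : Smooth (fj D i₀ f₀ g₀ l) :=
    MorphismProperty.of_isPullback (P := @Smooth)
      (isPullback_map_fj D i₀ f₀ g₀ (IsCofiltered.minToLeft j₁ j₂)) h₁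
  have h₂' : FormallyUnramified (fj D i₀ f₀ g₀ l) :=
    MorphismProperty.of_isPullback (P := @FormallyUnramified)
      (isPullback_map_fj D i₀ f₀ g₀ (IsCofiltered.minToRight j₁ j₂)) h₂
  exact ⟨l, Etale.of_formallyUnramified_of_flat _⟩

end Groth.Agent.Lib.Helper13.LimitDescent
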