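import Mathlib.RingTheory.Smooth.Fiber
import Mathlib.RingTheory.Flat.Localization
import Mathlib.RingTheory.Flat.Stability
import Mathlib.RingTheory.Localization.BaseChange

set_option autoImplicit false

namespace Groth.Agent.Lib.Helper13

open TensorProduct Algebra

/-- Let `S' = S ⊗[R] R'` and let `q'` be a prime of `S'` over the prime `p'` of `R'`. If `R'_{p'}`
is flat over `R`, then `S'_{q'}` is flat over `S`. -/
theorem flat_localization_of_isPushout (R S R' S' : Type*) [CommRing R] [CommRing S] [CommRing R']
    [CommRing S'] [Algebra R S] [Algebra R R'] [Algebra S S'] [Algebra R' S'] [Algebra R S']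
    [IsScalarTower R R' S'] [IsScalarTower R S S'] [Algebra.IsPushout R S R' S']
    (p' : Ideal R') [p'.IsPrime] (q' : Ideal S') [q'.IsPrime] [q'.LiesOver p']
    [Module.Flat R (Localization.AtPrime p')] : Module.Flat S (Localization.AtPrime q') := by
  let T := Localization.AtPrime p'
  let ST := Localization (algebraMapSubmonoid S' p'.primeCompl)
  let N := Localization.AtPrime q'
  have h1 : Algebra.IsPushout R' T S' ST :=
    .symm <| Algebra.isPushout_of_isLocalization p'.primeCompl _ _ _
  have h0 : Algebra.IsPushout R R' S S' := .symm inferInstance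
  have : IsScalarTower R T ST := .to₁₃₄ R R' T ST
  have : IsScalarTower R S ST := .to₁₂₄ R S S' ST
  have h2 : Algebra.IsPushout R T S ST :=
    (Algebra.IsPushout.comp_iff R R' S (S' := S') (T := T) (T' := ST)).mpr h1
  have : Module.Flat S ST := Module.Flat.isBaseChange R S T ST h2.symm.out
  let f : ST →ₐ[S'] N := IsLocalization.liftAlgHom (M := algebraMapSubmonoid S' p'.primeCompl)
        (f := Algebra.ofId _ _) (by
      rintro ⟨_, x, hx, rfl⟩
      simpa using! IsLocalization.map_units (M := q'.primeCompl) N ⟨algebraMap _ _ x,
        by simp_all [q'.over_def p']⟩)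
  algebraize [f.toRingHom]
  have : IsScalarTower S ST N := .to₁₃₄ _ S' _ _
  have : IsLocalization (algebraMapSubmonoid ST q'.primeCompl) N :=
    .isLocalization_of_submonoid_le _ _ (algebraMapSubmonoid S' p'.primeCompl) _
    (by rintro _ ⟨x, hx, rfl⟩; simp_all [q'.over_def p'])
  have : Module.Flat ST N := IsLocalization.flat N (algebraMapSubmonoid ST q'.primeCompl)
  exact Module.Flat.trans S ST N

end Groth.Agent.Lib.Helper13
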