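import Mathlib.RingTheory.Smooth.Locus
import Mathlib.RingTheory.Smooth.Flat
import Mathlib.RingTheory.Kaehler.TensorProduct
import Mathlib.RingTheory.Extension.Cotangent.BaseChange
import Mathlib.RingTheory.Flat.FaithfullyFlat.Algebra
import Mathlib.RingTheory.Spectrum.Prime.FreeLocus
import Groth.Agent.Lib.Helper13.PushoutLocal

set_option autoImplicit false

namespace Groth.Agent.Lib.Helper13

open TensorProduct Algebra

/-- Support is reflected by base change along a map which is flat at the point. -/
theorem mem_support_baseChange_of_flat {S A : Type*} [CommRing S] [CommRing A] [Algebra S A]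
    (M : Type*) [AddCommGroup M] [Module S M]
    (q : Ideal S) [q.IsPrime] (q' : Ideal A) [q'.IsPrime] [q'.LiesOver q]
    [Module.Flat S (Localization.AtPrime q')]
    (h : (⟨q, inferInstance⟩ : PrimeSpectrum S) ∈ Module.support S M) :
    (⟨q', inferInstance⟩ : PrimeSpectrum A) ∈ Module.support A (A ⊗[S] M) := by
  let Sq := Localization.AtPrime q
  let N := Localization.AtPrime q'
  let := Localization.AtPrime.algebraOfLiesOver q q'
  have h2 : Module.Flat Sq N :=
    (Module.flat_iff_of_isLocalization Sq q.primeCompl N).mpr inferInstance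
  have : Module.FaithfullyFlat Sq N := Module.FaithfullyFlat.of_flat_of_isLocalHom
  rw [Module.mem_support_iff] at h ⊢
  have h1 : Nontrivial (Sq ⊗[S] M) :=
    (LocalizedModule.equivTensorProduct q.primeCompl M).symm.toEquiv.nontrivial
  have h3 : Nontrivial (N ⊗[Sq] (Sq ⊗[S] M)) := inferInstance
  let e : N ⊗[Sq] (Sq ⊗[S] M) ≃ₗ[N] N ⊗[A] (A ⊗[S] M) :=
    AlgebraTensorModule.cancelBaseChange S Sq N N M ≪≫ₗ
      (AlgebraTensorModule.cancelBaseChange S A N N M).symm
  have h4 : Nontrivial (N ⊗[A] (A ⊗[S] M)) := e.symm.toEquiv.nontrivial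
  exact (LocalizedModule.equivTensorProduct q'.primeCompl (A ⊗[S] M)).toEquiv.nontrivial

/-- Freeness at a point of a finitely presented module descends along base change
which is flat at the point. -/
theorem mem_freeLocus_of_baseChange_of_flat {S A : Type*} [CommRing S] [CommRing A] [Algebra S A]
    (M : Type*) [AddCommGroup M] [Module S M] [Module.FinitePresentation S M]
    (q : Ideal S) [q.IsPrime] (q' : Ideal A) [q'.IsPrime] [q'.LiesOver q]
    [Module.Flat S (Localization.AtPrime q')]
    (h : (⟨q', inferInstance⟩ : PrimeSpectrum A) ∈ Module.freeLocus A (A ⊗[S] M)) :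
    (⟨q, inferInstance⟩ : PrimeSpectrum S) ∈ Module.freeLocus S M := by
  let Sq := Localization.AtPrime q
  let N := Localization.AtPrime q'
  let := Localization.AtPrime.algebraOfLiesOver q q'
  have h2 : Module.Flat Sq N :=
    (Module.flat_iff_of_isLocalization Sq q.primeCompl N).mpr inferInstance
  have : Module.FaithfullyFlat Sq N := Module.FaithfullyFlat.of_flat_of_isLocalHom
  rw [Module.mem_freeLocus_iff_tensor _ N] at h
  rw [Module.mem_freeLocus_iff_tensor _ Sq]
  let e : N ⊗[Sq] (Sq ⊗[S] M) ≃ₗ[N] N ⊗[A] (A ⊗[S] M) :=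
    AlgebraTensorModule.cancelBaseChange S Sq N N M ≪≫ₗ
      (AlgebraTensorModule.cancelBaseChange S A N N M).symm
  have h3 : Module.Free N (N ⊗[Sq] (Sq ⊗[S] M)) := .of_equiv e.symm
  have h4 : Module.Flat Sq (Sq ⊗[S] M) := Module.Flat.of_flat_tensorProduct Sq _ N
  exact Module.free_of_flat_of_isLocalRing



attribute [local instance] Algebra.TensorProduct.rightAlgebra in
/-- The natural map `(T ⊗ S) ⊗[S] H¹(L_{S/R}) → H¹(L_{T ⊗ S/T})` is injective when `T` is
flat over `R`. -/
theorem injective_liftBaseChange_h1Cotangent_map (R S T : Type*) [CommRing R] [CommRing S]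
    [CommRing T] [Algebra R S] [Algebra R T] [Module.Flat R T] :
    Function.Injective (LinearMap.liftBaseChange (T ⊗[R] S)
      (Algebra.H1Cotangent.map R T S (T ⊗[R] S))) := by
  let A := T ⊗[R] S
  let H := Algebra.H1Cotangent R S
  let ψ : A ⊗[S] H →ₗ[A] Algebra.H1Cotangent T A :=
    LinearMap.liftBaseChange A (Algebra.H1Cotangent.map R T S A)
  let c' : T ⊗[R] H →ₗ[T] A ⊗[S] H :=
    LinearMap.liftBaseChange T ((TensorProduct.mk S A H 1).restrictScalars R)
  have hc' : Function.Surjective c' := by
    intro y
    induction y using TensorProduct.induction_on with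
    | zero => exact ⟨0, map_zero _⟩
    | add y₁ y₂ h₁ h₂ =>
      obtain ⟨z₁, rfl⟩ := h₁
      obtain ⟨z₂, rfl⟩ := h₂
      exact ⟨z₁ + z₂, map_add _ _ _⟩
    | tmul a x =>
      induction a using TensorProduct.induction_on with
      | zero => exact ⟨0, by simp⟩
      | add a₁ a₂ h₁ h₂ =>
        obtain ⟨z₁, hz₁⟩ := h₁
        obtain ⟨z₂, hz₂⟩ := h₂
        exact ⟨z₁ + z₂, by rw [map_add, hz₁, hz₂, TensorProduct.add_tmul]⟩
      | tmul t s =>
        refine ⟨t ⊗ₜ (s • x), ?_⟩
        simp only [c', LinearMap.liftBaseChange_tmul, LinearMap.coe_restrictScalars,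
          TensorProduct.mk_apply]
        rw [TensorProduct.tmul_smul, TensorProduct.smul_tmul', TensorProduct.smul_tmul']
        congr 1
        rw [Algebra.smul_def s, Algebra.smul_def t, mul_one]
        change (algebraMap T A) t * ((1 : T) ⊗ₜ[R] s) = t ⊗ₜ[R] s
        rw [Algebra.TensorProduct.algebraMap_apply, Algebra.TensorProduct.tmul_mul_tmul]
        simp
  have hψ : ∀ z, ψ (c' z) = Algebra.tensorH1CotangentOfFlat R S T z := by
    intro z
    induction z using TensorProduct.induction_on with
    | zero => simp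
    | add z₁ z₂ h₁ h₂ => simp only [map_add, h₁, h₂]
    | tmul t x =>
      rw [Algebra.tensorH1CotangentOfFlat_tmul]
      simp only [c', ψ, LinearMap.liftBaseChange_tmul, LinearMap.coe_restrictScalars,
        TensorProduct.mk_apply, TensorProduct.smul_tmul']
      simp
      rfl
  intro y₁ y₂ h
  obtain ⟨z₁, rfl⟩ := hc' y₁
  obtain ⟨z₂, rfl⟩ := hc' y₂
  change ψ (c' z₁) = ψ (c' z₂) at h
  rw [hψ, hψ] at h
  rw [(Algebra.tensorH1CotangentOfFlat R S T).injective h]

universe u

attribute [local instance] Algebra.TensorProduct.rightAlgebra in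
/-- Smoothness at a point descends along flat base change (literal tensor product). -/
theorem isSmoothAt_of_tensorProduct_of_flat {R S T : Type u} [CommRing R] [CommRing S]
    [CommRing T] [Algebra R S] [Algebra R T] [Module.Flat R T] [Algebra.FinitePresentation R S]
    (q : Ideal S) [q.IsPrime] (q'' : Ideal (T ⊗[R] S)) [q''.IsPrime] [q''.LiesOver q]
    [Algebra.IsSmoothAt T q''] : Algebra.IsSmoothAt R q := by
  let A := T ⊗[R] S
  have hpo : Algebra.IsPushout R T S A := TensorProduct.isPushout
  have hflat : Module.Flat S A := Module.Flat.isBaseChange R S T A hpo.symm.out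
  have : Module.Flat S (Localization.AtPrime q'') := Module.Flat.trans S A _
  have h : (⟨q'', inferInstance⟩ : PrimeSpectrum A) ∈ smoothLocus T A := ‹IsSmoothAt T q''›
  rw [smoothLocus_eq_compl_support_inter] at h
  change (⟨q, inferInstance⟩ : PrimeSpectrum S) ∈ smoothLocus R S
  rw [smoothLocus_eq_compl_support_inter]
  refine ⟨fun hq => h.1 ?_, ?_⟩
  · have := mem_support_baseChange_of_flat (H1Cotangent R S) q q'' hq
    exact Module.support_subset_of_injective _
      (injective_liftBaseChange_h1Cotangent_map R S T) this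
  · apply mem_freeLocus_of_baseChange_of_flat Ω[S⁄R] q q''
    rw [Module.freeLocus_congr (KaehlerDifferential.tensorKaehlerEquiv R T S A)]
    exact h.2

attribute [local instance] Algebra.TensorProduct.rightAlgebra in
/-- Smoothness at a point descends along base change which is flat at the point. -/
theorem isSmoothAt_of_isPushout_of_flat {R S R' S' : Type u} [CommRing R] [CommRing S]
    [CommRing R'] [CommRing S'] [Algebra R S] [Algebra R R'] [Algebra S S'] [Algebra R' S']
    [Algebra R S'] [IsScalarTower R R' S'] [IsScalarTower R S S'] [Algebra.IsPushout R S R' S']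
    [Algebra.FinitePresentation R S]
    (p' : Ideal R') [p'.IsPrime] (q : Ideal S) [q.IsPrime] (q' : Ideal S') [q'.IsPrime]
    [q'.LiesOver p'] [q'.LiesOver q]
    [Module.Flat R (Localization.AtPrime p')] [Algebra.IsSmoothAt R' q'] :
    Algebra.IsSmoothAt R q := by
  let T := Localization.AtPrime p'
  let ST := Localization (algebraMapSubmonoid S' p'.primeCompl)
  let N := Localization.AtPrime q'
  have h1 : Algebra.IsPushout R' T S' ST :=
    .symm <| Algebra.isPushout_of_isLocalization p'.primeCompl _ _ _
  have h0 : Algebra.IsPushout R R' S S' := .symm inferInstance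
  have : IsScalarTower R T ST := .to₁₃₄ R R' T ST
  have : IsScalarTower R S ST := .to₁₂₄ R S S' ST
  have h2 : Algebra.IsPushout R T S ST :=
    (Algebra.IsPushout.comp_iff R R' S (S' := S') (T := T) (T' := ST)).mpr h1
  let f : ST →ₐ[S'] N := IsLocalization.liftAlgHom (M := algebraMapSubmonoid S' p'.primeCompl)
        (f := Algebra.ofId _ _) (by
      rintro ⟨_, x, hx, rfl⟩
      simpa using! IsLocalization.map_units (M := q'.primeCompl) N ⟨algebraMap _ _ x,
        by simp_all [q'.over_def p']⟩)
  algebraize [f.toRingHom]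
  have : IsScalarTower S' ST N := .of_algebraMap_eq' f.comp_algebraMap.symm
  have : IsScalarTower S ST N := .to₁₃₄ _ S' _ _
  have hloc : IsLocalization (algebraMapSubmonoid ST q'.primeCompl) N :=
    .isLocalization_of_submonoid_le _ _ (algebraMapSubmonoid S' p'.primeCompl) _
    (by rintro _ ⟨x, hx, rfl⟩; simp_all [q'.over_def p'])
  -- the `T`-algebra structure on `N`
  let _ : Algebra T N := ((algebraMap ST N).comp (algebraMap T ST)).toAlgebra
  have : IsScalarTower T ST N := .of_algebraMap_eq' rfl
  have : IsScalarTower R' ST N := .to₁₃₄ R' S' ST N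
  have : IsScalarTower R' T N := .to₁₂₄ R' T ST N
  have hsmT : Algebra.FormallySmooth T N :=
    Algebra.FormallySmooth.of_restrictScalars (R := R') (A := T) (B := N)
  -- the prime of `ST`
  let qST : Ideal ST := (IsLocalRing.maximalIdeal N).comap (algebraMap ST N)
  have : qST.IsPrime := Ideal.comap_isPrime _ _
  have hlocST : IsLocalization.AtPrime N qST := by
    refine IsLocalization.of_le (algebraMapSubmonoid ST q'.primeCompl) _ ?_ ?_
    · rintro _ ⟨x, hx, rfl⟩
      change algebraMap ST N (algebraMap S' ST x) ∉ IsLocalRing.maximalIdeal N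
      rw [← IsScalarTower.algebraMap_apply, IsLocalRing.mem_maximalIdeal, mem_nonunits_iff,
        not_not]
      exact IsLocalization.map_units (M := q'.primeCompl) N ⟨x, hx⟩
    · intro r hr
      by_contra hr'
      exact hr ((IsLocalRing.mem_maximalIdeal _).mpr hr')
  let e : T ⊗[R] S ≃ₐ[T] ST := Algebra.IsPushout.equiv R T S ST
  let q'' : Ideal (T ⊗[R] S) := qST.comap (e : T ⊗[R] S →ₐ[T] ST)
  have : q''.IsPrime := Ideal.comap_isPrime _ _
  have hq''q : q''.LiesOver q := by
    constructor
    ext s
    have he : e (algebraMap S (T ⊗[R] S) s) = algebraMap S ST s := by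
      change e ((1 : T) ⊗ₜ[R] s) = _
      rw [Algebra.IsPushout.equiv_tmul, map_one, one_mul]
    change s ∈ q ↔ e (algebraMap S (T ⊗[R] S) s) ∈ qST
    rw [he]
    change s ∈ q ↔ algebraMap ST N (algebraMap S ST s) ∈ IsLocalRing.maximalIdeal N
    rw [← IsScalarTower.algebraMap_apply, IsScalarTower.algebraMap_apply S S' N,
      ← Ideal.mem_comap, ← Ideal.under_def, IsLocalization.AtPrime.under_maximalIdeal N q',
      q'.over_def q, Ideal.under_def, Ideal.mem_comap]
  have hsm'' : Algebra.IsSmoothAt T q'' := by
    let e1 : Localization.AtPrime q'' ≃ₐ[T] Localization.AtPrime qST :=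
      Localization.localAlgEquiv q'' qST e rfl
    let e2 : Localization.AtPrime qST ≃ₐ[ST] N :=
      IsLocalization.algEquiv qST.primeCompl (Localization.AtPrime qST) N
    exact Algebra.FormallySmooth.of_equiv (e1.trans (e2.restrictScalars T)).symm
  exact isSmoothAt_of_tensorProduct_of_flat q q''

end Groth.Agent.Lib.Helper13
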