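import Mathlib.AlgebraicGeometry.QuasiAffine
import Mathlib.AlgebraicGeometry.AffineTransitionLimit

set_option autoImplicit false

universe u

namespace Groth.Agent.Lib.Helper13

open AlgebraicGeometry CategoryTheory CategoryTheory.Limits TopologicalSpace

/-- A quasi-compact scheme is quasi-affine if it can be covered by quasi-affine basic opens of
global sections. -/
lemma isQuasiAffine_of_forall_exists_mem_basicOpen (X : Scheme.{u}) [CompactSpace X]
    (H : ∀ x : X, ∃ r : Γ(X, ⊤), Scheme.IsQuasiAffine (X.basicOpen r : Scheme.{u}) ∧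
      x ∈ X.basicOpen r) :
    X.IsQuasiAffine := by
  suffices IsOpenImmersion X.toSpecΓ by constructor
  have : QuasiSeparatedSpace X := by
    choose r hr hxr using H
    exact .of_isOpenCover (U := (X.basicOpen <| r ·))
      (eq_top_iff.mpr fun _ _ ↦ Opens.mem_iSup.mpr ⟨_, hxr _⟩)
      (fun _ ↦ isRetrocompact_basicOpen _) (fun x ↦ by
        have := hr x
        have h : QuasiSeparatedSpace ((X.basicOpen (r x) : X.Opens) : Scheme.{u}) := inferInstance
        exact (isQuasiSeparated_iff_quasiSeparatedSpace _ (X.basicOpen (r x)).2).mpr h)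
  refine IsZariskiLocalAtTarget.of_forall_source_exists_preimage _ fun x ↦ ?_
  obtain ⟨r, hr, hxr⟩ := H x
  refine ⟨PrimeSpectrum.basicOpen r, (X.toSpecΓ_preimage_basicOpen r).ge hxr, ?_⟩
  suffices IsOpenImmersion ((X.basicOpen r).ι ≫ X.toSpecΓ) by
    convert! this <;> rw [Scheme.toSpecΓ_preimage_basicOpen]
  rw [← Scheme.Opens.toSpecΓ_SpecMap_presheaf_map_top]
  have := isLocalization_basicOpen_of_qcqs isCompact_univ isQuasiSeparated_univ r
  have h1 : IsOpenImmersion (X.basicOpen r).toSpecΓ := by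
    delta Scheme.Opens.toSpecΓ
    infer_instance
  have h2 : IsOpenImmersion (Spec.map (X.presheaf.map (homOfLE (le_top : X.basicOpen r ≤ ⊤)).op)) :=
    .of_isLocalization r
  infer_instance

/-- Quasi-affineness of the preimages of affine opens can be checked on a cover. -/
lemma isQuasiAffine_preimage_of_cover {X Y : Scheme.{u}} (f : X ⟶ Y) [QuasiCompact f]
    (V : Y.Opens) (hV : IsAffineOpen V)
    (H : ∀ y ∈ V, ∃ W : Y.Opens, y ∈ W ∧ IsAffineOpen W ∧
      Scheme.IsQuasiAffine (f ⁻¹ᵁ W : Scheme.{u})) :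
    Scheme.IsQuasiAffine (f ⁻¹ᵁ V : Scheme.{u}) := by
  have : CompactSpace ↑(f ⁻¹ᵁ V) :=
    isCompact_iff_compactSpace.mp (f.isCompact_preimage hV.isCompact)
  refine isQuasiAffine_of_forall_exists_mem_basicOpen _ fun z => ?_
  have hz : f ((f ⁻¹ᵁ V).ι z) ∈ V := z.2
  obtain ⟨W, hyW, hW, hqa⟩ := H _ hz
  obtain ⟨h, h', e, hy⟩ := exists_basicOpen_le_affine_inter hV hW _ ⟨hz, hyW⟩
  let s : Γ(X, f ⁻¹ᵁ V) := f.app V h
  let r : Γ(↑(f ⁻¹ᵁ V), ⊤) := (f ⁻¹ᵁ V).topIso.inv s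
  have hr : (f ⁻¹ᵁ V).ι ''ᵁ ((f ⁻¹ᵁ V : Scheme.{u}).basicOpen r) = f ⁻¹ᵁ (Y.basicOpen h) := by
    rw [Scheme.Opens.ι_image_basicOpen_topIso_inv, Scheme.preimage_basicOpen]
  have hle : f ⁻¹ᵁ (Y.basicOpen h) ≤ f ⁻¹ᵁ W := by
    rw [e]
    exact f.preimage_mono (Y.basicOpen_le h')
  refine ⟨r, ?_, ?_⟩
  · have hrange : Set.range (((f ⁻¹ᵁ V : Scheme.{u}).basicOpen r).ι ≫ (f ⁻¹ᵁ V).ι) ⊆
        Set.range (f ⁻¹ᵁ W).ι := by
      rintro _ ⟨a, rfl⟩
      have : (f ⁻¹ᵁ V).ι (((f ⁻¹ᵁ V : Scheme.{u}).basicOpen r).ι a) ∈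
          (f ⁻¹ᵁ V).ι ''ᵁ ((f ⁻¹ᵁ V : Scheme.{u}).basicOpen r) := ⟨_, a.2, rfl⟩
      rw [hr] at this
      simpa using hle this
    let φ := IsOpenImmersion.lift (f ⁻¹ᵁ W).ι
      (((f ⁻¹ᵁ V : Scheme.{u}).basicOpen r).ι ≫ (f ⁻¹ᵁ V).ι) hrange
    have hφ : φ ≫ (f ⁻¹ᵁ W).ι = ((f ⁻¹ᵁ V : Scheme.{u}).basicOpen r).ι ≫ (f ⁻¹ᵁ V).ι :=
      IsOpenImmersion.lift_fac _ _ _
    have : IsOpenImmersion φ := by
      have : IsOpenImmersion (φ ≫ (f ⁻¹ᵁ W).ι) := by rw [hφ]; infer_instance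
      exact IsOpenImmersion.of_comp φ (f ⁻¹ᵁ W).ι
    have : CompactSpace ↑((f ⁻¹ᵁ V : Scheme.{u}).basicOpen r) :=
      isCompact_iff_compactSpace.mp (isCompact_basicOpen _ isCompact_univ r)
    exact Scheme.IsQuasiAffine.of_isImmersion φ
  · have : (f ⁻¹ᵁ V).ι z ∈ (f ⁻¹ᵁ V).ι ''ᵁ ((f ⁻¹ᵁ V : Scheme.{u}).basicOpen r) := by
      rw [hr]; exact hy
    obtain ⟨z', hz', hzz'⟩ := this
    obtain rfl : z' = z := (f ⁻¹ᵁ V).ι.isOpenEmbedding.injective hzz'
    exact hz'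

section general

variable {I : Type u} [Category.{u} I] [IsCofiltered I] (D : I ⥤ Scheme.{u}) (c : Cone D)
  (hc : IsLimit c) [∀ {i j} (f : i ⟶ j), IsAffineHom (D.map f)]
  [∀ i, QuasiSeparatedSpace (D.obj i)]

include hc in
/-- If the preimage in the limit of a quasi-compact open is quasi-affine, then so is its preimage
in some finite stage. -/
lemma exists_isQuasiAffine_map_preimage {i : I} (T : (D.obj i).Opens)
    (hT : IsCompact (T : Set (D.obj i)))
    (h : Scheme.IsQuasiAffine (c.π.app i ⁻¹ᵁ T : Scheme.{u})) :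
    ∃ (k : I) (f : k ⟶ i), Scheme.IsQuasiAffine (D.map f ⁻¹ᵁ T : Scheme.{u}) := by
  have (j : Over i) : CompactSpace ((opensDiagram D i T).obj j) :=
    isCompact_iff_compactSpace.mp (QuasiCompact.isCompact_preimage _ T.2 hT)
  have (j : Over i) : QuasiSeparatedSpace ((opensDiagram D i T).obj j) :=
    (isQuasiSeparated_iff_quasiSeparatedSpace _ (D.map _ ⁻¹ᵁ _).2).mp (.of_quasiSeparatedSpace _)
  have : Scheme.IsQuasiAffine (opensCone D c i T).pt := h
  obtain ⟨j, hj⟩ := Scheme.exists_isQuasiAffine_of_isLimit _ _ (isLimitOpensCone D c hc i T)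
  exact ⟨j.left, j.hom, hj⟩

end general

/-- Quasi-affineness of an open subscheme only depends on the open. -/
lemma isQuasiAffine_of_eq {X : Scheme.{u}} {U V : X.Opens} (h : U = V)
    (hU : Scheme.IsQuasiAffine (U : Scheme.{u})) : Scheme.IsQuasiAffine (V : Scheme.{u}) :=
  h ▸ hU

/-- The preimage under an affine morphism of a quasi-affine open is quasi-affine. -/
lemma isQuasiAffine_preimage_of_isAffineHom {X Y : Scheme.{u}} (f : X ⟶ Y) [IsAffineHom f]
    (U : Y.Opens) (hU : Scheme.IsQuasiAffine (U : Scheme.{u})) :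
    Scheme.IsQuasiAffine (f ⁻¹ᵁ U : Scheme.{u}) :=
  have : IsAffineHom (f ∣_ U) := IsZariskiLocalAtTarget.restrict ‹_› U
  Scheme.IsQuasiAffine.of_isAffineHom (f ∣_ U)

end Groth.Agent.Lib.Helper13
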