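import Groth.Agent.Lib.Helper13.QuasiFiniteFamily

set_option autoImplicit false

namespace Groth.Agent.Lib.Helper13

open CategoryTheory CategoryTheory.Limits AlgebraicGeometry

universe u

/-- Quasi-finite quasi-sections (EGA IV 17.16.1 without flatness). -/
theorem exists_quasiFinite_quasiSection {X S : Scheme.{u}} (f : X ⟶ S)
    [LocallyOfFinitePresentation f] [Surjective f] :
    ∃ (S' : Scheme.{u}) (g : S' ⟶ S) (h : S' ⟶ X), h ≫ f = g ∧ LocallyOfFinitePresentation g ∧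
      LocallyQuasiFinite g ∧ Surjective g ∧ (CompactSpace S → IsAffine S') := by
  -- the full family
  let ι : Type u := Σ U : S.affineOpens, ↥(Spec Γ(S, U.1))
  have key : ∀ p : ι, ∃ (Z : Scheme.{u}) (h : Z ⟶ X) (g' : Z ⟶ Spec Γ(S, p.1.1)), IsAffine Z ∧
      g' ≫ p.1.2.fromSpec = h ≫ f ∧ LocallyOfFinitePresentation g' ∧ LocallyQuasiFinite g' ∧
      p.2 ∈ Set.range g' := fun p => exists_affine_quasiFinite_over_point' f p.1.2 p.2
  choose Z h g' hZ hg hfp hqf hmem using key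
  have H1 : ∀ p, LocallyOfFinitePresentation (h p ≫ f) := fun p => by
    rw [← hg p]; have := hfp p; infer_instance
  have H2 : ∀ p, LocallyQuasiFinite (h p ≫ f) := fun p => by
    rw [← hg p]; have := hqf p; infer_instance
  have hrange : ∀ p : ι, p.1.2.fromSpec p.2 ∈ Set.range (h p ≫ f) := fun p => by
    obtain ⟨z, hz⟩ := hmem p
    refine ⟨z, ?_⟩
    rw [← hg p, Scheme.Hom.comp_apply, hz]
  by_cases hS : CompactSpace S
  · -- finitely many affine opens cover `S`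
    obtain ⟨𝒰, h𝒰⟩ := isCompact_univ.elim_finite_subcover
      (fun U : S.affineOpens => (U.1 : Set S)) (fun U => U.1.2) (by
        intro s _
        obtain ⟨_, ⟨U, hU, rfl⟩, hsU, -⟩ :=
          S.isBasis_affineOpens.exists_subset_of_mem_open (Set.mem_univ s) isOpen_univ
        exact Set.mem_iUnion.2 ⟨⟨U, hU⟩, hsU⟩)
    -- for each `U`, finitely many points suffice
    have hT : ∀ U : S.affineOpens, ∃ T : Finset (Spec Γ(S, U.1)),
        ∀ y : Spec Γ(S, U.1), ∃ y' ∈ T,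
          y ∈ (Set.range (g' ⟨U, y'⟩) : Set (Spec Γ(S, U.1))) := by
      intro U
      refine exists_finset_cover_of_isConstructible
        (fun y' => (Set.range (g' ⟨U, y'⟩) : Set (Spec Γ(S, U.1)))) ?_
        (fun y => ⟨y, hmem ⟨U, y⟩⟩)
      intro y'
      have := hfp ⟨U, y'⟩
      have := hZ ⟨U, y'⟩
      have : QuasiCompact (g' ⟨U, y'⟩) := inferInstance
      rw [← Set.image_univ]
      exact (g' ⟨U, y'⟩).isConstructible_image Topology.IsConstructible.univ
    choose T hT using hT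
    let ι' : Type u := Σ U : {U // U ∈ 𝒰}, {y' // y' ∈ T U.1}
    let e : ι' → ι := fun p => ⟨p.1.1, p.2.1⟩
    have : Finite ι' := inferInstance
    obtain ⟨S', g, hh, h1, h2, h3, h4, h5⟩ := exists_of_family f (fun p : ι' => Z (e p))
      (fun p => h (e p)) (fun p => H1 (e p)) (fun p => H2 (e p)) (by
        intro s
        obtain ⟨U, hU𝒰, hsU⟩ : ∃ U ∈ 𝒰, s ∈ (U.1 : Set S) := by
          simpa using h𝒰 (Set.mem_univ s)
        let y := U.2.primeIdealOf ⟨s, hsU⟩
        obtain ⟨y', hy'T, z, hz⟩ := hT U y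
        refine ⟨⟨⟨U, hU𝒰⟩, ⟨y', hy'T⟩⟩, z, ?_⟩
        change (h ⟨U, y'⟩ ≫ f) z = s
        rw [← hg ⟨U, y'⟩, Scheme.Hom.comp_apply, hz]
        exact U.2.fromSpec_primeIdealOf ⟨s, hsU⟩)
    exact ⟨S', g, hh, h1, h2, h3, h4, fun _ => h5 ⟨inferInstance, fun p => hZ (e p)⟩⟩
  · obtain ⟨S', g, hh, h1, h2, h3, h4, -⟩ := exists_of_family f Z h H1 H2 (by
      intro s
      obtain ⟨_, ⟨U, hU, rfl⟩, hsU, -⟩ :=
        S.isBasis_affineOpens.exists_subset_of_mem_open (Set.mem_univ s) isOpen_univ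
      refine ⟨⟨⟨U, hU⟩, hU.primeIdealOf ⟨s, hsU⟩⟩, ?_⟩
      have := hrange ⟨⟨U, hU⟩, hU.primeIdealOf ⟨s, hsU⟩⟩
      rwa [hU.fromSpec_primeIdealOf ⟨s, hsU⟩] at this)
    exact ⟨S', g, hh, h1, h2, h3, h4, fun hc => absurd hc hS⟩

end Groth.Agent.Lib.Helper13
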