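import Groth.Agent.Lib.Helper13.PCDerived

set_option autoImplicit false
set_option linter.style.haveILetI false

universe w v u

namespace Groth.Agent.Lib.Helper13.PC

open CategoryTheory CategoryTheory.Limits HomologicalComplex CochainComplex PCoh Pretriangulated
  ZeroObject DerivedCategory

variable {C : Type u} [Category.{v} C] [Abelian C] [HasDerivedCategory.{w} C]
variable {P : ObjectProperty C} [P.IsClosedUnderIsomorphisms] [P.ContainsZero]

/-- The cone of a morphism from an `(n+1)`-pseudo-coherent object to an `n`-pseudo-coherent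
object is `n`-pseudo-coherent. -/
theorem isNPC_obj₃ (hsum : ∀ X Y : C, P X → P Y → P (X ⨯ Y))
    (hqs : IsQuasiStableUnderKernels P) (hql : IsQuasiLiftable P) {n : ℤ}
    (T : Triangle (DerivedCategory C)) (hT : T ∈ distTriang _)
    (h₁ : IsNPC P (n + 1) T.obj₁) (h₂ : IsNPC P n T.obj₂) : IsNPC P n T.obj₃ := by
  obtain ⟨E₁, hE₁, ⟨e₁⟩⟩ := h₁
  obtain ⟨E₂, ⟨⟨b₂, hb₂⟩, hP₂⟩, ⟨e₂⟩⟩ := h₂
  obtain ⟨E', s, hs, g, hfac⟩ := right_fac (e₁.hom ≫ T.mor₁ ≫ e₂.inv)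
  have hs' : QuasiIso s := (isIso_Q_map_iff_quasiIso C s).1 hs
  obtain ⟨E'', t, ⟨⟨b₁, hb₁⟩, hP₁⟩, ht⟩ := exists_strictPC_quasiIso hsum hqs hql (n + 1) hE₁ s
  let φ : E'' ⟶ E₂ := t ≫ g
  have hg : Q.map s ≫ e₁.hom ≫ T.mor₁ ≫ e₂.inv = Q.map g := by
    rw [hfac, IsIso.hom_inv_id_assoc]
  let i₁ : Q.obj E'' ≅ T.obj₁ := asIso (Q.map t) ≪≫ asIso (Q.map s) ≪≫ e₁
  have comm : (Q.mapTriangle.obj (mappingCone.triangle φ)).mor₁ ≫ e₂.hom = i₁.hom ≫ T.mor₁ := by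
    have : Q.map φ = Q.map t ≫ Q.map s ≫ e₁.hom ≫ T.mor₁ ≫ e₂.inv := by
      rw [hg, ← Functor.map_comp]
    change Q.map φ ≫ e₂.hom = _
    rw [this]
    simp [i₁]
  let eT := isoTriangleOfIso₁₂ _ _ (mappingCone_triangle_distinguished φ) hT i₁ e₂ comm
  refine ⟨mappingCone φ, ⟨⟨max b₁ b₂, fun i hi => ?_⟩, fun i hi => ?_⟩,
    ⟨Triangle.π₃.mapIso eT⟩⟩
  · rw [mappingCone.isZero_X_iff]
    exact ⟨hb₁ _ (by have := le_max_left b₁ b₂; lia), hb₂ _ (by have := le_max_right b₁ b₂; lia)⟩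
  · exact prop_mappingCone_X P hsum φ i (i + 1) rfl (hP₁ _ (by lia)) (hP₂ i hi)


/-- If the outer terms of a distinguished triangle are `n`-pseudo-coherent, so is the middle
one. -/
theorem isNPC_obj₂ (hsum : ∀ X Y : C, P X → P Y → P (X ⨯ Y))
    (hqs : IsQuasiStableUnderKernels P) (hql : IsQuasiLiftable P) {n : ℤ}
    (T : Triangle (DerivedCategory C)) (hT : T ∈ distTriang _)
    (h₁ : IsNPC P n T.obj₁) (h₃ : IsNPC P n T.obj₃) : IsNPC P n T.obj₂ := by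
  have h := h₃.shift (-1)
  rw [show n - -1 = n + 1 by ring] at h
  exact isNPC_obj₃ hsum hqs hql T.invRotate (inv_rot_of_distTriang _ hT) h h₁

/-- If in a distinguished triangle the second term is `(n+1)`-pseudo-coherent and the third
`n`-pseudo-coherent, the first is `(n+1)`-pseudo-coherent. -/
theorem isNPC_obj₁ (hsum : ∀ X Y : C, P X → P Y → P (X ⨯ Y))
    (hqs : IsQuasiStableUnderKernels P) (hql : IsQuasiLiftable P) {n : ℤ}
    (T : Triangle (DerivedCategory C)) (hT : T ∈ distTriang _)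
    (h₂ : IsNPC P (n + 1) T.obj₂) (h₃ : IsNPC P n T.obj₃) : IsNPC P (n + 1) T.obj₁ := by
  have h := (isNPC_obj₃ hsum hqs hql T.rotate (rot_of_distTriang _ hT) h₂ h₃).shift (-1)
  rw [show n - -1 = n + 1 by ring] at h
  exact h.of_iso (shiftShiftNeg T.obj₁ (1 : ℤ))

end Groth.Agent.Lib.Helper13.PC
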