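import Groth.Agent.Lib.Helper13.PCProj

set_option autoImplicit false

universe w v u

namespace Groth.Agent.Lib.Helper13.PC

open CategoryTheory CategoryTheory.Limits HomologicalComplex CochainComplex PCoh Pretriangulated
  ZeroObject DerivedCategory

variable {C : Type u} [Category.{v} C] [Abelian C]

/-- Canonical truncation below, keeping a property of the terms. -/
theorem exists_truncGE_of_prop (Pr : ObjectProperty C) [Pr.IsClosedUnderIsomorphisms]
    [Pr.ContainsZero] (P : CochainComplex C ℤ) (a b : ℤ)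
    (hb : ∀ i : ℤ, b < i → IsZero (P.X i)) (hP : ∀ i : ℤ, Pr (P.X i))
    (hac : ∀ i : ℤ, i < a → IsZero (P.homology i)) (hop : Pr (P.opcycles a)) :
    ∃ (E : CochainComplex C ℤ) (f : P ⟶ E), QuasiIso f ∧
      (∀ i : ℤ, i < a ∨ b < i → IsZero (E.X i)) ∧ (∀ i : ℤ, Pr (E.X i)) := by
  have : P.IsGE a := by
    rw [CochainComplex.isGE_iff]
    intro i hi
    rw [exactAt_iff_isZero_homology]
    exact hac i hi
  have hq : QuasiIso (P.πTruncGE a) := inferInstance
  refine ⟨P.truncGE a, P.πTruncGE a, hq, ?_, ?_⟩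
  · rintro i (hi | hi)
    · exact CochainComplex.isZero_of_isStrictlyGE _ a i hi
    · by_cases h : a < i
      · exact (hb i hi).of_iso (P.truncGEXIso a i h)
      · by_cases h' : i = a
        · subst h'
          refine IsZero.of_iso ?_ (P.truncGEXIsoOpcycles i)
          rw [IsZero.iff_id_eq_zero, ← cancel_epi (P.pOpcycles i)]
          exact (hb i hi).eq_of_src _ _
        · exact CochainComplex.isZero_of_isStrictlyGE _ a i (by lia)
  · intro i
    by_cases h : a < i
    · exact Pr.prop_of_iso (P.truncGEXIso a i h).symm (hP i)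
    · by_cases h' : i = a
      · subst h'
        exact Pr.prop_of_iso (P.truncGEXIsoOpcycles i).symm hop
      · exact Pr.prop_of_isZero (CochainComplex.isZero_of_isStrictlyGE _ a i (by lia))

/-- Canonical truncation above, keeping a property of the terms. -/
theorem exists_truncLE_of_prop (Pr : ObjectProperty C) [Pr.IsClosedUnderIsomorphisms]
    [Pr.ContainsZero] (P : CochainComplex C ℤ) (b : ℤ) (hP : ∀ i : ℤ, Pr (P.X i))
    (hac : ∀ i : ℤ, b < i → IsZero (P.homology i)) (hcyc : Pr (P.cycles b)) :
    ∃ (E : CochainComplex C ℤ) (f : E ⟶ P), QuasiIso f ∧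
      (∀ i : ℤ, b < i → IsZero (E.X i)) ∧ (∀ i : ℤ, Pr (E.X i)) ∧
      (∀ a : ℤ, (∀ i : ℤ, i < a → IsZero (P.X i)) → ∀ i : ℤ, i < a → IsZero (E.X i)) := by
  have : P.IsLE b := by
    rw [CochainComplex.isLE_iff]
    intro i hi
    rw [exactAt_iff_isZero_homology]
    exact hac i hi
  have hq : QuasiIso (P.ιTruncLE b) := inferInstance
  refine ⟨P.truncLE b, P.ιTruncLE b, hq, ?_, ?_, ?_⟩
  · intro i hi
    exact CochainComplex.isZero_of_isStrictlyLE _ b i hi
  · intro i
    by_cases h : i < b
    · exact Pr.prop_of_iso (P.truncLEXIso b i h).symm (hP i)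
    · by_cases h' : i = b
      · subst h'
        exact Pr.prop_of_iso (P.truncLEXIsoCycles i).symm hcyc
      · exact Pr.prop_of_isZero (CochainComplex.isZero_of_isStrictlyLE _ b i (by lia))
  · intro a ha i hi
    by_cases h : i < b
    · exact (ha i hi).of_iso (P.truncLEXIso b i h)
    · by_cases h' : i = b
      · subst h'
        refine IsZero.of_iso ?_ (P.truncLEXIsoCycles i)
        rw [IsZero.iff_id_eq_zero, ← cancel_mono (P.iCycles i)]
        exact (ha i hi).eq_of_tgt _ _
      · exact CochainComplex.isZero_of_isStrictlyLE _ b i (by lia)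

end Groth.Agent.Lib.Helper13.PC
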