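import Mathlib.Algebra.Homology.HomotopyCategory.MappingCone
import Mathlib.Algebra.Homology.Refinements
import Mathlib.Algebra.Homology.QuasiIso
import Mathlib.Algebra.Homology.Embedding.CochainComplex
import Mathlib.Tactic.LinearCombination
import Mathlib.Tactic.Abel
import Mathlib.Tactic.Linarith

set_option autoImplicit false
set_option linter.unusedSimpArgs false

universe v u

namespace Groth.Agent.Lib.Helper13.PC

open CategoryTheory CategoryTheory.Limits HomologicalComplex CochainComplex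

variable {C : Type u} [Category.{v} C] [Abelian C]
variable {E F M' : CochainComplex C ℤ} (u : E ⟶ F) (ι : M' ⟶ mappingCone u)

/-- `θ : M'^p → E^q`, `q = p + 1`. -/
noncomputable def twθ (p q : ℤ) (hpq : p + 1 = q) : M'.X p ⟶ E.X q :=
  ι.f p ≫ (mappingCone.fst u).1.v p q hpq

/-- `σ : M'^p → F^p`. -/
noncomputable def twσ (p : ℤ) : M'.X p ⟶ F.X p :=
  ι.f p ≫ (mappingCone.snd u).v p p (add_zero p)

@[reassoc]
lemma twθ_d (p q r : ℤ) (hpq : p + 1 = q) (hqr : q + 1 = r) :
    twθ u ι p q hpq ≫ E.d q r = - M'.d p q ≫ twθ u ι q r hqr := by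
  simp only [twθ, Category.assoc]
  rw [← ι.comm_assoc, mappingCone.d_fst_v u p q r hpq hqr]
  simp

@[reassoc]
lemma twσ_d (p q : ℤ) (hpq : p + 1 = q) :
    M'.d p q ≫ twσ u ι q = twθ u ι p q hpq ≫ u.f q + twσ u ι p ≫ F.d p q := by
  simp only [twθ, twσ, Category.assoc]
  rw [← ι.comm_assoc, mappingCone.d_snd_v u p q hpq]
  simp

/-- The differential of the twisted sum. -/
noncomputable def twD (i : ℤ) : (M'.X i ⊞ E.X i) ⟶ (M'.X (i + 1) ⊞ E.X (i + 1)) :=
  biprod.fst ≫ M'.d i (i + 1) ≫ biprod.inl + biprod.fst ≫ twθ u ι i (i + 1) rfl ≫ biprod.inr +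
    biprod.snd ≫ E.d i (i + 1) ≫ biprod.inr

lemma twD_sq (i : ℤ) : twD u ι i ≫ twD u ι (i + 1) = 0 := by
  simp only [twD, Preadditive.add_comp, Preadditive.comp_add, Category.assoc,
    biprod.inl_fst_assoc, biprod.inr_fst_assoc, biprod.inl_snd_assoc, biprod.inr_snd_assoc,
    zero_comp, comp_zero, add_zero, zero_add, HomologicalComplex.d_comp_d_assoc]
  rw [twθ_d_assoc u ι i (i + 1) (i + 1 + 1) rfl rfl]
  simp

/-- The twisted sum `M' ⊕_θ E`: the complex with terms `M'^i ⊞ E^i` and differential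
`(m, e) ↦ (d m, θ m + d e)`. -/
noncomputable def twist : CochainComplex C ℤ :=
  CochainComplex.of (fun i => M'.X i ⊞ E.X i) (twD u ι) (twD_sq u ι)

noncomputable def twFst (i : ℤ) : (twist u ι).X i ⟶ M'.X i := biprod.fst
noncomputable def twSnd (i : ℤ) : (twist u ι).X i ⟶ E.X i := biprod.snd
noncomputable def twInl (i : ℤ) : M'.X i ⟶ (twist u ι).X i := biprod.inl
noncomputable def twInr (i : ℤ) : E.X i ⟶ (twist u ι).X i := biprod.inr

@[reassoc (attr := simp)]
lemma twInl_fst (i : ℤ) : twInl u ι i ≫ twFst u ι i = 𝟙 _ := biprod.inl_fst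
@[reassoc (attr := simp)]
lemma twInl_snd (i : ℤ) : twInl u ι i ≫ twSnd u ι i = 0 := biprod.inl_snd
@[reassoc (attr := simp)]
lemma twInr_fst (i : ℤ) : twInr u ι i ≫ twFst u ι i = 0 := biprod.inr_fst
@[reassoc (attr := simp)]
lemma twInr_snd (i : ℤ) : twInr u ι i ≫ twSnd u ι i = 𝟙 _ := biprod.inr_snd

lemma tw_total (i : ℤ) : twFst u ι i ≫ twInl u ι i + twSnd u ι i ≫ twInr u ι i = 𝟙 _ :=
  biprod.total

lemma tw_ext_to {A : C} {i : ℤ} {f g : A ⟶ (twist u ι).X i}
    (h₁ : f ≫ twFst u ι i = g ≫ twFst u ι i) (h₂ : f ≫ twSnd u ι i = g ≫ twSnd u ι i) : f = g :=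
  biprod.hom_ext _ _ h₁ h₂

lemma tw_ext_from {A : C} {i : ℤ} {f g : (twist u ι).X i ⟶ A}
    (h₁ : twInl u ι i ≫ f = twInl u ι i ≫ g) (h₂ : twInr u ι i ≫ f = twInr u ι i ≫ g) : f = g :=
  biprod.hom_ext' _ _ h₁ h₂

lemma twist_d (i j : ℤ) (hij : i + 1 = j) :
    (twist u ι).d i j = twFst u ι i ≫ M'.d i j ≫ twInl u ι j +
      twFst u ι i ≫ twθ u ι i j hij ≫ twInr u ι j + twSnd u ι i ≫ E.d i j ≫ twInr u ι j := by
  subst hij
  exact CochainComplex.of_d (fun i => M'.X i ⊞ E.X i) (twD u ι) i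

@[reassoc]
lemma twist_d_fst (i j : ℤ) (hij : i + 1 = j) :
    (twist u ι).d i j ≫ twFst u ι j = twFst u ι i ≫ M'.d i j := by
  simp [twist_d u ι i j hij]

@[reassoc]
lemma twist_d_snd (i j : ℤ) (hij : i + 1 = j) :
    (twist u ι).d i j ≫ twSnd u ι j = twFst u ι i ≫ twθ u ι i j hij + twSnd u ι i ≫ E.d i j := by
  simp [twist_d u ι i j hij]

@[reassoc]
lemma twInl_d (i j : ℤ) (hij : i + 1 = j) :
    twInl u ι i ≫ (twist u ι).d i j = M'.d i j ≫ twInl u ι j + twθ u ι i j hij ≫ twInr u ι j := by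
  simp [twist_d u ι i j hij]

@[reassoc]
lemma twInr_d (i j : ℤ) (hij : i + 1 = j) :
    twInr u ι i ≫ (twist u ι).d i j = E.d i j ≫ twInr u ι j := by
  simp [twist_d u ι i j hij]

/-- The inclusion `E ⟶ M' ⊕_θ E`. -/
noncomputable def twistInr : E ⟶ twist u ι :=
  CochainComplex.ofHom (fun i => twInr u ι i) (fun i => by rw [twInr_d u ι i (i + 1) rfl])

@[simp]
lemma twistInr_f (i : ℤ) : (twistInr u ι).f i = twInr u ι i := rfl

/-- The map `M' ⊕_θ E ⟶ F`, `(m, e) ↦ u e - σ m`. -/
noncomputable def twistDesc : twist u ι ⟶ F :=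
  CochainComplex.ofHom (fun i => twSnd u ι i ≫ u.f i - twFst u ι i ≫ twσ u ι i) (fun i => by
    apply tw_ext_from
    · simp [twInl_d_assoc u ι i (i + 1) rfl, twσ_d u ι i (i + 1) rfl]
    · simp [twInr_d_assoc u ι i (i + 1) rfl])

@[simp]
lemma twistDesc_f (i : ℤ) :
    (twistDesc u ι).f i = twSnd u ι i ≫ u.f i - twFst u ι i ≫ twσ u ι i := rfl

@[reassoc (attr := simp)]
lemma twistInr_desc : twistInr u ι ≫ twistDesc u ι = u := by
  ext i
  simp

/-- The projection `M' ⊕_θ E ⟶ M'`. -/
noncomputable def twistFst : twist u ι ⟶ M' :=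
  CochainComplex.ofHom (fun i => twFst u ι i) (fun i => by rw [twist_d_fst u ι i (i + 1) rfl])


/-- If `H^j(ι)` is an epimorphism, so is `H^j(M' ⊕_θ E ⟶ F)`. -/
lemma epi_homologyMap_twistDesc (j : ℤ) (h : Epi (homologyMap ι j)) :
    Epi (homologyMap (twistDesc u ι) j) := by
  rw [epi_homologyMap_iff_up_to_refinements _ (j - 1) j (j + 1) (by simp) (by simp)]
  intro A y₂ hy₂
  rw [epi_homologyMap_iff_up_to_refinements _ (j - 1) j (j + 1) (by simp) (by simp)] at h
  obtain ⟨A', π, hπ, m, hm, w, hw⟩ := h (y₂ ≫ (mappingCone.inr u).f j)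
    (by rw [Category.assoc, mappingCone.inr_f_d, reassoc_of% hy₂, zero_comp])
  -- components of w
  have h1 := hw =≫ (mappingCone.fst u).1.v j (j + 1) rfl
  have h2 := hw =≫ (mappingCone.snd u).v j j (add_zero j)
  simp only [Category.assoc, mappingCone.inr_f_fst_v, comp_zero, Preadditive.add_comp,
    mappingCone.d_fst_v u (j - 1) j (j + 1) (by lia) rfl, Preadditive.comp_neg] at h1
  simp only [Category.assoc, mappingCone.inr_f_snd_v, Category.comp_id, Preadditive.add_comp,
    mappingCone.d_snd_v u (j - 1) j (by lia), Preadditive.comp_add] at h2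
  rw [← sub_eq_add_neg] at h1
  have h1' := sub_eq_zero.mp h1.symm
  refine ⟨A', π, hπ, - m ≫ twInl u ι j + (w ≫ (mappingCone.fst u).1.v (j - 1) j (by lia)) ≫ twInr u ι j,
    ?_, w ≫ (mappingCone.snd u).v (j - 1) (j - 1) (add_zero _), ?_⟩
  · apply tw_ext_to
    · simp [twist_d_fst u ι j (j + 1) rfl, hm]
    · simp only [Preadditive.add_comp, Preadditive.neg_comp, Category.assoc,
        twist_d_snd u ι j (j + 1) rfl, Preadditive.comp_add, twInl_fst_assoc, twInl_snd_assoc,
        zero_comp, add_zero, twInr_fst_assoc, twInr_snd_assoc, zero_add]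
      rw [twθ, h1']
      simp
  · simp only [twistDesc_f, Preadditive.add_comp, Preadditive.neg_comp, Category.assoc,
      Preadditive.comp_sub, twInl_fst_assoc, twInl_snd_assoc, zero_comp, twInr_fst_assoc,
      twInr_snd_assoc, twσ, comp_zero]
    rw [h2]
    abel


/-- If `H^j(ι)` is a monomorphism and `H^{j-1}(ι)` is an epimorphism, then
`H^j(M' ⊕_θ E ⟶ F)` is a monomorphism. -/
lemma mono_homologyMap_twistDesc (i j : ℤ) (hij : i + 1 = j) (h : Mono (homologyMap ι j))
    (h' : Epi (homologyMap ι i)) :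
    Mono (homologyMap (twistDesc u ι) j) := by
  rw [mono_homologyMap_iff_up_to_refinements _ i j (j + 1) (by simp [← hij]) (by simp)]
  intro A x₂ hx₂ y₁ hy₁
  rw [mono_homologyMap_iff_up_to_refinements _ i j (j + 1) (by simp [← hij]) (by simp)] at h
  rw [epi_homologyMap_iff_up_to_refinements _ (i - 1) i j (by simp) (by simp [← hij])] at h'
  -- components of x₂
  have hm := hx₂ =≫ twFst u ι (j + 1)
  have he := hx₂ =≫ twSnd u ι (j + 1)
  simp only [Category.assoc, twist_d_fst u ι j (j + 1) rfl, zero_comp] at hm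
  simp only [Category.assoc, twist_d_snd u ι j (j + 1) rfl, zero_comp, Preadditive.comp_add] at he
  simp only [twistDesc_f, Preadditive.comp_sub] at hy₁
  -- m := x₂ ≫ twFst, e := x₂ ≫ twSnd
  have he0 := he
  have hy0 := hy₁
  simp only [twθ, twσ] at he0 hy0
  obtain ⟨A₁, π₁, hπ₁, m', hm'⟩ := h (x₂ ≫ twFst u ι j) (by rw [Category.assoc]; exact hm)
    (x₂ ≫ twSnd u ι j ≫ (mappingCone.inl u).v j i (by lia) - y₁ ≫ (mappingCone.inr u).f i) (by
      apply mappingCone.ext_to u j (j + 1) rfl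
      · simp only [Category.assoc, Preadditive.sub_comp, mappingCone.d_fst_v u i j (j + 1) hij rfl,
          Preadditive.comp_neg, mappingCone.inl_v_fst_v_assoc, mappingCone.inr_f_fst_v_assoc,
          zero_comp, comp_zero]
        linear_combination (norm := abel) he0
      · simp only [Category.assoc, Preadditive.sub_comp, mappingCone.d_snd_v u i j hij,
          Preadditive.comp_add, mappingCone.inl_v_fst_v_assoc, mappingCone.inr_f_fst_v_assoc,
          mappingCone.inl_v_snd_v_assoc, mappingCone.inr_f_snd_v_assoc,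
          zero_comp, comp_zero]
        linear_combination (norm := abel) - hy0)
  have he' := π₁ ≫= he
  have hy' := π₁ ≫= hy₁
  simp only [Preadditive.comp_add, Preadditive.comp_sub, comp_zero] at he' hy'
  have e1 : m' ≫ twθ u ι i j hij ≫ E.d j (j + 1) =
      - π₁ ≫ x₂ ≫ twFst u ι j ≫ twθ u ι j (j + 1) rfl := by
    rw [twθ_d u ι i j (j + 1) hij rfl, Preadditive.comp_neg, reassoc_of% hm']
  have e2 : π₁ ≫ x₂ ≫ twFst u ι j ≫ twσ u ι j =
      m' ≫ twθ u ι i j hij ≫ u.f j + m' ≫ twσ u ι i ≫ F.d i j := by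
    rw [reassoc_of% hm', twσ_d u ι i j hij, Preadditive.comp_add]
  -- e₁ := π₁ ≫ e - m' ≫ θ
  obtain ⟨A₂, π₂, hπ₂, m'', hm'', w₂, hw₂⟩ := h'
    ((π₁ ≫ x₂ ≫ twSnd u ι j - m' ≫ twθ u ι i j hij) ≫ (mappingCone.inl u).v j i (by lia) -
      (π₁ ≫ y₁ + m' ≫ twσ u ι i) ≫ (mappingCone.inr u).f i) (by
      apply mappingCone.ext_to u j (j + 1) rfl
      · simp only [Category.assoc, Preadditive.sub_comp, mappingCone.d_fst_v u i j (j + 1) hij rfl,
          Preadditive.comp_neg, mappingCone.inl_v_fst_v_assoc, mappingCone.inr_f_fst_v_assoc,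
          zero_comp, comp_zero, Preadditive.add_comp]
        linear_combination (norm := abel) e1 - he'
      · simp only [Category.assoc, Preadditive.sub_comp, mappingCone.d_snd_v u i j hij,
          Preadditive.comp_add, mappingCone.inl_v_fst_v_assoc, mappingCone.inr_f_fst_v_assoc,
          mappingCone.inl_v_snd_v_assoc, mappingCone.inr_f_snd_v_assoc,
          zero_comp, comp_zero, Preadditive.add_comp]
        linear_combination (norm := abel) hy' + e2)
  have h3 := hw₂ =≫ (mappingCone.fst u).1.v i j hij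
  simp only [Category.assoc, Preadditive.sub_comp, Preadditive.add_comp, Preadditive.comp_sub,
    mappingCone.d_fst_v u (i - 1) i j (by lia) hij,
    Preadditive.comp_neg, mappingCone.inl_v_fst_v, mappingCone.inr_f_fst_v,
    zero_comp, comp_zero, Category.comp_id, sub_zero] at h3
  refine ⟨A₂, π₂ ≫ π₁, epi_comp _ _, (π₂ ≫ m' + m'') ≫ twInl u ι i -
    (w₂ ≫ (mappingCone.fst u).1.v (i - 1) i (by lia)) ≫ twInr u ι i, ?_⟩
  apply tw_ext_to
  · simp only [Category.assoc, Preadditive.sub_comp, Preadditive.add_comp,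
      twist_d_fst u ι i j hij, twInl_fst_assoc, twInr_fst_assoc, zero_comp, comp_zero, sub_zero,
      hm'', add_zero, hm']
  · simp only [Category.assoc, Preadditive.sub_comp, Preadditive.add_comp,
      twist_d_snd u ι i j hij, twInl_fst_assoc, twInr_fst_assoc, zero_comp, comp_zero, sub_zero,
      twInl_snd_assoc, twInr_snd_assoc, Preadditive.comp_add, add_zero, zero_add]
    simp only [add_zero, comp_zero, sub_zero, twθ] at h3 ⊢
    linear_combination (norm := abel) h3


section Cone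

/-- The mapping cone of `u` is exact in degree `j` when `H^{j+1}(u)` is a monomorphism and `H^j(u)`
an epimorphism. -/
lemma exactAt_mappingCone (j k : ℤ) (hjk : j + 1 = k) (h₁ : Mono (homologyMap u k))
    (h₂ : Epi (homologyMap u j)) : (mappingCone u).ExactAt j := by
  rw [exactAt_iff_exact_up_to_refinements _ (j - 1) j k (by simp) (by simp [← hjk])]
  intro A x hx
  rw [mono_homologyMap_iff_up_to_refinements _ j k (k + 1) (by simp [← hjk]) (by simp)] at h₁
  rw [epi_homologyMap_iff_up_to_refinements _ (j - 1) j k (by simp) (by simp [← hjk])] at h₂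
  have hx1 := hx =≫ (mappingCone.fst u).1.v k (k + 1) rfl
  have hx2 := hx =≫ (mappingCone.snd u).v k k (add_zero k)
  simp only [Category.assoc, zero_comp, mappingCone.d_fst_v u j k (k + 1) hjk rfl,
    Preadditive.comp_neg, neg_eq_zero] at hx1
  simp only [Category.assoc, zero_comp, mappingCone.d_snd_v u j k hjk,
    Preadditive.comp_add] at hx2
  obtain ⟨A₁, π₁, hπ₁, e', he'⟩ := h₁ (x ≫ (mappingCone.fst u).1.v j k hjk)
    (by rw [Category.assoc]; exact hx1) (- x ≫ (mappingCone.snd u).v j j (add_zero j))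
    (by simp only [Category.assoc, Preadditive.neg_comp]; linear_combination (norm := abel) hx2)
  have hx2' := π₁ ≫= hx2
  simp only [Preadditive.comp_add, comp_zero, reassoc_of% he'] at hx2'
  obtain ⟨A₂, π₂, hπ₂, e₂, he₂, f₂, hf₂⟩ := h₂
    (π₁ ≫ x ≫ (mappingCone.snd u).v j j (add_zero j) + e' ≫ u.f j) (by
      simp only [Preadditive.add_comp, Category.assoc, u.comm]
      linear_combination (norm := abel) hx2')
  refine ⟨A₂, π₂ ≫ π₁, epi_comp _ _, (- π₂ ≫ e' + e₂) ≫ (mappingCone.inl u).v j (j - 1) (by lia) +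
    f₂ ≫ (mappingCone.inr u).f (j - 1), ?_⟩
  apply mappingCone.ext_to u j k hjk
  · simp only [Category.assoc, Preadditive.add_comp, Preadditive.neg_comp,
      mappingCone.d_fst_v u (j - 1) j k (by lia) hjk, Preadditive.comp_neg,
      mappingCone.inl_v_fst_v_assoc, mappingCone.inr_f_fst_v_assoc, zero_comp, neg_zero, add_zero,
      he₂, neg_neg, reassoc_of% he']
    simp [he']
  · simp only [Category.assoc, Preadditive.add_comp, Preadditive.neg_comp,
      mappingCone.d_snd_v u (j - 1) j (by lia), Preadditive.comp_add,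
      mappingCone.inl_v_fst_v_assoc, mappingCone.inr_f_fst_v_assoc, zero_comp, neg_zero, add_zero,
      mappingCone.inl_v_snd_v_assoc, mappingCone.inr_f_snd_v_assoc, zero_add]
    have := π₂ ≫= he'
    simp only [Preadditive.comp_add, Category.assoc] at hf₂
    linear_combination (norm := abel) hf₂

end Cone


section Applications

lemma isIso_homologyMap_twistDesc (i j : ℤ) (hij : i + 1 = j) (h₁ : Mono (homologyMap ι j))
    (h₂ : Epi (homologyMap ι j)) (h₃ : Epi (homologyMap ι i)) :
    IsIso (homologyMap (twistDesc u ι) j) := by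
  have := mono_homologyMap_twistDesc u ι i j hij h₁ h₃
  have := epi_homologyMap_twistDesc u ι j h₂
  exact isIso_of_mono_of_epi _

lemma quasiIso_twistDesc [QuasiIso ι] : QuasiIso (twistDesc u ι) := by
  rw [quasiIso_iff]
  intro j
  rw [quasiIsoAt_iff_isIso_homologyMap]
  exact isIso_homologyMap_twistDesc u ι (j - 1) j (by lia) inferInstance inferInstance inferInstance

instance (i : ℤ) : Mono (twInr u ι i) := mono_of_mono_fac (twInr_snd u ι i)

instance (i : ℤ) : Mono ((twistInr u ι).f i) := by rw [twistInr_f]; infer_instance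

lemma isIso_twInr (i : ℤ) (h : IsZero (M'.X i)) : IsIso (twInr u ι i) := by
  refine ⟨twSnd u ι i, twInr_snd u ι i, ?_⟩
  rw [← tw_total u ι i, h.eq_of_tgt (twFst u ι i) 0, zero_comp, zero_add]

lemma isIso_twistInr_f (i : ℤ) (h : IsZero (M'.X i)) : IsIso ((twistInr u ι).f i) := by
  rw [twistInr_f]; exact isIso_twInr u ι i h

/-- `(M' ⊕_θ E)^i = M'^i ⊞ E^i`. -/
noncomputable def twistXIso (i : ℤ) : (twist u ι).X i ≅ M'.X i ⊞ E.X i := Iso.refl _

/-- The cokernel of `E^i ⟶ (M' ⊕_θ E)^i` is `M'^i`. -/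
noncomputable def cokernelTwInrIso (i : ℤ) : cokernel (twInr u ι i) ≅ M'.X i where
  hom := cokernel.desc _ (twFst u ι i) (twInr_fst u ι i)
  inv := twInl u ι i ≫ cokernel.π _
  hom_inv_id := by
    apply coequalizer.hom_ext
    simp only [cokernel.π_desc_assoc, Category.comp_id]
    have := tw_total u ι i =≫ cokernel.π (twInr u ι i)
    simpa using this
  inv_hom_id := by simp

/-- The factorisation lemma in strong form: for an `n`-quasi-isomorphism `u : E ⟶ F` there is
a complex `M'` vanishing in degrees `≥ n` and `ι : M' ⟶ cone(u)` such that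
`M' ⊕_θ E ⟶ F` is a quasi-isomorphism. -/
theorem exists_twist_quasiIso (n : ℤ)
    (hiso : ∀ i : ℤ, n < i → IsIso (homologyMap u i)) (hepi : Epi (homologyMap u n)) :
    ∃ (M' : CochainComplex C ℤ) (ι : M' ⟶ mappingCone u),
      (∀ i : ℤ, n ≤ i → IsZero (M'.X i)) ∧ QuasiIso (twistDesc u ι) := by
  have hex : ∀ i : ℤ, n ≤ i → (mappingCone u).ExactAt i := fun i hi => by
    have := hiso (i + 1) (by lia)
    have : Epi (homologyMap u i) := by
      rcases hi.lt_or_eq with h | h
      · have := hiso i h; infer_instance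
      · subst h; exact hepi
    exact exactAt_mappingCone u i (i + 1) rfl inferInstance inferInstance
  have : (mappingCone u).IsLE (n - 1) := by
    rw [CochainComplex.isLE_iff]
    intro i hi
    exact hex i (by lia)
  refine ⟨(mappingCone u).truncLE (n - 1), (mappingCone u).ιTruncLE (n - 1), ?_, ?_⟩
  · intro i hi
    exact CochainComplex.isZero_of_isStrictlyLE _ (n - 1) i (by lia)
  · exact quasiIso_twistDesc u _

/-- General form of the modification lemma. -/
lemma nQuasiIso_twistDesc (n : ℤ) (hM' : ∀ j : ℤ, n < j → IsZero (M'.X j))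
    (hι : Epi (homologyMap ι n)) (hex : ∀ j : ℤ, n < j → (mappingCone u).ExactAt j) :
    (∀ j : ℤ, n < j → IsIso (homologyMap (twistDesc u ι) j)) ∧
      Epi (homologyMap (twistDesc u ι) n) := by
  have hepi : ∀ j : ℤ, n ≤ j → Epi (homologyMap ι j) := fun j hj => by
    rcases hj.lt_or_eq with h | h
    · have : IsZero ((mappingCone u).homology j) := (hex j h).isZero_homology
      exact ⟨fun _ _ _ => this.eq_of_src _ _⟩
    · subst h; exact hι
  have hmono : ∀ j : ℤ, n < j → Mono (homologyMap ι j) := fun j hj => by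
    have : IsZero (M'.homology j) := ShortComplex.isZero_homology_of_isZero_X₂ _ (hM' j hj)
    exact ⟨fun _ _ _ => this.eq_of_tgt _ _⟩
  exact ⟨fun j hj => isIso_homologyMap_twistDesc u ι (j - 1) j (by lia) (hmono j hj)
    (hepi j hj.le) (hepi (j - 1) (by lia)), epi_homologyMap_twistDesc u ι n hι⟩

end Applications


section Single

variable {K : CochainComplex C ℤ} (n : ℤ) {Q' : C} (w : Q' ⟶ K.cycles n)

/-- The chain map `Q'[-n] ⟶ K` attached to `w : Q' ⟶ Z^n(K)`. -/
noncomputable def singleToCycles : (HomologicalComplex.single C (ComplexShape.up ℤ) n).obj Q' ⟶ K :=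
  HomologicalComplex.mkHomFromSingle (w ≫ K.iCycles n) (fun k _ => by simp)

lemma singleToCycles_f :
    (singleToCycles n w).f n = (HomologicalComplex.singleObjXSelf _ n Q').hom ≫ w ≫ K.iCycles n := by
  simp [singleToCycles]

lemma epi_homologyMap_singleToCycles (hw : Epi (w ≫ K.homologyπ n)) :
    Epi (homologyMap (singleToCycles n w) n) := by
  rw [epi_homologyMap_iff_up_to_refinements _ (n - 1) n (n + 1) (by simp) (by simp)]
  intro A y hy
  obtain ⟨A₁, π₁, hπ₁, m₀, hm₀⟩ := surjective_up_to_refinements_of_epi (w ≫ K.homologyπ n)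
    (K.liftCycles y (n + 1) (by simp) hy ≫ K.homologyπ n)
  rw [← Category.assoc, ← Category.assoc,
    K.comp_homologyπ_eq_iff_up_to_refinements (n - 1) n (by simp)] at hm₀
  obtain ⟨A₂, π₂, hπ₂, x₁, hx₁⟩ := hm₀
  have hx₁' := hx₁ =≫ K.iCycles n
  simp only [Category.assoc, Preadditive.add_comp, liftCycles_i, toCycles_i] at hx₁'
  refine ⟨A₂, π₂ ≫ π₁, epi_comp _ _,
    π₂ ≫ m₀ ≫ (HomologicalComplex.singleObjXSelf _ n Q').inv, ?_, x₁, ?_⟩
  · apply (HomologicalComplex.isZero_single_obj_X _ n Q' (n + 1) (by lia)).eq_of_tgt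
  · simp only [Category.assoc, singleToCycles_f, Iso.inv_hom_id_assoc]
    exact hx₁'

end Single

end Groth.Agent.Lib.Helper13.PC
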