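import Groth.Agent.Lib.Helper13.DRingPC
import Groth.Agent.Lib.Helper13.PCTwist
import Groth.Agent.Lib.Helper13.PCDevissage
import Groth.Agent.Lib.Helper13.PCTruncProp
import Mathlib.Algebra.Category.ModuleCat.Monoidal.Basic

/-!
# Tor amplitude via flat representatives: the basic lemmas
-/

set_option autoImplicit false
universe u
open CategoryTheory CategoryTheory.Limits TensorProduct

namespace Groth.Agent.Lib.Helper13.DR

open Groth.Agent.Lib.Helper13.PC
open DerivedCategory
attribute [local instance] HasDerivedCategory.standard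

section Lin

variable {R : Type u} [CommRing R]

/-- Lemma A (linear form): tensoring keeps exactness at `M₂` of `M₁ → M₂ → M₃ → M₄` when the
image of `M₃ → M₄` is flat. -/
lemma rTensor_exact_of_flat_range {M₁ M₂ M₃ M₄ : Type u} [AddCommGroup M₁] [AddCommGroup M₂]
    [AddCommGroup M₃] [AddCommGroup M₄] [Module R M₁] [Module R M₂] [Module R M₃] [Module R M₄]
    (d₁ : M₁ →ₗ[R] M₂) (d₂ : M₂ →ₗ[R] M₃) (d₃ : M₃ →ₗ[R] M₄)
    (h₁₂ : Function.Exact d₁ d₂) (h₂₃ : Function.Exact d₂ d₃)
    (hflat : Module.Flat R (LinearMap.range d₃))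
    (N : Type u) [AddCommGroup N] [Module R N] :
    Function.Exact (d₁.rTensor N) (d₂.rTensor N) := by
  have hι : Function.Injective ((LinearMap.range d₂).subtype.rTensor N) := by
    rw [← LinearMap.lTensor_inj_iff_rTensor_inj]
    refine LinearMap.lTensor_injective_of_exact_of_flat d₃.rangeRestrict
      d₃.surjective_rangeRestrict _ (Submodule.injective_subtype _) ?_ N
    intro y
    constructor
    · intro hy
      have : d₃ y = 0 := congrArg Subtype.val hy
      obtain ⟨x, hx⟩ := (h₂₃ y).1 this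
      exact ⟨⟨y, ⟨x, hx⟩⟩, rfl⟩
    · rintro ⟨⟨_, ⟨x, rfl⟩⟩, rfl⟩
      apply Subtype.ext
      exact (h₂₃ (d₂ x)).2 ⟨x, rfl⟩
  have hex : Function.Exact d₁ d₂.rangeRestrict := by
    intro y
    rw [← h₁₂ y]
    constructor
    · intro hy
      exact congrArg Subtype.val hy
    · intro hy
      exact Subtype.ext hy
  have h := rTensor_exact N hex d₂.surjective_rangeRestrict
  have hcomp : d₂.rTensor N = (LinearMap.range d₂).subtype.rTensor N ∘ₗ d₂.rangeRestrict.rTensor N := by
    rw [← LinearMap.rTensor_comp]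
    rfl
  intro x
  rw [← h x, hcomp, LinearMap.comp_apply]
  constructor
  · intro hx
    exact hι (by rw [hx, map_zero])
  · intro hx
    rw [hx, map_zero]

/-- Flatness of the image propagates downward along an exact sequence of flat modules. -/
lemma flat_range_of_exact {M₂ M₃ M₄ : Type u} [AddCommGroup M₂]
    [AddCommGroup M₃] [AddCommGroup M₄] [Module R M₂] [Module R M₃] [Module R M₄]
    (d₂ : M₂ →ₗ[R] M₃) (d₃ : M₃ →ₗ[R] M₄) (h₂₃ : Function.Exact d₂ d₃)
    (hflat : Module.Flat R (LinearMap.range d₃)) (h3 : Module.Flat R M₃) :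
    Module.Flat R (LinearMap.range d₂) := by
  refine flat_of_exact (LinearMap.range d₂).subtype (Submodule.injective_subtype _)
    d₃.rangeRestrict d₃.surjective_rangeRestrict ?_
  intro y
  constructor
  · intro hy
    have : d₃ y = 0 := congrArg Subtype.val hy
    obtain ⟨x, hx⟩ := (h₂₃ y).1 this
    exact ⟨⟨y, ⟨x, hx⟩⟩, rfl⟩
  · rintro ⟨⟨_, ⟨x, rfl⟩⟩, rfl⟩
    apply Subtype.ext
    exact (h₂₃ (d₂ x)).2 ⟨x, rfl⟩

end Lin


section Lin

variable {R : Type u} [CommRing R]

/-- Lemma B (linear form): if `P₀ → P₁ → P₂` is exact, stays exact after tensoring with every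
`R ⧸ I`, and `P₂` is flat, then `coker (P₁ → P₂)` is flat. -/
lemma flat_quotient_range_of_rTensor_exact {P₀ P₁ P₂ : Type u} [AddCommGroup P₀] [AddCommGroup P₁]
    [AddCommGroup P₂] [Module R P₀] [Module R P₁] [Module R P₂]
    (d₀ : P₀ →ₗ[R] P₁) (d₁ : P₁ →ₗ[R] P₂) (h₀₁ : Function.Exact d₀ d₁) (hP₂ : Module.Flat R P₂)
    (hex : ∀ I : Ideal R, Function.Exact (d₀.rTensor (R ⧸ I)) (d₁.rTensor (R ⧸ I))) :
    Module.Flat R (P₂ ⧸ LinearMap.range d₁) := by
  set Z := LinearMap.range d₁ with hZ
  let ι : Z →ₗ[R] P₂ := Z.subtype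
  let r : P₁ →ₗ[R] Z := d₁.rangeRestrict
  let π : P₂ →ₗ[R] P₂ ⧸ Z := Z.mkQ
  have hιr : ι ∘ₗ r = d₁ := rfl
  have hrd : r ∘ₗ d₀ = 0 := by
    ext x
    exact (h₀₁ (d₀ x)).2 ⟨x, rfl⟩
  have hπι : π ∘ₗ ι = 0 := by
    ext x
    simp [π, ι]
  have hexιπ : Function.Exact ι π := by
    intro y
    simp only [π, ι, Submodule.mkQ_apply, Submodule.Quotient.mk_eq_zero]
    constructor
    · intro hy; exact ⟨⟨y, hy⟩, rfl⟩
    · rintro ⟨y', rfl⟩; exact y'.2
  have hπs : Function.Surjective π := Submodule.mkQ_surjective _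
  have hrs : Function.Surjective r := d₁.surjective_rangeRestrict
  rw [Module.Flat.iff_lTensor_injective']
  intro I
  let j : I →ₗ[R] R := I.subtype
  let q : R →ₗ[R] R ⧸ I := Submodule.mkQ I
  have hjq : Function.Exact j q := by
    intro y
    simp only [q, j, Submodule.mkQ_apply, Submodule.Quotient.mk_eq_zero]
    constructor
    · intro hy; exact ⟨⟨y, hy⟩, rfl⟩
    · rintro ⟨y', rfl⟩; exact y'.2
  have hqs : Function.Surjective q := Submodule.mkQ_surjective _
  have hqj : q ∘ₗ j = 0 := by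
    ext x
    exact (hjq (j x)).2 ⟨x, rfl⟩
  -- Claim 1
  have claim1 : Function.Injective (ι.rTensor (R ⧸ I)) := by
    rw [injective_iff_map_eq_zero]
    intro w hw
    obtain ⟨v, rfl⟩ := LinearMap.rTensor_surjective (R ⧸ I) hrs w
    have h1 : d₁.rTensor (R ⧸ I) v = 0 := by
      rw [← hιr, LinearMap.rTensor_comp, LinearMap.comp_apply]
      exact hw
    obtain ⟨u, rfl⟩ := (hex I v).1 h1
    rw [← LinearMap.comp_apply, ← LinearMap.rTensor_comp, hrd, LinearMap.rTensor_zero,
      LinearMap.zero_apply]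
  rw [injective_iff_map_eq_zero]
  intro x hx
  obtain ⟨y, rfl⟩ := LinearMap.rTensor_surjective I hπs x
  have h2 : π.rTensor R (j.lTensor P₂ y) = 0 := by
    rw [← LinearMap.comp_apply, LinearMap.rTensor_comp_lTensor, ← LinearMap.lTensor_comp_rTensor,
      LinearMap.comp_apply]
    exact hx
  obtain ⟨z, hz⟩ := (rTensor_exact R hexιπ hπs (j.lTensor P₂ y)).1 h2
  have h3 : ι.rTensor (R ⧸ I) (q.lTensor Z z) = 0 := by
    rw [← LinearMap.comp_apply, LinearMap.rTensor_comp_lTensor, ← LinearMap.lTensor_comp_rTensor,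
      LinearMap.comp_apply, hz, ← LinearMap.comp_apply, ← LinearMap.lTensor_comp, hqj,
      LinearMap.lTensor_zero, LinearMap.zero_apply]
  have h4 : q.lTensor Z z = 0 := claim1 (by rw [h3, map_zero])
  obtain ⟨z', rfl⟩ := (lTensor_exact Z hjq hqs z).1 h4
  have h5 : j.lTensor P₂ (ι.rTensor I z') = j.lTensor P₂ y := by
    rw [← hz, ← LinearMap.comp_apply, LinearMap.lTensor_comp_rTensor,
      ← LinearMap.rTensor_comp_lTensor, LinearMap.comp_apply]
  have h6 : ι.rTensor I z' = y :=
    Module.Flat.lTensor_preserves_injective_linearMap j (Submodule.injective_subtype I) h5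
  rw [← h6, ← LinearMap.comp_apply, ← LinearMap.rTensor_comp, hπι, LinearMap.rTensor_zero,
    LinearMap.zero_apply]

end Lin


variable {R : Type u} [CommRing R]

/-- Termwise tensoring `X ↦ X ⊗ N` on complexes. -/
noncomputable abbrev tensorCx (N : ModuleCat.{u} R) : DRing.Cx R ⥤ DRing.Cx R :=
  (MonoidalCategory.tensorRight N).mapHomologicalComplex (ComplexShape.up ℤ)

lemma exactAt_iff_function_exact (C : DRing.Cx R) (i j k : ℤ) (hij : i + 1 = j) (hjk : j + 1 = k) :
    C.ExactAt j ↔ Function.Exact (C.d i j).hom (C.d j k).hom := by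
  rw [HomologicalComplex.exactAt_iff' C i j k (by simp; lia) (by simp; lia)]
  exact ShortComplex.ShortExact.moduleCat_exact_iff_function_exact _

/-- In a bounded above acyclic complex of flat modules all boundaries are flat. -/
lemma flat_range_of_acyclic (C : DRing.Cx R) (c : ℤ) (hc : ∀ i : ℤ, c < i → IsZero (C.X i))
    (hfl : ∀ i : ℤ, Module.Flat R (C.X i)) (hac : ∀ i : ℤ, C.ExactAt i) (i j : ℤ) (hij : i + 1 = j) :
    Module.Flat R (LinearMap.range (C.d i j).hom) := by
  have key : ∀ (n : ℕ) (i j : ℤ), i + 1 = j → c - n ≤ i →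
      Module.Flat R (LinearMap.range (C.d i j).hom) := by
    intro n
    induction n with
    | zero =>
      intro i j hij hi
      have : Subsingleton (C.X j) := ModuleCat.subsingleton_of_isZero (hc j (by lia))
      infer_instance
    | succ n ih =>
      intro i j hij hi
      refine flat_range_of_exact (C.d i j).hom (C.d j (j + 1)).hom
        ((exactAt_iff_function_exact C i j (j + 1) hij rfl).1 (hac j))
        (ih j (j + 1) rfl (by push_cast at hi; lia)) (hfl j)
  exact key (c - i).toNat i j hij (by lia)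

/-- Lemma A: a bounded above acyclic complex of flat modules stays acyclic after tensoring. -/
theorem exactAt_tensorCx_of_acyclic (C : DRing.Cx R) (c : ℤ) (hc : ∀ i : ℤ, c < i → IsZero (C.X i))
    (hfl : ∀ i : ℤ, Module.Flat R (C.X i)) (hac : ∀ i : ℤ, C.ExactAt i) (N : ModuleCat.{u} R)
    (j : ℤ) : ((tensorCx N).obj C).ExactAt j := by
  rw [exactAt_iff_function_exact _ (j - 1) j (j + 1) (by ring) rfl]
  have := rTensor_exact_of_flat_range (C.d (j - 1) j).hom (C.d j (j + 1)).hom
    (C.d (j + 1) (j + 1 + 1)).hom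
    ((exactAt_iff_function_exact C (j - 1) j (j + 1) (by ring) rfl).1 (hac j))
    ((exactAt_iff_function_exact C j (j + 1) (j + 1 + 1) rfl rfl).1 (hac (j + 1)))
    (flat_range_of_acyclic C c hc hfl hac (j + 1) (j + 1 + 1) rfl) N
  exact this


open CochainComplex HomologicalComplex Pretriangulated in
/-- A morphism of complexes whose cone is acyclic is a quasi-isomorphism. -/
lemma quasiIso_of_acyclic_mappingCone {C : Type*} [Category C] [Abelian C]
    [HasDerivedCategory C] {K L : CochainComplex C ℤ} (f : K ⟶ L)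
    (h : ∀ i : ℤ, (mappingCone f).ExactAt i) : QuasiIso f := by
  rw [← isIso_Q_map_iff_quasiIso]
  have hT := mappingCone_triangle_distinguished f
  have hz : IsZero (Q.obj (mappingCone f)) :=
    isZero_of_forall_isZero_homology _ (fun i =>
      ((exactAt_iff_isZero_homology _ _).1 (h i)).of_iso (homologyQIso _ i))
  exact (Triangle.isZero₃_iff_isIso₁ _ hT).1 hz

lemma flat_mappingCone_X {F F' : DRing.Cx R} (f : F ⟶ F')
    (hfl : ∀ i : ℤ, Module.Flat R (F.X i)) (hfl' : ∀ i : ℤ, Module.Flat R (F'.X i)) (i : ℤ) :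
    Module.Flat R ((CochainComplex.mappingCone f).X i) := by
  have h : Pfl R ((CochainComplex.mappingCone f).X i) := by
    refine (Pfl R).prop_of_iso ?_ (Pfl_prod _ _ (hfl (i + 1)) (hfl' i))
    have := HomologicalComplex.HasHomotopyCofiber.hasBinaryBiproduct f i (i + 1) rfl
    exact (biprod.isoProd _ _).symm ≪≫ (HomologicalComplex.homotopyCofiber.XIsoBiprod f i (i + 1) rfl).symm
  exact h

open CochainComplex HomologicalComplex in
/-- Lemma D: a quasi-isomorphism between bounded above complexes of flat modules stays a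
quasi-isomorphism after tensoring. -/
theorem quasiIso_tensorCx_map {F F' : DRing.Cx R} (f : F ⟶ F') [QuasiIso f] (c : ℤ)
    (hc : ∀ i : ℤ, c < i → IsZero (F.X i)) (hc' : ∀ i : ℤ, c < i → IsZero (F'.X i))
    (hfl : ∀ i : ℤ, Module.Flat R (F.X i)) (hfl' : ∀ i : ℤ, Module.Flat R (F'.X i))
    (N : ModuleCat.{u} R) : QuasiIso ((tensorCx N).map f) := by
  apply quasiIso_of_acyclic_mappingCone
  intro i
  have h1 : ((tensorCx N).obj (mappingCone f)).ExactAt i := by
    refine exactAt_tensorCx_of_acyclic (mappingCone f) c (fun j hj => ?_)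
      (flat_mappingCone_X f hfl hfl') (fun j => ?_) N i
    · rw [mappingCone.isZero_X_iff]
      exact ⟨hc _ (by lia), hc' _ hj⟩
    · exact exactAt_mappingCone f j (j + 1) rfl inferInstance inferInstance
  rw [exactAt_iff_isZero_homology] at h1 ⊢
  exact h1.of_iso ((HomologicalComplex.homologyFunctor _ _ i).mapIso
    (mappingCone.mapHomologicalComplexIso f (MonoidalCategory.tensorRight N)).symm)


end Groth.Agent.Lib.Helper13.DR
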