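import Groth.Agent.Lib.Helper13.PCDevissage
import Mathlib.Algebra.Homology.DerivedCategory.ShortExact
import Mathlib.Algebra.Category.ModuleCat.Abelian
import Mathlib.Algebra.Homology.ShortComplex.ModuleCat

set_option autoImplicit false
set_option linter.style.haveILetI false
universe u
open CategoryTheory CategoryTheory.Limits

namespace Groth.Agent.Lib.Helper13.QE

open CochainComplex HomologicalComplex Pretriangulated DerivedCategory
open Groth.Agent.Lib.Helper13.PC

variable {R : Type u} [Ring R]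

/-- Elementwise criterion for exactness of a cochain complex of modules. -/
lemma exactAt_of_elementwise (K : CochainComplex (ModuleCat.{u} R) ℤ) (i j k : ℤ) (hij : i + 1 = j)
    (hjk : j + 1 = k) (h : ∀ x : K.X j, (K.d j k).hom x = 0 → ∃ y : K.X i, (K.d i j).hom y = x) :
    K.ExactAt j := by
  rw [HomologicalComplex.exactAt_iff' K i j k (by simp; lia) (by simp; lia)]
  rw [ShortComplex.moduleCat_exact_iff]
  intro x hx
  exact h x hx

lemma elementwise_of_exactAt (K : CochainComplex (ModuleCat.{u} R) ℤ) (i j k : ℤ) (hij : i + 1 = j)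
    (hjk : j + 1 = k) (h : K.ExactAt j) (x : K.X j) (hx : (K.d j k).hom x = 0) :
    ∃ y : K.X i, (K.d i j).hom y = x := by
  rw [HomologicalComplex.exactAt_iff' K i j k (by simp; lia) (by simp; lia)] at h
  rw [ShortComplex.moduleCat_exact_iff] at h
  exact h x hx

/-- A map of complexes whose cone is acyclic is a quasi-isomorphism. -/
lemma quasiIso_of_acyclic_mappingCone {C : Type*} [Category C] [Abelian C]
    [HasDerivedCategory C] {K L : CochainComplex C ℤ} (f : K ⟶ L)
    (h : ∀ i : ℤ, (mappingCone f).ExactAt i) : QuasiIso f := by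
  have hT := mappingCone_triangle_distinguished f
  have hz : IsZero (Q.obj (mappingCone f)) :=
    isZero_of_forall_isZero_homology _ (fun i =>
      ((HomologicalComplex.exactAt_iff_isZero_homology _ _).1 (h i)).of_iso (homologyQIso _ i))
  have h1 : IsIso (Q.map f) := (Triangle.isZero₃_iff_isIso₁ _ hT).1 hz
  rwa [isIso_Q_map_iff_quasiIso] at h1

/-- The cone of a quasi-isomorphism is acyclic. -/
lemma acyclic_mappingCone_of_quasiIso {C : Type*} [Category C] [Abelian C]
    [HasDerivedCategory C] {K L : CochainComplex C ℤ} (f : K ⟶ L) [QuasiIso f] (i : ℤ) :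
    (mappingCone f).ExactAt i := by
  have hT := mappingCone_triangle_distinguished f
  have h1 : IsIso (Q.map f) := by rw [isIso_Q_map_iff_quasiIso]; infer_instance
  have hz : IsZero (Q.obj (mappingCone f)) := (Triangle.isZero₃_iff_isIso₁ _ hT).2 h1
  rw [exactAt_iff_isZero_homology]
  exact ((DerivedCategory.homologyFunctor C i).map_isZero hz).of_iso (homologyQIso _ i).symm

/-- Elementwise criterion for a map of complexes of modules to be a quasi-isomorphism. -/
theorem quasiIso_of_elementwise {K L : CochainComplex (ModuleCat.{u} R) ℤ} (f : K ⟶ L)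
    (hinj : ∀ (j k : ℤ) (_ : j + 1 = k) (p : K.X k), (∀ l, (K.d k l).hom p = 0) →
      ∀ q : L.X j, (f.f k).hom p = (L.d j k).hom q → ∃ p' : K.X j, (K.d j k).hom p' = p)
    (hsurj : ∀ (i j : ℤ) (_ : i + 1 = j) (y : L.X j), (∀ l, (L.d j l).hom y = 0) →
      ∃ (x : K.X j) (z : L.X i), (∀ l, (K.d j l).hom x = 0) ∧
        (f.f j).hom x = y + (L.d i j).hom z) : QuasiIso f := by
  letI := HasDerivedCategory.standard (ModuleCat.{u} R)
  apply quasiIso_of_acyclic_mappingCone
  let Cb := mappingCone f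
  let il : ∀ n : ℤ, K.X (n + 1) ⟶ Cb.X n := fun n => (mappingCone.inl f).v (n + 1) n (by omega)
  let ir : ∀ n : ℤ, L.X n ⟶ Cb.X n := fun n => (mappingCone.inr f).f n
  let pf : ∀ n : ℤ, Cb.X n ⟶ K.X (n + 1) := fun n => (mappingCone.fst f).1.v n (n + 1) rfl
  let ps : ∀ n : ℤ, Cb.X n ⟶ L.X n := fun n => (mappingCone.snd f).v n n (add_zero n)
  have h_il_pf : ∀ n (z : K.X (n + 1)), (pf n).hom ((il n).hom z) = z := fun n z => by
    have := mappingCone.inl_v_fst_v f (n + 1) n rfl
    exact congr($(this).hom z)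
  have h_il_ps : ∀ n (z : K.X (n + 1)), (ps n).hom ((il n).hom z) = 0 := fun n z => by
    have := mappingCone.inl_v_snd_v f (n + 1) n (by omega)
    exact congr($(this).hom z)
  have h_ir_pf : ∀ n (z : L.X n), (pf n).hom ((ir n).hom z) = 0 := fun n z => by
    have := mappingCone.inr_f_fst_v f n (n + 1) rfl
    exact congr($(this).hom z)
  have h_ir_ps : ∀ n (z : L.X n), (ps n).hom ((ir n).hom z) = z := fun n z => by
    have := mappingCone.inr_f_snd_v f n
    exact congr($(this).hom z)
  have h_id : ∀ n (w : Cb.X n), (il n).hom ((pf n).hom w) + (ir n).hom ((ps n).hom w) = w :=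
    fun n w => by
      have := mappingCone.id_X f n (n + 1) rfl
      exact congr($(this).hom w)
  have h_d_pf : ∀ n (w : Cb.X n), (pf (n + 1)).hom ((Cb.d n (n + 1)).hom w) =
      -(K.d (n + 1) (n + 1 + 1)).hom ((pf n).hom w) := fun n w => by
    have := mappingCone.d_fst_v f n (n + 1) (n + 1 + 1) rfl rfl
    exact congr($(this).hom w)
  have h_d_ps : ∀ n (w : Cb.X n), (ps (n + 1)).hom ((Cb.d n (n + 1)).hom w) =
      (f.f (n + 1)).hom ((pf n).hom w) + (L.d n (n + 1)).hom ((ps n).hom w) := fun n w => by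
    have := mappingCone.d_snd_v f n (n + 1) rfl
    exact congr($(this).hom w)
  have hKcyc : ∀ (n : ℤ) (p : K.X n), (K.d n (n + 1)).hom p = 0 → ∀ l, (K.d n l).hom p = 0 := by
    intro n p hp l
    by_cases hl : n + 1 = l
    · subst hl; exact hp
    · rw [K.shape n l hl]; rfl
  have hLcyc : ∀ (n : ℤ) (p : L.X n), (L.d n (n + 1)).hom p = 0 → ∀ l, (L.d n l).hom p = 0 := by
    intro n p hp l
    by_cases hl : n + 1 = l
    · subst hl; exact hp
    · rw [L.shape n l hl]; rfl
  have aux : ∀ i : ℤ, Cb.ExactAt (i + 1) := by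
    intro i
    refine exactAt_of_elementwise Cb i (i + 1) (i + 1 + 1) rfl rfl ?_
    intro w hw
    have e1 := h_d_pf (i + 1) w
    have e2 := h_d_ps (i + 1) w
    rw [hw] at e1 e2
    have e1' : (K.d (i + 1 + 1) (i + 1 + 1 + 1)).hom ((pf (i + 1)).hom w) = 0 := by
      have : -(K.d (i + 1 + 1) (i + 1 + 1 + 1)).hom ((pf (i + 1)).hom w) = 0 :=
        e1.symm.trans (map_zero _)
      exact neg_eq_zero.1 this
    have e2' : (f.f (i + 1 + 1)).hom ((pf (i + 1)).hom w) +
        (L.d (i + 1) (i + 1 + 1)).hom ((ps (i + 1)).hom w) = 0 := e2.symm.trans (map_zero _)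
    set p := (pf (i + 1)).hom w with hp
    set q := (ps (i + 1)).hom w with hq
    obtain ⟨p₁, hp₁⟩ := hinj (i + 1) (i + 1 + 1) rfl p (hKcyc _ p e1') (-q) (by
      rw [map_neg]
      exact eq_neg_of_add_eq_zero_left e2')
    have hy : (L.d (i + 1) (i + 1 + 1)).hom ((f.f (i + 1)).hom p₁ + q) = 0 := by
      rw [map_add]
      have h3 : (L.d (i + 1) (i + 1 + 1)).hom ((f.f (i + 1)).hom p₁) =
          (f.f (i + 1 + 1)).hom ((K.d (i + 1) (i + 1 + 1)).hom p₁) :=
        congr($(f.comm (i + 1) (i + 1 + 1)).hom p₁)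
      rw [h3, hp₁]
      exact e2'
    obtain ⟨x, z, hx, hxz⟩ := hsurj i (i + 1) rfl _ (hLcyc _ _ hy)
    refine ⟨(il i).hom (x - p₁) + (ir i).hom (-z), ?_⟩
    have hpf : (pf i).hom ((il i).hom (x - p₁) + (ir i).hom (-z)) = x - p₁ := by
      rw [map_add, h_il_pf, h_ir_pf, add_zero]
    have hps : (ps i).hom ((il i).hom (x - p₁) + (ir i).hom (-z)) = -z := by
      rw [map_add, h_il_ps, h_ir_ps, zero_add]
    have g1 : (pf (i + 1)).hom ((Cb.d i (i + 1)).hom ((il i).hom (x - p₁) + (ir i).hom (-z))) = p := by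
      rw [h_d_pf, hpf, map_sub, hx, hp₁, zero_sub, neg_neg]
    have g2 : (ps (i + 1)).hom ((Cb.d i (i + 1)).hom ((il i).hom (x - p₁) + (ir i).hom (-z))) = q := by
      rw [h_d_ps, hpf, hps, map_sub, hxz, map_neg]
      abel
    rw [← h_id (i + 1) w, ← h_id (i + 1) ((Cb.d i (i + 1)).hom _), g1, g2]
  intro j
  have := aux (j - 1)
  rwa [show j - 1 + 1 = j by omega] at this

end Groth.Agent.Lib.Helper13.QE
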