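import Groth.Agent.Lib.Helper13.LimitDescent

/-!
# The easy direction of the "iff eventually" statements
-/

set_option autoImplicit false
universe u

namespace Groth.Agent.Lib.Helper13.LimitDescent

open AlgebraicGeometry CategoryTheory CategoryTheory.Limits Groth.Agent.Lib.Helper5

variable {I : Type u} [SmallCategory I] {D : I ⥤ Scheme.{u}} {c : Cone D}
  {i₀ : I} {X₀ Y₀ : Scheme.{u}} {f₀ : X₀ ⟶ Y₀} {g₀ : Y₀ ⟶ D.obj i₀}
  {X Y : Scheme.{u}} {f : X ⟶ Y} {g : Y ⟶ c.pt} {qY : Y ⟶ Y₀} {qX : X ⟶ X₀}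

/-- A property stable under base change passes from a stage to the limit. -/
lemma of_conclusion (P : MorphismProperty Scheme.{u}) [P.IsStableUnderBaseChange]
    (hY : IsPullback qY g g₀ (c.π.app i₀)) (hX : IsPullback qX f f₀ qY)
    (h : ∃ (i : I) (φ : i ⟶ i₀) (Xi Yi : Scheme.{u}) (fi : Xi ⟶ Yi) (gi : Yi ⟶ D.obj i)
      (pY : Yi ⟶ Y₀) (pX : Xi ⟶ X₀),
      IsPullback pY gi g₀ (D.map φ) ∧ IsPullback pX fi f₀ pY ∧ P fi) : P f := by
  obtain ⟨i, φ, Xi, Yi, fi, gi, pY, pX, h1, h2, h3⟩ := h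
  have hw1 : qY ≫ g₀ = (g ≫ c.π.app i) ≫ D.map φ := by
    rw [Category.assoc, c.w, hY.w]
  let r : Y ⟶ Yi := h1.lift qY (g ≫ c.π.app i) hw1
  have hr : r ≫ pY = qY := h1.lift_fst _ _ hw1
  have hw2 : qX ≫ f₀ = (f ≫ r) ≫ pY := by
    rw [Category.assoc, hr, hX.w]
  have hsq : IsPullback (h2.lift _ _ hw2) f fi r := by
    refine IsPullback.of_right ?_ (h2.lift_snd _ _ hw2) h2
    rw [h2.lift_fst, hr]
    exact hX
  exact P.of_isPullback hsq h3

end Groth.Agent.Lib.Helper13.LimitDescent
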