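import Groth.Agent.Lib.Helper5.LimitBaseChange
import Mathlib.AlgebraicGeometry.AffineTransitionLimit

set_option autoImplicit false

universe u

namespace Groth.Agent.Lib.Helper13.LimitDescent

open AlgebraicGeometry CategoryTheory CategoryTheory.Limits Groth.Agent.Lib.Helper5

variable {I : Type u} [SmallCategory I] (D : I ⥤ Scheme.{u}) (c : Cone D)
  (i₀ : I) {X₀ Y₀ : Scheme.{u}} (f₀ : X₀ ⟶ Y₀) (g₀ : Y₀ ⟶ D.obj i₀)

/-- The stage `Y_j`. -/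
noncomputable abbrev Yj (j : Over i₀) : Scheme.{u} := pullback (D.map j.hom) g₀

/-- The stage `X_j`. -/
noncomputable abbrev Xj (j : Over i₀) : Scheme.{u} := pullback (D.map j.hom) (f₀ ≫ g₀)

/-- `Y_j ⟶ S_j`. -/
noncomputable abbrev gj (j : Over i₀) : Yj D i₀ g₀ j ⟶ D.obj j.left :=
  pullback.fst (D.map j.hom) g₀

/-- `Y_j ⟶ Y₀`. -/
noncomputable abbrev pYj (j : Over i₀) : Yj D i₀ g₀ j ⟶ Y₀ :=
  pullback.snd (D.map j.hom) g₀

/-- `X_j ⟶ X₀`. -/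
noncomputable abbrev pXj (j : Over i₀) : Xj D i₀ f₀ g₀ j ⟶ X₀ :=
  pullback.snd (D.map j.hom) (f₀ ≫ g₀)

/-- `X_j ⟶ Y_j`. -/
noncomputable def fj (j : Over i₀) : Xj D i₀ f₀ g₀ j ⟶ Yj D i₀ g₀ j :=
  pullback.lift (pullback.fst (D.map j.hom) (f₀ ≫ g₀)) (pXj D i₀ f₀ g₀ j ≫ f₀)
    (by rw [Category.assoc, pullback.condition])

@[reassoc (attr := simp)]
lemma fj_gj (j : Over i₀) :
    fj D i₀ f₀ g₀ j ≫ gj D i₀ g₀ j = pullback.fst (D.map j.hom) (f₀ ≫ g₀) :=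
  pullback.lift_fst ..

@[reassoc (attr := simp)]
lemma fj_pYj (j : Over i₀) :
    fj D i₀ f₀ g₀ j ≫ pYj D i₀ g₀ j = pXj D i₀ f₀ g₀ j ≫ f₀ :=
  pullback.lift_snd ..

lemma isPullback_Yj (j : Over i₀) :
    IsPullback (pYj D i₀ g₀ j) (gj D i₀ g₀ j) g₀ (D.map j.hom) :=
  (IsPullback.of_hasPullback (D.map j.hom) g₀).flip

lemma isPullback_Xj (j : Over i₀) :
    IsPullback (pXj D i₀ f₀ g₀ j) (fj D i₀ f₀ g₀ j) f₀ (pYj D i₀ g₀ j) := by
  refine IsPullback.of_bot ?_ (fj_pYj D i₀ f₀ g₀ j).symm (isPullback_Yj D i₀ g₀ j)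
  rw [fj_gj]
  exact (IsPullback.of_hasPullback (D.map j.hom) (f₀ ≫ g₀)).flip

/-- Packaging of the conclusion of the descent statements. -/
lemma conclusion (P : ∀ {A B : Scheme.{u}}, (A ⟶ B) → Prop) (j : Over i₀)
    (h : P (fj D i₀ f₀ g₀ j)) :
    ∃ (i : I) (φ : i ⟶ i₀) (Xi Yi : Scheme.{u}) (fi : Xi ⟶ Yi) (gi : Yi ⟶ D.obj i)
      (pY : Yi ⟶ Y₀) (pX : Xi ⟶ X₀),
      IsPullback pY gi g₀ (D.map φ) ∧ IsPullback pX fi f₀ pY ∧ P fi :=
  ⟨j.left, j.hom, _, _, fj D i₀ f₀ g₀ j, gj D i₀ g₀ j, pYj D i₀ g₀ j, pXj D i₀ f₀ g₀ j,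
    isPullback_Yj D i₀ g₀ j, isPullback_Xj D i₀ f₀ g₀ j, h⟩

section

variable {D c i₀ f₀ g₀}
variable {X Y : Scheme.{u}} {f : X ⟶ Y} {g : Y ⟶ c.pt} {qY : Y ⟶ Y₀} {qX : X ⟶ X₀}

/-- `Y` is the vertex of the base changed cone. -/
noncomputable def isoY (hY : IsPullback qY g g₀ (c.π.app i₀)) :
    Y ≅ (bcCone D c i₀ g₀).pt := hY.flip.isoPullback

@[reassoc (attr := simp)]
lemma isoY_hom_snd (hY : IsPullback qY g g₀ (c.π.app i₀)) :
    (isoY hY).hom ≫ pullback.snd (c.π.app i₀) g₀ = qY := hY.flip.isoPullback_hom_snd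

@[reassoc (attr := simp)]
lemma isoY_hom_fst (hY : IsPullback qY g g₀ (c.π.app i₀)) :
    (isoY hY).hom ≫ pullback.fst (c.π.app i₀) g₀ = g := hY.flip.isoPullback_hom_fst

lemma isPullback_big (hY : IsPullback qY g g₀ (c.π.app i₀)) (hX : IsPullback qX f f₀ qY) :
    IsPullback qX (f ≫ g) (f₀ ≫ g₀) (c.π.app i₀) := hX.paste_vert hY

/-- `X` is the vertex of the base changed cone. -/
noncomputable def isoX (hY : IsPullback qY g g₀ (c.π.app i₀)) (hX : IsPullback qX f f₀ qY) :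
    X ≅ (bcCone D c i₀ (f₀ ≫ g₀)).pt := (isPullback_big hY hX).flip.isoPullback

@[reassoc (attr := simp)]
lemma isoX_hom_snd (hY : IsPullback qY g g₀ (c.π.app i₀)) (hX : IsPullback qX f f₀ qY) :
    (isoX hY hX).hom ≫ pullback.snd (c.π.app i₀) (f₀ ≫ g₀) = qX :=
  (isPullback_big hY hX).flip.isoPullback_hom_snd

@[reassoc (attr := simp)]
lemma isoX_hom_fst (hY : IsPullback qY g g₀ (c.π.app i₀)) (hX : IsPullback qX f f₀ qY) :
    (isoX hY hX).hom ≫ pullback.fst (c.π.app i₀) (f₀ ≫ g₀) = f ≫ g :=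
  (isPullback_big hY hX).flip.isoPullback_hom_fst

set_option backward.isDefEq.respectTransparency false in
/-- The projection `X ⟶ X_j`. -/
noncomputable def πX (hY : IsPullback qY g g₀ (c.π.app i₀)) (hX : IsPullback qX f f₀ qY)
    (j : Over i₀) : X ⟶ Xj D i₀ f₀ g₀ j :=
  (isoX hY hX).hom ≫ (bcCone D c i₀ (f₀ ≫ g₀)).π.app j

set_option backward.isDefEq.respectTransparency false in
@[reassoc (attr := simp)]
lemma πX_pXj (hY : IsPullback qY g g₀ (c.π.app i₀)) (hX : IsPullback qX f f₀ qY)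
    (j : Over i₀) : πX hY hX j ≫ pXj D i₀ f₀ g₀ j = qX := by
  rw [πX, Category.assoc]
  erw [bcCone_π_app_snd]
  exact isoX_hom_snd hY hX

set_option backward.isDefEq.respectTransparency false in
/-- The projection `Y ⟶ Y_j`. -/
noncomputable def πY (hY : IsPullback qY g g₀ (c.π.app i₀)) (j : Over i₀) :
    Y ⟶ Yj D i₀ g₀ j :=
  (isoY hY).hom ≫ (bcCone D c i₀ g₀).π.app j

set_option backward.isDefEq.respectTransparency false in
@[reassoc (attr := simp)]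
lemma πY_pYj (hY : IsPullback qY g g₀ (c.π.app i₀)) (j : Over i₀) :
    πY hY j ≫ pYj D i₀ g₀ j = qY := by
  rw [πY, Category.assoc]
  erw [bcCone_π_app_snd]
  exact isoY_hom_snd hY

end

instance [∀ {i j} (f : i ⟶ j), IsAffineHom (D.map f)] [CompactSpace (D.obj i₀)] (j : Over i₀) :
    CompactSpace (D.obj j.left) :=
  QuasiCompact.compactSpace_of_compactSpace (D.map j.hom)

instance compactSpace_Xj [∀ {i j} (f : i ⟶ j), IsAffineHom (D.map f)] [CompactSpace (D.obj i₀)]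
    [QuasiCompact (f₀ ≫ g₀)] (j : Over i₀) : CompactSpace (Xj D i₀ f₀ g₀ j) :=
  inferInstanceAs (CompactSpace ↑(pullback (D.map j.hom) (f₀ ≫ g₀)))

instance compactSpace_Yj [∀ {i j} (f : i ⟶ j), IsAffineHom (D.map f)] [CompactSpace (D.obj i₀)]
    [QuasiCompact g₀] (j : Over i₀) : CompactSpace (Yj D i₀ g₀ j) :=
  inferInstanceAs (CompactSpace ↑(pullback (D.map j.hom) g₀))

end Groth.Agent.Lib.Helper13.LimitDescent
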