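import Groth.Prelude.Def_Mor2
import Groth.Agent.Lib.Helper13.AffineDescent
import Groth.Agent.Lib.Helper13.QuasiAffineLocal

set_option autoImplicit false
set_option linter.unusedSectionVars false

universe u

namespace Groth.Agent.Lib.Helper13.LimitDescent

open AlgebraicGeometry CategoryTheory CategoryTheory.Limits Groth.Agent.Lib.Helper5
  Groth.Agent.Lib.Helper13

variable {I : Type u} [SmallCategory I] [IsCofiltered I] {D : I ⥤ Scheme.{u}} {c : Cone D}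
  (hc : IsLimit c) [∀ {i j} (f : i ⟶ j), IsAffineHom (D.map f)]
  {i₀ : I} [CompactSpace (D.obj i₀)] [QuasiSeparatedSpace (D.obj i₀)]
  {X₀ Y₀ : Scheme.{u}} {f₀ : X₀ ⟶ Y₀} {g₀ : Y₀ ⟶ D.obj i₀}
  [LocallyOfFinitePresentation g₀] [QuasiCompact g₀] [QuasiSeparated g₀]
  [LocallyOfFinitePresentation (f₀ ≫ g₀)] [QuasiCompact (f₀ ≫ g₀)] [QuasiSeparated (f₀ ≫ g₀)]
  {X Y : Scheme.{u}} {f : X ⟶ Y} {g : Y ⟶ c.pt} {qY : Y ⟶ Y₀} {qX : X ⟶ X₀}

include hc in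
set_option backward.isDefEq.respectTransparency false in
/-- Quasi-affine morphisms descend to a finite stage. -/
theorem exists_isQuasiAffine_stage (hY : IsPullback qY g g₀ (c.π.app i₀))
    (hX : IsPullback qX f f₀ qY) (hf : Mor2.IsQuasiAffine f) :
    ∃ j : Over i₀, Mor2.IsQuasiAffine (fj D i₀ f₀ g₀ j) := by
  classical
  have : QuasiCompact f₀ := QuasiCompact.of_comp f₀ g₀
  have : CompactSpace Y₀ := QuasiCompact.compactSpace_of_compactSpace g₀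
  let DX := bcDiagram D i₀ (f₀ ≫ g₀)
  let cX := bcCone D c i₀ (f₀ ≫ g₀)
  let hcX : IsLimit cX := isLimitBcCone D c hc i₀ (f₀ ≫ g₀)
  have : ∀ j, CompactSpace (DX.obj j) := fun j => compactSpace_Xj D i₀ f₀ g₀ j
  have : ∀ j, QuasiSeparatedSpace (DX.obj j) := fun j => quasiSeparatedSpace_Xj D i₀ f₀ g₀ j
  have hcXπ : ∀ j, cX.π.app j = (isoX hY hX).inv ≫ πX hY hX j := fun j => by
    rw [πX, Iso.inv_hom_id_assoc]
  have hqY : IsAffineHom qY := by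
    have := isAffineHom_π_app D c hc i₀
    exact MorphismProperty.of_isPullback hY.flip inferInstance
  -- a finite affine cover of `Y₀`
  obtain ⟨s, hs⟩ := isCompact_univ.elim_finite_subcover
    (fun W : Y₀.affineOpens => ((W : Y₀.Opens) : Set Y₀)) (fun W => W.1.2) (by
      intro y _
      obtain ⟨_, ⟨W, hW, rfl⟩, hyW, -⟩ :=
        Y₀.isBasis_affineOpens.exists_subset_of_mem_open (Set.mem_univ y) isOpen_univ
      exact Set.mem_iUnion.mpr ⟨⟨W, hW⟩, hyW⟩)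
  -- each member descends
  let j₀ : Over i₀ := Over.mk (𝟙 i₀)
  have key : ∀ W : Y₀.affineOpens, ∃ (k : Over i₀),
      Scheme.IsQuasiAffine (pXj D i₀ f₀ g₀ k ⁻¹ᵁ (f₀ ⁻¹ᵁ W.1) : Scheme.{u}) := by
    intro W
    have hT : IsCompact ((pXj D i₀ f₀ g₀ j₀ ⁻¹ᵁ (f₀ ⁻¹ᵁ W.1) : (DX.obj j₀).Opens) :
        Set (DX.obj j₀)) :=
      (pXj D i₀ f₀ g₀ j₀).isCompact_preimage (f₀.isCompact_preimage W.2.isCompact)
    have haff : Scheme.IsQuasiAffine
        (cX.π.app j₀ ⁻¹ᵁ (pXj D i₀ f₀ g₀ j₀ ⁻¹ᵁ (f₀ ⁻¹ᵁ W.1)) : Scheme.{u}) := by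
      have h1 : (isoX hY hX).inv ⁻¹ᵁ (f ⁻¹ᵁ (qY ⁻¹ᵁ W.1)) =
          cX.π.app j₀ ⁻¹ᵁ (pXj D i₀ f₀ g₀ j₀ ⁻¹ᵁ (f₀ ⁻¹ᵁ W.1)) := by
        rw [hcXπ, Scheme.Hom.comp_preimage, ← Scheme.Hom.comp_preimage (πX hY hX j₀), πX_pXj,
          ← Scheme.Hom.comp_preimage qX, hX.w, Scheme.Hom.comp_preimage]
      exact isQuasiAffine_of_eq h1 (isQuasiAffine_preimage_of_isAffineHom _ _
        (hf.2 _ (W.2.preimage qY)))
    obtain ⟨k, e, hk⟩ := exists_isQuasiAffine_map_preimage DX cX hcX _ hT haff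
    refine ⟨k, isQuasiAffine_of_eq ?_ hk⟩
    rw [← Scheme.Hom.comp_preimage, bcDiagram_map_pYj]
  choose k hk using key
  obtain ⟨l, hl⟩ := IsCofiltered.inf_objs_exists (s.image k)
  have : QuasiCompact (fj D i₀ f₀ g₀ l) :=
    MorphismProperty.of_isPullback (isPullback_Xj D i₀ f₀ g₀ l) inferInstance
  refine ⟨l, inferInstance, fun V hV => ?_⟩
  refine isQuasiAffine_preimage_of_cover _ V hV fun y _ => ?_
  obtain ⟨W, hW, hyW⟩ : ∃ W ∈ s, (pYj D i₀ g₀ l) y ∈ (W : Y₀.Opens) := by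
    have := hs (Set.mem_univ ((pYj D i₀ g₀ l) y))
    simpa using this
  refine ⟨pYj D i₀ g₀ l ⁻¹ᵁ W.1, hyW, W.2.preimage _, ?_⟩
  obtain ⟨e⟩ := hl (Finset.mem_image_of_mem k hW)
  refine isQuasiAffine_of_eq ?_ (isQuasiAffine_preimage_of_isAffineHom (DX.map e) _ (hk W))
  rw [← Scheme.Hom.comp_preimage, bcDiagram_map_pYj, ← Scheme.Hom.comp_preimage,
    ← Scheme.Hom.comp_preimage, fj_pYj]

end Groth.Agent.Lib.Helper13.LimitDescent
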