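import Mathlib.RingTheory.AdicCompletion.Exactness
import Mathlib.RingTheory.AdicCompletion.AsTensorProduct

/-!
# Exactness of adic completion under an explicit Artin–Rees hypothesis

A variant of Mathlib's `AdicCompletion.map_injective` / `AdicCompletion.map_exact` where the
Noetherian/finite hypotheses are replaced by the (weak) Artin–Rees property of the range of `f`:
`∀ n, I ^ (k + n) • ⊤ ⊓ range f ≤ I ^ n • range f`.
-/

set_option autoImplicit false
universe u

open LinearMap Submodule

namespace Groth.Agent.Lib.Helper13.ACF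

variable {R : Type u} [CommRing R] (I : Ideal R)
variable {M : Type u} [AddCommGroup M] [Module R M]
variable {N : Type u} [AddCommGroup N] [Module R N]
variable {P : Type u} [AddCommGroup P] [Module R P]

/-- The weak Artin–Rees property of a submodule `L ≤ N` with respect to `I`. -/
def WeakAR (L : Submodule R N) : Prop :=
  ∃ k : ℕ, ∀ n : ℕ, I ^ (k + n) • (⊤ : Submodule R N) ⊓ L ≤ I ^ n • L

variable {I}

lemma mem_pow_smul_top_of_map_mem {f : M →ₗ[R] N} (hf : Function.Injective f) {k : ℕ}
    (hk : ∀ n : ℕ, I ^ (k + n) • (⊤ : Submodule R N) ⊓ range f ≤ I ^ n • range f) (n : ℕ) (y : M)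
    (hy : f y ∈ (I ^ (k + n) • ⊤ : Submodule R N)) : y ∈ (I ^ n • ⊤ : Submodule R M) := by
  rw [← Submodule.comap_map_eq_of_injective hf (I ^ n • ⊤ : Submodule R M),
    Submodule.map_smul'', Submodule.map_top]
  exact hk n ⟨hy, ⟨y, rfl⟩⟩

/-- Adic completion preserves injectivity under weak Artin–Rees. -/
theorem map_injective_of_weakAR {f : M →ₗ[R] N} (hf : Function.Injective f)
    (hAR : WeakAR I (range f)) : Function.Injective (AdicCompletion.map I f) := by
  obtain ⟨k, hk⟩ := hAR
  rw [← LinearMap.ker_eq_bot, LinearMap.ker_eq_bot']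
  intro x
  apply AdicCompletion.induction_on I M x (fun a ↦ ?_)
  intro hx
  refine AdicCompletion.mk_zero_of _ _ _ ⟨42, fun n _ ↦ ⟨k + n, by lia, n, by lia, ?_⟩⟩
  apply mem_pow_smul_top_of_map_mem hf hk n
  simpa using congrArg (fun x ↦ x.val (k + n)) hx

section Exact

variable {f : M →ₗ[R] N} {g : N →ₗ[R] P} (hf : Function.Injective f)
  (hfg : Function.Exact f g) (hg : Function.Surjective g)
  {k : ℕ} (hk : ∀ n : ℕ, I ^ (k + n) • (⊤ : Submodule R N) ⊓ range f ≤ I ^ n • range f)
  (x : AdicCompletion.AdicCauchySequence I N)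
  (hker : ∀ (n : ℕ), g (x n) ∈ (I ^ n • ⊤ : Submodule R P))

include hfg hg hker in
lemma exact_aux_h2 (n : ℕ) : ∃ (d : N) (y : M),
    d ∈ (I ^ (k + n) • ⊤ : Submodule R N) ∧ f y = x (k + n) - d := by
  have h1 : g (x (k + n)) ∈ Submodule.map g (I ^ (k + n) • ⊤ : Submodule R N) := by
    rw [map_smul'', Submodule.map_top, range_eq_top.mpr hg]
    exact hker (k + n)
  obtain ⟨d, hdmem, hd⟩ := h1
  obtain ⟨y, hdy⟩ := (hfg (x (k + n) - d)).mp (by simp [hd])
  exact ⟨d, y, hdmem, hdy⟩

include hf hfg hg hk hker in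
/-- One step of the inductive construction. -/
lemma exact_step (n : ℕ) (yₙ : M)
    (hyₙ : f yₙ - x (k + n) ∈ (I ^ (k + n) • ⊤ : Submodule R N)) :
    ∃ y : M, f y - x (k + (n + 1)) ∈ (I ^ (k + (n + 1)) • ⊤ : Submodule R N) ∧
      y - yₙ ∈ (I ^ n • ⊤ : Submodule R M) := by
  obtain ⟨d, y, hd, hy⟩ := exact_aux_h2 hfg hg x hker (k := k) (n + 1)
  have h : f (y - yₙ) ∈ (I ^ (k + n) • ⊤ : Submodule R N) := by
    have e : f (y - yₙ) =
        (x (k + (n + 1)) - x (k + n)) - d - (f yₙ - x (k + n)) := by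
      rw [map_sub, hy]; abel
    rw [e]
    refine Submodule.sub_mem _ (Submodule.sub_mem _ ?_ ?_) hyₙ
    · rw [← Submodule.Quotient.eq]
      exact AdicCompletion.AdicCauchySequence.mk_eq_mk (by lia) _
    · exact (Submodule.smul_mono_left (Ideal.pow_le_pow_right (by lia))) hd
  refine ⟨y, ?_, mem_pow_smul_top_of_map_mem hf hk n _ h⟩
  rw [hy]
  simpa using hd

include hfg hg hker in
lemma exact_base : ∃ y : M, f y - x (k + 0) ∈ (I ^ (k + 0) • ⊤ : Submodule R N) := by
  obtain ⟨d, y, hd, hy⟩ := exact_aux_h2 hfg hg x hker (k := k) 0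
  refine ⟨y, ?_⟩
  rw [hy]
  simpa using hd

/-- The sequence of preimages. -/
noncomputable def exactSeq :
    (n : ℕ) → {y : M // f y - x (k + n) ∈ (I ^ (k + n) • ⊤ : Submodule R N)}
  | 0 => ⟨(exact_base hfg hg x hker (k := k)).choose, (exact_base hfg hg x hker).choose_spec⟩
  | n + 1 =>
    ⟨(exact_step hf hfg hg hk x hker n (exactSeq n).1 (exactSeq n).2).choose,
      (exact_step hf hfg hg hk x hker n (exactSeq n).1 (exactSeq n).2).choose_spec.1⟩

lemma exactSeq_succ_sub (n : ℕ) :
    (exactSeq hf hfg hg hk x hker (n + 1)).1 - (exactSeq hf hfg hg hk x hker n).1 ∈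
      (I ^ n • ⊤ : Submodule R M) :=
  (exact_step hf hfg hg hk x hker n (exactSeq hf hfg hg hk x hker n).1
    (exactSeq hf hfg hg hk x hker n).2).choose_spec.2

end Exact

/-- Adic completion is exact on a short exact sequence whose first map has the weak
Artin–Rees property. -/
theorem map_exact_of_weakAR {f : M →ₗ[R] N} {g : N →ₗ[R] P} (hf : Function.Injective f)
    (hfg : Function.Exact f g) (hg : Function.Surjective g) (hAR : WeakAR I (range f)) :
    Function.Exact (AdicCompletion.map I f) (AdicCompletion.map I g) := by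
  refine LinearMap.exact_of_comp_eq_zero_of_ker_le_range ?_ (fun y ↦ ?_)
  · rw [AdicCompletion.map_comp, hfg.linearMap_comp_eq_zero, AdicCompletion.map_zero]
  · apply AdicCompletion.induction_on I N y (fun b ↦ ?_)
    intro hz
    obtain ⟨k, hk⟩ := hAR
    have hb (n : ℕ) : g (b n) ∈ (I ^ n • ⊤ : Submodule R P) := by
      simpa using congrArg (fun x ↦ x.val n) hz
    let a := exactSeq hf hfg hg hk b hb
    refine ⟨AdicCompletion.mk I M (AdicCompletion.AdicCauchySequence.mk I M
      (fun n ↦ ((a n).1 : M)) ?_), ?_⟩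
    · refine fun n ↦ SModEq.symm ?_
      rw [SModEq.sub_mem]
      exact exactSeq_succ_sub hf hfg hg hk b hb n
    · ext n
      suffices h : Submodule.Quotient.mk (p := (I ^ n • ⊤ : Submodule R N)) (f (a n).1) =
            Submodule.Quotient.mk (p := (I ^ n • ⊤ : Submodule R N)) (b (k + n)) by
        simp [h, AdicCompletion.AdicCauchySequence.mk_eq_mk (show n ≤ k + n by lia)]
      rw [Submodule.Quotient.eq]
      have hle : (I ^ (k + n) • ⊤ : Submodule R N) ≤ (I ^ n • ⊤ : Submodule R N) :=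
        Submodule.smul_mono_left (Ideal.pow_le_pow_right (by lia))
      exact hle (a n).2

end Groth.Agent.Lib.Helper13.ACF
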