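import Groth.Agent.Lib.Helper13.ACF1
import Mathlib.RingTheory.Flat.Equalizer
import Mathlib.RingTheory.Flat.Basic
import Mathlib.RingTheory.Filtration

/-!
# Weak Artin–Rees for `N ⊗ f` with `N` flat and `f` into a finite module over a Noetherian ring
-/

set_option autoImplicit false
universe u

open LinearMap Submodule TensorProduct

namespace Groth.Agent.Lib.Helper13.ACF

variable {R : Type u} [CommRing R] (N : Type u) [AddCommGroup N] [Module R N]
variable {M : Type u} [AddCommGroup M] [Module R M]

/-- The image of `N ⊗ P` in `N ⊗ M` for a submodule `P ≤ M`. -/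
def tim (P : Submodule R M) : Submodule R (N ⊗[R] M) :=
  range (lTensor N P.subtype)

variable {N}

lemma tmul_mem_tim (P : Submodule R M) (n : N) {p : M} (hp : p ∈ P) : n ⊗ₜ[R] p ∈ tim N P :=
  ⟨n ⊗ₜ ⟨p, hp⟩, rfl⟩

lemma tim_le_iff (P : Submodule R M) (L : Submodule R (N ⊗[R] M)) :
    tim N P ≤ L ↔ ∀ (n : N) (p : M), p ∈ P → n ⊗ₜ[R] p ∈ L := by
  constructor
  · intro h n p hp
    exact h (tmul_mem_tim P n hp)
  · rintro h _ ⟨t, rfl⟩
    induction t using TensorProduct.induction_on with
    | zero => simp
    | tmul n p => exact h n p.1 p.2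
    | add a b ha hb => rw [map_add]; exact L.add_mem ha hb

lemma tim_mono {P Q : Submodule R M} (h : P ≤ Q) : tim N P ≤ tim N Q :=
  (tim_le_iff P _).2 fun n _ hp => tmul_mem_tim Q n (h hp)

variable (N) in
lemma tim_top : tim N (⊤ : Submodule R M) = ⊤ := by
  rw [eq_top_iff']
  intro t
  induction t using TensorProduct.induction_on with
  | zero => exact zero_mem _
  | tmul n p => exact tmul_mem_tim ⊤ n trivial
  | add a b ha hb => exact add_mem ha hb

variable (N) in
lemma tim_smul (J : Ideal R) (P : Submodule R M) : tim N (J • P) = J • tim N P := by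
  apply le_antisymm
  · rw [tim_le_iff]
    intro n p hp
    induction hp using Submodule.smul_induction_on' with
    | smul a ha q hq =>
      rw [TensorProduct.tmul_smul]
      exact Submodule.smul_mem_smul ha (tmul_mem_tim P n hq)
    | add x _ y _ hx hy =>
      rw [TensorProduct.tmul_add]
      exact add_mem hx hy
  · rw [Submodule.smul_le]
    intro a ha t ht
    obtain ⟨s, rfl⟩ := ht
    induction s using TensorProduct.induction_on with
    | zero => simp
    | tmul n p =>
      change a • (n ⊗ₜ[R] (p : M)) ∈ _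
      rw [← TensorProduct.tmul_smul]
      exact tmul_mem_tim _ n (Submodule.smul_mem_smul ha p.2)
    | add x y hx hy =>
      rw [map_add, smul_add]
      exact add_mem hx hy

variable (N) in
lemma range_lTensor_eq_tim {M' : Type u} [AddCommGroup M'] [Module R M'] (f : M' →ₗ[R] M) :
    range (lTensor N f) = tim N (range f) := by
  apply le_antisymm
  · rintro _ ⟨t, rfl⟩
    induction t using TensorProduct.induction_on with
    | zero => simp
    | tmul n p => exact tmul_mem_tim _ n ⟨p, rfl⟩
    | add a b ha hb => rw [map_add]; exact add_mem ha hb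
  · rw [tim_le_iff]
    rintro n _ ⟨p, rfl⟩
    exact ⟨n ⊗ₜ p, rfl⟩

variable (N) in
/-- `tim P = ker (N ⊗ M → N ⊗ M/P)`. -/
lemma tim_eq_ker (P : Submodule R M) : tim N P = ker (lTensor N P.mkQ) :=
  ((LinearMap.exact_iff).1
    (lTensor_exact N (LinearMap.exact_subtype_mkQ P) (Submodule.mkQ_surjective P))).symm

variable (N) in
/-- Flat modules commute with finite intersections. -/
theorem tim_inf [Module.Flat R N] (P Q : Submodule R M) : tim N P ⊓ tim N Q = tim N (P ⊓ Q) := by
  apply le_antisymm
  · rintro t ⟨⟨s, rfl⟩, ht2⟩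
    rw [SetLike.mem_coe, tim_eq_ker, LinearMap.mem_ker] at ht2
    -- `g : P → M/Q`
    let g : P →ₗ[R] M ⧸ Q := Q.mkQ ∘ₗ P.subtype
    have hs : s ∈ ker (lTensor N g) := by
      rw [LinearMap.mem_ker, LinearMap.lTensor_comp]
      exact ht2
    have hex : Function.Exact (lTensor N (ker g).subtype) (lTensor N g) :=
      Module.Flat.lTensor_exact N (LinearMap.exact_subtype_ker_map g)
    obtain ⟨r, rfl⟩ := (hex s).1 hs
    rw [← LinearMap.comp_apply, ← LinearMap.lTensor_comp]
    have : range (lTensor N (P.subtype ∘ₗ (ker g).subtype)) ≤ tim N (P ⊓ Q) := by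
      rw [range_lTensor_eq_tim]
      apply tim_mono
      rintro _ ⟨⟨p, hp⟩, rfl⟩
      refine ⟨p.2, ?_⟩
      have : g p = 0 := hp
      simpa [g] using this
    exact this ⟨r, rfl⟩
  · exact le_inf (tim_mono inf_le_left) (tim_mono inf_le_right)

variable (N) in
/-- **Weak Artin–Rees for `N ⊗ f`**, `N` flat, target of `f` finite over a Noetherian ring. -/
theorem weakAR_lTensor [IsNoetherianRing R] [Module.Flat R N] [Module.Finite R M] (I : Ideal R)
    {M' : Type u} [AddCommGroup M'] [Module R M'] (f : M' →ₗ[R] M) :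
    WeakAR I (range (lTensor N f)) := by
  obtain ⟨k, hk⟩ := Ideal.exists_pow_inf_eq_pow_smul I (range f)
  refine ⟨k, fun n => ?_⟩
  rw [range_lTensor_eq_tim, ← tim_top N, ← tim_smul, tim_inf, ← tim_smul]
  apply tim_mono
  have := hk (k + n) (by lia)
  rw [this, show k + n - k = n by lia]
  exact Submodule.smul_mono le_rfl inf_le_right

end Groth.Agent.Lib.Helper13.ACF
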