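import Groth.Agent.Lib.Helper13.ACF2
import Mathlib.LinearAlgebra.TensorProduct.Pi
import Mathlib.Algebra.FiveLemma

/-!
# `N^ ⊗ M ≅ (N ⊗ M)^` for `N` flat and `M` finite over a Noetherian ring
-/

set_option autoImplicit false
universe u

open LinearMap Submodule TensorProduct

namespace Groth.Agent.Lib.Helper13.ACF

variable {R : Type u} [CommRing R] (I : Ideal R)

section MapLinear

variable {M N : Type u} [AddCommGroup M] [Module R M] [AddCommGroup N] [Module R N]

lemma adicMap_add (f g : M →ₗ[R] N) :
    AdicCompletion.map I (f + g) = AdicCompletion.map I f + AdicCompletion.map I g := by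
  ext a n
  simp

lemma adicMap_smul (a : R) (f : M →ₗ[R] N) (y : AdicCompletion I M) :
    AdicCompletion.map I (a • f) y = a • AdicCompletion.map I f y := by
  induction y using AdicCompletion.induction_on with
  | _ b =>
  ext n
  simp [AdicCompletion.val_smul_apply]

end MapLinear

variable (N M : Type u) [AddCommGroup N] [Module R N] [AddCommGroup M] [Module R M]

/-- The canonical map `N^ ⊗ M ⟶ (N ⊗ M)^`. -/
noncomputable def theta : AdicCompletion I N ⊗[R] M →ₗ[R] AdicCompletion I (N ⊗[R] M) :=
  TensorProduct.lift (LinearMap.mk₂ R
    (fun y m => AdicCompletion.map I ((TensorProduct.mk R N M).flip m) y)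
    (fun y y' m => map_add _ _ _)
    (fun a y m => LinearMap.map_smul_of_tower _ a y)
    (fun y m m' => by rw [map_add, adicMap_add]; rfl)
    (fun a y m => by rw [map_smul, adicMap_smul]))

variable {N M}

@[simp]
lemma theta_tmul (y : AdicCompletion I N) (m : M) :
    theta I N M (y ⊗ₜ m) = AdicCompletion.map I ((TensorProduct.mk R N M).flip m) y := rfl

lemma theta_of_tmul (n : N) (m : M) :
    theta I N M (AdicCompletion.of I N n ⊗ₜ m) = AdicCompletion.of I (N ⊗[R] M) (n ⊗ₜ m) := by
  rw [theta_tmul, AdicCompletion.map_of]
  rfl

/-- Compatibility with the canonical maps from `N ⊗ M`. -/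
lemma theta_comp_rTensor_of :
    theta I N M ∘ₗ (rTensor M (AdicCompletion.of I N)) = AdicCompletion.of I (N ⊗[R] M) := by
  apply TensorProduct.ext'
  intro n m
  exact theta_of_tmul I n m

variable {M' : Type u} [AddCommGroup M'] [Module R M']

/-- Naturality of `theta` in `M`. -/
lemma theta_naturality (h : M →ₗ[R] M') :
    ((AdicCompletion.map I (lTensor N h)).restrictScalars R) ∘ₗ theta I N M =
      theta I N M' ∘ₗ lTensor (AdicCompletion I N) h := by
  apply TensorProduct.ext'
  intro y m
  change AdicCompletion.map I (lTensor N h) (AdicCompletion.map I ((TensorProduct.mk R N M).flip m) y) =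
    AdicCompletion.map I ((TensorProduct.mk R N M').flip (h m)) y
  rw [AdicCompletion.map_comp_apply]
  congr 2

section Free

variable (ι : Type) [Fintype ι] [DecidableEq ι]

/-- The comparison `(N ⊗ (ι → R))^ ≃ (ι → N^)`. -/
noncomputable def xi : AdicCompletion I (N ⊗[R] (ι → R)) ≃ₗ[R] (ι → AdicCompletion I N) :=
  ((AdicCompletion.congr I (TensorProduct.piScalarRight R R N ι)).restrictScalars R).trans
    ((AdicCompletion.piEquivOfFintype I (fun _ : ι => N)).restrictScalars R)

lemma xi_theta :
    (xi I (N := N) ι).toLinearMap ∘ₗ theta I N (ι → R) =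
      (TensorProduct.piScalarRight R R (AdicCompletion I N) ι).toLinearMap := by
  apply TensorProduct.ext'
  intro y v
  refine funext fun i => ?_
  change (AdicCompletion.piEquivOfFintype I (fun _ : ι => N)
    (AdicCompletion.congr I (TensorProduct.piScalarRight R R N ι)
      (AdicCompletion.map I ((TensorProduct.mk R N (ι → R)).flip v) y))) i = _
  rw [AdicCompletion.piEquivOfFintype_apply]
  change AdicCompletion.map I (LinearMap.proj i) ((AdicCompletion.congr I (TensorProduct.piScalarRight R R N ι))
      (AdicCompletion.map I ((TensorProduct.mk R N (ι → R)).flip v) y)) = _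
  rw [AdicCompletion.congr_apply, AdicCompletion.map_comp_apply, AdicCompletion.map_comp_apply]
  have : ((LinearMap.proj i ∘ₗ (TensorProduct.piScalarRight R R N ι).toLinearMap) ∘ₗ
      (TensorProduct.mk R N (ι → R)).flip v) = v i • (LinearMap.id : N →ₗ[R] N) := by
    ext n
    simp
  rw [this, adicMap_smul, AdicCompletion.map_id]
  simp

lemma theta_bijective_pi : Function.Bijective (theta I N (ι → R)) := by
  have h := xi_theta I (N := N) ι
  have h2 : (theta I N (ι → R) : _ → _) =
      (xi I (N := N) ι).symm ∘ (TensorProduct.piScalarRight R R (AdicCompletion I N) ι) := by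
    funext t
    have := congrArg (fun φ => φ t) h
    change xi I ι (theta I N (ι → R) t) = _ at this
    exact (LinearEquiv.eq_symm_apply _).2 this
  rw [h2]
  exact (xi I (N := N) ι).symm.bijective.comp
    (TensorProduct.piScalarRight R R (AdicCompletion I N) ι).bijective

end Free

variable (N M) in
/-- `theta` is surjective for finite `M`. -/
theorem theta_surjective [Module.Finite R M] : Function.Surjective (theta I N M) := by
  obtain ⟨n, p, hp⟩ := Module.Finite.exists_fin' R M
  have nat := theta_naturality I (N := N) p
  have h1 : Function.Surjective (((AdicCompletion.map I (lTensor N p)).restrictScalars R) ∘ₗ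
      theta I N (Fin n → R)) := by
    rw [LinearMap.coe_comp]
    exact (AdicCompletion.map_surjective I (LinearMap.lTensor_surjective N hp)).comp
      (theta_bijective_pi I (N := N) (Fin n)).surjective
  rw [nat] at h1
  exact Function.Surjective.of_comp h1

variable (N M) in
/-- **`N^ ⊗ M ≅ (N ⊗ M)^`** for flat `N` and finite `M` over a Noetherian ring. -/
theorem theta_bijective [IsNoetherianRing R] [Module.Flat R N] [Module.Finite R M] :
    Function.Bijective (theta I N M) := by
  obtain ⟨n, p, hp⟩ := Module.Finite.exists_fin' R M
  let K := LinearMap.ker p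
  have hKfin : Module.Finite R K := Module.Finite.of_injective K.subtype (Submodule.injective_subtype _)
  have hinj : Function.Injective (lTensor N K.subtype) :=
    Module.Flat.lTensor_preserves_injective_linearMap _ (Submodule.injective_subtype _)
  have hex : Function.Exact (lTensor N K.subtype) (lTensor N p) :=
    lTensor_exact N (LinearMap.exact_subtype_ker_map p) hp
  have hsurj : Function.Surjective (lTensor N p) := LinearMap.lTensor_surjective N hp
  have hAR : WeakAR I (range (lTensor N K.subtype)) := weakAR_lTensor N I K.subtype
  refine LinearMap.bijective_of_surjective_of_bijective_of_right_exact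
    (lTensor (AdicCompletion I N) K.subtype) (lTensor (AdicCompletion I N) p)
    ((AdicCompletion.map I (lTensor N K.subtype)).restrictScalars R)
    ((AdicCompletion.map I (lTensor N p)).restrictScalars R)
    (theta I N K) (theta I N (Fin n → R)) (theta I N M)
    (theta_naturality I (N := N) K.subtype) (theta_naturality I (N := N) p)
    (lTensor_exact (AdicCompletion I N) (LinearMap.exact_subtype_ker_map p) hp)
    (map_exact_of_weakAR hinj hex hsurj hAR)
    (theta_surjective I N K) (theta_bijective_pi I (N := N) (Fin n))
    (LinearMap.lTensor_surjective _ hp) (AdicCompletion.map_surjective I hsurj)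

end Groth.Agent.Lib.Helper13.ACF
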