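import Groth.Agent.Lib.Helper13.DualBC1

/-!
# Dualizing complexes: basic consequences, invariance under isomorphism, faithfully flat descent
-/

set_option autoImplicit false
set_option linter.unusedSectionVars false

open CategoryTheory CategoryTheory.Limits CategoryTheory.Functor TensorProduct Pretriangulated

universe u

namespace Groth.Agent.Lib.Helper13.DualBC

open DerivedCategory Groth.Agent.Lib.Helper13.DR Groth.Agent.Lib.Helper13.Coind
  Groth.Agent.Lib.Helper13.Shriek Groth.Agent.Lib.Helper13.HomBC Groth.Agent.Lib.Helper13.PC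

attribute [local instance] HasDerivedCategory.standard

section Basic

variable {A : Type u} [CommRing A]

/-- Vanishing of `Hom(M[0], K[i])` for all modules `M` forces vanishing of `H^i(K)`. -/
lemma isZero_HD_of_subsingleton_ext (K : Dual.D A) (i : ℤ)
    (h : Subsingleton (Dual.inD A A ⟶ K⟦i⟧)) :
    IsZero ((DerivedCategory.homologyFunctor (ModuleCat.{u} A) i).obj K) :=
  isZero_homology_of_subsingleton_hom_single_self K i
    ((subsingleton_ext_iff (ModuleCat.of A A) K i).1 h)

/-- Bounded above with finite cohomology over a Noetherian ring is pseudo-coherent. -/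
lemma isPseudoCoherent'_of_bdd_finite [IsNoetherianRing A] (K : Dual.D A) (b : ℤ)
    (hb : ∀ i : ℤ, b < i → Subsingleton (Dual.HD A K i))
    (hfin : ∀ i : ℤ, Module.Finite A (Dual.HD A K i)) : DRing.IsPseudoCoherent' A K := by
  rw [isPseudoCoherent'_iff_forall]
  intro m
  rw [isPseudoCoherent_iff_of_isNoetherianRing]
  exact ⟨⟨b, hb⟩, fun i _ => hfin i⟩

lemma isGE_of_subsingleton_HD (K : Dual.D A) (a : ℤ)
    (ha : ∀ i : ℤ, i < a → Subsingleton (Dual.HD A K i)) : K.IsGE a := by
  rw [DerivedCategory.isGE_iff]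
  intro i hi
  have := ha i hi
  exact ModuleCat.isZero_of_subsingleton _

/-- Being dualizing is invariant under isomorphism. -/
lemma isDualizing_of_iso {K L : Dual.D A} (e : K ≅ L) (h : Dual.IsDualizing A K) :
    Dual.IsDualizing A L := by
  obtain ⟨h1, ⟨a, b, h2⟩, h3, h4, h5⟩ := h
  refine ⟨h1, ⟨a, b, fun M _ _ i hi => ?_⟩, fun i => ?_, ?_, fun i hi => ?_⟩
  · have := h2 M i hi
    exact (Iso.homCongr (Iso.refl (Dual.inD A M))
      ((shiftFunctor (Dual.D A) i).mapIso e)).symm.subsingleton
  · have := h3 i
    exact Module.Finite.equiv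
      ((DerivedCategory.homologyFunctor (ModuleCat.{u} A) i).mapIso e).toLinearEquiv
  · have hc : (fun a : A => a • 𝟙 L) = (Iso.homCongr e e) ∘ (fun a : A => a • 𝟙 K) := by
      funext a
      simp [Iso.homCongr]
    rw [hc]
    exact (Iso.homCongr e e).bijective.comp h4
  · have := h5 i hi
    exact (Iso.homCongr e ((shiftFunctor (Dual.D A) i).mapIso e)).symm.subsingleton

end Basic

section Descent

variable (A B : Type u) [CommRing A] [CommRing B] [Algebra A B] [IsNoetherianRing A]
  [Module.FaithfullyFlat A B]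

lemma subsingleton_of_isZero_extendScalars (M : ModuleCat.{u} A)
    (h : IsZero ((ModuleCat.extendScalars.{u, u, u} (algebraMap A B)).obj M)) : Subsingleton M := by
  have h1 := ModuleCat.subsingleton_of_isZero h
  have h2 : Subsingleton (B ⊗[A] M) := (extendScalarsEquiv B M).symm.toEquiv.subsingleton
  exact (Module.FaithfullyFlat.subsingleton_tensorProduct_iff_right A B).1 h2

/-- **Faithfully flat descent of dualizing complexes.** -/
theorem isDualizing_of_flatBC (K : Dual.D A) (h : Dual.IsDualizing B ((flatBC A B).obj K)) :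
    Dual.IsDualizing A K := by
  obtain ⟨hB, ⟨a, b, h2⟩, h3, h4, h5⟩ := h
  have hvan : ∀ i : ℤ, (i < a ∨ b < i) → Subsingleton (Dual.HD A K i) := by
    intro i hi
    have hz := isZero_HD_of_subsingleton_ext ((flatBC A B).obj K) i (h2 B i hi)
    exact subsingleton_of_isZero_extendScalars A B _ (hz.of_iso (flatBCHomologyIso A B K i).symm)
  have hfin : ∀ i : ℤ, Module.Finite A (Dual.HD A K i) := by
    intro i
    have h1 : Module.Finite B ((ModuleCat.extendScalars.{u, u, u} (algebraMap A B)).obj
        ((DerivedCategory.homologyFunctor (ModuleCat.{u} A) i).obj K)) := by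
      have := h3 i
      exact Module.Finite.equiv (flatBCHomologyIso A B K i).toLinearEquiv
    have h2' : Module.Finite B (B ⊗[A] (Dual.HD A K i)) :=
      Module.Finite.equiv (extendScalarsEquiv B _)
    exact Module.Finite.of_finite_tensorProduct_of_faithfullyFlat B
  have hpc : DRing.IsPseudoCoherent' A K :=
    isPseudoCoherent'_of_bdd_finite K b (fun i hi => hvan i (Or.inr hi)) hfin
  have hGE : K.IsGE a := isGE_of_subsingleton_HD K a (fun i hi => hvan i (Or.inl hi))
  have hinj : DRing.HasInjAmplitudeIn A a b K := by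
    refine hasInjAmplitudeIn_of_quotients K a b (fun I i hi => ?_)
    have hpcI : DRing.IsPseudoCoherent' A (Dual.inD A (A ⧸ I)) :=
      (isPseudoCoherentModule'_iff_of_isNoetherianRing (A ⧸ I)).2 inferInstance
    refine subsingleton_hom_of_flatBC B (Dual.inD A (A ⧸ I)) hpcI K a i ?_
    have := h2 (B ⊗[A] (A ⧸ I)) i hi
    exact (Iso.homCongr (flatBCSingleIso A B (A ⧸ I)) (Iso.refl _)).subsingleton
  refine ⟨inferInstance, ⟨a, b, fun M _ _ i hi => ?_⟩, hfin, ?_, fun i hi => ?_⟩
  · exact ext_subsingleton_of_hasInjAmplitudeIn K a b hinj M i hi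
  · exact bijective_toEnd_of_flatBC B K hpc a h4
  · exact subsingleton_hom_of_flatBC B K hpc K a i (h5 i hi)

end Descent

end Groth.Agent.Lib.Helper13.DualBC
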