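import Groth.Agent.Lib.Helper13.LDC12
import Groth.Agent.Lib.Helper13.DualBC2

/-!
# Cohomology of the derived completion of a complex with finite cohomology (Noetherian case)
-/

set_option autoImplicit false
set_option maxHeartbeats 400000
set_option linter.style.haveILetI false
universe u
open CategoryTheory CategoryTheory.Limits MonoidalCategory Pretriangulated
open CochainComplex CochainComplex.HomComplex HomologicalComplex
open scoped TensorProduct

namespace Groth.Agent.Lib.Helper13.LDC

open DTen Groth.Agent.Lib.Helper13.HT Groth.Agent.Lib.Helper13.SF Groth.Agent.Lib.Helper13.KP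
  Groth.Agent.Lib.Helper13.DT Groth.Agent.Lib.Helper13.DV Groth.Agent.Lib.Helper13.DCN
  Groth.Agent.Lib.Helper13.DR Groth.Agent.Lib.Helper13.PC Groth.Agent.Lib.Helper13
  Groth.Agent.Lib.Helper13.Coind Groth.Agent.Lib.Helper13.FC
  Groth.Agent.Lib.Helper2.RGTors Groth.Agent.Lib.Helper2.TorsExt
  Groth.Agent.Lib.Helper7.DerivedComplete Groth.Agent.Lib.Helper7.DerivedCompleteMT
  Groth.Agent.Lib.Helper7.FComplete

attribute [local instance] HasDerivedCategory.standard

variable {A : Type u} [CommRing A]

section Claim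

variable (I : Ideal A) [DRing.HasDerivedCompletion I]

/-- `H^n(K^) ≅ H^n(K)^` compatibly with the canonical maps. -/
def HasAdicHomology (K : Dual.D A) (n : ℤ) : Prop :=
  ∃ e : Dual.HD A ((DRing.derivedCompletion I).obj K).obj n ≃ₗ[A]
      AdicCompletion I (Dual.HD A K n),
    ∀ x : Dual.HD A K n,
      e (((DerivedCategory.homologyFunctor (ModuleCat.{u} A) n).map
        (DRing.toDerivedCompletion I K)).hom x) = AdicCompletion.of I (Dual.HD A K n) x

variable {I}

lemma HasAdicHomology.of_map {K' K : Dual.D A} (t : K' ⟶ K) (n : ℤ)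
    (h1 : IsIso ((Hi n).map t))
    (h2 : IsIso ((Hi n).map ((DRing.derivedCompletion I).map t).hom))
    (h : HasAdicHomology I K' n) : HasAdicHomology I K n := by
  obtain ⟨e', he'⟩ := h
  let a : Dual.HD A K' n ≃ₗ[A] Dual.HD A K n := (asIso ((Hi n).map t)).toLinearEquiv
  let b : Dual.HD A ((DRing.derivedCompletion I).obj K').obj n ≃ₗ[A]
      Dual.HD A ((DRing.derivedCompletion I).obj K).obj n :=
    (asIso ((Hi n).map ((DRing.derivedCompletion I).map t).hom)).toLinearEquiv
  refine ⟨b.symm ≪≫ₗ e' ≪≫ₗ (AdicCompletion.congr I a).restrictScalars A, fun x => ?_⟩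
  obtain ⟨x', rfl⟩ := a.surjective x
  have nat : t ≫ DRing.toDerivedCompletion I K =
      DRing.toDerivedCompletion I K' ≫ ((DRing.derivedCompletion I).map t).hom :=
    (DRing.derivedCompletionAdj I).unit.naturality t
  have h3 : ((Hi n).map (DRing.toDerivedCompletion I K)).hom (a x') =
      b (((Hi n).map (DRing.toDerivedCompletion I K')).hom x') := by
    change ((Hi n).map (DRing.toDerivedCompletion I K)).hom (((Hi n).map t).hom x') =
      ((Hi n).map ((DRing.derivedCompletion I).map t).hom).hom
        (((Hi n).map (DRing.toDerivedCompletion I K')).hom x')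
    rw [← Hi_map_comp_apply, ← Hi_map_comp_apply, nat]
  change (AdicCompletion.congr I a) (e' (b.symm
    (((Hi n).map (DRing.toDerivedCompletion I K)).hom (a x')))) = _
  rw [h3, LinearEquiv.symm_apply_apply]
  have h4 := he' x'
  change e' (((Hi n).map (DRing.toDerivedCompletion I K')).hom x') = _ at h4
  rw [h4, AdicCompletion.congr_apply, AdicCompletion.map_of]
  rfl

lemma hasAdicHomology_of_univ {K Z : Dual.D A} (u : K ⟶ Z) (hZ : DRing.IsDerivedComplete I Z)
    (huniv : IsUniv I u) (n : ℤ)
    (e' : Dual.HD A Z n ≃ₗ[A] AdicCompletion I (Dual.HD A K n))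
    (he' : ∀ x : Dual.HD A K n, e' (((Hi n).map u).hom x) =
      AdicCompletion.of I (Dual.HD A K n) x) : HasAdicHomology I K n := by
  obtain ⟨ε, hε⟩ := exists_iso_derivedCompletion_compat I K Z u hZ huniv
  refine ⟨((Hi n).mapIso ε.symm).toLinearEquiv ≪≫ₗ e', fun x => ?_⟩
  change e' (((Hi n).map ε.inv).hom (((Hi n).map (DRing.toDerivedCompletion I K)).hom x)) = _
  rw [← hε, ← Hi_map_comp_apply, Category.assoc, Iso.hom_inv_id, Category.comp_id]
  exact he' x

end Claim

section FiniteFree

variable [IsNoetherianRing A] (I : Ideal A) [DRing.HasDerivedCompletion I]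

/-- `F ⟶ F ⊗ Â` exhibits the derived completion of a K-projective complex. -/
theorem isUniv_Q_map_jCx (F : DRing.Cx A) [F.IsKProjective] :
    IsUniv I (DerivedCategory.Q.map (jCx (Nh I) (gh I) F)) := by
  have hI : I.FG := IsNoetherian.noetherian I
  have hF : KFlat F := isKFlat_of_isKProjective F
  let K₀ : Dual.D A := DerivedCategory.Q.obj (𝟙_ (DRing.Cx A))
  have hZ := isDerivedComplete_Q_single_adic I
  obtain ⟨ε, hε⟩ := exists_iso_derivedCompletion_compat I K₀ _ (DerivedCategory.Q.map (sgh I)) hZ
    (isUniv_Q_map_sgh I)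
  have h1 : IsUniv I ((Psi F hF).map (DerivedCategory.Q.map (sgh I))) := by
    refine IsUniv.of_sq (Iso.refl _) ((Psi F hF).mapIso ε) ?_ (isUniv_Psi_map I hI F hF K₀)
    change 𝟙 _ ≫ (Psi F hF).map (DRing.toDerivedCompletion I K₀) =
      (Psi F hF).map (DerivedCategory.Q.map (sgh I)) ≫ (Psi F hF).map ε.hom
    rw [Category.id_comp, ← Functor.map_comp, hε]
  have h2 : IsUniv I (DerivedCategory.Q.map (sgh I ▷ F)) := by
    refine IsUniv.of_sq ((psiIso F hF).app _).symm ((psiIso F hF).app _).symm ?_ h1
    exact ((psiIso F hF).inv.naturality (sgh I)).symm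
  have h3 : IsUniv I (DerivedCategory.Q.map (tensorCxMap F (gh I))) := by
    refine IsUniv.of_sq (DerivedCategory.Q.mapIso (singleTensorIso F _).symm)
      (DerivedCategory.Q.mapIso (singleTensorIso F (Nh I)).symm) ?_ h2
    change DerivedCategory.Q.map _ ≫ DerivedCategory.Q.map _ =
      DerivedCategory.Q.map _ ≫ DerivedCategory.Q.map _
    rw [← Functor.map_comp, ← Functor.map_comp]
    congr 1
    change (singleTensorIso F (𝟙_ (ModuleCat.{u} A))).inv ≫ sgh I ▷ F =
      tensorCxMap F (gh I) ≫ (singleTensorIso F (Nh I)).inv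
    rw [Iso.inv_comp_eq, ← Category.assoc, Iso.eq_comp_inv]
    exact (singleTensorIso_hom_naturality F (gh I)).symm
  refine IsUniv.of_sq (DerivedCategory.Q.mapIso (tensorCxUnitIso F).symm) (Iso.refl _) ?_ h3
  change DerivedCategory.Q.map (tensorCxUnitIso F).inv ≫
      DerivedCategory.Q.map (tensorCxMap F (gh I)) =
    DerivedCategory.Q.map (jCx (Nh I) (gh I) F) ≫ 𝟙 _
  rw [Category.comp_id, ← Functor.map_comp]
  rfl

/-- The cohomology of the derived completion of a K-projective complex with finite cohomology. -/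
theorem hasAdicHomology_Q_of_kproj (F : DRing.Cx A) [F.IsKProjective]
    (hfin : ∀ n : ℤ, Module.Finite A (F.homology n)) (n : ℤ) :
    HasAdicHomology I (DerivedCategory.Q.obj F) n := by
  have hI : I.FG := IsNoetherian.noetherian I
  let Z : Dual.D A := DerivedCategory.Q.obj ((tensorCx (Nh I)).obj F)
  let u : DerivedCategory.Q.obj F ⟶ Z := DerivedCategory.Q.map (jCx (Nh I) (gh I) F)
  have key : ∀ m : ℤ, ∃ e' : (Hi m).obj Z ≃ₗ[A]
      AdicCompletion I ((Hi m).obj (DerivedCategory.Q.obj F)),
      ∀ x : (Hi m).obj (DerivedCategory.Q.obj F), e' (((Hi m).map u).hom x) =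
        AdicCompletion.of I ((Hi m).obj (DerivedCategory.Q.obj F)) x := by
    intro m
    obtain ⟨φ, hφ⟩ := exists_homology_tensor_equiv (Nh I) (gh I) F m
    have := hfin m
    let fac := DerivedCategory.homologyFunctorFactors (ModuleCat.{u} A) m
    let e1 : (Hi m).obj Z ≃ₗ[A] ((tensorCx (Nh I)).obj F).homology m :=
      (fac.app ((tensorCx (Nh I)).obj F)).toLinearEquiv
    let e0 : (Hi m).obj (DerivedCategory.Q.obj F) ≃ₗ[A] F.homology m := (fac.app F).toLinearEquiv
    let e2 : (F.homology m) ⊗[A] AdicCompletion I A ≃ₗ[A] AdicCompletion I (F.homology m) :=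
      (TensorProduct.comm A (F.homology m) (AdicCompletion I A)).trans
        ((AdicCompletion.ofTensorProductEquivOfFiniteNoetherian I (F.homology m)).restrictScalars A)
    refine ⟨e1 ≪≫ₗ φ ≪≫ₗ e2 ≪≫ₗ (AdicCompletion.congr I e0.symm).restrictScalars A,
      fun x => ?_⟩
    have nat : e1 (((Hi m).map u).hom x) =
        (HomologicalComplex.homologyMap (jCx (Nh I) (gh I) F) m).hom (e0 x) := by
      have := fac.hom.naturality (jCx (Nh I) (gh I) F)
      exact congrArg (fun t => t.hom x) this
    change (AdicCompletion.congr I e0.symm) (e2 (φ (e1 (((Hi m).map u).hom x)))) = _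
    rw [nat, hφ, gh_one]
    have h5 : e2 ((e0 x) ⊗ₜ[A] (1 : AdicCompletion I A)) =
        AdicCompletion.of I (F.homology m) (e0 x) := by
      change AdicCompletion.ofTensorProduct I (F.homology m)
        ((1 : AdicCompletion I A) ⊗ₜ[A] (e0 x)) = _
      rw [AdicCompletion.ofTensorProduct_tmul, one_smul]
    rw [h5, AdicCompletion.congr_apply, AdicCompletion.map_of]
    simp
  have hZ : DRing.IsDerivedComplete I Z := by
    rw [Groth.Agent.Lib.Helper7.DerivedCompleteMT.isDerivedComplete_iff]
    intro f hf m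
    obtain ⟨e', -⟩ := key m
    have := AdicCompletion.isAdicComplete (I := I)
      (M := (Hi m).obj (DerivedCategory.Q.obj F)) hI
    exact (isFComplete_of_isAdicComplete hf
      (AdicCompletion I ((Hi m).obj (DerivedCategory.Q.obj F)))).of_linearEquiv e'.symm
  obtain ⟨e', he'⟩ := key n
  exact hasAdicHomology_of_univ u hZ (isUniv_Q_map_jCx I F) n e' he'

end FiniteFree

section Trunc

variable (I : Ideal A) [DRing.HasDerivedCompletion I]

/-- The completion of a map which is an isomorphism on cohomology in degrees `≤ m` is an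
isomorphism on cohomology in degrees `≤ m - r - 1`. -/
theorem isIso_homology_completion_map (s : Finset A) (hs : Ideal.span (s : Set A) = I)
    {K' K : Dual.D A} (t : K' ⟶ K) (m : ℤ) (hiso : ∀ j : ℤ, j ≤ m → IsIso ((Hh j).map t))
    (n : ℤ) (hn : n + s.card + 1 ≤ m) :
    IsIso ((Hh n).map ((DRing.derivedCompletion I).map t).hom) := by
  obtain ⟨M, ψ, δ, ψ', δ', hT, hT'⟩ := exists_completion_triangle I t
  have hM : ∀ i : ℤ, i ≤ m - 1 → IsZero ((Hh i).obj M) := by
    intro i hi
    apply isZero_homology_cone _ hT i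
    · have := hiso i (by lia)
      change Epi ((Hh i).map t)
      infer_instance
    · have := hiso (i + 1) (by lia)
      change Mono ((Hh (i + 1)).map t)
      infer_instance
  have hM' : ∀ i : ℤ, i + s.card ≤ m - 1 →
      IsZero ((Hh i).obj ((DRing.derivedCompletion I).obj M).obj) :=
    fun i hi => isZero_homology_derivedCompletion I s hs M i (fun j _ hj => hM j (by lia))
  have h1 : Epi ((Hh n).map ((DRing.derivedCompletion I).map t).hom) :=
    epi_homology_of_isZero _ hT' n (hM' n (by lia))
  have h2 : Mono ((Hh n).map ((DRing.derivedCompletion I).map t).hom) :=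
    mono_homology_of_isZero _ hT' n (hM' (n - 1) (by lia))
  exact isIso_of_mono_of_epi _

/-- **S7060**: cohomology of the derived completion of a complex with finite cohomology over a
Noetherian ring. -/
theorem hasAdicHomology_of_finite [IsNoetherianRing A] (K : Dual.D A)
    (hK : ∀ n : ℤ, Module.Finite A (Dual.HD A K n)) (n : ℤ) : HasAdicHomology I K n := by
  classical
  obtain ⟨s, hs⟩ : I.FG := IsNoetherian.noetherian I
  let m : ℤ := n + s.card + 1
  let K₀ := DerivedCategory.Q.objPreimage K
  let eK : DerivedCategory.Q.obj K₀ ≅ K := DerivedCategory.Q.objObjPreimageIso K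
  let K₁ := K₀.truncLE m
  let t : DerivedCategory.Q.obj K₁ ⟶ K := DerivedCategory.Q.map (K₀.ιTruncLE m) ≫ eK.hom
  have htiso : ∀ j : ℤ, j ≤ m → IsIso ((Hh j).map t) := by
    intro j hj
    have h1 : IsIso (HomologicalComplex.homologyMap (K₀.ιTruncLE m) j) := by
      rw [← quasiIsoAt_iff_isIso_homologyMap]
      exact CochainComplex.quasiIsoAt_ιTruncLE K₀ m j hj
    have h2 : IsIso ((Hh j).map (DerivedCategory.Q.map (K₀.ιTruncLE m))) :=
      (NatIso.isIso_map_iff (DerivedCategory.homologyFunctorFactors (ModuleCat.{u} A) j)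
        (K₀.ιTruncLE m)).2 h1
    change IsIso ((Hh j).map (DerivedCategory.Q.map (K₀.ιTruncLE m) ≫ eK.hom))
    rw [Functor.map_comp]
    infer_instance
  have hb : ∀ i : ℤ, m < i → Subsingleton (Dual.HD A (DerivedCategory.Q.obj K₁) i) := fun i hi =>
    ModuleCat.subsingleton_of_isZero
      (isZero_homology_Q_obj K₁ i (K₁.isZero_of_isStrictlyLE m i hi))
  have hfin₁ : ∀ i : ℤ, Module.Finite A (Dual.HD A (DerivedCategory.Q.obj K₁) i) := by
    intro i
    by_cases hi : i ≤ m
    · have := htiso i hi
      have := hK i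
      exact Module.Finite.equiv (asIso ((Hh i).map t)).toLinearEquiv.symm
    · have := hb i (by lia)
      infer_instance
  obtain ⟨F, c, hFc, hFf, ⟨eF⟩⟩ :=
    Groth.Agent.Lib.Helper13.DualBC.isPseudoCoherent'_of_bdd_finite (DerivedCategory.Q.obj K₁) m hb hfin₁
  have hFP : F.IsKProjective := isKProjective_of_vanishesAbove F c hFc hFf
  have hfinF : ∀ i : ℤ, Module.Finite A (F.homology i) :=
    finite_homology_of_termwise F (fun i => (hFf i).1)
  have h1 := hasAdicHomology_Q_of_kproj I F hfinF n
  refine HasAdicHomology.of_map (eF.hom ≫ t) n ?_ ?_ h1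
  · have := htiso n (by lia)
    change IsIso ((Hh n).map (eF.hom ≫ t))
    rw [Functor.map_comp]
    infer_instance
  · have := isIso_homology_completion_map I s hs t m htiso n le_rfl
    change IsIso ((Hh n).map ((DRing.derivedCompletion I ⋙
      ObjectProperty.ι (DRing.IsDerivedComplete I)).map (eF.hom ≫ t)))
    rw [Functor.map_comp, Functor.map_comp]
    have h3 : IsIso ((Hh n).map ((DRing.derivedCompletion I ⋙
        ObjectProperty.ι (DRing.IsDerivedComplete I)).map t)) := this
    infer_instance

end Trunc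

end Groth.Agent.Lib.Helper13.LDC
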