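import Groth.Agent.Lib.Helper13.ACF3
import Groth.Agent.Lib.Helper13.LDC13
import Groth.Agent.Lib.Helper21.CompleteFlat

/-!
# Completion of a flat module over a Noetherian ring: tensoring with modules killed by `I`
-/

set_option autoImplicit false
set_option maxHeartbeats 400000
set_option linter.style.haveILetI false
universe u
open CategoryTheory CategoryTheory.Limits MonoidalCategory
open scoped TensorProduct

namespace Groth.Agent.Lib.Helper13.ACF

open Groth.Agent.Lib.Helper13.LDC

variable {A : Type u} [CommRing A] [IsNoetherianRing A] (I : Ideal A)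
  (N : Type u) [AddCommGroup N] [Module A N] [Module.Flat A N]

instance flat_adicCompletion : Module.Flat A (AdicCompletion I N) :=
  Groth.Agent.Lib.Helper21.flat_adicCompletion_of_flat I

/-- `N ⊗ L ⟶ N^ ⊗ L` is bijective for finite `L` killed by `I`. -/
theorem bijective_rTensor_of (L : Type u) [AddCommGroup L] [Module A L] [Module.Finite A L]
    (hL : ∀ a ∈ I, ∀ x : L, a • x = 0) :
    Function.Bijective (LinearMap.rTensor L (AdicCompletion.of I N)) := by
  have hk : ∀ a ∈ I, ∀ x : N ⊗[A] L, a • x = 0 := by
    intro a ha x
    induction x using TensorProduct.induction_on with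
    | zero => simp
    | tmul n l => rw [← TensorProduct.tmul_smul, hL a ha l, TensorProduct.tmul_zero]
    | add x y hx hy => rw [smul_add, hx, hy, add_zero]
  have hcomp : IsAdicComplete I (N ⊗[A] L) := isAdicComplete_of_smul_eq_zero I _ hk
  have hb : Function.Bijective (AdicCompletion.of I (N ⊗[A] L)) := AdicCompletion.of_bijective I _
  have hθ := theta_bijective I N L
  have h := theta_comp_rTensor_of I (N := N) (M := L)
  have h2 : (AdicCompletion.of I (N ⊗[A] L) : _ → _) =
      theta I N L ∘ LinearMap.rTensor L (AdicCompletion.of I N) := by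
    rw [← h]; rfl
  rw [h2] at hb
  exact (Function.Bijective.of_comp_iff' hθ _).1 hb

/-- `L ⊗ N ⟶ L ⊗ N^` is bijective for finite `L` killed by `I`. -/
theorem bijective_lTensor_of (L : Type u) [AddCommGroup L] [Module A L] [Module.Finite A L]
    (hL : ∀ a ∈ I, ∀ x : L, a • x = 0) :
    Function.Bijective (LinearMap.lTensor L (AdicCompletion.of I N)) := by
  have h := bijective_rTensor_of I N L hL
  have e : (LinearMap.lTensor L (AdicCompletion.of I N) : _ → _) =
      (TensorProduct.comm A (AdicCompletion I N) L) ∘
        (LinearMap.rTensor L (AdicCompletion.of I N)) ∘ (TensorProduct.comm A L N) := by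
    funext t
    induction t using TensorProduct.induction_on with
    | zero => simp
    | tmul l n => rfl
    | add x y hx hy =>
      simp only [map_add, Function.comp_apply] at hx hy ⊢
      rw [hx, hy]
  rw [e]
  exact (TensorProduct.comm A (AdicCompletion I N) L).bijective.comp
    (h.comp (TensorProduct.comm A L N).bijective)

/-- The map `N ⟶ N^` in `ModuleCat`. -/
noncomputable abbrev gN : ModuleCat.of A N ⟶ ModuleCat.of A (AdicCompletion I N) :=
  ModuleCat.ofHom (AdicCompletion.of I N)

theorem isIso_whiskerLeft_gN (L : ModuleCat.{u} A) [Module.Finite A L]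
    (hL : ∀ a ∈ I, ∀ x : L, a • x = 0) : IsIso (L ◁ gN I N) := by
  rw [ConcreteCategory.isIso_iff_bijective]
  exact bijective_lTensor_of I N L hL

end Groth.Agent.Lib.Helper13.ACF
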