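import Groth.Agent.Lib.Helper13.ACF4

/-!
# The derived completion of `M ⊗ N` (`M` finite, `N` flat, Noetherian base): derived part
-/

set_option autoImplicit false
set_option maxHeartbeats 800000
set_option linter.style.haveILetI false
universe u
open CategoryTheory CategoryTheory.Limits MonoidalCategory Pretriangulated
open CochainComplex CochainComplex.HomComplex HomologicalComplex
open scoped TensorProduct

namespace Groth.Agent.Lib.Helper13.ACF

open DTen Groth.Agent.Lib.Helper13.HT Groth.Agent.Lib.Helper13.SF Groth.Agent.Lib.Helper13.KP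
  Groth.Agent.Lib.Helper13.DT Groth.Agent.Lib.Helper13.DV Groth.Agent.Lib.Helper13.DCN
  Groth.Agent.Lib.Helper13.DR Groth.Agent.Lib.Helper13.PC Groth.Agent.Lib.Helper13
  Groth.Agent.Lib.Helper13.Coind Groth.Agent.Lib.Helper13.FC
  Groth.Agent.Lib.Helper2.RGTors Groth.Agent.Lib.Helper2.TorsExt
  Groth.Agent.Lib.Helper7.DerivedComplete Groth.Agent.Lib.Helper7.DerivedCompleteMT
  Groth.Agent.Lib.Helper7.FComplete Groth.Agent.Lib.Helper13.LDC

attribute [local instance] HasDerivedCategory.standard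

variable {A : Type u} [CommRing A]

/-- The complex `X[0]`. -/
noncomputable abbrev sg0 (X : ModuleCat.{u} A) : DRing.Cx A :=
  (HomologicalComplex.single (ModuleCat.{u} A) (ComplexShape.up ℤ) 0).obj X

section Killed

lemma smul_id_sg0_eq_zero (L : ModuleCat.{u} A) (a : A) (h : ∀ x : L, a • x = 0) :
    a • 𝟙 (sg0 L) = 0 := by
  have h0 : a • 𝟙 L = 0 := by
    ext y
    exact h y
  apply HomologicalComplex.from_single_hom_ext
  let e := HomologicalComplex.singleObjXSelf (ComplexShape.up ℤ) 0 L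
  change a • 𝟙 ((sg0 L).X 0) = 0
  have : a • 𝟙 ((sg0 L).X 0) = e.hom ≫ (a • 𝟙 L) ≫ e.inv := by
    rw [Linear.smul_comp, Linear.comp_smul, Category.id_comp, e.hom_inv_id]
  rw [this, h0, zero_comp, comp_zero]

lemma smul_id_tensorCx_eq_zero (N : ModuleCat.{u} A) (Y : DRing.Cx A) (a : A)
    (h : a • 𝟙 Y = 0) : a • 𝟙 ((tensorCx N).obj Y) = 0 := by
  refine HomologicalComplex.hom_ext _ _ (fun p => ?_)
  have hp : ∀ x : Y.X p, a • x = 0 := by
    intro x
    have := congrArg (fun φ => (φ.f p).hom x) h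
    exact this
  change a • 𝟙 (Y.X p ⊗ N) = 0
  ext t
  change a • t = 0
  induction t using TensorProduct.induction_on with
  | zero => simp
  | tmul y n => rw [TensorProduct.smul_tmul', hp y, TensorProduct.zero_tmul]
  | add x y hx hy => rw [smul_add, hx, hy, add_zero]

variable [IsNoetherianRing A] (I : Ideal A)

lemma isDerivedComplete_Q_of_smul_id_eq_zero (Y : DRing.Cx A) (h : ∀ a ∈ I, a • 𝟙 Y = 0) :
    DRing.IsDerivedComplete I (DerivedCategory.Q.obj Y) := by
  apply isDerivedComplete_of_homology_killed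
  intro n a ha x
  have h1 := Hi_map_smul_id_apply a (DerivedCategory.Q.obj Y) n x
  have h2 : a • 𝟙 (DerivedCategory.Q.obj Y) = 0 := by
    rw [← DerivedCategory.Q.map_id, ← Functor.map_smul, h a ha, Functor.map_zero]
  rw [← h1, h2, Functor.map_zero]
  rfl

end Killed

section Criterion

variable [IsNoetherianRing A] (I : Ideal A) [DRing.HasDerivedCompletion I]

/-- Criterion for a map to a derived complete object to be a derived completion, via a finite
free resolution `Fr` of `A/I`. -/
theorem isUniv_of_isIso_Psi (Fr : DRing.Cx A) (cF : ℤ) (hFc : DRing.VanishesAbove Fr cF)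
    (hFf : DRing.TermwiseFiniteFree Fr) [Fr.IsKProjective] (hFr : KFlat Fr)
    (π : Fr ⟶ sg0 (ModuleCat.of A (A ⧸ I))) (hπ : QuasiIso π)
    {K Z : Dual.D A} (u : K ⟶ Z) (hZ : DRing.IsDerivedComplete I Z) (b : ℤ)
    (hK : ∀ i : ℤ, b < i → Subsingleton (Dual.HD A K i))
    (hsrc : DRing.IsDerivedComplete I ((Psi Fr hFr).obj K))
    (hu : IsIso ((Psi Fr hFr).map u)) : IsUniv I u := by
  have hI : I.FG := IsNoetherian.noetherian I
  obtain ⟨c, hc⟩ := (isUniv_toDerivedCompletion I K _ hZ).2 u
  dsimp only at hc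
  have hη : IsIso ((Psi Fr hFr).map (DRing.toDerivedCompletion I K)) :=
    (isUniv_Psi_map I hI Fr hFr K).isIso hsrc
      (isDerivedComplete_Psi_completion I Fr hFr cF hFc hFf K b hK)
  have hcΨ : IsIso ((Psi Fr hFr).map c) := by
    have : (Psi Fr hFr).map (DRing.toDerivedCompletion I K) ≫ (Psi Fr hFr).map c =
        (Psi Fr hFr).map u := by
      rw [← Functor.map_comp, hc]
    exact IsIso.of_isIso_fac_left this
  have hciso : IsIso c := @isIso_of_isIso_Psi_map _ _ I hI Fr hFr π hπ _ _ c
    ((DRing.derivedCompletion I).obj K).property hZ hcΨ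
  refine IsUniv.of_sq (Iso.refl _) (asIso c).symm ?_ (isUniv_toDerivedCompletion I K)
  change 𝟙 _ ≫ DRing.toDerivedCompletion I K = u ≫ inv c
  rw [Category.id_comp, ← hc, Category.assoc, IsIso.hom_inv_id, Category.comp_id]

end Criterion

section Flat

/-- `- ⊗ N` preserves quasi-isomorphisms for flat `N`. -/
lemma quasiIso_tensorCx_map (N : ModuleCat.{u} A) [Module.Flat A N] {X Y : DRing.Cx A}
    (f : X ⟶ Y) [QuasiIso f] : QuasiIso ((tensorCx N).map f) := by
  infer_instance

/-- Naturality of `tensorCxMap` in the complex. -/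
lemma tensorCxMap_naturality {N N' : ModuleCat.{u} A} (g : N ⟶ N') {X Y : DRing.Cx A}
    (f : X ⟶ Y) :
    (tensorCx N).map f ≫ tensorCxMap Y g = tensorCxMap X g ≫ (tensorCx N').map f :=
  (NatTrans.mapHomologicalComplex ((tensoringRight (ModuleCat.{u} A)).map g)
    (ComplexShape.up ℤ)).naturality f

/-- `L[0] ⊗ g` is an isomorphism when `L ⊗ g` is. -/
lemma isIso_tensorCxMap_sg0 (L : ModuleCat.{u} A) {N N' : ModuleCat.{u} A} (g : N ⟶ N')
    (h : IsIso (L ◁ g)) : IsIso (tensorCxMap (sg0 L) g) := by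
  apply (config := { allowSynthFailures := true }) HomologicalComplex.Hom.isIso_of_components
  intro p
  rw [tensorCxMap_f]
  by_cases hp : p = 0
  · subst hp
    let e := HomologicalComplex.singleObjXSelf (ComplexShape.up ℤ) (0 : ℤ) L
    have : (sg0 L).X 0 ◁ g = (e.hom ▷ N) ≫ (L ◁ g) ≫ (e.inv ▷ N') := by
      rw [← whisker_exchange_assoc, ← MonoidalCategory.comp_whiskerRight, e.hom_inv_id,
        MonoidalCategory.id_whiskerRight, Category.comp_id]
    rw [this]
    haveI := h
    have i1 : IsIso (e.hom ▷ N) := (whiskerRightIso e N).isIso_hom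
    have i3 : IsIso (e.inv ▷ N') := (whiskerRightIso e.symm N').isIso_hom
    exact IsIso.comp_isIso' i1 (IsIso.comp_isIso' h i3)
  · have hz : IsZero ((sg0 L).X p) := HomologicalComplex.isZero_single_obj_X _ _ _ _ hp
    have h1 : IsZero ((tensorRight N).obj ((sg0 L).X p)) := Functor.map_isZero (tensorRight N) hz
    have h2 : IsZero ((tensorRight N').obj ((sg0 L).X p)) :=
      Functor.map_isZero (tensorRight N') hz
    exact ⟨0, h1.eq_of_src _ _, h2.eq_of_src _ _⟩

end Flat

end Groth.Agent.Lib.Helper13.ACF
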