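import Groth.Agent.Lib.Helper13.ACF5

/-!
# The derived completion of `M ⊗ N` (`M` finite, `N` flat, Noetherian base): main derived theorem
-/

set_option autoImplicit false
set_option maxHeartbeats 800000
set_option linter.style.haveILetI false
universe u
open CategoryTheory CategoryTheory.Limits MonoidalCategory Pretriangulated
open CochainComplex CochainComplex.HomComplex HomologicalComplex
open scoped TensorProduct

namespace Groth.Agent.Lib.Helper13.ACF

open DTen Groth.Agent.Lib.Helper13.HT Groth.Agent.Lib.Helper13.SF Groth.Agent.Lib.Helper13.KP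
  Groth.Agent.Lib.Helper13.DT Groth.Agent.Lib.Helper13.DV Groth.Agent.Lib.Helper13.DCN
  Groth.Agent.Lib.Helper13.DR Groth.Agent.Lib.Helper13.PC Groth.Agent.Lib.Helper13
  Groth.Agent.Lib.Helper13.Coind Groth.Agent.Lib.Helper13.FC
  Groth.Agent.Lib.Helper2.RGTors Groth.Agent.Lib.Helper2.TorsExt
  Groth.Agent.Lib.Helper7.DerivedComplete Groth.Agent.Lib.Helper7.DerivedCompleteMT
  Groth.Agent.Lib.Helper7.FComplete Groth.Agent.Lib.Helper13.LDC

attribute [local instance] HasDerivedCategory.standard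

variable {A : Type u} [CommRing A]

section Resolution

variable [IsNoetherianRing A]

lemma exists_finiteFree_resolution (L : Type u) [AddCommGroup L] [Module A L] [Module.Finite A L] :
    ∃ (F : DRing.Cx A) (c : ℤ) (_ : DRing.VanishesAbove F c) (_ : DRing.TermwiseFiniteFree F)
      (_ : F.IsKProjective) (ε : F ⟶ sg0 (ModuleCat.of A L)), QuasiIso ε := by
  obtain ⟨F, c, hFc, hFf, ⟨eF⟩⟩ :=
    (isPseudoCoherentModule'_iff_of_isNoetherianRing (A := A) L).2 inferInstance
  have hFproj : F.IsKProjective := isKProjective_of_vanishesAbove F c hFc hFf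
  let e0 : Dual.inD A L ≅ DerivedCategory.Q.obj (sg0 (ModuleCat.of A L)) :=
    (DerivedCategory.singleFunctorIsoCompQ (ModuleCat.{u} A) 0).app (ModuleCat.of A L)
  obtain ⟨ε, hε⟩ := KP.exists_Q_map_eq (K := F) (L := sg0 (ModuleCat.of A L)) (eF.hom ≫ e0.hom)
  have hεq : QuasiIso ε := by
    rw [← DerivedCategory.isIso_Q_map_iff_quasiIso, hε]; infer_instance
  exact ⟨F, c, hFc, hFf, hFproj, ε, hεq⟩

end Resolution

section Sigma

/-- `M'[0] ⊗ X ≅ (M' ⊗ X)[0]`. -/
noncomputable def sigmaIso (M' X : ModuleCat.{u} A) :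
    (tensorCx X).obj (sg0 M') ≅ sg0 (M' ⊗ X) :=
  (HomologicalComplex.singleMapHomologicalComplex (tensorRight X) (ComplexShape.up ℤ) 0).app M'

lemma sigmaIso_naturality (M' : ModuleCat.{u} A) {X X' : ModuleCat.{u} A} (g : X ⟶ X') :
    tensorCxMap (sg0 M') g ≫ (sigmaIso M' X').hom =
      (sigmaIso M' X).hom ≫
        (HomologicalComplex.single (ModuleCat.{u} A) (ComplexShape.up ℤ) 0).map (M' ◁ g) := by
  apply HomologicalComplex.to_single_hom_ext
  let e := HomologicalComplex.singleObjXSelf (ComplexShape.up ℤ) (0 : ℤ) M'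
  let e₁ := HomologicalComplex.singleObjXSelf (ComplexShape.up ℤ) (0 : ℤ) (M' ⊗ X)
  let e₂ := HomologicalComplex.singleObjXSelf (ComplexShape.up ℤ) (0 : ℤ) (M' ⊗ X')
  have h1 : (sigmaIso M' X).hom.f 0 = (e.hom ▷ X) ≫ e₁.inv :=
    HomologicalComplex.singleMapHomologicalComplex_hom_app_self (tensorRight X)
      (ComplexShape.up ℤ) 0 M'
  have h2 : (sigmaIso M' X').hom.f 0 = (e.hom ▷ X') ≫ e₂.inv :=
    HomologicalComplex.singleMapHomologicalComplex_hom_app_self (tensorRight X')
      (ComplexShape.up ℤ) 0 M'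
  have h3 : ((HomologicalComplex.single (ModuleCat.{u} A) (ComplexShape.up ℤ) 0).map
      (M' ◁ g)).f 0 = e₁.hom ≫ (M' ◁ g) ≫ e₂.inv :=
    HomologicalComplex.single_map_f_self _ _ _
  change ((sg0 M').X 0 ◁ g) ≫ (sigmaIso M' X').hom.f 0 = (sigmaIso M' X).hom.f 0 ≫
    ((HomologicalComplex.single (ModuleCat.{u} A) (ComplexShape.up ℤ) 0).map (M' ◁ g)).f 0
  have key : ((sg0 M').X 0 ◁ g) ≫ ((e.hom ▷ X') ≫ e₂.inv) =
      ((e.hom ▷ X) ≫ e₁.inv) ≫ (e₁.hom ≫ (M' ◁ g) ≫ e₂.inv) := by
    rw [Category.assoc, Iso.inv_hom_id_assoc, ← Category.assoc, whisker_exchange, Category.assoc]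
  rw [h1, h2, h3]
  exact key

end Sigma

section Beta

variable (F : DRing.Cx A) (M' : ModuleCat.{u} A) (ε : F ⟶ sg0 M')

/-- The comparison `X[0] ⊗ F ⟶ (M' ⊗ X)[0]` induced by `ε : F ⟶ M'[0]`. -/
noncomputable def beta (X : ModuleCat.{u} A) : sg0 X ⊗ F ⟶ sg0 (M' ⊗ X) :=
  (singleTensorIso F X).hom ≫ (tensorCx X).map ε ≫ (sigmaIso M' X).hom

lemma beta_naturality {X X' : ModuleCat.{u} A} (g : X ⟶ X') :
    ((HomologicalComplex.single (ModuleCat.{u} A) (ComplexShape.up ℤ) 0).map g ▷ F) ≫
        beta F M' ε X' =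
      beta F M' ε X ≫
        (HomologicalComplex.single (ModuleCat.{u} A) (ComplexShape.up ℤ) 0).map (M' ◁ g) := by
  unfold beta
  rw [← Category.assoc, ← singleTensorIso_hom_naturality F g, Category.assoc,
    ← Category.assoc (tensorCxMap F g), ← tensorCxMap_naturality g ε, Category.assoc,
    sigmaIso_naturality M' g]
  simp only [Category.assoc]

instance quasiIso_beta [QuasiIso ε] (X : ModuleCat.{u} A) [Module.Flat A X] :
    QuasiIso (beta F M' ε X) := by
  unfold beta
  haveI := quasiIso_tensorCx_map X ε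
  infer_instance

end Beta

section D1

variable [IsNoetherianRing A] (I : Ideal A) (N : Type u) [AddCommGroup N] [Module A N]

/-- `N^` as an object of `ModuleCat A`. -/
noncomputable abbrev Nhat : ModuleCat.{u} A := ModuleCat.of A (AdicCompletion I N)

omit [IsNoetherianRing A] in
lemma subsingleton_HD_Q_sg0 (X : ModuleCat.{u} A) (i : ℤ) (hi : i ≠ 0) :
    Subsingleton (Dual.HD A (DerivedCategory.Q.obj (sg0 X)) i) :=
  ModuleCat.subsingleton_of_isZero
    (isZero_homology_Q_obj (sg0 X) i (HomologicalComplex.isZero_single_obj_X _ _ _ _ hi))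

theorem isDerivedComplete_Q_sg0_adic :
    DRing.IsDerivedComplete I (DerivedCategory.Q.obj (sg0 (Nhat I N))) := by
  have hI : I.FG := IsNoetherian.noetherian I
  have h : DRing.IsDerivedComplete I (Dual.inD A (AdicCompletion I N)) := by
    rw [isDerivedComplete_inD_iff]
    intro f hf
    have := AdicCompletion.isAdicComplete (I := I) (M := N) hI
    exact isFComplete_of_isAdicComplete hf (AdicCompletion I N)
  exact Groth.Agent.Lib.Helper7.DerivedComplete.of_iso I
    ((DerivedCategory.singleFunctorIsoCompQ (ModuleCat.{u} A) 0).app (Nhat I N)) h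

variable [Module.Flat A N] [DRing.HasDerivedCompletion I]

/-- **`N^[0]` is the derived completion of `N[0]`** for a flat module `N` over a Noetherian
ring. -/
theorem isUniv_Q_map_single_gN :
    IsUniv I (DerivedCategory.Q.map
      ((HomologicalComplex.single (ModuleCat.{u} A) (ComplexShape.up ℤ) 0).map (gN I N))) := by
  obtain ⟨Fr, cF, hFc, hFf, hFrP, π, hπ⟩ := exists_finiteFree_resolution (A := A) (A ⧸ I)
  have hFr : KFlat Fr := isKFlat_of_isKProjective Fr
  let MI : ModuleCat.{u} A := ModuleCat.of A (A ⧸ I)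
  let S : DRing.Cx A := sg0 MI
  have hMI : ∀ a ∈ I, ∀ x : MI, a • x = 0 := fun a ha x => quotient_smul_eq_zero I a ha x
  have hkS : ∀ a ∈ I, a • 𝟙 S = 0 := fun a ha => smul_id_sg0_eq_zero MI a (hMI a ha)
  let N0 : ModuleCat.{u} A := ModuleCat.of A N
  let g : N0 ⟶ Nhat I N := gN I N
  haveI : Module.Flat A N0 := inferInstanceAs (Module.Flat A N)
  haveI : Module.Flat A (Nhat I N) := flat_adicCompletion I N
  have q1 : QuasiIso ((tensorCx N0).map π) := quasiIso_tensorCx_map N0 π
  have q2 : QuasiIso ((tensorCx (Nhat I N)).map π) := quasiIso_tensorCx_map (Nhat I N) π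
  have hfin : Module.Finite A MI := inferInstanceAs (Module.Finite A (A ⧸ I))
  have i0 : IsIso (tensorCxMap S g) :=
    isIso_tensorCxMap_sg0 MI g (isIso_whiskerLeft_gN I N MI hMI)
  have nat := tensorCxMap_naturality g π
  have q3 : QuasiIso (tensorCxMap Fr g ≫ (tensorCx (Nhat I N)).map π) := by
    rw [← nat]; infer_instance
  have q : QuasiIso (tensorCxMap Fr g) :=
    quasiIso_of_comp_right _ ((tensorCx (Nhat I N)).map π)
  have qw : QuasiIso ((HomologicalComplex.single (ModuleCat.{u} A) (ComplexShape.up ℤ) 0).map g ▷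
      Fr) := by
    have h1 := singleTensorIso_hom_naturality Fr g
    have : (HomologicalComplex.single (ModuleCat.{u} A) (ComplexShape.up ℤ) 0).map g ▷ Fr =
        (singleTensorIso Fr N0).hom ≫ tensorCxMap Fr g ≫ (singleTensorIso Fr (Nhat I N)).inv := by
      rw [← Category.assoc, h1, Category.assoc, Iso.hom_inv_id, Category.comp_id]
    rw [this]; infer_instance
  refine isUniv_of_isIso_Psi I Fr cF hFc hFf hFr π hπ _ (isDerivedComplete_Q_sg0_adic I N) 0
    (fun i hi => subsingleton_HD_Q_sg0 N0 i (by lia)) ?_ ?_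
  · -- the source of `Ψ(u)` is derived complete
    let e1 : (Psi Fr hFr).obj (DerivedCategory.Q.obj (sg0 N0)) ≅
        DerivedCategory.Q.obj (sg0 N0 ⊗ Fr) := (psiIso Fr hFr).app (sg0 N0)
    let e2 : DerivedCategory.Q.obj (sg0 N0 ⊗ Fr) ≅ DerivedCategory.Q.obj ((tensorCx N0).obj Fr) :=
      DerivedCategory.Q.mapIso (singleTensorIso Fr N0)
    have i3 : IsIso (DerivedCategory.Q.map ((tensorCx N0).map π)) := by
      rw [DerivedCategory.isIso_Q_map_iff_quasiIso]; exact q1
    let e3 : DerivedCategory.Q.obj ((tensorCx N0).obj Fr) ≅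
        DerivedCategory.Q.obj ((tensorCx N0).obj S) := asIso (DerivedCategory.Q.map ((tensorCx N0).map π))
    have hc : DRing.IsDerivedComplete I (DerivedCategory.Q.obj ((tensorCx N0).obj S)) :=
      isDerivedComplete_Q_of_smul_id_eq_zero I _
        (fun a ha => smul_id_tensorCx_eq_zero N0 S a (hkS a ha))
    exact Groth.Agent.Lib.Helper7.DerivedComplete.of_iso I (e1 ≪≫ e2 ≪≫ e3).symm hc
  · rw [Psi_map_Q_map]
    have : IsIso (DerivedCategory.Q.map
        ((HomologicalComplex.single (ModuleCat.{u} A) (ComplexShape.up ℤ) 0).map g ▷ Fr)) := by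
      rw [DerivedCategory.isIso_Q_map_iff_quasiIso]; exact qw
    infer_instance

end D1

section D2

variable [IsNoetherianRing A] (I : Ideal A) (N : Type u) [AddCommGroup N] [Module A N]
  [Module.Flat A N] [DRing.HasDerivedCompletion I]
  (M : Type u) [AddCommGroup M] [Module A M] [Module.Finite A M]

/-- **`(M ⊗ N^)[0]` is the derived completion of `(M ⊗ N)[0]`** for `M` finite and `N` flat over
a Noetherian ring. -/
theorem isUniv_Q_map_single_whiskerLeft_gN :
    IsUniv I (DerivedCategory.Q.map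
      ((HomologicalComplex.single (ModuleCat.{u} A) (ComplexShape.up ℤ) 0).map
        (ModuleCat.of A M ◁ gN I N))) ∧
    DRing.IsDerivedComplete I (DerivedCategory.Q.obj (sg0 (ModuleCat.of A M ⊗ Nhat I N))) := by
  have hI : I.FG := IsNoetherian.noetherian I
  obtain ⟨F, c, hFc, hFf, hFP, ε, hε⟩ := exists_finiteFree_resolution (A := A) M
  have hF : KFlat F := isKFlat_of_isKProjective F
  let M' : ModuleCat.{u} A := ModuleCat.of A M
  let N0 : ModuleCat.{u} A := ModuleCat.of A N
  let g : N0 ⟶ Nhat I N := gN I N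
  haveI : Module.Flat A N0 := inferInstanceAs (Module.Flat A N)
  haveI : Module.Flat A (Nhat I N) := flat_adicCompletion I N
  let K : Dual.D A := DerivedCategory.Q.obj (sg0 N0)
  let Z : Dual.D A := DerivedCategory.Q.obj (sg0 (Nhat I N))
  let u : K ⟶ Z := DerivedCategory.Q.map
    ((HomologicalComplex.single (ModuleCat.{u} A) (ComplexShape.up ℤ) 0).map g)
  have hZ : DRing.IsDerivedComplete I Z := isDerivedComplete_Q_sg0_adic I N
  have h1 : IsUniv I u := isUniv_Q_map_single_gN I N
  obtain ⟨ε', hε'⟩ := exists_iso_derivedCompletion_compat I K Z u hZ h1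
  have hK : ∀ i : ℤ, 0 < i → Subsingleton (Dual.HD A K i) :=
    fun i hi => subsingleton_HD_Q_sg0 N0 i (by lia)
  have hΨu : IsUniv I ((Psi F hF).map u) := by
    refine IsUniv.of_sq (Iso.refl _) ((Psi F hF).mapIso ε') ?_ (isUniv_Psi_map I hI F hF K)
    change 𝟙 _ ≫ (Psi F hF).map (DRing.toDerivedCompletion I K) =
      (Psi F hF).map u ≫ (Psi F hF).map ε'.hom
    rw [Category.id_comp, ← Functor.map_comp, hε']
  have hΨZ : DRing.IsDerivedComplete I ((Psi F hF).obj Z) :=
    Groth.Agent.Lib.Helper7.DerivedComplete.of_iso I ((Psi F hF).mapIso ε').symm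
      (isDerivedComplete_Psi_completion I F hF c hFc hFf K 0 hK)
  -- transport along `beta`
  have ib : ∀ (X : ModuleCat.{u} A) [Module.Flat A X],
      IsIso (DerivedCategory.Q.map (beta F M' ε X)) := by
    intro X _
    rw [DerivedCategory.isIso_Q_map_iff_quasiIso]; infer_instance
  haveI := ib N0
  haveI := ib (Nhat I N)
  let α : ∀ (X : ModuleCat.{u} A) [Module.Flat A X],
      (Psi F hF).obj (DerivedCategory.Q.obj (sg0 X)) ≅ DerivedCategory.Q.obj (sg0 (M' ⊗ X)) :=
    fun X _ => (psiIso F hF).app (sg0 X) ≪≫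
      (haveI := ib X; asIso (DerivedCategory.Q.map (beta F M' ε X)))
  have sq : (α N0).hom ≫ DerivedCategory.Q.map
      ((HomologicalComplex.single (ModuleCat.{u} A) (ComplexShape.up ℤ) 0).map (M' ◁ g)) =
      (Psi F hF).map u ≫ (α (Nhat I N)).hom := by
    change ((psiIso F hF).hom.app (sg0 N0) ≫ DerivedCategory.Q.map (beta F M' ε N0)) ≫ _ =
      (Psi F hF).map (DerivedCategory.Q.map _) ≫
        ((psiIso F hF).hom.app (sg0 (Nhat I N)) ≫ DerivedCategory.Q.map (beta F M' ε (Nhat I N)))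
    rw [Psi_map_Q_map, Category.assoc, Category.assoc, Category.assoc, Iso.inv_hom_id_app_assoc,
      ← Functor.map_comp, ← Functor.map_comp, beta_naturality]
  constructor
  · exact IsUniv.of_sq (α N0).symm (α (Nhat I N)).symm (by
      change (α N0).inv ≫ (Psi F hF).map u = _ ≫ (α (Nhat I N)).inv
      rw [Iso.inv_comp_eq, ← Category.assoc, Iso.eq_comp_inv, sq]) hΨu
  · exact Groth.Agent.Lib.Helper7.DerivedComplete.of_iso I (α (Nhat I N)) hΨZ

end D2

end Groth.Agent.Lib.Helper13.ACF
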