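import Groth.Agent.Lib.Helper13.ACF6

/-!
# S7061: the derived completion of `M ⊗ N` (`M` finite, `N` flat, Noetherian base)
-/

set_option autoImplicit false
set_option maxHeartbeats 800000
set_option linter.style.haveILetI false
universe u
open CategoryTheory CategoryTheory.Limits MonoidalCategory Pretriangulated
open CochainComplex CochainComplex.HomComplex HomologicalComplex
open scoped TensorProduct

namespace Groth.Agent.Lib.Helper13.ACF

open DTen Groth.Agent.Lib.Helper13.HT Groth.Agent.Lib.Helper13.SF Groth.Agent.Lib.Helper13.KP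
  Groth.Agent.Lib.Helper13.DT Groth.Agent.Lib.Helper13.DV Groth.Agent.Lib.Helper13.DCN
  Groth.Agent.Lib.Helper13.DR Groth.Agent.Lib.Helper13.PC Groth.Agent.Lib.Helper13
  Groth.Agent.Lib.Helper13.Coind Groth.Agent.Lib.Helper13.FC
  Groth.Agent.Lib.Helper2.RGTors Groth.Agent.Lib.Helper2.TorsExt
  Groth.Agent.Lib.Helper7.DerivedComplete Groth.Agent.Lib.Helper7.DerivedCompleteMT
  Groth.Agent.Lib.Helper7.FComplete Groth.Agent.Lib.Helper13.LDC

attribute [local instance] HasDerivedCategory.standard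

variable {A : Type u} [CommRing A] [IsNoetherianRing A] (I : Ideal A)
  (N : Type u) [AddCommGroup N] [Module A N] [Module.Flat A N]
  (M : Type u) [AddCommGroup M] [Module A M] [Module.Finite A M]

/-- `M ⊗ N^ ≃ (M ⊗ N)^`. -/
noncomputable def thetaEquiv : M ⊗[A] AdicCompletion I N ≃ₗ[A] AdicCompletion I (M ⊗[A] N) :=
  (TensorProduct.comm A M (AdicCompletion I N)).trans
    ((LinearEquiv.ofBijective (theta I N M) (theta_bijective I N M)).trans
      ((AdicCompletion.congr I (TensorProduct.comm A N M)).restrictScalars A))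

lemma thetaEquiv_lTensor_of :
    (thetaEquiv I N M).toLinearMap ∘ₗ (LinearMap.lTensor M (AdicCompletion.of I N)) =
      AdicCompletion.of I (M ⊗[A] N) := by
  apply TensorProduct.ext'
  intro m n
  change (AdicCompletion.congr I (TensorProduct.comm A N M))
    (theta I N M (AdicCompletion.of I N n ⊗ₜ m)) = _
  rw [theta_of_tmul, AdicCompletion.congr_apply, AdicCompletion.map_of]
  rfl

lemma thetaEquiv_lTensor_of_apply (x : M ⊗[A] N) :
    thetaEquiv I N M (LinearMap.lTensor M (AdicCompletion.of I N) x) =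
      AdicCompletion.of I (M ⊗[A] N) x :=
  congrArg (fun φ => φ x) (thetaEquiv_lTensor_of I N M)

variable [DRing.HasDerivedCompletion I]

/-- **S7061.** -/
theorem main :
    (∀ i : ℤ, i ≠ 0 → Subsingleton (Dual.HD A
      ((DRing.derivedCompletion I).obj (Dual.inD A (M ⊗[A] N))).obj i)) ∧
      ∃ e : Dual.HD A ((DRing.derivedCompletion I).obj (Dual.inD A (M ⊗[A] N))).obj 0 ≃ₗ[A]
          AdicCompletion I (M ⊗[A] N),
        ∀ x : M ⊗[A] N,
          e ((((DerivedCategory.singleFunctorCompHomologyFunctorIso (ModuleCat.{u} A) 0).inv.app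
                (ModuleCat.of A (M ⊗[A] N))) ≫
              (DerivedCategory.homologyFunctor (ModuleCat.{u} A) 0).map
                (DRing.toDerivedCompletion I (Dual.inD A (M ⊗[A] N)))).hom x) =
            AdicCompletion.of I (M ⊗[A] N) x := by
  let M' : ModuleCat.{u} A := ModuleCat.of A M
  let N0 : ModuleCat.{u} A := ModuleCat.of A N
  let g : N0 ⟶ Nhat I N := gN I N
  let T : ModuleCat.{u} A := ModuleCat.of A (M ⊗[A] N)
  let T' : ModuleCat.{u} A := ModuleCat.of A (M ⊗[A] AdicCompletion I N)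
  let w : T ⟶ T' := M' ◁ g
  obtain ⟨h1, h2⟩ := isUniv_Q_map_single_whiskerLeft_gN I N M
  let sF := DerivedCategory.singleFunctor (ModuleCat.{u} A) 0
  let sQ := DerivedCategory.singleFunctorIsoCompQ (ModuleCat.{u} A) 0
  let K₀ : Dual.D A := Dual.inD A (M ⊗[A] N)
  let Z : Dual.D A := sF.obj T'
  let u₁ : K₀ ⟶ Z := sF.map w
  have hZ : DRing.IsDerivedComplete I Z :=
    Groth.Agent.Lib.Helper7.DerivedComplete.of_iso I (sQ.app T').symm h2
  have hu₁ : IsUniv I u₁ := by
    refine IsUniv.of_sq (sQ.app T) (sQ.app T') ?_ h1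
    exact (sQ.hom.naturality w).symm
  obtain ⟨ε, hε⟩ := exists_iso_derivedCompletion_compat I K₀ Z u₁ hZ hu₁
  let ι := DerivedCategory.singleFunctorCompHomologyFunctorIso (ModuleCat.{u} A) 0
  constructor
  · intro i hi
    have hz : Subsingleton (Dual.HD A Z i) := by
      have hs := subsingleton_HD_Q_sg0 T' i hi
      exact @Equiv.subsingleton _ _ (((Hi i).mapIso (sQ.app T')).toLinearEquiv.toEquiv) hs
    exact @Equiv.subsingleton _ _ (((Hi i).mapIso ε.symm).toLinearEquiv.toEquiv) hz
  · let e1 : Dual.HD A ((DRing.derivedCompletion I).obj K₀).obj 0 ≃ₗ[A] Dual.HD A Z 0 :=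
      ((Hi 0).mapIso ε.symm).toLinearEquiv
    let e2 : Dual.HD A Z 0 ≃ₗ[A] (M ⊗[A] AdicCompletion I N) := (ι.app T').toLinearEquiv
    refine ⟨e1 ≪≫ₗ e2 ≪≫ₗ thetaEquiv I N M, fun x => ?_⟩
    have nat : ι.inv.app T ≫ (Hi 0).map u₁ = w ≫ ι.inv.app T' := (ι.inv.naturality w).symm
    have hcomp : (Hi 0).map (DRing.toDerivedCompletion I K₀) ≫ (Hi 0).map ε.inv =
        (Hi 0).map u₁ := by
      rw [← Functor.map_comp, ← hε, Category.assoc, Iso.hom_inv_id, Category.comp_id]
    have key : (ι.inv.app T ≫ (Hi 0).map (DRing.toDerivedCompletion I K₀)) ≫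
        (Hi 0).map ε.inv ≫ ι.hom.app T' = w := by
      rw [Category.assoc, ← Category.assoc ((Hi 0).map _), hcomp, ← Category.assoc, nat,
        Category.assoc, Iso.inv_hom_id_app]
      exact Category.comp_id w
    have key' := congrArg (fun φ => φ.hom x) key
    change thetaEquiv I N M ((ι.hom.app T').hom (((Hi 0).map ε.inv).hom
      ((ι.inv.app T ≫ (Hi 0).map (DRing.toDerivedCompletion I K₀)).hom x))) = _
    have key'' : (ι.hom.app T').hom (((Hi 0).map ε.inv).hom
        ((ι.inv.app T ≫ (Hi 0).map (DRing.toDerivedCompletion I K₀)).hom x)) = w.hom x := key'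
    rw [key'']
    exact thetaEquiv_lTensor_of_apply I N M x

end Groth.Agent.Lib.Helper13.ACF
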