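import Groth.Agent.Lib.Helper13.DualBC5
import Mathlib.Algebra.Homology.DerivedCategory.ShortExact
import Mathlib.Algebra.Homology.DerivedCategory.KInjective

/-!
# Biduality for dualizing complexes: the dual complex `Hom_A(M, I^•)`
-/

set_option autoImplicit false
set_option linter.unusedSectionVars false

open CategoryTheory CategoryTheory.Limits

universe u

namespace Groth.Agent.Lib.Helper13.BD

variable {A : Type u} [CommRing A] (I : DRing.Cx A)

lemma d_d_apply (p q r : ℤ) (x : I.X p) : (I.d q r).hom ((I.d p q).hom x) = 0 := by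
  have h := I.d_comp_d p q r
  have h2 : ((I.d p q) ≫ (I.d q r)).hom x = (0 : I.X p ⟶ I.X r).hom x := by rw [h]
  exact h2

/-- The dual complex `Hom_A(M, I^•)`. -/
noncomputable def Dm (M : ModuleCat.{u} A) : DRing.Cx A where
  X p := ModuleCat.of A (M →ₗ[A] I.X p)
  d p q := ModuleCat.ofHom (LinearMap.compRight A (I.d p q).hom)
  shape p q h := by
    refine ModuleCat.hom_ext (LinearMap.ext fun (f : M →ₗ[A] I.X p) => LinearMap.ext fun x => ?_)
    change (I.d p q).hom (f x) = 0
    rw [I.shape p q h]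
    rfl
  d_comp_d' p q r _ _ := by
    refine ModuleCat.hom_ext (LinearMap.ext fun (f : M →ₗ[A] I.X p) => LinearMap.ext fun x => ?_)
    change (I.d q r).hom ((I.d p q).hom (f x)) = 0
    exact d_d_apply I p q r (f x)

/-- An element of the dual complex as a linear map. -/
def toLin {M : ModuleCat.{u} A} {p : ℤ} (f : (Dm I M).X p) : M →ₗ[A] I.X p := f

/-- A linear map as an element of the dual complex. -/
def ofLin {M : ModuleCat.{u} A} {p : ℤ} (f : M →ₗ[A] I.X p) : (Dm I M).X p := f

lemma Dm_d_apply (M : ModuleCat.{u} A) (p q : ℤ) (f : (Dm I M).X p) (x : M) :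
    toLin I (((Dm I M).d p q).hom f) x = (I.d p q).hom (toLin I f x) := rfl

lemma Dm_ext {M : ModuleCat.{u} A} {p : ℤ} (f g : (Dm I M).X p)
    (h : ∀ x, toLin I f x = toLin I g x) : f = g := LinearMap.ext h

/-- Contravariant functoriality of the dual complex. -/
noncomputable def DmMap {M N : ModuleCat.{u} A} (g : M ⟶ N) : Dm I N ⟶ Dm I M where
  f p := ModuleCat.ofHom (LinearMap.lcomp A (I.X p) g.hom)
  comm' p q _ := by
    refine ModuleCat.hom_ext (LinearMap.ext fun (f : N →ₗ[A] I.X p) => LinearMap.ext fun x => ?_)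
    rfl

lemma DmMap_f_apply {M N : ModuleCat.{u} A} (g : M ⟶ N) (p : ℤ) (f : (Dm I N).X p) (x : M) :
    toLin I (((DmMap I g).f p).hom f) x = toLin I f (g.hom x) := rfl

lemma DmMap_id (M : ModuleCat.{u} A) : DmMap I (𝟙 M) = 𝟙 _ := by
  refine HomologicalComplex.hom_ext _ _ (fun p => ModuleCat.hom_ext (LinearMap.ext fun f => ?_))
  exact Dm_ext I _ _ (fun x => rfl)

lemma DmMap_comp {M N P : ModuleCat.{u} A} (g : M ⟶ N) (h : N ⟶ P) :
    DmMap I (g ≫ h) = DmMap I h ≫ DmMap I g := by
  refine HomologicalComplex.hom_ext _ _ (fun p => ModuleCat.hom_ext (LinearMap.ext fun f => ?_))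
  exact Dm_ext I _ _ (fun x => rfl)

lemma DmMap_add {M N : ModuleCat.{u} A} (g h : M ⟶ N) :
    DmMap I (g + h) = DmMap I g + DmMap I h := by
  refine HomologicalComplex.hom_ext _ _ (fun p => ModuleCat.hom_ext (LinearMap.ext fun f => ?_))
  refine Dm_ext I _ _ (fun x => ?_)
  change toLin I f ((g + h).hom x) = toLin I f (g.hom x) + toLin I f (h.hom x)
  rw [ModuleCat.hom_add, LinearMap.add_apply, map_add]

lemma DmMap_zero {M N : ModuleCat.{u} A} : DmMap I (0 : M ⟶ N) = 0 := by
  refine HomologicalComplex.hom_ext _ _ (fun p => ModuleCat.hom_ext (LinearMap.ext fun f => ?_))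
  refine Dm_ext I _ _ (fun x => ?_)
  change toLin I f ((0 : M ⟶ N).hom x) = 0
  rw [ModuleCat.hom_zero, LinearMap.zero_apply, map_zero]

/-- Evaluation at an element. -/
noncomputable def evm (M : ModuleCat.{u} A) (m : M) : Dm I M ⟶ I where
  f p := ModuleCat.ofHom (LinearMap.applyₗ m)
  comm' p q _ := by
    refine ModuleCat.hom_ext (LinearMap.ext fun (f : M →ₗ[A] I.X p) => ?_)
    rfl

lemma evm_f_apply (M : ModuleCat.{u} A) (m : M) (p : ℤ) (f : (Dm I M).X p) :
    ((evm I M m).f p).hom f = toLin I f m := rfl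

lemma evm_add (M : ModuleCat.{u} A) (m m' : M) : evm I M (m + m') = evm I M m + evm I M m' := by
  refine HomologicalComplex.hom_ext _ _ (fun p => ModuleCat.hom_ext (LinearMap.ext fun f => ?_))
  change toLin I f (m + m') = toLin I f m + toLin I f m'
  rw [map_add]

lemma evm_zero (M : ModuleCat.{u} A) : evm I M 0 = 0 := by
  refine HomologicalComplex.hom_ext _ _ (fun p => ModuleCat.hom_ext (LinearMap.ext fun f => ?_))
  change toLin I f 0 = 0
  rw [map_zero]

lemma evm_smul (M : ModuleCat.{u} A) (a : A) (m : M) : evm I M (a • m) = a • evm I M m := by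
  refine HomologicalComplex.hom_ext _ _ (fun p => ModuleCat.hom_ext (LinearMap.ext fun f => ?_))
  change toLin I f (a • m) = a • toLin I f m
  rw [map_smul]

lemma DmMap_evm {M N : ModuleCat.{u} A} (g : M ⟶ N) (m : M) :
    DmMap I g ≫ evm I M m = evm I N (g.hom m) := by
  refine HomologicalComplex.hom_ext _ _ (fun p => ModuleCat.hom_ext (LinearMap.ext fun f => ?_))
  rfl

/-- The dual of a short complex of modules. -/
noncomputable def DmSC (S : ShortComplex (ModuleCat.{u} A)) : ShortComplex (DRing.Cx A) :=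
  ShortComplex.mk (DmMap I S.g) (DmMap I S.f) (by rw [← DmMap_comp, S.zero, DmMap_zero])

lemma DmSC_shortExact (hI : DRing.TermwiseInjective I) (S : ShortComplex (ModuleCat.{u} A))
    (hS : S.ShortExact) : (DmSC I S).ShortExact := by
  refine HomologicalComplex.shortExact_of_degreewise_shortExact _ (fun p => ?_)
  have hinj := hS.moduleCat_injective_f
  have hsurj := hS.moduleCat_surjective_g
  have hex := (ShortComplex.ShortExact.moduleCat_exact_iff_function_exact S).1 hS.exact
  have := hI p
  refine { exact := ?_, mono_f := ?_, epi_g := ?_ }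
  · rw [ShortComplex.ShortExact.moduleCat_exact_iff_function_exact]
    intro (f : S.X₂ →ₗ[A] I.X p)
    constructor
    · intro hf
      have hf' : ∀ x, f (S.f.hom x) = 0 := fun x => LinearMap.congr_fun hf x
      -- `f` vanishes on the range of `S.f`, so it factors through `S.g`
      have hker : LinearMap.ker S.g.hom ≤ LinearMap.ker f := by
        intro y hy
        obtain ⟨x, rfl⟩ := (hex y).1 hy
        exact hf' x
      let g : S.X₃ →ₗ[A] I.X p := (LinearMap.ker S.g.hom).liftQ f hker ∘ₗ
        (S.g.hom.quotKerEquivOfSurjective hsurj).symm.toLinearMap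
      refine ⟨g, ?_⟩
      refine LinearMap.ext (fun y => ?_)
      change ((LinearMap.ker S.g.hom).liftQ f hker)
        ((S.g.hom.quotKerEquivOfSurjective hsurj).symm (S.g.hom y)) = f y
      have : (S.g.hom.quotKerEquivOfSurjective hsurj).symm (S.g.hom y) =
          Submodule.Quotient.mk y := by
        rw [LinearEquiv.symm_apply_eq]
        rfl
      rw [this]
      rfl
    · rintro ⟨(g : S.X₃ →ₗ[A] I.X p), rfl⟩
      refine LinearMap.ext (fun x => ?_)
      change g (S.g.hom (S.f.hom x)) = 0
      have : S.g.hom (S.f.hom x) = 0 := S.moduleCat_zero_apply x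
      rw [this, map_zero]
  · rw [ModuleCat.mono_iff_injective]
    intro (f : S.X₃ →ₗ[A] I.X p) (f' : S.X₃ →ₗ[A] I.X p) hff
    refine LinearMap.ext (fun z => ?_)
    obtain ⟨y, rfl⟩ := hsurj z
    exact LinearMap.congr_fun hff y
  · rw [ModuleCat.epi_iff_surjective]
    intro (f : S.X₁ →ₗ[A] I.X p)
    obtain ⟨h, hh⟩ := Module.Baer.extension_property (Module.Baer.of_injective (hI p))
      S.f.hom hinj f
    exact ⟨h, hh⟩

end Groth.Agent.Lib.Helper13.BD
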