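import Groth.Agent.Lib.Helper13.BD1

/-!
# Biduality: generic lemmas on the contravariant long exact sequence
-/

set_option autoImplicit false
set_option linter.unusedSectionVars false

open CategoryTheory CategoryTheory.Limits Pretriangulated

universe u

namespace Groth.Agent.Lib.Helper13.BD

section Generic

variable {D : Type*} [Category D] [Preadditive D] [HasZeroObject D] [HasShift D ℤ]
  [∀ n : ℤ, (shiftFunctor D n).Additive] [Pretriangulated D]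

/-- `Hom(Z[1], W[j]) = 0` if `Hom(Z, W[j-1]) = 0`. -/
lemma eq_zero_of_subsingleton_shift (Z W : D) (j j' : ℤ) (hj : j' + 1 = j)
    (h : Subsingleton (Z ⟶ W⟦j'⟧)) (g : Z⟦(1 : ℤ)⟧ ⟶ W⟦j⟧) : g = 0 := by
  let e : (W⟦j'⟧)⟦(1 : ℤ)⟧ ≅ W⟦j⟧ := ((shiftFunctorAdd' D j' 1 j hj).app _).symm
  have hg0 : g ≫ e.inv = 0 := by
    have h0 : (shiftFunctor D (1 : ℤ)).preimage (g ≫ e.inv) = 0 := Subsingleton.elim _ _
    rw [← (shiftFunctor D (1 : ℤ)).map_preimage (g ≫ e.inv), h0, Functor.map_zero]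
  rw [← cancel_mono e.inv, hg0, zero_comp]

/-- `Hom(Z[-1], W[i]) = 0` if `Hom(Z, W[i+1]) = 0`. -/
lemma eq_zero_of_subsingleton_shift' (Z W : D) (i i' : ℤ) (hi : i + 1 = i')
    (h : Subsingleton (Z ⟶ W⟦i'⟧)) (g : Z⟦(-1 : ℤ)⟧ ⟶ W⟦i⟧) : g = 0 := by
  have h1 : Subsingleton (Z ⟶ (W⟦i⟧)⟦(1 : ℤ)⟧) :=
    (Iso.homCongr (Iso.refl Z) ((shiftFunctorAdd' D i 1 i' hi).app W)).symm.subsingleton
  have h2 := (Groth.Agent.Lib.Helper13.Coind.subsingleton_shift_iff Z (W⟦i⟧) 1).2 h1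
  exact Subsingleton.elim _ _

variable (T : Triangle D) (W : D)

/-- Surjectivity of `Hom(T₂, W[i]) → Hom(T₁, W[i])` when `Hom(T₃, W[i+1]) = 0`. -/
lemma yo_surj (hT : T ∈ distTriang D) (i i' : ℤ) (hi : i + 1 = i') (h : Subsingleton (T.obj₃ ⟶ W⟦i'⟧))
    (z : T.obj₁ ⟶ W⟦i⟧) : ∃ g : T.obj₂ ⟶ W⟦i⟧, z = T.mor₁ ≫ g := by
  have h0 : T.invRotate.mor₁ ≫ z = 0 := eq_zero_of_subsingleton_shift' T.obj₃ W i i' hi h _
  exact Triangle.yoneda_exact₂ _ (inv_rot_of_distTriang _ hT) z h0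

/-- Injectivity of `Hom(T₃, W[j]) → Hom(T₂, W[j])` when `Hom(T₁, W[j-1]) = 0`. -/
lemma yo_inj (hT : T ∈ distTriang D) (j j' : ℤ) (hj : j' + 1 = j) (h : Subsingleton (T.obj₁ ⟶ W⟦j'⟧))
    (y : T.obj₃ ⟶ W⟦j⟧) (hy : T.mor₂ ≫ y = 0) : y = 0 := by
  obtain ⟨g, hg⟩ := Triangle.yoneda_exact₃ _ hT y hy
  rw [hg, eq_zero_of_subsingleton_shift T.obj₁ W j j' hj h g, comp_zero]

/-- The connecting map `Hom(T₁, W[i]) → Hom(T₃, W[i+1])`. -/
noncomputable def yoδ (i i' : ℤ) (hi : i + 1 = i') (x : T.obj₁ ⟶ W⟦i⟧) : T.obj₃ ⟶ W⟦i'⟧ :=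
  T.mor₃ ≫ x⟦(1 : ℤ)⟧' ≫ (shiftFunctorAdd' D i 1 i' hi).inv.app W

lemma mor₂_yoδ (hT : T ∈ distTriang D) (i i' : ℤ) (hi : i + 1 = i') (x : T.obj₁ ⟶ W⟦i⟧) :
    T.mor₂ ≫ yoδ T W i i' hi x = 0 := by
  unfold yoδ
  rw [← Category.assoc, comp_distTriang_mor_zero₂₃ _ hT, zero_comp]

lemma eq_zero_of_yoδ_eq_zero (hT : T ∈ distTriang D) (i i' : ℤ) (hi : i + 1 = i') (h : Subsingleton (T.obj₂ ⟶ W⟦i⟧))
    (x : T.obj₁ ⟶ W⟦i⟧) (hx : yoδ T W i i' hi x = 0) : x = 0 := by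
  have h1 : T.mor₃ ≫ x⟦(1 : ℤ)⟧' = 0 := by
    have h2 : (T.mor₃ ≫ x⟦(1 : ℤ)⟧') ≫ (shiftFunctorAdd' D i 1 i' hi).inv.app W = 0 := by
      rw [Category.assoc]; exact hx
    rw [← cancel_mono ((shiftFunctorAdd' D i 1 i' hi).inv.app W), h2, zero_comp]
  obtain ⟨g, hg⟩ := Triangle.yoneda_exact₃ _ (rot_of_distTriang _ hT) (x⟦(1 : ℤ)⟧') h1
  have hg0 : g = 0 := by
    have h0 : (shiftFunctor D (1 : ℤ)).preimage g = 0 := @Subsingleton.elim _ h _ _
    rw [← (shiftFunctor D (1 : ℤ)).map_preimage g, h0, Functor.map_zero]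
  rw [hg0, comp_zero] at hg
  exact (shiftFunctor D (1 : ℤ)).map_injective (hg.trans (Functor.map_zero _ _ _).symm)

end Generic

section Main

open DerivedCategory

attribute [local instance] HasDerivedCategory.standard

variable {A : Type u} [CommRing A] (I : DRing.Cx A)

/-- The distinguished triangle attached to a short exact sequence of modules. -/
noncomputable def tri (hI : DRing.TermwiseInjective I) (S : ShortComplex (ModuleCat.{u} A))
    (hS : S.ShortExact) : Triangle (Dual.D A) :=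
  DerivedCategory.triangleOfSES (DmSC_shortExact I hI S hS)

lemma tri_dist (hI : DRing.TermwiseInjective I) (S : ShortComplex (ModuleCat.{u} A))
    (hS : S.ShortExact) : tri I hI S hS ∈ distTriang (Dual.D A) :=
  DerivedCategory.triangleOfSES_distinguished _

/-- `T^i(M) = Hom(D(M), ω[i])`. -/
abbrev T (i : ℤ) (M : ModuleCat.{u} A) : Type (u + 1) :=
  (Q.obj (Dm I M) : Dual.D A) ⟶ (Q.obj I : Dual.D A)⟦i⟧

/-- Covariant functoriality of `T^i`. -/
noncomputable def Tmap (i : ℤ) {M N : ModuleCat.{u} A} (g : M ⟶ N) (x : T I i M) : T I i N :=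
  Q.map (DmMap I g) ≫ x

lemma Tmap_add (i : ℤ) {M N : ModuleCat.{u} A} (g : M ⟶ N) (x y : T I i M) :
    Tmap I i g (x + y) = Tmap I i g x + Tmap I i g y := Preadditive.comp_add _ _ _ _ _ _

lemma Tmap_zero (i : ℤ) {M N : ModuleCat.{u} A} (g : M ⟶ N) :
    Tmap I i g (0 : T I i M) = 0 := comp_zero

lemma Tmap_sub (i : ℤ) {M N : ModuleCat.{u} A} (g : M ⟶ N) (x y : T I i M) :
    Tmap I i g (x - y) = Tmap I i g x - Tmap I i g y := Preadditive.comp_sub _ _ _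

/-- The biduality map `M → Hom(D(M), ω)`. -/
noncomputable def eta (M : ModuleCat.{u} A) (m : M) : T I 0 M :=
  Q.map (evm I M m) ≫ (shiftFunctorZero (Dual.D A) ℤ).inv.app _

lemma eta_add (M : ModuleCat.{u} A) (m m' : M) : eta I M (m + m') = eta I M m + eta I M m' := by
  unfold eta
  rw [evm_add, Functor.map_add, Preadditive.add_comp]

lemma eta_zero (M : ModuleCat.{u} A) : eta I M 0 = 0 := by
  unfold eta
  rw [evm_zero, Functor.map_zero, zero_comp]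

lemma eta_sub (M : ModuleCat.{u} A) (m m' : M) : eta I M (m - m') = eta I M m - eta I M m' := by
  have := eta_add I M (m - m') m'
  rw [sub_add_cancel] at this
  rw [this, add_sub_cancel_right]

lemma Tmap_eta {M N : ModuleCat.{u} A} (g : M ⟶ N) (m : M) :
    Tmap I 0 g (eta I M m) = eta I N (g.hom m) := by
  unfold Tmap eta
  rw [← Category.assoc, ← Functor.map_comp, DmMap_evm]

/-- Reflexive modules. -/
def Refl (M : ModuleCat.{u} A) : Prop :=
  Function.Bijective (eta I M) ∧ ∀ i : ℤ, i ≠ 0 → Subsingleton (T I i M)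

variable (S : ShortComplex (ModuleCat.{u} A))

/-- Exactness of `T^i(X₁) → T^i(X₂) → T^i(X₃)`. -/
lemma T_exact₂ (hI : DRing.TermwiseInjective I) (hS : S.ShortExact) (i : ℤ) (x : T I i S.X₂) (hx : Tmap I i S.g x = 0) :
    ∃ y : T I i S.X₁, x = Tmap I i S.f y :=
  Triangle.yoneda_exact₂ _ (tri_dist I hI S hS) x hx

/-- Surjectivity of `T^i(X₂) → T^i(X₃)` when `T^{i+1}(X₁) = 0`. -/
lemma T_surj (hI : DRing.TermwiseInjective I) (hS : S.ShortExact) (i i' : ℤ) (hi : i + 1 = i') (h : Subsingleton (T I i' S.X₁)) (z : T I i S.X₃) :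
    ∃ g : T I i S.X₂, z = Tmap I i S.g g :=
  yo_surj (tri I hI S hS) (Q.obj I) (tri_dist I hI S hS) i i' hi h z

/-- Injectivity of `T^j(X₁) → T^j(X₂)` when `T^{j-1}(X₃) = 0`. -/
lemma T_inj (hI : DRing.TermwiseInjective I) (hS : S.ShortExact) (j j' : ℤ) (hj : j' + 1 = j) (h : Subsingleton (T I j' S.X₃)) (y : T I j S.X₁)
    (hy : Tmap I j S.f y = 0) : y = 0 :=
  yo_inj (tri I hI S hS) (Q.obj I) (tri_dist I hI S hS) j j' hj h y hy

/-- The connecting map. -/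
noncomputable def Tδ (hI : DRing.TermwiseInjective I) (hS : S.ShortExact) (i i' : ℤ) (hi : i + 1 = i') (x : T I i S.X₃) : T I i' S.X₁ :=
  yoδ (tri I hI S hS) (Q.obj I) i i' hi x

lemma Tmap_Tδ (hI : DRing.TermwiseInjective I) (hS : S.ShortExact) (i i' : ℤ) (hi : i + 1 = i') (x : T I i S.X₃) :
    Tmap I i' S.f (Tδ I S hI hS i i' hi x) = 0 :=
  mor₂_yoδ (tri I hI S hS) (Q.obj I) (tri_dist I hI S hS) i i' hi x

lemma eq_zero_of_Tδ_eq_zero (hI : DRing.TermwiseInjective I) (hS : S.ShortExact) (i i' : ℤ) (hi : i + 1 = i') (h : Subsingleton (T I i S.X₂))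
    (x : T I i S.X₃) (hx : Tδ I S hI hS i i' hi x = 0) : x = 0 :=
  eq_zero_of_yoδ_eq_zero (tri I hI S hS) (Q.obj I) (tri_dist I hI S hS) i i' hi h x hx

/-- Reflexive modules are closed under extensions. -/
theorem refl_of_ses (hI : DRing.TermwiseInjective I) (hS : S.ShortExact) (h₁ : Refl I S.X₁) (h₃ : Refl I S.X₃) : Refl I S.X₂ := by
  have hinj := hS.moduleCat_injective_f
  have hsurj := hS.moduleCat_surjective_g
  have hex := (ShortComplex.ShortExact.moduleCat_exact_iff_function_exact S).1 hS.exact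
  refine ⟨⟨?_, ?_⟩, fun i hi => ?_⟩
  · -- injectivity
    intro m m' hmm
    rw [← sub_eq_zero]
    have h0 : eta I S.X₂ (m - m') = 0 := by rw [eta_sub, hmm, sub_self]
    generalize m - m' = n at h0
    have h3 : eta I S.X₃ (S.g.hom n) = 0 := by rw [← Tmap_eta, h0, Tmap_zero]
    have h3' : S.g.hom n = 0 := h₃.1.1 (h3.trans (eta_zero I S.X₃).symm)
    obtain ⟨n', rfl⟩ := (hex n).1 h3'
    have h1 : Tmap I 0 S.f (eta I S.X₁ n') = 0 := by rw [Tmap_eta]; exact h0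
    have h1' := T_inj I S hI hS 0 (-1) (by norm_num) (h₃.2 (-1) (by norm_num)) _ h1
    have : n' = 0 := h₁.1.1 (h1'.trans (eta_zero I S.X₁).symm)
    rw [this, map_zero]
  · -- surjectivity
    intro t
    obtain ⟨m'', hm''⟩ := h₃.1.2 (Tmap I 0 S.g t)
    obtain ⟨m, rfl⟩ := hsurj m''
    have h0 : Tmap I 0 S.g (t - eta I S.X₂ m) = 0 := by
      rw [Tmap_sub, Tmap_eta, ← hm'', sub_self]
    obtain ⟨y, hy⟩ := T_exact₂ I S hI hS 0 _ h0
    obtain ⟨m', rfl⟩ := h₁.1.2 y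
    refine ⟨m + S.f.hom m', ?_⟩
    rw [eta_add, ← Tmap_eta, ← hy]
    abel
  · refine ⟨fun x y => ?_⟩
    suffices H : ∀ x : T I i S.X₂, x = 0 by rw [H x, H y]
    intro x
    have := h₃.2 i hi
    obtain ⟨y, hy⟩ := T_exact₂ I S hI hS i x (Subsingleton.elim _ _)
    have := h₁.2 i hi
    rw [hy, Subsingleton.elim y 0, Tmap_zero]

end Main

end Groth.Agent.Lib.Helper13.BD
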