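import Groth.Agent.Lib.Helper13.BD2

/-!
# Biduality: base cases and the induction
-/

set_option autoImplicit false
set_option linter.unusedSectionVars false

open CategoryTheory CategoryTheory.Limits Pretriangulated

universe u

namespace Groth.Agent.Lib.Helper13.BD

open DerivedCategory Groth.Agent.Lib.Helper13.PC Groth.Agent.Lib.Helper13.DR

attribute [local instance] HasDerivedCategory.standard

variable {A : Type u} [CommRing A] (I : DRing.Cx A)

/-- `Hom_A(A, I^•) ≅ I^•`. -/
noncomputable def evOneIso : Dm I (ModuleCat.of A A) ≅ I :=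
  HomologicalComplex.Hom.isoOfComponents
    (fun p => (LinearMap.ringLmapEquivSelf A A (I.X p)).toModuleIso)
    (by
      intro p q _
      refine ModuleCat.hom_ext (LinearMap.ext fun (f : A →ₗ[A] I.X p) => ?_)
      rfl)

lemma evOneIso_hom : (evOneIso I).hom = evm I (ModuleCat.of A A) (1 : A) := by
  refine HomologicalComplex.hom_ext _ _ (fun p => ModuleCat.hom_ext (LinearMap.ext fun f => ?_))
  rfl

lemma evm_self (a : A) : evm I (ModuleCat.of A A) a = a • (evOneIso I).hom := by
  rw [evOneIso_hom, ← evm_smul]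
  congr 1
  exact (mul_one a).symm

/-- The base ring is reflexive. -/
theorem refl_self (h4 : Function.Bijective (fun a : A => a • 𝟙 (Q.obj I : Dual.D A)))
    (h5 : ∀ i : ℤ, i ≠ 0 → Subsingleton ((Q.obj I : Dual.D A) ⟶ (Q.obj I : Dual.D A)⟦i⟧)) :
    Refl I (ModuleCat.of A A) := by
  let e1 : (Q.obj (Dm I (ModuleCat.of A A)) : Dual.D A) ≅ Q.obj I := Q.mapIso (evOneIso I)
  let e2 : (Q.obj I : Dual.D A) ≅ (Q.obj I : Dual.D A)⟦(0 : ℤ)⟧ :=
    ((shiftFunctorZero (Dual.D A) ℤ).app _).symm
  refine ⟨?_, fun i hi => ?_⟩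
  · have h : eta I (ModuleCat.of A A) = (Iso.homCongr e1.symm e2) ∘
        (fun a : A => a • 𝟙 (Q.obj I : Dual.D A)) := by
      funext a
      change Q.map (evm I (ModuleCat.of A A) a) ≫ _ = e1.hom ≫ (a • 𝟙 _) ≫ e2.hom
      rw [evm_self, Functor.map_smul, Linear.smul_comp, Linear.smul_comp, Linear.comp_smul,
        Category.id_comp]
      rfl
    rw [h]
    exact (Iso.homCongr e1.symm e2).bijective.comp h4
  · have := h5 i hi
    exact (Iso.homCongr e1 (Iso.refl _)).subsingleton

/-- Zero modules are reflexive. -/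
theorem refl_of_subsingleton (M : ModuleCat.{u} A) [Subsingleton M] : Refl I M := by
  have hz : IsZero (Q.obj (Dm I M) : Dual.D A) := by
    rw [IsZero.iff_id_eq_zero, ← CategoryTheory.Functor.map_id, ← DmMap_id,
      (ModuleCat.isZero_of_subsingleton M).eq_of_src (𝟙 M) 0, DmMap_zero, Functor.map_zero]
  have hs : ∀ i : ℤ, Subsingleton (T I i M) := fun i => ⟨fun x y => hz.eq_of_src x y⟩
  refine ⟨⟨fun m m' _ => Subsingleton.elim _ _, fun t => ⟨0, (hs 0).elim _ _⟩⟩, fun i _ => hs i⟩

section Free

/-- The short exact sequence `0 → A → A^{n+1} → A^n → 0`. -/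
noncomputable def freeSC (n : ℕ) : ShortComplex (ModuleCat.{u} A) :=
  ShortComplex.mk
    (ModuleCat.ofHom (LinearMap.single A (fun _ : Fin (n + 1) => A) 0) :
      ModuleCat.of A A ⟶ ModuleCat.of A (Fin (n + 1) → A))
    (ModuleCat.ofHom (LinearMap.funLeft A A (Fin.succ : Fin n → Fin (n + 1))) :
      ModuleCat.of A (Fin (n + 1) → A) ⟶ ModuleCat.of A (Fin n → A))
    (by
      refine ModuleCat.hom_ext (LinearMap.ext fun (a : A) => funext fun k => ?_)
      change (Pi.single (0 : Fin (n + 1)) a : Fin (n + 1) → A) (Fin.succ k) = 0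
      rw [Pi.single_apply, if_neg (Fin.succ_ne_zero k)])

lemma freeSC_shortExact (n : ℕ) : (freeSC (A := A) n).ShortExact := by
  refine { exact := ?_, mono_f := ?_, epi_g := ?_ }
  · rw [ShortComplex.ShortExact.moduleCat_exact_iff_function_exact]
    intro (v : Fin (n + 1) → A)
    constructor
    · intro hv
      have hv' : ∀ k : Fin n, v (Fin.succ k) = 0 := fun k => congrFun hv k
      refine ⟨v 0, funext fun k => ?_⟩
      change (Pi.single (0 : Fin (n + 1)) (v 0) : Fin (n + 1) → A) k = v k
      refine Fin.cases ?_ (fun k => ?_) k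
      · rw [Pi.single_eq_same]
      · rw [Pi.single_apply, if_neg (Fin.succ_ne_zero k), hv' k]
    · rintro ⟨a, rfl⟩
      exact (ConcreteCategory.congr_hom (freeSC (A := A) n).zero a)
  · rw [ModuleCat.mono_iff_injective]
    intro (a : A) (a' : A) h
    have := congrFun h (0 : Fin (n + 1))
    change (Pi.single (0 : Fin (n + 1)) a : Fin (n + 1) → A) 0 =
      (Pi.single (0 : Fin (n + 1)) a' : Fin (n + 1) → A) 0 at this
    rwa [Pi.single_eq_same, Pi.single_eq_same] at this
  · rw [ModuleCat.epi_iff_surjective]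
    intro (w : Fin n → A)
    refine ⟨(Fin.cons 0 w : Fin (n + 1) → A), funext fun k => ?_⟩
    change (Fin.cons 0 w : Fin (n + 1) → A) (Fin.succ k) = w k
    rw [Fin.cons_succ]

/-- Finite free modules are reflexive. -/
theorem refl_free (hI : DRing.TermwiseInjective I)
    (h4 : Function.Bijective (fun a : A => a • 𝟙 (Q.obj I : Dual.D A)))
    (h5 : ∀ i : ℤ, i ≠ 0 → Subsingleton ((Q.obj I : Dual.D A) ⟶ (Q.obj I : Dual.D A)⟦i⟧))
    (n : ℕ) : Refl I (ModuleCat.of A (Fin n → A)) := by
  induction n with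
  | zero => exact refl_of_subsingleton I _
  | succ n ih =>
    exact refl_of_ses I (freeSC n) hI (freeSC_shortExact n) (refl_self I h4 h5) ih

end Free

/-- Vanishing of `T^i(M)` for `i > b - a`. -/
lemma subsingleton_T_of_gt (hI : DRing.TermwiseInjective I) (a b : ℤ)
    (hv : DRing.VanishesOutside I a b) (M : ModuleCat.{u} A) (i : ℤ) (hi : b - a < i) :
    Subsingleton (T I i M) := by
  have hK : (I⟦i⟧).IsKInjective := isKInjective_of_forall_injective (I⟦i⟧) (a - i)
    (fun p hp => hv (p + i) (Or.inl (by lia))) (fun p => (injective_iff _).2 (hI (p + i)))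
  have key : ∀ x : (Q.obj (Dm I M) : Dual.D A) ⟶ Q.obj (I⟦i⟧), x = 0 := by
    intro x
    obtain ⟨f, rfl⟩ := exists_Q_map_eq_of_isKInjective x
    have : f = 0 := by
      refine HomologicalComplex.hom_ext _ _ (fun p => ?_)
      by_cases hp : p < a ∨ b < p
      · have hz : IsZero ((Dm I M).X p) := by
          have := ModuleCat.subsingleton_of_isZero (hv p hp)
          have : Subsingleton ((Dm I M).X p) :=
            ⟨fun (f g : M →ₗ[A] I.X p) => LinearMap.ext fun x => Subsingleton.elim _ _⟩
          exact ModuleCat.isZero_of_subsingleton _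
        exact hz.eq_of_src _ _
      · have hz : IsZero ((I⟦i⟧).X p) := hv (p + i) (Or.inr (by lia))
        exact hz.eq_of_tgt _ _
    rw [this, Functor.map_zero]
  refine ⟨fun x y => ?_⟩
  let e := (Q.commShiftIso i).app I
  rw [← cancel_mono e.inv, key (x ≫ e.inv), key (y ≫ e.inv)]

section Induction

variable [IsNoetherianRing A] (hI : DRing.TermwiseInjective I)
  (h4 : Function.Bijective (fun a : A => a • 𝟙 (Q.obj I : Dual.D A)))
  (h5 : ∀ i : ℤ, i ≠ 0 → Subsingleton ((Q.obj I : Dual.D A) ⟶ (Q.obj I : Dual.D A)⟦i⟧))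

/-- The presentation sequence `0 → ker π → A^n → M → 0`. -/
noncomputable def presSC {M : ModuleCat.{u} A} {n : ℕ} (π : (Fin n → A) →ₗ[A] M) :
    ShortComplex (ModuleCat.{u} A) :=
  ShortComplex.mk
    (ModuleCat.ofHom (LinearMap.ker π).subtype :
      ModuleCat.of A (LinearMap.ker π) ⟶ ModuleCat.of A (Fin n → A))
    (ModuleCat.ofHom π : ModuleCat.of A (Fin n → A) ⟶ M)
    (by
      refine ModuleCat.hom_ext (LinearMap.ext fun x => ?_)
      exact x.2)

lemma presSC_shortExact {M : ModuleCat.{u} A} {n : ℕ} (π : (Fin n → A) →ₗ[A] M)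
    (hπ : Function.Surjective π) : (presSC π).ShortExact := by
  refine { exact := ?_, mono_f := ?_, epi_g := ?_ }
  · rw [ShortComplex.ShortExact.moduleCat_exact_iff_function_exact]
    intro (v : Fin n → A)
    constructor
    · intro hv
      exact ⟨⟨v, hv⟩, rfl⟩
    · rintro ⟨w, rfl⟩
      exact w.2
  · rw [ModuleCat.mono_iff_injective]
    exact Submodule.injective_subtype _
  · rw [ModuleCat.epi_iff_surjective]
    exact hπ

/-- The inductive statement. -/
def EProp (i : ℤ) : Prop :=
  ∀ (M : ModuleCat.{u} A) [Module.Finite A M],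
    (i ≠ 0 → Subsingleton (T I i M)) ∧ (i = 0 → Function.Surjective (eta I M))

include hI in
lemma eProp_of_gt (a b : ℤ) (hv : DRing.VanishesOutside I a b) (i : ℤ) (hi : b - a < i) :
    EProp I i := by
  intro M _
  have := subsingleton_T_of_gt I hI a b hv M i hi
  refine ⟨fun _ => this, fun h0 t => ⟨0, ?_⟩⟩
  subst h0
  exact Subsingleton.elim _ _

include hI h4 h5 in
lemma eProp_pred (i : ℤ) (h : EProp I (i + 1)) : EProp I i := by
  intro M _
  obtain ⟨n, π, hπ⟩ := Module.Finite.exists_fin' A M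
  have hS := presSC_shortExact π hπ
  have hF := refl_free I hI h4 h5 n
  have hfin : Module.Finite A (ModuleCat.of A (LinearMap.ker π)) :=
    Module.Finite.of_injective (LinearMap.ker π).subtype (Submodule.injective_subtype _)
  obtain ⟨hK1, hK2⟩ := h (ModuleCat.of A (LinearMap.ker π))
  constructor
  · intro hi
    refine ⟨fun x y => ?_⟩
    suffices H : ∀ x : T I i M, x = 0 by rw [H x, H y]
    intro x
    by_cases hi1 : i = -1
    · -- the case `i = -1`
      subst hi1
      have hF' : Subsingleton (T I (-1) (ModuleCat.of A (Fin n → A))) := hF.2 (-1) hi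
      refine eq_zero_of_Tδ_eq_zero I (presSC π) hI hS (-1) 0 (by norm_num) hF' x ?_
      have h1 := Tmap_Tδ I (presSC π) hI hS (-1) 0 (by norm_num) x
      generalize Tδ I (presSC π) hI hS (-1) 0 (by norm_num) x = y at h1 ⊢
      obtain ⟨m', rfl⟩ := hK2 (by norm_num) y
      have h1' : eta I _ ((presSC π).f.hom m') = 0 := (Tmap_eta I (presSC π).f m').symm.trans h1
      have h2 : ((presSC π).f.hom m') = 0 := hF.1.1 (h1'.trans (eta_zero I _).symm)
      have h3 : m' = 0 := Submodule.injective_subtype _ (h2.trans (map_zero _).symm)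
      rw [h3]
      exact eta_zero I _
    · have := hK1 (by lia)
      obtain ⟨g, rfl⟩ := T_surj I (presSC π) hI hS i (i + 1) rfl this x
      rw [@Subsingleton.elim _ (hF.2 i hi) g 0]
      exact Tmap_zero I i (presSC π).g
  · intro hi t
    subst hi
    have := hK1 (by norm_num)
    obtain ⟨g, rfl⟩ := T_surj I (presSC π) hI hS 0 (0 + 1) rfl this t
    obtain ⟨f, rfl⟩ := hF.1.2 g
    exact ⟨π f, (Tmap_eta I (presSC π).g f).symm⟩

include hI h4 h5 in
lemma eProp_all (a b : ℤ) (hv : DRing.VanishesOutside I a b) (i : ℤ) : EProp I i := by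
  have key : ∀ n : ℤ, n ≤ max i (b - a + 1) → EProp I n := by
    refine Int.leInductionDown ?_ ?_
    · exact eProp_of_gt I hI a b hv _
        (lt_of_lt_of_le (by lia : b - a < b - a + 1) (le_max_right _ _))
    · intro n _ hn
      have : n - 1 + 1 = n := by ring
      exact eProp_pred I hI h4 h5 (n - 1) (by rw [this]; exact hn)
  exact key i (le_max_left _ _)

include hI h4 h5 in
/-- **Biduality for finite modules.** -/
theorem refl_of_finite (a b : ℤ) (hv : DRing.VanishesOutside I a b) (M : ModuleCat.{u} A)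
    [Module.Finite A M] : Refl I M := by
  have hE := eProp_all I hI h4 h5 a b hv
  refine ⟨⟨?_, (hE 0 M).2 rfl⟩, fun i hi => (hE i M).1 hi⟩
  -- injectivity
  obtain ⟨n, π, hπ⟩ := Module.Finite.exists_fin' A M
  have hS := presSC_shortExact π hπ
  have hF := refl_free I hI h4 h5 n
  have hfin : Module.Finite A (ModuleCat.of A (LinearMap.ker π)) :=
    Module.Finite.of_injective (LinearMap.ker π).subtype (Submodule.injective_subtype _)
  have hK := (hE 0 (ModuleCat.of A (LinearMap.ker π))).2 rfl
  intro m m' hmm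
  rw [← sub_eq_zero]
  have h0 : eta I M (m - m') = 0 := by rw [eta_sub, hmm, sub_self]
  generalize m - m' = x at h0
  obtain ⟨f, rfl⟩ := hπ x
  have h1 : Tmap I 0 (presSC π).g (eta I _ f) = 0 := by rw [Tmap_eta]; exact h0
  obtain ⟨y, hy⟩ := T_exact₂ I (presSC π) hI hS 0 _ h1
  obtain ⟨k, rfl⟩ := hK y
  have hy' : eta I _ f = eta I _ ((presSC π).f.hom k) := hy.trans (Tmap_eta I (presSC π).f k)
  have h2 : f = (presSC π).f.hom k := hF.1.1 hy'
  rw [h2]
  exact k.2

end Induction

end Groth.Agent.Lib.Helper13.BD
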