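import Groth.Agent.Lib.Helper13.LocFF2

set_option autoImplicit false
universe u
open CategoryTheory CategoryTheory.Limits Pretriangulated
open ChangeOfRings

namespace Groth.Agent.Lib.Helper13.Coind

attribute [local instance] HasDerivedCategory.standard

section Univ

variable {D : Type*} [Category D] [Preadditive D] [HasZeroObject D] [HasShift D ℤ]
  [∀ n : ℤ, (shiftFunctor D n).Additive] [Pretriangulated D]

/-- If `X → K → C → X[1]` is distinguished and `C₀` receives no maps from `X`, `X[1]`, then maps
`K → C₀` factor uniquely through `C`. -/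
lemma bijective_precomp_of_distTriang (T : Triangle D) (hT : T ∈ distTriang D) (C₀ : D)
    (h1 : Subsingleton (T.obj₁ ⟶ C₀)) (h2 : Subsingleton (T.obj₁⟦(1 : ℤ)⟧ ⟶ C₀)) :
    Function.Bijective (fun g : T.obj₃ ⟶ C₀ => T.mor₂ ≫ g) := by
  constructor
  · intro g g' h
    have h0 : T.mor₂ ≫ (g - g') = 0 := by
      rw [Preadditive.comp_sub]
      exact sub_eq_zero.2 h
    obtain ⟨k, hk⟩ := Triangle.yoneda_exact₃ T hT (g - g') h0
    have : k = 0 := h2.elim _ _
    rw [this, comp_zero] at hk
    exact sub_eq_zero.1 hk
  · intro h
    obtain ⟨g, hg⟩ := Triangle.yoneda_exact₂ T hT h (h1.elim _ _)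
    exact ⟨g, hg.symm⟩

end Univ

section ExtBij

variable {A B : Type u} [CommRing A] [CommRing B] [Algebra A B]

/-- Functoriality of extension of scalars is compatible with scalar multiplication. -/
lemma extendScalars_map_smul_id (g : A) (N : ModuleCat.{u} A) :
    (ModuleCat.extendScalars.{u, u, u} (algebraMap A B)).map (g • 𝟙 N) =
      (algebraMap A B g) • 𝟙 _ := by
  apply ModuleCat.ExtendScalars.hom_ext
  intro n
  change (1 : B) ⊗ₜ[A, algebraMap A B] (g • n) =
    (algebraMap A B g * 1) ⊗ₜ[A, algebraMap A B] n
  let _ : Module A B := Module.compHom B (algebraMap A B)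
  exact (TensorProduct.smul_tmul (R := A) (R' := A) g (1 : B) n).symm

/-- If `g` acts bijectively on `N` it acts bijectively on `B ⊗_A N`. -/
lemma bijective_smul_res_ext (g : A) (N : ModuleCat.{u} A)
    (h : Function.Bijective (fun n : N => g • n)) :
    Function.Bijective (fun x : (ModuleCat.restrictScalars.{u} (algebraMap A B)).obj
      ((ModuleCat.extendScalars.{u, u, u} (algebraMap A B)).obj N) => g • x) := by
  have h1 : IsIso (g • 𝟙 N : N ⟶ N) := by
    rw [ConcreteCategory.isIso_iff_bijective]
    exact h
  have h2 : IsIso ((ModuleCat.extendScalars.{u, u, u} (algebraMap A B)).map (g • 𝟙 N)) :=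
    inferInstance
  rw [extendScalars_map_smul_id, ConcreteCategory.isIso_iff_bijective] at h2
  exact h2

end ExtBij

section Commute

variable {A : Type u} [CommRing A] (B : Type u) [CommRing B] [Algebra A B] [Module.Flat A B]
  (S' : Submonoid A)

omit [Module.Flat A B] in
/-- Elements of `S'` act bijectively on restrictions of `S'⁻¹A`-modules. -/
lemma bijective_smul_restrict (s : A) (hs : s ∈ S') (M : ModuleCat.{u} (Localization S')) :
    Function.Bijective (fun n : (ModuleCat.restrictScalars.{u}
      (algebraMap A (Localization S'))).obj M => s • n) := by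
  obtain ⟨u, hu⟩ : IsUnit (algebraMap A (Localization S') s) :=
    IsLocalization.map_units _ ⟨s, hs⟩
  have key : (fun n : (ModuleCat.restrictScalars.{u}
      (algebraMap A (Localization S'))).obj M => s • n) =
      (fun n : M => (u : Localization S') • n) := by
    funext n
    rw [hu]
    rfl
  rw [key, Function.bijective_iff_has_inverse]
  refine ⟨fun n : M => (↑u⁻¹ : Localization S') • n, fun n => ?_, fun n => ?_⟩
  · simp [smul_smul]
  · simp [smul_smul]

/-- Base change of an `S'`-local object is `S'`-local. -/
theorem exists_iso_restrictD_of_ext (E : Dual.D (Localization S')) :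
    ∃ E' : Dual.D (Localization S'),
      Nonempty ((DRing.restrictD (algebraMap A B)).obj ((extD A B).obj
        ((DRing.restrictD (algebraMap A (Localization S'))).obj E)) ≅
        (DRing.restrictD (algebraMap A (Localization S'))).obj E') := by
  let X₀ := DerivedCategory.Q.objPreimage E
  let e : DerivedCategory.Q.obj X₀ ≅ E := DerivedCategory.Q.objObjPreimageIso E
  let K₁ := ((ModuleCat.restrictScalars.{u} (algebraMap A (Localization S'))).mapHomologicalComplex
    (ComplexShape.up ℤ)).obj X₀
  let K₂ := ((ModuleCat.extendScalars.{u, u, u} (algebraMap A B)).mapHomologicalComplex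
    (ComplexShape.up ℤ)).obj K₁
  let K := ((ModuleCat.restrictScalars.{u} (algebraMap A B)).mapHomologicalComplex
    (ComplexShape.up ℤ)).obj K₂
  have hbij : ∀ (i : ℤ), ∀ s ∈ S', Function.Bijective (fun x : K.X i => s • x) := by
    intro i s hs
    apply bijective_smul_res_ext (B := B) s (K₁.X i)
    exact bijective_smul_restrict S' s hs (X₀.X i)
  obtain ⟨E', ⟨e'⟩⟩ := exists_iso_restrictD S' K hbij
  refine ⟨E', ⟨?_ ≪≫ e'⟩⟩
  exact (DRing.restrictD (algebraMap A B)).mapIso ((extD A B).mapIso
      ((DRing.restrictD (algebraMap A (Localization S'))).mapIso e.symm ≪≫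
        (ModuleCat.restrictScalars.{u}
          (algebraMap A (Localization S'))).mapDerivedCategoryFactors.app X₀) ≪≫
      (ModuleCat.extendScalars.{u, u, u} (algebraMap A B)).mapDerivedCategoryFactors.app K₁) ≪≫
    (ModuleCat.restrictScalars.{u} (algebraMap A B)).mapDerivedCategoryFactors.app K₂

/-- `res_B RHom_A(B, C')` is `S'`-complete when `C'` is. -/
theorem orth_res_Rco (C' : Dual.D A) (h : Orth A (Localization S') C') :
    Orth A (Localization S')
      ((DRing.restrictD (algebraMap A B)).obj ((Rco (algebraMap A B)).obj C')) := by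
  intro E
  obtain ⟨E', ⟨e'⟩⟩ := exists_iso_restrictD_of_ext B S' E
  rw [← ((extResAdj A B).homEquiv _ _).subsingleton_congr,
    ← ((adj (algebraMap A B)).homEquiv _ _).subsingleton_congr]
  exact (Iso.homCongr e' (Iso.refl C')).subsingleton_congr.2 (h E')

end Commute

end Groth.Agent.Lib.Helper13.Coind
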