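import Groth.Agent.Lib.Helper13.RHomLoc2
import Groth.Agent.Lib.Helper13.LocFF3
import Groth.Agent.Lib.Helper5.KInjAdj

/-!
# Iterated coinduction along localizations
-/

set_option autoImplicit false
universe u
open CategoryTheory CategoryTheory.Limits

namespace Groth.Agent.Lib.Helper13.Coind

attribute [local instance] HasDerivedCategory.standard

section Abstract

variable {C D : Type*} [Category C] [Category D]

/-- Maps from an object in the image of a fully faithful left adjoint factor uniquely through the
counit. -/
lemma bijective_comp_counit {L : C ⥤ D} {R : D ⥤ C} (adj : L ⊣ R) (hL : L.FullyFaithful)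
    (V : D) (V' : C) (e : V ≅ L.obj V') (Y : D) :
    Function.Bijective (fun u : V ⟶ L.obj (R.obj Y) => u ≫ adj.counit.app Y) := by
  let E : (V ⟶ L.obj (R.obj Y)) ≃ (V ⟶ Y) :=
    (Iso.homCongr e (Iso.refl _)).trans
      (hL.homEquiv.symm.trans ((adj.homEquiv V' Y).symm.trans (Iso.homCongr e.symm (Iso.refl _))))
  have hE : (fun u : V ⟶ L.obj (R.obj Y) => u ≫ adj.counit.app Y) = E := by
    funext u
    simp [E, Adjunction.homEquiv_counit, Iso.homCongr]
  rw [hE]
  exact E.bijective

/-- Two coreflections are isomorphic. -/
lemma nonempty_iso_of_universal {X Z K : D} (a : X ⟶ K) (b : Z ⟶ K) (P : D → Prop)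
    (hX : P X) (hZ : P Z)
    (ha : ∀ V, P V → Function.Bijective (fun u : V ⟶ X => u ≫ a))
    (hb : ∀ V, P V → Function.Bijective (fun u : V ⟶ Z => u ≫ b)) : Nonempty (X ≅ Z) := by
  obtain ⟨θ, hθ⟩ := (hb X hX).2 a
  obtain ⟨θ', hθ'⟩ := (ha Z hZ).2 b
  dsimp only at hθ hθ'
  refine ⟨⟨θ, θ', (ha X hX).1 ?_, (hb Z hZ).1 ?_⟩⟩
  · dsimp only
    rw [Category.assoc, hθ', hθ, Category.id_comp]
  · dsimp only
    rw [Category.assoc, hθ, hθ', Category.id_comp]

end Abstract


section KInj

variable {A B : Type u} [CommRing A] [CommRing B] [Algebra A B]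

/-- Coinduction preserves K-injective complexes. -/
lemma isKInjective_coextCx (J : DRing.Cx A) [J.IsKInjective] :
    CochainComplex.IsKInjective (((ModuleCat.coextendScalars.{u, u, u}
      (algebraMap A B)).mapHomologicalComplex (ComplexShape.up ℤ)).obj J) :=
  Groth.Agent.Lib.Helper5.KInjAdj.isKInjective_map
    (ModuleCat.restrictCoextendScalarsAdj.{u, u, u} (algebraMap A B)) J

/-- Restriction along a flat map preserves K-injective complexes. -/
lemma isKInjective_resCx [Module.Flat A B] (J : DRing.Cx B) [J.IsKInjective] :
    CochainComplex.IsKInjective (((ModuleCat.restrictScalars.{u}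
      (algebraMap A B)).mapHomologicalComplex (ComplexShape.up ℤ)).obj J) :=
  Groth.Agent.Lib.Helper5.KInjAdj.isKInjective_map
    (ModuleCat.extendRestrictScalarsAdj.{u, u, u} (algebraMap A B)) J

/-- Functoriality of coinduction is compatible with scalar multiplication. -/
lemma coextendScalars_map_smul_id (g : A) (N : ModuleCat.{u} A) :
    (ModuleCat.coextendScalars.{u, u, u} (algebraMap A B)).map (g • 𝟙 N) =
      (algebraMap A B g) • 𝟙 _ := by
  ext h s
  let s' : B := s
  change g • (ModuleCat.CoextendScalars.equiv (algebraMap A B) N h) s =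
    (ModuleCat.CoextendScalars.equiv (algebraMap A B) N h) (s' * algebraMap A B g : B)
  rw [← map_smul]
  congr 1
  change algebraMap A B g * s' = s' * algebraMap A B g
  exact mul_comm _ _

/-- If `g` acts bijectively on `N` it acts bijectively on `Hom_A(B, N)`. -/
lemma bijective_smul_res_coext (g : A) (N : ModuleCat.{u} A)
    (h : Function.Bijective (fun n : N => g • n)) :
    Function.Bijective (fun x : (ModuleCat.restrictScalars.{u} (algebraMap A B)).obj
      ((ModuleCat.coextendScalars.{u, u, u} (algebraMap A B)).obj N) => g • x) := by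
  have h1 : IsIso (g • 𝟙 N : N ⟶ N) := by
    rw [ConcreteCategory.isIso_iff_bijective]
    exact h
  have h2 : IsIso ((ModuleCat.coextendScalars.{u, u, u} (algebraMap A B)).map (g • 𝟙 N)) :=
    inferInstance
  rw [coextendScalars_map_smul_id, ConcreteCategory.isIso_iff_bijective] at h2
  exact h2

end KInj

section Loc

variable {A : Type u} [CommRing A]

/-- Elements mapping to units act bijectively on restrictions. -/
lemma bijective_smul_restrict_of_isUnit {B : Type u} [CommRing B] [Algebra A B] (s : A)
    (hs : IsUnit (algebraMap A B s)) (M : ModuleCat.{u} B) :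
    Function.Bijective (fun n : (ModuleCat.restrictScalars.{u} (algebraMap A B)).obj M => s • n) := by
  obtain ⟨u, hu⟩ := hs
  have key : (fun n : (ModuleCat.restrictScalars.{u} (algebraMap A B)).obj M => s • n) =
      (fun n : M => (u : B) • n) := by
    funext n
    rw [hu]
    rfl
  rw [key, Function.bijective_iff_has_inverse]
  refine ⟨fun n : M => (↑u⁻¹ : B) • n, fun n => ?_, fun n => ?_⟩
  · simp [smul_smul]
  · simp [smul_smul]

/-- The scalars acting bijectively on a module form a submonoid. -/
def bijSubmonoid (N : ModuleCat.{u} A) : Submonoid A where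
  carrier := {a | Function.Bijective (fun n : N => a • n)}
  one_mem' := by
    change Function.Bijective (fun n : N => (1 : A) • n)
    have : (fun n : N => (1 : A) • n) = id := by funext n; simp
    rw [this]
    exact Function.bijective_id
  mul_mem' := by
    intro a b ha hb
    change Function.Bijective (fun n : N => (a * b) • n)
    have : (fun n : N => (a * b) • n) = (fun n : N => a • n) ∘ (fun n : N => b • n) := by
      funext n
      simp [mul_smul]
    rw [this]
    exact Function.Bijective.comp ha hb

/-- An object restricted from `T⁻¹A` is restricted from `S⁻¹A` when `S` maps to units. -/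
theorem exists_iso_restrictD_of_isUnit (S T : Submonoid A)
    (hST : ∀ s ∈ S, IsUnit (algebraMap A (Localization T) s)) (V'' : Dual.D (Localization T)) :
    ∃ V' : Dual.D (Localization S), Nonempty
      ((DRing.restrictD (algebraMap A (Localization T))).obj V'' ≅
        (DRing.restrictD (algebraMap A (Localization S))).obj V') := by
  let X₀ := DerivedCategory.Q.objPreimage V''
  let e : DerivedCategory.Q.obj X₀ ≅ V'' := DerivedCategory.Q.objObjPreimageIso V''
  let K₁ := ((ModuleCat.restrictScalars.{u} (algebraMap A (Localization T))).mapHomologicalComplex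
    (ComplexShape.up ℤ)).obj X₀
  have hbij : ∀ (i : ℤ), ∀ s ∈ S, Function.Bijective (fun x : K₁.X i => s • x) := by
    intro i s hs
    exact bijective_smul_restrict_of_isUnit s (hST s hs) (X₀.X i)
  obtain ⟨E', ⟨e'⟩⟩ := exists_iso_restrictD S K₁ hbij
  refine ⟨E', ⟨?_ ≪≫ e'⟩⟩
  exact (DRing.restrictD (algebraMap A (Localization T))).mapIso e.symm ≪≫
    (ModuleCat.restrictScalars.{u}
      (algebraMap A (Localization T))).mapDerivedCategoryFactors.app X₀

/-- Maps from `S`-local objects factor uniquely through `res RHom_A(S⁻¹A, Y) → Y`. -/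
lemma bijective_comp_counit_loc (S : Submonoid A) (V : Dual.D A) (V' : Dual.D (Localization S))
    (e : V ≅ (DRing.restrictD (algebraMap A (Localization S))).obj V') (Y : Dual.D A) :
    Function.Bijective (fun u : V ⟶ (DRing.restrictD (algebraMap A (Localization S))).obj
        ((Rco (algebraMap A (Localization S))).obj Y) =>
      u ≫ (adj (algebraMap A (Localization S))).counit.app Y) :=
  bijective_comp_counit (adj (algebraMap A (Localization S)))
    (fullyFaithfulRestrictD A (Localization S) S) V V' e Y

end Loc

end Groth.Agent.Lib.Helper13.Coind
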