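import Groth.Prelude.Def_DDual2
import Groth.Agent.Lib.Helper17.DerKInj
import Groth.Agent.Lib.Helper17.KInjRes

set_option autoImplicit false
universe u
open CategoryTheory CategoryTheory.Limits

namespace Groth.Agent.Lib.Helper13.Coind

open Groth.Agent.Lib.Helper17 Groth.Agent.Lib.Helper17.DerKInj Groth.Agent.Lib.Helper17.DerAbs

attribute [local instance] HasDerivedCategory.standard

variable {A B : Type u} [CommRing A] [CommRing B] (φ : A →+* B)

instance : (ModuleCat.coextendScalars.{u, u, u} φ).Additive :=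
  (ModuleCat.restrictCoextendScalarsAdj.{u, u, u} φ).right_adjoint_additive

/-- Termwise coinduction followed by localization. -/
noncomputable abbrev coindCxQ : CochainComplex (ModuleCat.{u} A) ℤ ⥤ Dual.D B :=
  (ModuleCat.coextendScalars.{u, u, u} φ).mapHomologicalComplex (ComplexShape.up ℤ) ⋙
    DerivedCategory.Q

lemma hasKInjRes : HasKInjRes (ModuleCat.{u} A) := hasKInjRes_of_isGrothendieckAbelian

lemma compat_coindCxQ :
    Compat (DerivedCategory.Q (C := ModuleCat.{u} A)) PK (coindCxQ φ) :=
  compat_Q _ (fun _ _ _ _ h => DerivedCategory.Q_map_eq_of_homotopy _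
    ((ModuleCat.coextendScalars.{u, u, u} φ).mapHomotopy h))

instance hasRightDerivedFunctor_coindCxQ :
    (coindCxQ φ).HasRightDerivedFunctor
      (HomologicalComplex.quasiIso (ModuleCat.{u} A) (ComplexShape.up ℤ)) :=
  DerAbs.hasRightDerivedFunctor (enoughLocal_Q hasKInjRes) (compat_coindCxQ φ)

/-- `RHom_A(B, -) : D(A) ⥤ D(B)`, the total right derived functor of coinduction. -/
noncomputable def Rco : Dual.D A ⥤ Dual.D B :=
  (coindCxQ φ).totalRightDerived DerivedCategory.Q
    (HomologicalComplex.quasiIso (ModuleCat.{u} A) (ComplexShape.up ℤ))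

/-- The unit of the right derived functor. -/
noncomputable def RcoUnit : coindCxQ φ ⟶ DerivedCategory.Q ⋙ Rco φ :=
  (coindCxQ φ).totalRightDerivedUnit DerivedCategory.Q
    (HomologicalComplex.quasiIso (ModuleCat.{u} A) (ComplexShape.up ℤ))

instance : (Rco φ).IsRightDerivedFunctor (RcoUnit φ)
    (HomologicalComplex.quasiIso (ModuleCat.{u} A) (ComplexShape.up ℤ)) := by
  unfold Rco RcoUnit
  infer_instance

lemma isIso_RcoUnit_app (J : CochainComplex (ModuleCat.{u} A) ℤ) [J.IsKInjective] :
    IsIso ((RcoUnit φ).app J) :=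
  DerAbs.isIso_app (enoughLocal_Q hasKInjRes) (compat_coindCxQ φ) (Rco φ) (RcoUnit φ)
    (show PK J from (inferInstance : J.IsKInjective)) (isLocalObj_Q J)

/-- On K-injective complexes `Rco` is computed termwise. -/
noncomputable def RcoIso (J : CochainComplex (ModuleCat.{u} A) ℤ) [J.IsKInjective] :
    DerivedCategory.Q.obj (((ModuleCat.coextendScalars.{u, u, u} φ).mapHomologicalComplex
      (ComplexShape.up ℤ)).obj J) ≅ (Rco φ).obj (DerivedCategory.Q.obj J) :=
  haveI := isIso_RcoUnit_app φ J
  asIso ((RcoUnit φ).app J)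

/-- The derived adjunction restriction ⊣ coinduction. -/
noncomputable def adj : DRing.restrictD φ ⊣ Rco φ :=
  (nonempty_adjunction_Q hasKInjRes (ModuleCat.restrictScalars.{u} φ)
    (ModuleCat.coextendScalars.{u, u, u} φ) (ModuleCat.restrictCoextendScalarsAdj.{u, u, u} φ)
    (Rco φ) (RcoUnit φ)).some

/-- Any right adjoint of restriction is `Rco`. -/
noncomputable def uniq (R : Dual.D A ⥤ Dual.D B) (a : DRing.restrictD φ ⊣ R) : R ≅ Rco φ :=
  a.rightAdjointUniq (adj φ)

end Groth.Agent.Lib.Helper13.Coind
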