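import Groth.Agent.Lib.Helper13.Shriek2
import Groth.Agent.Lib.Helper13.Coind1
import Mathlib.CategoryTheory.Shift.Adjunction

/-!
# Functoriality of restriction of scalars on derived categories, and adjoint calculus
-/

set_option autoImplicit false
set_option linter.unusedSectionVars false

open CategoryTheory CategoryTheory.Limits CategoryTheory.Functor

universe u

namespace Groth.Agent.Lib.Helper13.Shriek

open DerivedCategory Groth.Agent.Lib.Helper13.DR

attribute [local instance] HasDerivedCategory.standard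

variable {A B C : Type u} [CommRing A] [CommRing B] [CommRing C]

/-- Composition of restrictions, on complexes. -/
noncomputable def resCComp (φ : A →+* B) (ψ : B →+* C) (χ : A →+* C) (h : χ = ψ.comp φ) :
    resC ψ ⋙ resC φ ≅ resC χ :=
  Functor.mapHomologicalComplexCompIso (ModuleCat.restrictScalarsComp'.{u} φ ψ χ h).symm
    (ComplexShape.up ℤ)

/-- The lifting structure of a composite of restrictions. -/
@[instance_reducible]
noncomputable def liftingComp (φ : A →+* B) (ψ : B →+* C) :
    Localization.Lifting (Q : DRing.Cx C ⥤ Dual.D C)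
      (HomologicalComplex.quasiIso (ModuleCat.{u} C) (ComplexShape.up ℤ))
      ((resC ψ ⋙ resC φ) ⋙ Q) (DRing.restrictD ψ ⋙ DRing.restrictD φ) :=
  ⟨(Functor.associator _ _ _).symm ≪≫
    isoWhiskerRight (ModuleCat.restrictScalars.{u} ψ).mapDerivedCategoryFactors
      (DRing.restrictD φ) ≪≫
    Functor.associator _ _ _ ≪≫
    isoWhiskerLeft (resC ψ) (ModuleCat.restrictScalars.{u} φ).mapDerivedCategoryFactors ≪≫
    (Functor.associator _ _ _).symm⟩

/-- Composition of restrictions, on derived categories. -/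
noncomputable def restrictDComp (φ : A →+* B) (ψ : B →+* C) (χ : A →+* C) (h : χ = ψ.comp φ) :
    DRing.restrictD ψ ⋙ DRing.restrictD φ ≅ DRing.restrictD χ :=
  letI := liftingComp φ ψ
  Localization.liftNatIso (Q : DRing.Cx C ⥤ Dual.D C)
    (HomologicalComplex.quasiIso (ModuleCat.{u} C) (ComplexShape.up ℤ))
    ((resC ψ ⋙ resC φ) ⋙ Q) (resC χ ⋙ Q) _ _ (isoWhiskerRight (resCComp φ ψ χ h) Q)

/-- Restriction along the identity. -/
noncomputable def restrictDId : DRing.restrictD (RingHom.id A) ≅ 𝟭 (Dual.D A) :=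
  Localization.liftNatIso (Q : DRing.Cx A ⥤ Dual.D A)
    (HomologicalComplex.quasiIso (ModuleCat.{u} A) (ComplexShape.up ℤ))
    (resC (RingHom.id A) ⋙ Q) Q _ _
    (isoWhiskerRight (NatIso.mapHomologicalComplex (ModuleCat.restrictScalarsId.{u} A)
      (ComplexShape.up ℤ) ≪≫ Functor.mapHomologicalComplexIdIso _ _) Q ≪≫ Functor.leftUnitor Q)

/-- Restriction along a ring isomorphism is an equivalence. -/
noncomputable def restrictDEquiv (e : A ≃+* B) : Dual.D B ≌ Dual.D A :=
  CategoryTheory.Equivalence.mk (DRing.restrictD (e : A →+* B)) (DRing.restrictD (e.symm : B →+* A))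
    ((restrictDComp (e.symm : B →+* A) (e : A →+* B) (RingHom.id B)
      (by ext; simp) ≪≫ restrictDId).symm)
    (restrictDComp (e : A →+* B) (e.symm : B →+* A) (RingHom.id A) (by ext; simp) ≪≫
      restrictDId)

/-- Composition of derived base changes. -/
noncomputable def LComp (φ : A →+* B) (ψ : B →+* C) (χ : A →+* C) (h : χ = ψ.comp φ) :
    DRing.LBaseChange φ ⋙ DRing.LBaseChange ψ ≅ DRing.LBaseChange χ :=
  ((LBaseChangeAdj φ).comp (LBaseChangeAdj ψ)).leftAdjointUniq
    ((LBaseChangeAdj χ).ofNatIsoRight (restrictDComp φ ψ χ h).symm)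

open Groth.Agent.Lib.Helper13.Coind in
/-- Composition of derived coinductions. -/
noncomputable def RComp (φ : A →+* B) (ψ : B →+* C) (χ : A →+* C) (h : χ = ψ.comp φ) :
    Rco φ ⋙ Rco ψ ≅ Rco χ :=
  ((Coind.adj ψ).comp (Coind.adj φ)).rightAdjointUniq
    ((Coind.adj χ).ofNatIsoLeft (restrictDComp φ ψ χ h).symm)

/-- Derived base change along a ring isomorphism is restriction along its inverse. -/
noncomputable def LIso (e : A ≃+* B) :
    DRing.LBaseChange (e : A →+* B) ≅ DRing.restrictD (e.symm : B →+* A) :=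
  (LBaseChangeAdj (e : A →+* B)).leftAdjointUniq (restrictDEquiv e).symm.toAdjunction

open Groth.Agent.Lib.Helper13.Coind in
/-- Derived coinduction along a ring isomorphism is restriction along its inverse. -/
noncomputable def RIso (e : A ≃+* B) :
    Rco (e : A →+* B) ≅ DRing.restrictD (e.symm : B →+* A) :=
  (Coind.adj (e : A →+* B)).rightAdjointUniq (restrictDEquiv e).toAdjunction

open Groth.Agent.Lib.Helper13.Coind in
/-- Derived coinduction commutes with shifts. -/
noncomputable def RcoShift (φ : A →+* B) (n : ℤ) (X : Dual.D A) :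
    (Rco φ).obj (X⟦n⟧) ≅ ((Rco φ).obj X)⟦n⟧ :=
  letI := (Coind.adj φ).rightAdjointCommShift ℤ
  ((Rco φ).commShiftIso n).app X

end Groth.Agent.Lib.Helper13.Shriek
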