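import Groth.Agent.Lib.Helper13.BD3
import Groth.Agent.Lib.Helper13.RHomLoc3
import Groth.Agent.Lib.Helper13.Shriek3

/-!
# Biduality: `RHom_A(B, ω)` for a finite ring map
-/

set_option autoImplicit false
set_option linter.unusedSectionVars false

open CategoryTheory CategoryTheory.Limits Pretriangulated

universe u

namespace Groth.Agent.Lib.Helper13.BD

section UnitTrick

variable {B : Type*} [CommRing B] {C : Type*} [Category C] [Preadditive C] [Linear B C] (X : C)
  {H : Type*}

/-- If `End(X)` is, compatibly with the `B`-actions, in bijection with `B`, then `B → End(X)` is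
bijective. -/
lemma bijective_toEnd_of_free (Ψ : (X ⟶ X) → H) (hΨ : Function.Bijective Ψ) (ρ : B → H → H)
    (hρ : ∀ (b : B) (g : X ⟶ X), Ψ (b • g) = ρ b (Ψ g))
    (β : B → H) (hβ : Function.Bijective β) (hβρ : ∀ b b' : B, ρ b (β b') = β (b * b')) :
    Function.Bijective (fun b : B => b • 𝟙 X) := by
  obtain ⟨e, he⟩ := hΨ.2 (β 1)
  obtain ⟨c, hc⟩ := hβ.2 (Ψ (𝟙 X))
  -- every endomorphism is a multiple of `e`
  have key : ∀ x : X ⟶ X, ∃ b : B, x = b • e := by
    intro x
    obtain ⟨b, hb⟩ := hβ.2 (Ψ x)
    refine ⟨b, hΨ.1 ?_⟩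
    rw [hρ, he, hβρ, mul_one, hb]
  have h1 : 𝟙 X = c • e := by
    apply hΨ.1
    rw [hρ, he, hβρ, mul_one, hc]
  obtain ⟨d, hd⟩ := key (e ≫ e)
  have h2 : e = (c * d) • e := by
    calc e = e ≫ 𝟙 X := (Category.comp_id e).symm
      _ = e ≫ (c • e) := by rw [← h1]
      _ = c • (e ≫ e) := Linear.comp_smul _ _ _ _ _ _
      _ = c • (d • e) := by rw [hd]
      _ = (c * d) • e := (mul_smul _ _ _).symm
  have h3 : c * d = 1 := by
    apply hβ.1
    have := congrArg Ψ h2
    rw [hρ, he, hβρ, mul_one] at this
    exact this.symm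
  have h4 : e = d • 𝟙 X := by
    rw [h1, ← mul_smul, mul_comm, h3, one_smul]
  constructor
  · intro b b' hbb
    have h5 : Ψ (b • 𝟙 X) = Ψ (b' • 𝟙 X) := congrArg Ψ hbb
    rw [hρ, hρ, ← hc, hβρ, hβρ] at h5
    have h6 := hβ.1 h5
    calc b = b * (c * d) := by rw [h3, mul_one]
      _ = (b * c) * d := (mul_assoc _ _ _).symm
      _ = (b' * c) * d := by rw [h6]
      _ = b' * (c * d) := mul_assoc _ _ _
      _ = b' := by rw [h3, mul_one]
  · intro x
    obtain ⟨b, hb⟩ := key x
    refine ⟨b * d, ?_⟩
    change (b * d) • 𝟙 X = x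
    rw [hb, h4, mul_smul]

end UnitTrick

section Chain

variable {A B : Type u} [CommRing A] [CommRing B] [Algebra A B] (I : DRing.Cx A)

variable (A B) in
/-- `B` as an `A`-module. -/
noncomputable abbrev BA : ModuleCat.{u} A :=
  (ModuleCat.restrictScalars.{u} (algebraMap A B)).obj (ModuleCat.of B B)

variable (A) in
/-- Multiplication by `b` on `B`, as an `A`-linear map. -/
noncomputable def mulB (b : B) : BA A B ⟶ BA A B :=
  (ModuleCat.restrictScalars.{u} (algebraMap A B)).map (b • 𝟙 (ModuleCat.of B B))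

lemma mulB_apply (b : B) (x : B) : (mulB A b).hom (x : BA A B) = (b * x : B) := rfl

variable (B) in
/-- Termwise coinduction of a complex. -/
noncomputable abbrev coextCx : DRing.Cx B :=
  ((ModuleCat.coextendScalars.{u, u, u} (algebraMap A B)).mapHomologicalComplex
    (ComplexShape.up ℤ)).obj I

variable (A) in
/-- Termwise restriction of a complex. -/
noncomputable abbrev resCx (X : DRing.Cx B) : DRing.Cx A :=
  ((ModuleCat.restrictScalars.{u} (algebraMap A B)).mapHomologicalComplex
    (ComplexShape.up ℤ)).obj X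

variable (B) in
/-- `Hom_A(B, N)` restricted to `A` is the usual `A`-module of linear maps. -/
noncomputable def tauEquiv (N : ModuleCat.{u} A) :
    (ModuleCat.restrictScalars.{u} (algebraMap A B)).obj
      ((ModuleCat.coextendScalars.{u, u, u} (algebraMap A B)).obj N) ≃ₗ[A] (BA A B →ₗ[A] N) where
  toFun f := f
  invFun f := f
  left_inv _ := rfl
  right_inv _ := rfl
  map_add' _ _ := rfl
  map_smul' a f := by
    refine LinearMap.ext (fun (x : B) => ?_)
    let f' : BA A B →ₗ[A] N := f
    change f' ((x * algebraMap A B a : B) : BA A B) = a • f' x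
    rw [← map_smul]
    congr 1
    exact mul_comm (x : B) (algebraMap A B a)

/-- The restriction of the coinduced complex is the dual complex of `B`. -/
noncomputable def tau : resCx A (coextCx B I) ≅ Dm I (BA A B) :=
  HomologicalComplex.Hom.isoOfComponents (fun p => (tauEquiv B (I.X p)).toModuleIso)
    (by
      intro p q _
      refine ModuleCat.hom_ext (LinearMap.ext fun f => ?_)
      rfl)

lemma tau_comm (b : B) :
    ((ModuleCat.restrictScalars.{u} (algebraMap A B)).mapHomologicalComplex
      (ComplexShape.up ℤ)).map (b • 𝟙 (coextCx B I)) ≫ (tau I).hom =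
      (tau I).hom ≫ DmMap I (mulB A b) := by
  refine HomologicalComplex.hom_ext _ _ (fun p => ModuleCat.hom_ext (LinearMap.ext fun f => ?_))
  refine Dm_ext I _ _ (fun (x : B) => ?_)
  let f' : BA A B →ₗ[A] I.X p := f
  change f' ((x * b : B) : BA A B) = f' ((b * x : B) : BA A B)
  rw [mul_comm]

end Chain

section Derived

open DerivedCategory Groth.Agent.Lib.Helper13.Coind Groth.Agent.Lib.Helper13.PC
  Groth.Agent.Lib.Helper13.DR Groth.Agent.Lib.Helper13.Shriek

attribute [local instance] HasDerivedCategory.standard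

variable {A B : Type u} [CommRing A] [CommRing B] [Algebra A B] (I : DRing.Cx A) [I.IsKInjective]

variable (B) in
/-- `RHom_A(B, ω)` restricted to `A` is the dual of `B`. -/
noncomputable def theta :
    (DRing.restrictD (algebraMap A B)).obj ((Rco (algebraMap A B)).obj (Q.obj I)) ≅
      Q.obj (Dm I (BA A B)) :=
  (DRing.restrictD (algebraMap A B)).mapIso (RcoIso (algebraMap A B) I).symm ≪≫
    ((ModuleCat.restrictScalars.{u} (algebraMap A B)).mapDerivedCategoryFactors.app
      (coextCx B I)) ≪≫ Q.mapIso (tau I)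

lemma theta_comm (b : B) :
    (DRing.restrictD (algebraMap A B)).map (b • 𝟙 ((Rco (algebraMap A B)).obj (Q.obj I))) ≫
      (theta B I).hom = (theta B I).hom ≫ Q.map (DmMap I (mulB A b)) := by
  have h1 : (b • 𝟙 ((Rco (algebraMap A B)).obj (Q.obj I))) ≫ (RcoIso (algebraMap A B) I).inv =
      (RcoIso (algebraMap A B) I).inv ≫ Q.map (b • 𝟙 (coextCx B I)) := by
    rw [Functor.map_smul, CategoryTheory.Functor.map_id, Linear.smul_comp, Linear.comp_smul,
      Category.id_comp, Category.comp_id]
  have h2 : (DRing.restrictD (algebraMap A B)).map (Q.map (b • 𝟙 (coextCx B I))) ≫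
      (ModuleCat.restrictScalars.{u} (algebraMap A B)).mapDerivedCategoryFactors.hom.app
        (coextCx B I) =
      (ModuleCat.restrictScalars.{u} (algebraMap A B)).mapDerivedCategoryFactors.hom.app
        (coextCx B I) ≫ Q.map (((ModuleCat.restrictScalars.{u} (algebraMap A B)).mapHomologicalComplex
          (ComplexShape.up ℤ)).map (b • 𝟙 (coextCx B I))) :=
    (ModuleCat.restrictScalars.{u} (algebraMap A B)).mapDerivedCategoryFactors.hom.naturality
      (b • 𝟙 (coextCx B I))
  unfold theta
  dsimp only [Iso.trans_hom, Functor.mapIso_hom, Iso.symm_hom, Iso.app_hom]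
  rw [← Category.assoc, ← Functor.map_comp, h1, Functor.map_comp]
  simp only [Category.assoc]
  rw [reassoc_of% h2, ← Functor.map_comp, tau_comm, Functor.map_comp]

/-- **`RHom_A(B, ω)` has the endomorphism properties of a dualizing complex.** -/
theorem toEnd_Rco_aux [IsNoetherianRing A] [Module.Finite A B]
    (hI : DRing.TermwiseInjective I) (a b : ℤ) (hv : DRing.VanishesOutside I a b)
    (h4 : Function.Bijective (fun a : A => a • 𝟙 (Q.obj I : Dual.D A)))
    (h5 : ∀ i : ℤ, i ≠ 0 → Subsingleton ((Q.obj I : Dual.D A) ⟶ (Q.obj I : Dual.D A)⟦i⟧)) :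
    Function.Bijective (fun b : B => b • 𝟙 ((Rco (algebraMap A B)).obj (Q.obj I))) ∧
      ∀ i : ℤ, i ≠ 0 → Subsingleton ((Rco (algebraMap A B)).obj (Q.obj I) ⟶
        ((Rco (algebraMap A B)).obj (Q.obj I))⟦i⟧) := by
  have hfin : Module.Finite A (BA A B) :=
    Module.Finite.equiv (restrictSelfIso (A := A) (B := B)).symm.toLinearEquiv
  have hR := refl_of_finite I hI h4 h5 a b hv (BA A B)
  set K := (Rco (algebraMap A B)).obj (Q.obj I) with hK
  constructor
  · refine bijective_toEnd_of_free K
      (H := ((DRing.restrictD (algebraMap A B)).obj K ⟶ (Q.obj I : Dual.D A)))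
      (fun g => (DRing.restrictD (algebraMap A B)).map g ≫
        (Coind.adj (algebraMap A B)).counit.app (Q.obj I)) ?_
      (fun b h => (DRing.restrictD (algebraMap A B)).map (b • 𝟙 K) ≫ h) ?_
      (fun b => (theta B I).hom ≫ eta I (BA A B) b ≫
        (shiftFunctorZero (Dual.D A) ℤ).hom.app (Q.obj I)) ?_ ?_
    · have : (fun g : K ⟶ K => (DRing.restrictD (algebraMap A B)).map g ≫
          (Coind.adj (algebraMap A B)).counit.app (Q.obj I)) =
          ((Coind.adj (algebraMap A B)).homEquiv K (Q.obj I)).symm := by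
        funext g
        rw [Adjunction.homEquiv_counit]
      rw [this]
      exact ((Coind.adj (algebraMap A B)).homEquiv K (Q.obj I)).symm.bijective
    · intro b g
      have : b • g = (b • 𝟙 K) ≫ g := by rw [Linear.smul_comp, Category.id_comp]
      rw [this, Functor.map_comp, Category.assoc]
    · have : (fun b : B => (theta B I).hom ≫ eta I (BA A B) b ≫
          (shiftFunctorZero (Dual.D A) ℤ).hom.app (Q.obj I)) =
          (Iso.homCongr (theta B I).symm ((shiftFunctorZero (Dual.D A) ℤ).app (Q.obj I))) ∘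
            (eta I (BA A B)) := by
        funext b
        rfl
      rw [this]
      exact (Iso.homCongr _ _).bijective.comp hR.1
    · intro b b'
      rw [← Category.assoc, theta_comm, Category.assoc, ← Category.assoc (Q.map _)]
      have := Tmap_eta I (mulB A b) (b' : BA A B)
      unfold Tmap at this
      rw [this]
      rfl
  · intro i hi
    have := hR.2 i hi
    let e1 : (K ⟶ K⟦i⟧) ≃ (K ⟶ (Rco (algebraMap A B)).obj ((Q.obj I : Dual.D A)⟦i⟧)) :=
      Iso.homCongr (Iso.refl K) (RcoShift (algebraMap A B) i (Q.obj I)).symm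
    let e2 := ((Coind.adj (algebraMap A B)).homEquiv K ((Q.obj I : Dual.D A)⟦i⟧)).symm
    let e3 : ((DRing.restrictD (algebraMap A B)).obj K ⟶ (Q.obj I : Dual.D A)⟦i⟧) ≃
        T I i (BA A B) := Iso.homCongr (theta B I) (Iso.refl _)
    exact ((e1.trans e2).trans e3).subsingleton

end Derived

end Groth.Agent.Lib.Helper13.BD
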