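import Groth.Agent.Lib.Helper13.DCPsi
import Groth.Agent.Lib.Helper7.DerivedCompleteMT

set_option autoImplicit false
universe u
open CategoryTheory CategoryTheory.Limits MonoidalCategory Pretriangulated
open CochainComplex HomologicalComplex

namespace Groth.Agent.Lib.Helper13.DCN

open Groth.Agent.Lib.Helper13.DV Groth.Agent.Lib.Helper7.FComplete
  Groth.Agent.Lib.Helper7.DerivedCompleteMT

attribute [local instance] HasDerivedCategory.standard

variable {A : Type u} [CommRing A]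

/-- The cohomology functor `H^i : D(A) ⥤ Mod A`. -/
noncomputable abbrev Hi (i : ℤ) : Dual.D A ⥤ ModuleCat.{u} A :=
  DerivedCategory.homologyFunctor (ModuleCat.{u} A) i

lemma homologyMap_smul_id_apply (f : A) (Y : DRing.Cx A) (i : ℤ) (x : Y.homology i) :
    (HomologicalComplex.homologyMap (f • 𝟙 Y) i).hom x = f • x := by
  have h1 : (HomologicalComplex.shortComplexFunctor (ModuleCat.{u} A) (ComplexShape.up ℤ) i).map
      (f • 𝟙 Y) = f • 𝟙 _ := by
    ext <;> rfl
  have h2 : HomologicalComplex.homologyMap (f • 𝟙 Y) i = f • 𝟙 (Y.homology i) := by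
    change ShortComplex.homologyMap _ = _
    rw [h1, ShortComplex.homologyMap_smul, ShortComplex.homologyMap_id]
    rfl
  rw [h2]
  rfl

/-- `H^i` commutes with scalar multiplication. -/
lemma Hi_map_smul_id_apply (f : A) (X : Dual.D A) (i : ℤ) (x : (Hi i).obj X) :
    ((Hi i).map (f • 𝟙 X)).hom x = f • x := by
  let X₀ := DerivedCategory.Q.objPreimage X
  let e : DerivedCategory.Q.obj X₀ ≅ X := DerivedCategory.Q.objObjPreimageIso X
  have h1 : f • 𝟙 X = e.inv ≫ DerivedCategory.Q.map (f • 𝟙 X₀) ≫ e.hom := by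
    rw [CategoryTheory.Functor.map_smul, CategoryTheory.Functor.map_id, Linear.smul_comp,
      Linear.comp_smul, Category.id_comp, Iso.inv_hom_id]
  let φ := (DerivedCategory.homologyFunctorFactors (ModuleCat.{u} A) i).app X₀
  have h2 : ∀ y : (Hi i).obj (DerivedCategory.Q.obj X₀),
      ((Hi i).map (DerivedCategory.Q.map (f • 𝟙 X₀))).hom y = f • y := by
    intro y
    have nat := (DerivedCategory.homologyFunctorFactors (ModuleCat.{u} A) i).hom.naturality
      (f • 𝟙 X₀)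
    have nat' := congrArg (fun t => t.hom y) nat
    have h3 : φ.hom.hom (((Hi i).map (DerivedCategory.Q.map (f • 𝟙 X₀))).hom y) =
        f • φ.hom.hom y := nat'.trans (homologyMap_smul_id_apply f X₀ i _)
    have h4 : Function.Injective φ.hom.hom :=
      (ModuleCat.mono_iff_injective φ.hom).1 inferInstance
    apply h4
    rw [h3, map_smul]
  rw [h1, Functor.map_comp, Functor.map_comp]
  change ((Hi i).map e.hom).hom (((Hi i).map (DerivedCategory.Q.map (f • 𝟙 X₀))).hom
    (((Hi i).map e.inv).hom x)) = f • x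
  rw [h2, map_smul]
  congr 1
  have h5 : (Hi i).map e.inv ≫ (Hi i).map e.hom = 𝟙 _ := by
    rw [← Functor.map_comp, Iso.inv_hom_id, CategoryTheory.Functor.map_id]
  exact congrArg (fun t => t.hom x) h5

/-- An `f`-complete module on which `f` is surjective vanishes. -/
lemma subsingleton_of_isFComplete_of_surjective {f : A} {M : Type u} [AddCommGroup M] [Module A M]
    (h : IsFComplete f M) (hs : ∀ x : M, ∃ y : M, f • y = x) : Subsingleton M := by
  refine ⟨fun x y => ?_⟩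
  suffices ∀ z : M, z = 0 by rw [this x, this y]
  intro z
  choose g hg using hs
  let m : ℕ → M := fun n => Nat.rec z (fun _ w => g w) n
  have hm : ∀ n, m n = f • m (n + 1) := fun n => (hg (m n)).symm
  have := h.eq_zero m hm
  exact congrFun this 0

/-- Exactness of the cohomology sequence of a distinguished triangle at the middle term. -/
lemma exists_of_Hi_map_mor₂_eq_zero (T : Triangle (Dual.D A)) (hT : T ∈ distTriang (Dual.D A))
    (i : ℤ) (y : (Hi i).obj T.obj₂) (hy : ((Hi i).map T.mor₂).hom y = 0) :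
    ∃ x : (Hi i).obj T.obj₁, ((Hi i).map T.mor₁).hom x = y := by
  have h := DerivedCategory.HomologySequence.exact₂ T hT i
  have h' := (ShortComplex.ShortExact.moduleCat_exact_iff_function_exact _).1 h
  exact (h' y).1 hy

lemma Hi_map_comp_apply {X Y Z : Dual.D A} (a : X ⟶ Y) (b : Y ⟶ Z) (i : ℤ) (x : (Hi i).obj X) :
    ((Hi i).map (a ≫ b)).hom x = ((Hi i).map b).hom (((Hi i).map a).hom x) := by
  rw [Functor.map_comp]
  rfl

lemma Hi_map_inv_hom_apply {X Y : Dual.D A} (e : X ≅ Y) (i : ℤ) (x : (Hi i).obj Y) :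
    ((Hi i).map e.hom).hom (((Hi i).map e.inv).hom x) = x := by
  rw [← Hi_map_comp_apply, Iso.inv_hom_id, CategoryTheory.Functor.map_id]
  rfl

section Step

variable {Ψ : Dual.D A ⥤ Dual.D A} (hΨ : WeakTri Ψ)
  (hΨs : ∀ (f : A) (Y : Dual.D A), Ψ.map (f • 𝟙 Y) = f • 𝟙 (Ψ.obj Y))
  (I : Ideal A)

include hΨ in
/-- The cone of a scalar endomorphism, after `Ψ`, stays derived complete. -/
theorem isDerivedComplete_cone {f : A} {Y Z : Dual.D A} (g : Y ⟶ Z) (h : Z ⟶ Y⟦(1 : ℤ)⟧)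
    (hT : Triangle.mk (f • 𝟙 Y) g h ∈ distTriang (Dual.D A))
    (hc : DRing.IsDerivedComplete I (Ψ.obj Y)) : DRing.IsDerivedComplete I (Ψ.obj Z) := by
  obtain ⟨T₁, hT₁, e₁, e₂, e₃, -, -⟩ := hΨ _ hT
  have h1 : DRing.IsDerivedComplete I T₁.obj₁ :=
    Groth.Agent.Lib.Helper7.DerivedComplete.of_iso I e₁.symm hc
  have h2 : DRing.IsDerivedComplete I T₁.obj₂ :=
    Groth.Agent.Lib.Helper7.DerivedComplete.of_iso I e₂.symm hc
  exact Groth.Agent.Lib.Helper7.DerivedComplete.of_iso I e₃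
    (Groth.Agent.Lib.Helper7.DerivedComplete.of_distTriang₃ I T₁ hT₁ h1 h2)

include hΨ hΨs in
/-- Descending step of derived Nakayama. -/
theorem step_down {f : A} (hf : f ∈ I) {Y Z : Dual.D A} (g : Y ⟶ Z) (h : Z ⟶ Y⟦(1 : ℤ)⟧)
    (hT : Triangle.mk (f • 𝟙 Y) g h ∈ distTriang (Dual.D A))
    (hc : DRing.IsDerivedComplete I (Ψ.obj Y)) (b : ℤ)
    (hZ : ∀ i : ℤ, b < i → IsZero ((Hi i).obj (Ψ.obj Z))) :
    ∀ i : ℤ, b < i → IsZero ((Hi i).obj (Ψ.obj Y)) := by
  obtain ⟨T₁, hT₁, e₁, e₂, e₃, c₁, c₂⟩ := hΨ _ hT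
  intro i hi
  have hFC : IsFComplete f ((Hi i).obj (Ψ.obj Y)) := (isDerivedComplete_iff I _).1 hc f hf i
  have hsub : Subsingleton ((Hi i).obj (Ψ.obj Y)) := by
    refine subsingleton_of_isFComplete_of_surjective hFC (fun x => ?_)
    let x₂ := ((Hi i).map e₂.inv).hom x
    have hx₂ : ((Hi i).map T₁.mor₂).hom x₂ = 0 := by
      have hz : IsZero ((Hi i).obj T₁.obj₃) := (hZ i hi).of_iso ((Hi i).mapIso e₃)
      have := (ModuleCat.isZero_iff_subsingleton).1 hz
      exact Subsingleton.elim _ _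
    obtain ⟨x₁, hx₁⟩ := exists_of_Hi_map_mor₂_eq_zero T₁ hT₁ i x₂ hx₂
    refine ⟨((Hi i).map e₁.hom).hom x₁, ?_⟩
    have k1 := Hi_map_smul_id_apply f (Ψ.obj Y) i (((Hi i).map e₁.hom).hom x₁)
    refine k1.symm.trans ?_
    rw [← hΨs]
    have k2 := Hi_map_comp_apply e₁.hom (Ψ.map (f • 𝟙 Y)) i x₁
    refine k2.symm.trans ?_
    have c₁' : e₁.hom ≫ Ψ.map (f • 𝟙 Y) = T₁.mor₁ ≫ e₂.hom := c₁.symm
    rw [c₁']
    refine (Hi_map_comp_apply T₁.mor₁ e₂.hom i x₁).trans ?_
    rw [hx₁]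
    exact Hi_map_inv_hom_apply e₂ i x
  exact ModuleCat.isZero_of_subsingleton _

end Step

end Groth.Agent.Lib.Helper13.DCN
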