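import Groth.Agent.Lib.Helper13.LocFF4
import Groth.Agent.Lib.Helper13.DRingRestrict
import Groth.Agent.Lib.Helper7.HomProjective
import Groth.Agent.Lib.Helper7.Telescope

set_option autoImplicit false
universe u
open CategoryTheory CategoryTheory.Limits Pretriangulated Polynomial

namespace Groth.Agent.Lib.Helper13.Coind

open Groth.Agent.Lib.Helper7.DerivedComplete Groth.Agent.Lib.Helper7.DerivedCompleteMT
  Groth.Agent.Lib.Helper7.FComplete

attribute [local instance] HasDerivedCategory.standard

variable {A : Type u} [CommRing A]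

/-- Abbreviation for the cohomology functor. -/
noncomputable abbrev Hh (i : ℤ) : Dual.D A ⥤ ModuleCat.{u} A :=
  DerivedCategory.homologyFunctor (ModuleCat.{u} A) i

section ShiftOne

variable {D : Type*} [Category D] [HasShift D ℤ]

lemma subsingleton_shift_one {X K : D} (h : Subsingleton (X ⟶ K)) :
    Subsingleton (X⟦(1 : ℤ)⟧ ⟶ K⟦(1 : ℤ)⟧) :=
  ⟨fun a b => by
    obtain ⟨a', rfl⟩ := (shiftFunctor D (1 : ℤ)).map_surjective a
    obtain ⟨b', rfl⟩ := (shiftFunctor D (1 : ℤ)).map_surjective b
    rw [h.elim a' b']⟩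

end ShiftOne

/-- No maps from a projective module in degree `0` to `K[j]` if `H^j(K) = 0`. -/
lemma subsingleton_hom_projective (P : ModuleCat.{u} A) [Projective P] (K : Dual.D A) (j : ℤ)
    (h : IsZero ((Hh j).obj K)) :
    Subsingleton ((DerivedCategory.singleFunctor (ModuleCat.{u} A) 0).obj P ⟶ K⟦j⟧) := by
  have hb := Groth.Agent.Lib.Helper7.HomProjective.bijective_homologyFunctor_map P (K⟦j⟧)
  have hz : IsZero ((Hh 0).obj (K⟦j⟧)) :=
    h.of_iso (((DerivedCategory.homologyFunctor (ModuleCat.{u} A) 0).shiftIso j 0 j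
      (add_zero j)).app K)
  refine ⟨fun a b => hb.1 ?_⟩
  exact hz.eq_of_tgt _ _

/-- `Hom(A_f, K[j]) = 0` if `H^{j-1}(K) = 0 = H^j(K)`. -/
theorem subsingleton_hom_away (f : A) (K : Dual.D A) (j : ℤ)
    (h1 : IsZero ((Hh (j - 1)).obj K)) (h2 : IsZero ((Hh j).obj K)) :
    Subsingleton (Dual.inD A (Localization.Away f) ⟶ K⟦j⟧) := by
  obtain ⟨δ, hT⟩ := Groth.Agent.Lib.Helper7.Telescope.exists_distTriang f
  have hP : Projective (ModuleCat.of A A[X]) := inferInstance
  have s2 := subsingleton_hom_projective (ModuleCat.of A A[X]) K j h2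
  have s1 := subsingleton_hom_projective (ModuleCat.of A A[X]) K (j - 1) h1
  have s1' : Subsingleton ((Dual.inD A A[X])⟦(1 : ℤ)⟧ ⟶ K⟦j⟧) := by
    have := subsingleton_shift_one s1
    exact (Iso.homCongr (Iso.refl _) ((shiftFunctorAdd' (Dual.D A) (j - 1) 1 j
      (by simp)).app K).symm).subsingleton_congr.1 this
  refine ⟨fun a b => ?_⟩
  suffices ∀ φ : Dual.inD A (Localization.Away f) ⟶ K⟦j⟧, φ = 0 by rw [this a, this b]
  intro φ
  obtain ⟨ψ, hψ⟩ := Triangle.yoneda_exact₃ _ hT φ (s2.elim _ _)
  rw [hψ, s1'.elim ψ 0]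
  exact Limits.comp_zero

/-- `H^j(RHom(A_f, K)) = 0` if `H^{j-1}(K) = 0 = H^j(K)`. -/
theorem isZero_homology_Rco (f : A) (K : Dual.D A) (j : ℤ)
    (h1 : IsZero ((Hh (j - 1)).obj K)) (h2 : IsZero ((Hh j).obj K)) :
    IsZero ((DerivedCategory.homologyFunctor (ModuleCat.{u} (Localization.Away f)) j).obj
      ((Rco (algebraMap A (Localization.Away f))).obj K)) := by
  apply Groth.Agent.Lib.Helper13.DR.isZero_homology_of_subsingleton_hom_single_self
  rw [← ((adj (algebraMap A (Localization.Away f))).homEquiv _ _).subsingleton_congr]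
  have h3 : Subsingleton ((Dual.inD A (Localization.Away f))⟦-j⟧ ⟶ K) :=
    (subsingleton_shift_iff _ _ j).2 (subsingleton_hom_away f K j h1 h2)
  exact (Iso.homCongr (restrictSingleIso (A := A) (B := Localization.Away f) j)
    (Iso.refl K)).subsingleton_congr.2 h3

/-- Restriction of scalars preserves vanishing of cohomology. -/
lemma isZero_homology_restrictD {B : Type u} [CommRing B] (φ : A →+* B) (Y : Dual.D B) (j : ℤ)
    (h : IsZero ((DerivedCategory.homologyFunctor (ModuleCat.{u} B) j).obj Y)) :
    IsZero ((Hh j).obj ((DRing.restrictD φ).obj Y)) := by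
  let E := DerivedCategory.Q.objPreimage Y
  let e : DerivedCategory.Q.obj E ≅ Y := DerivedCategory.Q.objObjPreimageIso Y
  have h1 : IsZero (E.homology j) :=
    h.of_iso (((DerivedCategory.homologyFunctorFactors (ModuleCat.{u} B) j).app E).symm ≪≫
      (DerivedCategory.homologyFunctor (ModuleCat.{u} B) j).mapIso e)
  have h2 : IsZero (((DRing.restrictCx φ).obj E).homology j) :=
    ((ModuleCat.restrictScalars.{u} φ).map_isZero h1).of_iso
      (Groth.Agent.Lib.Helper13.DR.restrictCxHomologyIso φ E j)
  exact h2.of_iso ((Hh j).mapIso ((DRing.restrictD φ).mapIso e.symm ≪≫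
    Groth.Agent.Lib.Helper13.DR.restrictDQIso φ E) ≪≫
    (DerivedCategory.homologyFunctorFactors (ModuleCat.{u} A) j).app _)

/-- Cohomological bound for one completion step. -/
lemma isZero_homology_step (f : A) (K C : Dual.D A) (u : K ⟶ C)
    (w : C ⟶ ((DRing.restrictD (algebraMap A (Localization.Away f))).obj
      ((Rco (algebraMap A (Localization.Away f))).obj K))⟦(1 : ℤ)⟧)
    (hT : Triangle.mk ((adj (algebraMap A (Localization.Away f))).counit.app K) u w ∈
      distTriang (Dual.D A)) (i : ℤ)
    (h1 : IsZero ((Hh i).obj K)) (h2 : IsZero ((Hh (i + 1)).obj K)) :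
    IsZero ((Hh i).obj C) := by
  have hR : IsZero ((Hh (i + 1)).obj ((DRing.restrictD (algebraMap A (Localization.Away f))).obj
      ((Rco (algebraMap A (Localization.Away f))).obj K))) := by
    apply isZero_homology_restrictD
    apply isZero_homology_Rco f K (i + 1) _ h2
    rw [add_sub_cancel_right]
    exact h1
  exact (DerivedCategory.HomologySequence.exact₃ _ hT i (i + 1) rfl).isZero_of_both_isZero h1 hR

/-- Derived completion along a finite list of elements, with its universal property and
cohomological bounds. -/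
theorem exists_completion_list_bound (l : List A) (K : Dual.D A) :
    ∃ (C : Dual.D A) (u : K ⟶ C), (∀ f ∈ l, HomVanish f C) ∧
      (∀ C₀ : Dual.D A, (∀ f ∈ l, HomVanish f C₀) →
        Function.Bijective (fun g : C ⟶ C₀ => u ≫ g)) ∧
      ∀ i : ℤ, (∀ j : ℤ, i ≤ j → j ≤ i + l.length → IsZero ((Hh j).obj K)) →
        IsZero ((Hh i).obj C) := by
  induction l generalizing K with
  | nil =>
    refine ⟨K, 𝟙 K, by simp, fun C₀ _ => ?_, fun i h => h i le_rfl (by simp)⟩
    have : (fun g : K ⟶ C₀ => 𝟙 K ≫ g) = id := by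
      funext g
      simp
    rw [this]
    exact Function.bijective_id
  | cons f l ih =>
    obtain ⟨C', u', h1, h2, hbd⟩ := ih K
    have hflat : Module.Flat A (Localization.Away f) :=
      IsLocalization.flat (Localization.Away f) (Submonoid.powers f)
    obtain ⟨C'', u'', w, hT, horth⟩ :=
      exists_step (B := Localization.Away f) (Submonoid.powers f) C'
    refine ⟨C'', u' ≫ u'', ?_, ?_, ?_⟩
    · intro g hg
      rcases List.mem_cons.1 hg with rfl | hg
      · exact (orth_away_iff g C'').1 horth
      · have hg' : HomVanish g C' := h1 g hg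
        have h3 : HomVanish g ((DRing.restrictD (algebraMap A (Localization.Away f))).obj
            ((Rco (algebraMap A (Localization.Away f))).obj C')) :=
          (orth_away_iff g _).1 (orth_res_Rco (Localization.Away f) (Submonoid.powers g) C'
            ((orth_away_iff g C').2 hg'))
        exact HomVanish.of_distTriang₃ _ hT h3 hg'
    · intro C₀ h0
      have hb1 := h2 C₀ (fun g hg => h0 g (List.mem_cons_of_mem _ hg))
      have hf0 : Orth A (Localization.Away f) C₀ :=
        (orth_away_iff f C₀).2 (h0 f List.mem_cons_self)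
      have hs1 : Subsingleton (((DRing.restrictD (algebraMap A (Localization.Away f))).obj
          ((Rco (algebraMap A (Localization.Away f))).obj C'))⟦(1 : ℤ)⟧ ⟶ C₀) :=
        (Iso.homCongr (((DRing.restrictD (algebraMap A (Localization.Away f))).commShiftIso
          (1 : ℤ)).app _) (Iso.refl C₀)).subsingleton_congr.1 (hf0 _)
      have hb2 : Function.Bijective (fun g : C'' ⟶ C₀ => u'' ≫ g) :=
        bijective_precomp_of_distTriang _ hT C₀ (hf0 _) hs1
      have : (fun g : C'' ⟶ C₀ => (u' ≫ u'') ≫ g) =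
          (fun h : C' ⟶ C₀ => u' ≫ h) ∘ (fun g : C'' ⟶ C₀ => u'' ≫ g) := by
        funext g
        simp
      rw [this]
      exact hb1.comp hb2
    · intro i hi
      have hlen : ((f :: l).length : ℤ) = (l.length : ℤ) + 1 := by simp
      apply isZero_homology_step f C' C'' u'' w hT i
      · exact hbd i (fun j hj1 hj2 => hi j hj1 (by rw [hlen]; lia))
      · exact hbd (i + 1) (fun j hj1 hj2 => hi j (by lia) (by rw [hlen]; lia))

/-- Any object with the universal property is the derived completion. -/
theorem nonempty_iso_derivedCompletion (I : Ideal A) [DRing.HasDerivedCompletion I]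
    (K C : Dual.D A) (u : K ⟶ C) (hC : DRing.IsDerivedComplete I C)
    (huniv : ∀ C₀ : Dual.D A, DRing.IsDerivedComplete I C₀ →
      Function.Bijective (fun g : C ⟶ C₀ => u ≫ g)) :
    Nonempty (C ≅ ((DRing.derivedCompletion I).obj K).obj) := by
  let L := (DRing.derivedCompletion I).obj K
  let η : K ⟶ L.obj := DRing.toDerivedCompletion I K
  obtain ⟨g, hg⟩ := (huniv L.obj L.property).2 η
  let C' : DRing.DComp I := ⟨C, hC⟩
  let g'' : L ⟶ C' := ((DRing.derivedCompletionAdj I).homEquiv K C').symm u
  have hg'' : η ≫ g''.hom = u := by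
    have := ((DRing.derivedCompletionAdj I).homEquiv K C').apply_symm_apply u
    rw [Adjunction.homEquiv_unit] at this
    exact this
  refine ⟨⟨g, g''.hom, ?_, ?_⟩⟩
  · apply (huniv C hC).1
    change u ≫ g ≫ g''.hom = u ≫ 𝟙 C
    have hg' : u ≫ g = η := hg
    rw [← Category.assoc, hg', hg'', Category.comp_id]
  · have h1 : g'' ≫ (ObjectProperty.homMk g : C' ⟶ L) = 𝟙 L := by
      apply ((DRing.derivedCompletionAdj I).homEquiv K L).injective
      rw [Adjunction.homEquiv_unit, Adjunction.homEquiv_unit]
      change η ≫ (g''.hom ≫ g) = η ≫ 𝟙 _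
      have hg' : u ≫ g = η := hg
      rw [← Category.assoc, hg'', hg', Category.comp_id]
    exact congrArg (fun m => (ObjectProperty.ι (DRing.IsDerivedComplete I)).map m) h1

end Groth.Agent.Lib.Helper13.Coind
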