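import Groth.Agent.Lib.Helper13.FinCoh1
import Groth.Agent.Lib.Helper13.LocFF5
import Groth.Agent.Lib.Helper13.DCNak1

/-!
# Finiteness of the cohomology of `RHom_A(B, K)`
-/

set_option autoImplicit false
universe u
open CategoryTheory CategoryTheory.Limits Pretriangulated

namespace Groth.Agent.Lib.Helper13.FC

open Groth.Agent.Lib.Helper13.PC Groth.Agent.Lib.Helper13.DR Groth.Agent.Lib.Helper13.Coind
open DerivedCategory
attribute [local instance] HasDerivedCategory.standard

section Semilinear

variable {A B : Type u} [CommRing A] [CommRing B] (φ : A →+* B)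

/-- Finiteness transfers along a semilinear surjection. -/
lemma finite_of_semilinear_surjective {G N : Type*} [AddCommGroup G] [Module A G]
    [AddCommGroup N] [Module B N] [Module.Finite A G] (θ : G →+ N)
    (hθ : ∀ (a : A) (g : G), θ (a • g) = φ a • θ g) (hs : Function.Surjective θ) :
    Module.Finite B N := by
  classical
  obtain ⟨S, hS⟩ := (Module.finite_def (R := A) (M := G)).1 inferInstance
  refine ⟨⟨S.image θ, ?_⟩⟩
  rw [eq_top_iff]
  rintro n -
  obtain ⟨g, rfl⟩ := hs n
  have hg : g ∈ Submodule.span A (S : Set G) := by rw [hS]; trivial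
  induction hg using Submodule.span_induction with
  | mem x hx =>
    apply Submodule.subset_span
    simp only [Finset.coe_image, Set.mem_image, Finset.mem_coe]
    exact ⟨x, hx, rfl⟩
  | zero => rw [map_zero]; exact Submodule.zero_mem _
  | add x y _ _ hx hy => rw [map_add]; exact Submodule.add_mem _ hx hy
  | smul a x _ hx => rw [hθ]; exact Submodule.smul_mem _ _ hx

/-- Restriction of scalars is semilinear on morphisms of complexes. -/
lemma restrictCx_map_smul_id (a : A) (E : DRing.Cx B) :
    ((ModuleCat.restrictScalars.{u} φ).mapHomologicalComplex (ComplexShape.up ℤ)).map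
      (φ a • 𝟙 E) = a • 𝟙 _ := by
  ext i x
  rfl

/-- Restriction of scalars is semilinear on identities of `D(B)`. -/
lemma restrictD_map_smul_id (a : A) (Y : Dual.D B) :
    (DRing.restrictD φ).map (φ a • 𝟙 Y) = a • 𝟙 _ := by
  let E := Q.objPreimage Y
  let e : Q.obj E ≅ Y := Q.objObjPreimageIso Y
  have h1 : φ a • 𝟙 Y = e.inv ≫ Q.map (φ a • 𝟙 E) ≫ e.hom := by
    rw [Functor.map_smul, CategoryTheory.Functor.map_id, Linear.smul_comp, Linear.comp_smul,
      Category.id_comp, Iso.inv_hom_id]
  have h2 := (ModuleCat.restrictScalars.{u} φ).mapDerivedCategoryFactors.hom.naturality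
    (φ a • 𝟙 E)
  dsimp at h2
  have h3 : (DRing.restrictD φ).map (Q.map (φ a • 𝟙 E)) = a • 𝟙 _ := by
    have h4 : (DRing.restrictD φ).map (Q.map (φ a • 𝟙 E)) =
        ((ModuleCat.restrictScalars.{u} φ).mapDerivedCategoryFactors.hom.app E) ≫
          Q.map (((ModuleCat.restrictScalars.{u} φ).mapHomologicalComplex
            (ComplexShape.up ℤ)).map (φ a • 𝟙 E)) ≫
          ((ModuleCat.restrictScalars.{u} φ).mapDerivedCategoryFactors.inv.app E) := by
      rw [← Category.assoc, ← h2, Category.assoc, Iso.hom_inv_id_app]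
      exact (Category.comp_id _).symm
    rw [h4, restrictCx_map_smul_id, Functor.map_smul, CategoryTheory.Functor.map_id,
      Linear.smul_comp, Linear.comp_smul]
    erw [Category.id_comp]
    rw [Iso.hom_inv_id_app]
    rfl
  rw [h1, Functor.map_comp, Functor.map_comp, h3, Linear.smul_comp, Linear.comp_smul,
    Category.id_comp, ← Functor.map_comp, Iso.inv_hom_id, CategoryTheory.Functor.map_id]

/-- Restriction of scalars is semilinear on morphisms of `D(B)`. -/
lemma restrictD_map_smul (a : A) {Y Y' : Dual.D B} (v : Y ⟶ Y') :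
    (DRing.restrictD φ).map (φ a • v) = a • (DRing.restrictD φ).map v := by
  have : φ a • v = (φ a • 𝟙 Y) ≫ v := by rw [Linear.smul_comp, Category.id_comp]
  rw [this, Functor.map_comp, restrictD_map_smul_id, Linear.smul_comp, Category.id_comp]

end Semilinear

section Eval

variable {B : Type u} [CommRing B]

/-- `B[-j]`. -/
noncomputable abbrev Sj (B : Type u) [CommRing B] (j : ℤ) : Dual.D B :=
  (DerivedCategory.singleFunctor (ModuleCat.{u} B) j).obj (ModuleCat.of B B)

instance : Projective (ModuleCat.of B B) := (projective_iff _).2 inferInstance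

/-- The evaluation `Hom(B[-j], Y) → H^j(Y)`. -/
noncomputable def evH (j : ℤ) (Y : Dual.D B) :
    (Sj B j ⟶ Y) →+ (DerivedCategory.homologyFunctor (ModuleCat.{u} B) j).obj Y where
  toFun u := (fromSingleHomologyMap (ModuleCat.of B B) j Y u).hom (1 : B)
  map_zero' := by
    simp [fromSingleHomologyMap]
  map_add' u v := by
    simp [fromSingleHomologyMap, Functor.map_add]

lemma evH_surjective (j : ℤ) (Y : Dual.D B) : Function.Surjective (evH j Y) := by
  intro c
  obtain ⟨u, hu⟩ := (bijective_fromSingleHomologyMap (ModuleCat.of B B) j Y).2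
    (ModuleCat.ofHom (LinearMap.toSpanSingleton B _ c))
  refine ⟨u, ?_⟩
  change (fromSingleHomologyMap (ModuleCat.of B B) j Y u).hom (1 : B) = c
  rw [hu]
  simp

lemma evH_smul (j : ℤ) (Y : Dual.D B) (b : B) (u : Sj B j ⟶ Y) :
    evH j Y (b • u) = b • evH j Y u := by
  have h1 : b • u = u ≫ (b • 𝟙 Y) := by rw [Linear.comp_smul, Category.comp_id]
  change (fromSingleHomologyMap (ModuleCat.of B B) j Y (b • u)).hom (1 : B) =
    b • (fromSingleHomologyMap (ModuleCat.of B B) j Y u).hom (1 : B)
  rw [h1, fromSingleHomologyMap_comp]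
  exact Groth.Agent.Lib.Helper13.DCN.Hi_map_smul_id_apply b Y j _

end Eval

section Main

variable {A B : Type u} [CommRing A] [CommRing B] [Algebra A B]

/-- `res (B[-j])` is the `A`-module `B` placed in degree `j`. -/
noncomputable def resSjIso (j : ℤ) : (DRing.restrictD (algebraMap A B)).obj (Sj B j) ≅
    (DerivedCategory.singleFunctor (ModuleCat.{u} A) j).obj (ModuleCat.of A B) :=
  ((ModuleCat.restrictScalars.{u} (algebraMap A B)).mapDerivedCategorySingleFunctor j).app
      (ModuleCat.of B B) ≪≫
    (DerivedCategory.singleFunctor (ModuleCat.{u} A) j).mapIso restrictSelfIso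

instance isLE_res_Sj (j : ℤ) : ((DRing.restrictD (algebraMap A B)).obj (Sj B j)).IsLE j :=
  TStructure.t.isLE_of_iso (resSjIso (A := A) (B := B) j).symm j

variable [IsNoetherianRing A] [Module.Finite A B]

lemma isPseudoCoherent'_res_Sj (j : ℤ) :
    DRing.IsPseudoCoherent' A ((DRing.restrictD (algebraMap A B)).obj (Sj B j)) := by
  rw [isPseudoCoherent'_iff]
  have h0 : PCoh.IsPC (Pff A) (Dual.inD A B) :=
    (isPseudoCoherent'_iff _).1 ((isPseudoCoherentModule'_iff_of_isNoetherianRing (A := A) B).2
      inferInstance)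
  intro m
  have h1 : IsNPC (Pff A) (m - j + j)
      ((DerivedCategory.singleFunctor (ModuleCat.{u} A) j).obj (ModuleCat.of A B)) :=
    IsNPC.single_shift (h0 (m - j)) j
  rw [sub_add_cancel] at h1
  exact IsNPC.of_iso h1 (resSjIso (A := A) (B := B) j).symm

/-- Cohomology of `RHom_A(B, K)` is finite over `B` for `K` bounded below with finite
cohomology. -/
theorem finite_homology_Rco (K : Dual.D A) (a : ℤ) [K.IsGE a]
    (hK : ∀ i : ℤ, Module.Finite A ((DerivedCategory.homologyFunctor (ModuleCat.{u} A) i).obj K))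
    (j : ℤ) :
    Module.Finite B ((DerivedCategory.homologyFunctor (ModuleCat.{u} B) j).obj
      ((Rco (algebraMap A B)).obj K)) := by
  have hG : Module.Finite A ((DRing.restrictD (algebraMap A B)).obj (Sj B j) ⟶ K) :=
    finite_hom_of_isGE (isPseudoCoherent'_res_Sj j) j K a hK
  let θ : ((DRing.restrictD (algebraMap A B)).obj (Sj B j) ⟶ K) →+
      (DerivedCategory.homologyFunctor (ModuleCat.{u} B) j).obj ((Rco (algebraMap A B)).obj K) :=
    (evH j ((Rco (algebraMap A B)).obj K)).comp
      ((adj (algebraMap A B)).homAddEquiv (Sj B j) K).toAddMonoidHom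
  refine finite_of_semilinear_surjective (algebraMap A B) θ ?_ ?_
  · intro r g
    have h1 : (adj (algebraMap A B)).homEquiv (Sj B j) K (r • g) =
        algebraMap A B r • (adj (algebraMap A B)).homEquiv (Sj B j) K g := by
      apply ((adj (algebraMap A B)).homEquiv (Sj B j) K).symm.injective
      rw [Equiv.symm_apply_apply, Adjunction.homEquiv_counit, restrictD_map_smul,
        Linear.smul_comp, ← Adjunction.homEquiv_counit, Equiv.symm_apply_apply]
    change evH j _ ((adj (algebraMap A B)).homEquiv (Sj B j) K (r • g)) =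
      algebraMap A B r • evH j _ ((adj (algebraMap A B)).homEquiv (Sj B j) K g)
    rw [h1, evH_smul]
  · intro c
    obtain ⟨u, hu⟩ := evH_surjective j _ c
    exact ⟨((adj (algebraMap A B)).homEquiv (Sj B j) K).symm u, by
      change evH j _ ((adj (algebraMap A B)).homEquiv (Sj B j) K _) = c
      rw [Equiv.apply_symm_apply, hu]⟩

end Main

end Groth.Agent.Lib.Helper13.FC
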