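import Groth.Agent.Lib.Helper13.BD4
import Groth.Agent.Lib.Helper13.FinCoh2

/-!
# `RHom_A(B, ω)` is dualizing for a finite ring map
-/

set_option autoImplicit false
set_option linter.unusedSectionVars false

open CategoryTheory CategoryTheory.Limits Pretriangulated

universe u

namespace Groth.Agent.Lib.Helper13.BD

open DerivedCategory Groth.Agent.Lib.Helper13.Coind Groth.Agent.Lib.Helper13.PC
  Groth.Agent.Lib.Helper13.DR Groth.Agent.Lib.Helper13.Shriek Groth.Agent.Lib.Helper13.DualBC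
  Groth.Agent.Lib.Helper13.FC

attribute [local instance] HasDerivedCategory.standard

variable (A B : Type u) [CommRing A] [CommRing B] [Algebra A B] [IsNoetherianRing A]
  [IsNoetherianRing B] [Module.Finite A B]

/-- Injective dimension of `RHom_A(B, K)`. -/
lemma subsingleton_hom_Rco (K : Dual.D A) (a b : ℤ)
    (h2 : ∀ (M : Type u) [AddCommGroup M] [Module A M] (i : ℤ), (i < a ∨ b < i) →
      Subsingleton (Dual.inD A M ⟶ K⟦i⟧))
    (N : Type u) [AddCommGroup N] [Module B N] (i : ℤ) (hi : i < a ∨ b < i) :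
    Subsingleton (Dual.inD B N ⟶ ((Rco (algebraMap A B)).obj K)⟦i⟧) := by
  let NA : ModuleCat.{u} A := (ModuleCat.restrictScalars.{u} (algebraMap A B)).obj (ModuleCat.of B N)
  have h := h2 NA i hi
  let e1 : (Dual.inD B N ⟶ ((Rco (algebraMap A B)).obj K)⟦i⟧) ≃
      (Dual.inD B N ⟶ (Rco (algebraMap A B)).obj (K⟦i⟧)) :=
    Iso.homCongr (Iso.refl _) (RcoShift (algebraMap A B) i K).symm
  let e2 := ((Coind.adj (algebraMap A B)).homEquiv (Dual.inD B N) (K⟦i⟧)).symm
  let e3 : ((DRing.restrictD (algebraMap A B)).obj (Dual.inD B N) ⟶ K⟦i⟧) ≃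
      (Dual.inD A NA ⟶ K⟦i⟧) :=
    Iso.homCongr (((ModuleCat.restrictScalars.{u}
      (algebraMap A B)).mapDerivedCategorySingleFunctor 0).app (ModuleCat.of B N)) (Iso.refl _)
  exact ((e1.trans e2).trans e3).subsingleton

/-- **`RHom_A(B, ω)` is a dualizing complex for `B`** when `A → B` is finite. -/
theorem isDualizing_Rco (ω : Dual.D A) (hω : Dual.IsDualizing A ω) :
    Dual.IsDualizing B ((Rco (algebraMap A B)).obj ω) := by
  obtain ⟨_, ⟨a, b, h2⟩, h3, h4, h5⟩ := hω
  have hinj : DRing.HasInjAmplitudeIn A a b ω :=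
    hasInjAmplitudeIn_of_quotients ω a b (fun J i hi => h2 (A ⧸ J) i hi)
  obtain ⟨I, hv, hI, ⟨e⟩⟩ := hinj
  have hK : I.IsKInjective := isKInjective_of_forall_injective I a (fun i hi => hv i (Or.inl hi))
    (fun i => (injective_iff _).2 (hI i))
  have h4' : Function.Bijective (fun a : A => a • 𝟙 (Q.obj I : Dual.D A)) := by
    have : (fun a : A => a • 𝟙 (Q.obj I : Dual.D A)) =
        (Iso.homCongr e.symm e.symm) ∘ (fun a : A => a • 𝟙 ω) := by
      funext a
      change a • 𝟙 _ = e.hom ≫ (a • 𝟙 ω) ≫ e.inv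
      rw [Linear.smul_comp, Linear.comp_smul, Category.id_comp, e.hom_inv_id]
    rw [this]
    exact (Iso.homCongr e.symm e.symm).bijective.comp h4
  have h5' : ∀ i : ℤ, i ≠ 0 →
      Subsingleton ((Q.obj I : Dual.D A) ⟶ (Q.obj I : Dual.D A)⟦i⟧) := by
    intro i hi
    have := h5 i hi
    exact (Iso.homCongr e ((shiftFunctor (Dual.D A) i).mapIso e)).subsingleton
  obtain ⟨k1, k2⟩ := toEnd_Rco_aux (B := B) I hI a b hv h4' h5'
  have hvan : ∀ i : ℤ, i < a → Subsingleton (Dual.HD A ω i) := fun i hi =>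
    ModuleCat.subsingleton_of_isZero (isZero_HD_of_subsingleton_ext ω i (h2 A i (Or.inl hi)))
  have hGE : ω.IsGE a := isGE_of_subsingleton_HD ω a hvan
  refine isDualizing_of_iso ((Rco (algebraMap A B)).mapIso e) ?_
  have hGE' : (Q.obj I : Dual.D A).IsGE a := DerivedCategory.TStructure.t.isGE_of_iso e.symm a
  refine ⟨inferInstance, ⟨a, b, fun N _ _ i hi => ?_⟩, fun i => ?_, k1, k2⟩
  · refine subsingleton_hom_Rco A B (Q.obj I) a b (fun M _ _ j hj => ?_) N i hi
    have := h2 M j hj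
    exact (Iso.homCongr (Iso.refl _) ((shiftFunctor (Dual.D A) j).mapIso e)).subsingleton
  · refine finite_homology_Rco (B := B) (Q.obj I) a (fun j => ?_) i
    have := h3 j
    exact Module.Finite.equiv
      ((DerivedCategory.homologyFunctor (ModuleCat.{u} A) j).mapIso e).symm.toLinearEquiv

end Groth.Agent.Lib.Helper13.BD
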