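import Groth.Agent.Lib.Helper13.HomCx1
import Mathlib.Algebra.Homology.HomologicalComplexAbelian

/-!
# `Hom•(-, L)` turns degreewise split short exact sequences into short exact sequences
-/

set_option autoImplicit false
universe u
open CategoryTheory CategoryTheory.Limits MonoidalCategory
open CochainComplex CochainComplex.HomComplex HomologicalComplex

namespace Groth.Agent.Lib.Helper13.HT

variable {A : Type u} [CommRing A]

lemma preMap_comp {P P' P'' : DRing.Cx A} (f : P' ⟶ P) (f' : P'' ⟶ P') (L : DRing.Cx A) :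
    preMap (f' ≫ f) L = preMap f L ≫ preMap f' L := by
  refine HomologicalComplex.hom_ext _ _ (fun i => ?_)
  apply ModuleCat.hom_ext
  apply LinearMap.ext
  intro z
  change (Cochain.ofHom (f' ≫ f)).comp z (zero_add i) =
    (Cochain.ofHom f').comp ((Cochain.ofHom f).comp z (zero_add i)) (zero_add i)
  rw [Cochain.ofHom_comp, Cochain.comp_assoc_of_first_is_zero_cochain]

lemma preMap_zero {P P' : DRing.Cx A} (L : DRing.Cx A) :
    preMap (0 : P' ⟶ P) L = 0 := by
  refine HomologicalComplex.hom_ext _ _ (fun i => ?_)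
  apply ModuleCat.hom_ext
  apply LinearMap.ext
  intro z
  change (Cochain.ofHom (0 : P' ⟶ P)).comp z (zero_add i) = 0
  rw [Cochain.ofHom_zero, Cochain.zero_comp]

lemma preMap_id (P L : DRing.Cx A) : preMap (𝟙 P) L = 𝟙 _ := by
  refine HomologicalComplex.hom_ext _ _ (fun i => ?_)
  apply ModuleCat.hom_ext
  apply LinearMap.ext
  intro z
  change (Cochain.ofHom (𝟙 P)).comp z (zero_add i) = z
  refine Cochain.ext _ _ (fun p q hpq => ?_)
  rw [Cochain.comp_v _ _ (zero_add i) p p q (add_zero p) hpq, Cochain.ofHom_v]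
  exact Category.id_comp _

/-- The short complex `Hom•(X₃, L) ⟶ Hom•(X₂, L) ⟶ Hom•(X₁, L)`. -/
noncomputable def homShortComplex (S : ShortComplex (DRing.Cx A)) (L : DRing.Cx A) :
    ShortComplex (DRing.Cx A) :=
  ShortComplex.mk (preMap S.g L) (preMap S.f L) (by rw [← preMap_comp, S.zero, preMap_zero])

lemma preMap_f_apply_v {P P' : DRing.Cx A} (f : P' ⟶ P) (L : DRing.Cx A) (i : ℤ)
    (z : Cochain P L i) (p q : ℤ) (hpq : p + i = q) :
    (((preMap f L).f i).hom z).v p q hpq = f.f p ≫ z.v p q hpq := by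
  rw [preMap_f_apply, Cochain.comp_v _ _ (zero_add i) p p q (add_zero p) hpq, Cochain.ofHom_v]

/-- `Hom•(-, L)` sends a degreewise split short exact sequence to a short exact sequence. -/
theorem shortExact_homShortComplex (S : ShortComplex (DRing.Cx A))
    (σ : ∀ n, (S.map (HomologicalComplex.eval _ _ n)).Splitting) (L : DRing.Cx A) :
    (homShortComplex S L).ShortExact := by
  apply HomologicalComplex.shortExact_of_degreewise_shortExact
  intro i
  let r : ∀ p, S.X₂.X p ⟶ S.X₁.X p := fun p => (σ p).r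
  let s : ∀ p, S.X₃.X p ⟶ S.X₂.X p := fun p => (σ p).s
  have hfr : ∀ p, S.f.f p ≫ r p = 𝟙 (S.X₁.X p) := fun p => (σ p).f_r
  have hsg : ∀ p, s p ≫ S.g.f p = 𝟙 (S.X₃.X p) := fun p => (σ p).s_g
  have hid : ∀ p, r p ≫ S.f.f p + S.g.f p ≫ s p = 𝟙 (S.X₂.X p) := fun p => (σ p).id
  have hmono : Mono ((preMap S.g L).f i) := by
    rw [ModuleCat.mono_iff_injective]
    intro (z : Cochain S.X₃ L i) (z' : Cochain S.X₃ L i) hzz'
    refine Cochain.ext _ _ (fun p q hpq => ?_)
    have h1 : (((preMap S.g L).f i).hom z).v p q hpq = (((preMap S.g L).f i).hom z').v p q hpq :=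
      congrArg (fun w : Cochain S.X₂ L i => w.v p q hpq) hzz'
    rw [preMap_f_apply_v, preMap_f_apply_v] at h1
    have h2 : s p ≫ S.g.f p ≫ z.v p q hpq = s p ≫ S.g.f p ≫ z'.v p q hpq := by rw [h1]
    rw [reassoc_of% (hsg p), reassoc_of% (hsg p)] at h2
    exact h2
  have hepi : Epi ((preMap S.f L).f i) := by
    rw [ModuleCat.epi_iff_surjective]
    intro (y : Cochain S.X₁ L i)
    refine ⟨Cochain.mk (fun p q hpq => r p ≫ y.v p q hpq), ?_⟩
    refine Cochain.ext _ _ (fun p q hpq => ?_)
    rw [preMap_f_apply_v, Cochain.mk_v, reassoc_of% (hfr p)]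
  have hexact : ((homShortComplex S L).map (HomologicalComplex.eval _ _ i)).Exact := by
    rw [ShortComplex.moduleCat_exact_iff]
    intro (y : Cochain S.X₂ L i) hy
    change ((preMap S.f L).f i).hom y = 0 at hy
    refine ⟨Cochain.mk (fun p q hpq => s p ≫ y.v p q hpq), ?_⟩
    change ((preMap S.g L).f i).hom _ = y
    refine Cochain.ext _ _ (fun p q hpq => ?_)
    rw [preMap_f_apply_v, Cochain.mk_v]
    have h1 : (((preMap S.f L).f i).hom y).v p q hpq = (0 : Cochain S.X₁ L i).v p q hpq :=
      congrArg (fun w : Cochain S.X₁ L i => w.v p q hpq) hy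
    rw [preMap_f_apply_v, Cochain.zero_v] at h1
    have h2 : (𝟙 _ : S.X₂.X p ⟶ _) ≫ y.v p q hpq = y.v p q hpq := Category.id_comp _
    rw [← hid p, Preadditive.add_comp, Category.assoc, h1, comp_zero, zero_add,
      Category.assoc] at h2
    exact h2
  exact { exact := hexact, mono_f := hmono, epi_g := hepi }

end Groth.Agent.Lib.Helper13.HT
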