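import Groth.Agent.Lib.Helper13.BiDual1
import Groth.Agent.Lib.Helper13.HomCx2
import Mathlib.Algebra.Homology.DerivedCategory.ShortExact

/-!
# Exactness of `Hom•(-, J)` for termwise injective `J`, naturality of the biduality map
-/

set_option autoImplicit false
set_option maxHeartbeats 400000
set_option linter.style.haveILetI false
universe u
open CategoryTheory CategoryTheory.Limits
open CochainComplex CochainComplex.HomComplex HomologicalComplex

namespace Groth.Agent.Lib.Helper13.BDX

open Groth.Agent.Lib.Helper13.HOp Groth.Agent.Lib.Helper13.HT Groth.Agent.Lib.Helper13.BD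

attribute [local instance] HasDerivedCategory.standard

variable {A : Type u} [CommRing A]

/-- `Hom•(-, L)` sends short exact sequences to short exact sequences when `L` is termwise
injective. -/
theorem shortExact_homShortComplex_of_injective (S : ShortComplex (DRing.Cx A)) (hS : S.ShortExact)
    (L : DRing.Cx A) (hL : ∀ q, Injective (L.X q)) :
    (homShortComplex S L).ShortExact := by
  apply HomologicalComplex.shortExact_of_degreewise_shortExact
  intro i
  have hSp : ∀ p, (S.map (HomologicalComplex.eval _ _ p)).ShortExact := fun p =>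
    hS.map_of_exact (HomologicalComplex.eval _ _ p)
  have hmonof : ∀ p, Mono (S.f.f p) := fun p => (hSp p).mono_f
  have hepig : ∀ p, Epi (S.g.f p) := fun p => (hSp p).epi_g
  have hmono : Mono ((preMap S.g L).f i) := by
    rw [ModuleCat.mono_iff_injective]
    intro (z : Cochain S.X₃ L i) (z' : Cochain S.X₃ L i) hzz'
    refine Cochain.ext _ _ (fun p q hpq => ?_)
    have h1 : (((preMap S.g L).f i).hom z).v p q hpq = (((preMap S.g L).f i).hom z').v p q hpq :=
      congrArg (fun w : Cochain S.X₂ L i => w.v p q hpq) hzz'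
    rw [preMap_f_apply_v, preMap_f_apply_v] at h1
    have := hepig p
    exact (cancel_epi (S.g.f p)).1 h1
  have hepi : Epi ((preMap S.f L).f i) := by
    rw [ModuleCat.epi_iff_surjective]
    intro (y : Cochain S.X₁ L i)
    have := hmonof
    have := hL
    refine ⟨Cochain.mk (fun p q hpq => Injective.factorThru (y.v p q hpq) (S.f.f p)), ?_⟩
    refine Cochain.ext _ _ (fun p q hpq => ?_)
    rw [preMap_f_apply_v, Cochain.mk_v, Injective.comp_factorThru]
  have hexact : ((homShortComplex S L).map (HomologicalComplex.eval _ _ i)).Exact := by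
    rw [ShortComplex.moduleCat_exact_iff]
    intro (y : Cochain S.X₂ L i) hy
    change ((preMap S.f L).f i).hom y = 0 at hy
    have hy' : ∀ p q (hpq : p + i = q), S.f.f p ≫ y.v p q hpq = 0 := by
      intro p q hpq
      have h1 : (((preMap S.f L).f i).hom y).v p q hpq = (0 : Cochain S.X₁ L i).v p q hpq :=
        congrArg (fun w : Cochain S.X₁ L i => w.v p q hpq) hy
      rw [preMap_f_apply_v, Cochain.zero_v] at h1
      exact h1
    have := hL
    refine ⟨Cochain.mk (fun p q hpq =>
      (show (S.map (HomologicalComplex.eval _ _ p)).X₃ ⟶ L.X q from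
        (hSp p).exact.descToInjective (y.v p q hpq) (hy' p q hpq))), ?_⟩
    change ((preMap S.g L).f i).hom _ = y
    refine Cochain.ext _ _ (fun p q hpq => ?_)
    rw [preMap_f_apply_v, Cochain.mk_v]
    exact (hSp p).exact.comp_descToInjective (y.v p q hpq) (hy' p q hpq)
  exact { exact := hexact, mono_f := hmono, epi_g := hepi }

/-- Naturality of the biduality map. -/
lemma bid_naturality {X Y : DRing.Cx A} (f : X ⟶ Y) (J : DRing.Cx A) :
    f ≫ bid Y J = bid X J ≫ preMap (preMap f J) J := by
  refine HomologicalComplex.hom_ext _ _ (fun n => ?_)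
  apply ModuleCat.hom_ext
  apply LinearMap.ext
  intro x
  change ((bid Y J).f n).hom ((f.f n).hom x) =
    ((preMap (preMap f J) J).f n).hom (((bid X J).f n).hom x)
  rw [bid_f_apply, bid_f_apply]
  refine Cochain.ext _ _ (fun p q hpq => ?_)
  rw [preMap_f_apply_v]
  apply ModuleCat.hom_ext
  apply LinearMap.ext
  intro (φ : Cochain Y J p)
  change ((evCochain Y J n ((f.f n).hom x)).v p q hpq).hom φ =
    ((evCochain X J n x).v p q hpq).hom (((preMap f J).f p).hom φ)
  rw [evCochain_v_apply, evCochain_v_apply, preMap_f_apply_v]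
  rfl

/-- Two-out-of-three for quasi-isomorphisms in a morphism of short exact sequences of
complexes (middle term). -/
lemma quasiIso_τ₂ {S₁ S₂ : ShortComplex (DRing.Cx A)} (φ : S₁ ⟶ S₂) (h₁ : S₁.ShortExact)
    (h₂ : S₂.ShortExact) (q₁ : QuasiIso φ.τ₁) (q₃ : QuasiIso φ.τ₃) : QuasiIso φ.τ₂ := by
  have i₁ : IsIso (DerivedCategory.Q.map φ.τ₁) := by
    rw [DerivedCategory.isIso_Q_map_iff_quasiIso]; exact q₁
  have i₃ : IsIso (DerivedCategory.Q.map φ.τ₃) := by
    rw [DerivedCategory.isIso_Q_map_iff_quasiIso]; exact q₃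
  have := Pretriangulated.isIso₂_of_isIso₁₃ (DerivedCategory.triangleOfSES.map h₁ h₂ φ)
    (DerivedCategory.triangleOfSES_distinguished h₁) (DerivedCategory.triangleOfSES_distinguished h₂)
    i₁ i₃
  rw [← DerivedCategory.isIso_Q_map_iff_quasiIso]
  exact this

/-- The class of complexes for which the biduality map is a quasi-isomorphism. -/
def BidQis (J X : DRing.Cx A) : Prop := QuasiIso (bid X J)

variable (J : DRing.Cx A)

/-- The morphism of short complexes `S ⟶ DD(S)`. -/
noncomputable def bidSC (S : ShortComplex (DRing.Cx A)) :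
    S ⟶ homShortComplex (homShortComplex S J) J where
  τ₁ := bid S.X₁ J
  τ₂ := bid S.X₂ J
  τ₃ := bid S.X₃ J
  comm₁₂ := (bid_naturality S.f J).symm
  comm₂₃ := (bid_naturality S.g J).symm

lemma BidQis.of_ses (hJ : ∀ q, Injective (J.X q)) (S : ShortComplex (DRing.Cx A))
    (hS : S.ShortExact) (h₁ : BidQis J S.X₁) (h₃ : BidQis J S.X₃) : BidQis J S.X₂ :=
  quasiIso_τ₂ (bidSC J S) hS
    (shortExact_homShortComplex_of_injective _
      (shortExact_homShortComplex_of_injective S hS J hJ) J hJ) h₁ h₃

lemma BidQis.of_iso {X Y : DRing.Cx A} (e : X ≅ Y) (h : BidQis J X) : BidQis J Y := by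
  have hn := bid_naturality e.hom J
  have : QuasiIso (bid X J) := h
  have h2 : IsIso (preMap (preMap e.hom J) J) :=
    ⟨preMap (preMap e.inv J) J, by
      rw [← preMap_comp, ← preMap_comp, e.hom_inv_id, preMap_id, preMap_id], by
      rw [← preMap_comp, ← preMap_comp, e.inv_hom_id, preMap_id, preMap_id]⟩
  have h1 : QuasiIso (e.hom ≫ bid Y J) := by rw [hn]; infer_instance
  exact quasiIso_of_comp_left e.hom (bid Y J)

end Groth.Agent.Lib.Helper13.BDX
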