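import Groth.Agent.Lib.Helper13.BDX1

/-!
# Way-out lemmas for `Hom•(-, J)` with `J` bounded
-/

set_option autoImplicit false
set_option maxHeartbeats 400000
set_option linter.style.haveILetI false
universe u
open CategoryTheory CategoryTheory.Limits
open CochainComplex CochainComplex.HomComplex HomologicalComplex

namespace Groth.Agent.Lib.Helper13.BDX

open Groth.Agent.Lib.Helper13.HOp Groth.Agent.Lib.Helper13.HT Groth.Agent.Lib.Helper13.BD

attribute [local instance] HasDerivedCategory.standard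

variable {A : Type u} [CommRing A]

/-- `Hom•(f, J)` is an isomorphism in degree `n` if `f` is an isomorphism in the relevant
degrees. -/
lemma isIso_preMap_f {X Y : DRing.Cx A} (f : X ⟶ Y) (J : DRing.Cx A) (a b : ℤ)
    (hv : DRing.VanishesOutside J a b) (n : ℤ)
    (hf : ∀ p : ℤ, a ≤ p + n → p + n ≤ b → IsIso (f.f p)) : IsIso ((preMap f J).f n) := by
  classical
  rw [ConcreteCategory.isIso_iff_bijective]
  constructor
  · intro (z : Cochain Y J n) (z' : Cochain Y J n) hzz'
    refine Cochain.ext _ _ (fun p q hpq => ?_)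
    by_cases h : a ≤ q ∧ q ≤ b
    · have h1 : (((preMap f J).f n).hom z).v p q hpq = (((preMap f J).f n).hom z').v p q hpq :=
        congrArg (fun w : Cochain X J n => w.v p q hpq) hzz'
      rw [preMap_f_apply_v, preMap_f_apply_v] at h1
      have := hf p (by lia) (by lia)
      exact (cancel_epi (f.f p)).1 h1
    · exact (hv q (by lia)).eq_of_tgt _ _
  · intro (y : Cochain X J n)
    refine ⟨Cochain.mk (fun p q hpq => if h : a ≤ q ∧ q ≤ b then
      (haveI := hf p (by lia) (by lia); inv (f.f p) ≫ y.v p q hpq) else 0), ?_⟩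
    refine Cochain.ext _ _ (fun p q hpq => ?_)
    rw [preMap_f_apply_v, Cochain.mk_v]
    by_cases h : a ≤ q ∧ q ≤ b
    · rw [dif_pos h]
      have := hf p (by lia) (by lia)
      rw [IsIso.hom_inv_id_assoc]
    · exact (hv q (by lia)).eq_of_tgt _ _

/-- A morphism of complexes which is an isomorphism in degrees `n - 1`, `n`, `n + 1` is a
quasi-isomorphism in degree `n`. -/
lemma quasiIsoAt_of_isIso_f {U V : DRing.Cx A} (g : U ⟶ V) (n : ℤ)
    (h : ∀ i : ℤ, n - 1 ≤ i → i ≤ n + 1 → IsIso (g.f i)) : QuasiIsoAt g n := by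
  rw [quasiIsoAt_iff' g (n - 1) n (n + 1) (by simp) (by simp)]
  have h1 : IsIso (g.f (n - 1)) := h _ (by lia) (by lia)
  have h2 : IsIso (g.f n) := h _ (by lia) (by lia)
  have h3 : IsIso (g.f (n + 1)) := h _ (by lia) (by lia)
  have e1 : Epi ((shortComplexFunctor' (ModuleCat.{u} A) (ComplexShape.up ℤ) (n - 1) n
      (n + 1)).map g).τ₁ := by change Epi (g.f (n - 1)); infer_instance
  have e2 : IsIso ((shortComplexFunctor' (ModuleCat.{u} A) (ComplexShape.up ℤ) (n - 1) n
      (n + 1)).map g).τ₂ := by change IsIso (g.f n); infer_instance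
  have e3 : Mono ((shortComplexFunctor' (ModuleCat.{u} A) (ComplexShape.up ℤ) (n - 1) n
      (n + 1)).map g).τ₃ := by change Mono (g.f (n + 1)); infer_instance
  exact ShortComplex.quasiIso_of_epi_of_isIso_of_mono _

section

variable {X Y : DRing.Cx A} (f : X ⟶ Y) (J : DRing.Cx A) (a b : ℤ)
  (hv : DRing.VanishesOutside J a b)

include hv

lemma quasiIsoAt_preMap (n : ℤ)
    (hf : ∀ p : ℤ, a - n - 1 ≤ p → p ≤ b - n + 1 → IsIso (f.f p)) :
    QuasiIsoAt (preMap f J) n :=
  quasiIsoAt_of_isIso_f _ n (fun i hi hi' =>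
    isIso_preMap_f f J a b hv i (fun p hp hp' => hf p (by lia) (by lia)))

lemma isIso_preMap_preMap_f (n : ℤ)
    (hf : ∀ p : ℤ, n - (b - a) ≤ p → p ≤ n + (b - a) → IsIso (f.f p)) :
    IsIso ((preMap (preMap f J) J).f n) :=
  isIso_preMap_f (preMap f J) J a b hv n (fun p' hp' hp'' =>
    isIso_preMap_f f J a b hv p' (fun p hp hp2 => hf p (by lia) (by lia)))

lemma quasiIsoAt_preMap_preMap (n : ℤ)
    (hf : ∀ p : ℤ, n - (b - a) - 1 ≤ p → p ≤ n + (b - a) + 1 → IsIso (f.f p)) :
    QuasiIsoAt (preMap (preMap f J) J) n :=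
  quasiIsoAt_of_isIso_f _ n (fun i hi hi' =>
    isIso_preMap_preMap_f f J a b hv i (fun p hp hp' => hf p (by lia) (by lia)))

/-- Way-out transfer for the biduality map. -/
lemma quasiIsoAt_bid_of_map (hab : a ≤ b) (n : ℤ)
    (hf : ∀ p : ℤ, n - (b - a) - 1 ≤ p → p ≤ n + (b - a) + 1 → IsIso (f.f p))
    (h : QuasiIsoAt (bid X J) n) : QuasiIsoAt (bid Y J) n := by
  have h1 : QuasiIsoAt f n :=
    quasiIsoAt_of_isIso_f f n (fun i hi hi' => hf i (by lia) (by lia))
  have h2 := quasiIsoAt_preMap_preMap f J a b hv n hf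
  have h3 : QuasiIsoAt (f ≫ bid Y J) n := by
    rw [bid_naturality]
    infer_instance
  exact quasiIsoAt_of_comp_left f (bid Y J) n

end

end Groth.Agent.Lib.Helper13.BDX
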