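import Groth.Agent.Lib.Helper13.PCProj
import Mathlib.Algebra.Homology.DerivedCategory.KInjective
import Mathlib.Algebra.Homology.Factorizations.CM5a

/-!
# Injective resolutions and K-injective complexes in `D(C)` (abstract part)
-/

set_option autoImplicit false
universe w v u
open CategoryTheory CategoryTheory.Limits
open PCoh

namespace Groth.Agent.Lib.Helper13.PC

open DerivedCategory HomologicalComplex

variable {C : Type u} [Category.{v} C] [Abelian C]

lemma isKInjective_of_forall_injective (E : CochainComplex C ℤ) (a : ℤ)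
    (ha : ∀ i : ℤ, i < a → IsZero (E.X i)) (hI : ∀ i : ℤ, Injective (E.X i)) :
    E.IsKInjective := by
  have : E.IsStrictlyGE a := by
    rw [CochainComplex.isStrictlyGE_iff]
    exact ha
  exact CochainComplex.isKInjective_of_injective E a

variable [HasDerivedCategory.{w} C]

lemma exists_Q_map_eq_of_isKInjective {K L : CochainComplex C ℤ} [L.IsKInjective]
    (φ : Q.obj K ⟶ Q.obj L) : ∃ f : K ⟶ L, Q.map f = φ := by
  obtain ⟨g, hg⟩ := (CochainComplex.IsKInjective.Qh_map_bijective
    ((HomotopyCategory.quotient _ _).obj K) L).surjective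
    ((quotientCompQhIso C).hom.app K ≫ φ ≫ (quotientCompQhIso C).inv.app L)
  obtain ⟨f, rfl⟩ := (HomotopyCategory.quotient _ _).map_surjective g
  refine ⟨f, ?_⟩
  have := quotientCompQhIso_hom_naturality f
  rw [hg] at this
  simpa using this.symm

lemma exists_homotopy_of_Q_map_eq_of_isKInjective {K L : CochainComplex C ℤ} [L.IsKInjective]
    (f g : K ⟶ L) (h : Q.map f = Q.map g) : Nonempty (Homotopy f g) := by
  have h' : Qh.map ((HomotopyCategory.quotient _ _).map f) =
      Qh.map ((HomotopyCategory.quotient _ _).map g) := by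
    have h1 := quotientCompQhIso_hom_naturality f
    have h2 := quotientCompQhIso_hom_naturality g
    rw [h, ← h2] at h1
    exact (cancel_mono _).1 h1
  have := (CochainComplex.IsKInjective.Qh_map_bijective
    ((HomotopyCategory.quotient _ _).obj K) L).injective h'
  exact ⟨HomotopyCategory.homotopyOfEq _ _ this⟩

/-- Maps in `D(C)` from an object in degree `j` to a K-injective complex vanishing in degree `j`
vanish. -/
lemma subsingleton_hom_single_of_isZero' (E : CochainComplex C ℤ) [E.IsKInjective] (j : ℤ)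
    (hj : IsZero (E.X j)) (N : C) :
    Subsingleton ((DerivedCategory.singleFunctor C j).obj N ⟶ Q.obj E) := by
  have key : ∀ φ : (DerivedCategory.singleFunctor C j).obj N ⟶ Q.obj E, φ = 0 := fun φ => by
    obtain ⟨f, hf⟩ := exists_Q_map_eq_of_isKInjective ((singleIsoQ j N).inv ≫ φ)
    have hf0 : f = 0 := by
      apply HomologicalComplex.from_single_hom_ext
      exact hj.eq_of_tgt _ _
    rw [hf0, Functor.map_zero] at hf
    rw [← cancel_epi (singleIsoQ j N).inv, ← hf, comp_zero]
  exact ⟨fun φ ψ => by rw [key φ, key ψ]⟩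

/-- Bounded below injective resolutions in the derived category. -/
theorem exists_injective_rep [EnoughInjectives C] (K : DerivedCategory C) (a : ℤ)
    (ha : ∀ i : ℤ, i < a → IsZero ((DerivedCategory.homologyFunctor C i).obj K)) :
    ∃ E : CochainComplex C ℤ, (∀ i : ℤ, Injective (E.X i)) ∧ (∀ i : ℤ, i < a → IsZero (E.X i)) ∧
      Nonempty (Q.obj E ≅ K) := by
  have : K.IsGE a := by
    rw [DerivedCategory.isGE_iff]
    exact ha
  obtain ⟨X, hX, ⟨e⟩⟩ := K.exists_iso_Q_obj_of_isGE a
  obtain ⟨L, i, hi, hL, hLa⟩ := CochainComplex.Plus.modelCategoryQuillen.exists_quasiIso_injective X a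
  have : IsIso (Q.map i) := by rw [isIso_Q_map_iff_quasiIso]; exact hi
  exact ⟨L, hL, fun j hj => L.isZero_of_isStrictlyGE a j hj, ⟨(asIso (Q.map i)).symm ≪≫ e.symm⟩⟩

section Ext

lemma subsingleton_hom_shift_iff {D : Type*} [Category D] [Preadditive D] [HasShift D ℤ]
    (X Y : D) (i : ℤ) : Subsingleton (X ⟶ Y⟦i⟧) ↔ Subsingleton (X⟦-i⟧ ⟶ Y) := by
  constructor
  · intro h
    refine ⟨fun φ ψ => ?_⟩
    apply (CategoryTheory.shiftFunctor D i).map_injective
    rw [← cancel_epi ((shiftFunctorCompIsoId D (-i) i (by simp)).inv.app X)]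
    exact h.elim _ _
  · intro h
    refine ⟨fun φ ψ => ?_⟩
    apply (CategoryTheory.shiftFunctor D (-i)).map_injective
    rw [← cancel_mono ((shiftFunctorCompIsoId D i (-i) (by simp)).hom.app Y)]
    exact h.elim _ _


/-- `Hom(N[0], K⟦i⟧) = 0` iff `Hom(N[-i], K) = 0`. -/
lemma subsingleton_ext_iff (N : C) (K : DerivedCategory C) (i : ℤ) :
    Subsingleton ((DerivedCategory.singleFunctor C 0).obj N ⟶ K⟦i⟧) ↔
      Subsingleton ((DerivedCategory.singleFunctor C i).obj N ⟶ K) := by
  rw [subsingleton_hom_shift_iff]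
  have e : ((DerivedCategory.singleFunctor C 0).obj N)⟦-i⟧ ≅ (DerivedCategory.singleFunctor C i).obj N :=
    ((DerivedCategory.singleFunctors C).shiftIso (-i) i 0 (by simp)).app N
  constructor
  · intro h
    exact ⟨fun φ ψ => by rw [← cancel_epi e.hom]; exact h.elim _ _⟩
  · intro h
    exact ⟨fun φ ψ => by rw [← cancel_epi e.inv]; exact h.elim _ _⟩

/-- The chain map `P[-i] ⟶ X` attached to `f : P ⟶ Z^i(X)` induces `f ≫ π` on `H^i`. -/
lemma comp_homologyπ_eq_zero_of_Q_map_eq_zero (X : CochainComplex C ℤ) (i : ℤ) {P : C}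
    (f : P ⟶ X.cycles i)
    (h : Q.map (mkHomFromSingle (f ≫ X.iCycles i) (fun k _ => by simp) :
      (HomologicalComplex.single C (ComplexShape.up ℤ) i).obj P ⟶ X) = 0) :
    f ≫ X.homologyπ i = 0 := by
  let S := (HomologicalComplex.single C (ComplexShape.up ℤ) i).obj P
  let φ : S ⟶ X := mkHomFromSingle (f ≫ X.iCycles i) (fun k _ => by simp)
  have h0 : homologyMap φ i = 0 := by
    have := (DerivedCategory.homologyFunctorFactors C i).hom.naturality φ
    dsimp at this
    rw [h, Functor.map_zero, zero_comp] at this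
    have h3 : (DerivedCategory.homologyFunctorFactors C i).hom.app S ≫ homologyMap φ i = 0 :=
      this.symm
    exact (cancel_epi ((DerivedCategory.homologyFunctorFactors C i).hom.app S)).1
      (h3.trans comp_zero.symm)
  have h1 : cyclesMap φ i = S.iCycles i ≫ (singleObjXSelf (ComplexShape.up ℤ) i P).hom ≫ f := by
    rw [← cancel_mono (X.iCycles i), cyclesMap_i, Category.assoc, Category.assoc]
    dsimp only [φ]
    rw [mkHomFromSingle_f]
  have h2 := homologyπ_naturality φ i
  rw [h0, comp_zero, h1, Category.assoc, Category.assoc] at h2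
  have : IsIso (S.iCycles i) := by
    apply S.isIso_iCycles i (i + 1) (by simp)
    simp [S]
  rw [← cancel_epi (singleObjXSelf (ComplexShape.up ℤ) i P).hom, ← cancel_epi (S.iCycles i), ← h2]
  simp

end Ext

end Groth.Agent.Lib.Helper13.PC
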