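import Groth.Agent.Lib.Helper13.BDX2
import Groth.Agent.Lib.Helper13.PCInj
import Mathlib.Algebra.Homology.ShortComplex.ModuleCat
import Mathlib.Algebra.Homology.DerivedCategory.Linear
import Mathlib.Algebra.Homology.HomotopyCategory.HomComplexCohomology

/-!
# `H^n(Hom•(X, J)) ≃ Hom_{D(A)}(Q X, (Q J)⟦n⟧)` for `J` K-injective
-/

set_option autoImplicit false
set_option maxHeartbeats 400000
set_option linter.style.haveILetI false
universe u
open CategoryTheory CategoryTheory.Limits
open CochainComplex CochainComplex.HomComplex HomologicalComplex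

namespace Groth.Agent.Lib.Helper13.BDX

open Groth.Agent.Lib.Helper13.HOp Groth.Agent.Lib.Helper13.HT Groth.Agent.Lib.Helper13.BD
  Groth.Agent.Lib.Helper13.PC
open DerivedCategory

attribute [local instance] HasDerivedCategory.standard

variable {A : Type u} [CommRing A] (X J : DRing.Cx A) (n : ℤ)

/-- Degree `n` cocycles of `Hom•(X, J)`. -/
noncomputable abbrev Zc : Submodule A (Cochain X J n) :=
  LinearMap.ker (δ_hom A X J n (n + 1))

/-- The Mathlib cocycle attached to an element of `Zc`. -/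
noncomputable def toCocycle (z : Zc X J n) : Cocycle X J n :=
  Cocycle.mk z.1 (n + 1) rfl (by
    have := z.2
    rwa [LinearMap.mem_ker, δ_hom_apply] at this)

lemma toCocycle_coe (z : Zc X J n) : (toCocycle X J n z).1 = z.1 := rfl

lemma toCocycle_add (z z' : Zc X J n) :
    toCocycle X J n (z + z') = toCocycle X J n z + toCocycle X J n z' := by
  apply Cocycle.ext
  rfl

lemma toCocycle_smul (a : A) (z : Zc X J n) :
    toCocycle X J n (a • z) = a • toCocycle X J n z := by
  apply Cocycle.ext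
  rfl

/-- The complex map `X ⟶ J⟦n⟧` attached to a cocycle. -/
noncomputable def toMap (z : Zc X J n) : X ⟶ J⟦n⟧ :=
  Cocycle.equivHomShift.symm (toCocycle X J n z)

lemma toMap_f (z : Zc X J n) (p q : ℤ) (hpq : p + n = q) :
    (toMap X J n z).f p = z.1.v p q hpq ≫ (J.shiftFunctorObjXIso n p q (by omega)).inv := by
  unfold toMap
  rw [Cocycle.equivHomShift_symm_apply]
  change ((toCocycle X J n z).rightShift n 0 (zero_add n)).1.v p p (add_zero p) = _
  rw [Cocycle.rightShift_coe, Cochain.rightShift_v _ n 0 (zero_add n) p p (add_zero p) q hpq]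
  rfl

lemma toMap_add (z z' : Zc X J n) : toMap X J n (z + z') = toMap X J n z + toMap X J n z' := by
  unfold toMap
  rw [toCocycle_add, map_add]

lemma toMap_smul (a : A) (z : Zc X J n) : toMap X J n (a • z) = a • toMap X J n z := by
  refine HomologicalComplex.hom_ext _ _ (fun p => ?_)
  rw [toMap_f X J n _ p (p + n) rfl]
  change _ = a • (toMap X J n z).f p
  rw [toMap_f X J n _ p (p + n) rfl]
  change (a • z.1).v p (p + n) rfl ≫ _ = _
  rw [Cochain.smul_v, Linear.smul_comp]

/-- The class map. -/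
noncomputable def Ψ : Zc X J n →ₗ[A] ((Q.obj X : Dual.D A) ⟶ (Q.obj J)⟦n⟧) where
  toFun z := Q.map (toMap X J n z) ≫ (Q.commShiftIso n).hom.app J
  map_add' z z' := by
    rw [toMap_add, Functor.map_add, Preadditive.add_comp]
  map_smul' a z := by
    rw [toMap_smul, Functor.map_smul, Linear.smul_comp]
    rfl

lemma Ψ_apply (z : Zc X J n) :
    Ψ X J n z = Q.map (toMap X J n z) ≫ (Q.commShiftIso n).hom.app J := rfl

/-- Every complex map `X ⟶ J⟦n⟧` comes from a cocycle. -/
lemma exists_toMap_eq (g : X ⟶ J⟦n⟧) : ∃ z : Zc X J n, toMap X J n z = g := by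
  let c := Cocycle.equivHomShift g
  have hc : c.1 ∈ Zc X J n := by
    rw [LinearMap.mem_ker, δ_hom_apply]
    exact c.δ_eq_zero (n + 1)
  refine ⟨⟨c.1, hc⟩, ?_⟩
  unfold toMap
  have : toCocycle X J n ⟨c.1, hc⟩ = c := Cocycle.ext rfl
  rw [this]
  exact Cocycle.equivHomShift.symm_apply_apply g

lemma Ψ_surjective [J.IsKInjective] : Function.Surjective (Ψ X J n) := by
  intro g
  obtain ⟨f, hf⟩ := exists_Q_map_eq_of_isKInjective (K := X) (L := J⟦n⟧)
    (g ≫ (Q.commShiftIso n).inv.app J)
  obtain ⟨z, hz⟩ := exists_toMap_eq X J n f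
  refine ⟨z, ?_⟩
  rw [Ψ_apply, hz, hf, Category.assoc, Iso.inv_hom_id_app]
  exact Category.comp_id g

/-- The differential, corestricted to cocycles. -/
noncomputable def toCyc : Cochain X J (n - 1) →ₗ[A] Zc X J n :=
  LinearMap.codRestrict (Zc X J n) (δ_hom A X J (n - 1) n) (fun c => by
    rw [LinearMap.mem_ker, δ_hom_apply, δ_hom_apply, δ_δ])

lemma ker_Ψ [J.IsKInjective] : LinearMap.ker (Ψ X J n) = LinearMap.range (toCyc X J n) := by
  ext z
  rw [LinearMap.mem_ker, LinearMap.mem_range, Ψ_apply]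
  have h0 : Q.map (toMap X J n z) ≫ (Q.commShiftIso n).hom.app J = 0 ↔
      Q.map (toMap X J n z) = 0 := by
    constructor
    · intro h
      have := congrArg (· ≫ (Q.commShiftIso n).inv.app J) h
      simpa using this
    · intro h
      rw [h, zero_comp]
  rw [h0]
  have h1 : Q.map (toMap X J n z) = 0 ↔
      (HomotopyCategory.quotient _ _).map (toMap X J n z) = 0 := by
    constructor
    · intro h
      have h' : Q.map (toMap X J n z) = Q.map (0 : X ⟶ J⟦n⟧) := by rw [h, Functor.map_zero]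
      obtain ⟨ho⟩ := exists_homotopy_of_Q_map_eq_of_isKInjective _ _ h'
      rw [HomotopyCategory.quotient_map_eq_zero_iff]
      exact ⟨ho⟩
    · intro h
      rw [HomotopyCategory.quotient_map_eq_zero_iff] at h
      obtain ⟨ho⟩ := h
      have := DerivedCategory.Q_map_eq_of_homotopy _ ho
      rw [this, Functor.map_zero]
  rw [h1]
  have h2 := CohomologyClass.toHom_mk_eq_zero_iff (toCocycle X J n z)
  rw [CohomologyClass.toHom_mk] at h2
  change (HomotopyCategory.quotient _ _).map (toMap X J n z) = 0 ↔ _ at h2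
  rw [h2, mem_coboundaries_iff _ (n - 1) (by omega)]
  constructor
  · rintro ⟨β, hβ⟩
    refine ⟨β, Subtype.ext ?_⟩
    change δ (n - 1) n β = z.1
    rw [hβ]
    rfl
  · rintro ⟨β, hβ⟩
    refine ⟨β, ?_⟩
    have := congrArg Subtype.val hβ
    exact this

/-- `H^n` of the Hom complex is cocycles modulo coboundaries. -/
noncomputable def homologyEquiv :
    (DRing.homCx X J).homology n ≃ₗ[A] (Zc X J n ⧸ LinearMap.range (toCyc X J n)) :=
  ((DRing.homCx X J).homologyIsoSc' (n - 1) n (n + 1) (by simp) (by simp) ≪≫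
    ((DRing.homCx X J).sc' (n - 1) n (n + 1)).moduleCatHomologyIso).toLinearEquiv

/-- **Bridge**: for `J` K-injective, `H^n(Hom•(X, J)) ≃ Hom_{D(A)}(Q X, (Q J)⟦n⟧)`, linearly. -/
noncomputable def homEquiv [J.IsKInjective] :
    (DRing.homCx X J).homology n ≃ₗ[A] ((Q.obj X : Dual.D A) ⟶ (Q.obj J)⟦n⟧) :=
  homologyEquiv X J n ≪≫ₗ
    Submodule.quotEquivOfEq _ _ (ker_Ψ X J n).symm ≪≫ₗ
    (Ψ X J n).quotKerEquivOfSurjective (Ψ_surjective X J n)

end Groth.Agent.Lib.Helper13.BDX
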