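import Groth.Agent.Lib.Helper13.BDX3

/-!
# A concrete quasi-isomorphism criterion for short complexes of modules
-/

set_option autoImplicit false
set_option maxHeartbeats 400000
set_option linter.style.haveILetI false
universe u
open CategoryTheory CategoryTheory.Limits

namespace Groth.Agent.Lib.Helper13.BDX

variable {A : Type u} [CommRing A]

/-- Concrete criterion for a morphism of short complexes of modules to be a quasi-isomorphism. -/
lemma quasiIso_of_moduleCat {S₁ S₂ : ShortComplex (ModuleCat.{u} A)} (φ : S₁ ⟶ S₂)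
    (hsurj : ∀ z₂ : S₂.X₂, S₂.g.hom z₂ = 0 →
      ∃ z₁ : S₁.X₂, S₁.g.hom z₁ = 0 ∧ ∃ w : S₂.X₁, S₂.f.hom w = φ.τ₂.hom z₁ - z₂)
    (hinj : ∀ z₁ : S₁.X₂, S₁.g.hom z₁ = 0 → (∃ w : S₂.X₁, S₂.f.hom w = φ.τ₂.hom z₁) →
      ∃ w' : S₁.X₁, S₁.f.hom w' = z₁) :
    ShortComplex.QuasiIso φ := by
  let h₁ := S₁.moduleCatLeftHomologyData
  let h₂ := S₂.moduleCatLeftHomologyData
  let γ : ShortComplex.LeftHomologyMapData φ h₁ h₂ := default
  rw [γ.quasiIso_iff, ConcreteCategory.isIso_iff_bijective]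
  let φK : LinearMap.ker S₁.g.hom →ₗ[A] LinearMap.ker S₂.g.hom := γ.φK.hom
  let φH : (LinearMap.ker S₁.g.hom ⧸ LinearMap.range S₁.moduleCatToCycles) →ₗ[A]
      (LinearMap.ker S₂.g.hom ⧸ LinearMap.range S₂.moduleCatToCycles) := γ.φH.hom
  have hK : ∀ z : LinearMap.ker S₁.g.hom, ((φK z : LinearMap.ker S₂.g.hom) : S₂.X₂) =
      φ.τ₂.hom z.1 := by
    intro z
    have := congrArg (fun m => m.hom z) γ.commi
    exact this
  have hH : ∀ z : LinearMap.ker S₁.g.hom,
      φH ((LinearMap.range S₁.moduleCatToCycles).mkQ z) =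
        (LinearMap.range S₂.moduleCatToCycles).mkQ (φK z) := by
    intro z
    have := congrArg (fun m => m.hom z) γ.commπ
    exact this
  change Function.Bijective φH
  constructor
  · intro x x' hxx'
    obtain ⟨z, rfl⟩ := (LinearMap.range S₁.moduleCatToCycles).mkQ_surjective x
    obtain ⟨z', rfl⟩ := (LinearMap.range S₁.moduleCatToCycles).mkQ_surjective x'
    have h0 : φH ((LinearMap.range S₁.moduleCatToCycles).mkQ (z - z')) = 0 := by
      rw [map_sub, map_sub]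
      exact sub_eq_zero.2 hxx'
    rw [hH, Submodule.mkQ_apply, Submodule.Quotient.mk_eq_zero, LinearMap.mem_range] at h0
    obtain ⟨w, hw⟩ := h0
    have hw' : S₂.f.hom w = φ.τ₂.hom (z - z').1 := by
      rw [← hK]
      exact congrArg Subtype.val hw
    obtain ⟨w', hw'⟩ := hinj (z - z').1 (z - z').2 ⟨w, hw'⟩
    rw [← sub_eq_zero, ← map_sub, Submodule.mkQ_apply, Submodule.Quotient.mk_eq_zero,
      LinearMap.mem_range]
    exact ⟨w', Subtype.ext hw'⟩
  · intro y
    obtain ⟨z₂, rfl⟩ := (LinearMap.range S₂.moduleCatToCycles).mkQ_surjective y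
    obtain ⟨z₁, hz₁, w, hw⟩ := hsurj z₂.1 z₂.2
    refine ⟨(LinearMap.range S₁.moduleCatToCycles).mkQ ⟨z₁, LinearMap.mem_ker.2 hz₁⟩, ?_⟩
    rw [hH, ← sub_eq_zero, ← map_sub, Submodule.mkQ_apply, Submodule.Quotient.mk_eq_zero,
      LinearMap.mem_range]
    refine ⟨w, Subtype.ext ?_⟩
    change S₂.f.hom w = ((φK ⟨z₁, LinearMap.mem_ker.2 hz₁⟩ : LinearMap.ker S₂.g.hom) : S₂.X₂) - z₂.1
    rw [hK]
    exact hw

end Groth.Agent.Lib.Helper13.BDX
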