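import Groth.Agent.Lib.Helper13.BDX4
import Mathlib.Algebra.Homology.SingleHomology

/-!
# The biduality map of `A[-k]` is a quasi-isomorphism
-/

set_option autoImplicit false
set_option maxHeartbeats 800000
set_option linter.style.haveILetI false
universe u
open CategoryTheory CategoryTheory.Limits
open CochainComplex CochainComplex.HomComplex HomologicalComplex

namespace Groth.Agent.Lib.Helper13.BDX

open Groth.Agent.Lib.Helper13.HOp Groth.Agent.Lib.Helper13.HT Groth.Agent.Lib.Helper13.BD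
  Groth.Agent.Lib.Helper13.PC
open DerivedCategory

attribute [local instance] HasDerivedCategory.standard

variable {A : Type u} [CommRing A]

section General

variable {D : Type*} [Category D] [Preadditive D] [Linear A D]

lemma bijective_smul_of_iso {X Y : D} (e : X ≅ Y)
    (h : Function.Bijective (fun a : A => a • 𝟙 Y)) :
    Function.Bijective (fun a : A => a • e.hom) := by
  have hb : Function.Bijective (fun g : Y ⟶ Y => e.hom ≫ g) :=
    ⟨fun g g' hgg' => (cancel_epi e.hom).1 hgg', fun g => ⟨e.inv ≫ g, by simp⟩⟩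
  have : (fun a : A => a • e.hom) = (fun g : Y ⟶ Y => e.hom ≫ g) ∘ (fun a : A => a • 𝟙 Y) := by
    funext a
    simp
  rw [this]
  exact hb.comp h

end General

lemma bijective_smul_id_shift (Y : Dual.D A) (k : ℤ)
    (h : Function.Bijective (fun a : A => a • 𝟙 Y)) :
    Function.Bijective (fun a : A => a • 𝟙 (Y⟦k⟧)) := by
  have hb : Function.Bijective ((CategoryTheory.shiftFunctor (Dual.D A) k).map :
      (Y ⟶ Y) → (Y⟦k⟧ ⟶ Y⟦k⟧)) :=
    ⟨(CategoryTheory.shiftFunctor (Dual.D A) k).map_injective,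
      (CategoryTheory.shiftFunctor (Dual.D A) k).map_surjective⟩
  have : (fun a : A => a • 𝟙 (Y⟦k⟧)) =
      ((CategoryTheory.shiftFunctor (Dual.D A) k).map : (Y ⟶ Y) → (Y⟦k⟧ ⟶ Y⟦k⟧)) ∘
        (fun a : A => a • 𝟙 Y) := by
    funext a
    simp [Functor.map_smul]
  rw [this]
  exact hb.comp h

lemma subsingleton_hom_shift_shift (Y : Dual.D A) (k i : ℤ)
    (h : Subsingleton (Y ⟶ Y⟦i - k⟧)) : Subsingleton (Y⟦k⟧ ⟶ Y⟦i⟧) := by
  suffices ∀ f : Y⟦k⟧ ⟶ Y⟦i⟧, f = 0 from ⟨fun a b => by rw [this a, this b]⟩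
  intro f
  let e := (CategoryTheory.shiftFunctorAdd' (Dual.D A) (i - k) k i (by omega)).app Y
  obtain ⟨g, hg⟩ := (CategoryTheory.shiftFunctor (Dual.D A) k).map_surjective (f ≫ e.hom)
  have hg0 : g = 0 := h.elim _ _
  rw [hg0, Functor.map_zero] at hg
  have : f = (f ≫ e.hom) ≫ e.inv := by simp
  rw [this, ← hg, zero_comp]

variable (J : DRing.Cx A) (k : ℤ)

/-- `A` placed in degree `k`. -/
noncomputable abbrev Sk : DRing.Cx A :=
  (CochainComplex.singleFunctor (ModuleCat.{u} A) k).obj (ModuleCat.of A A)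

/-- The generator of `A[-k]`. -/
noncomputable def one' : (Sk (A := A) k).X k :=
  (HomologicalComplex.singleObjXSelf (ComplexShape.up ℤ) k (ModuleCat.of A A)).inv.hom (1 : A)

lemma eq_smul_one' (x : (Sk (A := A) k).X k) : ∃ a : A, x = a • one' k := by
  let e := HomologicalComplex.singleObjXSelf (ComplexShape.up ℤ) k (ModuleCat.of A A)
  let x' : ((HomologicalComplex.single (ModuleCat.{u} A) (ComplexShape.up ℤ) k).obj
    (ModuleCat.of A A)).X k := x
  refine ⟨e.hom.hom x', ?_⟩
  change x' = e.hom.hom x' • e.inv.hom (1 : A)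
  have h1 : e.hom.hom x' • e.inv.hom (1 : A) = e.inv.hom (e.hom.hom x' • (1 : A)) :=
    (e.inv.hom.map_smul _ _).symm
  have h2 : e.hom.hom x' • (1 : A) = e.hom.hom x' := by
    change e.hom.hom x' * (1 : A) = _
    rw [mul_one]
  rw [h1, h2]
  exact (e.hom_inv_id_apply x').symm

/-- The element of `Zc` attached to an element of `A[-k]` by the biduality map. -/
noncomputable def bidZ : (Sk (A := A) k).X k →ₗ[A] Zc (DRing.homCx (Sk k) J) J k :=
  LinearMap.codRestrict _ (bidLin (Sk k) J k) (fun x => by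
    rw [LinearMap.mem_ker, δ_hom_apply]
    change δ k (k + 1) (evCochain (Sk k) J k x) = 0
    rw [δ_evCochain (Sk k) J k (k + 1) rfl x]
    have hz : IsZero ((Sk (A := A) k).X (k + 1)) :=
      HomologicalComplex.isZero_single_obj_X (ComplexShape.up ℤ) k _ (k + 1) (by omega)
    have : (((Sk (A := A) k).d k (k + 1)).hom x) = 0 :=
      (ModuleCat.subsingleton_of_isZero hz).elim _ _
    rw [this]
    exact (bidLin (Sk k) J (k + 1)).map_zero)

lemma bidZ_coe (x : (Sk (A := A) k).X k) : (bidZ J k x).1 = ((bid (Sk k) J).f k).hom x := rfl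

lemma bijective_evCochain_v (p q : ℤ) (hpq : p + k = q) :
    Function.Bijective ((evCochain (Sk k) J k (one' k)).v p q hpq).hom := by
  have hkp : k + p = q := by omega
  let e1 := Cochain.fromSingleEquiv (X := ModuleCat.of A A) (K := J) hkp
  have h1 : ∀ φ : Cochain (Sk k) J p,
      ((evCochain (Sk k) J k (one' k)).v p q hpq).hom φ =
        ((k * p).negOnePow : ℤˣ) • (e1 φ).hom (1 : A) := by
    intro φ
    rw [evCochain_v_apply]
    rfl
  have hb1 : Function.Bijective (fun f : ModuleCat.of A A ⟶ J.X q => f.hom (1 : A)) := by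
    constructor
    · intro f g hfg
      apply ModuleCat.hom_ext
      apply LinearMap.ext_ring
      exact hfg
    · intro y
      exact ⟨ModuleCat.ofHom (LinearMap.toSpanSingleton A (J.X q) y), by simp⟩
  have hb2 : Function.Bijective (fun y : J.X q => ((k * p).negOnePow : ℤˣ) • y) :=
    ⟨fun y y' h => by simpa using h, fun y => ⟨((k * p).negOnePow : ℤˣ) • y, by
      simp [smul_smul]⟩⟩
  have : (((evCochain (Sk k) J k (one' k)).v p q hpq).hom : Cochain (Sk k) J p → J.X q) =
      (fun y : J.X q => ((k * p).negOnePow : ℤˣ) • y) ∘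
        (fun f : ModuleCat.of A A ⟶ J.X q => f.hom (1 : A)) ∘ e1 := by
    funext φ
    exact h1 φ
  rw [this]
  exact hb2.comp (hb1.comp e1.bijective)

/-- The distinguished cocycle. -/
noncomputable abbrev z₁ : Zc (DRing.homCx (Sk k) J) J k := bidZ J k (one' k)

lemma isIso_toMap_z₁ : IsIso (toMap (DRing.homCx (Sk k) J) J k (z₁ J k)) := by
  have : ∀ p, IsIso ((toMap (DRing.homCx (Sk k) J) J k (z₁ J k)).f p) := by
    intro p
    rw [toMap_f _ _ _ _ p (p + k) rfl]
    have h1 : IsIso ((z₁ J k).1.v p (p + k) rfl) := by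
      rw [ConcreteCategory.isIso_iff_bijective]
      exact bijective_evCochain_v J k p (p + k) rfl
    infer_instance
  exact HomologicalComplex.Hom.isIso_of_components _

/-- `Q(Hom•(A[-k], J)) ≅ (Q J)⟦k⟧`. -/
noncomputable def ιIso : (Q.obj (DRing.homCx (Sk k) J) : Dual.D A) ≅ (Q.obj J)⟦k⟧ :=
  haveI := isIso_toMap_z₁ J k
  asIso (Q.map (toMap (DRing.homCx (Sk k) J) J k (z₁ J k))) ≪≫ (Q.commShiftIso k).app J

lemma ιIso_hom : (ιIso J k).hom = Ψ (DRing.homCx (Sk k) J) J k (z₁ J k) := rfl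

variable [J.IsKInjective]

/-- **Base case**: the biduality map of `A[-k]` is a quasi-isomorphism. -/
theorem bidQis_single (h4 : Function.Bijective (fun a : A => a • 𝟙 (Q.obj J : Dual.D A)))
    (h5 : ∀ i : ℤ, i ≠ 0 → Subsingleton ((Q.obj J : Dual.D A) ⟶ (Q.obj J)⟦i⟧)) :
    BidQis J (Sk k) := by
  have hι : Function.Bijective (fun a : A => a • (ιIso J k).hom) :=
    bijective_smul_of_iso (ιIso J k) (bijective_smul_id_shift _ k h4)
  change QuasiIso (bid (Sk k) J)
  rw [quasiIso_iff]
  intro i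
  by_cases hik : i = k
  · subst hik
    rw [quasiIsoAt_iff' _ (i - 1) i (i + 1) (by simp) (by simp)]
    apply quasiIso_of_moduleCat
    · intro (z₂ : Cochain (DRing.homCx (Sk i) J) J i) hz₂
      have hz₂' : z₂ ∈ Zc (DRing.homCx (Sk i) J) J i := LinearMap.mem_ker.2 hz₂
      obtain ⟨a, ha⟩ := hι.2 (Ψ (DRing.homCx (Sk i) J) J i ⟨z₂, hz₂'⟩)
      have ha' : a • Ψ (DRing.homCx (Sk i) J) J i (z₁ J i) =
          Ψ (DRing.homCx (Sk i) J) J i ⟨z₂, hz₂'⟩ := ha
      refine ⟨a • one' i, ?_, ?_⟩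
      · exact (ModuleCat.subsingleton_of_isZero (HomologicalComplex.isZero_single_obj_X
          (ComplexShape.up ℤ) i _ (i + 1) (by omega))).elim _ _
      · have hk : bidZ J i (a • one' i) - ⟨z₂, hz₂'⟩ ∈
            LinearMap.ker (Ψ (DRing.homCx (Sk i) J) J i) := by
          rw [LinearMap.mem_ker, map_sub, map_smul, map_smul, ha', sub_self]
        rw [ker_Ψ] at hk
        obtain ⟨w, hw⟩ := hk
        exact ⟨w, congrArg Subtype.val hw⟩
    · intro x _ hx
      obtain ⟨w, hw⟩ := hx
      obtain ⟨a, rfl⟩ := eq_smul_one' i x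
      have hk : bidZ J i (a • one' i) ∈ LinearMap.range (toCyc (DRing.homCx (Sk i) J) J i) :=
        ⟨w, Subtype.ext hw⟩
      rw [← ker_Ψ, LinearMap.mem_ker, map_smul, map_smul] at hk
      have ha : a = 0 := hι.1 (by
        change a • (ιIso J i).hom = (0 : A) • (ιIso J i).hom
        rw [zero_smul]
        exact hk)
      refine ⟨0, ?_⟩
      rw [ha, zero_smul]
      exact map_zero _
  · have hS : (Sk (A := A) k).ExactAt i :=
      HomologicalComplex.exactAt_single_obj (ComplexShape.up ℤ) k (ModuleCat.of A A) i hik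
    rw [quasiIsoAt_iff_exactAt (bid (Sk k) J) i hS, exactAt_iff_isZero_homology]
    have hs : Subsingleton ((Q.obj (DRing.homCx (Sk k) J) : Dual.D A) ⟶ (Q.obj J)⟦i⟧) := by
      have h6 := subsingleton_hom_shift_shift (Q.obj J : Dual.D A) k i (h5 (i - k) (by omega))
      exact ⟨fun f g => by
        have := h6.elim ((ιIso J k).inv ≫ f) ((ιIso J k).inv ≫ g)
        exact (cancel_epi (ιIso J k).inv).1 this⟩
    have hs' : Subsingleton ((DRing.homCx (DRing.homCx (Sk k) J) J).homology i) :=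
      (homEquiv (DRing.homCx (Sk k) J) J i).toEquiv.subsingleton
    exact ModuleCat.isZero_of_subsingleton _

end Groth.Agent.Lib.Helper13.BDX
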