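import Groth.Agent.Lib.Helper13.WayOut2

/-!
# Vanishing of terms of `Hom•` and `⊗` complexes; K-projectivity of stupid truncations
-/

set_option autoImplicit false
universe u
open CategoryTheory CategoryTheory.Limits MonoidalCategory Pretriangulated
open CochainComplex.HomComplex

namespace Groth.Agent.Lib.Helper13.DV

open Groth.Agent.Lib.Helper28.KFlatAbs DTen

attribute [local instance] HasDerivedCategory.standard

variable {A : Type u} [CommRing A]

/-- `Hom^i(X, Y)` vanishes if for every `p` one of `X^p`, `Y^{p+i}` does. -/
lemma isZero_homCx_X (X Y : DRing.Cx A) (i : ℤ)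
    (h : ∀ p : ℤ, IsZero (X.X p) ∨ IsZero (Y.X (p + i))) : IsZero ((DRing.homCx X Y).X i) := by
  have hs : Subsingleton (Cochain X Y i) := by
    refine ⟨fun z z' => Cochain.ext _ _ (fun p q hpq => ?_)⟩
    subst hpq
    rcases h p with h | h
    · exact h.eq_of_src _ _
    · exact h.eq_of_tgt _ _
  exact ModuleCat.isZero_of_subsingleton (ModuleCat.of A (Cochain X Y i))

/-- `(R ⊗ X)^k` vanishes if for every `p + q = k` one of `R^p`, `X^q` does. -/
lemma isZero_tensor_X (R X : DRing.Cx A) (k : ℤ)
    (h : ∀ p q : ℤ, p + q = k → IsZero (R.X p) ∨ IsZero (X.X q)) : IsZero ((R ⊗ X).X k) := by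
  rw [IsZero.iff_id_eq_zero]
  apply HomologicalComplex.mapBifunctor.hom_ext
  intro p q hpq
  have hz : IsZero ((R.X p ⊗ X.X q : ModuleCat.{u} A)) := by
    rcases h p q hpq with h | h
    · exact (tensorRight (X.X q)).map_isZero h
    · exact (tensorLeft (R.X p)).map_isZero h
  exact hz.eq_of_src _ _

lemma isZero_homology_Q_obj (X : DRing.Cx A) (i : ℤ) (h : IsZero (X.X i)) :
    IsZero ((DerivedCategory.homologyFunctor (ModuleCat.{u} A) i).obj
      (DerivedCategory.Q.obj X)) := by
  have h1 : IsZero (X.homology i) := ShortComplex.isZero_homology_of_isZero_X₂ _ h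
  exact h1.of_iso ((DerivedCategory.homologyFunctorFactors (ModuleCat.{u} A) i).app X)

section Trunc

variable (E : DRing.Cx A) (b₀ : ℤ) (hE : DRing.VanishesAbove E b₀)
  (hE' : DRing.TermwiseFiniteFree E) (m : ℤ)

include hE' in
lemma projective_X_of_termwiseFiniteFree (n : ℤ) : Projective (E.X n) := by
  have := (hE' n).2
  exact ModuleCat.projective_of_categoryTheory_projective (E.X n)

include hE hE' in
lemma isKProjective_of_vanishesAbove : E.IsKProjective := by
  have : E.IsStrictlyLE b₀ := by
    rw [CochainComplex.isStrictlyLE_iff]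
    exact hE
  have : ∀ n, Projective (E.X n) := projective_X_of_termwiseFiniteFree E hE'
  exact CochainComplex.isKProjective_of_projective E b₀

include hE hE' in
lemma isKProjective_truncShortComplex_X₁ : (truncShortComplex E m).X₁.IsKProjective := by
  have : (truncShortComplex E m).X₁.IsStrictlyLE b₀ := by
    rw [CochainComplex.isStrictlyLE_iff]
    intro n hn
    by_cases h : m ≤ n
    · exact (hE n hn).of_iso (truncShortComplexX₁Iso E m n h)
    · exact isZero_truncShortComplex_X₁_X E m n h
  have : ∀ n, Projective ((truncShortComplex E m).X₁.X n) := by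
    intro n
    by_cases h : m ≤ n
    · exact Projective.of_iso (truncShortComplexX₁Iso E m n h).symm
        (projective_X_of_termwiseFiniteFree E hE' n)
    · exact (isZero_truncShortComplex_X₁_X E m n h).projective
  exact CochainComplex.isKProjective_of_projective _ b₀

include hE' in
lemma isKProjective_truncShortComplex_X₃ : (truncShortComplex E m).X₃.IsKProjective := by
  have : (truncShortComplex E m).X₃.IsStrictlyLE (m - 1) := by
    rw [CochainComplex.isStrictlyLE_iff]
    intro n hn
    exact isZero_truncShortComplex_X₃_X E m n (by omega)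
  have : ∀ n, Projective ((truncShortComplex E m).X₃.X n) := by
    intro n
    by_cases h : m ≤ n
    · exact (isZero_truncShortComplex_X₃_X E m n h).projective
    · exact Projective.of_iso (truncShortComplexX₃Iso E m n h)
        (projective_X_of_termwiseFiniteFree E hE' n)
  exact CochainComplex.isKProjective_of_projective _ (m - 1)

include hE hE' in
lemma isPerfect_truncShortComplex_X₁ :
    DRing.IsPerfect A (DerivedCategory.Q.obj (truncShortComplex E m).X₁) := by
  refine ⟨(truncShortComplex E m).X₁, m, b₀, ?_, ?_, ⟨Iso.refl _⟩⟩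
  · rintro n (hn | hn)
    · exact isZero_truncShortComplex_X₁_X E m n (by omega)
    · by_cases h : m ≤ n
      · exact (hE n hn).of_iso (truncShortComplexX₁Iso E m n h)
      · exact isZero_truncShortComplex_X₁_X E m n h
  · intro n
    by_cases h : m ≤ n
    · have e : (truncShortComplex E m).X₁.X n ≃ₗ[A] E.X n :=
        (truncShortComplexX₁Iso E m n h).toLinearEquiv
      have := (hE' n).1
      have := (hE' n).2
      exact ⟨Module.Finite.equiv e.symm, Module.Projective.of_equiv e.symm⟩
    · have : Subsingleton ((truncShortComplex E m).X₁.X n) :=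
        ModuleCat.subsingleton_of_isZero (isZero_truncShortComplex_X₁_X E m n h)
      exact ⟨inferInstance, inferInstance⟩

end Trunc

end Groth.Agent.Lib.Helper13.DV
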