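import Groth.Agent.Lib.Helper13.BDX5
import Groth.Agent.Lib.Helper13.WayOut3
import Mathlib.Algebra.Homology.HomologicalComplexLimits

/-!
# The biduality map of a perfect complex is a quasi-isomorphism
-/

set_option autoImplicit false
set_option maxHeartbeats 800000
set_option linter.style.haveILetI false
universe u
open CategoryTheory CategoryTheory.Limits
open CochainComplex CochainComplex.HomComplex HomologicalComplex

namespace Groth.Agent.Lib.Helper13.BDX

open Groth.Agent.Lib.Helper13.HOp Groth.Agent.Lib.Helper13.HT Groth.Agent.Lib.Helper13.BD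
  Groth.Agent.Lib.Helper13.PC Groth.Agent.Lib.Helper13.DV
open DerivedCategory

attribute [local instance] HasDerivedCategory.standard

variable {A : Type u} [CommRing A] (J : DRing.Cx A)

lemma isZero_of_forall_isZero_X (X : DRing.Cx A) (h : ∀ i, IsZero (X.X i)) : IsZero X := by
  rw [IsZero.iff_id_eq_zero]
  exact HomologicalComplex.hom_ext _ _ (fun i => (h i).eq_of_src _ _)

lemma BidQis.of_isZero {X : DRing.Cx A} (hX : IsZero X) : BidQis J X := by
  have h1 : IsZero (DRing.homCx X J) :=
    isZero_of_forall_isZero_X _ (fun i => isZero_homCx_X X J i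
      (fun p => Or.inl ((HomologicalComplex.eval _ _ p).map_isZero hX)))
  have h2 : IsZero (DRing.homCx (DRing.homCx X J) J) :=
    isZero_of_forall_isZero_X _ (fun i => isZero_homCx_X _ J i
      (fun p => Or.inl ((HomologicalComplex.eval _ _ p).map_isZero h1)))
  have : IsIso (bid X J) := ⟨0, hX.eq_of_src _ _, h2.eq_of_src _ _⟩
  change QuasiIso (bid X J)
  infer_instance

variable (hJ : ∀ q, Injective (J.X q))

include hJ in
lemma BidQis.single_of_ses (k : ℤ) (S : ShortComplex (ModuleCat.{u} A)) (hS : S.ShortExact)
    (h₁ : BidQis J ((HomologicalComplex.single (ModuleCat.{u} A) (ComplexShape.up ℤ) k).obj S.X₁))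
    (h₃ : BidQis J ((HomologicalComplex.single (ModuleCat.{u} A) (ComplexShape.up ℤ) k).obj S.X₃)) :
    BidQis J ((HomologicalComplex.single (ModuleCat.{u} A) (ComplexShape.up ℤ) k).obj S.X₂) :=
  BidQis.of_ses J hJ (S.map (HomologicalComplex.single (ModuleCat.{u} A) (ComplexShape.up ℤ) k))
    (hS.map_of_exact _) h₁ h₃

variable [J.IsKInjective]
  (h4 : Function.Bijective (fun a : A => a • 𝟙 (Q.obj J : Dual.D A)))
  (h5 : ∀ i : ℤ, i ≠ 0 → Subsingleton ((Q.obj J : Dual.D A) ⟶ (Q.obj J)⟦i⟧))

include hJ h4 h5

lemma bidQis_single_fin (k : ℤ) (r : ℕ) :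
    BidQis J ((HomologicalComplex.single (ModuleCat.{u} A) (ComplexShape.up ℤ) k).obj
      (ModuleCat.of A (Fin r → A))) := by
  induction r with
  | zero =>
    apply BidQis.of_isZero
    apply Functor.map_isZero
    exact ModuleCat.isZero_of_subsingleton _
  | succ r ih =>
    let S : ShortComplex (ModuleCat.{u} A) :=
      ShortComplex.mk (ModuleCat.ofHom (LinearMap.inl A A (Fin r → A)))
        (ModuleCat.ofHom (LinearMap.snd A A (Fin r → A))) (by
          rw [← ModuleCat.ofHom_comp, LinearMap.snd_comp_inl]; rfl)
    have hS : S.ShortExact := by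
      apply ModuleCat.shortComplex_shortExact
      · intro x
        constructor
        · intro hx
          exact ⟨x.1, Prod.ext rfl hx.symm⟩
        · rintro ⟨y, rfl⟩
          rfl
      · exact LinearMap.inl_injective
      · exact LinearMap.snd_surjective
    have h2 := BidQis.single_of_ses J hJ k S hS (bidQis_single J k h4 h5) ih
    exact BidQis.of_iso J ((HomologicalComplex.single (ModuleCat.{u} A) (ComplexShape.up ℤ) k).mapIso
      (Fin.consLinearEquiv A (fun _ : Fin (r + 1) => A)).toModuleIso) h2

lemma bidQis_single_of_finite_free (k : ℤ) (M : ModuleCat.{u} A) [Module.Finite A M]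
    [Module.Free A M] :
    BidQis J ((HomologicalComplex.single (ModuleCat.{u} A) (ComplexShape.up ℤ) k).obj M) := by
  classical
  let b := Module.Free.chooseBasis A M
  let ι := Module.Free.ChooseBasisIndex A M
  haveI : Fintype ι := Module.Free.ChooseBasisIndex.fintype A M
  let e : M ≃ₗ[A] (Fin (Fintype.card ι) → A) :=
    b.equivFun ≪≫ₗ (LinearEquiv.funCongrLeft A A (Fintype.equivFin ι)).symm
  exact BidQis.of_iso J ((HomologicalComplex.single (ModuleCat.{u} A) (ComplexShape.up ℤ) k).mapIso
    e.toModuleIso.symm) (bidQis_single_fin J hJ h4 h5 k _)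

/-- The biduality map of a bounded complex of finite free modules is a quasi-isomorphism. -/
theorem bidQis_of_perfect (E : DRing.Cx A) (a b : ℤ) (hv : DRing.VanishesOutside E a b)
    (hf : DRing.TermwiseFiniteFree E) : BidQis J E := by
  have key : ∀ (j : ℕ) (E : DRing.Cx A), DRing.VanishesOutside E a (a - 1 + j) →
      DRing.TermwiseFiniteFree E → BidQis J E := by
    intro j
    induction j with
    | zero =>
      intro E hE _
      exact BidQis.of_isZero J (isZero_of_forall_isZero_X E (fun i => hE i (by simp; lia)))
    | succ j ih =>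
      intro E hE hEf
      obtain ⟨b, hbj⟩ : ∃ b : ℤ, b = a + j := ⟨_, rfl⟩
      let S := truncShortComplex E b
      have hS : S.ShortExact := shortExact_truncShortComplex E b
      -- the top piece
      have h1GE : S.X₁.IsStrictlyGE b := by
        rw [CochainComplex.isStrictlyGE_iff]
        intro n hn
        exact isZero_truncShortComplex_X₁_X E b n (by lia)
      have h1LE : S.X₁.IsStrictlyLE b := by
        rw [CochainComplex.isStrictlyLE_iff]
        intro n hn
        exact (hE n (Or.inr (by push_cast; lia))).of_iso (truncShortComplexX₁Iso E b n (by lia))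
      obtain ⟨M, ⟨eM⟩⟩ := CochainComplex.exists_iso_single S.X₁ b
      have eMb : M ≅ E.X b :=
        (HomologicalComplex.singleObjXSelf (ComplexShape.up ℤ) b M).symm ≪≫
          ((HomologicalComplex.eval _ _ b).mapIso eM).symm ≪≫ truncShortComplexX₁Iso E b b le_rfl
      have hMfin : Module.Finite A M :=
        haveI := (hEf b).1
        Module.Finite.equiv eMb.toLinearEquiv.symm
      have hMfree : Module.Free A M :=
        haveI := (hEf b).2
        Module.Free.of_equiv eMb.toLinearEquiv.symm
      have h₁ : BidQis J S.X₁ :=
        BidQis.of_iso J eM.symm (bidQis_single_of_finite_free J hJ h4 h5 b M)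
      -- the lower piece
      have h₃ : BidQis J S.X₃ := by
        apply ih
        · intro n hn
          by_cases h : b ≤ n
          · exact isZero_truncShortComplex_X₃_X E b n h
          · exact (hE n (by rcases hn with hn | hn
                            · exact Or.inl hn
                            · exact absurd hn (by lia))).of_iso
              (truncShortComplexX₃Iso E b n h).symm
        · intro n
          by_cases h : b ≤ n
          · have hz := isZero_truncShortComplex_X₃_X E b n h
            have := ModuleCat.subsingleton_of_isZero hz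
            exact ⟨inferInstance, inferInstance⟩
          · have e := (truncShortComplexX₃Iso E b n h).toLinearEquiv
            haveI := (hEf n).1
            haveI := (hEf n).2
            exact ⟨Module.Finite.equiv e, Module.Free.of_equiv e⟩
      exact BidQis.of_ses J hJ S hS h₁ h₃
  by_cases hab : a - 1 ≤ b
  · refine key (b - (a - 1)).toNat E (fun i hi => hv i ?_) hf
    rw [Int.toNat_of_nonneg (by lia)] at hi
    rcases hi with hi | hi
    · exact Or.inl hi
    · exact Or.inr (by lia)
  · refine key 0 E (fun i hi => hv i ?_) hf
    by_cases h : i < a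
    · exact Or.inl h
    · exact Or.inr (by lia)

end Groth.Agent.Lib.Helper13.BDX
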