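import Groth.Agent.Lib.Helper13.DRingExt2
import Groth.Agent.Lib.Helper17.CohIn

/-!
# Finiteness of `Hom(X, K)` for `X` pseudo-coherent and `K` bounded below with finite cohomology
-/

set_option autoImplicit false
universe u
open CategoryTheory CategoryTheory.Limits Pretriangulated

namespace Groth.Agent.Lib.Helper13.FC

open Groth.Agent.Lib.Helper13.PC Groth.Agent.Lib.Helper13.DR
open DerivedCategory
attribute [local instance] HasDerivedCategory.standard

variable {A : Type u} [CommRing A] [IsNoetherianRing A]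

/-- Maps from a pseudo-coherent object to a finite module placed in one degree form a finite
module. -/
lemma finite_hom_single {X : Dual.D A} (hX : DRing.IsPseudoCoherent' A X) (M : ModuleCat.{u} A)
    [Module.Finite A M] (n : ℤ) :
    Module.Finite A (X ⟶ (DerivedCategory.singleFunctor (ModuleCat.{u} A) n).obj M) := by
  obtain ⟨E, b, hb, hff, ⟨e₀⟩⟩ := hX
  have hproj : ∀ i : ℤ, Projective (E.X i) := fun i => projective_of_Pfp (Pff_le_Pfp (hff i))
  have : E.IsKProjective := isKProjective_of_forall_projective E b hb hproj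
  have hfin : Module.Finite A (E.X n ⟶ M) := finite_hom_of_Pff (hff _)
  have : IsNoetherian A (E.X n ⟶ M) := inferInstance
  have : Module.Finite A (cocycleSubmodule (R := A) E n M) := inferInstance
  have h1 : Module.Finite A (Q.obj E ⟶ (DerivedCategory.singleFunctor (ModuleCat.{u} A) n).obj M) :=
    Module.Finite.of_surjective (clsLin (R := A) E n M) (clsLin_surjective E n M)
  exact Module.Finite.equiv (Linear.homCongr A e₀ (Iso.refl _))

/-- The middle term of an exact sequence of Hom-modules. -/
lemma finite_hom_of_distTriang (X : Dual.D A) (T : Triangle (Dual.D A)) (hT : T ∈ distTriang (Dual.D A))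
    (h1 : Module.Finite A (X ⟶ T.obj₁)) (h3 : Module.Finite A (X ⟶ T.obj₃)) :
    Module.Finite A (X ⟶ T.obj₂) := by
  have : IsNoetherian A (X ⟶ T.obj₁) := inferInstance
  have : IsNoetherian A (X ⟶ T.obj₃) := inferInstance
  have : IsNoetherian A (X ⟶ T.obj₂) := by
    refine isNoetherian_of_range_eq_ker (Linear.rightComp A X T.mor₁) (Linear.rightComp A X T.mor₂) ?_
    ext g
    simp only [LinearMap.mem_range, LinearMap.mem_ker, Linear.rightComp_apply]
    constructor
    · rintro ⟨h, rfl⟩
      rw [Category.assoc, comp_distTriang_mor_zero₁₂ _ hT, comp_zero]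
    · intro hg
      obtain ⟨h, hh⟩ := Triangle.coyoneda_exact₂ T hT g hg
      exact ⟨h, hh.symm⟩
  infer_instance

/-- Bounded case. -/
theorem finite_hom_of_bounded {X : Dual.D A} (hX : DRing.IsPseudoCoherent' A X) (Y : Dual.D A)
    (a b : ℤ) [Y.IsGE a] [Y.IsLE b]
    (hY : ∀ i : ℤ, Module.Finite A ((DerivedCategory.homologyFunctor (ModuleCat.{u} A) i).obj Y)) :
    Module.Finite A (X ⟶ Y) := by
  let P : ObjectProperty (ModuleCat.{u} A) := fun M => Module.Finite A M
  let 𝒯 : ObjectProperty (Dual.D A) := fun Y => Module.Finite A (X ⟶ Y)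
  have hP : P.IsClosedUnderIsomorphisms := ⟨fun {M N} e (hM : Module.Finite A M) =>
    Module.Finite.equiv e.toLinearEquiv⟩
  have h𝒯 : 𝒯.IsClosedUnderIsomorphisms := ⟨fun {Y Z} e (hY : Module.Finite A (X ⟶ Y)) =>
    Module.Finite.equiv (Linear.homCongr A (Iso.refl X) e)⟩
  refine Groth.Agent.Lib.Helper17.CohIn.prop_of_bounded P 𝒯 ?_ ?_ ?_ ?_ Y a b hY
  · intro T hT h1 h3
    exact finite_hom_of_distTriang X T hT h1 h3
  · intro M n (hM : Module.Finite A M)
    exact finite_hom_single hX M n
  · intro Z hZ
    have : Subsingleton (X ⟶ Z) := ⟨fun f g => hZ.eq_of_tgt f g⟩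
    change Module.Finite A (X ⟶ Z)
    infer_instance
  · intro Z hZ
    have : Subsingleton Z := ModuleCat.subsingleton_of_isZero hZ
    change Module.Finite A Z
    infer_instance

/-- Bounded below case. -/
theorem finite_hom_of_isGE {X : Dual.D A} (hX : DRing.IsPseudoCoherent' A X) (c : ℤ) [X.IsLE c]
    (K : Dual.D A) (a : ℤ) [K.IsGE a]
    (hK : ∀ i : ℤ, Module.Finite A ((DerivedCategory.homologyFunctor (ModuleCat.{u} A) i).obj K)) :
    Module.Finite A (X ⟶ K) := by
  let P : ObjectProperty (ModuleCat.{u} A) := fun M => Module.Finite A M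
  have hP : P.IsClosedUnderIsomorphisms := ⟨fun {M N} e (hM : Module.Finite A M) =>
    Module.Finite.equiv e.toLinearEquiv⟩
  have hT := TStructure.t.triangleLTGE_distinguished (c + 1) K
  have h1 : ((TStructure.t.truncLT (c + 1)).obj K).IsGE a := inferInstance
  have h2 : ((TStructure.t.truncLT (c + 1)).obj K).IsLE c := by
    have : ((TStructure.t.truncLT (c + 1)).obj K).IsLE (c + 1 - 1) := inferInstance
    simpa using this
  have hfin : Module.Finite A (X ⟶ (TStructure.t.truncLT (c + 1)).obj K) :=
    finite_hom_of_bounded hX _ a c (Groth.Agent.Lib.Helper9.prop_homology_truncLT P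
      (fun Z hZ => by
        have : Subsingleton Z := ModuleCat.subsingleton_of_isZero hZ
        change Module.Finite A Z
        infer_instance) K (c + 1) hK)
  have hfin' : Module.Finite A (X ⟶ ((TStructure.t.triangleLTGE (c + 1)).obj K).obj₁) := hfin
  refine Module.Finite.of_surjective
    (Linear.rightComp A X ((TStructure.t.triangleLTGE (c + 1)).obj K).mor₁) ?_
  intro (g : X ⟶ ((TStructure.t.triangleLTGE (c + 1)).obj K).obj₂)
  have h3 : ((TStructure.t.truncGE (c + 1)).obj K).IsGE (c + 1) := inferInstance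
  have hz : g ≫ ((TStructure.t.triangleLTGE (c + 1)).obj K).mor₂ = 0 :=
    TStructure.t.zero_of_isLE_of_isGE _ c (c + 1) (by lia) inferInstance h3
  obtain ⟨h, hh⟩ := Triangle.coyoneda_exact₂ _ hT g hz
  exact ⟨h, hh.symm⟩

end Groth.Agent.Lib.Helper13.FC
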