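import Groth.Agent.Lib.Helper13.DualBC8
import Groth.Agent.Lib.Helper13.FinCoh1
import Groth.Agent.Lib.Helper13.BD2

/-!
# Bass' lemma: injective dimension can be tested on residue fields of maximal ideals
-/

set_option autoImplicit false
set_option linter.unusedSectionVars false

open CategoryTheory CategoryTheory.Limits Pretriangulated

universe u

namespace Groth.Agent.Lib.Helper13.DualBC

open DerivedCategory Groth.Agent.Lib.Helper13.Coind Groth.Agent.Lib.Helper13.PC
  Groth.Agent.Lib.Helper13.DR Groth.Agent.Lib.Helper13.Shriek Groth.Agent.Lib.Helper13.BD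

attribute [local instance] HasDerivedCategory.standard

section Colon

variable {A : Type u} [CommRing A] (I : Ideal A) (x : A) (J : Ideal A)
  (hJ : J = Submodule.comap (LinearMap.toSpanSingleton A A x) I)

/-- Multiplication by `x` as a map `A/(I : x) → A/I`. -/
def colonF : (A ⧸ J) →ₗ[A] (A ⧸ I) :=
  Submodule.mapQ J I (LinearMap.toSpanSingleton A A x) hJ.le

/-- The projection `A/I → A/(I + (x))`. -/
def colonG : (A ⧸ I) →ₗ[A] (A ⧸ (I ⊔ Ideal.span {x})) :=
  Submodule.mapQ I (I ⊔ Ideal.span {x}) LinearMap.id le_sup_left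

lemma colonF_mk (a : A) : colonF I x J hJ (Submodule.Quotient.mk a) = Submodule.Quotient.mk (a * x) :=
  rfl

lemma colonG_mk (a : A) : colonG I x (Submodule.Quotient.mk a) = Submodule.Quotient.mk a :=
  rfl

/-- The short complex `A/(I : x) → A/I → A/(I + (x))`. -/
noncomputable def colonSC : ShortComplex (ModuleCat.{u} A) :=
  ShortComplex.mk
    (ModuleCat.ofHom (colonF I x J hJ) : ModuleCat.of A (A ⧸ J) ⟶ ModuleCat.of A (A ⧸ I))
    (ModuleCat.ofHom (colonG I x) :
      ModuleCat.of A (A ⧸ I) ⟶ ModuleCat.of A (A ⧸ (I ⊔ Ideal.span {x})))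
    (by
      refine ModuleCat.hom_ext (LinearMap.ext fun (a : A ⧸ J) => ?_)
      obtain ⟨a, rfl⟩ := Submodule.Quotient.mk_surjective _ a
      change colonG I x (colonF I x J hJ (Submodule.Quotient.mk a)) = 0
      rw [colonF_mk, colonG_mk, Submodule.Quotient.mk_eq_zero]
      exact Ideal.mem_sup_right (Ideal.mul_mem_left _ a (Ideal.subset_span rfl)))

lemma colonSC_shortExact : (colonSC I x J hJ).ShortExact := by
  refine { exact := ?_, mono_f := ?_, epi_g := ?_ }
  · rw [ShortComplex.ShortExact.moduleCat_exact_iff_function_exact]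
    intro (v : A ⧸ I)
    constructor
    · intro hv
      obtain ⟨v, rfl⟩ := Submodule.Quotient.mk_surjective _ v
      change colonG I x (Submodule.Quotient.mk v) = 0 at hv
      rw [colonG_mk, Submodule.Quotient.mk_eq_zero] at hv
      obtain ⟨y, hy, z, hz, rfl⟩ := Submodule.mem_sup.1 hv
      obtain ⟨b, rfl⟩ := Ideal.mem_span_singleton'.1 hz
      refine ⟨(Submodule.Quotient.mk b : A ⧸ J), ?_⟩
      change colonF I x J hJ (Submodule.Quotient.mk b) = Submodule.Quotient.mk (y + b * x)
      rw [colonF_mk, Submodule.Quotient.eq]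
      simpa using I.neg_mem hy
    · rintro ⟨a, rfl⟩
      exact (ConcreteCategory.congr_hom (colonSC I x J hJ).zero a)
  · rw [ModuleCat.mono_iff_injective]
    intro (a : A ⧸ J) (a' : A ⧸ J) h
    obtain ⟨a, rfl⟩ := Submodule.Quotient.mk_surjective _ a
    obtain ⟨a', rfl⟩ := Submodule.Quotient.mk_surjective _ a'
    change colonF I x J hJ (Submodule.Quotient.mk a) = colonF I x J hJ (Submodule.Quotient.mk a') at h
    rw [colonF_mk, colonF_mk, Submodule.Quotient.eq, ← sub_mul] at h
    refine (Submodule.Quotient.eq J).2 ?_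
    rw [hJ]
    exact h
  · rw [ModuleCat.epi_iff_surjective]
    intro (w : A ⧸ (I ⊔ Ideal.span {x}))
    obtain ⟨w, rfl⟩ := Submodule.Quotient.mk_surjective _ w
    exact ⟨(Submodule.Quotient.mk w : A ⧸ I), rfl⟩

variable (K : Dual.D A)

/-- Injectivity of `Hom(A/I, K[i]) → Hom(A/(I : x), K[i])`. -/
lemma colon_inj (W : Dual.D A)
    (h1 : Subsingleton (Dual.inD A (A ⧸ (I ⊔ Ideal.span {x})) ⟶ W))
    (f : Dual.inD A (A ⧸ I) ⟶ W)
    (hf : (DerivedCategory.singleFunctor (ModuleCat.{u} A) 0).map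
      (ModuleCat.ofHom (colonF I x J hJ)) ≫ f = 0) : f = 0 := by
  have hS := colonSC_shortExact I x J hJ
  obtain ⟨g, hg⟩ := Triangle.yoneda_exact₂ _ hS.singleTriangle_distinguished f hf
  have hg0 : g = 0 := h1.elim g 0
  rw [hg, hg0]
  exact comp_zero

/-- Surjectivity of `Hom(A/I, K[i]) → Hom(A/(I : x), K[i])`. -/
lemma colon_surj (i i' : ℤ) (hi : i + 1 = i')
    (h2 : Subsingleton (Dual.inD A (A ⧸ (I ⊔ Ideal.span {x})) ⟶ K⟦i'⟧))
    (z : Dual.inD A (A ⧸ J) ⟶ K⟦i⟧) :
    ∃ f : Dual.inD A (A ⧸ I) ⟶ K⟦i⟧, z = (DerivedCategory.singleFunctor (ModuleCat.{u} A) 0).map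
      (ModuleCat.ofHom (colonF I x J hJ)) ≫ f := by
  have hS := colonSC_shortExact I x J hJ
  exact yo_surj _ K hS.singleTriangle_distinguished i i' hi h2 z

end Colon

section Bass

variable {A : Type u} [CommRing A] [IsNoetherianRing A]

lemma subsingleton_hom_inD_of_subsingleton (M : Type u) [AddCommGroup M] [Module A M]
    [Subsingleton M] (W : Dual.D A) : Subsingleton (Dual.inD A M ⟶ W) :=
  have hz : IsZero (Dual.inD A M) := Functor.map_isZero _ (ModuleCat.isZero_of_subsingleton _)
  ⟨fun x y => hz.eq_of_src x y⟩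

lemma finite_HD_shift (K : Dual.D A) (hfin : ∀ i : ℤ, Module.Finite A (Dual.HD A K i)) (i j : ℤ) :
    Module.Finite A ((DerivedCategory.homologyFunctor (ModuleCat.{u} A) j).obj (K⟦i⟧)) := by
  have : Module.Finite A (((DerivedCategory.homologyFunctor (ModuleCat.{u} A) 0).shift
      (i + j)).obj K) := hfin (i + j)
  exact Module.Finite.equiv
    (((DerivedCategory.homologyFunctor (ModuleCat.{u} A) 0).shiftIso i j (i + j) rfl).app
      K).symm.toLinearEquiv

/-- **Bass' lemma**: vanishing of `Ext^i(A/m, K)` for `i > b` and all maximal ideals `m` implies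
vanishing of `Ext^i(A/I, K)` for `i > b` and all ideals `I`. -/
theorem bass (K : Dual.D A) (c : ℤ) [K.IsGE c]
    (hfin : ∀ i : ℤ, Module.Finite A (Dual.HD A K i)) (b : ℤ)
    (h : ∀ (m : Ideal A), m.IsMaximal → ∀ i : ℤ, b < i →
      Subsingleton (Dual.inD A (A ⧸ m) ⟶ K⟦i⟧))
    (I : Ideal A) : ∀ i : ℤ, b < i → Subsingleton (Dual.inD A (A ⧸ I) ⟶ K⟦i⟧) := by
  induction I using WellFoundedGT.induction with
  | ind I ih =>
  intro i hi
  by_cases hI : I = ⊤
  · subst hI
    exact subsingleton_hom_inD_of_subsingleton (A ⧸ (⊤ : Ideal A)) _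
  have hlt : ∀ x, x ∉ I → I < I ⊔ Ideal.span {x} := fun x hx =>
    lt_of_le_of_ne le_sup_left
      (fun heq => hx (heq ▸ Ideal.mem_sup_right (Ideal.subset_span rfl)))
  by_cases hprime : I.IsPrime
  · by_cases hmax : I.IsMaximal
    · exact h I hmax i hi
    · obtain ⟨m, hm, hIm⟩ := Ideal.exists_le_maximal I hI
      have hne : I ≠ m := fun heq => hmax (heq ▸ hm)
      obtain ⟨x, hxm, hxI⟩ := SetLike.exists_of_lt (lt_of_le_of_ne hIm hne)
      have hx1 : (1 : A) ∉ I ⊔ Ideal.span {x} := fun h1 =>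
        hm.ne_top ((Ideal.eq_top_iff_one _).2
          (sup_le hIm ((Ideal.span_singleton_le_iff_mem _).2 hxm) h1))
      have hpcI : DRing.IsPseudoCoherent' A (Dual.inD A (A ⧸ I)) :=
        (isPseudoCoherentModule'_iff_of_isNoetherianRing (A ⧸ I)).2 inferInstance
      have hGE : (K⟦i⟧).IsGE (c - i) := TStructure.t.isGE_shift K c i (c - i) (by omega)
      have hE : Module.Finite A (Dual.inD A (A ⧸ I) ⟶ K⟦i⟧) :=
        FC.finite_hom_of_isGE hpcI 0 (K⟦i⟧) (c - i) (finite_HD_shift K hfin i)
      have hact : ∀ y, y ∉ I →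
          Function.Bijective (fun f : Dual.inD A (A ⧸ I) ⟶ K⟦i⟧ => y • f) := by
        intro y hy
        have hJ : I = Submodule.comap (LinearMap.toSpanSingleton A A y) I := by
          ext a
          change a ∈ I ↔ a • y ∈ I
          rw [smul_eq_mul]
          exact ⟨fun ha => I.mul_mem_right y ha,
            fun ha => (hprime.mem_or_mem ha).resolve_right hy⟩
        have hF : colonF I y I hJ = y • LinearMap.id := by
          refine LinearMap.ext fun a => ?_
          obtain ⟨a, rfl⟩ := Submodule.Quotient.mk_surjective _ a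
          rw [colonF_mk]
          change _ = y • (Submodule.Quotient.mk a : A ⧸ I)
          rw [← Submodule.Quotient.mk_smul, smul_eq_mul, mul_comm]
        have hF2 : (DerivedCategory.singleFunctor (ModuleCat.{u} A) 0).map
            (ModuleCat.ofHom (colonF I y I hJ)) = y • 𝟙 (Dual.inD A (A ⧸ I)) := by
          have : ModuleCat.ofHom (colonF I y I hJ) = y • 𝟙 (ModuleCat.of A (A ⧸ I)) := by
            rw [hF]
            rfl
          rw [this, Functor.map_smul, CategoryTheory.Functor.map_id]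
        have hcomp : ∀ f : Dual.inD A (A ⧸ I) ⟶ K⟦i⟧,
            (DerivedCategory.singleFunctor (ModuleCat.{u} A) 0).map
              (ModuleCat.ofHom (colonF I y I hJ)) ≫ f = y • f := fun f => by
          rw [hF2, Linear.smul_comp, Category.id_comp]
        constructor
        · intro f f' hff
          have h0 : y • (f - f') = 0 := by
            rw [smul_sub]
            exact sub_eq_zero.2 hff
          rw [← hcomp] at h0
          exact sub_eq_zero.1 (colon_inj I y I hJ (K⟦i⟧) (ih _ (hlt y hy) i hi) _ h0)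
        · intro z
          obtain ⟨f, hf⟩ := colon_surj I y I hJ K i (i + 1) rfl
            (ih _ (hlt y hy) (i + 1) (by omega)) z
          exact ⟨f, (hf.trans (hcomp f)).symm⟩
      have hsurj : (⊤ : Submodule A (Dual.inD A (A ⧸ I) ⟶ K⟦i⟧)) ≤
          Ideal.span {x} • (⊤ : Submodule A (Dual.inD A (A ⧸ I) ⟶ K⟦i⟧)) := by
        intro f _
        obtain ⟨g, rfl⟩ := (hact x hxI).2 f
        exact Submodule.smul_mem_smul (Ideal.subset_span rfl) Submodule.mem_top
      obtain ⟨r, hr1, hr0⟩ := Submodule.exists_sub_one_mem_and_smul_eq_zero_of_fg_of_le_smul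
        (Ideal.span {x}) ⊤ (Module.finite_def.1 hE) hsurj
      have hrI : r ∉ I := fun hr => hx1 (by
        have := (I ⊔ Ideal.span {x}).sub_mem (Ideal.mem_sup_left hr) (Ideal.mem_sup_right hr1)
        simpa using this)
      have hz : ∀ f : Dual.inD A (A ⧸ I) ⟶ K⟦i⟧, f = 0 := fun f =>
        (hact r hrI).1 ((hr0 f Submodule.mem_top).trans (smul_zero r).symm)
      exact ⟨fun f g => (hz f).trans (hz g).symm⟩
  · obtain hI' | ⟨x, hx, y, hy, hxy⟩ := Ideal.not_isPrime_iff.1 hprime
    · exact absurd hI' hI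
    · have hIJ : I < Submodule.comap (LinearMap.toSpanSingleton A A x) I := by
        refine lt_of_le_of_ne (fun a ha => ?_) (fun heq => hy ?_)
        · change a • x ∈ I
          rw [smul_eq_mul]
          exact I.mul_mem_right x ha
        · rw [heq]
          change y • x ∈ I
          rw [smul_eq_mul, mul_comm]
          exact hxy
      have hz : ∀ f : Dual.inD A (A ⧸ I) ⟶ K⟦i⟧, f = 0 := fun f =>
        colon_inj I x _ rfl (K⟦i⟧) (ih _ (hlt x hx) i hi) f ((ih _ hIJ i hi).elim _ _)
      exact ⟨fun f g => (hz f).trans (hz g).symm⟩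

/-- Injective amplitude can be tested on the residue fields at maximal ideals. -/
theorem hasInjAmplitudeIn_of_maximal (K : Dual.D A) (c : ℤ) [K.IsGE c]
    (hfin : ∀ i : ℤ, Module.Finite A (Dual.HD A K i)) (b : ℤ)
    (h : ∀ (m : Ideal A), m.IsMaximal → ∀ i : ℤ, b < i →
      Subsingleton (Dual.inD A (A ⧸ m) ⟶ K⟦i⟧)) :
    DRing.HasInjAmplitudeIn A c b K := by
  refine hasInjAmplitudeIn_of_quotients K c b (fun I i hi => ?_)
  rcases hi with hi | hi
  · have hGE : (K⟦i⟧).IsGE (c - i) := TStructure.t.isGE_shift K c i (c - i) (by omega)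
    have hLE : (Dual.inD A (A ⧸ I)).IsLE 0 := inferInstance
    exact ⟨fun f g => (TStructure.t.zero_of_isLE_of_isGE f 0 (c - i) (by omega) hLE hGE).trans
      (TStructure.t.zero_of_isLE_of_isGE g 0 (c - i) (by omega) hLE hGE).symm⟩
  · exact bass K c hfin b h I i hi

end Bass

section MaxExt

variable (A B : Type u) [CommRing A] [CommRing B] [Algebra A B] [IsNoetherianRing A]
  [IsNoetherianRing B] [Module.Flat A B]

/-- `B/IB` in `D(B)` is the flat base change of `A/I`. -/
noncomputable def inDQuotMapIso (I : Ideal A) :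
    Dual.inD B (B ⧸ I.map (algebraMap A B)) ≅ (flatBC A B).obj (Dual.inD A (A ⧸ I)) :=
  (DerivedCategory.singleFunctor (ModuleCat.{u} B) 0).mapIso
      (Algebra.TensorProduct.quotIdealMapEquivTensorQuot B I).toLinearEquiv.toModuleIso ≪≫
    (flatBCSingleIso A B (A ⧸ I)).symm

/-- Vanishing of `Ext_A^i(A/I, K)` implies vanishing of `Ext_B^i(B/IB, K ⊗ B)`. -/
lemma subsingleton_hom_quot_map (I : Ideal A) (K : Dual.D A) (c : ℤ) [K.IsGE c] (i : ℤ)
    (h : Subsingleton (Dual.inD A (A ⧸ I) ⟶ K⟦i⟧)) :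
    Subsingleton (Dual.inD B (B ⧸ I.map (algebraMap A B)) ⟶ ((flatBC A B).obj K)⟦i⟧) := by
  have hpcI : DRing.IsPseudoCoherent' A (Dual.inD A (A ⧸ I)) :=
    (isPseudoCoherentModule'_iff_of_isNoetherianRing (A ⧸ I)).2 inferInstance
  have h1 := subsingleton_hom_flatBC B (Dual.inD A (A ⧸ I)) hpcI K c i h
  exact (Iso.homCongr (inDQuotMapIso A B I) (Iso.refl _)).subsingleton

/-- Flat base change of a dualizing complex is dualizing when every maximal ideal of `B` is
extended from `A`. -/
theorem isDualizing_flatBC_of_maximal_extended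
    (hext : ∀ n : Ideal B, n.IsMaximal → ∃ m : Ideal A, m.map (algebraMap A B) = n)
    (ω : Dual.D A) (hω : Dual.IsDualizing A ω) :
    Dual.IsDualizing B ((flatBC A B).obj ω) := by
  obtain ⟨hA, ⟨a, b, h2⟩, h3, h4, h5⟩ := id hω
  have hvan : ∀ i : ℤ, (i < a ∨ b < i) → Subsingleton (Dual.HD A ω i) := fun i hi =>
    ModuleCat.subsingleton_of_isZero (isZero_HD_of_subsingleton_ext ω i (h2 A i hi))
  have hGE : ω.IsGE a := isGE_of_subsingleton_HD ω a (fun i hi => hvan i (Or.inl hi))
  have hGE' : ((flatBC A B).obj ω).IsGE a := Groth.Agent.Lib.Helper13.HomBC.isGE_flatBC B ω a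
  have hfinB : ∀ i : ℤ, Module.Finite B (Dual.HD B ((flatBC A B).obj ω) i) := fun i => by
    have h1 : Module.Finite B ((ModuleCat.extendScalars.{u, u, u} (algebraMap A B)).obj
        ((DerivedCategory.homologyFunctor (ModuleCat.{u} A) i).obj ω)) := by
      have := h3 i
      exact Module.Finite.equiv (extendScalarsEquiv B _).symm
    exact Module.Finite.equiv (flatBCHomologyIso A B ω i).symm.toLinearEquiv
  have hinj : DRing.HasInjAmplitudeIn B a b ((flatBC A B).obj ω) := by
    refine hasInjAmplitudeIn_of_maximal _ a hfinB b (fun n hn i hi => ?_)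
    obtain ⟨m, rfl⟩ := hext n hn
    exact subsingleton_hom_quot_map A B m ω a i (h2 (A ⧸ m) i (Or.inr hi))
  exact isDualizing_flatBC_of_bound A B ω hω a b
    (fun N _ _ i hi => ext_subsingleton_of_hasInjAmplitudeIn _ a b hinj N i hi)

/-- The same for the derived base change functor. -/
theorem isDualizing_LBaseChange_of_maximal_extended [DRing.HasLBaseChange (algebraMap A B)]
    (hext : ∀ n : Ideal B, n.IsMaximal → ∃ m : Ideal A, m.map (algebraMap A B) = n)
    (ω : Dual.D A) (hω : Dual.IsDualizing A ω) :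
    Dual.IsDualizing B ((DRing.LBaseChange (algebraMap A B)).obj ω) :=
  isDualizing_of_iso ((LBaseChangeFlatIso A B).app ω).symm
    (isDualizing_flatBC_of_maximal_extended A B hext ω hω)

end MaxExt

end Groth.Agent.Lib.Helper13.DualBC
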