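import Mathlib.Algebra.Homology.DerivedCategory.KProjective
import Mathlib.CategoryTheory.Triangulated.Orthogonal

/-!
# Mapping cones of K-projective complexes; maps out of K-projective complexes
-/

set_option autoImplicit false
universe w v u
open CategoryTheory CategoryTheory.Limits

namespace Groth.Agent.Lib.Helper13.KP

variable {C : Type u} [Category.{v} C] [Abelian C]

open CochainComplex in
/-- The mapping cone of a map of K-projective complexes is K-projective. -/
instance isKProjective_mappingCone {X Y : CochainComplex C ℤ} [X.IsKProjective] [Y.IsKProjective]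
    (φ : X ⟶ Y) : (mappingCone φ).IsKProjective := by
  rw [isKProjective_iff_leftOrthogonal]
  exact (HomotopyCategory.subcategoryAcyclic C).leftOrthogonal.ext_of_isTriangulatedClosed₃ _
    (HomotopyCategory.mappingCone_triangleh_distinguished φ)
    (IsKProjective.leftOrthogonal X) (IsKProjective.leftOrthogonal Y)

variable [HasDerivedCategory.{w} C]

open DerivedCategory

lemma exists_Q_map_eq {K L : CochainComplex C ℤ} [K.IsKProjective] (φ : Q.obj K ⟶ Q.obj L) :
    ∃ f : K ⟶ L, Q.map f = φ := by
  obtain ⟨g, hg⟩ := (CochainComplex.IsKProjective.Qh_map_bijective K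
    ((HomotopyCategory.quotient _ _).obj L)).surjective
    ((quotientCompQhIso C).hom.app K ≫ φ ≫ (quotientCompQhIso C).inv.app L)
  obtain ⟨f, rfl⟩ := (HomotopyCategory.quotient _ _).map_surjective g
  refine ⟨f, ?_⟩
  have := quotientCompQhIso_hom_naturality f
  rw [hg] at this
  simpa using this.symm

lemma nonempty_homotopy_of_Q_map_eq {K L : CochainComplex C ℤ} [K.IsKProjective] {f g : K ⟶ L}
    (h : Q.map f = Q.map g) : Nonempty (Homotopy f g) := by
  have h1 : Qh.map ((HomotopyCategory.quotient _ _).map f) =
      Qh.map ((HomotopyCategory.quotient _ _).map g) := by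
    have hf := quotientCompQhIso_hom_naturality f
    have hg := quotientCompQhIso_hom_naturality g
    rw [h] at hf
    have := hf.trans hg.symm
    exact (cancel_mono _).1 this
  have h2 := (CochainComplex.IsKProjective.Qh_map_bijective K
    ((HomotopyCategory.quotient _ _).obj L)).injective h1
  exact ⟨HomotopyCategory.homotopyOfEq _ _ h2⟩

lemma Q_map_eq_of_homotopy {K L : CochainComplex C ℤ} {f g : K ⟶ L} (h : Homotopy f g) :
    Q.map f = Q.map g := by
  have hf := quotientCompQhIso_hom_naturality f
  have hg := quotientCompQhIso_hom_naturality g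
  rw [HomotopyCategory.eq_of_homotopy f g h] at hf
  have := hf.symm.trans hg
  exact (cancel_epi _).1 this

end Groth.Agent.Lib.Helper13.KP
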