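import Groth.Agent.Lib.Helper13.BDX6
import Groth.Agent.Lib.Helper13.KProjCone
import Groth.Agent.Lib.Helper13.DualBC2
import Groth.Agent.Lib.Helper13.LocFF5
import Groth.Agent.Lib.Helper13.FinCoh1
import Groth.Agent.Lib.Helper13.DualBC9

/-!
# The biduality map of a complex with finite cohomology is a quasi-isomorphism
-/

set_option autoImplicit false
set_option maxHeartbeats 800000
set_option linter.style.haveILetI false
universe u
open CategoryTheory CategoryTheory.Limits
open CochainComplex CochainComplex.HomComplex HomologicalComplex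

namespace Groth.Agent.Lib.Helper13.BDX

open Groth.Agent.Lib.Helper13.HOp Groth.Agent.Lib.Helper13.HT Groth.Agent.Lib.Helper13.BD
  Groth.Agent.Lib.Helper13.PC Groth.Agent.Lib.Helper13.DV
open Groth.Agent.Lib.Helper28.KFlatAbs
open DerivedCategory

attribute [local instance] HasDerivedCategory.standard

set_option backward.isDefEq.respectTransparency false in
/-- The canonical truncation `τ≤n K ⟶ K` is an isomorphism in degrees `< n`. -/
lemma isIso_ιTruncLE_f {C : Type*} [Category C] [Abelian C] (K : CochainComplex C ℤ) (n p : ℤ)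
    (hp : p < n) : IsIso ((K.ιTruncLE n).f p) := by
  obtain ⟨k, hk⟩ : ∃ k : ℕ, (ComplexShape.embeddingUpIntLE n).f k = p :=
    ⟨(n - p).toNat, by simp [ComplexShape.embeddingUpIntLE]; lia⟩
  have h1 : IsIso ((K.op.πTruncGE (ComplexShape.embeddingUpIntLE n).op).f p) := by
    dsimp [HomologicalComplex.πTruncGE]
    rw [(ComplexShape.embeddingUpIntLE n).op.isIso_liftExtend_f_iff _ _ hk]
    apply K.op.isIso_restrictionToTruncGE'
    rw [ComplexShape.Embedding.op_boundaryGE_iff, ComplexShape.boundaryLE_embeddingUpIntLE_iff]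
    intro hk0
    subst hk0
    simp [ComplexShape.embeddingUpIntLE] at hk
    lia
  change IsIso ((K.op.πTruncGE (ComplexShape.embeddingUpIntLE n).op).f p).unop
  infer_instance


open Groth.Agent.Lib.Helper13.Coind

variable {A : Type u} [CommRing A] (J : DRing.Cx A)
variable (hJ : ∀ q, Injective (J.X q)) [J.IsKInjective]
  (h4 : Function.Bijective (fun a : A => a • 𝟙 (Q.obj J : Dual.D A)))
  (h5 : ∀ i : ℤ, i ≠ 0 → Subsingleton ((Q.obj J : Dual.D A) ⟶ (Q.obj J)⟦i⟧))
  (a b : ℤ) (hv : DRing.VanishesOutside J a b) (hab : a ≤ b)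

include hJ h4 h5 hv hab

/-- The biduality map of a bounded above complex of finite free modules is a
quasi-isomorphism. -/
theorem bidQis_of_vanishesAbove (F : DRing.Cx A) (c : ℤ) (hFc : DRing.VanishesAbove F c)
    (hFf : DRing.TermwiseFiniteFree F) : BidQis J F := by
  change QuasiIso (bid F J)
  rw [quasiIso_iff]
  intro n
  obtain ⟨m, hm⟩ : ∃ m : ℤ, m = n - (b - a) - 2 := ⟨_, rfl⟩
  have hσ : BidQis J (trunc F m) := by
    refine bidQis_of_perfect J hJ h4 h5 (trunc F m) m c ?_ ?_
    · intro i hi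
      by_cases h : m ≤ i
      · have := isIso_truncInc_f F m i h
        exact (hFc i (by lia)).of_iso (asIso ((truncInc F m).f i))
      · exact isZero_truncX F m i h
    · intro i
      by_cases h : m ≤ i
      · have := isIso_truncInc_f F m i h
        let e := (asIso ((truncInc F m).f i)).toLinearEquiv
        haveI := (hFf i).1
        haveI := (hFf i).2
        exact ⟨Module.Finite.equiv e.symm, Module.Free.of_equiv e.symm⟩
      · have : Subsingleton ((trunc F m).X i) :=
          ModuleCat.subsingleton_of_isZero (isZero_truncX F m i h)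
        exact ⟨Module.Finite.of_finite, Module.Free.of_subsingleton A _⟩
  have hσ' : QuasiIso (bid (trunc F m) J) := hσ
  exact quasiIsoAt_bid_of_map (truncInc F m) J a b hv hab n
    (fun p hp _ => isIso_truncInc_f F m p (by lia)) (by infer_instance)

/-- The biduality map of a cohomologically bounded above complex with finite cohomology is a
quasi-isomorphism. -/
theorem bidQis_of_bdd_finite [IsNoetherianRing A] (K₁ : DRing.Cx A) (m : ℤ)
    (hb : ∀ i : ℤ, m < i → Subsingleton (Dual.HD A (Q.obj K₁) i))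
    (hfin : ∀ i : ℤ, Module.Finite A (Dual.HD A (Q.obj K₁) i)) : BidQis J K₁ := by
  obtain ⟨F, c, hFc, hFf, ⟨eF⟩⟩ :=
    Groth.Agent.Lib.Helper13.DualBC.isPseudoCoherent'_of_bdd_finite (Q.obj K₁) m hb hfin
  have hFP : F.IsKProjective := isKProjective_of_vanishesAbove F c hFc hFf
  obtain ⟨f, hf⟩ := Groth.Agent.Lib.Helper13.KP.exists_Q_map_eq eF.hom
  have hfq : QuasiIso f := by
    rw [← DerivedCategory.isIso_Q_map_iff_quasiIso, hf]
    infer_instance
  have h1 : QuasiIso (bid F J) := bidQis_of_vanishesAbove J hJ h4 h5 a b hv hab F c hFc hFf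
  have h2 : QuasiIso (preMap f J) := quasiIso_preMap_of_isKInjective f J
  have h3 : QuasiIso (preMap (preMap f J) J) := quasiIso_preMap_of_isKInjective (preMap f J) J
  have h4' : QuasiIso (f ≫ bid K₁ J) := by
    rw [bid_naturality]
    infer_instance
  change QuasiIso (bid K₁ J)
  exact quasiIso_of_comp_left f (bid K₁ J)

/-- The biduality map of a complex with finite cohomology is a quasi-isomorphism. -/
theorem bidQis_of_finite [IsNoetherianRing A] (K : DRing.Cx A)
    (hK : ∀ i : ℤ, Module.Finite A (Dual.HD A (Q.obj K) i)) : BidQis J K := by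
  change QuasiIso (bid K J)
  rw [quasiIso_iff]
  intro n
  obtain ⟨m, hm⟩ : ∃ m : ℤ, m = n + (b - a) + 2 := ⟨_, rfl⟩
  let K₁ := K.truncLE m
  have hb : ∀ i : ℤ, m < i → Subsingleton (Dual.HD A (Q.obj K₁) i) := fun i hi =>
    ModuleCat.subsingleton_of_isZero
      (isZero_homology_Q_obj K₁ i (K₁.isZero_of_isStrictlyLE m i hi))
  have hfin₁ : ∀ i : ℤ, Module.Finite A (Dual.HD A (Q.obj K₁) i) := by
    intro i
    by_cases hi : i ≤ m
    · have h1 : IsIso (HomologicalComplex.homologyMap (K.ιTruncLE m) i) := by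
        rw [← quasiIsoAt_iff_isIso_homologyMap]
        exact CochainComplex.quasiIsoAt_ιTruncLE K m i hi
      have h2 : IsIso ((Hh i).map (Q.map (K.ιTruncLE m))) :=
        (NatIso.isIso_map_iff (DerivedCategory.homologyFunctorFactors (ModuleCat.{u} A) i)
          (K.ιTruncLE m)).2 h1
      have := hK i
      exact Module.Finite.equiv (asIso ((Hh i).map (Q.map (K.ιTruncLE m)))).toLinearEquiv.symm
    · have := hb i (by lia)
      infer_instance
  have h1 : QuasiIso (bid K₁ J) := bidQis_of_bdd_finite J hJ h4 h5 a b hv hab K₁ m hb hfin₁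
  exact quasiIsoAt_bid_of_map (K.ιTruncLE m) J a b hv hab n
    (fun p _ hp => isIso_ιTruncLE_f K m p (by lia)) (by infer_instance)


omit hJ h4 h5 hab in
/-- The dual of a complex with finite cohomology has finite cohomology. -/
theorem finite_homology_homCx [IsNoetherianRing A] (K : DRing.Cx A)
    (hK : ∀ i : ℤ, Module.Finite A (Dual.HD A (Q.obj K) i))
    (hJfin : ∀ i : ℤ, Module.Finite A (Dual.HD A (Q.obj J) i)) (n : ℤ) :
    Module.Finite A ((DRing.homCx K J).homology n) := by
  obtain ⟨m, hm⟩ : ∃ m : ℤ, m = b - n + 2 := ⟨_, rfl⟩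
  let K₁ := K.truncLE m
  have hb : ∀ i : ℤ, m < i → Subsingleton (Dual.HD A (Q.obj K₁) i) := fun i hi =>
    ModuleCat.subsingleton_of_isZero
      (isZero_homology_Q_obj K₁ i (K₁.isZero_of_isStrictlyLE m i hi))
  have hfin₁ : ∀ i : ℤ, Module.Finite A (Dual.HD A (Q.obj K₁) i) := by
    intro i
    by_cases hi : i ≤ m
    · have h1 : IsIso (HomologicalComplex.homologyMap (K.ιTruncLE m) i) := by
        rw [← quasiIsoAt_iff_isIso_homologyMap]
        exact CochainComplex.quasiIsoAt_ιTruncLE K m i hi
      have h2 : IsIso ((Hh i).map (Q.map (K.ιTruncLE m))) :=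
        (NatIso.isIso_map_iff (DerivedCategory.homologyFunctorFactors (ModuleCat.{u} A) i)
          (K.ιTruncLE m)).2 h1
      have := hK i
      exact Module.Finite.equiv (asIso ((Hh i).map (Q.map (K.ιTruncLE m)))).toLinearEquiv.symm
    · have := hb i (by lia)
      infer_instance
  have hpc : DRing.IsPseudoCoherent' A (Q.obj K₁) :=
    Groth.Agent.Lib.Helper13.DualBC.isPseudoCoherent'_of_bdd_finite (Q.obj K₁) m hb hfin₁
  have hLE : (Q.obj K₁ : Dual.D A).IsLE m := by
    rw [DerivedCategory.isLE_iff]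
    intro i hi
    have := hb i hi
    exact ModuleCat.isZero_of_subsingleton _
  have hGE0 : (Q.obj J : Dual.D A).IsGE a := by
    rw [DerivedCategory.isGE_iff]
    intro i hi
    exact isZero_homology_Q_obj J i (hv i (Or.inl hi))
  have hGE : ((Q.obj J : Dual.D A)⟦n⟧).IsGE (a - n) :=
    TStructure.t.isGE_shift (Q.obj J) a n (a - n) (by lia)
  have hfin : Module.Finite A ((Q.obj K₁ : Dual.D A) ⟶ (Q.obj J)⟦n⟧) :=
    Groth.Agent.Lib.Helper13.FC.finite_hom_of_isGE hpc m ((Q.obj J)⟦n⟧) (a - n)
      (fun i => Groth.Agent.Lib.Helper13.DualBC.finite_HD_shift (Q.obj J) hJfin n i)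
  have h1 : Module.Finite A ((DRing.homCx K₁ J).homology n) :=
    Module.Finite.equiv (homEquiv K₁ J n).symm
  have h2 : QuasiIsoAt (preMap (K.ιTruncLE m) J) n :=
    quasiIsoAt_preMap (K.ιTruncLE m) J a b hv n
      (fun p _ hp => isIso_ιTruncLE_f K m p (by lia))
  rw [quasiIsoAt_iff_isIso_homologyMap] at h2
  exact Module.Finite.equiv (asIso (HomologicalComplex.homologyMap
    (preMap (K.ιTruncLE m) J) n)).toLinearEquiv.symm

end Groth.Agent.Lib.Helper13.BDX
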