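import Groth.Agent.Lib.Helper13.RelPerf2
import Groth.Agent.Lib.Helper13.DRingTorBC
import Groth.Agent.Lib.Helper13.DRingLDerived
import Mathlib.RingTheory.IsTensorProduct

set_option autoImplicit false
universe u
open CategoryTheory CategoryTheory.Limits TensorProduct

namespace Groth.Agent.Lib.Helper13.BS

open Groth.Agent.Lib.Helper13.DR

attribute [local instance] Algebra.TensorProduct.rightAlgebra

variable (R A R' : Type u) [CommRing R] [CommRing A] [Algebra R A] [CommRing R'] [Algebra R R']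

/-- `A' ⊗_A M ≃ R' ⊗_R M` for `A' = R' ⊗_R A`, as `R'`-modules, in `ModuleCat` form. -/
noncomputable def bcEquiv (M : ModuleCat.{u} A) :
    ((ModuleCat.extendScalars.{u, u, u} (algebraMap R R')).obj
      ((ModuleCat.restrictScalars.{u} (algebraMap R A)).obj M)) ≃ₗ[R']
    ((ModuleCat.restrictScalars.{u} (algebraMap R' (R' ⊗[R] A))).obj
      ((ModuleCat.extendScalars.{u, u, u} (algebraMap A (R' ⊗[R] A))).obj M)) :=
  letI : Module R M := Module.compHom M (algebraMap R A)
  haveI : IsScalarTower R A M := IsScalarTower.of_algebraMap_smul (fun r x => rfl)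
  let e1 : ((ModuleCat.extendScalars.{u, u, u} (algebraMap R R')).obj
      ((ModuleCat.restrictScalars.{u} (algebraMap R A)).obj M)) ≃ₗ[R'] R' ⊗[R] M :=
    extendScalarsEquiv R' ((ModuleCat.restrictScalars.{u} (algebraMap R A)).obj M)
  let e2 : (R' ⊗[R] A) ⊗[A] M ≃ₗ[R'] R' ⊗[R] M :=
    Algebra.IsPushout.cancelBaseChange R R' A (R' ⊗[R] A) M
  let e3 : ((ModuleCat.extendScalars.{u, u, u} (algebraMap A (R' ⊗[R] A))).obj M) ≃ₗ[R' ⊗[R] A]
      (R' ⊗[R] A) ⊗[A] M := extendScalarsEquiv (R' ⊗[R] A) M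
  { toFun := fun x => e3.symm (e2.symm (e1 x))
    invFun := fun y => e1.symm (e2 (e3 y))
    map_add' := fun x y => by simp only [map_add]; rfl
    map_smul' := fun r x => by
      simp only [map_smul, RingHom.id_apply]
      rw [← algebraMap_smul (R' ⊗[R] A) r (e2.symm (e1 x)), map_smul]
      rfl
    left_inv := fun x => by simp
    right_inv := fun y => by simp }

lemma bcEquiv_one_tmul (M : ModuleCat.{u} A) (m : M) :
    bcEquiv R A R' M (((1 : R') ⊗ₜ[R] m : (ModuleCat.extendScalars.{u, u, u} (algebraMap R R')).obj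
      ((ModuleCat.restrictScalars.{u} (algebraMap R A)).obj M))) =
      (((1 : R' ⊗[R] A) ⊗ₜ[A] m :
        (ModuleCat.extendScalars.{u, u, u} (algebraMap A (R' ⊗[R] A))).obj M)) := by
  let _ : Module R M := Module.compHom M (algebraMap R A)
  have : IsScalarTower R A M := IsScalarTower.of_algebraMap_smul (fun r x => rfl)
  have h1 : (Algebra.IsPushout.cancelBaseChange R R' A (R' ⊗[R] A) M).symm ((1 : R') ⊗ₜ[R] m) =
      (1 : R' ⊗[R] A) ⊗ₜ[A] m := by
    rw [Algebra.IsPushout.cancelBaseChange_symm_tmul, map_one]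
  exact congrArg (extendScalarsEquiv (R' ⊗[R] A) M).symm h1

/-- The base change isomorphism of modules. -/
noncomputable def bcIso (M : ModuleCat.{u} A) :
    (ModuleCat.extendScalars.{u, u, u} (algebraMap R R')).obj
      ((ModuleCat.restrictScalars.{u} (algebraMap R A)).obj M) ≅
    (ModuleCat.restrictScalars.{u} (algebraMap R' (R' ⊗[R] A))).obj
      ((ModuleCat.extendScalars.{u, u, u} (algebraMap A (R' ⊗[R] A))).obj M) :=
  (bcEquiv R A R' M).toModuleIso

lemma bcIso_naturality {M M' : ModuleCat.{u} A} (g : M ⟶ M') :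
    (ModuleCat.extendScalars.{u, u, u} (algebraMap R R')).map
        ((ModuleCat.restrictScalars.{u} (algebraMap R A)).map g) ≫ (bcIso R A R' M').hom =
      (bcIso R A R' M).hom ≫ (ModuleCat.restrictScalars.{u} (algebraMap R' (R' ⊗[R] A))).map
        ((ModuleCat.extendScalars.{u, u, u} (algebraMap A (R' ⊗[R] A))).map g) := by
  apply ModuleCat.ExtendScalars.hom_ext
  intro m
  have h1 := bcEquiv_one_tmul R A R' M m
  have h2 := bcEquiv_one_tmul R A R' M' (g m)
  have h3 : ((ModuleCat.extendScalars.{u, u, u} (algebraMap R R')).map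
        ((ModuleCat.restrictScalars.{u} (algebraMap R A)).map g)).hom
      (((1 : R') ⊗ₜ[R] m : (ModuleCat.extendScalars.{u, u, u} (algebraMap R R')).obj
        ((ModuleCat.restrictScalars.{u} (algebraMap R A)).obj M))) =
      (((1 : R') ⊗ₜ[R] (g m) : (ModuleCat.extendScalars.{u, u, u} (algebraMap R R')).obj
        ((ModuleCat.restrictScalars.{u} (algebraMap R A)).obj M'))) := rfl
  have h4 : ((ModuleCat.extendScalars.{u, u, u} (algebraMap A (R' ⊗[R] A))).map g).hom
      (((1 : R' ⊗[R] A) ⊗ₜ[A] m :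
        (ModuleCat.extendScalars.{u, u, u} (algebraMap A (R' ⊗[R] A))).obj M)) =
      (((1 : R' ⊗[R] A) ⊗ₜ[A] (g m) :
        (ModuleCat.extendScalars.{u, u, u} (algebraMap A (R' ⊗[R] A))).obj M')) := rfl
  change (bcEquiv R A R' M') (((ModuleCat.extendScalars.{u, u, u} (algebraMap R R')).map
        ((ModuleCat.restrictScalars.{u} (algebraMap R A)).map g)).hom
      (((1 : R') ⊗ₜ[R] m : (ModuleCat.extendScalars.{u, u, u} (algebraMap R R')).obj
        ((ModuleCat.restrictScalars.{u} (algebraMap R A)).obj M)))) =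
    ((ModuleCat.extendScalars.{u, u, u} (algebraMap A (R' ⊗[R] A))).map g).hom
      ((bcEquiv R A R' M) (((1 : R') ⊗ₜ[R] m : (ModuleCat.extendScalars.{u, u, u} (algebraMap R R')).obj
        ((ModuleCat.restrictScalars.{u} (algebraMap R A)).obj M))))
  rw [h3, h2, h1, h4]

/-- The base change isomorphism, as a natural isomorphism. -/
noncomputable def bcNatIso :
    ModuleCat.restrictScalars.{u} (algebraMap R A) ⋙
      ModuleCat.extendScalars.{u, u, u} (algebraMap R R') ≅
    ModuleCat.extendScalars.{u, u, u} (algebraMap A (R' ⊗[R] A)) ⋙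
      ModuleCat.restrictScalars.{u} (algebraMap R' (R' ⊗[R] A)) :=
  NatIso.ofComponents (fun M => bcIso R A R' M) (fun g => bcIso_naturality R A R' g)

section Cx

open Groth.Agent.Lib.Helper13.PC Groth.Agent.Lib.Helper13.DV DerivedCategory

attribute [local instance] HasDerivedCategory.standard

/-- The base change isomorphism for complexes. -/
noncomputable def bcCxIso (E : DRing.Cx A) :
    (extendCx R R').obj ((DRing.restrictCx (algebraMap R A)).obj E) ≅
      (DRing.restrictCx (algebraMap R' (R' ⊗[R] A))).obj ((extendCx A (R' ⊗[R] A)).obj E) :=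
  (NatIso.mapHomologicalComplex (bcNatIso R A R') (ComplexShape.up ℤ)).app E

theorem isRelPerfect_LBaseChange [Module.Flat R A]
    [DRing.HasLBaseChange (Algebra.TensorProduct.includeRight.toRingHom : A →+* R' ⊗[R] A)]
    (K : Dual.D A) (hK : Dual2.IsRelPerfect R A K) :
    Dual2.IsRelPerfect R' (R' ⊗[R] A)
      ((DRing.LBaseChange (Algebra.TensorProduct.includeRight.toRingHom : A →+* R' ⊗[R] A)).obj K) := by
  obtain ⟨⟨E, c, hEv, hEff, ⟨eE⟩⟩, a, b, htor⟩ := hK
  have hproj : ∀ i : ℤ, Projective (E.X i) := fun i => by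
    have := (hEff i).1
    have := (hEff i).2
    exact (projective_iff _).2 inferInstance
  have : E.IsKProjective := isKProjective_of_forall_projective E c hEv hproj
  let ψ : A →+* R' ⊗[R] A := algebraMap A (R' ⊗[R] A)
  have : DRing.HasLBaseChange ψ :=
    (inferInstance : DRing.HasLBaseChange
      (Algebra.TensorProduct.includeRight.toRingHom : A →+* R' ⊗[R] A))
  let e1 : (DRing.LBaseChange ψ).obj K ≅ Q.obj ((extendCx A (R' ⊗[R] A)).obj E) :=
    (DRing.LBaseChange ψ).mapIso eE.symm ≪≫ LBaseChangeIso ψ E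
  refine ⟨⟨(extendCx A (R' ⊗[R] A)).obj E, c, fun i hi => ?_, fun i => ?_, ⟨e1.symm⟩⟩, a, b, ?_⟩
  · exact Functor.map_isZero (ModuleCat.extendScalars.{u, u, u} (algebraMap A (R' ⊗[R] A))) (hEv i hi)
  · exact Pff_extendScalars (R' ⊗[R] A) (hEff i)
  · let P := (DRing.restrictCx (algebraMap R A)).obj E
    have hz : ∀ i : ℤ, c < i → IsZero (P.X i) := fun i hi =>
      Functor.map_isZero (ModuleCat.restrictScalars.{u} (algebraMap R A)) (hEv i hi)
    have hfl : ∀ i : ℤ, Module.Flat R (P.X i) := fun i => by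
      have := (hEff i).1
      have := (hEff i).2
      have : Module.Flat A (E.X i) := inferInstance
      exact flat_restrictScalars R A (E.X i)
    have h : DRing.HasTorAmplitudeIn R a b (Q.obj P) :=
      hasTorAmplitudeIn_of_iso ((DRing.restrictD (algebraMap R A)).mapIso eE.symm ≪≫
        restrictDQIso (algebraMap R A) E) htor
    have h' := hasTorAmplitudeIn_extendCx R R' P c hz hfl a b h
    refine hasTorAmplitudeIn_of_iso ?_ h'
    exact Q.mapIso (bcCxIso R A R' E) ≪≫
      (restrictDQIso (algebraMap R' (R' ⊗[R] A)) ((extendCx A (R' ⊗[R] A)).obj E)).symm ≪≫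
      (DRing.restrictD (algebraMap R' (R' ⊗[R] A))).mapIso e1.symm

end Cx

end Groth.Agent.Lib.Helper13.BS
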