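import Groth.Agent.Lib.Helper13.BaseChangeSq

set_option autoImplicit false
universe u
open CategoryTheory CategoryTheory.Limits TensorProduct

namespace Groth.Agent.Lib.Helper13.BS

open Groth.Agent.Lib.Helper13.DR

variable (R A R' A' : Type u) [CommRing R] [CommRing A] [Algebra R A] [CommRing R'] [Algebra R R']
  [CommRing A'] [Algebra R A'] [Algebra A A'] [Algebra R' A'] [IsScalarTower R A A']
  [IsScalarTower R R' A'] [Algebra.IsPushout R R' A A']

/-- `A' ⊗_A M ≃ R' ⊗_R M` for a pushout square, as `R'`-modules, in `ModuleCat` form. -/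
noncomputable def pbcEquiv (M : ModuleCat.{u} A) :
    ((ModuleCat.extendScalars.{u, u, u} (algebraMap R R')).obj
      ((ModuleCat.restrictScalars.{u} (algebraMap R A)).obj M)) ≃ₗ[R']
    ((ModuleCat.restrictScalars.{u} (algebraMap R' A')).obj
      ((ModuleCat.extendScalars.{u, u, u} (algebraMap A A')).obj M)) :=
  letI : Module R M := Module.compHom M (algebraMap R A)
  haveI : IsScalarTower R A M := IsScalarTower.of_algebraMap_smul (fun r x => rfl)
  let e1 : ((ModuleCat.extendScalars.{u, u, u} (algebraMap R R')).obj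
      ((ModuleCat.restrictScalars.{u} (algebraMap R A)).obj M)) ≃ₗ[R'] R' ⊗[R] M :=
    extendScalarsEquiv R' ((ModuleCat.restrictScalars.{u} (algebraMap R A)).obj M)
  let e2 : A' ⊗[A] M ≃ₗ[R'] R' ⊗[R] M :=
    Algebra.IsPushout.cancelBaseChange R R' A A' M
  let e3 : ((ModuleCat.extendScalars.{u, u, u} (algebraMap A A')).obj M) ≃ₗ[A']
      A' ⊗[A] M := extendScalarsEquiv A' M
  { toFun := fun x => e3.symm (e2.symm (e1 x))
    invFun := fun y => e1.symm (e2 (e3 y))
    map_add' := fun x y => by simp only [map_add]; rfl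
    map_smul' := fun r x => by
      simp only [map_smul, RingHom.id_apply]
      rw [← algebraMap_smul A' r (e2.symm (e1 x)), map_smul]
      rfl
    left_inv := fun x => by simp
    right_inv := fun y => by simp }

lemma pbcEquiv_one_tmul (M : ModuleCat.{u} A) (m : M) :
    pbcEquiv R A R' A' M (((1 : R') ⊗ₜ[R] m : (ModuleCat.extendScalars.{u, u, u} (algebraMap R R')).obj
      ((ModuleCat.restrictScalars.{u} (algebraMap R A)).obj M))) =
      (((1 : A') ⊗ₜ[A] m :
        (ModuleCat.extendScalars.{u, u, u} (algebraMap A A')).obj M)) := by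
  let _ : Module R M := Module.compHom M (algebraMap R A)
  have : IsScalarTower R A M := IsScalarTower.of_algebraMap_smul (fun r x => rfl)
  have h1 : (Algebra.IsPushout.cancelBaseChange R R' A A' M).symm ((1 : R') ⊗ₜ[R] m) =
      (1 : A') ⊗ₜ[A] m := by
    rw [Algebra.IsPushout.cancelBaseChange_symm_tmul, map_one]
  exact congrArg (extendScalarsEquiv A' M).symm h1

/-- The base change isomorphism of modules. -/
noncomputable def pbcIso (M : ModuleCat.{u} A) :
    (ModuleCat.extendScalars.{u, u, u} (algebraMap R R')).obj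
      ((ModuleCat.restrictScalars.{u} (algebraMap R A)).obj M) ≅
    (ModuleCat.restrictScalars.{u} (algebraMap R' A')).obj
      ((ModuleCat.extendScalars.{u, u, u} (algebraMap A A')).obj M) :=
  (pbcEquiv R A R' A' M).toModuleIso

lemma pbcIso_naturality {M M' : ModuleCat.{u} A} (g : M ⟶ M') :
    (ModuleCat.extendScalars.{u, u, u} (algebraMap R R')).map
        ((ModuleCat.restrictScalars.{u} (algebraMap R A)).map g) ≫ (pbcIso R A R' A' M').hom =
      (pbcIso R A R' A' M).hom ≫ (ModuleCat.restrictScalars.{u} (algebraMap R' A')).map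
        ((ModuleCat.extendScalars.{u, u, u} (algebraMap A A')).map g) := by
  apply ModuleCat.ExtendScalars.hom_ext
  intro m
  have h1 := pbcEquiv_one_tmul R A R' A' M m
  have h2 := pbcEquiv_one_tmul R A R' A' M' (g m)
  have h3 : ((ModuleCat.extendScalars.{u, u, u} (algebraMap R R')).map
        ((ModuleCat.restrictScalars.{u} (algebraMap R A)).map g)).hom
      (((1 : R') ⊗ₜ[R] m : (ModuleCat.extendScalars.{u, u, u} (algebraMap R R')).obj
        ((ModuleCat.restrictScalars.{u} (algebraMap R A)).obj M))) =
      (((1 : R') ⊗ₜ[R] (g m) : (ModuleCat.extendScalars.{u, u, u} (algebraMap R R')).obj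
        ((ModuleCat.restrictScalars.{u} (algebraMap R A)).obj M'))) := rfl
  have h4 : ((ModuleCat.extendScalars.{u, u, u} (algebraMap A A')).map g).hom
      (((1 : A') ⊗ₜ[A] m :
        (ModuleCat.extendScalars.{u, u, u} (algebraMap A A')).obj M)) =
      (((1 : A') ⊗ₜ[A] (g m) :
        (ModuleCat.extendScalars.{u, u, u} (algebraMap A A')).obj M')) := rfl
  change (pbcEquiv R A R' A' M') (((ModuleCat.extendScalars.{u, u, u} (algebraMap R R')).map
        ((ModuleCat.restrictScalars.{u} (algebraMap R A)).map g)).hom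
      (((1 : R') ⊗ₜ[R] m : (ModuleCat.extendScalars.{u, u, u} (algebraMap R R')).obj
        ((ModuleCat.restrictScalars.{u} (algebraMap R A)).obj M)))) =
    ((ModuleCat.extendScalars.{u, u, u} (algebraMap A A')).map g).hom
      ((pbcEquiv R A R' A' M) (((1 : R') ⊗ₜ[R] m : (ModuleCat.extendScalars.{u, u, u} (algebraMap R R')).obj
        ((ModuleCat.restrictScalars.{u} (algebraMap R A)).obj M))))
  rw [h3, h2, h1, h4]

/-- The base change isomorphism, as a natural isomorphism. -/
noncomputable def pbcNatIso :
    ModuleCat.restrictScalars.{u} (algebraMap R A) ⋙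
      ModuleCat.extendScalars.{u, u, u} (algebraMap R R') ≅
    ModuleCat.extendScalars.{u, u, u} (algebraMap A A') ⋙
      ModuleCat.restrictScalars.{u} (algebraMap R' A') :=
  NatIso.ofComponents (fun M => pbcIso R A R' A' M) (fun g => pbcIso_naturality R A R' A' g)

section Cx

open Groth.Agent.Lib.Helper13.PC Groth.Agent.Lib.Helper13.DV DerivedCategory

attribute [local instance] HasDerivedCategory.standard

/-- The base change isomorphism for complexes. -/
noncomputable def pbcCxIso (E : DRing.Cx A) :
    (extendCx R R').obj ((DRing.restrictCx (algebraMap R A)).obj E) ≅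
      (DRing.restrictCx (algebraMap R' A')).obj ((extendCx A A').obj E) :=
  (NatIso.mapHomologicalComplex (pbcNatIso R A R' A') (ComplexShape.up ℤ)).app E

end Cx

end Groth.Agent.Lib.Helper13.BS
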