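import Groth.Agent.Lib.Helper13.LBaseTri
import Groth.Agent.Lib.Helper13.DevOp2

/-!
# The base change map for `RHom` is an isomorphism for perfect `K`
-/

set_option autoImplicit false
universe u
open CategoryTheory CategoryTheory.Limits MonoidalCategory Pretriangulated Opposite

namespace Groth.Agent.Lib.Helper13.DV

open DTen

attribute [local instance] HasDerivedCategory.standard

variable {R R' : Type u} [CommRing R] [CommRing R'] (φ : R →+* R')
  [HasLTen R] [HasLTen R'] [HasRHom R] [HasRHom R'] [HasLBase φ] [HasResTen φ] [ResLegIso φ]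

instance isIso_rhomBC_inst (K : Dual.D R) (M : Dual.D R') : IsIso (rhomBC φ K M) :=
  isIso_rhomBC φ K M

/-- The characterisation of `bcRHom` through the monoidal comparison of base change and evaluation. -/
lemma psiSharp_bcRHom_ev (K M : Dual.D R) :
    psiSharp φ ((RHomR R K).obj M) K ≫
        (LTen₂ R').map (Prod.mkHom (bcRHom φ K M) (𝟙 ((LBase φ).obj K))) ≫
          ev ((LBase φ).obj K) ((LBase φ).obj M) =
      (LBase φ).map (ev K M) := by
  apply ((baseAdj φ).homEquiv _ _).injective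
  apply (rhomHomEquiv ((RHomR R K).obj M) K _).injective
  have h := comp_rhomBC φ K ((LBase φ).obj M) ((RHomR R K).obj M)
    ((LTen₂ R').map (Prod.mkHom (bcRHom φ K M) (𝟙 ((LBase φ).obj K))) ≫
          ev ((LBase φ).obj K) ((LBase φ).obj M))
  have h1 : rhomHomEquiv ((LBase φ).obj ((RHomR R K).obj M)) ((LBase φ).obj K) ((LBase φ).obj M)
      ((LTen₂ R').map (Prod.mkHom (bcRHom φ K M) (𝟙 ((LBase φ).obj K))) ≫
          ev ((LBase φ).obj K) ((LBase φ).obj M)) = bcRHom φ K M := by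
    have := ((rhomAdj R' ((LBase φ).obj K)).homEquiv _ _).apply_symm_apply (bcRHom φ K M)
    rw [Adjunction.homEquiv_counit] at this
    exact this
  rw [h1, Adjunction.homEquiv_unit, bcRHom_fac, Category.assoc, IsIso.inv_hom_id,
    Category.comp_id] at h
  rw [← h]
  have h2 : (baseAdj φ).homEquiv _ _ ((LBase φ).map (ev K M)) =
      ev K M ≫ (baseAdj φ).unit.app M := by
    rw [Adjunction.homEquiv_unit]
    exact ((baseAdj φ).unit.naturality (ev K M)).symm
  rw [h2]
  erw [Adjunction.homEquiv_naturality_right]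
  have h3 : rhomHomEquiv ((RHomR R K).obj M) K M (ev K M) = 𝟙 _ := by
    change (rhomAdj R K).homEquiv _ _ ((rhomAdj R K).counit.app M) = 𝟙 _
    rw [Adjunction.homEquiv_unit, Adjunction.right_triangle_components]
  erw [h3, Category.id_comp]


/-- `bcRHom` is natural in `K` (contravariantly). -/
lemma bcRHom_naturality {K K' : Dual.D R} (f : K ⟶ K') (M : Dual.D R) :
    (LBase φ).map (RHomMap f M) ≫ bcRHom φ K M =
      bcRHom φ K' M ≫ RHomMap ((LBase φ).map f) ((LBase φ).obj M) := by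
  apply (rhomHomEquiv _ ((LBase φ).obj K) _).symm.injective
  erw [Adjunction.homEquiv_counit, Adjunction.homEquiv_counit]
  change (LTen₂ R').map (Prod.mkHom ((LBase φ).map (RHomMap f M) ≫ bcRHom φ K M)
      (𝟙 ((LBase φ).obj K))) ≫ ev ((LBase φ).obj K) ((LBase φ).obj M) =
    (LTen₂ R').map (Prod.mkHom (bcRHom φ K' M ≫ RHomMap ((LBase φ).map f) ((LBase φ).obj M))
      (𝟙 ((LBase φ).obj K))) ≫ ev ((LBase φ).obj K) ((LBase φ).obj M)
  have := isIso_psiSharp φ ((RHomR R K').obj M) K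
  rw [← cancel_epi (psiSharp φ ((RHomR R K').obj M) K)]
  have n1 := psiSharp_naturality φ (RHomMap f M) (𝟙 K)
  have n2 := psiSharp_naturality φ (𝟙 ((RHomR R K').obj M)) f
  rw [CategoryTheory.Functor.map_id] at n1 n2
  have c1 := psiSharp_bcRHom_ev φ K M
  have c2 := psiSharp_bcRHom_ev φ K' M
  have r1 := RHom_map_ev f M
  have r2 := RHom_map_ev ((LBase φ).map f) ((LBase φ).obj M)
  have L : psiSharp φ ((RHomR R K').obj M) K ≫
      (LTen₂ R').map (Prod.mkHom ((LBase φ).map (RHomMap f M) ≫ bcRHom φ K M)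
        (𝟙 ((LBase φ).obj K))) ≫ ev ((LBase φ).obj K) ((LBase φ).obj M) =
      (LBase φ).map ((LTen₂ R).map (Prod.mkHom (𝟙 ((RHomR R K').obj M)) f) ≫ ev K' M) := by
    rw [← r1, Functor.map_comp, ← c1, reassoc_of% n1]
    congr 1
    rw [← Category.assoc, LTen₂_map_comp, Category.comp_id]
  have Rr : psiSharp φ ((RHomR R K').obj M) K ≫
      (LTen₂ R').map (Prod.mkHom (bcRHom φ K' M ≫ RHomMap ((LBase φ).map f) ((LBase φ).obj M))
        (𝟙 ((LBase φ).obj K))) ≫ ev ((LBase φ).obj K) ((LBase φ).obj M) =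
      (LBase φ).map ((LTen₂ R).map (Prod.mkHom (𝟙 ((RHomR R K').obj M)) f) ≫ ev K' M) := by
    rw [Functor.map_comp, ← c2, reassoc_of% n2]
    congr 1
    have e1 : (LTen₂ R').map (Prod.mkHom (bcRHom φ K' M ≫ RHomMap ((LBase φ).map f) ((LBase φ).obj M))
        (𝟙 ((LBase φ).obj K))) =
        (LTen₂ R').map (Prod.mkHom (bcRHom φ K' M) (𝟙 ((LBase φ).obj K))) ≫
        (LTen₂ R').map (Prod.mkHom (RHomMap ((LBase φ).map f) ((LBase φ).obj M))
          (𝟙 ((LBase φ).obj K))) := by
      rw [LTen₂_map_comp, Category.comp_id]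
    rw [e1, Category.assoc, r2, ← Category.assoc, ← Category.assoc, LTen₂_map_comp, LTen₂_map_comp,
      Category.comp_id, Category.id_comp, Category.comp_id, Category.id_comp]
  rw [L, Rr]


/-- `K ↦ RHom_R(K, M) ⊗^L_R R'` as a contravariant functor. -/
noncomputable abbrev bcSrc (M : Dual.D R) : (Dual.D R)ᵒᵖ ⥤ Dual.D R' :=
  (RHom R).flip.obj M ⋙ LBase φ

/-- `K ↦ RHom_{R'}(K ⊗^L_R R', M ⊗^L_R R')` as a contravariant functor. -/
noncomputable abbrev bcTgt (M : Dual.D R) : (Dual.D R)ᵒᵖ ⥤ Dual.D R' :=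
  (LBase φ).op ⋙ (RHom R').flip.obj ((LBase φ).obj M)

/-- The base change maps as a natural transformation. -/
noncomputable def bcNat (M : Dual.D R) : bcSrc φ M ⟶ bcTgt φ M where
  app K := bcRHom φ (unop K) M
  naturality _ _ f := bcRHom_naturality φ f.unop M

/-- The base change map at a shift of the unit. -/
lemma isIso_bcRHom_shift_unit (n : ℤ) (M : Dual.D R) :
    IsIso (bcRHom φ (DerivedCategory.Q.obj ((𝟙_ (DRing.Cx R))⟦n⟧)) M) := by
  set U := DerivedCategory.Q.obj ((𝟙_ (DRing.Cx R))⟦n⟧) with hU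
  have i1 : IsIso (ev U M) := isIso_ev_of_isEquivalence U M
  have i2 := isIso_psiSharp φ ((RHomR R U).obj M) U
  have h := psiSharp_bcRHom_ev φ U M
  have i3 : IsIso ((LTen₂ R').map (Prod.mkHom (bcRHom φ U M) (𝟙 ((LBase φ).obj U))) ≫
      ev ((LBase φ).obj U) ((LBase φ).obj M)) := by
    have : IsIso (psiSharp φ ((RHomR R U).obj M) U ≫
        (LTen₂ R').map (Prod.mkHom (bcRHom φ U M) (𝟙 ((LBase φ).obj U))) ≫
          ev ((LBase φ).obj U) ((LBase φ).obj M)) := by
      rw [h]
      infer_instance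
    exact IsIso.of_isIso_comp_left (psiSharp φ ((RHomR R U).obj M) U) _
  have i4 : (tensorRightD R' ((LBase φ).obj U)).IsEquivalence :=
    isEquivalence_tensorRightD_of_iso n _ (LBaseShiftUnitIso φ n)
  have h1 : rhomHomEquiv ((LBase φ).obj ((RHomR R U).obj M)) ((LBase φ).obj U) ((LBase φ).obj M)
      ((LTen₂ R').map (Prod.mkHom (bcRHom φ U M) (𝟙 ((LBase φ).obj U))) ≫
          ev ((LBase φ).obj U) ((LBase φ).obj M)) = bcRHom φ U M := by
    have := ((rhomAdj R' ((LBase φ).obj U)).homEquiv _ _).apply_symm_apply (bcRHom φ U M)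
    rw [Adjunction.homEquiv_counit] at this
    exact this
  rw [← h1]
  exact isIso_rhomHomEquiv_of_isEquivalence _ _ _ _

/-- The base change map `RHom_R(K, M) ⊗^L_R R' ⟶ RHom_{R'}(K ⊗^L_R R', M ⊗^L_R R')` is an isomorphism
for perfect `K`. -/
theorem isIso_bcRHom_of_isPerfect (K M : Dual.D R) (hK : DRing.IsPerfect R K) :
    IsIso (bcRHom φ K M) := by
  refine isIso_app_op_of_isPerfect' (bcNat φ M) ?_ ?_ ?_ K hK
  · intro T₀ hT₀
    exact midExact_LBase_RHomMap φ T₀ hT₀ M
  · intro T₀ hT₀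
    exact midExact_RHomMap_LBase φ T₀ hT₀ ((LBase φ).obj M)
  · intro n
    have := isIso_bcRHom_shift_unit φ n M
    exact (NatTrans.isIso_app_iff_of_iso (bcNat φ M) (singleShiftIso (A := R) n).op).1 this

end Groth.Agent.Lib.Helper13.DV
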