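import Groth.Agent.Lib.Helper13.DRingPC
import Groth.Prelude.Def_DDual2
import Mathlib.Algebra.Category.ModuleCat.Descent
import Mathlib.RingTheory.RingHom.Flat

/-!
# Termwise base change of complexes, flat base change `D(A) ⥤ D(B)`
-/

set_option autoImplicit false
universe u
open CategoryTheory CategoryTheory.Limits
open PCoh

namespace Groth.Agent.Lib.Helper13.DR

open Groth.Agent.Lib.Helper13.PC
open DerivedCategory TensorProduct

attribute [local instance] HasDerivedCategory.standard

section Bridge

variable {A : Type u} [CommRing A] (B : Type u) [CommRing B] [Algebra A B]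

/-- `B` with the `A`-module structure used by `ModuleCat.extendScalars` is `B`. -/
noncomputable def restrEquiv :
    ((ModuleCat.restrictScalars (algebraMap A B)).obj (ModuleCat.of B B)) ≃ₗ[A] B where
  toFun := fun b => b
  invFun := fun b => b
  map_add' := fun _ _ => rfl
  map_smul' := fun r b => (Algebra.smul_def r (show B from b)).symm
  left_inv := fun _ => rfl
  right_inv := fun _ => rfl

set_option backward.isDefEq.respectTransparency false in
lemma congr_smul (M : ModuleCat.{u} A) (s : B)
    (z : ((ModuleCat.restrictScalars (algebraMap A B)).obj (ModuleCat.of B B)) ⊗[A] M) :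
    (TensorProduct.congr (restrEquiv B) (LinearEquiv.refl A M)) (s • z) =
      s • (TensorProduct.congr (restrEquiv B) (LinearEquiv.refl A M)) z := by
  induction z using TensorProduct.induction_on with
  | zero => rw [smul_zero, map_zero, smul_zero]
  | tmul s' m => rfl
  | add x y hx hy => rw [smul_add, map_add, map_add, smul_add, hx, hy]

set_option backward.isDefEq.respectTransparency false in
/-- The object of `ModuleCat.extendScalars` is the usual base change. -/
noncomputable def extendScalarsEquiv (M : ModuleCat.{u} A) :
    ((ModuleCat.extendScalars (algebraMap A B)).obj M) ≃ₗ[B] B ⊗[A] M :=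
  { (TensorProduct.congr (restrEquiv B) (LinearEquiv.refl A M)).toAddEquiv with
    map_smul' := congr_smul B M }

/-- The object of `ModuleCat.extendScalars` is the usual base change. -/
noncomputable def extendScalarsIso (M : ModuleCat.{u} A) :
    (ModuleCat.extendScalars (algebraMap A B)).obj M ≅ ModuleCat.of B (B ⊗[A] M) :=
  (extendScalarsEquiv B M).toModuleIso

lemma Pff_extendScalars {M : ModuleCat.{u} A} (h : Pff A M) :
    Pff B ((ModuleCat.extendScalars (algebraMap A B)).obj M) := by
  have := h.1
  have := h.2
  exact ⟨Module.Finite.equiv (extendScalarsEquiv B M).symm,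
    Module.Free.of_equiv (extendScalarsEquiv B M).symm⟩

lemma Pfp_extendScalars {M : ModuleCat.{u} A} (h : Pfp A M) :
    Pfp B ((ModuleCat.extendScalars (algebraMap A B)).obj M) := by
  have := h.1
  have := h.2
  exact ⟨Module.Finite.equiv (extendScalarsEquiv B M).symm,
    Module.Projective.of_equiv (extendScalarsEquiv B M).symm⟩

lemma Pfl_extendScalars {M : ModuleCat.{u} A} (h : Pfl A M) :
    Pfl B ((ModuleCat.extendScalars (algebraMap A B)).obj M) := by
  have : Module.Flat A M := h
  exact (Module.Flat.of_linearEquiv (extendScalarsEquiv B M) :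
    Module.Flat B ((ModuleCat.extendScalars (algebraMap A B)).obj M))

lemma projective_extendScalars {M : ModuleCat.{u} A} (h : Module.Projective A M) :
    Module.Projective B ((ModuleCat.extendScalars (algebraMap A B)).obj M) :=
  Module.Projective.of_equiv (extendScalarsEquiv B M).symm

end Bridge

section Flat

variable (A B : Type u) [CommRing A] [CommRing B] [Algebra A B] [Module.Flat A B]

instance preservesFiniteLimits_extendScalars_of_flat :
    PreservesFiniteLimits (ModuleCat.extendScalars.{u, u, u} (algebraMap A B)) :=
  ModuleCat.preservesFiniteLimits_extendScalars_of_flat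
    (RingHom.flat_algebraMap_iff.2 inferInstance)

instance preservesFiniteColimits_extendScalars :
    PreservesFiniteColimits (ModuleCat.extendScalars.{u, u, u} (algebraMap A B)) := by
  have : PreservesColimitsOfSize.{0, 0} (ModuleCat.extendScalars.{u, u, u} (algebraMap A B)) :=
    (ModuleCat.extendRestrictScalarsAdj (algebraMap A B)).leftAdjoint_preservesColimits
  exact ⟨fun _ _ _ => inferInstance⟩

/-- Termwise base change of complexes. -/
noncomputable abbrev extendCx : DRing.Cx A ⥤ DRing.Cx B :=
  (ModuleCat.extendScalars.{u, u, u} (algebraMap A B)).mapHomologicalComplex (ComplexShape.up ℤ)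

/-- Flat base change `D(A) ⥤ D(B)`. -/
noncomputable abbrev flatBC : Dual.D A ⥤ Dual.D B :=
  (ModuleCat.extendScalars.{u, u, u} (algebraMap A B)).mapDerivedCategory

/-- `flatBC (Q E) ≅ Q (B ⊗ E)`. -/
noncomputable def flatBCQIso (E : DRing.Cx A) :
    (flatBC A B).obj (Q.obj E) ≅ Q.obj ((extendCx A B).obj E) :=
  (ModuleCat.extendScalars.{u, u, u} (algebraMap A B)).mapDerivedCategoryFactors.app E

/-- `flatBC (M[0]) ≅ (B ⊗ M)[0]`. -/
noncomputable def flatBCSingleIso (M : Type u) [AddCommGroup M] [Module A M] :
    (flatBC A B).obj (Dual.inD A M) ≅ Dual.inD B (B ⊗[A] M) :=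
  ((ModuleCat.extendScalars.{u, u, u} (algebraMap A B)).mapDerivedCategorySingleFunctor 0).app _ ≪≫
    (DerivedCategory.singleFunctor (ModuleCat.{u} B) 0).mapIso (extendScalarsIso B (ModuleCat.of A M))

end Flat

end Groth.Agent.Lib.Helper13.DR
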