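import Groth.Agent.Lib.Helper13.DTenDev8

/-!
# `evalHom` as a natural transformation in `K`; the invertible case
-/

set_option autoImplicit false
universe v u
open CategoryTheory CategoryTheory.Limits MonoidalCategory Pretriangulated Opposite

namespace Groth.Agent.Lib.Helper13.DV

section Mates

variable {C : Type u} [Category.{v} C]

lemma homEquiv_symm_comp_mate' {E_N G_N E_L G_L F : C ⥤ C} (adjN : E_N ⊣ G_N) (adjL : E_L ⊣ G_L)
    (β : F ⋙ E_N ≅ E_L) (M : C) {W W' : C} (e : F.obj W' ≅ W) (x₀ : W' ⟶ G_L.obj M) :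
    (adjN.homEquiv _ _).symm ((e.inv ≫ F.map x₀) ≫
        adjN.homEquiv _ _ (β.hom.app (G_L.obj M) ≫ adjL.counit.app M)) =
      E_N.map e.inv ≫ β.hom.app W' ≫ (adjL.homEquiv _ _).symm x₀ := by
  rw [adjN.homEquiv_naturality_left_symm, Equiv.symm_apply_apply, E_N.map_comp, Category.assoc]
  have nat := β.hom.naturality x₀
  dsimp only [Functor.comp_map, Functor.comp_obj] at nat
  rw [reassoc_of% nat, Adjunction.homEquiv_symm_apply]

/-- Let `E_N ⊣ G_N` and `E_L ⊣ G_L` be adjunctions on `C`, `F` an equivalence and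
`β : F ⋙ E_N ≅ E_L`. Then the adjunct `F G_L M ⟶ G_N M` of `β ≫ counit` is an isomorphism. -/
theorem isIso_homEquiv_of_isEquivalence' {E_N G_N E_L G_L F : C ⥤ C} (adjN : E_N ⊣ G_N)
    (adjL : E_L ⊣ G_L) [F.IsEquivalence] (β : F ⋙ E_N ≅ E_L) (M : C) :
    IsIso (adjN.homEquiv _ _ (β.hom.app (G_L.obj M) ≫ adjL.counit.app M)) := by
  apply isIso_of_yoneda_map_bijective
  intro W
  let e : F.obj (F.objPreimage W) ≅ W := F.objObjPreimageIso W
  have key := fun x₀ => homEquiv_symm_comp_mate' adjN adjL β M e x₀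
  have hx : ∀ x : W ⟶ F.obj (G_L.obj M), x = e.inv ≫ F.map (F.preimage (e.hom ≫ x)) := fun x => by
    rw [F.map_preimage, Iso.inv_hom_id_assoc]
  constructor
  · intro x x' hxx'
    dsimp only at hxx'
    rw [hx x, hx x'] at hxx'
    have h1 := congrArg (adjN.homEquiv _ _).symm hxx'
    rw [key, key] at h1
    have h2 : IsIso (E_N.map e.inv) := inferInstance
    rw [cancel_epi, cancel_epi] at h1
    have h3 := (adjL.homEquiv _ _).symm.injective h1
    have h4 : e.hom ≫ x = e.hom ≫ x' := by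
      have := congrArg F.map h3
      rwa [F.map_preimage, F.map_preimage] at this
    exact (cancel_epi e.hom).1 h4
  · intro y
    let z : E_L.obj (F.objPreimage W) ⟶ M :=
      inv (β.hom.app (F.objPreimage W)) ≫ E_N.map e.hom ≫ (adjN.homEquiv _ _).symm y
    refine ⟨e.inv ≫ F.map (adjL.homEquiv _ _ z), ?_⟩
    dsimp only
    apply (adjN.homEquiv _ _).symm.injective
    rw [key, Equiv.symm_apply_apply]
    dsimp only [z]
    rw [IsIso.hom_inv_id_assoc, ← E_N.map_comp_assoc, Iso.inv_hom_id, E_N.map_id, Category.id_comp]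
    rfl

end Mates

open DTen

attribute [local instance] HasDerivedCategory.standard

variable {A : Type u} [CommRing A] [HasLTen A] [HasLTen₃ A] [IsSymMonoidal A] [HasRHom A]

/-- `evalHom` is natural in its first variable. -/
lemma evalHom_naturality {K K' : Dual.D A} (f : K ⟶ K') (L M : Dual.D A) :
    (LTen₂ A).map (Prod.mkHom (𝟙 ((RHomR A L).obj M)) f) ≫ evalHom K' L M =
      evalHom K L M ≫ RHomMap (RHomMap f L) M := by
  dsimp only [evalHom]
  rw [homEquiv_comp_RHomMap, ← Adjunction.homEquiv_naturality_left]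
  congr 1
  change (LTen₂ A).map (Prod.mkHom ((LTen₂ A).map (Prod.mkHom (𝟙 ((RHomR A L).obj M)) f))
    (𝟙 ((RHomR A K').obj L))) ≫ evalHomAux K' L M =
    (LTen₂ A).map (Prod.mkHom (𝟙 _) (RHomMap f L)) ≫ evalHomAux K L M
  dsimp only [evalHomAux]
  have h1 := associator_naturality (𝟙 ((RHomR A L).obj M)) f (𝟙 ((RHomR A K').obj L))
  have h2 := associator_naturality (𝟙 ((RHomR A L).obj M)) (𝟙 K) (RHomMap f L)
  rw [LTen₂_map_id] at h2
  have h3 := symmIso_naturality (𝟙 ((RHomR A K').obj L)) f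
  have h4 := symmIso_naturality (RHomMap f L) (𝟙 K)
  have h5 := RHom_map_ev f L
  have h6 : (LTen₂ A).map (Prod.mkHom f (𝟙 ((RHomR A K').obj L))) ≫
      (DTen.symm A).app ((RHomR A K').obj L, K') ≫ ev K' L =
      (LTen₂ A).map (Prod.mkHom (𝟙 K) (RHomMap f L)) ≫
        (DTen.symm A).app ((RHomR A K).obj L, K) ≫ ev K L := by
    change _ ≫ (symmIso _ _).hom ≫ _ = _ ≫ (symmIso _ _).hom ≫ _
    rw [reassoc_of% h3, reassoc_of% h4, h5]
  rw [reassoc_of% h1, reassoc_of% h2, ← Category.assoc ((LTen₂ A).map _) ((LTen₂ A).map _),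
    ← Category.assoc ((LTen₂ A).map _) ((LTen₂ A).map _), LTen₂_map_comp, LTen₂_map_comp,
    Category.id_comp, h6]

/-- The natural isomorphism `(X ⊗ K) ⊗ N ≅ X ⊗ L` attached to an isomorphism `K ⊗ N ≅ L`. -/
noncomputable def assocCompIso (K N L : Dual.D A) (c : (LTen₂ A).obj (K, N) ≅ L) :
    (LTen A).flip.obj K ⋙ (LTen A).flip.obj N ≅ (LTen A).flip.obj L :=
  NatIso.ofComponents (fun X => DTen.associator X K N ≪≫
      (LTen₂ A).mapIso (Iso.prod (Iso.refl X) c)) (fun {X Y} g => by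
    have h1 := associator_naturality g (𝟙 K) (𝟙 N)
    rw [LTen₂_map_id] at h1
    dsimp only [Iso.trans_hom, Functor.mapIso_hom, Iso.prod_hom, Iso.refl_hom]
    change (LTen₂ A).map (Prod.mkHom ((LTen₂ A).map (Prod.mkHom g (𝟙 K))) (𝟙 N)) ≫ _ = _
    rw [reassoc_of% h1, Category.assoc]
    congr 1
    change (LTen₂ A).map (Prod.mkHom g (𝟙 _)) ≫ (LTen₂ A).map (Prod.mkHom (𝟙 Y) c.hom) =
      (LTen₂ A).map (Prod.mkHom (𝟙 X) c.hom) ≫ (LTen₂ A).map (Prod.mkHom g (𝟙 L))
    rw [LTen₂_map_comp, LTen₂_map_comp, Category.id_comp, Category.comp_id, Category.id_comp,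
      Category.comp_id])

/-- `evalHom K L M` is an isomorphism as soon as `- ⊗^L K` is an equivalence. -/
theorem isIso_evalHom_of_isEquivalence (K L M : Dual.D A)
    [((LTen A).flip.obj K).IsEquivalence] : IsIso (evalHom K L M) := by
  have : IsIso (ev K L) := by
    change IsIso ((rhomAdj A K).counit.app L)
    infer_instance
  let c : (LTen₂ A).obj (K, (RHomR A K).obj L) ≅ L :=
    symmIso ((RHomR A K).obj L) K ≪≫ asIso (ev K L)
  have h := isIso_homEquiv_of_isEquivalence' (rhomAdj A ((RHomR A K).obj L)) (rhomAdj A L)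
    (assocCompIso K ((RHomR A K).obj L) L c) M
  have h2 : evalHom K L M = (rhomAdj A ((RHomR A K).obj L)).homEquiv _ _
      ((assocCompIso K ((RHomR A K).obj L) L c).hom.app ((RHomR A L).obj M) ≫
        (rhomAdj A L).counit.app M) := by
    dsimp only [evalHom, evalHomAux]
    congr 1
    change _ = ((DTen.associator ((RHomR A L).obj M) K ((RHomR A K).obj L)).hom ≫
      (LTen₂ A).map (Prod.mkHom (𝟙 ((RHomR A L).obj M)) c.hom)) ≫ ev L M
    rw [Category.assoc]
    rfl
  rw [h2]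
  exact h

end Groth.Agent.Lib.Helper13.DV
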