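import Groth.Agent.Lib.Helper13.WayOut3
import Groth.Agent.Lib.Helper13.DTenDev9

/-!
# `evalHom` is an isomorphism for pseudo-coherent `K`, bounded below `L`, and `M` of finite
injective dimension
-/

set_option autoImplicit false
universe u
open CategoryTheory CategoryTheory.Limits MonoidalCategory Pretriangulated Opposite
open CochainComplex.HomComplex

namespace Groth.Agent.Lib.Helper13.DV

open Groth.Agent.Lib.Helper28.KFlatAbs DTen

attribute [local instance] HasDerivedCategory.standard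

variable {A : Type u} [CommRing A] [HasLTen A] [HasLTen₃ A] [IsSymMonoidal A] [HasRHom A]

/-- `evalHom` as a natural transformation in `K`. -/
noncomputable def evalHomNat (L M : Dual.D A) :
    (LTen A).obj ((RHomR A L).obj M) ⟶
      ((RHom A).flip.obj L).rightOp ⋙ (RHom A).flip.obj M where
  app K := evalHom K L M
  naturality _ _ f := evalHom_naturality f L M

omit [HasRHom A] in
lemma weakTri_LTen_obj (R : Dual.D A) : WeakTri ((LTen A).obj R) :=
  fun T₀ hT₀ => exists_distTriang_LTen₂_right T₀ hT₀ R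

omit [HasLTen₃ A] [IsSymMonoidal A] in
lemma weakTri_RHom_RHom (L M : Dual.D A) :
    WeakTri (((RHom A).flip.obj L).rightOp ⋙ (RHom A).flip.obj M) := by
  intro T₀ hT₀
  obtain ⟨T₁, hT₁, e₁, e₂, e₃, c₁, c₂⟩ := exists_distTriang_RHom T₀ hT₀ L
  obtain ⟨T₂, hT₂, f₁, f₂, f₃, d₁, d₂⟩ := exists_distTriang_RHom T₁ hT₁ M
  refine ⟨T₂, hT₂, f₁ ≪≫ (rhomIsoLeft e₃ M).symm, f₂ ≪≫ (rhomIsoLeft e₂ M).symm,
    f₃ ≪≫ (rhomIsoLeft e₁ M).symm, ?_, ?_⟩
  · change T₂.mor₁ ≫ f₂.hom ≫ (rhomIsoLeft e₂ M).inv =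
      (f₁.hom ≫ (rhomIsoLeft e₃ M).inv) ≫ RHomMap (RHomMap T₀.mor₁ L) M
    rw [reassoc_of% d₁, Category.assoc]
    congr 1
    rw [Iso.comp_inv_eq, Category.assoc, Iso.eq_inv_comp, rhomIsoLeft_hom, rhomIsoLeft_hom,
      ← RHomMap_comp, ← RHomMap_comp, c₂]
  · change T₂.mor₂ ≫ f₃.hom ≫ (rhomIsoLeft e₁ M).inv =
      (f₂.hom ≫ (rhomIsoLeft e₂ M).inv) ≫ RHomMap (RHomMap T₀.mor₂ L) M
    rw [reassoc_of% d₂, Category.assoc]
    congr 1
    rw [Iso.comp_inv_eq, Category.assoc, Iso.eq_inv_comp, rhomIsoLeft_hom, rhomIsoLeft_hom,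
      ← RHomMap_comp, ← RHomMap_comp, c₁]

/-- `evalHom K L M` is an isomorphism for perfect `K`. -/
theorem isIso_evalHom_of_isPerfect (K L M : Dual.D A) (hK : DRing.IsPerfect A K) :
    IsIso (evalHom K L M) := by
  have hS : ∀ T₀ : Triangle (Dual.D A), T₀ ∈ distTriang (Dual.D A) →
      MidExact (((LTen A).obj ((RHomR A L).obj M)).map T₀.mor₁)
        (((LTen A).obj ((RHomR A L).obj M)).map T₀.mor₂) :=
    fun T₀ hT₀ => midExact_LTen₂_right T₀ hT₀ _
  have hT : ∀ T₀ : Triangle (Dual.D A), T₀ ∈ distTriang (Dual.D A) →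
      MidExact ((((RHom A).flip.obj L).rightOp ⋙ (RHom A).flip.obj M).map T₀.mor₁)
        ((((RHom A).flip.obj L).rightOp ⋙ (RHom A).flip.obj M).map T₀.mor₂) := by
    intro T₀ hT₀
    obtain ⟨T₁, hT₁, e₁, e₂, e₃, c₁, c₂⟩ := weakTri_RHom_RHom L M T₀ hT₀
    exact (MidExact.of_distTriang T₁ hT₁).of_iso e₁ e₂ e₃ c₁ c₂
  have hbase : ∀ n : ℤ, IsIso ((evalHomNat L M).app
      ((shiftFunctor (Dual.D A) n).obj
        ((DerivedCategory.singleFunctor (ModuleCat.{u} A) 0).obj (ModuleCat.of A A)))) := by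
    intro n
    rw [NatTrans.isIso_app_iff_of_iso (evalHomNat L M) (singleShiftIso (A := A) n)]
    have := isEquivalence_flip_of_isInvertible _ (isInvertible_shift_unit (A := A) n)
    exact isIso_evalHom_of_isEquivalence _ L M
  exact isIso_app_of_isPerfect (evalHomNat L M) hS hT hbase K hK

omit [HasLTen₃ A] [IsSymMonoidal A] in
/-- The representative of `RHom(L, M)` as a `Hom` complex. -/
lemma exists_iso_RHom_Q_homCx (L M : Dual.D A) (L' I : DRing.Cx A)
    (eL : L ≅ DerivedCategory.Q.obj L') (eM : DerivedCategory.Q.obj I ≅ M)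
    (h : IsIso (rhoCx L' I)) :
    Nonempty ((RHomR A L).obj M ≅ DerivedCategory.Q.obj (DRing.homCx L' I)) :=
  ⟨(RHomR A L).mapIso eM.symm ≪≫ (rhomIsoLeft eL _).symm ≪≫ (asIso (rhoCx L' I)).symm⟩

/-- The way-out theorem for `evalHom`. -/
theorem isIso_evalHom_of_isPseudoCoherent (K L M : Dual.D A)
    (hK : DRing.IsPseudoCoherent' A K) (n : ℤ) (hL : DerivedCategory.IsGE L n)
    (hM : DRing.HasFiniteInjDim A M) : IsIso (evalHom K L M) := by
  obtain ⟨E, b₀, hE, hE', ⟨eK⟩⟩ := hK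
  obtain ⟨a, b, I, hI, hI', ⟨eM⟩⟩ := hM
  obtain ⟨L', hL', ⟨eL⟩⟩ := DerivedCategory.exists_iso_Q_obj_of_isGE L n
  have hIK : I.IsKInjective := by
    have : I.IsStrictlyGE a := by
      rw [CochainComplex.isStrictlyGE_iff]
      exact fun i hi => hI i (Or.inl hi)
    have : ∀ i, Injective (I.X i) := fun i => by
      have := hI' i
      exact Module.injective_object_of_injective_module A (I.X i)
    exact CochainComplex.isKInjective_of_injective I a
  have hzL : ∀ k : ℤ, k < n → IsZero (L'.X k) := fun k hk =>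
    CochainComplex.isZero_of_isStrictlyGE L' n k hk
  have hzI : ∀ k : ℤ, b < k → IsZero (I.X k) := fun k hk => hI k (Or.inr hk)
  -- reduce to `K = Q E`
  suffices h : IsIso ((evalHomNat L M).app (DRing.toD E)) from
    (NatTrans.isIso_app_iff_of_iso (evalHomNat L M) eK).1 h
  rw [DerivedCategory.isIso_iff]
  intro i
  let m : ℤ := i - b + n - 1
  have hSE := shortExact_truncShortComplex E m
  have k₁ := isKProjective_truncShortComplex_X₁ E b₀ hE hE' m
  have k₃ := isKProjective_truncShortComplex_X₃ E hE' m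
  let X₃ := (truncShortComplex E m).X₃
  have hzX : ∀ k : ℤ, m ≤ k → IsZero (X₃.X k) := fun k hk =>
    isZero_truncShortComplex_X₃_X E m k hk
  let T₀ := DerivedCategory.triangleOfSES hSE
  have hT₀ : T₀ ∈ distTriang (Dual.D A) := DerivedCategory.triangleOfSES_distinguished hSE
  have hη : IsIso ((evalHomNat L M).app T₀.obj₁) :=
    isIso_evalHom_of_isPerfect _ L M (isPerfect_truncShortComplex_X₁ E b₀ hE hE' m)
  -- the source
  have hSvan : ∀ j : ℤ, i - 1 ≤ j → IsZero ((DerivedCategory.homologyFunctor (ModuleCat.{u} A) j).obj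
      (((LTen A).obj ((RHomR A L).obj M)).obj T₀.obj₃)) := by
    intro j hj
    obtain ⟨eR⟩ := exists_iso_RHom_Q_homCx L M L' I eL eM (isIso_rhoCx_of_isKInjective L' I)
    have hε := isIso_ε_app_right (DRing.homCx L' I) X₃
    let e : ((LTen A).obj ((RHomR A L).obj M)).obj T₀.obj₃ ≅
        DerivedCategory.Q.obj (DRing.homCx L' I ⊗ X₃) :=
      (LTen₂ A).mapIso (Iso.prod eR (Iso.refl _)) ≪≫
        @asIso _ _ _ _ ((ε A).app (DRing.homCx L' I, X₃)) hε
    refine IsZero.of_iso (isZero_homology_Q_obj _ j (isZero_tensor_X _ _ j ?_))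
      ((DerivedCategory.homologyFunctor (ModuleCat.{u} A) j).mapIso e)
    intro p q hpq
    by_cases hq : m ≤ q
    · exact Or.inr (hzX q hq)
    · refine Or.inl (isZero_homCx_X L' I p (fun p' => ?_))
      by_cases hp' : p' < n
      · exact Or.inl (hzL p' hp')
      · exact Or.inr (hzI _ (by omega))
  -- the target
  have hTvan : ∀ j : ℤ, i - 1 ≤ j → IsZero ((DerivedCategory.homologyFunctor (ModuleCat.{u} A) j).obj
      ((((RHom A).flip.obj L).rightOp ⋙ (RHom A).flip.obj M).obj T₀.obj₃)) := by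
    intro j hj
    have hρ : IsIso (rhoCx X₃ L') := isIso_rhoCx X₃ L'
    obtain ⟨e₁⟩ := exists_iso_RHom_Q_homCx (DerivedCategory.Q.obj X₃) L X₃ L' (Iso.refl _)
      eL.symm hρ
    obtain ⟨e₂⟩ := exists_iso_RHom_Q_homCx ((RHomR A (DerivedCategory.Q.obj X₃)).obj L) M
      (DRing.homCx X₃ L') I e₁ eM (isIso_rhoCx_of_isKInjective _ I)
    refine IsZero.of_iso (isZero_homology_Q_obj _ j (isZero_homCx_X _ _ j (fun p => ?_)))
      ((DerivedCategory.homologyFunctor (ModuleCat.{u} A) j).mapIso e₂)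
    by_cases hp : p + j ≤ b
    · refine Or.inl (isZero_homCx_X X₃ L' p (fun p' => ?_))
      by_cases hp' : m ≤ p'
      · exact Or.inl (hzX p' hp')
      · exact Or.inr (hzL _ (by omega))
    · exact Or.inr (hzI _ (by omega))
  exact isIso_homologyMap_app_of_weakTri (evalHomNat L M) (weakTri_LTen_obj _)
    (weakTri_RHom_RHom L M) T₀ hT₀ i (i - 1) (by omega) (hSvan _ (by omega)) (hSvan _ (by omega))
    (hTvan _ (by omega)) (hTvan _ (by omega))

end Groth.Agent.Lib.Helper13.DV
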