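import Groth.Agent.Lib.Helper13.WayOut1

/-!
# A contravariant way-out lemma for functors `D(R)ᵒᵖ ⥤ D(R')`
-/

set_option autoImplicit false
universe u
open CategoryTheory CategoryTheory.Limits MonoidalCategory Pretriangulated Opposite

namespace Groth.Agent.Lib.Helper13.DV

attribute [local instance] HasDerivedCategory.standard

variable {R R' : Type u} [CommRing R] [CommRing R']

/-- In a distinguished triangle of `D(A)` whose first vertex has no homology in degrees `i`
and `i + 1`, the second map induces an isomorphism on `H^i`. -/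
lemma isIso_homologyMap_mor₂ (T : Triangle (Dual.D R)) (hT : T ∈ distTriang (Dual.D R))
    (i j : ℤ) (hij : i + 1 = j)
    (h₁ : IsZero ((DerivedCategory.homologyFunctor (ModuleCat.{u} R) i).obj T.obj₁))
    (h₂ : IsZero ((DerivedCategory.homologyFunctor (ModuleCat.{u} R) j).obj T.obj₁)) :
    IsIso ((DerivedCategory.homologyFunctor (ModuleCat.{u} R) i).map T.mor₂) := by
  have hm : Mono ((DerivedCategory.homologyFunctor (ModuleCat.{u} R) i).map T.mor₂) := by
    rw [DerivedCategory.HomologySequence.mono_homologyMap_mor₂_iff T hT i]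
    exact h₁.eq_of_src _ _
  have he : Epi ((DerivedCategory.homologyFunctor (ModuleCat.{u} R) i).map T.mor₂) := by
    rw [DerivedCategory.HomologySequence.epi_homologyMap_mor₂_iff T hT i j hij]
    exact h₂.eq_of_tgt _ _
  exact isIso_of_mono_of_epi _

/-- A contravariant functor `D(R)ᵒᵖ ⥤ D(R')` is weakly triangulated if it sends every distinguished
triangle to the first two maps of a distinguished triangle, up to isomorphism. -/
def WeakTriOp (S : (Dual.D R)ᵒᵖ ⥤ Dual.D R') : Prop :=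
  ∀ T₀ : Triangle (Dual.D R), T₀ ∈ distTriang (Dual.D R) →
    ∃ (T₁ : Triangle (Dual.D R')) (_ : T₁ ∈ distTriang (Dual.D R'))
      (e₁ : T₁.obj₁ ≅ S.obj (op T₀.obj₃)) (e₂ : T₁.obj₂ ≅ S.obj (op T₀.obj₂))
      (e₃ : T₁.obj₃ ≅ S.obj (op T₀.obj₁)),
      T₁.mor₁ ≫ e₂.hom = e₁.hom ≫ S.map T₀.mor₂.op ∧
        T₁.mor₂ ≫ e₃.hom = e₂.hom ≫ S.map T₀.mor₁.op

lemma WeakTriOp.isIso_homologyMap_map_mor₁ {S : (Dual.D R)ᵒᵖ ⥤ Dual.D R'} (hS : WeakTriOp S)
    (T₀ : Triangle (Dual.D R)) (hT₀ : T₀ ∈ distTriang (Dual.D R)) (i j : ℤ) (hij : i + 1 = j)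
    (h₁ : IsZero ((DerivedCategory.homologyFunctor (ModuleCat.{u} R') i).obj (S.obj (op T₀.obj₃))))
    (h₂ : IsZero ((DerivedCategory.homologyFunctor (ModuleCat.{u} R') j).obj (S.obj (op T₀.obj₃)))) :
    IsIso ((DerivedCategory.homologyFunctor (ModuleCat.{u} R') i).map (S.map T₀.mor₁.op)) := by
  obtain ⟨T₁, hT₁, e₁, e₂, e₃, -, c₂⟩ := hS T₀ hT₀
  have h := isIso_homologyMap_mor₂ T₁ hT₁ i j hij
    (h₁.of_iso ((DerivedCategory.homologyFunctor (ModuleCat.{u} R') i).mapIso e₁))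
    (h₂.of_iso ((DerivedCategory.homologyFunctor (ModuleCat.{u} R') j).mapIso e₁))
  have h3 : S.map T₀.mor₁.op = e₂.inv ≫ T₁.mor₂ ≫ e₃.hom := by
    rw [c₂, Iso.inv_hom_id_assoc]
  rw [h3, Functor.map_comp, Functor.map_comp]
  infer_instance

/-- The contravariant way-out lemma. -/
theorem isIso_homologyMap_app_of_weakTriOp {S T : (Dual.D R)ᵒᵖ ⥤ Dual.D R'} (η : S ⟶ T)
    (hS : WeakTriOp S) (hT : WeakTriOp T)
    (T₀ : Triangle (Dual.D R)) (hT₀ : T₀ ∈ distTriang (Dual.D R)) [IsIso (η.app (op T₀.obj₁))]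
    (i j : ℤ) (hij : i + 1 = j)
    (hS₁ : IsZero ((DerivedCategory.homologyFunctor (ModuleCat.{u} R') i).obj (S.obj (op T₀.obj₃))))
    (hS₂ : IsZero ((DerivedCategory.homologyFunctor (ModuleCat.{u} R') j).obj (S.obj (op T₀.obj₃))))
    (hT₁ : IsZero ((DerivedCategory.homologyFunctor (ModuleCat.{u} R') i).obj (T.obj (op T₀.obj₃))))
    (hT₂ : IsZero ((DerivedCategory.homologyFunctor (ModuleCat.{u} R') j).obj (T.obj (op T₀.obj₃)))) :
    IsIso ((DerivedCategory.homologyFunctor (ModuleCat.{u} R') i).map (η.app (op T₀.obj₂))) := by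
  have i₁ := hS.isIso_homologyMap_map_mor₁ T₀ hT₀ i j hij hS₁ hS₂
  have i₂ := hT.isIso_homologyMap_map_mor₁ T₀ hT₀ i j hij hT₁ hT₂
  have nat := congrArg (DerivedCategory.homologyFunctor (ModuleCat.{u} R') i).map
    (η.naturality T₀.mor₁.op)
  rw [Functor.map_comp, Functor.map_comp] at nat
  have h : (DerivedCategory.homologyFunctor (ModuleCat.{u} R') i).map (η.app (op T₀.obj₂)) =
      (DerivedCategory.homologyFunctor (ModuleCat.{u} R') i).map (S.map T₀.mor₁.op) ≫
        (DerivedCategory.homologyFunctor (ModuleCat.{u} R') i).map (η.app (op T₀.obj₁)) ≫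
        inv ((DerivedCategory.homologyFunctor (ModuleCat.{u} R') i).map (T.map T₀.mor₁.op)) := by
    rw [← Category.assoc, nat, Category.assoc, IsIso.hom_inv_id, Category.comp_id]
  rw [h]
  infer_instance

end Groth.Agent.Lib.Helper13.DV
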