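import Groth.Agent.Lib.Helper13.BcRHom1
import Groth.Agent.Lib.Helper13.WayOutOp
import Groth.Agent.Lib.Helper13.WayOut4
import Groth.Agent.Lib.Helper13.DRingFlatBC

/-!
# The base change map for `RHom` along a flat ring map, pseudo-coherent `K`, bounded below `M`
-/

set_option autoImplicit false
universe u
open CategoryTheory CategoryTheory.Limits MonoidalCategory Pretriangulated Opposite

namespace Groth.Agent.Lib.Helper13.DV

open DTen Groth.Agent.Lib.Helper13.SF Groth.Agent.Lib.Helper13.DT Groth.Agent.Lib.Helper13.DR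

attribute [local instance] HasDerivedCategory.standard

section WeakTri

variable {R R' : Type u} [CommRing R] [CommRing R'] (φ : R →+* R')
  [HasLTen R] [HasLTen R'] [HasRHom R] [HasRHom R'] [HasLBase φ] [HasResTen φ] [ResLegIso φ]

omit [HasLTen R'] [HasRHom R'] [HasResTen φ] [ResLegIso φ] in
lemma weakTriOp_bcSrc (M : Dual.D R) : WeakTriOp (bcSrc φ M) := by
  intro T₀ hT₀
  obtain ⟨T₁, hT₁, e₁, e₂, e₃, c₁, c₂⟩ := exists_distTriang_RHom T₀ hT₀ M
  obtain ⟨T₂, hT₂, f₁, f₂, f₃, d₁, d₂⟩ := exists_distTriang_LBase φ T₁ hT₁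
  refine ⟨T₂, hT₂, f₁ ≪≫ (LBase φ).mapIso e₁, f₂ ≪≫ (LBase φ).mapIso e₂,
    f₃ ≪≫ (LBase φ).mapIso e₃, ?_, ?_⟩
  · change T₂.mor₁ ≫ f₂.hom ≫ (LBase φ).map e₂.hom =
      (f₁.hom ≫ (LBase φ).map e₁.hom) ≫ (LBase φ).map (RHomMap T₀.mor₂ M)
    rw [reassoc_of% d₁, Category.assoc, ← Functor.map_comp, ← Functor.map_comp, c₁]
  · change T₂.mor₂ ≫ f₃.hom ≫ (LBase φ).map e₃.hom =
      (f₂.hom ≫ (LBase φ).map e₂.hom) ≫ (LBase φ).map (RHomMap T₀.mor₁ M)
    rw [reassoc_of% d₂, Category.assoc, ← Functor.map_comp, ← Functor.map_comp, c₂]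

omit [HasLTen R] [HasRHom R] [HasResTen φ] [ResLegIso φ] in
lemma weakTriOp_bcTgt' (N : Dual.D R') :
    WeakTriOp ((LBase φ).op ⋙ (RHom R').flip.obj N) := by
  intro T₀ hT₀
  obtain ⟨T₁, hT₁, e₁, e₂, e₃, c₁, c₂⟩ := exists_distTriang_LBase φ T₀ hT₀
  obtain ⟨T₂, hT₂, f₁, f₂, f₃, d₁, d₂⟩ := exists_distTriang_RHom T₁ hT₁ N
  refine ⟨T₂, hT₂, f₁ ≪≫ rhomIsoLeft e₃.symm N, f₂ ≪≫ rhomIsoLeft e₂.symm N,
    f₃ ≪≫ rhomIsoLeft e₁.symm N, ?_, ?_⟩
  · change T₂.mor₁ ≫ f₂.hom ≫ (rhomIsoLeft e₂.symm N).hom =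
      (f₁.hom ≫ (rhomIsoLeft e₃.symm N).hom) ≫ RHomMap ((LBase φ).map T₀.mor₂) N
    rw [reassoc_of% d₁, Category.assoc]
    congr 1
    rw [rhomIsoLeft_hom, rhomIsoLeft_hom, ← RHomMap_comp, ← RHomMap_comp]
    congr 1
    dsimp only [Iso.symm_hom]
    rw [Iso.inv_comp_eq, ← Category.assoc, ← c₂, Category.assoc, Iso.hom_inv_id, Category.comp_id]
  · change T₂.mor₂ ≫ f₃.hom ≫ (rhomIsoLeft e₁.symm N).hom =
      (f₂.hom ≫ (rhomIsoLeft e₂.symm N).hom) ≫ RHomMap ((LBase φ).map T₀.mor₁) N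
    rw [reassoc_of% d₂, Category.assoc]
    congr 1
    rw [rhomIsoLeft_hom, rhomIsoLeft_hom, ← RHomMap_comp, ← RHomMap_comp]
    congr 1
    dsimp only [Iso.symm_hom]
    rw [Iso.inv_comp_eq, ← Category.assoc, ← c₁, Category.assoc, Iso.hom_inv_id, Category.comp_id]

end WeakTri


section Flat

variable {R R' : Type u} [CommRing R] [CommRing R'] [Algebra R R'] [Module.Flat R R']

/-- Flat extension of scalars preserves quasi-isomorphisms. -/
lemma quasiIso_extCx_map {X Y : DRing.Cx R} (f : X ⟶ Y) [QuasiIso f] :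
    QuasiIso ((extCx (algebraMap R R')).map f) := by
  have : (ModuleCat.extendScalars.{u, u, u} (algebraMap R R')).PreservesHomology :=
    inferInstance
  infer_instance

variable [HasLBase (algebraMap R R')]

/-- For a flat ring map derived base change is computed termwise on every complex. -/
theorem isIso_baseCmp_app_of_flat (Y : DRing.Cx R) :
    IsIso ((baseCmp (algebraMap R R')).app Y) := by
  have nat := (baseCmp (algebraMap R R')).naturality (resMap Y)
  have h1 := isIso_baseCmp_app_of_isKProjective (algebraMap R R') (res Y)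
  have h2 : QuasiIso ((extCx (algebraMap R R')).map (resMap Y)) := quasiIso_extCx_map _
  have h3 : IsIso ((DerivedCategory.Q ⋙ LBase (algebraMap R R')).map (resMap Y)) := by
    rw [Functor.comp_map]
    infer_instance
  have h4 : IsIso ((DerivedCategory.Q ⋙ LBase (algebraMap R R')).map (resMap Y) ≫
      (baseCmp (algebraMap R R')).app Y) := by
    rw [nat]
    dsimp only [Functor.comp_map]
    infer_instance
  exact IsIso.of_isIso_comp_left
    ((DerivedCategory.Q ⋙ LBase (algebraMap R R')).map (resMap Y)) _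


variable [HasLTen R] [HasLTen R'] [HasRHom R] [HasRHom R'] [HasResTen (algebraMap R R')]
  [ResLegIso (algebraMap R R')]

/-- The way-out theorem for `bcRHom` along a flat ring map. -/
theorem isIso_bcRHom_of_flat_of_isPseudoCoherent (K M : Dual.D R)
    (hK : DRing.IsPseudoCoherent' R K) (n : ℤ) (hM : DerivedCategory.IsGE M n) :
    IsIso (bcRHom (algebraMap R R') K M) := by
  obtain ⟨E, b₀, hE, hE', ⟨eK⟩⟩ := hK
  obtain ⟨M', hM', ⟨eM⟩⟩ := DerivedCategory.exists_iso_Q_obj_of_isGE M n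
  have hzM : ∀ k : ℤ, k < n → IsZero (M'.X k) := fun k hk =>
    CochainComplex.isZero_of_isStrictlyGE M' n k hk
  suffices h : IsIso ((bcNat (algebraMap R R') M).app (op (DRing.toD E))) from
    (NatTrans.isIso_app_iff_of_iso (bcNat (algebraMap R R') M) eK.op).2 h
  rw [DerivedCategory.isIso_iff]
  intro i
  let m : ℤ := n - i - 1
  have hSE := shortExact_truncShortComplex E m
  have k₁ := isKProjective_truncShortComplex_X₁ E b₀ hE hE' m
  have k₃ := isKProjective_truncShortComplex_X₃ E hE' m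
  let X₃ := (truncShortComplex E m).X₃
  have hzX : ∀ k : ℤ, m ≤ k → IsZero (X₃.X k) := fun k hk =>
    isZero_truncShortComplex_X₃_X E m k hk
  let T₀ := DerivedCategory.triangleOfSES hSE
  have hT₀ : T₀ ∈ distTriang (Dual.D R) := DerivedCategory.triangleOfSES_distinguished hSE
  have hη : IsIso ((bcNat (algebraMap R R') M).app (op T₀.obj₁)) :=
    isIso_bcRHom_of_isPerfect (algebraMap R R') _ M (isPerfect_truncShortComplex_X₁ E b₀ hE hE' m)
  -- the source
  have hSvan : ∀ j : ℤ, j ≤ i + 1 →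
      IsZero ((DerivedCategory.homologyFunctor (ModuleCat.{u} R') j).obj
        ((bcSrc (algebraMap R R') M).obj (op T₀.obj₃))) := by
    intro j hj
    obtain ⟨eR⟩ := exists_iso_RHom_Q_homCx (DerivedCategory.Q.obj X₃) M X₃ M' (Iso.refl _)
      eM.symm (isIso_rhoCx X₃ M')
    have hb := isIso_baseCmp_app_of_flat (R' := R') (DRing.homCx X₃ M')
    let e : (bcSrc (algebraMap R R') M).obj (op T₀.obj₃) ≅
        DerivedCategory.Q.obj ((extCx (algebraMap R R')).obj (DRing.homCx X₃ M')) :=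
      (LBase (algebraMap R R')).mapIso eR ≪≫
        @asIso _ _ _ _ ((baseCmp (algebraMap R R')).app (DRing.homCx X₃ M')) hb
    refine IsZero.of_iso (isZero_homology_Q_obj _ j ?_)
      ((DerivedCategory.homologyFunctor (ModuleCat.{u} R') j).mapIso e)
    refine (ModuleCat.extendScalars.{u, u, u} (algebraMap R R')).map_isZero
      (isZero_homCx_X X₃ M' j (fun p => ?_))
    by_cases hp : m ≤ p
    · exact Or.inl (hzX p hp)
    · exact Or.inr (hzM _ (by omega))
  -- the target
  have hTvan : ∀ j : ℤ, j ≤ i + 1 →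
      IsZero ((DerivedCategory.homologyFunctor (ModuleCat.{u} R') j).obj
        ((bcTgt (algebraMap R R') M).obj (op T₀.obj₃))) := by
    intro j hj
    have hb₁ := isIso_baseCmp_app_of_flat (R' := R') X₃
    have hb₂ := isIso_baseCmp_app_of_flat (R' := R') M'
    have kp : ((extCx (algebraMap R R')).obj X₃).IsKProjective :=
      isKProjective_extCx (algebraMap R R') X₃
    let eL : (LBase (algebraMap R R')).obj (DerivedCategory.Q.obj X₃) ≅
        DerivedCategory.Q.obj ((extCx (algebraMap R R')).obj X₃) :=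
      @asIso _ _ _ _ ((baseCmp (algebraMap R R')).app X₃) hb₁
    let eM' : DerivedCategory.Q.obj ((extCx (algebraMap R R')).obj M') ≅
        (LBase (algebraMap R R')).obj M :=
      (@asIso _ _ _ _ ((baseCmp (algebraMap R R')).app M') hb₂).symm ≪≫
        (LBase (algebraMap R R')).mapIso eM.symm
    obtain ⟨e⟩ := exists_iso_RHom_Q_homCx
      ((LBase (algebraMap R R')).obj (DerivedCategory.Q.obj X₃))
      ((LBase (algebraMap R R')).obj M) ((extCx (algebraMap R R')).obj X₃)
      ((extCx (algebraMap R R')).obj M') eL eM' (isIso_rhoCx _ _)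
    refine IsZero.of_iso (isZero_homology_Q_obj _ j (isZero_homCx_X _ _ j (fun p => ?_)))
      ((DerivedCategory.homologyFunctor (ModuleCat.{u} R') j).mapIso e)
    by_cases hp : m ≤ p
    · exact Or.inl ((ModuleCat.extendScalars.{u, u, u} (algebraMap R R')).map_isZero (hzX p hp))
    · exact Or.inr ((ModuleCat.extendScalars.{u, u, u} (algebraMap R R')).map_isZero
        (hzM _ (by omega)))
  exact isIso_homologyMap_app_of_weakTriOp (bcNat (algebraMap R R') M)
    (weakTriOp_bcSrc (algebraMap R R') M)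
    (weakTriOp_bcTgt' (algebraMap R R') ((LBase (algebraMap R R')).obj M)) T₀ hT₀ i (i + 1) rfl
    (hSvan _ (by omega)) (hSvan _ (by omega)) (hTvan _ (by omega)) (hTvan _ (by omega))

end Flat

end Groth.Agent.Lib.Helper13.DV
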