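import Groth.Agent.Lib.Helper13.HomOp2

/-!
# The biduality map `X ⟶ Hom•(Hom•(X, J), J)`
-/

set_option autoImplicit false
universe u
open CategoryTheory CategoryTheory.Limits
open CochainComplex CochainComplex.HomComplex HomologicalComplex

namespace Groth.Agent.Lib.Helper13.BD

open Groth.Agent.Lib.Helper13.HOp Groth.Agent.Lib.Helper13.HT

variable {A : Type u} [CommRing A]

/-- `φ ↦ (-1)^{np} φ(x)`. -/
noncomputable def evLin (X J : DRing.Cx A) (n : ℤ) (x : X.X n) (p q : ℤ) (hpq : p + n = q) :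
    Cochain X J p →ₗ[A] J.X q where
  toFun φ := ((n * p).negOnePow : ℤˣ) • (φ.v n q (by omega)).hom x
  map_add' φ φ' := by
    rw [Cochain.add_v]
    change ((n * p).negOnePow : ℤˣ) • ((φ.v n q _).hom x + (φ'.v n q _).hom x) = _
    rw [smul_add]
  map_smul' a φ := by
    rw [Cochain.smul_v]
    change ((n * p).negOnePow : ℤˣ) • (a • (φ.v n q _).hom x) = a • _
    rw [smul_comm]

lemma evLin_apply (X J : DRing.Cx A) (n : ℤ) (x : X.X n) (p q : ℤ) (hpq : p + n = q)
    (φ : Cochain X J p) :
    evLin X J n x p q hpq φ = ((n * p).negOnePow : ℤˣ) • (φ.v n q (by omega)).hom x := rfl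

/-- The evaluation cochain at `x`. -/
noncomputable def evCochain (X J : DRing.Cx A) (n : ℤ) (x : X.X n) :
    Cochain (DRing.homCx X J) J n :=
  Cochain.mk (fun p q hpq => ModuleCat.ofHom (evLin X J n x p q hpq))

lemma evCochain_v_apply (X J : DRing.Cx A) (n : ℤ) (x : X.X n) (p q : ℤ) (hpq : p + n = q)
    (φ : Cochain X J p) :
    ((evCochain X J n x).v p q hpq).hom φ =
      ((n * p).negOnePow : ℤˣ) • (φ.v n q (by omega)).hom x := rfl

lemma evCochain_add (X J : DRing.Cx A) (n : ℤ) (x y : X.X n) :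
    evCochain X J n (x + y) = evCochain X J n x + evCochain X J n y := by
  ext p q hpq φ
  rw [Cochain.add_v]
  change ((n * p).negOnePow : ℤˣ) • (Cochain.v (show Cochain X J p from φ) n q _).hom (x + y) =
    ((n * p).negOnePow : ℤˣ) • (Cochain.v (show Cochain X J p from φ) n q _).hom x +
    ((n * p).negOnePow : ℤˣ) • (Cochain.v (show Cochain X J p from φ) n q _).hom y
  rw [map_add, smul_add]

lemma evCochain_smul (X J : DRing.Cx A) (n : ℤ) (a : A) (x : X.X n) :
    evCochain X J n (a • x) = a • evCochain X J n x := by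
  ext p q hpq φ
  rw [Cochain.smul_v]
  change ((n * p).negOnePow : ℤˣ) • (Cochain.v (show Cochain X J p from φ) n q _).hom (a • x) =
    a • (((n * p).negOnePow : ℤˣ) • (Cochain.v (show Cochain X J p from φ) n q _).hom x)
  rw [map_smul, smul_comm]

lemma δ_evCochain (X J : DRing.Cx A) (i j : ℤ) (hij : i + 1 = j) (x : X.X i) :
    δ i j (evCochain X J i x) = evCochain X J j ((X.d i j).hom x) := by
  ext p q hpq φ
  let φ' : Cochain X J p := φ
  rw [δ_v i j hij _ p q hpq (q - 1) (p + 1) rfl rfl]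
  change ((evCochain X J i x).v p (q - 1) (by omega) ≫ J.d (q - 1) q).hom φ' +
    (j.negOnePow • ((DRing.homCx X J).d p (p + 1) ≫ (evCochain X J i x).v (p + 1) q
      (by omega))).hom φ' = ((j * p).negOnePow : ℤˣ) • (φ'.v j q (by omega)).hom ((X.d i j).hom x)
  have h1 : ((evCochain X J i x).v p (q - 1) (by omega) ≫ J.d (q - 1) q).hom φ' =
      ((i * p).negOnePow : ℤˣ) • (J.d (q - 1) q).hom ((φ'.v i (q - 1) (by omega)).hom x) := by
    change (J.d (q - 1) q).hom (((i * p).negOnePow : ℤˣ) • (φ'.v i (q - 1) (by omega)).hom x) = _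
    rw [map_zsmul_unit]
  have h2 : (j.negOnePow • ((DRing.homCx X J).d p (p + 1) ≫ (evCochain X J i x).v (p + 1) q
      (by omega))).hom φ' = (j.negOnePow : ℤˣ) • (((i * (p + 1)).negOnePow : ℤˣ) •
        ((δ p (p + 1) φ').v i q (by omega)).hom x) := rfl
  rw [h1, h2, δ_v p (p + 1) rfl φ' i q (by omega) (q - 1) j rfl hij]
  change _ + (j.negOnePow : ℤˣ) • (((i * (p + 1)).negOnePow : ℤˣ) •
    ((J.d (q - 1) q).hom ((φ'.v i (q - 1) (by omega)).hom x) +
      ((p + 1).negOnePow : ℤˣ) • (φ'.v j q (by omega)).hom ((X.d i j).hom x))) = _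
  subst hij
  simp only [smul_add, smul_smul]
  have e1 : (i + 1).negOnePow * (i * (p + 1)).negOnePow = -(i * p).negOnePow := by
    rw [← Int.negOnePow_add, show i + 1 + i * (p + 1) = i * p + (2 * i + 1) by ring,
      Int.negOnePow_add, Int.negOnePow_two_mul_add_one, mul_neg, mul_one]
  have e2 : (i + 1).negOnePow * ((i * (p + 1)).negOnePow * (p + 1).negOnePow) =
      ((i + 1) * p).negOnePow := by
    rw [← Int.negOnePow_add, ← Int.negOnePow_add,
      show i + 1 + (i * (p + 1) + (p + 1)) = (i + 1) * p + 2 * (i + 1) by ring,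
      Int.negOnePow_add, Int.negOnePow_two_mul, mul_one]
  rw [e1, e2, Units.neg_smul, ← add_assoc, add_neg_cancel, zero_add]

end Groth.Agent.Lib.Helper13.BD

namespace Groth.Agent.Lib.Helper13.BD

open Groth.Agent.Lib.Helper13.HOp Groth.Agent.Lib.Helper13.HT

variable {A : Type u} [CommRing A]

/-- `x ↦ ev_x`, as a linear map. -/
noncomputable def bidLin (X J : DRing.Cx A) (n : ℤ) : X.X n →ₗ[A] Cochain (DRing.homCx X J) J n where
  toFun x := evCochain X J n x
  map_add' x y := evCochain_add X J n x y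
  map_smul' a x := evCochain_smul X J n a x

/-- The biduality map `X ⟶ Hom•(Hom•(X, J), J)`. -/
noncomputable def bid (X J : DRing.Cx A) : X ⟶ DRing.homCx (DRing.homCx X J) J where
  f n := ModuleCat.ofHom (bidLin X J n)
  comm' i j hij := by
    ext x
    exact (δ_evCochain X J i j hij x)

lemma bid_f_apply (X J : DRing.Cx A) (n : ℤ) (x : X.X n) :
    ((bid X J).f n).hom x = evCochain X J n x := rfl

variable (A) in
/-- `A` in degree `0`. -/
noncomputable abbrev VA : DRing.Cx A :=
  (CochainComplex.singleFunctor (ModuleCat.{u} A) 0).obj (ModuleCat.of A A)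

/-- Cochains of degree `n` to `A[0]` are linear forms on the term of degree `-n`. -/
noncomputable def toDualAt (Y : DRing.Cx A) (p n : ℤ) (h : p + n = 0) :
    Cochain Y (VA A) n ≃ₗ[A] (Y.X p →ₗ[A] A) where
  toFun c := (Cochain.toSingleEquiv (K := Y) (X := ModuleCat.of A A) h c).hom
  invFun g := Cochain.toSingleMk (K := Y) (X := ModuleCat.of A A) (ModuleCat.ofHom g) h
  map_add' c c' := by
    rw [map_add]
    rfl
  map_smul' a c := by
    have : Cochain.toSingleEquiv (K := Y) (X := ModuleCat.of A A) h (a • c) =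
        a • Cochain.toSingleEquiv (K := Y) (X := ModuleCat.of A A) h c := by
      simp only [Cochain.toSingleEquiv, AddEquiv.coe_mk, Equiv.coe_fn_mk, Cochain.smul_v]
      erw [Linear.smul_comp]
    rw [this]
    rfl
  left_inv c := by
    dsimp only
    rw [ModuleCat.ofHom_hom]
    exact (Cochain.toSingleEquiv (K := Y) (X := ModuleCat.of A A) h).symm_apply_apply c
  right_inv g := by
    dsimp only
    rw [Cochain.toSingleEquiv_toSingleMk]
    rfl

lemma toDualAt_apply (Y : DRing.Cx A) (p n : ℤ) (h : p + n = 0) (c : Cochain Y (VA A) n)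
    (y : Y.X p) :
    toDualAt Y p n h c y =
      (HomologicalComplex.singleObjXSelf (ComplexShape.up ℤ) 0 (ModuleCat.of A A)).hom.hom
        ((c.v p 0 h).hom y) := rfl

end Groth.Agent.Lib.Helper13.BD
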