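import Groth.Agent.Lib.Helper13.HomOp1
import Groth.Agent.Lib.Helper13.KProjCone

/-!
# `Hom•(E, -)` preserves homotopies
-/

set_option autoImplicit false
universe u
open CategoryTheory CategoryTheory.Limits
open CochainComplex CochainComplex.HomComplex HomologicalComplex

namespace Groth.Agent.Lib.Helper13.HP

attribute [local instance] HasDerivedCategory.standard

variable {A : Type u} [CommRing A]

/-- Postcomposition with a cochain, as a linear map on cochains. -/
noncomputable def postLin (E : DRing.Cx A) {K L : DRing.Cx A} {n : ℤ} (γ : Cochain K L n)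
    (p q : ℤ) (hpq : p + n = q) : Cochain E K p →ₗ[A] Cochain E L q where
  toFun z := z.comp γ hpq
  map_add' z z' := Cochain.add_comp z z' γ hpq
  map_smul' a z := Cochain.smul_comp a z γ hpq

/-- Postcomposition with a cochain, as a cochain between Hom complexes. -/
noncomputable def postCochain (E : DRing.Cx A) {K L : DRing.Cx A} {n : ℤ} (γ : Cochain K L n) :
    Cochain (DRing.homCx E K) (DRing.homCx E L) n :=
  Cochain.mk (fun p q hpq => ModuleCat.ofHom (postLin E γ p q hpq))

lemma postCochain_v_apply (E : DRing.Cx A) {K L : DRing.Cx A} {n : ℤ} (γ : Cochain K L n)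
    (p q : ℤ) (hpq : p + n = q) (z : Cochain E K p) :
    ((postCochain E γ).v p q hpq).hom z = z.comp γ hpq := rfl

lemma δ_postCochain (E : DRing.Cx A) {K L : DRing.Cx A} {n : ℤ} (γ : Cochain K L n) (m : ℤ)
    (hnm : n + 1 = m) : δ n m (postCochain E γ) = postCochain E (δ n m γ) := by
  ext p q hpq z
  rw [δ_v n m hnm _ p q hpq (q - 1) (p + 1) rfl rfl]
  let z : Cochain E K p := z
  change δ (q - 1) q (z.comp γ (by omega)) +
    m.negOnePow • ((δ p (p + 1) z).comp γ (by omega)) = z.comp (δ n m γ) hpq
  rw [δ_comp z γ (show p + n = q - 1 by omega) (p + 1) m q (by omega) rfl hnm]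
  subst hnm
  rw [Int.negOnePow_succ, add_assoc, Units.neg_smul, add_neg_cancel, add_zero]

lemma postCochain_ofHom (E : DRing.Cx A) {K L : DRing.Cx A} (f : K ⟶ L) :
    postCochain E (Cochain.ofHom f) = Cochain.ofHom (DRing.homCxMap E f) := by
  ext p z
  rw [Cochain.ofHom_v]
  rfl

lemma postCochain_add (E : DRing.Cx A) {K L : DRing.Cx A} {n : ℤ} (γ γ' : Cochain K L n) :
    postCochain E (γ + γ') = postCochain E γ + postCochain E γ' := by
  ext p q hpq z
  rw [Cochain.add_v]
  let z : Cochain E K p := z
  change z.comp (γ + γ') hpq = z.comp γ hpq + z.comp γ' hpq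
  rw [Cochain.comp_add]

/-- `Hom•(E, -)` preserves homotopies. -/
noncomputable def homCxMapHomotopy (E : DRing.Cx A) {K L : DRing.Cx A} {f g : K ⟶ L}
    (H : Homotopy f g) : Homotopy (DRing.homCxMap E f) (DRing.homCxMap E g) :=
  (Cochain.equivHomotopy _ _).symm ⟨postCochain E (Cochain.ofHomotopy H), by
    rw [δ_postCochain E _ 0 (by omega), δ_ofHomotopy, ← postCochain_ofHom, ← postCochain_ofHom,
      ← postCochain_add, sub_add_cancel]⟩

end Groth.Agent.Lib.Helper13.HP
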