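import Groth.Prelude.Def_DRing3
import Groth.Agent.Lib.Helper17.DerKInj
import Groth.Agent.Lib.Helper17.KInjRes
import Groth.Agent.Lib.Helper13.QIsoElem

/-!
# `RΓ_I` computed on K-injective complexes
-/

set_option autoImplicit false
universe u
open CategoryTheory CategoryTheory.Limits

namespace Groth.Agent.Lib.Helper13.RG

open Groth.Agent.Lib.Helper17 Groth.Agent.Lib.Helper17.DerKInj Groth.Agent.Lib.Helper17.DerAbs
open DerivedCategory

attribute [local instance] HasDerivedCategory.standard

variable {A : Type u} [CommRing A] (I : Ideal A)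

/-- Termwise `Γ_I` on complexes. -/
noncomputable abbrev gamCx : DRing.Cx A ⥤ DRing.Cx A :=
  (DRing.gammaI I).mapHomologicalComplex (ComplexShape.up ℤ)

lemma hasKInjRes : HasKInjRes (ModuleCat.{u} A) := hasKInjRes_of_isGrothendieckAbelian

variable [DRing.HasRgammaI I]

/-- The unit of `RΓ_I`. -/
noncomputable abbrev unitR : DRing.gammaIKh I ⟶ DerivedCategory.Qh ⋙ DRing.RgammaI I :=
  (DRing.gammaIKh I).totalRightDerivedUnit DerivedCategory.Qh
    (HomotopyCategory.quasiIso (ModuleCat.{u} A) (ComplexShape.up ℤ))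

lemma isIso_unitR_app (J : DRing.Cx A) [J.IsKInjective] :
    IsIso ((unitR I).app ((HomotopyCategory.quotient _ _).obj J)) :=
  DerAbs.isIso_app (enoughLocal_Qh hasKInjRes) (compat_Qh (DRing.gammaIKh I)) (DRing.RgammaI I)
    (unitR I) ⟨J, inferInstance, rfl⟩ (isLocalObj_Qh J)

/-- `Q(Γ_I J) ≅ RΓ_I(Q J)` for `J` K-injective. -/
noncomputable def RgamIso (J : DRing.Cx A) [J.IsKInjective] :
    Q.obj ((gamCx I).obj J) ≅ (DRing.RgammaI I).obj (Q.obj J) :=
  Qh.mapIso (((DRing.gammaI I).mapHomotopyCategoryFactors (ComplexShape.up ℤ)).app J).symm ≪≫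
    @asIso _ _ _ _ ((unitR I).app ((HomotopyCategory.quotient _ _).obj J)) (isIso_unitR_app I J)

lemma RgamIso_naturality {J J' : DRing.Cx A} [J.IsKInjective] [J'.IsKInjective] (g : J ⟶ J') :
    Q.map ((gamCx I).map g) ≫ (RgamIso I J').hom =
      (RgamIso I J).hom ≫ (DRing.RgammaI I).map (Q.map g) := by
  have h1 : Qh.map (((DRing.gammaI I).mapHomotopyCategory (ComplexShape.up ℤ)).map
      ((HomotopyCategory.quotient _ _).map g)) ≫
      (unitR I).app ((HomotopyCategory.quotient _ _).obj J') =
      (unitR I).app ((HomotopyCategory.quotient _ _).obj J) ≫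
        (DRing.RgammaI I).map (Q.map g) :=
    (unitR I).naturality ((HomotopyCategory.quotient _ _).map g)
  have h2 : (HomotopyCategory.quotient _ _).map ((gamCx I).map g) ≫
      ((DRing.gammaI I).mapHomotopyCategoryFactors (ComplexShape.up ℤ)).inv.app J' =
      ((DRing.gammaI I).mapHomotopyCategoryFactors (ComplexShape.up ℤ)).inv.app J ≫
        ((DRing.gammaI I).mapHomotopyCategory (ComplexShape.up ℤ)).map
          ((HomotopyCategory.quotient _ _).map g) :=
    ((DRing.gammaI I).mapHomotopyCategoryFactors (ComplexShape.up ℤ)).inv.naturality g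
  dsimp only [RgamIso, Iso.trans_hom, Functor.mapIso_hom, Iso.symm_hom, asIso_hom, Iso.app_inv]
  rw [Category.assoc]
  change Qh.map ((HomotopyCategory.quotient _ _).map ((gamCx I).map g)) ≫
    Qh.map (((DRing.gammaI I).mapHomotopyCategoryFactors (ComplexShape.up ℤ)).inv.app J') ≫ _ = _
  rw [← Category.assoc, ← Functor.map_comp, h2, Functor.map_comp, Category.assoc]
  exact congrArg (fun t => Qh.map (((DRing.gammaI I).mapHomotopyCategoryFactors (ComplexShape.up ℤ)).inv.app J) ≫ t) h1

end Groth.Agent.Lib.Helper13.RG
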