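import Groth.Agent.Lib.Helper13.DRingTor2
import Groth.Agent.Lib.Helper13.DRingProj

set_option autoImplicit false
universe u
open CategoryTheory CategoryTheory.Limits TensorProduct MonoidalCategory

namespace Groth.Agent.Lib.Helper13.DR

open Groth.Agent.Lib.Helper13.PC
open DerivedCategory
attribute [local instance] HasDerivedCategory.standard

variable {R : Type u} [CommRing R]

/-- A bounded above projective resolution mapping quasi-isomorphically to a given complex. -/
lemma exists_projective_quasiIso (F : DRing.Cx R) (c : ℤ)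
    (hc : ∀ i : ℤ, c < i → IsZero (F.homology i)) :
    ∃ (P : DRing.Cx R) (φ : P ⟶ F), QuasiIso φ ∧ (∀ i : ℤ, Projective (P.X i)) ∧
      (∀ i : ℤ, c < i → IsZero (P.X i)) := by
  obtain ⟨P, hP, hz, ⟨e⟩⟩ := exists_projective_rep (Q.obj F) c
    (fun i hi => (hc i hi).of_iso (homologyQIso F i))
  have : P.IsKProjective := isKProjective_of_forall_projective P c hz hP
  obtain ⟨φ, hφ⟩ := exists_Q_map_eq e.hom
  have hiso : IsIso (Q.map φ) := by rw [hφ]; infer_instance
  rw [isIso_Q_map_iff_quasiIso] at hiso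
  exact ⟨P, φ, hiso, hP, hz⟩

lemma flat_of_projective' (M : ModuleCat.{u} R) (h : Projective M) : Module.Flat R M := by
  have := (projective_iff M).1 h
  infer_instance

/-- Tor amplitude forces vanishing of `H^i(P ⊗ N)` for every bounded above flat representative. -/
theorem tensor_vanishing_of_hasTorAmplitudeIn {K : Dual.D R} {a b : ℤ}
    (hK : DRing.HasTorAmplitudeIn R a b K) (P : DRing.Cx R) (c : ℤ)
    (hc : ∀ i : ℤ, c < i → IsZero (P.X i)) (hfl : ∀ i : ℤ, Module.Flat R (P.X i))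
    (e : Q.obj P ≅ K) (N : ModuleCat.{u} R) (i : ℤ) (hi : i < a ∨ b < i) :
    IsZero (((tensorCx N).obj P).homology i) := by
  obtain ⟨F, hv, hflF, ⟨eF⟩⟩ := hK
  obtain ⟨P', φ, hφ, hP', hz'⟩ := exists_projective_quasiIso F b (fun i hi =>
    ShortComplex.isZero_homology_of_isZero_X₂ _ (hv i (Or.inr hi)))
  have : P'.IsKProjective := isKProjective_of_forall_projective P' b hz' hP'
  obtain ⟨ψ, hψ⟩ := exists_Q_map_eq (Q.map φ ≫ eF.hom ≫ e.inv)
  have : IsIso (Q.map φ) := by rw [isIso_Q_map_iff_quasiIso]; exact hφ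
  have hiso : IsIso (Q.map ψ) := by rw [hψ]; infer_instance
  rw [isIso_Q_map_iff_quasiIso] at hiso
  have hflP' : ∀ i : ℤ, Module.Flat R (P'.X i) := fun i => flat_of_projective' _ (hP' i)
  have h1 := quasiIso_tensorCx_map φ (max b c) (fun i hi => hz' i (by lia))
    (fun i hi => hv i (Or.inr (by lia))) hflP' hflF N
  have h2 := quasiIso_tensorCx_map ψ (max b c) (fun i hi => hz' i (by lia))
    (fun i hi => hc i (by lia)) hflP' hfl N
  rw [← isZero_homology_of_quasiIso ((tensorCx N).map ψ) i,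
    isZero_homology_of_quasiIso ((tensorCx N).map φ) i]
  exact ShortComplex.isZero_homology_of_isZero_X₂ _
    (Functor.map_isZero (tensorRight N) (hv i hi))

/-- The criterion for tor amplitude in terms of a bounded above flat representative. -/
theorem hasTorAmplitudeIn_Q_iff (P : DRing.Cx R) (c : ℤ)
    (hc : ∀ i : ℤ, c < i → IsZero (P.X i)) (hfl : ∀ i : ℤ, Module.Flat R (P.X i)) (a b : ℤ) :
    DRing.HasTorAmplitudeIn R a b (Q.obj P) ↔
      ∀ (N : ModuleCat.{u} R) (i : ℤ), (i < a ∨ b < i) →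
        IsZero (((tensorCx N).obj P).homology i) :=
  ⟨fun h N i hi => tensor_vanishing_of_hasTorAmplitudeIn h P c hc hfl (Iso.refl _) N i hi,
    hasTorAmplitudeIn_of_tensor_vanishing P c hc hfl a b⟩

lemma hasTorAmplitudeIn_of_iso {K L : Dual.D R} (e : K ≅ L) {a b : ℤ}
    (h : DRing.HasTorAmplitudeIn R a b K) : DRing.HasTorAmplitudeIn R a b L := by
  obtain ⟨F, hv, hfl, ⟨e'⟩⟩ := h
  exact ⟨F, hv, hfl, ⟨e' ≪≫ e⟩⟩

lemma hasTorAmplitudeIn_mono {K : Dual.D R} {a b a' b' : ℤ} (ha : a' ≤ a) (hb : b ≤ b')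
    (h : DRing.HasTorAmplitudeIn R a b K) : DRing.HasTorAmplitudeIn R a' b' K := by
  obtain ⟨F, hv, hfl, e⟩ := h
  exact ⟨F, fun i hi => hv i (by lia), hfl, e⟩

lemma isZero_HD_of_hasTorAmplitudeIn {K : Dual.D R} {a b : ℤ}
    (h : DRing.HasTorAmplitudeIn R a b K) (i : ℤ) (hi : i < a ∨ b < i) :
    IsZero ((DerivedCategory.homologyFunctor (ModuleCat.{u} R) i).obj K) := by
  obtain ⟨F, hv, hfl, ⟨e⟩⟩ := h
  exact (ShortComplex.isZero_homology_of_isZero_X₂ _ (hv i hi)).of_iso
    ((DerivedCategory.homologyFunctor _ i).mapIso e.symm ≪≫ homologyQIso F i)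

end Groth.Agent.Lib.Helper13.DR
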