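import Groth.Agent.Lib.Helper13.HomTensor
import Mathlib.Algebra.Homology.HomotopyCategory.HomComplexCohomology
import Mathlib.Algebra.Homology.HomotopyCategory.KProjective
import Mathlib.Algebra.Homology.HomotopyCategory.ShiftSequence
import Mathlib.Algebra.Homology.ShortComplex.ModuleCat

/-!
# Tensor products of K-projective complexes are K-projective
-/

set_option autoImplicit false
universe u
open CategoryTheory CategoryTheory.Limits MonoidalCategory
open CochainComplex CochainComplex.HomComplex HomologicalComplex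

namespace Groth.Agent.Lib.Helper13.HT

section General

variable {C : Type*} [Category C] [Abelian C]

lemma acyclic_shift (Z : CochainComplex C ℤ) (hZ : Z.Acyclic) (n : ℤ) : (Z⟦n⟧).Acyclic := by
  intro i
  rw [HomologicalComplex.exactAt_iff_isZero_homology]
  refine IsZero.of_iso ((hZ (n + i)).isZero_homology)
    ((CochainComplex.ShiftSequence.shiftIso C n i (n + i) rfl).app Z)

/-- For `P` K-projective and `Z` acyclic, every cocycle `P ⟶ Z` is a coboundary. -/
lemma exists_δ_eq_of_isKProjective (P Z : CochainComplex C ℤ) [P.IsKProjective] (hZ : Z.Acyclic)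
    (n m : ℤ) (hm : m + 1 = n) (z : Cochain P Z n) (hz : δ n (n + 1) z = 0) :
    ∃ w : Cochain P Z m, δ m n w = z := by
  let c : Cocycle P Z n := Cocycle.mk z (n + 1) rfl hz
  have h0 : CohomologyClass.toHom (CohomologyClass.mk c) = 0 := by
    apply IsKProjective.leftOrthogonal P
    rw [HomotopyCategory.quotient_obj_mem_subcategoryAcyclic_iff_acyclic]
    exact acyclic_shift Z hZ n
  rw [CohomologyClass.toHom_mk_eq_zero_iff, mem_coboundaries_iff c m hm] at h0
  exact h0

end General


section Modules

variable {A : Type u} [CommRing A]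

/-- Elementwise criterion for exactness of a complex of modules. -/
lemma exactAt_iff_forall (X : DRing.Cx A) (n0 n n2 : ℤ) (h0 : n0 + 1 = n) (h2 : n + 1 = n2) :
    X.ExactAt n ↔ ∀ x : X.X n, (X.d n n2).hom x = 0 → ∃ y : X.X n0, (X.d n0 n).hom y = x := by
  rw [HomologicalComplex.exactAt_iff' X n0 n n2 (by simp [← h0]) (by simp [← h2]),
    ShortComplex.moduleCat_exact_iff]
  rfl

/-- `Hom(P, Z)` is acyclic for `P` K-projective and `Z` acyclic. -/
lemma acyclic_homCx (P Z : DRing.Cx A) [P.IsKProjective] (hZ : Z.Acyclic) :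
    (DRing.homCx P Z).Acyclic := by
  intro n
  rw [exactAt_iff_forall _ (n - 1) n (n + 1) (by omega) rfl]
  intro z hz
  exact exists_δ_eq_of_isKProjective P Z hZ n (n - 1) (by omega) z hz

/-- A chain map whose cochain is a coboundary is null-homotopic. -/
lemma nonempty_homotopy_zero_of_δ {X Y : DRing.Cx A} (f : X ⟶ Y) (w : Cochain X Y (-1))
    (hw : δ (-1) 0 w = Cochain.ofHom f) : Nonempty (Homotopy f 0) :=
  ⟨(Cochain.equivHomotopy f 0).symm ⟨w, by rw [hw]; simp⟩⟩

lemma exists_δ_of_homotopy_zero {X Y : DRing.Cx A} (f : X ⟶ Y) (h : Homotopy f 0) :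
    ∃ w : Cochain X Y (-1), δ (-1) 0 w = Cochain.ofHom f := by
  obtain ⟨w, hw⟩ := Cochain.equivHomotopy f 0 h
  exact ⟨w, by rw [hw]; simp⟩

/-- The tensor product of two K-projective complexes is K-projective. -/
theorem isKProjective_tensor (P P' : DRing.Cx A) [P.IsKProjective] [P'.IsKProjective] :
    CochainComplex.IsKProjective (P ⊗ P') := by
  constructor
  intro Z f hZ
  have hδ : δ 0 1 (curry (Cochain.ofHom f)) = 0 := by
    rw [← curry_δ P P' Z 0 1 rfl, δ_ofHom]
    exact (curryEquiv (K := P) (L := P') (M := Z) 1).map_zero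
  let c : Cocycle P (DRing.homCx P' Z) 0 := Cocycle.mk _ 1 rfl hδ
  let g : P ⟶ DRing.homCx P' Z := Cocycle.homOf c
  have hg : Cochain.ofHom g = curry (Cochain.ofHom f) := Cocycle.cochain_ofHom_homOf_eq_coe c
  obtain ⟨w, hw⟩ := exists_δ_of_homotopy_zero g
    (IsKProjective.homotopyZero g (acyclic_homCx P' Z hZ))
  refine nonempty_homotopy_zero_of_δ f (uncurry w) ?_
  rw [← uncurry_δ (-1) 0 (by omega), hw, hg, uncurry_curry]

end Modules

end Groth.Agent.Lib.Helper13.HT
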