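import Groth.Agent.Lib.Helper13.RHomModel1
import Groth.Agent.Lib.Helper13.HomTensorKProj
import Groth.Agent.Lib.Helper13.DRingTor3

set_option autoImplicit false
universe u
open CategoryTheory CategoryTheory.Limits MonoidalCategory Pretriangulated
open CochainComplex CochainComplex.HomComplex HomologicalComplex

namespace Groth.Agent.Lib.Helper13.DV

open DTen Groth.Agent.Lib.Helper13.HT Groth.Agent.Lib.Helper13.SF Groth.Agent.Lib.Helper13.KP
  Groth.Agent.Lib.Helper13.DT

attribute [local instance] HasDerivedCategory.standard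

variable {A : Type u} [CommRing A]

/-- Naturality of uncurrying in the target. -/
lemma uncurryHom_comp_homCxMap {X P L L' : DRing.Cx A} (u : X ⟶ DRing.homCx P L) (f : L ⟶ L') :
    uncurryHom (u ≫ DRing.homCxMap P f) = uncurryHom u ≫ f := by
  refine HomologicalComplex.hom_ext _ _ (fun n => ?_)
  apply HomologicalComplex.mapBifunctor.hom_ext
  intro p a hpa
  have hpa' : p + a = n := hpa
  change ιTensorObj X P p a n hpa' ≫ (uncurryHom (u ≫ DRing.homCxMap P f)).f n =
    ιTensorObj X P p a n hpa' ≫ (uncurryHom u ≫ f).f n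
  apply ModuleCat.hom_ext
  apply TensorProduct.ext'
  intro x y
  have hL := ι_uncurryHom_f_apply (u ≫ DRing.homCxMap P f) p a n hpa' x y
  have hR : (ιTensorObj X P p a n hpa' ≫ (uncurryHom u ≫ f).f n).hom (x ⊗ₜ y) =
      (f.f n).hom ((ιTensorObj X P p a n hpa' ≫ (uncurryHom u).f n).hom (x ⊗ₜ y)) := by
    rw [HomologicalComplex.comp_f, ← Category.assoc]
    rfl
  rw [hL, hR, ι_uncurryHom_f_apply u]
  change (Cochain.v (((u.f p).hom x).comp (Cochain.ofHom f) (add_zero p)) a n _).hom y = _
  rw [Cochain.comp_zero_cochain_v, Cochain.ofHom_v]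
  rfl

/-- The class of `uncurryHom u` only depends on the class of `u`. -/
lemma Q_map_uncurryHom_eq {X P L : DRing.Cx A} {u u' : X ⟶ DRing.homCx P L}
    (h : Nonempty (Homotopy u u')) :
    DerivedCategory.Q.map (uncurryHom u) = DerivedCategory.Q.map (uncurryHom u') := by
  rw [← whiskerRight_evCx u, ← whiskerRight_evCx u', Functor.map_comp, Functor.map_comp]
  congr 1
  have e := Q_map_tensorHom_eq h (⟨Homotopy.refl (𝟙 P)⟩ : Nonempty (Homotopy (𝟙 P) (𝟙 P)))
  rw [tensorHom_id, tensorHom_id] at e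
  exact e

/-- `Hom•(P, -)` preserves quasi-isomorphisms for K-projective `P`. -/
theorem isIso_Q_map_homCxMap (P : DRing.Cx A) [P.IsKProjective] {L L' : DRing.Cx A} (f : L ⟶ L')
    [QuasiIso f] : IsIso (DerivedCategory.Q.map (DRing.homCxMap P f)) := by
  have hf : IsIso (DerivedCategory.Q.map f) := by
    rw [DerivedCategory.isIso_Q_map_iff_quasiIso]; infer_instance
  apply isIso_of_yoneda_map_bijective
  intro W
  obtain ⟨X, hX, -, ⟨eW⟩⟩ := exists_kprojective_rep W
  have hXP : CochainComplex.IsKProjective (X ⊗ P) := isKProjective_tensor X P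
  constructor
  · intro φ φ' h
    dsimp only at h
    obtain ⟨u, hu⟩ := exists_Q_map_eq (eW.hom ≫ φ)
    obtain ⟨u', hu'⟩ := exists_Q_map_eq (eW.hom ≫ φ')
    have h1 : DerivedCategory.Q.map (u ≫ DRing.homCxMap P f) =
        DerivedCategory.Q.map (u' ≫ DRing.homCxMap P f) := by
      rw [Functor.map_comp, Functor.map_comp, hu, hu', Category.assoc, Category.assoc, h]
    have h2 := Q_map_uncurryHom_eq (nonempty_homotopy_of_Q_map_eq h1)
    rw [uncurryHom_comp_homCxMap, uncurryHom_comp_homCxMap, Functor.map_comp, Functor.map_comp,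
      cancel_mono] at h2
    obtain ⟨H⟩ := nonempty_homotopy_of_Q_map_eq h2
    obtain ⟨H'⟩ := nonempty_homotopy_of_uncurryHom H
    have h3 := KP.Q_map_eq_of_homotopy H'
    rw [hu, hu', cancel_epi] at h3
    exact h3
  · intro ψ
    obtain ⟨v', hv'⟩ := exists_Q_map_eq (eW.hom ≫ ψ)
    obtain ⟨w, hw⟩ := exists_Q_map_eq
      (DerivedCategory.Q.map (uncurryHom v') ≫ inv (DerivedCategory.Q.map f))
    refine ⟨eW.inv ≫ DerivedCategory.Q.map (curryHom w), ?_⟩
    dsimp only
    rw [Category.assoc, Iso.inv_comp_eq, ← Functor.map_comp, ← hv']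
    have h1 : DerivedCategory.Q.map (uncurryHom (curryHom w ≫ DRing.homCxMap P f)) =
        DerivedCategory.Q.map (uncurryHom v') := by
      rw [uncurryHom_comp_homCxMap, uncurryHom_curryHom, Functor.map_comp, hw, Category.assoc,
        IsIso.inv_hom_id, Category.comp_id]
    obtain ⟨H⟩ := nonempty_homotopy_of_Q_map_eq h1
    obtain ⟨H'⟩ := nonempty_homotopy_of_uncurryHom H
    exact KP.Q_map_eq_of_homotopy H'

/-- `RHom(P, L) ≅ Hom•(P, L)` for K-projective `P`. -/
theorem nonempty_RHomCx_iso_homCx (P : DRing.Cx A) [P.IsKProjective] [DRing.HasRHomCx P]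
    (L : DRing.Cx A) :
    Nonempty ((DRing.RHomCx P).obj (DRing.toD L) ≅ DRing.toD (DRing.homCx P L)) := by
  have hinv : (HomologicalComplex.quasiIso (ModuleCat.{u} A) (ComplexShape.up ℤ)).IsInvertedBy
      (DRing.homCxQ P) := by
    intro L L' f hf
    have : QuasiIso f := hf
    exact isIso_Q_map_homCxMap P f
  have := Functor.isIso_of_isRightDerivedFunctor_of_inverts (L := DerivedCategory.Q)
    (DRing.RHomCx P) ((DRing.homCxQ P).totalRightDerivedUnit DerivedCategory.Q
      (HomologicalComplex.quasiIso (ModuleCat.{u} A) (ComplexShape.up ℤ))) hinv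
  exact ⟨((asIso ((DRing.homCxQ P).totalRightDerivedUnit DerivedCategory.Q
      (HomologicalComplex.quasiIso (ModuleCat.{u} A) (ComplexShape.up ℤ)))).app L).symm⟩

end Groth.Agent.Lib.Helper13.DV
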