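import Groth.Agent.Lib.Helper13.BiDual1
import Groth.Agent.Lib.Helper13.HomPost1
import Groth.Agent.Lib.Helper13.RGam1
import Groth.Agent.Lib.Helper13.RHomCxV

/-!
# `RHom(E, -)` computed on K-injectives, and invariance in the first variable
-/

set_option autoImplicit false
universe u
open CategoryTheory CategoryTheory.Limits Opposite
open CochainComplex CochainComplex.HomComplex HomologicalComplex

namespace Groth.Agent.Lib.Helper13.BD

open Groth.Agent.Lib.Helper13.HOp Groth.Agent.Lib.Helper13.HT Groth.Agent.Lib.Helper13.HP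
open Groth.Agent.Lib.Helper17 Groth.Agent.Lib.Helper17.DerKInj Groth.Agent.Lib.Helper17.DerAbs

attribute [local instance] HasDerivedCategory.standard

variable {A : Type u} [CommRing A]

lemma compat_homCxQ (E : DRing.Cx A) :
    Compat (DerivedCategory.Q (C := ModuleCat.{u} A)) PK (DRing.homCxQ E) := by
  apply compat_Q
  intro K L f g h
  exact DerivedCategory.Q_map_eq_of_homotopy _ (homCxMapHomotopy E h)

/-- `RHom(E, J) ≅ Hom•(E, J)` for K-injective `J`. -/
theorem nonempty_RHomCx_iso_of_isKInjective (E : DRing.Cx A) [DRing.HasRHomCx E]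
    (J : DRing.Cx A) [J.IsKInjective] :
    Nonempty ((DRing.RHomCx E).obj (DerivedCategory.Q.obj J) ≅
      DerivedCategory.Q.obj (DRing.homCx E J)) := by
  have hu : IsIso (((DRing.homCxQ E).totalRightDerivedUnit DerivedCategory.Q
      (HomologicalComplex.quasiIso (ModuleCat.{u} A) (ComplexShape.up ℤ))).app J) :=
    DerAbs.isIso_app (enoughLocal_Q RG.hasKInjRes) (compat_homCxQ E)
      (DRing.RHomCx E) _ (show PK J from (inferInstance : J.IsKInjective)) (isLocalObj_Q J)
  exact ⟨(asIso (((DRing.homCxQ E).totalRightDerivedUnit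
      DerivedCategory.Q (HomologicalComplex.quasiIso (ModuleCat.{u} A) (ComplexShape.up ℤ))).app J)).symm⟩

/-- `RHom(E, L) ≅ Hom•(P, L)` when `P` is a K-projective complex isomorphic to `E` in `D(A)`. -/
theorem nonempty_RHomCx_iso_homCx_of_iso (E : DRing.Cx A) [DRing.HasRHomCx E]
    (P : DRing.Cx A) [P.IsKProjective] (e : DRing.toD E ≅ DRing.toD P) (L : DRing.Cx A) :
    Nonempty ((DRing.RHomCx E).obj (DRing.toD L) ≅ DRing.toD (DRing.homCx P L)) := by
  obtain ⟨J, f, hJ, hf⟩ := (RG.hasKInjRes (A := A)) L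
  have hf' : IsIso (DerivedCategory.Q.map f) := by
    rw [DerivedCategory.isIso_Q_map_iff_quasiIso]; exact hf
  obtain ⟨e1⟩ := nonempty_RHomCx_iso_of_isKInjective E J
  have h2 : IsIso (DerivedCategory.Q.map (DRing.homCxMap P f)) := DV.isIso_Q_map_homCxMap P f
  exact ⟨(DRing.RHomCx E).mapIso (asIso (DerivedCategory.Q.map f)) ≪≫ e1 ≪≫
    ((DJIso J).app (op E)).symm ≪≫ (DJ J).mapIso e.symm.op ≪≫ (DJIso J).app (op P) ≪≫
    (asIso (DerivedCategory.Q.map (DRing.homCxMap P f))).symm⟩

end Groth.Agent.Lib.Helper13.BD
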