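import Groth.Agent.Lib.Helper13.BiDual2
import Groth.Agent.Lib.Helper13.DRingProj
import Mathlib.LinearAlgebra.Dual.Lemmas

/-!
# Biduality for strictly perfect complexes
-/

set_option autoImplicit false
universe u
open CategoryTheory CategoryTheory.Limits Opposite
open CochainComplex CochainComplex.HomComplex HomologicalComplex

namespace Groth.Agent.Lib.Helper13.BD

open Groth.Agent.Lib.Helper13.HOp Groth.Agent.Lib.Helper13.HT Groth.Agent.Lib.Helper13.HP

attribute [local instance] HasDerivedCategory.standard

variable {A : Type u} [CommRing A]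

lemma vanishesOutside_dual (P : DRing.Cx A) (a b : ℤ) (h : DRing.VanishesOutside P a b) :
    DRing.VanishesOutside (DRing.homCx P (VA A)) (-b) (-a) := by
  intro n hn
  have hz : IsZero (P.X (-n)) := h (-n) (by omega)
  have : Subsingleton (P.X (-n)) := ModuleCat.subsingleton_of_isZero hz
  have : Subsingleton (P.X (-n) →ₗ[A] A) := ⟨fun f g => LinearMap.ext fun x => by
    rw [Subsingleton.elim x 0, map_zero, map_zero]⟩
  have : Subsingleton (Cochain P (VA A) n) :=
    (toDualAt P (-n) n (by omega)).toEquiv.subsingleton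
  exact ModuleCat.isZero_of_subsingleton (ModuleCat.of A (Cochain P (VA A) n))

lemma termwiseFiniteProjective_dual (P : DRing.Cx A) (h : DRing.TermwiseFiniteProjective P) :
    DRing.TermwiseFiniteProjective (DRing.homCx P (VA A)) := by
  intro n
  obtain ⟨h1, h2⟩ := h (-n)
  have e := toDualAt P (-n) n (by omega)
  have f1 : Module.Finite A (Module.Dual A (P.X (-n))) := inferInstance
  have f2 : Module.Projective A (Module.Dual A (P.X (-n))) := inferInstance
  exact ⟨Module.Finite.equiv e.symm, Module.Projective.of_equiv e.symm⟩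

lemma toDualAt_evCochain (P : DRing.Cx A) (n : ℤ) (x : P.X n) (φ : Cochain P (VA A) (-n)) :
    toDualAt (DRing.homCx P (VA A)) (-n) n (by omega) (evCochain P (VA A) n x) φ =
      ((n * (-n)).negOnePow : ℤˣ) • toDualAt P n (-n) (by omega) φ x := by
  have h1 : ((evCochain P (VA A) n x).v (-n) 0 (by omega)).hom φ =
      ((n * (-n)).negOnePow : ℤˣ) • (φ.v n 0 (by omega)).hom x :=
    evCochain_v_apply P (VA A) n x (-n) 0 (by omega) φ
  change (HomologicalComplex.singleObjXSelf (ComplexShape.up ℤ) 0 (ModuleCat.of A A)).hom.hom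
    (((evCochain P (VA A) n x).v (-n) 0 (by omega)).hom φ) = _
  rw [h1]
  exact map_zsmul_unit
    (HomologicalComplex.singleObjXSelf (ComplexShape.up ℤ) 0 (ModuleCat.of A A)).hom.hom _ _

theorem bijective_bid_f (P : DRing.Cx A) (h : DRing.TermwiseFiniteProjective P) (n : ℤ) :
    Function.Bijective ((bid P (VA A)).f n).hom := by
  obtain ⟨h1, h2⟩ := h n
  have hbij := Module.bijective_dual_eval A (P.X n)
  let T := toDualAt (DRing.homCx P (VA A)) (-n) n (by omega)
  let S := toDualAt P n (-n) (by omega)
  have key : ∀ (x : P.X n) (φ : Cochain P (VA A) (-n)),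
      T (evCochain P (VA A) n x) φ = ((n * (-n)).negOnePow : ℤˣ) • S φ x :=
    fun x φ => toDualAt_evCochain P n x φ
  constructor
  · intro x y hxy
    apply hbij.1
    ext g
    have hx := key x (S.symm g)
    have hy := key y (S.symm g)
    have hxy' : evCochain P (VA A) n x = evCochain P (VA A) n y := hxy
    rw [hxy', hy, LinearEquiv.apply_symm_apply] at hx
    exact (smul_left_cancel _ hx).symm
  · intro c
    let c' : Cochain (DRing.homCx P (VA A)) (VA A) n := c
    let ξ : Module.Dual A (Module.Dual A (P.X n)) :=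
      ((n * (-n)).negOnePow : ℤˣ) • ((T c').comp S.symm.toLinearMap)
    obtain ⟨x, hx⟩ := hbij.2 ξ
    refine ⟨x, ?_⟩
    change evCochain P (VA A) n x = c'
    apply T.injective
    ext φ
    rw [key]
    have h3 : S φ x = ξ (S φ) := by
      rw [← hx]
      rfl
    rw [h3]
    change ((n * (-n)).negOnePow : ℤˣ) • (((n * (-n)).negOnePow : ℤˣ) • (T c') (S.symm (S φ))) = _
    rw [LinearEquiv.symm_apply_apply, smul_smul, Int.units_mul_self, one_smul]

lemma isIso_bid (P : DRing.Cx A) (h : DRing.TermwiseFiniteProjective P) :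
    IsIso (bid P (VA A)) := by
  have : ∀ n, IsIso ((bid P (VA A)).f n) := fun n =>
    (ConcreteCategory.isIso_iff_bijective _).2 (bijective_bid_f P h n)
  exact HomologicalComplex.Hom.isIso_of_components _

lemma isKProjective_of_perfect (P : DRing.Cx A) (a b : ℤ) (hv : DRing.VanishesOutside P a b)
    (h : DRing.TermwiseFiniteProjective P) : P.IsKProjective :=
  PC.isKProjective_of_forall_projective P b (fun i hi => hv i (Or.inr hi))
    (fun i => (DR.projective_iff _).2 (h i).2)

end Groth.Agent.Lib.Helper13.BD
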