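import Groth.Agent.Lib.Helper13.ProjF2
import Groth.Agent.Lib.Helper13.AdjCx
import Groth.Agent.Lib.Helper13.Coind1

/-!
# The `A`-linear map `ext P ⊗_A coext Y ⟶ coext (P ⊗_R Y)`
-/

set_option autoImplicit false
universe u
open CategoryTheory CategoryTheory.Limits MonoidalCategory TensorProduct HomologicalComplex

namespace Groth.Agent.Lib.Helper13.PF

open DTen Groth.Agent.Lib.Helper13.ET Groth.Agent.Lib.Helper13.Kan Groth.Agent.Lib.Helper13.Coind

variable {R A : Type u} [CommRing R] [CommRing A] (φ : R →+* A)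

/-- Termwise coextension of scalars. -/
noncomputable abbrev coextCx : DRing.Cx R ⥤ DRing.Cx A :=
  (ModuleCat.coextendScalars.{u, u, u} φ).mapHomologicalComplex (ComplexShape.up ℤ)

/-- The chain-level adjunction `res ⊣ coext`. -/
noncomputable abbrev rcAdj : resCx φ ⊣ coextCx φ :=
  adjCx (ModuleCat.restrictCoextendScalarsAdj.{u, u, u} φ) (ComplexShape.up ℤ)

/-- The `R`-linear map `res (ext P ⊗_A coext Y) ⟶ P ⊗_R Y`. -/
noncomputable def psiCx (P Y : DRing.Cx R) :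
    (resCx φ).obj ((extCx φ).obj P ⊗ (coextCx φ).obj Y) ⟶ P ⊗ Y :=
  inv (pfCx φ P ((coextCx φ).obj Y)) ≫ (P ◁ (rcAdj φ).counit.app Y)

lemma psiCx_naturality {P P' : DRing.Cx R} (f : P ⟶ P') (Y : DRing.Cx R) :
    (resCx φ).map ((extCx φ).map f ▷ (coextCx φ).obj Y) ≫ psiCx φ P' Y =
      psiCx φ P Y ≫ (f ▷ Y) := by
  dsimp only [psiCx]
  have h := pfCx_naturality φ f ((coextCx φ).obj Y)
  have h2 : (resCx φ).map ((extCx φ).map f ▷ (coextCx φ).obj Y) ≫
      inv (pfCx φ P' ((coextCx φ).obj Y)) =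
      inv (pfCx φ P ((coextCx φ).obj Y)) ≫ (f ▷ (resCx φ).obj ((coextCx φ).obj Y)) := by
    rw [IsIso.eq_inv_comp, ← Category.assoc, ← h, Category.assoc, IsIso.hom_inv_id,
      Category.comp_id]
  rw [← Category.assoc, h2, Category.assoc, Category.assoc, whisker_exchange]

/-- The `A`-linear map `ext P ⊗_A coext Y ⟶ coext (P ⊗_R Y)`. -/
noncomputable def cA (P Y : DRing.Cx R) :
    (extCx φ).obj P ⊗ (coextCx φ).obj Y ⟶ (coextCx φ).obj (P ⊗ Y) :=
  (rcAdj φ).homEquiv _ _ (psiCx φ P Y)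

lemma cA_naturality {P P' : DRing.Cx R} (f : P ⟶ P') (Y : DRing.Cx R) :
    ((extCx φ).map f ▷ (coextCx φ).obj Y) ≫ cA φ P' Y =
      cA φ P Y ≫ (coextCx φ).map (f ▷ Y) := by
  dsimp only [cA]
  rw [← Adjunction.homEquiv_naturality_left, ← Adjunction.homEquiv_naturality_right,
    psiCx_naturality]

lemma res_cA_counit (P Y : DRing.Cx R) :
    (resCx φ).map (cA φ P Y) ≫ (rcAdj φ).counit.app (P ⊗ Y) = psiCx φ P Y := by
  dsimp only [cA]
  have := ((rcAdj φ).homEquiv _ _).symm_apply_apply (psiCx φ P Y)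
  rw [Adjunction.homEquiv_counit] at this
  exact this

end Groth.Agent.Lib.Helper13.PF
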