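import Groth.Agent.Lib.Helper13.CMap3
import Groth.Agent.Lib.Helper13.DevOp2
import Groth.Agent.Lib.Helper13.PCSingleHom

/-!
# `P ⊗ Hom•(X, J) ⟶ Hom•(X, J')` is a quasi-isomorphism for perfect `X`
-/

set_option autoImplicit false
universe u
open CategoryTheory CategoryTheory.Limits MonoidalCategory Pretriangulated Opposite
open CochainComplex CochainComplex.HomComplex HomologicalComplex

namespace Groth.Agent.Lib.Helper13.HOp

open Groth.Agent.Lib.Helper13.HT Groth.Agent.Lib.Helper13.PC Groth.Agent.Lib.Helper13.DV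

attribute [local instance] HasDerivedCategory.standard

variable {A : Type u} [CommRing A]

lemma homCxMap_preMap_comm {X X' L L' : DRing.Cx A} (f : X' ⟶ X) (j : L ⟶ L') :
    DRing.homCxMap X j ≫ preMap f L' = preMap f L ≫ DRing.homCxMap X' j := by
  refine HomologicalComplex.hom_ext _ _ (fun i => ?_)
  apply ModuleCat.hom_ext
  apply LinearMap.ext
  intro (z : Cochain X L i)
  change (Cochain.ofHom f).comp (z.comp (Cochain.ofHom j) (add_zero i)) (zero_add i) =
    ((Cochain.ofHom f).comp z (zero_add i)).comp (Cochain.ofHom j) (add_zero i)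
  rw [Cochain.comp_assoc_of_first_is_zero_cochain]

lemma quasiIso_whiskerLeft_of_isKProjective (P : DRing.Cx A) [CochainComplex.IsKProjective P]
    {L₁ L₂ : DRing.Cx A} (f : L₁ ⟶ L₂) [QuasiIso f] : QuasiIso (P ◁ f) := by
  have := quasiIso_whiskerRight_of_kflat P (isKFlat_of_isKProjective P) f
  rw [whiskerLeft_eq_braid]
  infer_instance

section

variable (P J J' : DRing.Cx A) (j : P ⊗ J ⟶ J')

/-- The comparison `P ⊗ Hom•(X, J) ⟶ Hom•(X, J')` as a natural transformation in `X`. -/
noncomputable def etaC : homOp J ⋙ tensorLeft P ⟶ homOp J' where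
  app X := cMap P X.unop J ≫ DRing.homCxMap X.unop j
  naturality X Y f := by
    dsimp
    rw [reassoc_of% (cMap_naturality_left P f.unop J), Category.assoc, homCxMap_preMap_comm]

@[simp] lemma etaC_app (X : (DRing.Cx A)ᵒᵖ) :
    (etaC P J J' j).app X = cMap P X.unop J ≫ DRing.homCxMap X.unop j := rfl

variable [CochainComplex.IsKProjective P] [CochainComplex.IsKInjective J]
  [CochainComplex.IsKInjective J']

lemma tensorLeft_homOp_inverts :
    (HomologicalComplex.quasiIso (ModuleCat.{u} A) (ComplexShape.up ℤ)).op.IsInvertedBy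
      (homOp J ⋙ tensorLeft P ⋙ DerivedCategory.Q) := by
  intro X Y f hf
  have : QuasiIso f.unop := hf
  have := quasiIso_preMap_of_isKInjective f.unop J
  have := quasiIso_whiskerLeft_of_isKProjective P (preMap f.unop J)
  dsimp
  rw [DerivedCategory.isIso_Q_map_iff_quasiIso]
  infer_instance

/-- `P ⊗^L RHom(-, J) : D(A)ᵒᵖ ⥤ D(A)`. -/
noncomputable def SJ : (Dual.D A)ᵒᵖ ⥤ Dual.D A :=
  Localization.lift (homOp J ⋙ tensorLeft P ⋙ DerivedCategory.Q) (tensorLeft_homOp_inverts P J)
    (DerivedCategory.Q (C := ModuleCat.{u} A)).op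

noncomputable instance : Localization.Lifting (DerivedCategory.Q (C := ModuleCat.{u} A)).op
    (HomologicalComplex.quasiIso (ModuleCat.{u} A) (ComplexShape.up ℤ)).op
    (homOp J ⋙ tensorLeft P ⋙ DerivedCategory.Q) (SJ P J) := by
  unfold SJ
  infer_instance

/-- The comparison on the level of functors `Cx(A)ᵒᵖ ⥤ D(A)`. -/
noncomputable def etaQ : homOp J ⋙ tensorLeft P ⋙ DerivedCategory.Q ⟶
    homOp J' ⋙ DerivedCategory.Q where
  app X := DerivedCategory.Q.map ((etaC P J J' j).app X)
  naturality X Y f := by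
    have := (etaC P J J' j).naturality f
    dsimp at this ⊢
    rw [← Functor.map_comp, ← Functor.map_comp, this]

/-- The comparison `P ⊗^L RHom(-, J) ⟶ RHom(-, J')`. -/
noncomputable def etaD : SJ P J ⟶ DJ J' :=
  Localization.liftNatTrans (DerivedCategory.Q (C := ModuleCat.{u} A)).op
    (HomologicalComplex.quasiIso (ModuleCat.{u} A) (ComplexShape.up ℤ)).op
    (homOp J ⋙ tensorLeft P ⋙ DerivedCategory.Q) (homOp J' ⋙ DerivedCategory.Q)
    (SJ P J) (DJ J') (etaQ P J J' j)

lemma isIso_etaD_app_iff (X : DRing.Cx A) :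
    IsIso ((etaD P J J' j).app (op (DerivedCategory.Q.obj X))) ↔
      QuasiIso (cMap P X J ≫ DRing.homCxMap X j) := by
  have h := Localization.liftNatTrans_app (DerivedCategory.Q (C := ModuleCat.{u} A)).op
    (HomologicalComplex.quasiIso (ModuleCat.{u} A) (ComplexShape.up ℤ)).op
    (homOp J ⋙ tensorLeft P ⋙ DerivedCategory.Q) (homOp J' ⋙ DerivedCategory.Q)
    (SJ P J) (DJ J') (etaQ P J J' j) (op X)
  change (etaD P J J' j).app (op (DerivedCategory.Q.obj X)) = _ at h
  rw [h, isIso_comp_left_iff, isIso_comp_right_iff, ← DerivedCategory.isIso_Q_map_iff_quasiIso]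
  rfl

theorem quasiIso_cMap_comp_of_isPerfect [QuasiIso j] (X : DRing.Cx A)
    (hX : DRing.IsPerfect A (DerivedCategory.Q.obj X)) :
    QuasiIso (cMap P X J ≫ DRing.homCxMap X j) := by
  rw [← isIso_etaD_app_iff]
  refine isIso_app_op_of_isPerfect' (etaD P J J' j) ?_ ?_ ?_ _ hX
  · exact fun T hT => midExact_of_lifting _ _
      (Localization.Lifting.iso (DerivedCategory.Q (C := ModuleCat.{u} A)).op
        (HomologicalComplex.quasiIso (ModuleCat.{u} A) (ComplexShape.up ℤ)).op _ _)
      (fun S σ => midExact_tensorLeft_homOp P J S σ) T hT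
  · exact fun T hT => midExact_DJ J' T hT
  · intro n
    let e : (CategoryTheory.shiftFunctor (Dual.D A) n).obj
        ((DerivedCategory.singleFunctor (ModuleCat.{u} A) 0).obj (ModuleCat.of A A)) ≅
        DerivedCategory.Q.obj (XU A (-n)) :=
      ((DerivedCategory.singleFunctors (ModuleCat.{u} A)).shiftIso n (-n) 0 (by omega)).app
        (ModuleCat.of A A) ≪≫
      (DerivedCategory.singleFunctorIsoCompQ (ModuleCat.{u} A) (-n)).app (ModuleCat.of A A)
    rw [NatTrans.isIso_app_iff_of_iso (etaD P J J' j) e.symm.op, isIso_etaD_app_iff]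
    have : CochainComplex.IsKProjective (XU A (-n)) :=
      Groth.Agent.Lib.Helper13.PC.isKProjective_single (ModuleCat.of A A) (-n)
    have h1 : IsIso (DerivedCategory.Q.map (DRing.homCxMap (XU A (-n)) j)) :=
      isIso_Q_map_homCxMap (XU A (-n)) j
    rw [DerivedCategory.isIso_Q_map_iff_quasiIso] at h1
    infer_instance

end

end Groth.Agent.Lib.Helper13.HOp
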