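import Groth.Agent.Lib.Helper13.Coind4
import Groth.Prelude.Def_DRing4
import Mathlib.Algebra.Homology.HomotopyCategory.HomComplexSingle

/-!
# `Hom•(B[0], -)` is termwise coinduction followed by restriction
-/

set_option autoImplicit false
universe u
open CategoryTheory CategoryTheory.Limits
open CochainComplex CochainComplex.HomComplex

namespace Groth.Agent.Lib.Helper13.Coind

attribute [local instance] HasDerivedCategory.standard

variable (A B : Type u) [CommRing A] [CommRing B] [Algebra A B]

/-- `B[0]` as a complex of `A`-modules. -/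
noncomputable abbrev singleB : DRing.Cx A :=
  (HomologicalComplex.single (ModuleCat.{u} A) (ComplexShape.up ℤ) 0).obj (ModuleCat.of A B)

/-- `res (coext M)`. -/
noncomputable abbrev resCoextObj (M : ModuleCat.{u} A) : ModuleCat.{u} A :=
  (ModuleCat.restrictScalars.{u} (algebraMap A B)).obj
    ((ModuleCat.coextendScalars.{u, u, u} (algebraMap A B)).obj M)

variable {A B}

/-- The morphism `B ⟶ M` attached to an element of `Hom_A(B, M)`. -/
noncomputable def coextHom (M : ModuleCat.{u} A) (g : resCoextObj A B M) : ModuleCat.of A B ⟶ M :=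
  (restrictSelfIso (A := A) (B := B)).inv ≫
    ModuleCat.ofHom (X := (ModuleCat.restrictScalars.{u} (algebraMap A B)).obj (ModuleCat.of B B))
      (Y := M) (ModuleCat.CoextendScalars.equiv (algebraMap A B) M g)

lemma coextHom_apply (M : ModuleCat.{u} A) (g : resCoextObj A B M) (b : B) :
    (coextHom M g).hom b = ModuleCat.CoextendScalars.equiv (algebraMap A B) M g b := rfl

lemma coextHom_add (M : ModuleCat.{u} A) (g g' : resCoextObj A B M) :
    coextHom M (g + g') = coextHom M g + coextHom M g' := by
  ext b
  rfl

lemma coextHom_smul (M : ModuleCat.{u} A) (a : A) (g : resCoextObj A B M) :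
    coextHom M (a • g) = a • coextHom M g := by
  ext b
  change ModuleCat.CoextendScalars.equiv (algebraMap A B) M g (b * algebraMap A B a) =
    a • ModuleCat.CoextendScalars.equiv (algebraMap A B) M g b
  rw [← map_smul]
  congr 1
  change b * algebraMap A B a = algebraMap A B a * b
  exact mul_comm _ _

/-- The inverse construction. -/
noncomputable def homCoext (M : ModuleCat.{u} A) (h : ModuleCat.of A B ⟶ M) : resCoextObj A B M :=
  (ModuleCat.CoextendScalars.equiv (algebraMap A B) M).symm
    ((restrictSelfIso (A := A) (B := B)).hom ≫ h).hom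

lemma coextHom_homCoext (M : ModuleCat.{u} A) (h : ModuleCat.of A B ⟶ M) :
    coextHom M (homCoext M h) = h := by
  ext b
  rfl

lemma homCoext_coextHom (M : ModuleCat.{u} A) (g : resCoextObj A B M) :
    homCoext M (coextHom M g) = g := by
  apply ModuleCat.CoextendScalars.ext (f := algebraMap A B)
  refine LinearMap.ext fun s => ?_
  rfl

lemma coextHom_map {M N : ModuleCat.{u} A} (u : M ⟶ N) (g : resCoextObj A B M) :
    coextHom N (((ModuleCat.restrictScalars.{u} (algebraMap A B)).map
      ((ModuleCat.coextendScalars.{u, u, u} (algebraMap A B)).map u)).hom g) = coextHom M g ≫ u := by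
  ext b
  rfl


lemma fromSingleMk_smul {C : Type*} [Category C] [Preadditive C] [HasZeroObject C]
    {R : Type*} [Ring R] [Linear R C] {X : C} {K : CochainComplex C ℤ} {p q : ℤ} (a : R)
    (f : X ⟶ K.X q) {n : ℤ} (h : p + n = q) :
    Cochain.fromSingleMk (a • f) h = a • Cochain.fromSingleMk f h := by
  apply (Cochain.fromSingleEquiv h).injective
  simp only [Cochain.fromSingleEquiv, AddEquiv.coe_mk, Equiv.coe_fn_mk, Cochain.fromSingleMk_v,
    Cochain.smul_v, Iso.inv_hom_id_assoc]
  erw [Linear.comp_smul, Iso.inv_hom_id_assoc]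

/-- The cochain attached to an element of `Hom_A(B, L^n)`. -/
noncomputable def toCochain (L : DRing.Cx A) (n : ℤ) (g : resCoextObj A B (L.X n)) :
    Cochain (singleB A B) L n :=
  Cochain.fromSingleMk (X := ModuleCat.of A B) (K := L) (p := 0) (coextHom (L.X n) g) (zero_add n)

/-- The linear equivalence `Hom_A(B, L^n) ≃ Hom^n(B[0], L)`. -/
noncomputable def cochainEquiv (L : DRing.Cx A) (n : ℤ) :
    resCoextObj A B (L.X n) ≃ₗ[A] Cochain (singleB A B) L n where
  toFun g := toCochain L n g
  invFun z := homCoext (L.X n)
    (Cochain.fromSingleEquiv (X := ModuleCat.of A B) (K := L) (p := 0) (zero_add n) z)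
  map_add' g g' := by
    dsimp only [toCochain]
    rw [coextHom_add, Cochain.fromSingleMk_add]
    rfl
  map_smul' a g := by
    dsimp only [toCochain]
    rw [coextHom_smul, fromSingleMk_smul]
    rfl
  left_inv g := by
    dsimp only [toCochain]
    rw [Cochain.fromSingleEquiv_fromSingleMk, homCoext_coextHom]
  right_inv z := by
    dsimp only [toCochain]
    rw [coextHom_homCoext]
    exact (Cochain.fromSingleEquiv (X := ModuleCat.of A B) (K := L) (p := 0) (zero_add n)).symm_apply_apply z


variable (A B) in
/-- Termwise coinduction followed by restriction, on complexes. -/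
noncomputable abbrev resCoextCx : DRing.Cx A ⥤ DRing.Cx A :=
  (ModuleCat.coextendScalars.{u, u, u} (algebraMap A B)).mapHomologicalComplex (ComplexShape.up ℤ) ⋙
    (ModuleCat.restrictScalars.{u} (algebraMap A B)).mapHomologicalComplex (ComplexShape.up ℤ)

lemma δ_toCochain (L : DRing.Cx A) (i j : ℤ) (g : resCoextObj A B (L.X i)) :
    δ i j (toCochain L i g) = toCochain L j
      (((ModuleCat.restrictScalars.{u} (algebraMap A B)).map
        ((ModuleCat.coextendScalars.{u, u, u} (algebraMap A B)).map (L.d i j))).hom g) := by
  dsimp only [toCochain]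
  rw [coextHom_map]
  exact Cochain.δ_fromSingleMk (X := ModuleCat.of A B) (K := L) (p := 0)
    (coextHom (L.X i) g) (zero_add i) j j (zero_add j)

lemma toCochain_comp_ofHom {L L' : DRing.Cx A} (u : L ⟶ L') (n : ℤ) (g : resCoextObj A B (L.X n)) :
    (toCochain L n g).comp (Cochain.ofHom u) (add_zero n) = toCochain L' n
      (((ModuleCat.restrictScalars.{u} (algebraMap A B)).map
        ((ModuleCat.coextendScalars.{u, u, u} (algebraMap A B)).map (u.f n))).hom g) := by
  dsimp only [toCochain]
  rw [coextHom_map]
  exact (Cochain.fromSingleMk_postcomp (X := ModuleCat.of A B) (K := L) (p := 0)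
    (coextHom (L.X n) g) (zero_add n) u).symm

/-- The chain-level isomorphism `res (coext L) ≅ Hom•(B[0], L)`. -/
noncomputable def homSingleIso (L : DRing.Cx A) :
    (resCoextCx A B).obj L ≅ DRing.homCx (singleB A B) L :=
  HomologicalComplex.Hom.isoOfComponents
    (fun n => LinearEquiv.toModuleIso (X₁ := resCoextObj A B (L.X n))
      (X₂ := ModuleCat.of A (Cochain (singleB A B) L n)) (cochainEquiv L n))
    (fun i j _ => by
      ext g
      exact δ_toCochain L i j g)

/-- Naturality. -/
lemma homSingleIso_naturality {L L' : DRing.Cx A} (u : L ⟶ L') :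
    (resCoextCx A B).map u ≫ (homSingleIso L').hom =
      (homSingleIso L).hom ≫ DRing.homCxMap (singleB A B) u := by
  refine HomologicalComplex.hom_ext _ _ (fun n => ?_)
  ext g
  exact (toCochain_comp_ofHom u n g).symm

variable (A B) in
/-- The natural isomorphism `res ∘ coext ≅ Hom•(B[0], -)`. -/
noncomputable def homSingleNatIso : resCoextCx A B ≅ DRing.homCxFunctor (singleB A B) :=
  NatIso.ofComponents (fun L => homSingleIso L) (fun u => homSingleIso_naturality u)

end Groth.Agent.Lib.Helper13.Coind
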