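import Groth.Agent.Lib.Helper13.CA1
import Groth.Agent.Lib.Helper13.CMap4
import Groth.Agent.Lib.Helper13.RHomLoc1

/-!
# Compatibility of `cA` with the canonical map `P ⊗ Hom•(A[0], Y) ⟶ Hom•(A[0], P ⊗ Y)`
-/

set_option autoImplicit false
universe u
open CategoryTheory CategoryTheory.Limits MonoidalCategory TensorProduct HomologicalComplex
open CochainComplex CochainComplex.HomComplex

namespace Groth.Agent.Lib.Helper13.PF

open DTen Groth.Agent.Lib.Helper13.ET Groth.Agent.Lib.Helper13.Kan Groth.Agent.Lib.Helper13.Coind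
open Groth.Agent.Lib.Helper13.HOp

variable {R A : Type u} [CommRing R] [CommRing A] [Algebra R A]

/-- `psiCx` on the image of a summand. -/
lemma psiCx_f_res_ι (P Y : DRing.Cx R) (p q n : ℤ) (h : p + q = n) :
    pfApp (algebraMap R A) (P.X p) (((coextCx (algebraMap R A)).obj Y).X q) ≫
      (resM (algebraMap R A)).map
        (ιTensorObj ((extCx (algebraMap R A)).obj P) ((coextCx (algebraMap R A)).obj Y) p q n h) ≫
      (psiCx (algebraMap R A) P Y).f n =
    (P.X p ◁ (ModuleCat.restrictCoextendScalarsAdj.{u, u, u} (algebraMap R A)).counit.app (Y.X q)) ≫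
      ιTensorObj P Y p q n h := by
  have e1 := ι_pfCx (algebraMap R A) P ((coextCx (algebraMap R A)).obj Y) p q n h
  have e2 := Groth.Agent.Lib.Helper13.HT.ι_whiskerLeft_f' P ((rcAdj (algebraMap R A)).counit.app Y) p q n h
  have e3 : (pfCx (algebraMap R A) P ((coextCx (algebraMap R A)).obj Y)).f n ≫
      (inv (pfCx (algebraMap R A) P ((coextCx (algebraMap R A)).obj Y))).f n = 𝟙 _ := by
    rw [← HomologicalComplex.comp_f, IsIso.hom_inv_id]
    rfl
  calc _ = (ιTensorObj P ((resCx (algebraMap R A)).obj ((coextCx (algebraMap R A)).obj Y)) p q n h ≫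
        (pfCx (algebraMap R A) P ((coextCx (algebraMap R A)).obj Y)).f n) ≫
        (inv (pfCx (algebraMap R A) P ((coextCx (algebraMap R A)).obj Y))).f n ≫
          (P ◁ (rcAdj (algebraMap R A)).counit.app Y).f n := by
        rw [e1]
        exact (Category.assoc _ _ _).symm
    _ = ιTensorObj P ((resCx (algebraMap R A)).obj ((coextCx (algebraMap R A)).obj Y)) p q n h ≫
          (P ◁ (rcAdj (algebraMap R A)).counit.app Y).f n := by
        rw [Category.assoc, reassoc_of% e3]
    _ = _ := e2

/-- The value of `cA` as a function. -/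
lemma cA_f_apply (P Y : DRing.Cx R) (n : ℤ)
    (v : ((extCx (algebraMap R A)).obj P ⊗ (coextCx (algebraMap R A)).obj Y).X n) (b : A) :
    ModuleCat.CoextendScalars.equiv (algebraMap R A) ((P ⊗ Y).X n)
      (((cA (algebraMap R A) P Y).f n).hom v) b =
      ((psiCx (algebraMap R A) P Y).f n).hom
        (show ((resCx (algebraMap R A)).obj
          ((extCx (algebraMap R A)).obj P ⊗ (coextCx (algebraMap R A)).obj Y)).X n from b • v) := by
  rfl

/-- `psiCx` on elements of the image of a summand. -/
lemma psiCx_f_apply (P Y : DRing.Cx R) (p q n : ℤ) (h : p + q = n) (x : P.X p)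
    (g : ((coextCx (algebraMap R A)).obj Y).X q) :
    ((psiCx (algebraMap R A) P Y).f n).hom
      ((ιTensorObj ((extCx (algebraMap R A)).obj P) ((coextCx (algebraMap R A)).obj Y) p q n h).hom
        (((1 : A) ⊗ₜ[R] x : (extM (algebraMap R A)).obj (P.X p)) ⊗ₜ[A] g)) =
    (ιTensorObj P Y p q n h).hom (x ⊗ₜ
      ModuleCat.CoextendScalars.equiv (algebraMap R A) (Y.X q) g (1 : A)) := by
  have e := psiCx_f_res_ι (A := A) P Y p q n h
  have e' := congrArg (fun t => t.hom (x ⊗ₜ
    (show (resM (algebraMap R A)).obj (((coextCx (algebraMap R A)).obj Y).X q) from g))) e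
  exact e'

theorem pfCx_res_cA_homSingleIso (P Y : DRing.Cx R) :
    pfCx (algebraMap R A) P ((coextCx (algebraMap R A)).obj Y) ≫
      (resCx (algebraMap R A)).map (cA (algebraMap R A) P Y) ≫
        (homSingleIso (A := R) (B := A) (P ⊗ Y)).hom =
    (P ◁ (homSingleIso (A := R) (B := A) Y).hom) ≫ cMap P (singleB R A) Y := by
  refine HomologicalComplex.hom_ext _ _ (fun n => ?_)
  apply HomologicalComplex.mapBifunctor.hom_ext
  intro p q h
  have h' : p + q = n := h
  apply ModuleCat.hom_ext
  apply TensorProduct.ext'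
  intro x g
  apply (Cochain.fromSingleEquiv (X := ModuleCat.of R A) (K := P ⊗ Y) (p := 0)
    (zero_add n)).injective
  apply ModuleCat.hom_ext
  apply LinearMap.ext
  intro b
  -- the right hand side
  have eR1 := Groth.Agent.Lib.Helper13.HT.ι_whiskerLeft_f' P
    (homSingleIso (A := R) (B := A) Y).hom p q n h'
  have eR2 : HomologicalComplex.ιMapBifunctor P
      ((resCx (algebraMap R A)).obj ((coextCx (algebraMap R A)).obj Y))
      (curriedTensor (ModuleCat.{u} R)) (ComplexShape.up ℤ) p q n h ≫
      (P ◁ (homSingleIso (A := R) (B := A) Y).hom ≫ cMap P (singleB R A) Y).f n =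
      (P.X p ◁ (homSingleIso (A := R) (B := A) Y).hom.f q) ≫
        ιTensorObj P (DRing.homCx (singleB R A) Y) p q n h' ≫ (cMap P (singleB R A) Y).f n := by
    rw [HomologicalComplex.comp_f, ← Category.assoc]
    erw [eR1]
    rw [Category.assoc]
  have hR : (Cochain.fromSingleEquiv (X := ModuleCat.of R A) (K := P ⊗ Y) (p := 0) (zero_add n)
      (((P.X p ◁ (homSingleIso (A := R) (B := A) Y).hom.f q) ≫
        ιTensorObj P (DRing.homCx (singleB R A) Y) p q n h' ≫
          (cMap P (singleB R A) Y).f n).hom (x ⊗ₜ g))).hom b =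
      (ιTensorObj P Y p q n h').hom (x ⊗ₜ
        ModuleCat.CoextendScalars.equiv (algebraMap R A) (Y.X q) g b) := by
    change ((Cochain.v (F := singleB R A) (G := P ⊗ Y)
      (((cMap P (singleB R A) Y).f n).hom ((ιTensorObj P (DRing.homCx (singleB R A) Y) p q n h').hom
        (x ⊗ₜ toCochain Y q g))) 0 n (zero_add n)).hom
        ((HomologicalComplex.singleObjXSelf (ComplexShape.up ℤ) 0 (ModuleCat.of R A)).inv.hom b)) = _
    rw [cMap_f_apply' P (singleB R A) Y p q n h' x (toCochain Y q g) 0 n q (zero_add n) (zero_add q)]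
    congr 2
    dsimp only [toCochain]
    erw [Cochain.fromSingleMk_v]
    change (coextHom (Y.X q) g).hom
      ((HomologicalComplex.singleObjXSelf (ComplexShape.up ℤ) 0 (ModuleCat.of R A)).hom.hom
        ((HomologicalComplex.singleObjXSelf (ComplexShape.up ℤ) 0 (ModuleCat.of R A)).inv.hom b)) = _
    rw [coextHom_apply]
    congr 1
  -- the left hand side
  have eL1 := ι_pfCx (algebraMap R A) P ((coextCx (algebraMap R A)).obj Y) p q n h'
  have eL2 : HomologicalComplex.ιMapBifunctor P
      ((resCx (algebraMap R A)).obj ((coextCx (algebraMap R A)).obj Y))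
      (curriedTensor (ModuleCat.{u} R)) (ComplexShape.up ℤ) p q n h ≫
      (pfCx (algebraMap R A) P ((coextCx (algebraMap R A)).obj Y) ≫
        (resCx (algebraMap R A)).map (cA (algebraMap R A) P Y) ≫
          (homSingleIso (A := R) (B := A) (P ⊗ Y)).hom).f n =
      (pfApp (algebraMap R A) (P.X p) (((coextCx (algebraMap R A)).obj Y).X q) ≫
        (resM (algebraMap R A)).map (ιTensorObj ((extCx (algebraMap R A)).obj P)
          ((coextCx (algebraMap R A)).obj Y) p q n h')) ≫
        ((resCx (algebraMap R A)).map (cA (algebraMap R A) P Y)).f n ≫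
          (homSingleIso (A := R) (B := A) (P ⊗ Y)).hom.f n := by
    rw [HomologicalComplex.comp_f, HomologicalComplex.comp_f, ← Category.assoc]
    erw [eL1]
    rfl
  let b' : A := b
  let g' : ((coextCx (algebraMap R A)).obj Y).X q := g
  have hL : (Cochain.fromSingleEquiv (X := ModuleCat.of R A) (K := P ⊗ Y) (p := 0) (zero_add n)
      (((pfApp (algebraMap R A) (P.X p) (((coextCx (algebraMap R A)).obj Y).X q) ≫
        (resM (algebraMap R A)).map (ιTensorObj ((extCx (algebraMap R A)).obj P)
          ((coextCx (algebraMap R A)).obj Y) p q n h')) ≫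
        ((resCx (algebraMap R A)).map (cA (algebraMap R A) P Y)).f n ≫
          (homSingleIso (A := R) (B := A) (P ⊗ Y)).hom.f n).hom (x ⊗ₜ g))).hom b =
      (ιTensorObj P Y p q n h').hom (x ⊗ₜ
        ModuleCat.CoextendScalars.equiv (algebraMap R A) (Y.X q) g b) := by
    let v : ((extCx (algebraMap R A)).obj P ⊗ (coextCx (algebraMap R A)).obj Y).X n :=
      (ιTensorObj ((extCx (algebraMap R A)).obj P) ((coextCx (algebraMap R A)).obj Y) p q n h').hom
        (((1 : A) ⊗ₜ[R] x : (extM (algebraMap R A)).obj (P.X p)) ⊗ₜ[A] g)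
    change (Cochain.fromSingleEquiv (X := ModuleCat.of R A) (K := P ⊗ Y) (p := 0) (zero_add n)
      (toCochain (P ⊗ Y) n (((cA (algebraMap R A) P Y).f n).hom v))).hom b = _
    dsimp only [toCochain]
    rw [Cochain.fromSingleEquiv_fromSingleMk, coextHom_apply, cA_f_apply]
    have hv : b' • v = (ιTensorObj ((extCx (algebraMap R A)).obj P)
        ((coextCx (algebraMap R A)).obj Y) p q n h').hom
        (((1 : A) ⊗ₜ[R] x : (extM (algebraMap R A)).obj (P.X p)) ⊗ₜ[A] (b' • g')) := by
      dsimp only [v]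
      rw [← map_smul]
      congr 1
      exact (TensorProduct.tmul_smul b' _ g').symm
    change ((psiCx (algebraMap R A) P Y).f n).hom
        (show ((resCx (algebraMap R A)).obj
          ((extCx (algebraMap R A)).obj P ⊗ (coextCx (algebraMap R A)).obj Y)).X n from b' • v) = _
    rw [hv]
    refine (psiCx_f_apply (A := A) P Y p q n h' x (b' • g')).trans ?_
    congr 2
    change ModuleCat.CoextendScalars.equiv (algebraMap R A) (Y.X q) g' ((1 : A) * b') = _
    rw [one_mul]
  have key : ∀ (t t' : (P.X p ⊗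
      ((resCx (algebraMap R A)).obj ((coextCx (algebraMap R A)).obj Y)).X q : ModuleCat.{u} R) ⟶
      (DRing.homCx (singleB R A) (P ⊗ Y)).X n), t = t' →
      (Cochain.fromSingleEquiv (X := ModuleCat.of R A) (K := P ⊗ Y)
        (p := 0) (zero_add n) (t.hom (x ⊗ₜ g))).hom b =
      (Cochain.fromSingleEquiv (X := ModuleCat.of R A) (K := P ⊗ Y)
        (p := 0) (zero_add n) (t'.hom (x ⊗ₜ g))).hom b := fun t t' e => by rw [e]
  exact ((key _ _ eL2).trans hL).trans ((key _ _ eR2).trans hR).symm

end Groth.Agent.Lib.Helper13.PF
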