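import Mathlib.RingTheory.LocalRing.Module
import Mathlib.RingTheory.Spectrum.Prime.FreeLocus
import Mathlib.RingTheory.Flat.Basic
import Mathlib.RingTheory.Flat.Localization
import Mathlib.LinearAlgebra.TensorProduct.RightExactness

set_option autoImplicit false
universe u v w
open TensorProduct IsLocalRing

namespace Groth.Agent.Lib.Helper13.CA

/-- Over a local ring: a three-term complex `F → G → H` with `G` finite projective, `H` finite free,
which is exact after tensoring with the residue field, admits a contracting homotopy at `G`
(universe polymorphic version). -/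
theorem exists_contracting_of_exact_residueField' {R : Type*} [CommRing R] [IsLocalRing R]
    {F G H : Type*} [AddCommGroup F] [Module R F] [AddCommGroup G] [Module R G]
    [AddCommGroup H] [Module R H]
    [Module.Finite R G] [Module.Projective R G] [Module.Finite R H] [Module.Free R H]
    (u : F →ₗ[R] G) (v : G →ₗ[R] H) (huv : v ∘ₗ u = 0)
    (hex : Function.Exact (u.lTensor (ResidueField R)) (v.lTensor (ResidueField R))) :
    ∃ (s : G →ₗ[R] F) (t : H →ₗ[R] G), u ∘ₗ s + t ∘ₗ v = LinearMap.id := by
  classical
  let C := G ⧸ LinearMap.range u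
  let q : G →ₗ[R] C := (LinearMap.range u).mkQ
  have hq : Function.Surjective q := Submodule.mkQ_surjective _
  let v' : C →ₗ[R] H := (LinearMap.range u).liftQ v (by
    rintro _ ⟨x, rfl⟩
    exact LinearMap.congr_fun huv x)
  have hv' : v' ∘ₗ q = v := Submodule.liftQ_mkQ _ _ _
  have hqu : q ∘ₗ u = 0 := by
    ext x
    exact (Submodule.Quotient.mk_eq_zero _).2 ⟨x, rfl⟩
  have hinj : Function.Injective (v'.lTensor (ResidueField R)) := by
    rw [injective_iff_map_eq_zero]
    intro x hx
    obtain ⟨y, rfl⟩ := LinearMap.lTensor_surjective (ResidueField R) hq x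
    have h1 : (v.lTensor (ResidueField R)) y = 0 := by
      rw [← hv', LinearMap.lTensor_comp]
      exact hx
    obtain ⟨z, rfl⟩ := (hex y).1 h1
    rw [← LinearMap.comp_apply, ← LinearMap.lTensor_comp, hqu, LinearMap.lTensor_zero]
    rfl
  obtain ⟨l', hl'⟩ := (IsLocalRing.split_injective_iff_lTensor_residueField_injective v').2 hinj
  obtain ⟨t, ht⟩ := Module.projective_lifting_property q l' hq
  have hrange : ∀ g : G, g - t (v g) ∈ LinearMap.range u := by
    intro g
    rw [← Submodule.Quotient.mk_eq_zero, Submodule.Quotient.mk_sub]
    have h2 : q (t (v g)) = q g := by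
      have := LinearMap.congr_fun ht (v g)
      rw [LinearMap.comp_apply] at this
      rw [this, ← hv', LinearMap.comp_apply]
      exact LinearMap.congr_fun hl' (q g)
    exact sub_eq_zero.2 h2.symm
  let w : G →ₗ[R] LinearMap.range u :=
    (LinearMap.id - t ∘ₗ v).codRestrict (LinearMap.range u) (fun g => by
      simpa using hrange g)
  obtain ⟨s, hs⟩ := Module.projective_lifting_property u.rangeRestrict w
    (LinearMap.surjective_rangeRestrict u)
  refine ⟨s, t, ?_⟩
  ext g
  have h3 := congrArg Subtype.val (LinearMap.congr_fun hs g)
  simp only [LinearMap.comp_apply, LinearMap.codRestrict_apply, LinearMap.sub_apply,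
    LinearMap.id_apply, w] at h3
  simp only [LinearMap.add_apply, LinearMap.comp_apply, LinearMap.id_apply]
  have h4 : u (s g) = g - t (v g) := h3
  rw [h4]; abel

section Regular

variable {S : Type*} [CommRing S] {M N C : Type*} [AddCommGroup M] [Module S M]
  [AddCommGroup N] [Module S N] [AddCommGroup C] [Module S C]

/-- If `d t d = d` then the cokernel of `d` is a retract of the target. -/
lemma projective_coker_of_regular [Module.Projective S N] (d : M →ₗ[S] N) (q : N →ₗ[S] C)
    (hq : Function.Surjective q) (hdq : Function.Exact d q) (t : N →ₗ[S] M)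
    (ht : d ∘ₗ t ∘ₗ d = d) : Module.Projective S C := by
  let ρ : N →ₗ[S] N := LinearMap.id - d ∘ₗ t
  have hker : LinearMap.ker q ≤ LinearMap.ker ρ := by
    intro x hx
    obtain ⟨y, rfl⟩ := (hdq x).1 hx
    have := LinearMap.congr_fun ht y
    simp only [LinearMap.comp_apply] at this
    simp [ρ, this]
  let σ : C →ₗ[S] N := (LinearMap.ker q).liftQ ρ hker ∘ₗ
    (LinearMap.quotKerEquivOfSurjective q hq).symm.toLinearMap
  have hσ : ∀ x : N, σ (q x) = ρ x := by
    intro x
    have h1 : (LinearMap.quotKerEquivOfSurjective q hq).symm (q x) =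
        Submodule.Quotient.mk x := by
      rw [LinearEquiv.symm_apply_eq]
      rfl
    simp only [σ, LinearMap.comp_apply, LinearEquiv.coe_coe, h1]
    rfl
  have hsplit : q ∘ₗ σ = LinearMap.id := by
    ext c
    obtain ⟨x, rfl⟩ := hq c
    simp only [LinearMap.comp_apply, hσ, LinearMap.id_apply, ρ, LinearMap.sub_apply, map_sub]
    rw [(hdq _).2 ⟨t x, rfl⟩, sub_zero]
  exact Module.Projective.of_split σ q hsplit

/-- If the cokernel of `d` is projective (and source/target are projective) then `d t d = d` for
some `t`. -/
lemma exists_regular_of_projective_coker [Module.Projective S N] [Module.Projective S C]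
    (d : M →ₗ[S] N) (q : N →ₗ[S] C) (hq : Function.Surjective q) (hdq : Function.Exact d q) :
    ∃ t : N →ₗ[S] M, d ∘ₗ t ∘ₗ d = d := by
  obtain ⟨σ, hσ⟩ := Module.projective_lifting_property q LinearMap.id hq
  let ρ : N →ₗ[S] N := LinearMap.id - σ ∘ₗ q
  have hρ : ∀ x, ρ x ∈ LinearMap.range d := by
    intro x
    apply (hdq _).1
    have := LinearMap.congr_fun hσ (q x)
    simp only [LinearMap.comp_apply, LinearMap.id_apply] at this
    simp [ρ, this]
  obtain ⟨t, ht⟩ := Module.projective_lifting_property d.rangeRestrict
    (ρ.codRestrict (LinearMap.range d) hρ) (LinearMap.surjective_rangeRestrict d)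
  refine ⟨t, ?_⟩
  ext x
  have h1 := congrArg Subtype.val (LinearMap.congr_fun ht (d x))
  simp only [LinearMap.comp_apply, LinearMap.codRestrict_apply] at h1
  have h2 : d (t (d x)) = ρ (d x) := h1
  simp only [LinearMap.comp_apply, h2, ρ, LinearMap.sub_apply, LinearMap.id_apply]
  rw [(hdq _).2 ⟨x, rfl⟩, map_zero, sub_zero]

end Regular

section Core

variable {R : Type u} [CommRing R] (p : PrimeSpectrum R)

local notation "Sp" => Localization.AtPrime p.asIdeal
local notation "κp" => p.asIdeal.ResidueField

open TensorProduct.AlgebraTensorModule in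
/-- Naturality of `cancelBaseChange` for the residue field of a localization. -/
lemma cancelBaseChange_naturality {X : Type*} {Y : Type*} [AddCommGroup X] [Module R X]
    [AddCommGroup Y] [Module R Y] (g : X →ₗ[R] Y) (y : κp ⊗[Sp] (Sp ⊗[R] X)) :
    cancelBaseChange R Sp Sp κp Y ((LinearMap.lTensor κp (g.baseChange Sp)) y) =
      (g.baseChange κp) (cancelBaseChange R Sp Sp κp X y) := by
  induction y using TensorProduct.induction_on with
  | zero => simp
  | tmul k z =>
    induction z using TensorProduct.induction_on with
    | zero => simp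
    | tmul a x => simp
    | add z z' hz hz' =>
      rw [TensorProduct.tmul_add, map_add, map_add, map_add, map_add, hz, hz']
  | add y y' hy hy' => rw [map_add, map_add, map_add, map_add, hy, hy']

variable {M : Type v} {N : Type w} [AddCommGroup M] [Module R M] [AddCommGroup N] [Module R N]
  [Module.Finite R M] [Module.Projective R M] [Module.Finite R N] [Module.Projective R N]
  (d : M →ₗ[R] N)

open TensorProduct.AlgebraTensorModule in
/-- The fibre condition at `p` implies that the localized cokernel is projective. -/
lemma projective_of_cond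
    (h : LinearMap.ker (d.baseChange κp) ≤
      LinearMap.range ((LinearMap.ker d).subtype.baseChange κp)) :
    Module.Projective Sp (Sp ⊗[R] (N ⧸ LinearMap.range d)) := by
  have : Module.Free Sp (Sp ⊗[R] N) := Module.free_of_flat_of_isLocalRing
  let u := (LinearMap.ker d).subtype
  let q := (LinearMap.range d).mkQ
  have hdu : d ∘ₗ u = 0 := by
    ext x
    exact x.2
  have huv : (d.baseChange Sp) ∘ₗ (u.baseChange Sp) = 0 := by
    rw [← LinearMap.baseChange_comp, hdu, LinearMap.baseChange_zero]
  have hex : Function.Exact ((u.baseChange Sp).lTensor (IsLocalRing.ResidueField Sp))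
      ((d.baseChange Sp).lTensor (IsLocalRing.ResidueField Sp)) := by
    intro y
    constructor
    · intro hy
      have h1 : cancelBaseChange R Sp Sp κp M y ∈ LinearMap.ker (d.baseChange κp) := by
        rw [LinearMap.mem_ker, ← cancelBaseChange_naturality p d y]
        exact (congrArg _ hy).trans (map_zero _)
      obtain ⟨z, hz⟩ := h h1
      refine ⟨(cancelBaseChange R Sp Sp κp _).symm z, ?_⟩
      apply (cancelBaseChange R Sp Sp κp M).injective
      rw [cancelBaseChange_naturality p u, LinearEquiv.apply_symm_apply]
      exact hz
    · rintro ⟨z, rfl⟩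
      rw [← LinearMap.comp_apply, ← LinearMap.lTensor_comp, huv, LinearMap.lTensor_zero]
      rfl
  obtain ⟨s, t, hst⟩ := exists_contracting_of_exact_residueField' (u.baseChange Sp)
    (d.baseChange Sp) huv hex
  have hq : Function.Surjective (q.baseChange Sp) := by
    rw [LinearMap.baseChange_eq_ltensor]
    exact LinearMap.lTensor_surjective _ (Submodule.mkQ_surjective _)
  have hdq : Function.Exact (d.baseChange Sp) (q.baseChange Sp) := by
    rw [LinearMap.baseChange_eq_ltensor, LinearMap.baseChange_eq_ltensor]
    exact lTensor_exact Sp (LinearMap.exact_map_mkQ_range d) (Submodule.mkQ_surjective _)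
  refine projective_coker_of_regular (d.baseChange Sp) (q.baseChange Sp) hq hdq t ?_
  have := congrArg (fun f => (d.baseChange Sp) ∘ₗ f) hst
  simp only [LinearMap.comp_add, LinearMap.comp_id] at this
  rw [← LinearMap.comp_assoc, huv, LinearMap.zero_comp, zero_add] at this
  exact this

omit [Module.Finite R M] [Module.Finite R N] in
open TensorProduct.AlgebraTensorModule in
/-- If the localized cokernel is projective then the fibre condition at `p` holds. -/
lemma cond_of_projective
    (h : Module.Projective Sp (Sp ⊗[R] (N ⧸ LinearMap.range d))) :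
    LinearMap.ker (d.baseChange κp) ≤
      LinearMap.range ((LinearMap.ker d).subtype.baseChange κp) := by
  let u := (LinearMap.ker d).subtype
  let q := (LinearMap.range d).mkQ
  have hq : Function.Surjective (q.baseChange Sp) := by
    rw [LinearMap.baseChange_eq_ltensor]
    exact LinearMap.lTensor_surjective _ (Submodule.mkQ_surjective _)
  have hdq : Function.Exact (d.baseChange Sp) (q.baseChange Sp) := by
    rw [LinearMap.baseChange_eq_ltensor, LinearMap.baseChange_eq_ltensor]
    exact lTensor_exact Sp (LinearMap.exact_map_mkQ_range d) (Submodule.mkQ_surjective _)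
  have hud : Function.Exact (u.baseChange Sp) (d.baseChange Sp) := by
    rw [LinearMap.baseChange_eq_ltensor, LinearMap.baseChange_eq_ltensor]
    exact Module.Flat.lTensor_exact Sp (LinearMap.exact_subtype_ker_map d)
  obtain ⟨t, ht⟩ := exists_regular_of_projective_coker (d.baseChange Sp) (q.baseChange Sp) hq hdq
  -- the projector onto the kernel
  let π : Sp ⊗[R] M →ₗ[Sp] Sp ⊗[R] M := LinearMap.id - t ∘ₗ (d.baseChange Sp)
  have hπ : ∀ x, π x ∈ LinearMap.range (u.baseChange Sp) := by
    intro x
    apply (hud _).1
    have := LinearMap.congr_fun ht x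
    simp only [LinearMap.comp_apply] at this
    simp [π, this]
  obtain ⟨π', hπ'⟩ := Module.projective_lifting_property (u.baseChange Sp).rangeRestrict
    (π.codRestrict (LinearMap.range (u.baseChange Sp)) hπ)
    (LinearMap.surjective_rangeRestrict _)
  have hπ'' : (u.baseChange Sp) ∘ₗ π' + t ∘ₗ (d.baseChange Sp) = LinearMap.id := by
    apply LinearMap.ext
    intro x
    have h1 := congrArg Subtype.val (LinearMap.congr_fun hπ' x)
    simp only [LinearMap.comp_apply, LinearMap.codRestrict_apply] at h1
    have h2 : (u.baseChange Sp) (π' x) = π x := h1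
    simp only [LinearMap.add_apply, LinearMap.comp_apply, h2, π, LinearMap.sub_apply,
      LinearMap.id_apply]
    abel
  intro x hx
  let y := (cancelBaseChange R Sp Sp κp M).symm x
  have hy : (LinearMap.lTensor κp (d.baseChange Sp)) y = 0 := by
    apply (cancelBaseChange R Sp Sp κp N).injective
    rw [cancelBaseChange_naturality p d, LinearEquiv.apply_symm_apply, map_zero]
    exact hx
  have hy2 : y = (LinearMap.lTensor κp (u.baseChange Sp)) ((LinearMap.lTensor κp π') y) := by
    have h3 := congrArg (fun f => (LinearMap.lTensor κp f) y) hπ''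
    simp only [LinearMap.lTensor_add, LinearMap.lTensor_comp, LinearMap.add_apply,
      LinearMap.comp_apply, LinearMap.lTensor_id, LinearMap.id_apply, hy, map_zero,
      add_zero] at h3
    exact h3.symm
  refine ⟨cancelBaseChange R Sp Sp κp _ ((LinearMap.lTensor κp π') y), ?_⟩
  rw [← cancelBaseChange_naturality p u, ← hy2, LinearEquiv.apply_symm_apply]

/-- The fibre condition at `p` is equivalent to `p` lying in the free locus of the cokernel. -/
theorem cond_iff_mem_freeLocus :
    LinearMap.ker (d.baseChange κp) ≤
      LinearMap.range ((LinearMap.ker d).subtype.baseChange κp) ↔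
      p ∈ Module.freeLocus R (N ⧸ LinearMap.range d) := by
  rw [Module.mem_freeLocus_iff_tensor p Sp]
  constructor
  · intro h
    have := projective_of_cond p d h
    exact Module.free_of_flat_of_isLocalRing
  · intro h
    exact cond_of_projective p d inferInstance

omit p [Module.Projective R M] in
lemma finitePresentation_coker : Module.FinitePresentation R (N ⧸ LinearMap.range d) := by
  have : Module.FinitePresentation R N := Module.finitePresentation_of_projective R N
  refine Module.finitePresentation_of_surjective (LinearMap.range d).mkQ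
    (Submodule.mkQ_surjective _) ?_
  rw [Submodule.ker_mkQ, LinearMap.range_eq_map]
  exact Module.Finite.fg_top.map d

end Core

end Groth.Agent.Lib.Helper13.CA
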