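import Mathlib
import Groth.Agent.Lib.Helper18.DimFormula2

set_option autoImplicit false
set_option linter.style.haveILetI false
set_option linter.unusedSectionVars false

universe u

open Polynomial

namespace Groth.Agent.Lib.Helper13.CMS2

open Groth.Agent.Lib.Helper18.DimFormula

section Transport

variable {R S S' : Type u} [CommRing R] [CommRing S] [CommRing S'] [Algebra R S] [Algebra R S']

/-- transport of the height/trdeg pair along an algebra isomorphism -/
theorem height_add_trdeg_comap (e : S ≃ₐ[R] S') (p : Ideal R) (Q' : Ideal S') [Q'.IsPrime]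
    [Q'.LiesOver p] :
    ((Q'.comap (e : S →ₐ[R] S')).height : Cardinal.{u}) +
        Algebra.trdeg (R ⧸ p) (S ⧸ Q'.comap (e : S →ₐ[R] S')) =
      (Q'.height : Cardinal.{u}) + Algebra.trdeg (R ⧸ p) (S' ⧸ Q') := by
  rw [trdeg_quotient_comap (e : S →ₐ[R] S') e.surjective p Q']
  congr 2
  exact e.toRingEquiv.height_comap Q'

theorem eq_comap_algEquiv (e : S ≃ₐ[R] S') (Q : Ideal S) :
    Q = (Q.comap (e.symm : S' →ₐ[R] S)).comap (e : S →ₐ[R] S') := by
  ext x
  simp [Ideal.mem_comap]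

end Transport

section Main

variable (R : Type u) [CommRing R] [IsNoetherianRing R]

omit [IsNoetherianRing R] in
theorem trdeg_eq_zero_of_surjective {K L : Type u} [CommRing K] [Nontrivial K] [CommRing L]
    [Algebra K L] (h : Function.Surjective (algebraMap K L)) : Algebra.trdeg K L = 0 := by
  haveI : Algebra.IsIntegral K L := Algebra.isIntegral_of_surjective h
  exact _root_.trdeg_eq_zero

/-- the dimension formula for polynomial rings in `n` variables over a Noetherian ring -/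
theorem mvPoly_formula (n : ℕ) :
    ∀ (p : Ideal R) [p.IsPrime] (Q : Ideal (MvPolynomial (Fin n) R)) [Q.IsPrime] [Q.LiesOver p],
    (Q.height : Cardinal.{u}) + Algebra.trdeg (R ⧸ p) (MvPolynomial (Fin n) R ⧸ Q) =
      (p.height : Cardinal.{u}) + n := by
  induction n with
  | zero =>
    intro p _ Q _ hQp
    let e : MvPolynomial (Fin 0) R ≃ₐ[R] R := MvPolynomial.isEmptyAlgEquiv R (Fin 0)
    haveI : p.LiesOver p := ⟨(Ideal.comap_id p).symm⟩
    have hQ : Q = p.comap (e : MvPolynomial (Fin 0) R →ₐ[R] R) := by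
      have h1 := eq_comap_algEquiv e Q
      have h2 : Q.comap (e.symm : R →ₐ[R] MvPolynomial (Fin 0) R) = p := by
        rw [hQp.over]
        ext r
        simp only [Ideal.mem_comap, Ideal.under_def]
        have : (e.symm : R →ₐ[R] MvPolynomial (Fin 0) R) r = algebraMap R _ r := by
          simp [e]
        rw [this]
      rw [h2] at h1
      exact h1
    subst hQ
    rw [height_add_trdeg_comap e p p]
    congr 1
    rw [Nat.cast_zero]
    refine @trdeg_eq_zero_of_surjective _ _ _ _ _ (Ideal.Quotient.algebraOfLiesOver p p) ?_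
    intro x
    obtain ⟨r, rfl⟩ := Ideal.Quotient.mk_surjective x
    exact ⟨Ideal.Quotient.mk p r, rfl⟩
  | succ n ih =>
    intro p _ Q _ hQp
    let T := MvPolynomial (Fin n) R
    let e : MvPolynomial (Fin (n + 1)) R ≃ₐ[R] T[X] := MvPolynomial.finSuccEquiv R n
    let Q' : Ideal T[X] := Q.comap (e.symm : T[X] →ₐ[R] MvPolynomial (Fin (n + 1)) R)
    have hQ : Q = Q'.comap (e : MvPolynomial (Fin (n + 1)) R →ₐ[R] T[X]) := eq_comap_algEquiv e Q
    haveI : Q'.IsPrime := Ideal.comap_isPrime _ _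
    let Q'' : Ideal T := Q'.under T
    haveI : Q''.IsPrime := Ideal.comap_isPrime _ _
    have h1 := poly_formula T Q'' Q'
    have h2 := ih p Q''
    have h3 : Algebra.trdeg (R ⧸ p) (T ⧸ Q'') + Algebra.trdeg (T ⧸ Q'') (T[X] ⧸ Q') =
        Algebra.trdeg (R ⧸ p) (T[X] ⧸ Q') :=
      _root_.trdeg_add_eq (R ⧸ p) (T ⧸ Q'') (A := T[X] ⧸ Q')
    have h4 := height_add_trdeg_comap e p Q'
    have key : ∀ (Q₁ : Ideal (MvPolynomial (Fin (n + 1)) R)) [Q₁.IsPrime] [Q₁.LiesOver p],
        Q₁ = Q'.comap (e : MvPolynomial (Fin (n + 1)) R →ₐ[R] T[X]) →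
        (Q₁.height : Cardinal.{u}) + Algebra.trdeg (R ⧸ p) (MvPolynomial (Fin (n + 1)) R ⧸ Q₁) =
          (p.height : Cardinal.{u}) + ((n + 1 : ℕ) : Cardinal.{u}) := by
      intro Q₁ _ _ hQ₁
      subst hQ₁
      rw [h4, ← h3]
      calc (Q'.height : Cardinal.{u}) + (Algebra.trdeg (R ⧸ p) (T ⧸ Q'') +
            Algebra.trdeg (T ⧸ Q'') (T[X] ⧸ Q'))
          = ((Q'.height : Cardinal.{u}) + Algebra.trdeg (T ⧸ Q'') (T[X] ⧸ Q')) +
            Algebra.trdeg (R ⧸ p) (T ⧸ Q'') := by ring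
        _ = ((Q''.height : Cardinal.{u}) + 1) + Algebra.trdeg (R ⧸ p) (T ⧸ Q'') := by rw [h1]
        _ = ((Q''.height : Cardinal.{u}) + Algebra.trdeg (R ⧸ p) (T ⧸ Q'')) + 1 := by ring
        _ = ((p.height : Cardinal.{u}) + n) + 1 := by rw [h2]
        _ = _ := by push_cast; ring
    exact key Q hQ

theorem sub_le_height_of_trdeg_le (n r : ℕ) (p : Ideal R) [p.IsPrime]
    (Q : Ideal (MvPolynomial (Fin n) R)) [hQ : Q.IsPrime] [Q.LiesOver p]
    (h : Algebra.trdeg (R ⧸ p) (MvPolynomial (Fin n) R ⧸ Q) ≤ (r : Cardinal.{u})) :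
    ((n - r : ℕ) : ℕ∞) ≤ Q.height := by
  have hf := mvPoly_formula R n p Q
  haveI : IsNoetherianRing (MvPolynomial (Fin n) R) := inferInstance
  obtain ⟨m, hm⟩ := ENat.ne_top_iff_exists.mp (Ideal.height_ne_top hQ.ne_top)
  rw [← hm] at hf ⊢
  have h1 : (n : Cardinal.{u}) ≤ ((m + r : ℕ) : Cardinal.{u}) := by
    calc (n : Cardinal.{u}) ≤ (p.height : Cardinal.{u}) + n := le_add_self
      _ = ((m : ℕ∞) : Cardinal.{u}) + Algebra.trdeg (R ⧸ p) (MvPolynomial (Fin n) R ⧸ Q) := hf.symm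
      _ ≤ ((m : ℕ∞) : Cardinal.{u}) + r := add_le_add le_rfl h
      _ = _ := by push_cast; rfl
  have h2 : n ≤ m + r := by exact_mod_cast h1
  exact_mod_cast (by omega : n - r ≤ m)

end Main

end Groth.Agent.Lib.Helper13.CMS2
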