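import Mathlib
import Groth.Agent.Lib.Helper6.UnivHomeoRF
import Groth.Agent.Lib.Helper18.SchDim1
import Groth.Prelude.Def_Dual3

set_option autoImplicit false
set_option linter.style.haveILetI false
set_option linter.unusedSectionVars false

universe u

open AlgebraicGeometry CategoryTheory

namespace Groth.Agent.Lib.Helper13.CMS2

open Groth.Agent.Lib.Helper6.UnivHomeoRing Groth.Agent.Lib.Helper18.SchDim

section Bridge

/-- evaluation on the quotient by the prime of a point of `Spec A` -/
noncomputable def evQ (A : CommRingCat.{u}) (x : Spec A) (I : Ideal A) (hI : I = x.asIdeal) :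
    A ⧸ I →+* (Spec A).residueField x :=
  Ideal.Quotient.lift I (ev A x) (fun a ha => by
    rw [hI] at ha
    exact (ev_eq_zero_iff A x a).mpr ha)

theorem evQ_injective (A : CommRingCat.{u}) (x : Spec A) (I : Ideal A) (hI : I = x.asIdeal) :
    Function.Injective (evQ A x I hI) := by
  rw [injective_iff_map_eq_zero]
  intro a ha
  obtain ⟨a, rfl⟩ := Ideal.Quotient.mk_surjective a
  change ev A x a = 0 at ha
  rw [Ideal.Quotient.eq_zero_iff_mem, hI]
  exact (ev_eq_zero_iff A x a).mp ha

theorem isFractionRing_evQ (A : CommRingCat.{u}) (x : Spec A) (I : Ideal A) (hI : I = x.asIdeal) :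
    @IsFractionRing (A ⧸ I) _ ((Spec A).residueField x) _ (evQ A x I hI).toAlgebra := by
  letI := (evQ A x I hI).toAlgebra
  refine ⟨?_, ?_, ?_⟩
  · rintro ⟨s, hs⟩
    apply IsUnit.mk0
    intro h0
    have hs0 : s = 0 := evQ_injective A x I hI (by rw [map_zero]; exact h0)
    haveI : Nontrivial (A ⧸ I) := by
      rw [Ideal.Quotient.nontrivial_iff, hI]
      exact x.isPrime.ne_top
    exact (nonZeroDivisors.ne_zero hs) hs0
  · intro z
    obtain ⟨d, hd, c, hdc⟩ := exists_ev_mul_eq A x z
    have ht : (Ideal.Quotient.mk I d) ∈ nonZeroDivisors (A ⧸ I) := by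
      haveI : I.IsPrime := hI ▸ x.isPrime
      rw [mem_nonZeroDivisors_iff_ne_zero, Ne, Ideal.Quotient.eq_zero_iff_mem, hI]
      exact hd
    exact ⟨⟨Ideal.Quotient.mk _ c, ⟨_, ht⟩⟩, hdc⟩
  · intro a b hab
    exact ⟨1, by rw [evQ_injective A x I hI hab]⟩

/-- the residue field extension at a point of `Spec A → Spec R` has the transcendence degree of
the corresponding extension of domains -/
theorem resTrdeg_specMap (R A : Type u) [CommRing R] [CommRing A] [Algebra R A]
    (q : PrimeSpectrum A) :
    Dual3.resTrdeg (Spec.map (CommRingCat.ofHom (algebraMap R A))) q =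
      Algebra.trdeg (R ⧸ q.asIdeal.under R) (A ⧸ q.asIdeal) := by
  unfold Dual3.resTrdeg
  let φ : CommRingCat.of R ⟶ CommRingCat.of A := CommRingCat.ofHom (algebraMap R A)
  have hI : q.asIdeal.under R = ((Spec.map φ) q).asIdeal := rfl
  refine trdeg_eq_of_isFractionRing (evQ (CommRingCat.of R) ((Spec.map φ) q) _ hI)
    (evQ (CommRingCat.of A) q _ rfl) ((Spec.map φ).residueFieldMap q).hom
    (isFractionRing_evQ _ _ _ hI) (isFractionRing_evQ _ _ _ rfl) ?_
  apply Ideal.Quotient.ringHom_ext
  ext a
  exact residueFieldMap_ev φ q a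

end Bridge

end Groth.Agent.Lib.Helper13.CMS2
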