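import Mathlib
import Groth.Agent.Lib.Helper18.UCat
import Groth.Agent.Lib.Helper18.RkFlat2
import Groth.Agent.Lib.Helper18.FibQuot
import Groth.Agent.Lib.Helper16.CMLocalRing

set_option autoImplicit false
set_option linter.style.haveILetI false
set_option linter.unusedSectionVars false
set_option linter.overlappingInstances false

universe u

open IsLocalRing TensorProduct

namespace Groth.Agent.Lib.Helper13.CMS2

open Groth.Agent.Lib.Helper18.RkFlat Groth.Agent.Lib.Helper18.FibBridge
  Groth.Agent.Lib.Helper18.PMor Groth.Agent.Lib.Helper23 Groth.Agent.Lib.Helper23.RegularHom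
  Groth.Agent.Lib.Helper18.UCat

section ascent

variable (A B : Type u) [CommRing A] [CommRing B] [Algebra A B]
  [IsNoetherianRing A] [IsNoetherianRing B]

/-- Cohen–Macaulayness ascends along flat maps with CM fibres, at one prime -/
theorem isCohenMacaulayLocalRing_of_flat_of_fibre [Module.Flat A B] (Q : Ideal B) [Q.IsPrime]
    (hA : LocCoh.IsCohenMacaulayLocalRing (Localization.AtPrime (Q.comap (algebraMap A B))))
    (hf : LocCoh.IsCohenMacaulayRing ((Q.comap (algebraMap A B)).Fiber B)) :
    LocCoh.IsCohenMacaulayLocalRing (Localization.AtPrime Q) := by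
  haveI : IsNoetherianRing (Localization.AtPrime Q) :=
    IsLocalization.isNoetherianRing Q.primeCompl _ inferInstance
  refine ⟨?_⟩
  haveI l1 := isLocalRing_fibLocRing A B Q
  have h1 := height_eq_add_fibLocRing A B Q
  have h2 := depth_eq_add_fibLocRing A B Q
  have h3 := (isCohenMacaulayRing_fiber_iff (Q.comap (algebraMap A B))).mp hf Q rfl
  have h4 := hA.supportDim_eq_depth
  rw [Module.supportDim_self_eq_ringKrullDim,
    IsLocalization.AtPrime.ringKrullDim_eq_height (Q.comap (algebraMap A B))
      (Localization.AtPrime (Q.comap (algebraMap A B)))] at h4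
  rw [Module.supportDim_self_eq_ringKrullDim,
    IsLocalization.AtPrime.ringKrullDim_eq_height Q (Localization.AtPrime Q), h1, h2, h3, h4]
  push_cast
  rfl

end ascent

section loc

variable (R : Type u) [CommRing R] [IsNoetherianRing R]

theorem isCohenMacaulayLocalRing_of_le (p q : Ideal R) [p.IsPrime] [q.IsPrime] (hqp : q ≤ p)
    [hp : LocCoh.IsCohenMacaulayLocalRing (Localization.AtPrime p)] :
    LocCoh.IsCohenMacaulayLocalRing (Localization.AtPrime q) := by
  have hR := Groth.Agent.Lib.Helper16.CMLocalRing.isCohenMacaulayRing (Localization.AtPrime p)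
  haveI hq' := isPrime_map_of_le p q hqp
  haveI := hR.isCohenMacaulayLocalRing_localization (q.map (algebraMap R (Localization.AtPrime p)))
  obtain ⟨e⟩ := nonempty_locEquiv_of_le p q hqp
  exact Groth.Agent.Lib.Helper18.FibQuot.isCohenMacaulayLocalRing_of_ringEquiv e

/-- localizations of a polynomial ring over `R` at primes whose contraction lies in a prime `p`
with `R_p` Cohen–Macaulay are Cohen–Macaulay -/
theorem isCohenMacaulayLocalRing_mvPolynomial_atPrime (n : ℕ) (p : Ideal R) [p.IsPrime]
    [hp : LocCoh.IsCohenMacaulayLocalRing (Localization.AtPrime p)]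
    (Q : Ideal (MvPolynomial (Fin n) R)) [Q.IsPrime] (hQ : Q.under R ≤ p) :
    LocCoh.IsCohenMacaulayLocalRing (Localization.AtPrime Q) := by
  haveI : IsNoetherianRing (MvPolynomial (Fin n) R) := inferInstance
  apply isCohenMacaulayLocalRing_of_flat_of_fibre R (MvPolynomial (Fin n) R) Q
  · exact isCohenMacaulayLocalRing_of_le R p _ hQ
  · let p' := Q.comap (algebraMap R (MvPolynomial (Fin n) R))
    haveI : Algebra.FinitePresentation R (MvPolynomial (Fin n) R) := inferInstance
    haveI : Algebra.Smooth R (MvPolynomial (Fin n) R) := ⟨inferInstance, inferInstance⟩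
    haveI : Algebra.Smooth p'.ResidueField (p'.Fiber (MvPolynomial (Fin n) R)) := inferInstance
    haveI : IsRegularRing p'.ResidueField := inferInstance
    exact isCohenMacaulayRing_of_isRegularRing
      (isRegularRing_of_smooth p'.ResidueField (p'.Fiber (MvPolynomial (Fin n) R)))

end loc

end Groth.Agent.Lib.Helper13.CMS2
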