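import Mathlib
import Groth.Agent.Lib.Helper13.CMS2a
import Groth.Agent.Lib.Helper13.CMS2b
import Groth.Agent.Lib.Helper13.CMS2c
import Groth.Agent.Lib.Helper23.SyntF2

set_option autoImplicit false
set_option linter.style.haveILetI false
set_option linter.unusedSectionVars false

universe u

open IsLocalRing AlgebraicGeometry CategoryTheory RingTheory.Sequence

namespace Groth.Agent.Lib.Helper13.CMS2

open Groth.Agent.Lib.Helper18.DimFormula Groth.Agent.Lib.Helper16.Depth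
  Groth.Agent.Lib.Helper18.CM

section

variable (R A : Type u) [CommRing R] [CommRing A] [IsNoetherianRing R] [Algebra R A]
  (n : ℕ) (ψ : MvPolynomial (Fin n) R →ₐ[R] A) (hψ : Function.Surjective ψ) (r : ℕ)
  (hr : ∀ q : PrimeSpectrum A, q.asIdeal ∈ minimalPrimes A →
    Dual3.resTrdeg (Spec.map (CommRingCat.ofHom (algebraMap R A))) q ≤ (r : Cardinal.{u}))

include hψ hr in
/-- every minimal prime of the kernel of the presentation has height at least `n - r` -/
theorem le_height_of_mem_minimalPrimes_ker (Q₀ : Ideal (MvPolynomial (Fin n) R))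
    (hQ₀ : Q₀ ∈ (RingHom.ker (ψ : MvPolynomial (Fin n) R →+* A)).minimalPrimes) :
    ((n - r : ℕ) : ℕ∞) ≤ Q₀.height := by
  have hψ' : Function.Surjective (ψ : MvPolynomial (Fin n) R →+* A) := hψ
  rw [RingHom.ker_eq_comap_bot, Ideal.comap_minimalPrimes_eq_of_surjective hψ'] at hQ₀
  obtain ⟨q₀, hq₀, rfl⟩ := hQ₀
  haveI : q₀.IsPrime := hq₀.isPrime
  have h1 := hr ⟨q₀, inferInstance⟩ hq₀
  rw [resTrdeg_specMap] at h1
  have h2 := trdeg_quotient_comap ψ hψ (q₀.under R) q₀
  haveI : (q₀.comap (ψ : MvPolynomial (Fin n) R →+* A)).IsPrime := Ideal.comap_isPrime _ _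
  exact sub_le_height_of_trdeg_le R n r (q₀.under R) (q₀.comap ψ) (h2.le.trans h1)

include hψ hr in
/-- in the Cohen–Macaulay local ring `P_𝔔`, the extended kernel contains a regular sequence of
length `n - r` -/
theorem exists_isWeaklyRegular_atPrime (p : Ideal R) [p.IsPrime]
    [LocCoh.IsCohenMacaulayLocalRing (Localization.AtPrime p)]
    (𝔔 : Ideal (MvPolynomial (Fin n) R)) [𝔔.IsPrime] (h𝔔 : 𝔔.under R ≤ p)
    (hker : RingHom.ker (ψ : MvPolynomial (Fin n) R →+* A) ≤ 𝔔) :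
    ∃ rs : List (Localization.AtPrime 𝔔), rs.length = n - r ∧
      (∀ x ∈ rs, x ∈ (RingHom.ker (ψ : MvPolynomial (Fin n) R →+* A)).map
        (algebraMap (MvPolynomial (Fin n) R) (Localization.AtPrime 𝔔))) ∧
      IsWeaklyRegular (Localization.AtPrime 𝔔) rs := by
  haveI hCM := isCohenMacaulayLocalRing_mvPolynomial_atPrime R n p 𝔔 h𝔔
  haveI := Groth.Agent.Lib.Helper16.CMLocalRing.isCohenMacaulayRing (Localization.AtPrime 𝔔)
  set 𝔞 : Ideal (Localization.AtPrime 𝔔) := (RingHom.ker (ψ : MvPolynomial (Fin n) R →+* A)).map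
        (algebraMap (MvPolynomial (Fin n) R) (Localization.AtPrime 𝔔)) with h𝔞def
  have h𝔞 : 𝔞 ≤ maximalIdeal (Localization.AtPrime 𝔔) := by
    rw [← Localization.AtPrime.map_eq_maximalIdeal]
    exact Ideal.map_mono hker
  have h𝔞top : 𝔞 ≠ ⊤ := fun h => (IsLocalRing.maximalIdeal.isMaximal _).ne_top
    (top_le_iff.mp (h ▸ h𝔞))
  have h1 := height_le_idealDepth_of_isCohenMacaulayRing 𝔞 h𝔞top
  have h2 : ((n - r : ℕ) : ℕ∞) ≤ 𝔞.height :=
    Groth.Agent.Lib.Helper23.SyntF.le_height_map_atPrime _ 𝔔 _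
      (fun P' hP' _ => le_height_of_mem_minimalPrimes_ker R A n ψ hψ r hr P' hP')
  have h3 := h2.trans h1
  rw [le_idealDepth_iff] at h3
  rcases h3 with h3 | ⟨rs, hlen, hreg, hmem⟩
  · exfalso
    rw [smul_eq_mul, Ideal.mul_top] at h3
    exact h𝔞top h3
  · exact ⟨rs, hlen, hmem, hreg⟩

end

end Groth.Agent.Lib.Helper13.CMS2
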