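import Mathlib
import Groth.Agent.Lib.Helper18.CM12
import Groth.Agent.Lib.Helper18.QGor7

set_option autoImplicit false
set_option linter.style.haveILetI false
set_option linter.unusedSectionVars false

universe u

open CategoryTheory RingTheory.Sequence IsLocalRing Pointwise CategoryTheory.Abelian

namespace Groth.Agent.Lib.Helper13.CMS2

open Groth.Agent.Lib.Helper18.CM

section extShift

variable {R : Type u} [CommRing R] (N : ModuleCat.{u} R)

/-- the connecting isomorphism `Ext^n(N, M/xM) ≃ Ext^{n+1}(N, M)`, linearly -/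
noncomputable def extQuotSMulTopLinearEquiv (M : Type u) [AddCommGroup M] [Module R M] {x : R}
    (hreg : IsSMulRegular M x) (hx : x ∈ Module.annihilator R N) (n : ℕ)
    (hvan : Subsingleton (Ext N (ModuleCat.of R M) n)) :
    Ext N (ModuleCat.of R (QuotSMulTop x M)) n ≃ₗ[R] Ext N (ModuleCat.of R M) (n + 1) :=
  LinearEquiv.ofBijective
    ((hreg.smulShortComplex_shortExact (M := ModuleCat.of R M)).extClass.postcompOfLinear R N
      (rfl : n + 1 = n + 1))
    (extQuotSMulTopAddEquiv N M hreg hx n hvan).bijective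

/-- `Hom(N, M/xsM) ≃ₗ Ext^{|xs|}(N, M)` for a weakly regular sequence killing `N`. -/
theorem nonempty_hom_quot_linearEquiv_ext (xs : List R)
    (hxs : ∀ x ∈ xs, x ∈ Module.annihilator R N) :
    ∀ (M : Type u) [AddCommGroup M] [Module R M], IsWeaklyRegular M xs →
      Nonempty ((N →ₗ[R] (M ⧸ (Ideal.ofList xs • (⊤ : Submodule R M)))) ≃ₗ[R]
        Ext N (ModuleCat.of R M) xs.length) := by
  induction xs with
  | nil =>
    intro M _ _ _
    refine ⟨?_⟩
    exact ((LinearEquiv.arrowCongr (LinearEquiv.refl R N) (quotOfListNilEquiv M)).trans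
      (ModuleCat.homLinearEquiv (S := R) (M := N) (N := ModuleCat.of R M)).symm).trans
        (Ext.linearEquiv₀ (R := R)).symm
  | cons x xs ih =>
    intro M _ _ hreg
    have hreg' := hreg
    rw [isWeaklyRegular_cons_iff] at hreg
    have hx : x ∈ Module.annihilator R N := hxs x List.mem_cons_self
    obtain ⟨e1⟩ := ih (fun y hy => hxs y (List.mem_cons_of_mem _ hy)) (QuotSMulTop x M) hreg.2
    have hvan := subsingleton_ext_of_isWeaklyRegular N (x :: xs) hxs M hreg' xs.length (by simp)
    refine ⟨?_⟩
    exact ((LinearEquiv.arrowCongr (LinearEquiv.refl R N)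
      (Submodule.quotOfListConsSMulTopEquivQuotSMulTopInner M x xs)).trans e1).trans
      (extQuotSMulTopLinearEquiv N M hreg.1 hx xs.length hvan)

end extShift

section homReg

variable {R : Type u} [CommRing R] (N M : Type u) [AddCommGroup N] [Module R N]
  [AddCommGroup M] [Module R M]

theorem isSMulRegular_hom {x : R} (hx : IsSMulRegular M x) : IsSMulRegular (N →ₗ[R] M) x := by
  intro f g hfg
  ext n
  apply hx
  have := LinearMap.congr_fun hfg n
  simpa using this

theorem isSMulRegular_quotSMulTop_hom {x y : R} (hx : IsSMulRegular M x)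
    (hy : IsSMulRegular (QuotSMulTop x M) y) : IsSMulRegular (QuotSMulTop x (N →ₗ[R] M)) y := by
  rw [isSMulRegular_quotient_iff_mem_of_smul_mem] at hy ⊢
  intro f hf
  rw [Submodule.mem_smul_pointwise_iff_exists] at hf ⊢
  obtain ⟨g, -, hg⟩ := hf
  have h1 : ∀ n, ∃ m, x • m = f n := by
    intro n
    have h2 : y • f n ∈ x • (⊤ : Submodule R M) := by
      rw [Submodule.mem_smul_pointwise_iff_exists]
      refine ⟨g n, trivial, ?_⟩
      have := LinearMap.congr_fun hg n
      simpa using this
    have h3 := hy (f n) h2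
    rw [Submodule.mem_smul_pointwise_iff_exists] at h3
    obtain ⟨m, -, hm⟩ := h3
    exact ⟨m, hm⟩
  choose h hh using h1
  refine ⟨{ toFun := h, map_add' := ?_, map_smul' := ?_ }, trivial, ?_⟩
  · intro a b
    apply hx
    show x • h (a + b) = x • (h a + h b)
    rw [smul_add, hh, hh, hh, map_add]
  · intro c a
    apply hx
    show x • h (c • a) = x • (c • h a)
    rw [smul_comm, hh, hh, map_smul]
  · ext n
    exact hh n

/-- a weakly regular sequence of length two on `M` is weakly regular on `Hom(N, M)` -/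
theorem isWeaklyRegular_hom_pair {x y : R} (h : IsWeaklyRegular M [x, y]) :
    IsWeaklyRegular (N →ₗ[R] M) [x, y] := by
  rw [isWeaklyRegular_cons_iff, isWeaklyRegular_cons_iff] at h ⊢
  exact ⟨isSMulRegular_hom N M h.1, isSMulRegular_quotSMulTop_hom N M h.1 h.2.1,
    IsWeaklyRegular.nil R _⟩

end homReg

section homSk

open Groth.Agent.Lib.Helper16.Depth Groth.Agent.Lib.Helper18.QGor

variable {R : Type u} [CommRing R] (N M : Type u) [AddCommGroup N] [Module R N]
  [AddCommGroup M] [Module R M]

theorem hasRegSeq_hom (I : Ideal R) (k : ℕ) (hk : k ≤ 2) (h : HasRegSeq I M k) :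
    HasRegSeq I (N →ₗ[R] M) k := by
  obtain ⟨rs, hlen, hreg, hmem⟩ := h
  refine ⟨rs, hlen, ?_, hmem⟩
  match rs, hlen, hreg with
  | [], _, _ => exact IsWeaklyRegular.nil R _
  | [x], _, hreg =>
    rw [isWeaklyRegular_cons_iff] at hreg ⊢
    exact ⟨isSMulRegular_hom N M hreg.1, IsWeaklyRegular.nil R _⟩
  | [x, y], _, hreg => exact isWeaklyRegular_hom_pair N M hreg
  | x :: y :: z :: l, hlen, _ =>
    exfalso
    simp at hlen
    omega

theorem support_hom_subset [Module.Finite R M] :
    Module.support R (N →ₗ[R] M) ⊆ Module.support R M := by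
  intro p hp
  have h1 := Module.annihilator_le_of_mem_support hp
  rw [Module.mem_support_iff_of_finite]
  refine le_trans ?_ h1
  intro a ha
  rw [Module.mem_annihilator] at ha ⊢
  intro f
  ext n
  simpa using ha (f n)

variable [IsLocalRing R] [IsNoetherianRing R] [Module.Finite R N] [Module.Finite R M]

/-- `Hom(N, M)` inherits the `(S₂)` inequality at the closed point from `M` -/
theorem sk_two_hom
    (hM : min (2 : WithBot ℕ∞) (Module.supportDim R M) ≤
      ((LocCoh.depth R M : ℕ∞) : WithBot ℕ∞)) :
    min (2 : WithBot ℕ∞) (Module.supportDim R (N →ₗ[R] M)) ≤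
      ((LocCoh.depth R (N →ₗ[R] M) : ℕ∞) : WithBot ℕ∞) := by
  have hdim : Module.supportDim R (N →ₗ[R] M) ≤ Module.supportDim R M :=
    Groth.Agent.Lib.Helper18.CM.supportDim_le_of_support_subset (support_hom_subset N M)
  have key : ∀ k : ℕ, k ≤ 2 → (k : WithBot ℕ∞) ≤ Module.supportDim R (N →ₗ[R] M) →
      (k : ℕ∞) ≤ LocCoh.depth R M → (k : ℕ∞) ≤ LocCoh.depth R (N →ₗ[R] M) := by
    intro k hk _ hd
    unfold LocCoh.depth at hd ⊢
    rw [le_idealDepth_iff] at hd ⊢
    rcases hd with hd | hd
    · left
      have hsub : Subsingleton M := by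
        by_contra hns
        rw [not_subsingleton_iff_nontrivial] at hns
        exact Groth.Agent.Lib.Helper18.CM.maximalIdeal_smul_top_ne_top (R := R) M hd
      exact Subsingleton.elim _ _
    · right
      exact hasRegSeq_hom N M _ k hk hd
  apply sk_aux2
  · intro hs
    have hsM : (1 : WithBot ℕ∞) ≤ Module.supportDim R M := hs.trans hdim
    have hdM : 1 ≤ LocCoh.depth R M := one_le_of_min_le (k := 2) (by norm_num) (by simpa using hM) hsM
    have := key 1 (by norm_num) (by simpa using hs) (by simpa using hdM)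
    simpa using this
  · intro hs
    have hsM : (2 : WithBot ℕ∞) ≤ Module.supportDim R M := hs.trans hdim
    have hdM : 2 ≤ LocCoh.depth R M := two_le_of_min_le hM hsM
    have := key 2 le_rfl (by simpa using hs) (by simpa using hdM)
    simpa using this

end homSk

end Groth.Agent.Lib.Helper13.CMS2
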