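import Mathlib
import Groth.Agent.Lib.Helper18.SkAt

set_option autoImplicit false
set_option linter.style.haveILetI false
set_option linter.unusedSectionVars false

universe u

namespace Groth.Agent.Lib.Helper13.CMS2

section

variable {A B : Type u} [CommRing A] [CommRing B] [Algebra A B]
  (hsurj : Function.Surjective (algebraMap A B))
  (M : Type u) [AddCommGroup M] [Module A M] [Module B M] [IsScalarTower A B M]

omit hsurj in
theorem comap_mem_support (Q : PrimeSpectrum B) (hQ : Q ∈ Module.support B M) :
    PrimeSpectrum.comap (algebraMap A B) Q ∈ Module.support A M := by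
  rw [Module.mem_support_iff_exists_annihilator] at hQ ⊢
  obtain ⟨m, hm⟩ := hQ
  refine ⟨m, ?_⟩
  intro a ha
  rw [Submodule.mem_annihilator_span_singleton] at ha
  change algebraMap A B a ∈ Q.asIdeal
  apply hm
  rw [Submodule.mem_annihilator_span_singleton, algebraMap_smul]
  exact ha

include hsurj in
/-- `dim_{B_P} M_P ≤ dim_{A_p} M_p` for `p` the contraction of `P` along a surjection -/
theorem supportDim_localization_le_comap_of_surjective (P : Ideal B) [P.IsPrime] :
    Module.supportDim (Localization.AtPrime P) (LocalizedModule P.primeCompl M) ≤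
      Module.supportDim (Localization.AtPrime (P.comap (algebraMap A B)))
        (LocalizedModule (P.comap (algebraMap A B)).primeCompl M) := by
  rw [Groth.Agent.Lib.Helper18.SkAt.supportDim_localizedModule_eq_krullDim,
    Groth.Agent.Lib.Helper18.SkAt.supportDim_localizedModule_eq_krullDim]
  let f : {Q : Module.support B M // Q.1.asIdeal ≤ P} →
      {Q' : Module.support A M // Q'.1.asIdeal ≤ P.comap (algebraMap A B)} :=
    fun Q => ⟨⟨PrimeSpectrum.comap (algebraMap A B) Q.1.1, comap_mem_support M Q.1.1 Q.1.2⟩,
      Ideal.comap_mono Q.2⟩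
  refine Order.krullDim_le_of_strictMono f ?_
  intro Q₁ Q₂ h
  have h' : Q₁.1.1.asIdeal < Q₂.1.1.asIdeal := h
  change Q₁.1.1.asIdeal.comap (algebraMap A B) < Q₂.1.1.asIdeal.comap (algebraMap A B)
  refine lt_of_le_of_ne (Ideal.comap_mono h'.le) ?_
  intro heq
  exact h'.ne (Ideal.comap_injective_of_surjective _ hsurj heq)

end

end Groth.Agent.Lib.Helper13.CMS2
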