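import Groth.Agent.Lib.Helper13.DualBC33
import Groth.Agent.S11179

/-!
# Flat local base change of a dualizing complex with Gorenstein closed fibre
-/

set_option autoImplicit false
set_option linter.unusedSectionVars false

open CategoryTheory CategoryTheory.Limits Pretriangulated TensorProduct

universe u

namespace Groth.Agent.Lib.Helper13.DualBC

open DerivedCategory Groth.Agent.Lib.Helper13.Coind Groth.Agent.Lib.Helper13.PC
  Groth.Agent.Lib.Helper13.DR Groth.Agent.Lib.Helper13.Shriek Groth.Agent.Lib.Helper13.BD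
  Groth.Agent.Lib.Helper13.HomBC

attribute [local instance] HasDerivedCategory.standard

section Semi

variable {C F : Type*} [CommRing C] [CommRing F] [Algebra C F]

/-- A bijection `M ≃ F` homogeneous for the `C`-actions gives an `F`-linear equivalence. -/
lemma nonempty_linearEquiv_self_of_semilinear (hs : Function.Surjective (algebraMap C F))
    {M : Type*} [AddCommGroup M] [Module F M] {N : Type*} [AddCommGroup N] [Module C N]
    (Ψ : M ≃ N) (hΨ : ∀ (c : C) (m : M), Ψ (algebraMap C F c • m) = c • Ψ m)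
    (ε : N ≃ₗ[C] F) : Nonempty (F ≃ₗ[F] M) := by
  let g := Ψ.symm (ε.symm 1)
  let L : F →ₗ[F] M := LinearMap.toSpanSingleton F M g
  have hL : ∀ f, ε (Ψ (L f)) = f := by
    intro f
    obtain ⟨c, rfl⟩ := hs f
    change ε (Ψ (algebraMap C F c • g)) = _
    rw [hΨ, Equiv.apply_symm_apply, map_smul, LinearEquiv.apply_symm_apply, Algebra.smul_def,
      mul_one]
  refine ⟨LinearEquiv.ofBijective L ⟨fun f f' h => ?_, fun m => ⟨ε (Ψ m), ?_⟩⟩⟩
  · rw [← hL f, ← hL f', h]
  · apply Ψ.injective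
    apply ε.injective
    exact hL _

/-- Transfer of `Ext(κ, -) = κ` along a surjection. -/
lemma nonempty_linearEquiv_quot_of_semilinear (hs : Function.Surjective (algebraMap C F))
    {M : Type*} [AddCommGroup M] [Module C M] {N : Type*} [AddCommGroup N] [Module F N]
    (Φ : N ≃ M) (hΦ : ∀ (c : C) (y : N), Φ (algebraMap C F c • y) = c • Φ y)
    (q : Ideal F) (e : N ≃ₗ[F] F ⧸ q) :
    Nonempty (M ≃ₗ[C] C ⧸ q.comap (algebraMap C F)) := by
  let g := Φ (e.symm 1)
  let L : C →ₗ[C] M := LinearMap.toSpanSingleton C M g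
  have hΦ0 : Φ 0 = 0 := by
    have := hΦ 0 0
    rwa [map_zero, zero_smul, zero_smul] at this
  have hL : ∀ c : C, L c = Φ (e.symm (Ideal.Quotient.mk q (algebraMap C F c))) := by
    intro c
    change c • Φ (e.symm 1) = _
    rw [← hΦ, ← map_smul]
    congr 2
    rw [Algebra.smul_def, mul_one]
    rfl
  have hsurj : Function.Surjective L := by
    intro m
    obtain ⟨y, rfl⟩ := Φ.surjective m
    obtain ⟨z, rfl⟩ := e.symm.surjective y
    obtain ⟨f, rfl⟩ := Ideal.Quotient.mk_surjective z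
    obtain ⟨c, rfl⟩ := hs f
    exact ⟨c, hL c⟩
  have hker : LinearMap.ker L = q.comap (algebraMap C F) := by
    ext c
    rw [LinearMap.mem_ker, hL, Ideal.mem_comap, ← Ideal.Quotient.eq_zero_iff_mem]
    constructor
    · intro h
      rw [← hΦ0] at h
      have h2 := Φ.injective h
      exact e.symm.injective (h2.trans (map_zero _).symm)
    · intro h
      rw [h, map_zero, hΦ0]
  exact ⟨((Submodule.quotEquivOfEq _ _ hker.symm).trans (L.quotKerEquivOfSurjective hsurj)).symm⟩

end Semi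

section HRco

variable (C F : Type u) [CommRing C] [CommRing F] [Algebra C F]

/-- `H^j(RHom_C(F, X)) = Hom_C(F, X[j])`. -/
noncomputable def HDRcoEquiv (X : Dual.D C) (j : ℤ) :
    Dual.HD F ((Rco (algebraMap C F)).obj X) j ≃ (Dual.inD C F ⟶ X⟦j⟧) :=
  ((((evHEquiv j ((Rco (algebraMap C F)).obj X)).symm.trans
    (Linear.homCongr F
      (((DerivedCategory.singleFunctors (ModuleCat.{u} F)).shiftIso (-j) j 0 (by simp)).app
        (ModuleCat.of F F)).symm (Iso.refl _))).trans
    (shiftHomLinearEquiv (Dual.inD F F) ((Rco (algebraMap C F)).obj X) j)).toEquiv.trans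
    (homRcoEquiv C F X F j)).trans
    (Iso.homCongr ((DerivedCategory.singleFunctor (ModuleCat.{u} C) 0).mapIso
      (restrictSelfIso (A := C) (B := F))) (Iso.refl _))

lemma HDRcoEquiv_smul (X : Dual.D C) (j : ℤ) (c : C)
    (y : Dual.HD F ((Rco (algebraMap C F)).obj X) j) :
    HDRcoEquiv C F X j (algebraMap C F c • y) = c • HDRcoEquiv C F X j y := by
  unfold HDRcoEquiv
  simp only [Equiv.trans_apply, LinearEquiv.coe_toEquiv, LinearEquiv.trans_apply, map_smul]
  rw [homRcoEquiv_smul]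
  change ((DerivedCategory.singleFunctor (ModuleCat.{u} C) 0).mapIso
      (restrictSelfIso (A := C) (B := F))).inv ≫ (c • _) ≫ (Iso.refl _).hom =
    c • (((DerivedCategory.singleFunctor (ModuleCat.{u} C) 0).mapIso
      (restrictSelfIso (A := C) (B := F))).inv ≫ _ ≫ (Iso.refl _).hom)
  rw [Linear.smul_comp, Linear.comp_smul]

end HRco

section QuotRco

variable (A B : Type u) [CommRing A] [CommRing B] [Algebra A B]

/-- `Ext_B^i(B/q, RHom_A(B, ω)) = Ext_A^i(A/q^c, ω)` for a surjection `A → B`. -/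
noncomputable def homRcoQuotEquiv (hs : Function.Surjective (algebraMap A B)) (ω : Dual.D A)
    (q : Ideal B) (i : ℤ) :
    (Dual.inD B (B ⧸ q) ⟶ ((Rco (algebraMap A B)).obj ω)⟦i⟧) ≃
      (Dual.inD A (A ⧸ q.comap (algebraMap A B)) ⟶ ω⟦i⟧) :=
  (homRcoEquiv A B ω (B ⧸ q) i).trans
    (Iso.homCongr ((DerivedCategory.singleFunctor (ModuleCat.{u} A) 0).mapIso
      (quotComapEquiv A B hs q).symm.toModuleIso) (Iso.refl _))

lemma homRcoQuotEquiv_smul (hs : Function.Surjective (algebraMap A B)) (ω : Dual.D A)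
    (q : Ideal B) (i : ℤ) (a : A)
    (f : Dual.inD B (B ⧸ q) ⟶ ((Rco (algebraMap A B)).obj ω)⟦i⟧) :
    homRcoQuotEquiv A B hs ω q i (algebraMap A B a • f) = a • homRcoQuotEquiv A B hs ω q i f := by
  unfold homRcoQuotEquiv
  simp only [Equiv.trans_apply]
  rw [homRcoEquiv_smul]
  change ((DerivedCategory.singleFunctor (ModuleCat.{u} A) 0).mapIso
      (quotComapEquiv A B hs q).symm.toModuleIso).inv ≫ (a • _) ≫ (Iso.refl _).hom =
    a • (((DerivedCategory.singleFunctor (ModuleCat.{u} A) 0).mapIso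
      (quotComapEquiv A B hs q).symm.toModuleIso).inv ≫ _ ≫ (Iso.refl _).hom)
  rw [Linear.smul_comp, Linear.comp_smul]

end QuotRco

section RcoSelf

variable (C F : Type u) [CommRing C] [CommRing F] [IsLocalRing C] [IsLocalRing F] [Algebra C F]
  [IsNoetherianRing C] [IsNoetherianRing F]

/-- If `F = C/I` is Gorenstein and `RHom_C(F, X) = F[-d]` then `X` is dualizing. -/
theorem isDualizing_of_Rco_iso_self (hs : Function.Surjective (algebraMap C F))
    (hG : LocCoh.IsGorensteinLocalRing F) (X : Dual.D C)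
    (hfin : ∀ i : ℤ, Module.Finite C (Dual.HD C X i)) (a : ℤ)
    (ha : ∀ i : ℤ, i < a → Subsingleton (Dual.HD C X i)) (d : ℤ)
    (hY0 : ∀ j : ℤ, j ≠ d → Subsingleton (Dual.HD F ((Rco (algebraMap C F)).obj X) j))
    (hYd : Nonempty (F ≃ₗ[F] Dual.HD F ((Rco (algebraMap C F)).obj X) d)) :
    Dual.IsDualizing C X := by
  obtain ⟨eYd⟩ := hYd
  have hGEY : ((Rco (algebraMap C F)).obj X).IsGE d :=
    isGE_of_subsingleton_HD _ d (fun i hi => hY0 i (by omega))
  have hLEY : ((Rco (algebraMap C F)).obj X).IsLE d :=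
    isLE_of_subsingleton_HD _ d (fun i hi => hY0 i (by omega))
  obtain ⟨Y0, ⟨ε⟩⟩ := DerivedCategory.exists_iso_singleFunctor_obj_of_isGE_of_isLE
    ((Rco (algebraMap C F)).obj X) d
  let εY : Y0 ≅ ModuleCat.of F F :=
    ((DerivedCategory.singleFunctorCompHomologyFunctorIso _ d).app Y0).symm ≪≫
      (DerivedCategory.homologyFunctor _ d).mapIso ε.symm ≪≫ eYd.symm.toModuleIso
  let ε' : (Rco (algebraMap C F)).obj X ≅ (Dual.inD F F)⟦-d⟧ :=
    ε ≪≫ (DerivedCategory.singleFunctor _ d).mapIso εY ≪≫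
      (((DerivedCategory.singleFunctors (ModuleCat.{u} F)).shiftIso (-d) d 0 (by simp)).app
        _).symm
  have hYdual : Dual.IsDualizing F ((Rco (algebraMap C F)).obj X) :=
    isDualizing_of_iso ε'.symm (isDualizing_shift _ ((Groth.Agent.S11179.result F).1 hG) (-d))
  obtain ⟨n', hvan', ⟨E'⟩⟩ := ext_residue F _ hYdual (IsLocalRing.maximalIdeal F)
  have hloc : IsLocalHom (algebraMap C F) := IsLocalHom.of_surjective _ hs
  have hcomap : (IsLocalRing.maximalIdeal F).comap (algebraMap C F) = IsLocalRing.maximalIdeal C :=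
    IsLocalRing.maximalIdeal_comap _
  refine isDualizing_of_ext_residue C X hfin a ha n' (fun i hi => ?_) ?_
  · have := hvan' i hi
    rw [← hcomap]
    exact (homRcoQuotEquiv C F hs X (IsLocalRing.maximalIdeal F) i).symm.subsingleton
  · obtain ⟨e⟩ := nonempty_linearEquiv_quot_of_semilinear hs
      (homRcoQuotEquiv C F hs X (IsLocalRing.maximalIdeal F) n')
      (homRcoQuotEquiv_smul C F hs X (IsLocalRing.maximalIdeal F) n')
      (IsLocalRing.maximalIdeal F) E'
    rw [← hcomap]
    exact ⟨e⟩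

end RcoSelf

section LS

variable (A C : Type u) [CommRing A] [CommRing C] [IsLocalRing A] [IsLocalRing C] [Algebra A C]
  [IsNoetherianRing A] [IsNoetherianRing C] [Module.Flat A C]

/-- Flat local base change of a dualizing complex is dualizing if the closed fibre is
Gorenstein. -/
theorem isDualizing_flatBC_of_gorenstein_fibre (ω : Dual.D A) (hω : Dual.IsDualizing A ω)
    (hG : LocCoh.IsGorensteinLocalRing
      (C ⧸ (IsLocalRing.maximalIdeal A).map (algebraMap A C))) :
    Dual.IsDualizing C ((flatBC A C).obj ω) := by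
  have hFloc : IsLocalRing (C ⧸ (IsLocalRing.maximalIdeal A).map (algebraMap A C)) :=
    hG.toIsLocalRing
  have hFN : IsNoetherianRing (C ⧸ (IsLocalRing.maximalIdeal A).map (algebraMap A C)) :=
    hG.toIsNoetherian
  have hs : Function.Surjective
      (algebraMap C (C ⧸ (IsLocalRing.maximalIdeal A).map (algebraMap A C))) :=
    Ideal.Quotient.mk_surjective
  obtain ⟨d, hvan, ⟨E⟩⟩ := ext_residue A ω hω (IsLocalRing.maximalIdeal A)
  obtain ⟨a, hGE⟩ := exists_isGE_of_isDualizing ω hω
  have hfinX : ∀ i : ℤ, Module.Finite C (Dual.HD C ((flatBC A C).obj ω) i) :=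
    finite_HD_flatBC A C ω hω.finite_cohomology
  have hGEX : ((flatBC A C).obj ω).IsGE a := Groth.Agent.Lib.Helper13.HomBC.isGE_flatBC C ω a
  -- the cohomology of `Y = RHom_C(F, X)`
  have hY0 : ∀ j : ℤ, j ≠ d → Subsingleton
      (Dual.HD (C ⧸ (IsLocalRing.maximalIdeal A).map (algebraMap A C))
        ((Rco (algebraMap C (C ⧸ (IsLocalRing.maximalIdeal A).map (algebraMap A C)))).obj
          ((flatBC A C).obj ω)) j) := by
    intro j hj
    have h1 := subsingleton_hom_quot_map A C (IsLocalRing.maximalIdeal A) ω a j (hvan j hj)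
    exact (HDRcoEquiv C (C ⧸ (IsLocalRing.maximalIdeal A).map (algebraMap A C))
      ((flatBC A C).obj ω) j).subsingleton
  have hYd : Nonempty ((C ⧸ (IsLocalRing.maximalIdeal A).map (algebraMap A C)) ≃ₗ[
      C ⧸ (IsLocalRing.maximalIdeal A).map (algebraMap A C)]
      (Dual.HD (C ⧸ (IsLocalRing.maximalIdeal A).map (algebraMap A C))
        ((Rco (algebraMap C (C ⧸ (IsLocalRing.maximalIdeal A).map (algebraMap A C)))).obj
          ((flatBC A C).obj ω)) d)) := by
    let Φ2 := (bcHomQuotLinearEquiv A C (IsLocalRing.maximalIdeal A) ω a d).symm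
    let Φ3 : C ⊗[A] (Dual.inD A (A ⧸ IsLocalRing.maximalIdeal A) ⟶ ω⟦d⟧) ≃ₗ[C]
        C ⊗[A] (A ⧸ IsLocalRing.maximalIdeal A) := LinearEquiv.baseChange A C _ _ E
    let Φ4 : C ⊗[A] (A ⧸ IsLocalRing.maximalIdeal A) ≃ₗ[C]
        (C ⧸ (IsLocalRing.maximalIdeal A).map (algebraMap A C)) :=
      (Algebra.TensorProduct.quotIdealMapEquivTensorQuot C
        (IsLocalRing.maximalIdeal A)).toLinearEquiv.symm
    exact nonempty_linearEquiv_self_of_semilinear hs
      (HDRcoEquiv C (C ⧸ (IsLocalRing.maximalIdeal A).map (algebraMap A C))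
        ((flatBC A C).obj ω) d)
      (HDRcoEquiv_smul C (C ⧸ (IsLocalRing.maximalIdeal A).map (algebraMap A C))
        ((flatBC A C).obj ω) d)
      (Φ2.trans (Φ3.trans Φ4))
  exact isDualizing_of_Rco_iso_self C (C ⧸ (IsLocalRing.maximalIdeal A).map (algebraMap A C)) hs hG
    _ hfinX a (fun i hi => ModuleCat.subsingleton_of_isZero
      (((flatBC A C).obj ω).isZero_of_isGE a i hi)) d hY0 hYd

end LS

end Groth.Agent.Lib.Helper13.DualBC
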