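import Mathlib
import Groth.Agent.Lib.Helper13.DualBC34

set_option autoImplicit false
set_option linter.style.haveILetI false
set_option linter.unusedSectionVars false

universe u

open CategoryTheory CategoryTheory.Limits

namespace Groth.Agent.Lib.Helper13.ExtBridge

open DerivedCategory Groth.Agent.Lib.Helper13.Coind Groth.Agent.Lib.Helper13.DR
  Groth.Agent.Lib.Helper13.DualBC

attribute [local instance] HasDerivedCategory.standard

variable (C F : Type u) [CommRing C] [CommRing F] [Algebra C F]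

lemma homRcoEquiv_add (K : Dual.D C) (N : Type u) [AddCommGroup N] [Module F N] (i : ℤ)
    (f g : Dual.inD F N ⟶ ((Rco (algebraMap C F)).obj K)⟦i⟧) :
    homRcoEquiv C F K N i (f + g) = homRcoEquiv C F K N i f + homRcoEquiv C F K N i g := by
  rw [homRcoEquiv_apply, homRcoEquiv_apply, homRcoEquiv_apply]
  simp only [Preadditive.add_comp, Preadditive.comp_add, Adjunction.homAddEquiv_symm_add]

lemma HDRcoEquiv_add (X : Dual.D C) (j : ℤ)
    (y z : Dual.HD F ((Rco (algebraMap C F)).obj X) j) :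
    HDRcoEquiv C F X j (y + z) = HDRcoEquiv C F X j y + HDRcoEquiv C F X j z := by
  unfold HDRcoEquiv
  simp only [Equiv.trans_apply, LinearEquiv.coe_toEquiv, LinearEquiv.trans_apply, map_add]
  rw [homRcoEquiv_add]
  change ((DerivedCategory.singleFunctor (ModuleCat.{u} C) 0).mapIso
      (restrictSelfIso (A := C) (B := F))).inv ≫ (_ + _) ≫ (Iso.refl _).hom =
    (((DerivedCategory.singleFunctor (ModuleCat.{u} C) 0).mapIso
      (restrictSelfIso (A := C) (B := F))).inv ≫ _ ≫ (Iso.refl _).hom) +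
    (((DerivedCategory.singleFunctor (ModuleCat.{u} C) 0).mapIso
      (restrictSelfIso (A := C) (B := F))).inv ≫ _ ≫ (Iso.refl _).hom)
  rw [Preadditive.add_comp, Preadditive.comp_add]

/-- `H^j(RHom_C(F, M)) ≃ Ext^j_C(F, M)`. -/
noncomputable def HDRcoExtEquiv (M : Type u) [AddCommGroup M] [Module C M] (j : ℕ) :
    Dual.HD F ((Rco (algebraMap C F)).obj (Dual.inD C M)) (j : ℤ) ≃
      Abelian.Ext (ModuleCat.of C F) (ModuleCat.of C M) j :=
  (HDRcoEquiv C F (Dual.inD C M) (j : ℤ)).trans
    (Abelian.Ext.homLinearEquiv (R := C) (X := ModuleCat.of C F) (Y := ModuleCat.of C M)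
      (n := j)).symm.toEquiv

lemma HDRcoExtEquiv_add (M : Type u) [AddCommGroup M] [Module C M] (j : ℕ)
    (y z : Dual.HD F ((Rco (algebraMap C F)).obj (Dual.inD C M)) (j : ℤ)) :
    HDRcoExtEquiv C F M j (y + z) = HDRcoExtEquiv C F M j y + HDRcoExtEquiv C F M j z := by
  unfold HDRcoExtEquiv
  simp only [Equiv.trans_apply, LinearEquiv.coe_toEquiv]
  rw [HDRcoEquiv_add, map_add]

lemma HDRcoExtEquiv_smul (M : Type u) [AddCommGroup M] [Module C M] (j : ℕ) (c : C)
    (y : Dual.HD F ((Rco (algebraMap C F)).obj (Dual.inD C M)) (j : ℤ)) :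
    HDRcoExtEquiv C F M j (algebraMap C F c • y) = c • HDRcoExtEquiv C F M j y := by
  unfold HDRcoExtEquiv
  simp only [Equiv.trans_apply, LinearEquiv.coe_toEquiv]
  rw [HDRcoEquiv_smul, map_smul]

/-- `H^j(RHom_C(F, M))` restricted to `C` is `Ext^j_C(F, M)`, linearly. -/
noncomputable def HDRcoExtLinearEquiv (M : Type u) [AddCommGroup M] [Module C M] (j : ℕ) :
    RestrictScalars C F (Dual.HD F ((Rco (algebraMap C F)).obj (Dual.inD C M)) (j : ℤ)) ≃ₗ[C]
      Abelian.Ext (ModuleCat.of C F) (ModuleCat.of C M) j where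
  toFun x := HDRcoExtEquiv C F M j (RestrictScalars.addEquiv C F _ x)
  invFun y := (RestrictScalars.addEquiv C F _).symm ((HDRcoExtEquiv C F M j).symm y)
  left_inv x := by simp
  right_inv y := by simp
  map_add' x y := by rw [map_add, HDRcoExtEquiv_add]
  map_smul' c x := by
    rw [RingHom.id_apply, RestrictScalars.addEquiv_map_smul, HDRcoExtEquiv_smul]

end Groth.Agent.Lib.Helper13.ExtBridge
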