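import Mathlib
import Groth.Prelude.Def_EGA4b

set_option autoImplicit false
set_option linter.style.haveILetI false

universe u

namespace Groth.Agent.Lib.Helper13.FibReg

section K1

variable {P A : Type u} [CommRing P] [CommRing A]
  (ψ : P →+* A) (hψ : Function.Surjective ψ) (𝔪 : Ideal A) [𝔪.IsPrime] (𝔪' : Ideal P) [𝔪'.IsPrime]
  (h : 𝔪' = 𝔪.comap ψ)

include hψ h in
lemma map_primeCompl : Submonoid.map ψ 𝔪'.primeCompl = 𝔪.primeCompl := by
  subst h
  ext y
  constructor
  · rintro ⟨x, hx, rfl⟩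
    exact hx
  · intro hy
    obtain ⟨x, rfl⟩ := hψ y
    exact ⟨x, hy, rfl⟩

include hψ in
lemma localRingHom_surjective :
    Function.Surjective (Localization.localRingHom 𝔪' 𝔪 ψ h) := by
  have hT := map_primeCompl ψ hψ 𝔪 𝔪' h
  haveI : IsLocalization (Submonoid.map ψ 𝔪'.primeCompl) (Localization.AtPrime 𝔪) := by
    rw [hT]; infer_instance
  exact IsLocalization.map_surjective_of_surjective 𝔪'.primeCompl (Localization.AtPrime 𝔪')
    (Localization.AtPrime 𝔪) hψ

include hψ in
lemma ker_localRingHom :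
    RingHom.ker (Localization.localRingHom 𝔪' 𝔪 ψ h) =
      (RingHom.ker ψ).map (algebraMap P (Localization.AtPrime 𝔪')) :=
  IsLocalization.ker_map (Localization.AtPrime 𝔪) ψ (map_primeCompl ψ hψ 𝔪 𝔪' h)

end K1

section K2

variable {R P A : Type u} [CommRing R] [CommRing P] [CommRing A] [Algebra R P] [Algebra R A]
  (ψ : P →ₐ[R] A) (hψ : Function.Surjective ψ) (𝔪 : Ideal A) [𝔪.IsPrime] (𝔪' : Ideal P) [𝔪'.IsPrime]
  (h : 𝔪' = 𝔪.comap ψ)

include hψ h in
/-- The fibre local ring of the quotient is the quotient of the fibre local ring. -/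
theorem nonempty_fibLocRing_quotient_equiv :
    Nonempty ((EGA4.FibLocRing R P 𝔪' ⧸
      ((RingHom.ker (ψ : P →+* A)).map (algebraMap P (Localization.AtPrime 𝔪'))).map
        (Ideal.Quotient.mk ((𝔪'.comap (algebraMap R P)).map
          (algebraMap R (Localization.AtPrime 𝔪'))))) ≃+* EGA4.FibLocRing R A 𝔪) := by
  let S := Localization.AtPrime 𝔪'
  let Am := Localization.AtPrime 𝔪
  let ρ : S →+* Am := Localization.localRingHom 𝔪' 𝔪 (ψ : P →+* A) h
  have hρ : Function.Surjective ρ := localRingHom_surjective (ψ : P →+* A) hψ 𝔪 𝔪' h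
  have hker : RingHom.ker ρ = (RingHom.ker (ψ : P →+* A)).map (algebraMap P S) :=
    ker_localRingHom (ψ : P →+* A) hψ 𝔪 𝔪' h
  let pS : Ideal S := (𝔪'.comap (algebraMap R P)).map (algebraMap R S)
  let pA : Ideal Am := (𝔪.comap (algebraMap R A)).map (algebraMap R Am)
  have hp : 𝔪'.comap (algebraMap R P) = 𝔪.comap (algebraMap R A) := by
    rw [h]
    ext r
    simp [Ideal.mem_comap]
  have hcomp : ρ.comp (algebraMap R S) = algebraMap R Am := by
    ext r
    rw [RingHom.comp_apply, IsScalarTower.algebraMap_apply R P S,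
      Localization.localRingHom_to_map, IsScalarTower.algebraMap_apply R A Am]
    simp
    rfl
  have hpA : pA = pS.map ρ := by
    change _ = Ideal.map ρ (Ideal.map (algebraMap R S) _)
    rw [Ideal.map_map, hcomp, hp]
  let g : S →+* EGA4.FibLocRing R A 𝔪 := (Ideal.Quotient.mk pA).comp ρ
  have hg : Function.Surjective g := Ideal.Quotient.mk_surjective.comp hρ
  have hkg : RingHom.ker g = pS ⊔ (RingHom.ker (ψ : P →+* A)).map (algebraMap P S) := by
    change RingHom.ker ((Ideal.Quotient.mk pA).comp ρ) = _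
    rw [← RingHom.comap_ker, Ideal.mk_ker, hpA, Ideal.comap_map_of_surjective ρ hρ,
      ← RingHom.ker_eq_comap_bot, hker]
  exact ⟨(DoubleQuot.quotQuotEquivQuotSup pS _).trans
    ((Ideal.quotEquivOfEq hkg.symm).trans (RingHom.quotientKerEquivOfSurjective hg))⟩

end K2

end Groth.Agent.Lib.Helper13.FibReg
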