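import Mathlib
import Groth.Agent.Lib.Helper13.FibReg1
import Groth.Agent.Lib.Helper9.SmoothSerre
import Groth.Agent.Lib.Helper18.CM13
import Groth.Agent.Lib.Helper7.DimFT

set_option autoImplicit false
set_option linter.style.haveILetI false
set_option linter.unusedSectionVars false

universe u

open TensorProduct

namespace Groth.Agent.Lib.Helper13.FibReg

open Groth.Agent.Lib.Helper18.FibBridge

variable (R : Type u) [CommRing R] (n : ℕ) {A : Type u} [CommRing A] [Algebra R A]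
  (ψ : MvPolynomial (Fin n) R →ₐ[R] A) (hψ : Function.Surjective ψ) (p : Ideal R) [p.IsPrime]

/-- the induced map of fibre rings -/
noncomputable def fibMap :
    p.Fiber (MvPolynomial (Fin n) R) →ₐ[p.ResidueField] p.Fiber A :=
  Algebra.TensorProduct.map (AlgHom.id p.ResidueField p.ResidueField) ψ

include hψ in
lemma fibMap_surjective : Function.Surjective (fibMap R n ψ p) := by
  have : Function.Surjective (TensorProduct.map (LinearMap.id : p.ResidueField →ₗ[R] p.ResidueField)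
      ψ.toLinearMap) :=
    TensorProduct.map_surjective Function.surjective_id hψ
  intro y
  obtain ⟨x, hx⟩ := this y
  exact ⟨x, hx⟩

lemma ctr_comap_fibMap (Q : Ideal (p.Fiber A)) :
    ctr p (Q.comap (fibMap R n ψ p)) = (ctr p Q).comap ψ := by
  ext x
  simp [ctr, Ideal.mem_comap, fibMap]

lemma height_of_isMaximal (𝔐 : Ideal (p.Fiber (MvPolynomial (Fin n) R))) [𝔐.IsMaximal] :
    𝔐.height = n := by
  let e := MvPolynomial.algebraTensorAlgEquiv (σ := Fin n) R p.ResidueField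
  have h1 := RingEquiv.height_comap e.symm.toRingEquiv 𝔐
  rw [← h1]
  apply Groth.Agent.Lib.Helper7.DimFT.height_eq_of_isMaximal_mvPolynomial
  exact Ideal.comap_isMaximal_of_surjective _ e.symm.surjective

variable [IsNoetherianRing R] [IsNoetherianRing A]

include hψ in
theorem natCast_le_idealDepth (𝔐₀ : Ideal (p.Fiber A)) [𝔐₀.IsMaximal] (d : ℕ)
    (hd : ringKrullDim (Localization.AtPrime 𝔐₀) ≤ (d : WithBot ℕ∞))
    (𝔪' : Ideal (MvPolynomial (Fin n) R)) [𝔪'.IsPrime] (h : 𝔪' = (ctr p 𝔐₀).comap ψ) :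
    ((n - d : ℕ) : ℕ∞) ≤ LocCoh.idealDepth
      (((RingHom.ker (ψ : MvPolynomial (Fin n) R →+* A)).map
        (algebraMap (MvPolynomial (Fin n) R) (Localization.AtPrime 𝔪'))).map
        (Ideal.Quotient.mk ((𝔪'.comap (algebraMap R (MvPolynomial (Fin n) R))).map
          (algebraMap R (Localization.AtPrime 𝔪')))))
      (EGA4.FibLocRing R (MvPolynomial (Fin n) R) 𝔪') := by
  set 𝔐' := 𝔐₀.comap (fibMap R n ψ p) with h𝔐'
  haveI : 𝔐'.IsMaximal := Ideal.comap_isMaximal_of_surjective _ (fibMap_surjective R n ψ hψ p)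
  have key : ctr p 𝔐' = (ctr p 𝔐₀).comap ψ := ctr_comap_fibMap R n ψ p 𝔐₀
  have h2 : 𝔪' = ctr p 𝔐' := h.trans key.symm
  subst h2
  let F := EGA4.FibLocRing R (MvPolynomial (Fin n) R) (ctr p 𝔐')
  haveI hloc : IsLocalRing F := isLocalRing_fibLocRing_ctr p 𝔐'
  haveI hlocA : IsLocalRing (EGA4.FibLocRing R A (ctr p 𝔐₀)) := isLocalRing_fibLocRing_ctr p 𝔐₀
  have hdimF : ringKrullDim F = (n : WithBot ℕ∞) := by
    change ringKrullDim (EGA4.FibLocRing R (MvPolynomial (Fin n) R) (ctr p 𝔐')) = _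
    rw [ringKrullDim_fibLocRing_ctr, height_of_isMaximal]
    rfl
  have hCM : ringKrullDim F = ((LocCoh.depth F F : ℕ∞) : WithBot ℕ∞) :=
    (isCohenMacaulayRing_fiber_iff p).1
      (Groth.Agent.Lib.Helper9.SmoothSerre.isCohenMacaulayRing_fiber R (MvPolynomial (Fin n) R) p)
      (ctr p 𝔐') (ctr_comap p 𝔐')
  have hCMmod : LocCoh.IsCohenMacaulayModule F F := by
    unfold LocCoh.IsCohenMacaulayModule
    rw [Module.supportDim_self_eq_ringKrullDim]
    exact hCM
  obtain ⟨e⟩ := nonempty_fibLocRing_quotient_equiv ψ hψ (ctr p 𝔐₀) (ctr p 𝔐') key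
  set J := ((RingHom.ker (ψ : MvPolynomial (Fin n) R →+* A)).map
        (algebraMap (MvPolynomial (Fin n) R) (Localization.AtPrime (ctr p 𝔐')))).map
        (Ideal.Quotient.mk (((ctr p 𝔐').comap (algebraMap R (MvPolynomial (Fin n) R))).map
          (algebraMap R (Localization.AtPrime (ctr p 𝔐'))))) with hJdef
  have hdimFA : ringKrullDim (EGA4.FibLocRing R A (ctr p 𝔐₀)) ≤ (d : WithBot ℕ∞) := by
    rw [ringKrullDim_fibLocRing_ctr p 𝔐₀,
      ← IsLocalization.AtPrime.ringKrullDim_eq_height 𝔐₀ (Localization.AtPrime 𝔐₀)]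
    exact hd
  have hJ : J ≠ ⊤ := by
    intro hJ
    have h1 : Subsingleton (F ⧸ J) := Ideal.Quotient.subsingleton_iff.mpr hJ
    have h2 : Subsingleton (EGA4.FibLocRing R A (ctr p 𝔐₀)) := e.symm.injective.subsingleton
    exact not_subsingleton _ h2
  have hmain := Groth.Agent.Lib.Helper18.CM.supportDim_eq_add_idealDepth J hJ F hCMmod
  rw [Module.supportDim_self_eq_ringKrullDim, hdimF] at hmain
  have h3 : Module.supportDim F (F ⧸ (J • ⊤ : Submodule F F)) = ringKrullDim (F ⧸ J) := by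
    have h4 : (J • ⊤ : Submodule F F) = J := by
      rw [smul_eq_mul, Ideal.mul_top]
    rw [Module.supportDim_eq_of_equiv (Submodule.quotEquivOfEq _ _ h4)]
    exact Module.supportDim_quotient_eq_ringKrullDim J
  rw [h3, ringKrullDim_eq_of_ringEquiv e] at hmain
  obtain ⟨k, hk⟩ := Groth.Agent.Lib.Helper18.SerreReg.exists_ringKrullDim_eq_nat
    (EGA4.FibLocRing R A (ctr p 𝔐₀))
  obtain ⟨m, hm⟩ := ENat.ne_top_iff_exists.mp
    (Groth.Agent.Lib.Helper18.CM.idealDepth_ne_top F J hJ)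
  rw [hk] at hmain hdimFA
  rw [← hm] at hmain ⊢
  have h5 : n = k + m := by exact_mod_cast hmain
  have h6 : k ≤ d := by exact_mod_cast hdimFA
  have h7 : n - d ≤ m := by omega
  exact_mod_cast h7

end Groth.Agent.Lib.Helper13.FibReg
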