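import Mathlib
import Groth.Prelude.Def_EGA4b
import Groth.Agent.Lib.Helper9.RegLiftNoeth
import Groth.Agent.Lib.Helper16.Depth

set_option autoImplicit false
set_option linter.style.haveILetI false
set_option linter.unusedSectionVars false

universe u

open RingTheory.Sequence IsLocalRing

namespace Groth.Agent.Lib.Helper13.FibReg

lemma exists_list_lift {S F : Type*} [CommRing S] [CommRing F] (f : S →+* F) (𝔞 : Ideal S)
    (hf : Function.Surjective f) (l : List F) (hl : ∀ r ∈ l, r ∈ 𝔞.map f) :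
    ∃ l' : List S, l'.map f = l ∧ ∀ r ∈ l', r ∈ 𝔞 := by
  induction l with
  | nil => exact ⟨[], rfl, by simp⟩
  | cons a l ih =>
    obtain ⟨l', h1, h2⟩ := ih (fun r hr => hl r (List.mem_cons_of_mem _ hr))
    obtain ⟨x, hx, rfl⟩ := (Ideal.mem_map_iff_of_surjective f hf).1 (hl _ List.mem_cons_self)
    refine ⟨x :: l', by simp [h1], ?_⟩
    intro r hr
    rcases List.mem_cons.mp hr with rfl | hr
    · exact hx
    · exact h2 r hr

variable (R P : Type u) [CommRing R] [CommRing P] [Algebra R P] [IsNoetherianRing P]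
  [Module.Flat R P]

theorem exists_isWeaklyRegular (𝔪' : Ideal P) [𝔪'.IsPrime]
    (𝔞 : Ideal (Localization.AtPrime 𝔪')) (h𝔞 : 𝔞 ≤ maximalIdeal (Localization.AtPrime 𝔪'))
    (c : ℕ)
    (hc : (c : ℕ∞) ≤ LocCoh.idealDepth
      (𝔞.map (Ideal.Quotient.mk ((𝔪'.comap (algebraMap R P)).map
          (algebraMap R (Localization.AtPrime 𝔪')))))
      (EGA4.FibLocRing R P 𝔪')) :
    ∃ rs : List (Localization.AtPrime 𝔪'), rs.length = c ∧ (∀ r ∈ rs, r ∈ 𝔞) ∧
      IsWeaklyRegular (Localization.AtPrime 𝔪') rs := by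
  let S := Localization.AtPrime 𝔪'
  let p' : Ideal R := 𝔪'.under R
  let C := Localization.AtPrime p'
  letI : Algebra C S := Localization.AtPrime.algebraOfLiesOver p' 𝔪'
  haveI : IsNoetherianRing S := IsLocalization.isNoetherianRing 𝔪'.primeCompl _ inferInstance
  haveI : IsLocalHom (algebraMap C S) := by
    change IsLocalHom (Localization.localRingHom p' 𝔪' (algebraMap R P) Ideal.LiesOver.over)
    infer_instance
  let pS : Ideal S := (𝔪'.comap (algebraMap R P)).map (algebraMap R S)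
  have hpS : (maximalIdeal C).map (algebraMap C S) = pS := by
    rw [← Localization.AtPrime.map_eq_maximalIdeal, Ideal.map_map,
      ← IsScalarTower.algebraMap_eq R C S]
  have hpSle : pS ≤ maximalIdeal S := by
    rw [← hpS]
    exact IsLocalRing.map_maximalIdeal_le (algebraMap C S)
  let J : Ideal (S ⧸ pS) := 𝔞.map (Ideal.Quotient.mk pS)
  have hJ : J • (⊤ : Submodule (S ⧸ pS) (S ⧸ pS)) ≠ ⊤ := by
    rw [smul_eq_mul, Ideal.mul_top]
    intro hJ
    have h1 : Ideal.comap (Ideal.Quotient.mk pS) J = ⊤ := by rw [hJ]; rfl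
    rw [Ideal.comap_map_of_surjective _ Ideal.Quotient.mk_surjective,
      ← RingHom.ker_eq_comap_bot, Ideal.mk_ker] at h1
    have h2 : 𝔞 ⊔ pS ≤ maximalIdeal S := sup_le h𝔞 hpSle
    rw [h1] at h2
    exact (IsLocalRing.maximalIdeal.isMaximal S).ne_top (top_le_iff.mp h2)
  rcases (Groth.Agent.Lib.Helper16.Depth.le_idealDepth_iff J (S ⧸ pS) c).1 hc with h | h
  · exact absurd h hJ
  obtain ⟨rsb, hlen, hreg, hmem⟩ := h
  obtain ⟨rs, hrs, hrsmem⟩ := exists_list_lift (Ideal.Quotient.mk pS) 𝔞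
    Ideal.Quotient.mk_surjective rsb hmem
  refine ⟨rs, by rw [← hlen, ← hrs, List.length_map], hrsmem, ?_⟩
  have hreg' : IsWeaklyRegular (S ⧸ pS) rs := by
    rw [← isWeaklyRegular_map_algebraMap_iff (S ⧸ pS) (S ⧸ pS) rs]
    change IsWeaklyRegular (S ⧸ pS) (rs.map (Ideal.Quotient.mk pS))
    rw [hrs]
    exact hreg
  have hker : ∀ x : S, (Submodule.mkQ pS) x = 0 ↔
      x ∈ Groth.Agent.Lib.Helper1.RegLift.mM (C := C) (A := S) S := by
    intro x
    rw [Submodule.mkQ_apply, Submodule.Quotient.mk_eq_zero]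
    unfold Groth.Agent.Lib.Helper1.RegLift.mM
    rw [hpS, smul_eq_mul, Ideal.mul_top]
  exact (Groth.Agent.Lib.Helper9.RegLiftNoeth.isWeaklyRegular_and_flat (C := C) (A := S) rs S
    (S ⧸ pS) (Submodule.mkQ pS) (Submodule.mkQ_surjective _) hker hreg').1

end Groth.Agent.Lib.Helper13.FibReg
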