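import Mathlib
import Groth.Agent.Lib.Helper12.FibDimAlg
import Groth.Agent.Lib.Helper25.LocalDimRing
import Groth.Agent.Lib.Helper18.FibBridge

set_option autoImplicit false
set_option linter.style.haveILetI false
set_option linter.unusedSectionVars false

universe u

open TensorProduct AlgebraicGeometry CategoryTheory

namespace Groth.Agent.Lib.Helper13.FibReg

open Groth.Agent.Lib.Helper18.FibBridge

theorem withBot_enat_lt_succ_iff' (x : WithBot ℕ∞) (n : ℕ) :
    x < (((n + 1 : ℕ) : ℕ∞) : WithBot ℕ∞) ↔ x ≤ ((n : ℕ∞) : WithBot ℕ∞) := by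
  induction x using WithBot.recBotCoe with
  | bot => simp
  | coe e =>
    rw [WithBot.coe_lt_coe, WithBot.coe_le_coe]
    push_cast
    exact ENat.lt_add_one_iff (ENat.natCast_ne_top n)

variable (R A : Type u) [CommRing R] [CommRing A] [Algebra R A] [Algebra.FiniteType R A]
  [IsNoetherianRing A]

/-- A closed point of the fibre through `q`, specialising `q`, at which the fibre has dimension at
most the local dimension at `q`. -/
theorem exists_closed_point (q : PrimeSpectrum A) (d : ℕ)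
    (hd : FlatMor.fibreDimAt (Spec.map (CommRingCat.ofHom (algebraMap R A))) q ≤
      (d : WithBot ℕ∞)) :
    ∃ 𝔐₀ : Ideal ((q.asIdeal.under R).Fiber A), ∃ _ : 𝔐₀.IsMaximal,
      q.asIdeal ≤ ctr (q.asIdeal.under R) 𝔐₀ ∧
        ringKrullDim (Localization.AtPrime 𝔐₀) ≤ (d : WithBot ℕ∞) := by
  let p := q.asIdeal.under R
  have h1 := (Groth.Agent.Lib.Helper12.H12FibDimAlg.localDim_fiber_le_iff R A d q).2 hd
  obtain ⟨Q₀, hQ₀, hctr⟩ := exists_prime_of_comap_eq p q.asIdeal rfl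
  have h2 : FlatMor.localDim (PrimeSpectrum (p.Fiber A)) ⟨Q₀, hQ₀⟩ ≤ (d : WithBot ℕ∞) :=
    h1 ⟨Q₀, hQ₀⟩ hctr
  have h3 : ∃ U : {U : TopologicalSpace.Opens (PrimeSpectrum (p.Fiber A)) //
      (⟨Q₀, hQ₀⟩ : PrimeSpectrum (p.Fiber A)) ∈ U},
      topologicalKrullDim (U.1 : Set (PrimeSpectrum (p.Fiber A))) ≤ (d : WithBot ℕ∞) := by
    unfold FlatMor.localDim at h2
    have h4 := (withBot_enat_lt_succ_iff' _ d).2 h2
    rw [iInf_lt_iff] at h4
    obtain ⟨U, hU⟩ := h4
    exact ⟨U, (withBot_enat_lt_succ_iff' _ d).1 hU⟩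
  obtain ⟨U, hU⟩ := h3
  obtain ⟨m, hm, hle, hmU⟩ := Groth.Agent.Lib.Helper25.LocalDimRing.exists_isMaximal_mem_open
    p.ResidueField (p.Fiber A) ⟨Q₀, hQ₀⟩ U.1 U.2
  have h5 := Groth.Agent.Lib.Helper25.LocalDimRing.localDim_le_topologicalKrullDim (p.Fiber A)
    ⟨m, hm.isPrime⟩ U.1 hmU
  have h6 := Groth.Agent.Lib.Helper25.LocalDimRing.localDim_eq_of_isMaximal p.ResidueField
    (p.Fiber A) m
  refine ⟨m, hm, ?_, ?_⟩
  · calc q.asIdeal = ctr p Q₀ := hctr.symm
      _ ≤ ctr p m := Ideal.comap_mono hle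
  · rw [← h6]
    exact h5.trans hU

end Groth.Agent.Lib.Helper13.FibReg
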