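import Mathlib
import Groth.Agent.Lib.Helper13.FibReg2
import Groth.Agent.Lib.Helper13.FibReg3
import Groth.Agent.Lib.Helper13.FibReg4
import Groth.Agent.Lib.Helper13.DualBC34

set_option autoImplicit false
set_option linter.style.haveILetI false
set_option linter.unusedSectionVars false

universe u

open TensorProduct AlgebraicGeometry CategoryTheory RingTheory.Sequence IsLocalRing

namespace Groth.Agent.Lib.Helper13.FibReg

open Groth.Agent.Lib.Helper18.FibBridge DerivedCategory Groth.Agent.Lib.Helper13.Coind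
  Groth.Agent.Lib.Helper13.DR Groth.Agent.Lib.Helper13.DualBC

attribute [local instance] HasDerivedCategory.standard

lemma nontrivial_localizedModule_iff {R M : Type*} [CommRing R] [AddCommGroup M] [Module R M]
    (S : Submonoid R) :
    Nontrivial (LocalizedModule S M) ↔ ∃ m : M, ∀ s ∈ S, s • m ≠ 0 := by
  rw [← not_subsingleton_iff_nontrivial, LocalizedModule.subsingleton_iff]
  push Not
  rfl

lemma nontrivial_localized_of_semilinear {P A : Type*} [CommRing P] [CommRing A] (ψ : P →+* A)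
    {M N : Type*} [AddCommGroup M] [Module A M] [AddCommGroup N] [Module P N] (Φ : M ≃ N)
    (hΦ : ∀ (c : P) (m : M), Φ (ψ c • m) = c • Φ m) (T : Submonoid A) (T' : Submonoid P)
    (hT : ∀ s ∈ T', ψ s ∈ T) (h : Nontrivial (LocalizedModule T M)) :
    Nontrivial (LocalizedModule T' N) := by
  rw [nontrivial_localizedModule_iff] at h ⊢
  obtain ⟨m, hm⟩ := h
  have h0 : Φ 0 = 0 := by simpa using hΦ 0 0
  refine ⟨Φ m, fun s hs hzero => hm (ψ s) (hT s hs) ?_⟩
  rw [← hΦ, ← h0] at hzero
  exact Φ.injective hzero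

/-- Rees' theorem in the derived category. -/
theorem subsingleton_hom_of_isWeaklyRegular (S : Type u) [CommRing S] [IsLocalRing S]
    [IsNoetherianRing S] (N : Type u) [AddCommGroup N] [Module S N] [Module.Finite S N]
    (𝔞 : Ideal S) (h𝔞 : 𝔞 ≤ maximalIdeal S) (hN : 𝔞 ≤ Module.annihilator S N) (rs : List S)
    (hmem : ∀ r ∈ rs, r ∈ 𝔞) (hreg : IsWeaklyRegular S rs) (j : ℕ) (hj : j < rs.length) :
    Subsingleton (Dual.inD S N ⟶ (Dual.inD S S)⟦(j : ℤ)⟧) := by
  have hreg' : IsRegular S rs :=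
    (IsLocalRing.isRegular_iff_isWeaklyRegular_of_subset_maximalIdeal
      (fun r hr => h𝔞 (hmem r hr))).2 hreg
  have hsupp : Module.support S N ⊆ PrimeSpectrum.zeroLocus 𝔞 := by
    rw [Module.support_eq_zeroLocus]
    exact PrimeSpectrum.zeroLocus_anti_mono hN
  have hlt : 𝔞 • (⊤ : Submodule S S) < ⊤ := by
    rw [smul_eq_mul, Ideal.mul_top]
    exact lt_of_le_of_lt h𝔞 (IsLocalRing.maximalIdeal.isMaximal S).ne_top.lt_top
  haveI : Module.Finite S (ModuleCat.of S N) := inferInstanceAs (Module.Finite S N)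
  haveI : Module.Finite S (ModuleCat.of S S) := inferInstanceAs (Module.Finite S S)
  have h1 := ModuleCat.subsingleton_ext_of_exists_isRegular 𝔞 (ModuleCat.of S N) hsupp
    (ModuleCat.of S S) hlt rs hmem hreg' j hj
  exact (Abelian.Ext.homEquiv (X := ModuleCat.of S N) (Y := ModuleCat.of S S) (n := j)).symm.subsingleton

lemma subsingleton_hom_inD_neg (S : Type u) [CommRing S] (N M : Type u) [AddCommGroup N]
    [Module S N] [AddCommGroup M] [Module S M] (j : ℤ) (hj : j < 0) :
    Subsingleton (Dual.inD S N ⟶ (Dual.inD S M)⟦j⟧) := by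
  haveI : (Dual.inD S N).IsLE 0 := by unfold Dual.inD; infer_instance
  haveI : (Dual.inD S M).IsGE 0 := by unfold Dual.inD; infer_instance
  haveI : ((Dual.inD S M)⟦j⟧).IsGE (-j) :=
    DerivedCategory.TStructure.t.isGE_shift (Dual.inD S M) 0 j (-j)
  refine ⟨fun f g => ?_⟩
  rw [DerivedCategory.TStructure.t.zero_of_isLE_of_isGE f 0 (-j) (by lia) inferInstance inferInstance,
    DerivedCategory.TStructure.t.zero_of_isLE_of_isGE g 0 (-j) (by lia) inferInstance inferInstance]

/-- Vanishing of the cohomology of `RHom_P(A, P)` below degree `n - d` at a point where the fibre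
has local dimension at most `d`. -/
theorem main (R A : Type u) [CommRing R] [CommRing A] [IsNoetherianRing R] [IsNoetherianRing A]
    [Algebra R A] (n : ℕ) (ψ : MvPolynomial (Fin n) R →ₐ[R] A) (hψ : Function.Surjective ψ)
    (q : PrimeSpectrum A) (d : ℕ)
    (hd : FlatMor.fibreDimAt (Spec.map (CommRingCat.ofHom (algebraMap R A))) q ≤
      (d : WithBot ℕ∞)) (j : ℤ)
    (h : Nontrivial (LocalizedModule q.asIdeal.primeCompl
      (Dual.HD A ((Rco ψ.toRingHom).obj
        (Dual.inD (MvPolynomial (Fin n) R) (MvPolynomial (Fin n) R))) j))) :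
    (n : ℤ) - d ≤ j := by
  classical
  let P := MvPolynomial (Fin n) R
  letI : Algebra P A := ψ.toRingHom.toAlgebra
  haveI : Algebra.FiniteType R A := Algebra.FiniteType.of_surjective ψ hψ
  haveI : Module.Finite P A := Module.Finite.of_surjective (Algebra.linearMap P A) hψ
  obtain ⟨𝔐₀, h𝔐₀, hq𝔪, hdim⟩ := exists_closed_point R A q d hd
  let p := q.asIdeal.under R
  let 𝔪 := ctr p 𝔐₀
  let 𝔪' : Ideal P := 𝔪.comap ψ
  let S := Localization.AtPrime 𝔪'
  let 𝔞 : Ideal S := (RingHom.ker (ψ : P →+* A)).map (algebraMap P S)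
  have hdepth := natCast_le_idealDepth R n ψ hψ p 𝔐₀ d hdim 𝔪' rfl
  have h𝔞 : 𝔞 ≤ maximalIdeal S := by
    rw [← Localization.AtPrime.map_eq_maximalIdeal]
    apply Ideal.map_mono
    intro x hx
    change ψ x ∈ 𝔪
    have hx' : ψ x = 0 := RingHom.mem_ker.mp hx
    rw [hx']
    exact zero_mem _
  obtain ⟨rs, hlen, hmem, hreg⟩ := exists_isWeaklyRegular R P 𝔪' 𝔞 h𝔞 (n - d) hdepth
  by_contra hcon
  push Not at hcon
  -- transfer nontriviality to `Ext_P(A, P)` localized at `𝔪'`
  have hN1 : Nontrivial (LocalizedModule 𝔪'.primeCompl (Dual.inD P A ⟶ (Dual.inD P P)⟦j⟧)) :=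
    nontrivial_localized_of_semilinear (algebraMap P A) (HDRcoEquiv P A (Dual.inD P P) j)
      (HDRcoEquiv_smul P A (Dual.inD P P) j) q.asIdeal.primeCompl 𝔪'.primeCompl
      (fun s hs hsq => hs (hq𝔪 hsq)) h
  haveI : (Dual.inD P P).IsGE 0 := by unfold Dual.inD; infer_instance
  have hN2 : Nontrivial (Dual.inD S (LocalizedModule 𝔪'.primeCompl A) ⟶
      ((flatBC P S).obj (Dual.inD P P))⟦j⟧) :=
    (locExtLinearEquiv P 𝔪' A (Dual.inD P P) 0 j).toEquiv.symm.nontrivial
  let ι : (flatBC P S).obj (Dual.inD P P) ≅ Dual.inD S S :=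
    flatBCSingleIso P S P ≪≫ (DerivedCategory.singleFunctor (ModuleCat.{u} S) 0).mapIso
      (TensorProduct.AlgebraTensorModule.rid P S S).toModuleIso
  have hN3 : Nontrivial (Dual.inD S (LocalizedModule 𝔪'.primeCompl A) ⟶ (Dual.inD S S)⟦j⟧) :=
    (Iso.homCongr (Iso.refl _) ((shiftFunctor (Dual.D S) j).mapIso ι)).symm.nontrivial
  -- the annihilator
  have hann : 𝔞 ≤ Module.annihilator S (LocalizedModule 𝔪'.primeCompl A) := by
    change Ideal.map _ _ ≤ _
    rw [Ideal.map_le_iff_le_comap]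
    intro x hx
    rw [Ideal.mem_comap, Module.mem_annihilator]
    intro y
    induction y using LocalizedModule.induction_on with
    | h a s =>
      rw [algebraMap_smul, LocalizedModule.smul'_mk]
      have : x • a = 0 := by
        change algebraMap P A x * a = 0
        have hx' : (ψ : P →+* A) x = 0 := RingHom.mem_ker.mp hx
        change (ψ : P →+* A) x * a = 0
        rw [hx', zero_mul]
      rw [this, LocalizedModule.zero_mk]
  haveI : IsNoetherianRing S := IsLocalization.isNoetherianRing 𝔪'.primeCompl _ inferInstance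
  haveI : Module.Finite S (LocalizedModule 𝔪'.primeCompl A) := inferInstance
  have hsub : Subsingleton (Dual.inD S (LocalizedModule 𝔪'.primeCompl A) ⟶ (Dual.inD S S)⟦j⟧) := by
    rcases lt_or_ge j 0 with hj | hj
    · exact subsingleton_hom_inD_neg S _ _ j hj
    · obtain ⟨k, rfl⟩ := Int.eq_ofNat_of_zero_le hj
      have hk : k < rs.length := by
        rw [hlen]
        omega
      exact subsingleton_hom_of_isWeaklyRegular S _ 𝔞 h𝔞 hann rs hmem hreg k hk
  exact not_subsingleton _ hsub

end Groth.Agent.Lib.Helper13.FibReg
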