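import Groth.Agent.Lib.Helper13.DRingDescent
import Groth.Agent.Lib.Helper13.DRingRestrict
import Mathlib.RingTheory.Finiteness.Descent
import Mathlib.RingTheory.Localization.BaseChange
import Mathlib.RingTheory.Localization.Finiteness

set_option autoImplicit false
universe u
open CategoryTheory CategoryTheory.Limits TensorProduct MonoidalCategory Pretriangulated

namespace Groth.Agent.Lib.Helper13.DR

open Groth.Agent.Lib.Helper13.PC
open DerivedCategory
attribute [local instance] HasDerivedCategory.standard

section Family

variable (R : Type u) [CommRing R] {ι : Type*} (S : ι → Type u) [∀ i, CommRing (S i)]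
  [∀ i, Algebra R (S i)]

/-- The family of base changes `R → S i` detects finite modules. -/
def JointlyDetectsFinite : Prop :=
  ∀ M : ModuleCat.{u} R,
    (∀ i, Module.Finite (S i) ((ModuleCat.extendScalars.{u, u, u} (algebraMap R (S i))).obj M)) →
      Module.Finite R M

variable [∀ i, Module.Flat R (S i)] [Finite ι]

variable {R S} in
open CochainComplex HomologicalComplex in
/-- Descent of `m`-pseudo-coherence along a jointly faithful finite family of flat ring maps. -/
theorem isNPC_of_jointlyFaithful (hS : JointlyFaithful R S) (hfin : JointlyDetectsFinite R S)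
    (K : DRing.Cx R) (m : ℤ)
    (hK : ∀ i, IsNPC (Pff (S i)) m (Q.obj ((extendCx R (S i)).obj K))) :
    IsNPC (Pff R) m (Q.obj K) := by
  choose b₀ hb₀ using fun i => exists_bound_of_isNPC (hK i)
  obtain ⟨b, hb⟩ := (Set.finite_range b₀).bddAbove
  have hb' : ∀ i, b₀ i ≤ b := fun i => hb ⟨i, rfl⟩
  have hEx : ∀ j : ℤ, b < j → K.ExactAt j := fun j hj => by
    rw [exactAt_iff_isZero_homology]
    exact hS _ (fun i => ((hb₀ i j (by have := hb' i; lia)).of_iso (homologyQIso _ j).symm).of_iso
      (extendCxHomologyIso R (S i) K j).symm)
  obtain ⟨G, g, hGP, hz, hiso, hepi⟩ := exists_nQuasiIso_of_oracle (Pff R) Pff_prod hql_Pff K m b hEx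
    (fun k hk G g hP hz hiso hepi => by
      rw [isOfFiniteType_Pff_iff]
      apply hfin
      intro i
      let F := ModuleCat.extendScalars.{u, u, u} (algebraMap R (S i))
      let g' := (extendCx R (S i)).map g
      have hG : IsNPC (Pff (S i)) (k + 1) (Q.obj ((extendCx R (S i)).obj G)) :=
        ⟨_, isStrictPC_of_forall (b := b) (fun j hj => Functor.map_isZero F (hz j (Or.inr hj)))
          (fun j => Pff_extendScalars (S i) (hP j)) _, ⟨Iso.refl _⟩⟩
      have h1 : IsNPC (Pff (S i)) k (Q.obj (mappingCone g')) :=
        isNPC_obj₃ Pff_prod hqs_Pff hql_Pff _ (mappingCone_triangle_distinguished g') hG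
          ((hK i).of_le hk)
      have iso : ∀ j : ℤ, (DerivedCategory.homologyFunctor _ j).obj (Q.obj (mappingCone g')) ≅
          F.obj ((mappingCone g).homology j) := fun j =>
        homologyQIso _ j ≪≫ (HomologicalComplex.homologyFunctor _ _ j).mapIso
          (mappingCone.mapHomologicalComplexIso g F).symm ≪≫
          extendCxHomologyIso R (S i) (mappingCone g) j
      have hac : ∀ j : ℤ, k < j →
          IsZero ((DerivedCategory.homologyFunctor _ j).obj (Q.obj (mappingCone g'))) := fun j hj => by
        refine IsZero.of_iso (Functor.map_isZero F ?_) (iso j)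
        have h1 := hiso (j + 1) (by lia)
        have h2 : Epi (homologyMap g j) := by
          rcases (show k + 1 ≤ j from hj).lt_or_eq with h | h
          · have := hiso j h; infer_instance
          · subst h; exact hepi
        exact (exactAt_mappingCone g j (j + 1) rfl inferInstance h2).isZero_homology
      exact (isOfFiniteType_Pff_iff _).1 (isOfFiniteType_of_iso _ (iso k)
        (isOfFiniteType_homology_of_isNPC hqs_Pff h1 hac)))
  exact isNPC_Q_of_nQuasiIso Pff_prod
    (isStrictPC_of_forall (fun i hi => hz i (Or.inr hi)) hGP _) g hiso hepi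

end Family

section Instances

variable (R : Type u) [CommRing R]

lemma subsingleton_tensor_of_isZero_extendScalars (B : Type u) [CommRing B] [Algebra R B]
    (M : ModuleCat.{u} R)
    (h : IsZero ((ModuleCat.extendScalars.{u, u, u} (algebraMap R B)).obj M)) :
    Subsingleton (B ⊗[R] M) := by
  have := ModuleCat.subsingleton_of_isZero h
  exact (extendScalarsEquiv B M).symm.toEquiv.subsingleton

lemma finite_tensor_of_finite_extendScalars (B : Type u) [CommRing B] [Algebra R B]
    (M : ModuleCat.{u} R)
    (h : Module.Finite B ((ModuleCat.extendScalars.{u, u, u} (algebraMap R B)).obj M)) :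
    Module.Finite B (B ⊗[R] M) :=
  Module.Finite.equiv (extendScalarsEquiv B M)

lemma jointlyFaithful_of_faithfullyFlat (R' : Type u) [CommRing R'] [Algebra R R']
    [Module.FaithfullyFlat R R'] : JointlyFaithful R (fun _ : Unit => R') := by
  intro M hM
  have := subsingleton_tensor_of_isZero_extendScalars R R' M (hM ())
  rw [isZero_iff_subsingleton]
  exact (Module.FaithfullyFlat.subsingleton_tensorProduct_iff_right R R').1 this

lemma jointlyDetectsFinite_of_faithfullyFlat (R' : Type u) [CommRing R'] [Algebra R R']
    [Module.FaithfullyFlat R R'] : JointlyDetectsFinite R (fun _ : Unit => R') := by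
  intro M hM
  have := finite_tensor_of_finite_extendScalars R R' M (hM ())
  exact Module.Finite.of_finite_tensorProduct_of_faithfullyFlat R'

variable {R} in
lemma jointlyFaithful_of_span_eq_top {r : ℕ} (f : Fin r → R)
    (hf : Ideal.span (Set.range f) = ⊤) :
    JointlyFaithful R (fun i => Localization.Away (f i)) := by
  intro M hM
  rw [isZero_iff_subsingleton]
  refine ⟨fun x y => ?_⟩
  have key : ∀ x : M, x = 0 := by
    intro x
    have hx : x ∈ (⊥ : Submodule R M) := by
      refine Submodule.mem_of_span_eq_top_of_smul_pow_mem ⊥ (Set.range f) hf x ?_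
      rintro ⟨_, i, rfl⟩
      have := subsingleton_tensor_of_isZero_extendScalars R (Localization.Away (f i)) M (hM i)
      have h0 : TensorProduct.mk R (Localization.Away (f i)) M 1 x = 0 := Subsingleton.elim _ _
      rw [IsLocalizedModule.eq_zero_iff (Submonoid.powers (f i))] at h0
      obtain ⟨⟨_, n, rfl⟩, hn⟩ := h0
      exact ⟨n, hn⟩
    simpa using hx
  rw [key x, key y]

variable {R} in
lemma jointlyDetectsFinite_of_span_eq_top {r : ℕ} (f : Fin r → R)
    (hf : Ideal.span (Set.range f) = ⊤) :
    JointlyDetectsFinite R (fun i => Localization.Away (f i)) := by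
  intro M hM
  refine Module.Finite.of_localizationSpan' (Set.range f) hf
    (Mₚ := fun g => Localization.Away g.val ⊗[R] M) (Rₚ := fun g => Localization.Away g.val)
    (fun g => TensorProduct.mk R (Localization.Away g.val) M 1) ?_
  rintro ⟨_, i, rfl⟩
  exact finite_tensor_of_finite_extendScalars R (Localization.Away (f i)) M (hM i)

end Instances

end Groth.Agent.Lib.Helper13.DR
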