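import Groth.Agent.Lib.Helper13.RelPCLoc1
import Groth.Agent.Lib.Helper13.BaseChangeSq2
import Groth.Agent.Lib.Helper13.DRingDescent2

set_option autoImplicit false
universe u
open CategoryTheory CategoryTheory.Limits
open PCoh

namespace Groth.Agent.Lib.Helper13.DR

open Groth.Agent.Lib.Helper13.PC Groth.Agent.Lib.Helper13.BS
open DerivedCategory

attribute [local instance] HasDerivedCategory.standard

/-- Flat base change preserves `m`-pseudo-coherence (complex level). -/
lemma isNPC_extendCx_of_flat (A B : Type u) [CommRing A] [CommRing B] [Algebra A B]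
    [Module.Flat A B] (m : ℤ) (K : DRing.Cx A) (h : IsNPC (Pff A) m (Q.obj K)) :
    IsNPC (Pff B) m (Q.obj ((extendCx A B).obj K)) := by
  obtain ⟨E₀, hE₀, ⟨e⟩⟩ := h
  refine ⟨(extendCx A B).obj E₀, ?_,
    ⟨(flatBCQIso A B E₀).symm ≪≫ (flatBC A B).mapIso e ≪≫ flatBCQIso A B K⟩⟩
  obtain ⟨⟨b, hb⟩, hP⟩ := hE₀
  exact ⟨⟨b, fun i hi => Functor.map_isZero
    (ModuleCat.extendScalars.{u, u, u} (algebraMap A B)) (hb i hi)⟩,
    fun i hi => Pff_extendScalars B (hP i hi)⟩

section

variable {R : Type u} [CommRing R] {n : ℕ}

/-- The presentation `R[y, x_1, …, x_n] → R[x]_F`, `y ↦ 1/F`. -/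
noncomputable def awayPres (F : MvPolynomial (Fin n) R) :
    MvPolynomial (Fin (n + 1)) R →ₐ[R] Localization.Away F :=
  ((Polynomial.aeval (IsLocalization.Away.invSelf (S := Localization.Away F) F)).restrictScalars
    R).comp (MvPolynomial.finSuccEquiv R n).toAlgHom

lemma isPCHom_awayPres (F : MvPolynomial (Fin n) R) :
    IsPCHom (awayPres F : MvPolynomial (Fin (n + 1)) R →+* Localization.Away F) := by
  have h1 := isPCHom_of_ringEquiv (MvPolynomial.finSuccEquiv R n).toRingEquiv
  have h2 := isPCHom_awayInv (MvPolynomial (Fin n) R) F (Localization.Away F)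
  refine (h1.comp h2).of_eq ?_
  refine RingHom.ext (fun x => ?_)
  rfl

lemma awayPres_surjective (F : MvPolynomial (Fin n) R) : Function.Surjective (awayPres F) := by
  intro z
  obtain ⟨k, a, hz⟩ := IsLocalization.Away.surj F z
  refine ⟨(MvPolynomial.finSuccEquiv R n).symm (Polynomial.C a * Polynomial.X ^ k), ?_⟩
  change Polynomial.aeval _ ((MvPolynomial.finSuccEquiv R n)
    ((MvPolynomial.finSuccEquiv R n).symm (Polynomial.C a * Polynomial.X ^ k))) = z
  rw [AlgEquiv.apply_symm_apply, map_mul, map_pow, Polynomial.aeval_C, Polynomial.aeval_X, ← hz,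
    mul_assoc, ← mul_pow, IsLocalization.Away.mul_invSelf, one_pow, mul_one]

end

section Core

variable {R A : Type u} [CommRing R] [CommRing A] [Algebra R A] {n : ℕ}

/-- The core comparison: relative pseudo-coherence of `K_f` over `A_f` is pseudo-coherence of
`(K|_P)_F` over `P_F`, for a presentation `α : P → A` and `f = α F`. -/
theorem isRelPC_away_iff (α : MvPolynomial (Fin n) R →ₐ[R] A) (hα : Function.Surjective α)
    (F : MvPolynomial (Fin n) R) (K : DRing.Cx A) (m : ℤ) :
    DerCA.IsRelPseudoCoherent R (Localization.Away (α F)) m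
        (Q.obj ((extendCx A (Localization.Away (α F))).obj K)) ↔
      IsNPC (Pff (Localization.Away F)) m
        (Q.obj ((extendCx (MvPolynomial (Fin n) R) (Localization.Away F)).obj
          ((DRing.restrictCx (α : MvPolynomial (Fin n) R →+* A)).obj K))) := by
  let β : Localization.Away F →ₐ[R] Localization.Away (α F) :=
    IsLocalization.Away.mapₐ (Localization.Away F) (Localization.Away (α F)) α F
  have hβ : Function.Surjective β := IsLocalization.Away.mapₐ_surjective_of_surjective F hα
  rw [isRelPseudoCoherent_iff (β.comp (awayPres F)) (hβ.comp (awayPres_surjective F)) m]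
  obtain ⟨e1⟩ := nonempty_restrictD_comp (awayPres F : MvPolynomial (Fin (n + 1)) R →+* _)
    (β : Localization.Away F →+* Localization.Away (α F))
    (Q.obj ((extendCx A (Localization.Away (α F))).obj K))
  have h1 := isNPC_restrictD_iff (isPCHom_awayPres F) m
    ((DRing.restrictD (β : Localization.Away F →+* Localization.Away (α F))).obj
      (Q.obj ((extendCx A (Localization.Away (α F))).obj K)))
  let _ : Algebra (MvPolynomial (Fin n) R) A := (α : MvPolynomial (Fin n) R →+* A).toAlgebra
  let _ : Algebra (Localization.Away F) (Localization.Away (α F)) :=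
    (β : Localization.Away F →+* Localization.Away (α F)).toAlgebra
  have : IsScalarTower (MvPolynomial (Fin n) R) (Localization.Away F) (Localization.Away (α F)) :=
    IsScalarTower.of_algebraMap_eq (fun x => by
      change algebraMap A (Localization.Away (α F)) (α x) = β (algebraMap _ _ x)
      have : IsLocalization.Away ((α : MvPolynomial (Fin n) R →+* A) F)
          (Localization.Away (α F)) :=
        (inferInstance : IsLocalization.Away (α F) (Localization.Away (α F)))
      change _ = IsLocalization.Away.map (Localization.Away F) (Localization.Away (α F))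
        (α : MvPolynomial (Fin n) R →+* A) F (algebraMap _ _ x)
      rw [IsLocalization.Away.map, IsLocalization.map_eq]
      rfl)
  have : IsLocalization (Algebra.algebraMapSubmonoid A (Submonoid.powers F))
      (Localization.Away (α F)) := by
    rw [Algebra.algebraMapSubmonoid_powers]
    exact (inferInstance : IsLocalization.Away (α F) (Localization.Away (α F)))
  have : Algebra.IsPushout (MvPolynomial (Fin n) R) (Localization.Away F) A
      (Localization.Away (α F)) :=
    (Algebra.isPushout_of_isLocalization (Submonoid.powers F) (Localization.Away F) A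
      (Localization.Away (α F))).symm
  have e2 := pbcCxIso (MvPolynomial (Fin n) R) A (Localization.Away F) (Localization.Away (α F)) K
  have e3 := restrictDQIso (β : Localization.Away F →+* Localization.Away (α F))
    ((extendCx A (Localization.Away (α F))).obj K)
  constructor
  · intro h
    exact (h1.2 (h.of_iso e1.symm)).of_iso (e3 ≪≫ Q.mapIso e2.symm)
  · intro h
    exact (h1.1 (h.of_iso (Q.mapIso e2 ≪≫ e3.symm))).of_iso e1

open TensorProduct in
lemma isZero_extendScalars_away_of_smul_eq_zero (B : Type u) [CommRing B] (G : B)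
    (M : ModuleCat.{u} B) (h : ∀ x : M, G • x = 0) :
    IsZero ((ModuleCat.extendScalars.{u, u, u} (algebraMap B (Localization.Away G))).obj M) := by
  rw [isZero_iff_subsingleton]
  have : Subsingleton (Localization.Away G ⊗[B] M) := by
    have key : ∀ z : Localization.Away G ⊗[B] M, z = 0 := by
      intro z
      induction z using TensorProduct.induction_on with
      | zero => rfl
      | tmul b x =>
        have hb : b = G • (b * IsLocalization.Away.invSelf (S := Localization.Away G) G) := by
          rw [Algebra.smul_def, mul_comm b, ← mul_assoc, IsLocalization.Away.mul_invSelf, one_mul]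
        rw [hb, TensorProduct.smul_tmul, h, TensorProduct.tmul_zero]
      | add a b ha hb => rw [ha, hb, add_zero]
    exact ⟨fun x y => by rw [key x, key y]⟩
  exact (extendScalarsEquiv (Localization.Away G) M).toEquiv.subsingleton

lemma isNPC_of_forall_isZero {B : Type u} [CommRing B] (X : DRing.Cx B) (hz : ∀ i, IsZero (X.X i))
    (m : ℤ) : IsNPC (Pff B) m (Q.obj X) := by
  refine ⟨X, isStrictPC_of_forall (b := 0) (fun i _ => hz i) (fun i => ?_) m, ⟨Iso.refl _⟩⟩
  have := (isZero_iff_subsingleton _).1 (hz i)
  exact ⟨inferInstance, inferInstance⟩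

/-- Forward direction: relative pseudo-coherence passes to principal localizations. -/
theorem isRelPC_away_of_isRelPC (K : DRing.Cx A) (m : ℤ) (f : A)
    (h : DerCA.IsRelPseudoCoherent R A m (Q.obj K)) :
    DerCA.IsRelPseudoCoherent R (Localization.Away f) m
      (Q.obj ((extendCx A (Localization.Away f)).obj K)) := by
  obtain ⟨n, α, hα, -⟩ := id h
  obtain ⟨F, rfl⟩ := hα f
  rw [isRelPC_away_iff α hα F K m]
  rw [isRelPseudoCoherent_iff α hα m] at h
  exact isNPC_extendCx_of_flat _ _ m _
    (h.of_iso (restrictDQIso (α : MvPolynomial (Fin n) R →+* A) K))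

/-- Backward direction: relative pseudo-coherence is local for principal covers. -/
theorem isRelPC_of_away [Algebra.FiniteType R A] (K : DRing.Cx A) (m : ℤ) {r : ℕ} (f : Fin r → A)
    (hf : Ideal.span (Set.range f) = ⊤)
    (h : ∀ i, DerCA.IsRelPseudoCoherent R (Localization.Away (f i)) m
      (Q.obj ((extendCx A (Localization.Away (f i))).obj K))) :
    DerCA.IsRelPseudoCoherent R A m (Q.obj K) := by
  obtain ⟨n, α, hα⟩ := exists_presentation R A
  rw [isRelPseudoCoherent_iff α hα m]
  refine IsNPC.of_iso ?_ (restrictDQIso (α : MvPolynomial (Fin n) R →+* A) K).symm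
  choose F hF using fun i => hα (f i)
  obtain rfl : f = fun i => α (F i) := funext (fun i => (hF i).symm)
  obtain ⟨c, hc⟩ : ∃ c : Fin r → A, ∑ i, c i * α (F i) = 1 := by
    have h1 : (1 : A) ∈ Ideal.span (Set.range (fun i => α (F i))) := by rw [hf]; trivial
    exact (Ideal.mem_span_range_iff_exists_fun).1 h1
  choose C hC using fun i => hα (c i)
  let G : MvPolynomial (Fin n) R := 1 - ∑ i, C i * F i
  have hG : α G = 0 := by
    simp only [G, map_sub, map_sum, map_mul, map_one, hC, hc, sub_self]
  let X := (DRing.restrictCx (α : MvPolynomial (Fin n) R →+* A)).obj K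
  have key : ∀ p : MvPolynomial (Fin n) R, (p = G ∨ ∃ j, p = F j) →
      IsNPC (Pff (Localization.Away p)) m
        (Q.obj ((extendCx (MvPolynomial (Fin n) R) (Localization.Away p)).obj X)) := by
    rintro p (rfl | ⟨j, rfl⟩)
    · refine isNPC_of_forall_isZero _ (fun i => ?_) m
      refine isZero_extendScalars_away_of_smul_eq_zero _ G (X.X i) (fun x => ?_)
      change (α G) • (show K.X i from x) = 0
      rw [hG, zero_smul]
    · exact (isRelPC_away_iff α hα (F j) K m).1 (h j)
  let g : Fin (r + 1) → MvPolynomial (Fin n) R := Fin.cons G F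
  have hg : Ideal.span (Set.range g) = ⊤ := by
    rw [Ideal.eq_top_iff_one]
    have h1 : (1 : MvPolynomial (Fin n) R) = G + ∑ i, C i * F i := by simp [G]
    rw [h1]
    refine Ideal.add_mem _ (Ideal.subset_span ⟨0, rfl⟩) (Ideal.sum_mem _ fun i _ =>
      Ideal.mul_mem_left _ _ (Ideal.subset_span ⟨i.succ, by simp [g]⟩))
  refine isNPC_of_jointlyFaithful (jointlyFaithful_of_span_eq_top g hg)
    (jointlyDetectsFinite_of_span_eq_top g hg) X m (fun i => key (g i) ?_)
  refine Fin.cases ?_ (fun j => ?_) i
  · exact Or.inl rfl
  · exact Or.inr ⟨j, by simp [g]⟩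

end Core

end Groth.Agent.Lib.Helper13.DR
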