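import Groth.Agent.Lib.Helper13.KoszulPerf
import Groth.Agent.Lib.Helper13.RelPCLoc2
import Mathlib.RingTheory.TensorProduct.Quotient

set_option autoImplicit false
universe u
open CategoryTheory CategoryTheory.Limits TensorProduct

namespace Groth.Agent.Lib.Helper13.KP

open DerivedCategory Groth.Agent.Lib.Helper13.DR Groth.Agent.Lib.Helper13.PC

attribute [local instance] HasDerivedCategory.standard

section

variable (A B : Type u) [CommRing A] [CommRing B] [Algebra A B] [Module.Flat A B]

/-- `B ⊗_A (M[0]) ≅ (B ⊗_A M)[0]` at the level of complexes. -/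
noncomputable def extendCxSingleIso (M : Type u) [AddCommGroup M] [Module A M] :
    Q.obj ((extendCx A B).obj
      ((HomologicalComplex.single (ModuleCat.{u} A) (ComplexShape.up ℤ) 0).obj (ModuleCat.of A M))) ≅
      Dual.inD B (B ⊗[A] M) :=
  (flatBCQIso A B _).symm ≪≫
    (flatBC A B).mapIso
      ((DerivedCategory.singleFunctorIsoCompQ (ModuleCat.{u} A) 0).app (ModuleCat.of A M)).symm ≪≫
    flatBCSingleIso A B M

end

variable (P : Type u) [CommRing P]

theorem isPerfectModule_quotient_of_isKoszulRegularIdeal (I : Ideal P)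
    (h : LCI.IsKoszulRegularIdeal I) : DRing.IsPerfectModule P (P ⧸ I) := by
  let K : DRing.Cx P :=
    (HomologicalComplex.single (ModuleCat.{u} P) (ComplexShape.up ℤ) 0).obj (ModuleCat.of P (P ⧸ I))
  let eK : Dual.inD P (P ⧸ I) ≅ Q.obj K :=
    (DerivedCategory.singleFunctorIsoCompQ (ModuleCat.{u} P) 0).app (ModuleCat.of P (P ⧸ I))
  let Good : P → Prop := fun g =>
    DRing.IsPerfect (Localization.Away g) (Q.obj ((extendCx P (Localization.Away g)).obj K))
  -- every prime has a good element outside it
  have hgood : ∀ 𝔭 : PrimeSpectrum P, ∃ g : P, g ∉ 𝔭.asIdeal ∧ Good g := by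
    intro 𝔭
    by_cases hI : I ≤ 𝔭.asIdeal
    · obtain ⟨g, hg, l, hl, hIl⟩ := h 𝔭 hI
      refine ⟨g, hg, ?_⟩
      have h1 := isPerfectModule_quotient_of_koszulRegular (Localization.Away g) l hl
      have hIl' : I.map (algebraMap P (Localization.Away g)) = Ideal.ofList l := hIl
      let e1 : (Localization.Away g ⧸ Ideal.ofList l) ≃ₗ[Localization.Away g]
          (Localization.Away g ⊗[P] (P ⧸ I)) :=
        (Submodule.quotEquivOfEq _ _ hIl'.symm) ≪≫ₗ
          (Algebra.TensorProduct.quotIdealMapEquivTensorQuot (Localization.Away g) I).toLinearEquiv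
      have h1' : IsPerf (Pfp (Localization.Away g))
          (Dual.inD (Localization.Away g) (Localization.Away g ⧸ Ideal.ofList l)) := h1
      refine h1'.of_iso ?_
      exact (DerivedCategory.singleFunctor (ModuleCat.{u} (Localization.Away g)) 0).mapIso
        e1.toModuleIso ≪≫ (extendCxSingleIso P (Localization.Away g) (P ⧸ I)).symm
    · obtain ⟨g, hgI, hg⟩ := Set.not_subset.1 hI
      refine ⟨g, hg, ?_⟩
      have hz0 : IsZero ((ModuleCat.extendScalars.{u, u, u} (algebraMap P (Localization.Away g))).obj
          (ModuleCat.of P (P ⧸ I))) :=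
        isZero_extendScalars_away_of_smul_eq_zero P g _ (fun x => by
          obtain ⟨y, rfl⟩ := Ideal.Quotient.mk_surjective x
          change g • (Ideal.Quotient.mk I y) = 0
          rw [Algebra.smul_def, Ideal.Quotient.algebraMap_eq, ← map_mul,
            Ideal.Quotient.eq_zero_iff_mem]
          exact I.mul_mem_right y hgI)
      have hz1 : IsZero (Q.obj ((extendCx P (Localization.Away g)).obj K)) :=
        IsZero.of_iso (Functor.map_isZero
          (DerivedCategory.singleFunctor (ModuleCat.{u} (Localization.Away g)) 0) hz0)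
          ((flatBCQIso P (Localization.Away g) K).symm ≪≫
            (flatBC P (Localization.Away g)).mapIso eK.symm ≪≫
            ((ModuleCat.extendScalars.{u, u, u} (algebraMap P
              (Localization.Away g))).mapDerivedCategorySingleFunctor 0).app _)
      exact (isPerf_of_isZero (P := Pfp (Localization.Away g)) hz1 :)
  -- finitely many good elements span the unit ideal
  let T : Set P := {g | Good g}
  have hT : Ideal.span T = ⊤ := by
    by_contra hne
    obtain ⟨m, hm, hle⟩ := Ideal.exists_le_maximal _ hne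
    obtain ⟨g, hg, hgood'⟩ := hgood ⟨m, hm.isPrime⟩
    exact hg (hle (Ideal.subset_span hgood'))
  obtain ⟨s, hsT, hs⟩ := (Ideal.span_eq_top_iff_finite T).1 hT
  let f : Fin s.card → P := fun i => (s.equivFin.symm i : P)
  have hf : Set.range f = (s : Set P) := by
    ext x
    constructor
    · rintro ⟨i, rfl⟩
      exact (s.equivFin.symm i).2
    · intro hx
      exact ⟨s.equivFin ⟨x, hx⟩, by simp [f]⟩
  have key := isPerfect_of_jointlyFaithful (jointlyFaithful_of_span_eq_top f (hf ▸ hs))
    (jointlyDetectsFinite_of_span_eq_top f (hf ▸ hs)) K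
    (fun i => hsT (s.equivFin.symm i).2)
  exact (show IsPerf (Pfp P) (Q.obj K) from key).of_iso eK.symm

end Groth.Agent.Lib.Helper13.KP
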