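import Groth.Agent.Lib.Helper13.LciInv3
import Groth.Agent.Lib.Helper13.KoszulPerf2
import Groth.Agent.S9269

/-!
# The relative dualizing complex of a local complete intersection map is invertible
-/

set_option autoImplicit false
set_option linter.unusedSectionVars false
set_option linter.style.haveILetI false

open CategoryTheory CategoryTheory.Limits Pretriangulated TensorProduct

universe u

namespace Groth.Agent.Lib.Helper13.LciInv

open DerivedCategory Groth.Agent.Lib.Helper13.Coind Groth.Agent.Lib.Helper13.PC
  Groth.Agent.Lib.Helper13.DR Groth.Agent.Lib.Helper13.Shriek Groth.Agent.Lib.Helper13.BD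
  Groth.Agent.Lib.Helper13.HomBC Groth.Agent.Lib.Helper13.DualBC Groth.Agent.Lib.Helper13.FC
  Groth.Agent.Lib.Helper13.RelDual

attribute [local instance] HasDerivedCategory.standard

section Main

variable (P A : Type u) [CommRing P] [CommRing A] [Algebra P A] [IsNoetherianRing P]
  [IsNoetherianRing A]

/-- `RHom_P(A, P)` is locally a shifted unit, for `A = P/I` with `I` Koszul-regular. -/
theorem exists_away_Rco_iso_shift (hs : Function.Surjective (algebraMap P A))
    (hI : LCI.IsKoszulRegularIdeal (RingHom.ker (algebraMap P A))) (q : Ideal A) [q.IsPrime] :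
    ∃ (f : A) (_ : f ∉ q) (c : ℕ), Nonempty ((flatBC A (Localization.Away f)).obj
      ((Rco (algebraMap P A)).obj (Dual.inD P P)) ≅
        (Dual.inD (Localization.Away f) (Localization.Away f))⟦-(c : ℤ)⟧) := by
  have hfinA : Module.Finite P A := Module.Finite.of_surjective (Algebra.linearMap P A) hs
  let X := (Rco (algebraMap P A)).obj (Dual.inD P P)
  -- finiteness
  have hfin : ∀ j : ℤ, Module.Finite A (Dual.HD A X j) := by
    intro j
    have hGE : (Dual.inD P P).IsGE 0 := inferInstance
    have hfin' : ∀ j : ℤ, Module.Finite P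
        ((DerivedCategory.homologyFunctor (ModuleCat.{u} P) j).obj (Dual.inD P P)) := by
      intro j
      by_cases hj : j = 0
      · subst hj
        exact Module.Finite.equiv
          (homologySingleIso 0 (ModuleCat.of P P)).symm.toLinearEquiv
      · have hz : IsZero ((DerivedCategory.homologyFunctor (ModuleCat.{u} P) j).obj
            (Dual.inD P P)) := PC.isZero_homology_single 0 j hj _
        have := ModuleCat.subsingleton_of_isZero hz
        infer_instance
    exact finite_homology_Rco (B := A) (Dual.inD P P) 0 hfin' j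
  -- boundedness
  have hperf0 := Groth.Agent.Lib.Helper13.KP.isPerfectModule_quotient_of_isKoszulRegularIdeal P
    (RingHom.ker (algebraMap P A)) hI
  let e0 : (P ⧸ RingHom.ker (algebraMap P A)) ≃ₗ[P] A :=
    (Algebra.linearMap P A).quotKerEquivOfSurjective hs
  have hperfA : DRing.IsPerfectModule P A := by
    obtain ⟨E, a, b, hv, hE, ⟨e'⟩⟩ := hperf0
    exact ⟨E, a, b, hv, hE, ⟨e' ≪≫ (DerivedCategory.singleFunctor (ModuleCat.{u} P) 0).mapIso
      e0.toModuleIso⟩⟩
  obtain ⟨a, b, hab⟩ := exists_hasTorAmplitudeIn_of_isPerfect (isPerfect_res_Rco P A hperfA)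
  have hbdd : ∃ a b : ℤ, ∀ j : ℤ, (j < a ∨ b < j) → Subsingleton (Dual.HD A X j) := by
    refine ⟨a, b, fun j hj => ?_⟩
    have hz := isZero_HD_of_hasTorAmplitudeIn hab j hj
    obtain ⟨e⟩ := nonempty_homology_restrictD_iso (algebraMap P A) X j
    exact ModuleCat.subsingleton_of_isZero
      (isZero_of_isZero_restrictScalars (algebraMap P A) _ (hz.of_iso e.symm))
  obtain ⟨c, hc⟩ := nonempty_flatBC_Rco_iso_shift P A hs hI q
  obtain ⟨f, hf, hf'⟩ := exists_away_iso_shift A q X hfin hbdd (c : ℤ) hc
  exact ⟨f, hf, c, hf'⟩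

end Main

end Groth.Agent.Lib.Helper13.LciInv
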