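import Mathlib
import Groth.Agent.Lib.Helper13.FibReg5
import Groth.Agent.Lib.Helper13.CMS2d
import Groth.Agent.Lib.Helper13.CMS2e
import Groth.Agent.Lib.Helper13.CMS2f
import Groth.Agent.Lib.Helper13.ExtBridge1
import Groth.Agent.Lib.Helper13.LciInv4
import Groth.Agent.Lib.Helper16.DepthQuotient

set_option autoImplicit false
set_option linter.style.haveILetI false
set_option linter.unusedSectionVars false

universe u

open TensorProduct AlgebraicGeometry CategoryTheory RingTheory.Sequence IsLocalRing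

namespace Groth.Agent.Lib.Helper13.CMS2

open Groth.Agent.Lib.Helper18.FibBridge DerivedCategory Groth.Agent.Lib.Helper13.Coind
  Groth.Agent.Lib.Helper13.DR Groth.Agent.Lib.Helper13.DualBC Groth.Agent.Lib.Helper13.FibReg

attribute [local instance] HasDerivedCategory.standard

section

variable (R A : Type u) [CommRing R] [CommRing A] [IsNoetherianRing R] [IsNoetherianRing A]
  [Algebra R A] (n : ℕ) (ψ : MvPolynomial (Fin n) R →ₐ[R] A) (hψ : Function.Surjective ψ)
  (p : Ideal R) [p.IsPrime] [LocCoh.IsCohenMacaulayLocalRing (Localization.AtPrime p)] (r : ℕ)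
  (hr : ∀ q : PrimeSpectrum A, q.asIdeal ∈ minimalPrimes A →
    Dual3.resTrdeg (Spec.map (CommRingCat.ofHom (algebraMap R A))) q ≤ (r : Cardinal.{u}))

include hψ hr in
/-- Vanishing of the cohomology of `RHom_P(A, P)` below degree `n - r` at primes over the
Cohen–Macaulay locus. -/
theorem local_vanishing (q : PrimeSpectrum A) (hq : q.asIdeal.under R ≤ p) (j : ℤ)
    (h : Nontrivial (LocalizedModule q.asIdeal.primeCompl
      (Dual.HD A ((Rco ψ.toRingHom).obj
        (Dual.inD (MvPolynomial (Fin n) R) (MvPolynomial (Fin n) R))) j))) :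
    (n : ℤ) - r ≤ j := by
  classical
  let P := MvPolynomial (Fin n) R
  letI : Algebra P A := ψ.toRingHom.toAlgebra
  haveI : Module.Finite P A := Module.Finite.of_surjective (Algebra.linearMap P A) hψ
  let 𝔪' : Ideal P := q.asIdeal.comap ψ
  haveI : 𝔪'.IsPrime := Ideal.comap_isPrime _ _
  let S := Localization.AtPrime 𝔪'
  let 𝔞 : Ideal S := (RingHom.ker (ψ : P →+* A)).map (algebraMap P S)
  have hker : RingHom.ker (ψ : P →+* A) ≤ 𝔪' := by
    intro x hx
    change ψ x ∈ q.asIdeal
    have hx' : ψ x = 0 := RingHom.mem_ker.mp hx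
    rw [hx']
    exact zero_mem _
  have h𝔪' : 𝔪'.under R ≤ p := by
    intro x hx
    apply hq
    change algebraMap R A x ∈ q.asIdeal
    have : ψ (algebraMap R P x) ∈ q.asIdeal := hx
    rwa [ψ.commutes] at this
  have h𝔞 : 𝔞 ≤ maximalIdeal S := by
    rw [← Localization.AtPrime.map_eq_maximalIdeal]
    exact Ideal.map_mono hker
  obtain ⟨rs, hlen, hmem, hreg⟩ := exists_isWeaklyRegular_atPrime R A n ψ hψ r hr p 𝔪' h𝔪' hker
  by_contra hcon
  push Not at hcon
  have hN1 : Nontrivial (LocalizedModule 𝔪'.primeCompl (Dual.inD P A ⟶ (Dual.inD P P)⟦j⟧)) :=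
    nontrivial_localized_of_semilinear (algebraMap P A) (HDRcoEquiv P A (Dual.inD P P) j)
      (HDRcoEquiv_smul P A (Dual.inD P P) j) q.asIdeal.primeCompl 𝔪'.primeCompl
      (fun s hs hsq => hs hsq) h
  haveI : (Dual.inD P P).IsGE 0 := by unfold Dual.inD; infer_instance
  have hN2 : Nontrivial (Dual.inD S (LocalizedModule 𝔪'.primeCompl A) ⟶
      ((flatBC P S).obj (Dual.inD P P))⟦j⟧) :=
    (locExtLinearEquiv P 𝔪' A (Dual.inD P P) 0 j).toEquiv.symm.nontrivial
  let ι : (flatBC P S).obj (Dual.inD P P) ≅ Dual.inD S S :=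
    flatBCSingleIso P S P ≪≫ (DerivedCategory.singleFunctor (ModuleCat.{u} S) 0).mapIso
      (TensorProduct.AlgebraTensorModule.rid P S S).toModuleIso
  have hN3 : Nontrivial (Dual.inD S (LocalizedModule 𝔪'.primeCompl A) ⟶ (Dual.inD S S)⟦j⟧) :=
    (Iso.homCongr (Iso.refl _) ((shiftFunctor (Dual.D S) j).mapIso ι)).symm.nontrivial
  have hann : 𝔞 ≤ Module.annihilator S (LocalizedModule 𝔪'.primeCompl A) := by
    change Ideal.map _ _ ≤ _
    rw [Ideal.map_le_iff_le_comap]
    intro x hx
    rw [Ideal.mem_comap, Module.mem_annihilator]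
    intro y
    induction y using LocalizedModule.induction_on with
    | h a s =>
      rw [algebraMap_smul, LocalizedModule.smul'_mk]
      have : x • a = 0 := by
        change algebraMap P A x * a = 0
        have hx' : (ψ : P →+* A) x = 0 := RingHom.mem_ker.mp hx
        change (ψ : P →+* A) x * a = 0
        rw [hx', zero_mul]
      rw [this, LocalizedModule.zero_mk]
  haveI : IsNoetherianRing S := IsLocalization.isNoetherianRing 𝔪'.primeCompl _ inferInstance
  haveI : Module.Finite S (LocalizedModule 𝔪'.primeCompl A) := inferInstance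
  have hsub : Subsingleton (Dual.inD S (LocalizedModule 𝔪'.primeCompl A) ⟶ (Dual.inD S S)⟦j⟧) := by
    rcases lt_or_ge j 0 with hj | hj
    · exact subsingleton_hom_inD_neg S _ _ j hj
    · obtain ⟨k, rfl⟩ := Int.eq_ofNat_of_zero_le hj
      have hk : k < rs.length := by
        rw [hlen]
        omega
      exact subsingleton_hom_of_isWeaklyRegular S _ 𝔞 h𝔞 hann rs hmem hreg k hk
  exact not_subsingleton _ hsub

omit [IsNoetherianRing R] [IsNoetherianRing A] [Algebra R A] in
/-- finiteness of the cohomology of `RHom_P(A, P)` -/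
theorem finite_HD_Rco (P A : Type u) [CommRing P] [CommRing A] [IsNoetherianRing P] [Algebra P A]
    [Module.Finite P A] (j : ℤ) :
    Module.Finite A (Dual.HD A ((Rco (algebraMap P A)).obj (Dual.inD P P)) j) := by
  have hGE : (Dual.inD P P).IsGE 0 := by unfold Dual.inD; infer_instance
  have hfin' : ∀ j : ℤ, Module.Finite P
      ((DerivedCategory.homologyFunctor (ModuleCat.{u} P) j).obj (Dual.inD P P)) := by
    intro j
    by_cases hj : j = 0
    · subst hj
      exact Module.Finite.equiv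
        (Groth.Agent.Lib.Helper13.PC.homologySingleIso 0 (ModuleCat.of P P)).symm.toLinearEquiv
    · have hz : Limits.IsZero ((DerivedCategory.homologyFunctor (ModuleCat.{u} P) j).obj
          (Dual.inD P P)) := Groth.Agent.Lib.Helper13.PC.isZero_homology_single 0 j hj _
      have := ModuleCat.subsingleton_of_isZero hz
      infer_instance
  exact Groth.Agent.Lib.Helper13.FC.finite_homology_Rco (B := A) (Dual.inD P P) 0 hfin' j

include hψ hr in
/-- the `(S₂)` inequality for `H^{n-r}(RHom_P(A, P))` at primes over the Cohen–Macaulay locus -/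
theorem local_S2 (q : PrimeSpectrum A) (hq : q.asIdeal.under R ≤ p) (c : ℕ) (hc : c = n - r) :
    min (2 : WithBot ℕ∞) (Module.supportDim (Localization.AtPrime q.asIdeal)
      (LocalizedModule q.asIdeal.primeCompl
        (Dual.HD A ((Rco ψ.toRingHom).obj
          (Dual.inD (MvPolynomial (Fin n) R) (MvPolynomial (Fin n) R))) (c : ℤ)))) ≤
      ((LocCoh.depth (Localization.AtPrime q.asIdeal)
        (LocalizedModule q.asIdeal.primeCompl
          (Dual.HD A ((Rco ψ.toRingHom).obj
            (Dual.inD (MvPolynomial (Fin n) R) (MvPolynomial (Fin n) R))) (c : ℤ))) : ℕ∞) :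
        WithBot ℕ∞) := by
  classical
  let P := MvPolynomial (Fin n) R
  letI : Algebra P A := ψ.toRingHom.toAlgebra
  haveI : Module.Finite P A := Module.Finite.of_surjective (Algebra.linearMap P A) hψ
  let 𝔪' : Ideal P := q.asIdeal.comap (algebraMap P A)
  haveI : 𝔪'.IsPrime := Ideal.comap_isPrime _ _
  let S := Localization.AtPrime 𝔪'
  let 𝔞 : Ideal S := (RingHom.ker (ψ : P →+* A)).map (algebraMap P S)
  have hker : RingHom.ker (ψ : P →+* A) ≤ 𝔪' := by
    intro x hx
    change ψ x ∈ q.asIdeal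
    have hx' : ψ x = 0 := RingHom.mem_ker.mp hx
    rw [hx']
    exact zero_mem _
  have h𝔪' : 𝔪'.under R ≤ p := by
    intro x hx
    apply hq
    change algebraMap R A x ∈ q.asIdeal
    have : ψ (algebraMap R P x) ∈ q.asIdeal := hx
    rwa [ψ.commutes] at this
  have h𝔞 : 𝔞 ≤ maximalIdeal S := by
    rw [← Localization.AtPrime.map_eq_maximalIdeal]
    exact Ideal.map_mono hker
  obtain ⟨rs, hlen, hmem, hreg⟩ := exists_isWeaklyRegular_atPrime R A n ψ hψ r hr p 𝔪' h𝔪' hker
  have hlen' : rs.length = c := hlen.trans hc.symm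
  subst hlen'
  let E := Dual.HD A ((Rco (algebraMap P A)).obj (Dual.inD P P)) (rs.length : ℤ)
  haveI hfinE : Module.Finite A E := finite_HD_Rco P A _
  letI instP : Module P E := Module.compHom E (algebraMap P A)
  haveI instT : IsScalarTower P A E := IsScalarTower.of_algebraMap_smul (fun r x => rfl)
  haveI hfinPE : Module.Finite P E := Module.Finite.trans A E
  have hsurj : Function.Surjective (algebraMap P A) := hψ
  have hd := Groth.Agent.Lib.Helper16.Depth.depth_localization_comap_of_surjective hsurj E q.asIdeal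
  have hs := supportDim_localization_le_comap_of_surjective hsurj E q.asIdeal
  -- the chain of `S`-linear isomorphisms
  let N := LocalizedModule 𝔪'.primeCompl A
  have hann : 𝔞 ≤ Module.annihilator S N := by
    change Ideal.map _ _ ≤ _
    rw [Ideal.map_le_iff_le_comap]
    intro x hx
    rw [Ideal.mem_comap, Module.mem_annihilator]
    intro y
    induction y using LocalizedModule.induction_on with
    | h a s =>
      rw [algebraMap_smul, LocalizedModule.smul'_mk]
      have : x • a = 0 := by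
        change algebraMap P A x * a = 0
        have hx' : (ψ : P →+* A) x = 0 := RingHom.mem_ker.mp hx
        change (ψ : P →+* A) x * a = 0
        rw [hx', zero_mul]
      rw [this, LocalizedModule.zero_mk]
  haveI : IsNoetherianRing S := IsLocalization.isNoetherianRing 𝔪'.primeCompl _ inferInstance
  haveI : Module.Finite S N := inferInstance
  haveI : (Dual.inD P P).IsGE 0 := by unfold Dual.inD; infer_instance
  let e₁₂ : E ≃ₗ[P] (Dual.inD P A ⟶ (Dual.inD P P)⟦(rs.length : ℤ)⟧) :=
    { toFun := HDRcoEquiv P A (Dual.inD P P) (rs.length : ℤ)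
      invFun := (HDRcoEquiv P A (Dual.inD P P) (rs.length : ℤ)).symm
      left_inv := (HDRcoEquiv P A (Dual.inD P P) (rs.length : ℤ)).left_inv
      right_inv := (HDRcoEquiv P A (Dual.inD P P) (rs.length : ℤ)).right_inv
      map_add' := Groth.Agent.Lib.Helper13.ExtBridge.HDRcoEquiv_add P A (Dual.inD P P) _
      map_smul' := fun x y => HDRcoEquiv_smul P A (Dual.inD P P) _ x y }
  let e₃ : LocalizedModule 𝔪'.primeCompl E ≃ₗ[S]
      LocalizedModule 𝔪'.primeCompl (Dual.inD P A ⟶ (Dual.inD P P)⟦(rs.length : ℤ)⟧) :=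
    IsLocalizedModule.mapEquiv 𝔪'.primeCompl (LocalizedModule.mkLinearMap 𝔪'.primeCompl E)
      (LocalizedModule.mkLinearMap 𝔪'.primeCompl _) S e₁₂
  let e₄ := locExtLinearEquiv P 𝔪' A (Dual.inD P P) 0 (rs.length : ℤ)
  let ι : (flatBC P S).obj (Dual.inD P P) ≅ Dual.inD S S :=
    flatBCSingleIso P S P ≪≫ (DerivedCategory.singleFunctor (ModuleCat.{u} S) 0).mapIso
      (TensorProduct.AlgebraTensorModule.rid P S S).toModuleIso
  let e₅ : (Dual.inD S N ⟶ ((flatBC P S).obj (Dual.inD P P))⟦(rs.length : ℤ)⟧) ≃ₗ[S]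
      (Dual.inD S N ⟶ (Dual.inD S S)⟦(rs.length : ℤ)⟧) :=
    Linear.homCongr S (Iso.refl (Dual.inD S N))
      ((shiftFunctor (Dual.D S) (rs.length : ℤ)).mapIso ι)
  let e₆ : (Dual.inD S N ⟶ (Dual.inD S S)⟦(rs.length : ℤ)⟧) ≃ₗ[S]
      Abelian.Ext (ModuleCat.of S N) (ModuleCat.of S S) rs.length :=
    (Abelian.Ext.homLinearEquiv (R := S) (X := ModuleCat.of S N) (Y := ModuleCat.of S S)
      (n := rs.length)).symm
  obtain ⟨e₇⟩ := nonempty_hom_quot_linearEquiv_ext (ModuleCat.of S N) rs
    (fun x hx => hann (hmem x hx)) S hreg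
  let Φ : LocalizedModule 𝔪'.primeCompl E ≃ₗ[S]
      (N →ₗ[S] (S ⧸ (Ideal.ofList rs • (⊤ : Submodule S S)))) :=
    e₃ ≪≫ₗ e₄ ≪≫ₗ e₅ ≪≫ₗ e₆ ≪≫ₗ e₇.symm
  haveI hCMS := isCohenMacaulayLocalRing_mvPolynomial_atPrime R n p 𝔪' h𝔪'
  have hxs : ∀ x ∈ rs, x ∈ maximalIdeal S := fun x hx => h𝔞 (hmem x hx)
  have hCM' : LocCoh.IsCohenMacaulayModule S (S ⧸ (Ideal.ofList rs • (⊤ : Submodule S S))) :=
    (Groth.Agent.Lib.Helper18.CM.isWeaklyRegular_iff_supportDim_and_isCohenMacaulayModule rs hxs S
      hCMS.supportDim_eq_depth).2 hreg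
  have hM' : min (2 : WithBot ℕ∞)
      (Module.supportDim S (S ⧸ (Ideal.ofList rs • (⊤ : Submodule S S)))) ≤
      ((LocCoh.depth S (S ⧸ (Ideal.ofList rs • (⊤ : Submodule S S))) : ℕ∞) : WithBot ℕ∞) :=
    (min_le_right _ _).trans hCM'.le
  have h7 := sk_two_hom N (S ⧸ (Ideal.ofList rs • (⊤ : Submodule S S))) hM'
  have hgoal : min (2 : WithBot ℕ∞)
      (Module.supportDim S (LocalizedModule 𝔪'.primeCompl E)) ≤
      ((LocCoh.depth S (LocalizedModule 𝔪'.primeCompl E) : ℕ∞) : WithBot ℕ∞) := by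
    rw [Module.supportDim_eq_of_equiv Φ, Groth.Agent.Lib.Helper18.CM.depth_congr Φ]
    exact h7
  calc min (2 : WithBot ℕ∞) (Module.supportDim (Localization.AtPrime q.asIdeal)
        (LocalizedModule q.asIdeal.primeCompl E))
      ≤ min (2 : WithBot ℕ∞) (Module.supportDim S (LocalizedModule 𝔪'.primeCompl E)) :=
        min_le_min_left _ hs
    _ ≤ ((LocCoh.depth S (LocalizedModule 𝔪'.primeCompl E) : ℕ∞) : WithBot ℕ∞) := hgoal
    _ = _ := congrArg _ hd.symm

end

end Groth.Agent.Lib.Helper13.CMS2
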