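import Groth.Agent.Lib.Helper13.HomOp3
import Groth.Agent.Lib.Helper13.RHomCxV

/-!
# The canonical map `P ⊗ Hom•(X, Y) ⟶ Hom•(X, P ⊗ Y)`
-/

set_option autoImplicit false
universe u
open CategoryTheory CategoryTheory.Limits MonoidalCategory Pretriangulated Opposite
open CochainComplex CochainComplex.HomComplex HomologicalComplex

namespace Groth.Agent.Lib.Helper13.HOp

open Groth.Agent.Lib.Helper13.HT Groth.Agent.Lib.Helper13.PC Groth.Agent.Lib.Helper13.DV

attribute [local instance] HasDerivedCategory.standard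

variable {A : Type u} [CommRing A]

lemma uncurryHom_comp {Z Z' P L : DRing.Cx A} (f : Z ⟶ Z') (u : Z' ⟶ DRing.homCx P L) :
    uncurryHom (f ≫ u) = f ▷ P ≫ uncurryHom u := by
  rw [← whiskerRight_evCx, ← whiskerRight_evCx u, comp_whiskerRight, Category.assoc]

lemma uncurryHom_injective {Z P L : DRing.Cx A} {u u' : Z ⟶ DRing.homCx P L}
    (h : uncurryHom u = uncurryHom u') : u = u' := by
  rw [← curryHom_uncurryHom u, h, curryHom_uncurryHom]

lemma whiskerRight_homCxMap_evCx (X : DRing.Cx A) {Y Y' : DRing.Cx A} (g : Y ⟶ Y') :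
    DRing.homCxMap X g ▷ X ≫ evCx X Y' = evCx X Y ≫ g := by
  rw [whiskerRight_evCx]
  have := uncurryHom_comp_homCxMap (𝟙 (DRing.homCx X Y)) g
  rw [Category.id_comp] at this
  rw [this]
  rfl

/-- The canonical map `P ⊗ Hom•(X, Y) ⟶ Hom•(X, P ⊗ Y)`. -/
noncomputable def cMap (P X Y : DRing.Cx A) : P ⊗ DRing.homCx X Y ⟶ DRing.homCx X (P ⊗ Y) :=
  curryHom ((α_ P (DRing.homCx X Y) X).hom ≫ P ◁ evCx X Y)

lemma uncurryHom_cMap (P X Y : DRing.Cx A) :
    uncurryHom (cMap P X Y) = (α_ P (DRing.homCx X Y) X).hom ≫ P ◁ evCx X Y :=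
  uncurryHom_curryHom _

lemma cMap_naturality_left (P : DRing.Cx A) {X X' : DRing.Cx A} (f : X' ⟶ X) (Y : DRing.Cx A) :
    P ◁ preMap f Y ≫ cMap P X' Y = cMap P X Y ≫ preMap f (P ⊗ Y) := by
  apply uncurryHom_injective
  rw [uncurryHom_comp, uncurryHom_cMap, ← whiskerRight_evCx (cMap P X Y ≫ preMap f (P ⊗ Y)),
    comp_whiskerRight, Category.assoc, ← whiskerLeft_evCx, ← whisker_exchange_assoc,
    whiskerRight_evCx, uncurryHom_cMap, associator_naturality_middle_assoc,
    associator_naturality_right_assoc, ← MonoidalCategory.whiskerLeft_comp,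
    ← MonoidalCategory.whiskerLeft_comp, whiskerLeft_evCx]

lemma cMap_naturality_right (P X : DRing.Cx A) {Y Y' : DRing.Cx A} (g : Y ⟶ Y') :
    P ◁ DRing.homCxMap X g ≫ cMap P X Y' = cMap P X Y ≫ DRing.homCxMap X (P ◁ g) := by
  apply uncurryHom_injective
  rw [uncurryHom_comp, uncurryHom_cMap, uncurryHom_comp_homCxMap, uncurryHom_cMap,
    associator_naturality_middle_assoc, ← MonoidalCategory.whiskerLeft_comp,
    whiskerRight_homCxMap_evCx, MonoidalCategory.whiskerLeft_comp, Category.assoc]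

end Groth.Agent.Lib.Helper13.HOp
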