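import Groth.Agent.Lib.Helper13.CMap1

/-!
# Element formula for the canonical map `P ⊗ Hom•(X, Y) ⟶ Hom•(X, P ⊗ Y)`
-/

set_option autoImplicit false
universe u
open CategoryTheory CategoryTheory.Limits MonoidalCategory Pretriangulated Opposite
open CochainComplex CochainComplex.HomComplex HomologicalComplex

namespace Groth.Agent.Lib.Helper13.HOp

open Groth.Agent.Lib.Helper13.HT Groth.Agent.Lib.Helper13.PC Groth.Agent.Lib.Helper13.DV

attribute [local instance] HasDerivedCategory.standard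

variable {A : Type u} [CommRing A]

/-- The associator on triple summands. -/
lemma ι_ι_associator_hom (K₁ K₂ K₃ : DRing.Cx A) (a b c ab bc n : ℤ) (hab : a + b = ab)
    (hbc : b + c = bc) (hn : ab + c = n) :
    (ιTensorObj K₁ K₂ a b ab hab ▷ K₃.X c) ≫ ιTensorObj (K₁ ⊗ K₂) K₃ ab c n hn ≫
        (α_ K₁ K₂ K₃).hom.f n =
      (α_ (K₁.X a) (K₂.X b) (K₃.X c)).hom ≫ (K₁.X a ◁ ιTensorObj K₂ K₃ b c bc hbc) ≫
        ιTensorObj K₁ (K₂ ⊗ K₃) a bc n (by omega) := by
  have h1 := mapBifunctor₁₂.ι_eq (curriedTensor (ModuleCat.{u} A)) (curriedTensor (ModuleCat.{u} A))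
    K₁ K₂ K₃ (ComplexShape.up ℤ) (ComplexShape.up ℤ) a b c ab n hab hn
  have h2 := mapBifunctor₂₃.ι_eq (curriedTensor (ModuleCat.{u} A)) (curriedTensor (ModuleCat.{u} A))
    K₁ K₂ K₃ (ComplexShape.up ℤ) (ComplexShape.up ℤ) (ComplexShape.up ℤ) a b c bc n hbc (by
      change a + bc = n
      omega)
  have h3 := ι_mapBifunctorAssociatorX_hom (curriedAssociatorNatIso (ModuleCat.{u} A))
    K₁ K₂ K₃ (ComplexShape.up ℤ) (ComplexShape.up ℤ) (ComplexShape.up ℤ) a b c n (by
      change a + b + c = n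
      omega)
  rw [h1, h2] at h3
  simp only [curriedTensor_map_app, curriedTensor_obj_obj, curriedTensor_obj_map, Category.assoc,
    curriedAssociatorNatIso, NatIso.ofComponents_hom_app] at h3
  exact h3

/-- The element formula for `cMap`. -/
lemma cMap_f_apply (P X Y : DRing.Cx A) (a b n : ℤ) (h : a + b = n) (p : P.X a)
    (z : Cochain X Y b) (i j : ℤ) (hij : i + n = j) (x : X.X i) :
    (Cochain.v (F := X) (G := P ⊗ Y)
      (((cMap P X Y).f n).hom ((ιTensorObj P (DRing.homCx X Y) a b n h).hom (p ⊗ₜ z))) i j hij).hom x =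
      (ιTensorObj P Y a (b + i) j (by omega)).hom (p ⊗ₜ (z.v i (b + i) (by omega)).hom x) := by
  have h1 := ι_uncurryHom_f_apply (cMap P X Y) n i j (by omega)
    ((ιTensorObj P (DRing.homCx X Y) a b n h).hom (p ⊗ₜ z)) x
  rw [← h1, uncurryHom_cMap]
  have h2 := ι_ι_associator_hom P (DRing.homCx X Y) X a b i n (b + i) j h rfl (by omega)
  have h3 := ι_whiskerLeft_f' P (evCx X Y) a (b + i) j (by omega)
  have h4 : ((ιTensorObj P (DRing.homCx X Y) a b n h ▷ X.X i) ≫
      ιTensorObj (P ⊗ DRing.homCx X Y) X n i j (by omega) ≫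
        ((α_ P (DRing.homCx X Y) X).hom ≫ P ◁ evCx X Y).f j) =
      (α_ (P.X a) ((DRing.homCx X Y).X b) (X.X i)).hom ≫
        (P.X a ◁ (ιTensorObj (DRing.homCx X Y) X b i (b + i) rfl ≫ (evCx X Y).f (b + i))) ≫
          ιTensorObj P Y a (b + i) j (by omega) := by
    rw [HomologicalComplex.comp_f, reassoc_of% h2, h3,
      MonoidalCategory.whiskerLeft_comp, Category.assoc]
  have h5 := congrArg (fun t => t.hom ((p ⊗ₜ (show (DRing.homCx X Y).X b from z)) ⊗ₜ x)) h4
  refine Eq.trans ?_ (h5.trans ?_)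
  · rfl
  · change (ιTensorObj P Y a (b + i) j _).hom (p ⊗ₜ
      ((ιTensorObj (DRing.homCx X Y) X b i (b + i) rfl ≫ (evCx X Y).f (b + i)).hom (z ⊗ₜ x))) = _
    rw [ι_evCx_f_apply]

end Groth.Agent.Lib.Helper13.HOp
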