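import Groth.Agent.Lib.Helper13.CMap2
import Mathlib.Algebra.Homology.HomotopyCategory.HomComplexSingle

/-!
# The canonical map `P ⊗ Hom•(X, Y) ⟶ Hom•(X, P ⊗ Y)` is an isomorphism for `X = A[-k]`
-/

set_option autoImplicit false
universe u
open CategoryTheory CategoryTheory.Limits MonoidalCategory Pretriangulated Opposite
open CochainComplex CochainComplex.HomComplex HomologicalComplex

namespace Groth.Agent.Lib.Helper13.HOp

open Groth.Agent.Lib.Helper13.HT Groth.Agent.Lib.Helper13.PC Groth.Agent.Lib.Helper13.DV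

attribute [local instance] HasDerivedCategory.standard

variable {A : Type u} [CommRing A]

variable (A) in
/-- The ring in degree `k`. -/
noncomputable abbrev XU (k : ℤ) : DRing.Cx A :=
  (CochainComplex.singleFunctor (ModuleCat.{u} A) k).obj (ModuleCat.of A A)

/-- Evaluation at `1`: `Hom^b(A[-k], Y) ≃ Y^{k+b}`. -/
noncomputable def evU (k : ℤ) (Y : DRing.Cx A) {b c : ℤ} (h : k + b = c) :
    Cochain (XU A k) Y b ≃ₗ[A] Y.X c where
  toFun z := (Cochain.fromSingleEquiv (X := ModuleCat.of A A) (K := Y) h z).hom (1 : A)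
  invFun y := Cochain.fromSingleMk (X := ModuleCat.of A A) (K := Y)
    (ModuleCat.ofHom (LinearMap.toSpanSingleton A (Y.X c) y)) h
  map_add' z z' := by
    rw [map_add]
    rfl
  map_smul' a z := by
    have : Cochain.fromSingleEquiv (X := ModuleCat.of A A) (K := Y) h (a • z) =
        a • Cochain.fromSingleEquiv (X := ModuleCat.of A A) (K := Y) h z := by
      simp only [Cochain.fromSingleEquiv, AddEquiv.coe_mk, Equiv.coe_fn_mk, Cochain.smul_v]
      erw [Linear.comp_smul]
    rw [this]
    rfl
  left_inv z := by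
    have : ModuleCat.ofHom (LinearMap.toSpanSingleton A (Y.X c)
        ((Cochain.fromSingleEquiv (X := ModuleCat.of A A) (K := Y) h z).hom (1 : A))) =
        Cochain.fromSingleEquiv (X := ModuleCat.of A A) (K := Y) h z := by
      apply ModuleCat.hom_ext
      apply LinearMap.ext_ring
      simp
    dsimp only
    rw [this]
    exact (Cochain.fromSingleEquiv (X := ModuleCat.of A A) (K := Y) h).symm_apply_apply z
  right_inv y := by
    dsimp only
    rw [Cochain.fromSingleEquiv_fromSingleMk]
    simp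

lemma evU_apply (k : ℤ) (Y : DRing.Cx A) {b c : ℤ} (h : k + b = c) (z : Cochain (XU A k) Y b) :
    evU k Y h z = (z.v k c h).hom
      ((HomologicalComplex.singleObjXSelf (ComplexShape.up ℤ) k (ModuleCat.of A A)).inv.hom
        (1 : A)) := rfl

lemma cMap_f_apply' (P X Y : DRing.Cx A) (a b n : ℤ) (h : a + b = n) (p : P.X a)
    (z : Cochain X Y b) (i j m : ℤ) (hij : i + n = j) (hm : i + b = m) (x : X.X i) :
    (Cochain.v (F := X) (G := P ⊗ Y)
      (((cMap P X Y).f n).hom ((ιTensorObj P (DRing.homCx X Y) a b n h).hom (p ⊗ₜ z))) i j hij).hom x =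
      (ιTensorObj P Y a m j (by omega)).hom (p ⊗ₜ (z.v i m hm).hom x) := by
  obtain rfl : m = b + i := by omega
  exact cMap_f_apply P X Y a b n h p z i j hij x

section Base

variable (P Y : DRing.Cx A) (k : ℤ)

lemma ι_cMap_evU (a b c n N : ℤ) (h : a + b = n) (hc : k + b = c) (hN : k + n = N) :
    ιTensorObj P (DRing.homCx (XU A k) Y) a b n h ≫ (cMap P (XU A k) Y).f n ≫
        ModuleCat.ofHom (evU k (P ⊗ Y) hN).toLinearMap =
      (P.X a ◁ ModuleCat.ofHom (X := ModuleCat.of A (Cochain (XU A k) Y b))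
        (evU k Y hc).toLinearMap) ≫ ιTensorObj P Y a c N (by omega) := by
  apply ModuleCat.hom_ext
  apply TensorProduct.ext'
  intro p z
  exact cMap_f_apply' P (XU A k) Y a b n h p z k N c hN hc _

/-- The candidate inverse, after evaluation. -/
noncomputable def cInv (n N : ℤ) (hN : k + n = N) :
    (P ⊗ Y).X N ⟶ (P ⊗ DRing.homCx (XU A k) Y).X n :=
  HomologicalComplex.mapBifunctorDesc (fun a c (hac : a + c = N) =>
    (P.X a ◁ ModuleCat.ofHom (Y := ModuleCat.of A (Cochain (XU A k) Y (c - k)))
      (evU k Y (show k + (c - k) = c by omega)).symm.toLinearMap) ≫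
      ιTensorObj P (DRing.homCx (XU A k) Y) a (c - k) n (by omega))

lemma ι_cInv (a c n N : ℤ) (hN : k + n = N) (hac : a + c = N) :
    ιTensorObj P Y a c N hac ≫ cInv P Y k n N hN =
      (P.X a ◁ ModuleCat.ofHom (Y := ModuleCat.of A (Cochain (XU A k) Y (c - k)))
      (evU k Y (show k + (c - k) = c by omega)).symm.toLinearMap) ≫
      ιTensorObj P (DRing.homCx (XU A k) Y) a (c - k) n (by omega) :=
  HomologicalComplex.ι_mapBifunctorDesc _ _ _ _

lemma ι_cInv' (a b c n N : ℤ) (hN : k + n = N) (hac : a + c = N) (hb : k + b = c) :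
    ιTensorObj P Y a c N hac ≫ cInv P Y k n N hN =
      (P.X a ◁ ModuleCat.ofHom (Y := ModuleCat.of A (Cochain (XU A k) Y b))
      (evU k Y hb).symm.toLinearMap) ≫
      ιTensorObj P (DRing.homCx (XU A k) Y) a b n (by omega) := by
  obtain rfl : b = c - k := by omega
  exact ι_cInv P Y k a c n N hN hac

lemma cMap_evU_cInv (n N : ℤ) (hN : k + n = N) :
    ((cMap P (XU A k) Y).f n ≫ ModuleCat.ofHom (evU k (P ⊗ Y) hN).toLinearMap) ≫
      cInv P Y k n N hN = 𝟙 _ := by
  apply HomologicalComplex.mapBifunctor.hom_ext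
  intro a b hab
  have hab' : a + b = n := hab
  have h1 := ι_cMap_evU P Y k a b (k + b) n N hab' rfl hN
  have h2 := ι_cInv' P Y k a b (k + b) n N hN (by omega) rfl
  erw [Category.comp_id, ← Category.assoc, h1, Category.assoc, h2, ← Category.assoc,
    ← MonoidalCategory.whiskerLeft_comp]
  have h3 : ModuleCat.ofHom (X := ModuleCat.of A (Cochain (XU A k) Y b))
      (evU k Y (show k + b = k + b from rfl)).toLinearMap ≫
      ModuleCat.ofHom (Y := ModuleCat.of A (Cochain (XU A k) Y b))
        (evU k Y (show k + b = k + b from rfl)).symm.toLinearMap = 𝟙 _ := by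
    apply ModuleCat.hom_ext
    apply LinearMap.ext
    intro z
    exact (evU k Y (show k + b = k + b from rfl)).symm_apply_apply z
  rw [h3, MonoidalCategory.whiskerLeft_id]
  exact Category.id_comp _

lemma cInv_cMap_evU (n N : ℤ) (hN : k + n = N) :
    cInv P Y k n N hN ≫
      ((cMap P (XU A k) Y).f n ≫ ModuleCat.ofHom (evU k (P ⊗ Y) hN).toLinearMap) = 𝟙 _ := by
  apply HomologicalComplex.mapBifunctor.hom_ext
  intro a c hac
  have hac' : a + c = N := hac
  have h1 := ι_cMap_evU P Y k a (c - k) c n N (by omega) (by omega) hN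
  have h2 := ι_cInv P Y k a c n N hN hac'
  erw [Category.comp_id, ← Category.assoc, h2, Category.assoc, h1, ← Category.assoc,
    ← MonoidalCategory.whiskerLeft_comp]
  have h3 : ModuleCat.ofHom (Y := ModuleCat.of A (Cochain (XU A k) Y (c - k)))
        (evU k Y (show k + (c - k) = c by omega)).symm.toLinearMap ≫
      ModuleCat.ofHom (X := ModuleCat.of A (Cochain (XU A k) Y (c - k)))
      (evU k Y (show k + (c - k) = c by omega)).toLinearMap = 𝟙 _ := by
    apply ModuleCat.hom_ext
    apply LinearMap.ext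
    intro z
    exact (evU k Y (show k + (c - k) = c by omega)).apply_symm_apply z
  rw [h3, MonoidalCategory.whiskerLeft_id]
  exact Category.id_comp _

instance isIso_cMap_f (n : ℤ) : IsIso ((cMap P (XU A k) Y).f n) := by
  let E := (evU k (P ⊗ Y) (show k + n = k + n from rfl)).toModuleIso
  have h : IsIso ((cMap P (XU A k) Y).f n ≫ E.hom) :=
    ⟨cInv P Y k n (k + n) rfl, cMap_evU_cInv P Y k n (k + n) rfl, cInv_cMap_evU P Y k n (k + n) rfl⟩
  exact IsIso.of_isIso_comp_right _ E.hom

instance isIso_cMap_XU : IsIso (cMap P (XU A k) Y) :=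
  HomologicalComplex.Hom.isIso_of_components _

end Base

end Groth.Agent.Lib.Helper13.HOp
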