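import Mathlib.AlgebraicGeometry.Morphisms.ClosedImmersion

set_option autoImplicit false

universe u

namespace Groth.Agent.Lib.Helper13

open AlgebraicGeometry CategoryTheory CategoryTheory.Limits

/-- A morphism is a closed immersion if over an affine open cover of the target the preimages
are affine and the maps on sections are surjective. -/
lemma isClosedImmersion_of_affine_cover {X Y : Scheme.{u}} (f : X ⟶ Y) {ι : Type*}
    (U : ι → Y.Opens) (hU : iSup U = ⊤) (h1 : ∀ i, IsAffineOpen (U i))
    (h2 : ∀ i, IsAffineOpen (f ⁻¹ᵁ U i)) (h3 : ∀ i, Function.Surjective (f.app (U i))) :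
    IsClosedImmersion f := by
  refine IsZariskiLocalAtTarget.of_iSup_eq_top U hU fun i => ?_
  have : IsAffine ↑(U i) := h1 i
  have : IsAffine ↑(f ⁻¹ᵁ U i) := h2 i
  apply IsClosedImmersion.of_surjective_of_isAffine
  rw [morphismRestrict_appTop]
  have key : ∀ V : Y.Opens, V = U i → Function.Surjective (f.app V) := by
    rintro V rfl; exact h3 i
  have h4 := key ((U i).ι ''ᵁ ⊤) (by simp)
  have : IsIso (X.presheaf.map (eqToHom (image_morphismRestrict_preimage f (U i) ⊤)).op) :=
    inferInstance
  have h5 := ((ConcreteCategory.isIso_iff_bijective _).mp this).2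
  exact h5.comp h4

end Groth.Agent.Lib.Helper13
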