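import Groth.Agent.Lib.Helper13.IntegralDescent
import Groth.Agent.Lib.Helper13.ClosedImmersionCover

set_option autoImplicit false

universe u

namespace Groth.Agent.Lib.Helper13

open AlgebraicGeometry CategoryTheory CategoryTheory.Limits

/-- A closed subscheme of a cofiltered limit of affine schemes which is of finite type over some
stage is a closed subscheme of all sufficiently fine stages. -/
lemma exists_isClosedImmersion_of_isAffine {J : Type u} [SmallCategory J] [IsCofiltered J]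
    (E : J ⥤ Scheme.{u}) (cE : Cone E) (hcE : IsLimit cE) [∀ j, IsAffine (E.obj j)]
    {Y : Scheme.{u}} (h : Y ⟶ cE.pt) [IsClosedImmersion h] (j₀ : J)
    [LocallyOfFiniteType (h ≫ cE.π.app j₀)] :
    ∃ j : J, ∀ (l : J) (_ : l ⟶ j), IsClosedImmersion (h ≫ cE.π.app l) := by
  classical
  have : IsAffine cE.pt := Scheme.isAffine_of_isLimit cE hcE
  have : IsAffine Y := isAffine_of_isAffineHom h
  have hft : (h ≫ cE.π.app j₀).appTop.hom.FiniteType :=
    (HasRingHomProperty.iff_of_isAffine (P := @LocallyOfFiniteType)).mp inferInstance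
  obtain ⟨s, hs⟩ := exists_finset_induction_of_finiteType _ hft
  have key : ∀ y : Γ(Y, ⊤), ∃ (j : J) (x : Γ(E.obj j, ⊤)), (h ≫ cE.π.app j).appTop x = y := by
    intro y
    obtain ⟨x, rfl⟩ := (IsClosedImmersion.isAffine_surjective_of_isAffine h).2 y
    obtain ⟨j, x', rfl⟩ := exists_appTop_π_eq_of_isAffine_of_isLimit E cE hcE x
    exact ⟨j, x', rfl⟩
  choose j x hx using key
  obtain ⟨l₀, hl₀⟩ := IsCofiltered.inf_objs_exists (insert j₀ (s.image j))
  refine ⟨l₀, fun l e => ?_⟩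
  have hmap : ∀ {k : J} (a : l ⟶ k) (r : Γ(E.obj k, ⊤)),
      (h ≫ cE.π.app l).appTop ((E.map a).appTop r) = (h ≫ cE.π.app k).appTop r := by
    intro k a r
    have : (h ≫ cE.π.app l) ≫ E.map a = h ≫ cE.π.app k := by rw [Category.assoc, cE.w]
    exact congr((Scheme.Hom.appTop $this).hom r)
  apply IsClosedImmersion.of_surjective_of_isAffine
  refine hs (fun y => y ∈ (h ≫ cE.π.app l).appTop.hom.range) ?_ ?_ ?_ ?_
  · intro r
    obtain ⟨e₀⟩ := hl₀ (Finset.mem_insert_self _ _)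
    exact ⟨(E.map (e ≫ e₀)).appTop r, hmap (e ≫ e₀) r⟩
  · intro a b ha hb
    exact Subring.add_mem _ ha hb
  · intro a b ha hb
    exact Subring.mul_mem _ ha hb
  · intro y hy
    obtain ⟨e₀⟩ := hl₀ (Finset.mem_insert_of_mem (Finset.mem_image_of_mem j hy))
    exact ⟨(E.map (e ≫ e₀)).appTop (x y), (hmap (e ≫ e₀) (x y)).trans (hx y)⟩


variable {I : Type u} [SmallCategory I] [IsCofiltered I] (D : I ⥤ Scheme.{u}) (c : Cone D)
  (hc : IsLimit c) [∀ {i j : I} (f : i ⟶ j), IsAffineHom (D.map f)]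

include hc in
set_option backward.isDefEq.respectTransparency false in
lemma exists_isClosedImmersion_morphismRestrict {Y : Scheme.{u}} (h : Y ⟶ c.pt)
    [IsClosedImmersion h] (i₀ : I) [LocallyOfFiniteType (h ≫ c.π.app i₀)]
    (U : (D.obj i₀).Opens) (hU : IsAffineOpen U) :
    ∃ j : Over i₀, ∀ (l : Over i₀) (_ : l ⟶ j),
      IsClosedImmersion ((h ≫ c.π.app l.left) ∣_ (D.map l.hom ⁻¹ᵁ U)) := by
  let E := opensDiagram D i₀ U
  let cE := opensCone D c i₀ U
  let hcE : IsLimit cE := isLimitOpensCone D c hc i₀ U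
  have (j : Over i₀) : IsAffine (E.obj j) := hU.preimage (D.map _)
  let W : c.pt.Opens := c.π.app i₀ ⁻¹ᵁ U
  let h' : (h ⁻¹ᵁ W).toScheme ⟶ cE.pt := h ∣_ W
  have : IsClosedImmersion h' := inferInstanceAs (IsClosedImmersion (h ∣_ W))
  let j₀ : Over i₀ := Over.mk (𝟙 i₀)
  have hcomp : ∀ l : Over i₀, h' ≫ cE.π.app l =
      (h ≫ c.π.app l.left).resLE (D.map l.hom ⁻¹ᵁ U) (h ⁻¹ᵁ W)
        (by rw [Scheme.Hom.comp_preimage, ← Scheme.Hom.comp_preimage (c.π.app l.left), c.w]) := by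
    intro l
    dsimp only [h', cE, opensCone]
    rw [← Scheme.Hom.resLE_eq_morphismRestrict, Scheme.Hom.resLE_comp_resLE]
  have : LocallyOfFiniteType (h' ≫ cE.π.app j₀) := by
    rw [hcomp]
    have : LocallyOfFiniteType ((h ≫ c.π.app j₀.left).resLE (D.map j₀.hom ⁻¹ᵁ U) (h ⁻¹ᵁ W)
        (by rw [Scheme.Hom.comp_preimage, ← Scheme.Hom.comp_preimage (c.π.app j₀.left), c.w]) ≫
        (D.map j₀.hom ⁻¹ᵁ U).ι) := by
      rw [Scheme.Hom.resLE_comp_ι]
      have : LocallyOfFiniteType (h ≫ c.π.app j₀.left) :=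
        inferInstanceAs (LocallyOfFiniteType (h ≫ c.π.app i₀))
      infer_instance
    exact locallyOfFiniteType_of_comp _ (D.map j₀.hom ⁻¹ᵁ U).ι
  obtain ⟨j, hj⟩ := exists_isClosedImmersion_of_isAffine E cE hcE h' j₀
  refine ⟨j, fun l e => ?_⟩
  have h1 := hj l e
  rw [hcomp] at h1
  rw [← Scheme.Hom.resLE_eq_morphismRestrict]
  refine (Scheme.Hom.resLE_congr _ _ rfl ?_ @IsClosedImmersion).mp h1
  rw [Scheme.Hom.comp_preimage, ← Scheme.Hom.comp_preimage (c.π.app l.left), c.w]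


include hc in
/-- A closed subscheme of a cofiltered limit of quasi-compact schemes with affine transition maps,
which is locally of finite type over some stage, is a closed subscheme of some stage. -/
theorem exists_isClosedImmersion_comp_π [∀ i, CompactSpace (D.obj i)] {Y : Scheme.{u}}
    (h : Y ⟶ c.pt) [IsClosedImmersion h] (i₀ : I) [LocallyOfFiniteType (h ≫ c.π.app i₀)] :
    ∃ i : I, IsClosedImmersion (h ≫ c.π.app i) := by
  classical
  let X₀ := D.obj i₀
  let W : X₀ → X₀.Opens := fun x => (X₀.affineCover.f (X₀.affineCover.idx x)).opensRange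
  have hW : ∀ x, IsAffineOpen (W x) := fun x => isAffineOpen_opensRange _
  have hxW : ∀ x, (W x : Set X₀) ∈ nhds x := fun x =>
    (W x).2.mem_nhds (X₀.affineCover.covers x)
  obtain ⟨T, hT⟩ := CompactSpace.elim_nhds_subcover (fun x => (W x : Set X₀)) hxW
  have key := fun x => exists_isClosedImmersion_morphismRestrict D c hc h i₀ (W x) (hW x)
  choose j hj using key
  obtain ⟨l, hl⟩ := IsCofiltered.inf_objs_exists (T.image j)
  refine ⟨l.left, ?_⟩
  refine IsZariskiLocalAtTarget.of_iSup_eq_top (fun x : T => D.map l.hom ⁻¹ᵁ W x) ?_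
    (fun x => hj x l (hl (Finset.mem_image_of_mem j x.2)).some)
  rw [eq_top_iff]
  intro y _
  have hy : (D.map l.hom) y ∈ ⋃ x ∈ T, (W x : Set X₀) := hT ▸ Set.mem_univ _
  simp only [Set.mem_iUnion] at hy
  obtain ⟨x, hxT, hyx⟩ := hy
  exact TopologicalSpace.Opens.mem_iSup.mpr ⟨⟨x, hxT⟩, hyx⟩

end Groth.Agent.Lib.Helper13
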