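import Groth.Agent.Lib.Helper13.PCInj
import Groth.Agent.Lib.Helper13.DRingProj
import Mathlib.Algebra.Category.ModuleCat.Injective

/-!
# Injective amplitude in `D(R)`
-/

set_option autoImplicit false
universe u
open CategoryTheory CategoryTheory.Limits
open PCoh

namespace Groth.Agent.Lib.Helper13.DR

open Groth.Agent.Lib.Helper13.PC
open DerivedCategory HomologicalComplex

attribute [local instance] HasDerivedCategory.standard

variable {R : Type u} [CommRing R]

lemma injective_iff (M : ModuleCat.{u} R) : Injective M ↔ Module.Injective R M :=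
  (Module.injective_iff_injective_object R M).symm

/-- Baer-type criterion: `Z^b(E)` is injective if `E^b` is and `Hom((R/I)[-(b+1)], E) = 0` for all
ideals `I`. -/
theorem injective_cycles_of_baer (E : CochainComplex (ModuleCat.{u} R) ℤ) [E.IsKInjective] (b : ℤ)
    (hI : Injective (E.X b))
    (h : ∀ I : Ideal R, Subsingleton
      ((DerivedCategory.singleFunctor (ModuleCat.{u} R) (b + 1)).obj (ModuleCat.of R (R ⧸ I)) ⟶
        Q.obj E)) :
    Injective (E.cycles b) := by
  rw [injective_iff]
  apply Module.Baer.injective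
  intro I g
  have hIb : Module.Injective R (E.X b) := (injective_iff _).1 hI
  obtain ⟨g₁', hg₁'⟩ := Module.Baer.of_injective hIb I ((E.iCycles b).hom ∘ₗ g)
  let e : E.X b := g₁' 1
  have he : ∀ (x : R) (hx : x ∈ I), x • e = (E.iCycles b).hom (g ⟨x, hx⟩) := fun x hx => by
    have := hg₁' x hx
    rw [LinearMap.comp_apply] at this
    rw [← this]
    dsimp only [e]
    rw [← map_smul, smul_eq_mul, mul_one]
  have hde : ∀ x ∈ I, x • (E.d b (b + 1)).hom e = 0 := fun x hx => by
    rw [← map_smul, he x hx]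
    exact ConcreteCategory.congr_hom (E.iCycles_d b (b + 1)) _
  let ψ : (R ⧸ I) →ₗ[R] E.X (b + 1) :=
    Submodule.liftQ I (LinearMap.toSpanSingleton R _ ((E.d b (b + 1)).hom e)) (fun x hx => by
      rw [LinearMap.mem_ker, LinearMap.toSpanSingleton_apply]
      exact hde x hx)
  have hψ : ∀ x : R, ψ (Submodule.Quotient.mk x) = x • (E.d b (b + 1)).hom e := fun x => by
    dsimp only [ψ]
    rw [Submodule.liftQ_apply, LinearMap.toSpanSingleton_apply]
  let φ : (HomologicalComplex.single (ModuleCat.{u} R) (ComplexShape.up ℤ) (b + 1)).obj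
      (ModuleCat.of R (R ⧸ I)) ⟶ E :=
    mkHomFromSingle (ModuleCat.ofHom ψ) (fun k hk => by
      refine ModuleCat.hom_ext (LinearMap.ext fun y => ?_)
      obtain ⟨x, rfl⟩ := Submodule.Quotient.mk_surjective _ y
      change (E.d (b + 1) k).hom (ψ (Submodule.Quotient.mk x)) = 0
      rw [hψ, map_smul]
      have : (E.d (b + 1) k).hom ((E.d b (b + 1)).hom e) = 0 :=
        ConcreteCategory.congr_hom (E.d_comp_d b (b + 1) k) e
      rw [this, smul_zero])
  have hφ : Q.map φ = Q.map 0 := by
    have := h I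
    rw [← cancel_epi (singleIsoQ (b + 1) (ModuleCat.of R (R ⧸ I))).hom]
    exact Subsingleton.elim _ _
  obtain ⟨hh⟩ := exists_homotopy_of_Q_map_eq_of_isKInjective _ _ hφ
  have h1 := hh.comm (b + 1)
  rw [dNext_eq hh.hom (show (ComplexShape.up ℤ).Rel (b + 1) (b + 1 + 1) from rfl),
    prevD_eq hh.hom (show (ComplexShape.up ℤ).Rel b (b + 1) from rfl), single_obj_d, zero_comp,
    HomologicalComplex.zero_f, add_zero, zero_add, mkHomFromSingle_f] at h1
  let k : ModuleCat.of R (R ⧸ I) ⟶ E.X b :=
    (singleObjXSelf (ComplexShape.up ℤ) (b + 1) (ModuleCat.of R (R ⧸ I))).inv ≫ hh.hom (b + 1) b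
  have hk : ModuleCat.ofHom ψ = k ≫ E.d b (b + 1) := by
    dsimp only [k]
    rw [Category.assoc, ← h1, Iso.inv_hom_id_assoc]
  let e' : E.X b := k.hom (Submodule.Quotient.mk 1)
  have he' : ∀ x ∈ I, x • e' = 0 := fun x hx => by
    dsimp only [e']
    rw [← map_smul, ← Submodule.Quotient.mk_smul, smul_eq_mul, mul_one,
      (Submodule.Quotient.mk_eq_zero I).2 hx, map_zero]
  have hde' : (E.d b (b + 1)).hom e' = (E.d b (b + 1)).hom e := by
    have := ConcreteCategory.congr_hom hk (Submodule.Quotient.mk (1 : R) : R ⧸ I)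
    have h2 : ψ (Submodule.Quotient.mk 1) = (E.d b (b + 1)).hom e' := this
    rw [hψ, one_smul] at h2
    exact h2.symm
  have hz : ModuleCat.ofHom (LinearMap.toSpanSingleton R (E.X b) (e - e')) ≫ E.d b (b + 1) = 0 := by
    refine ModuleCat.hom_ext (LinearMap.ext fun x => ?_)
    change (E.d b (b + 1)).hom (x • (e - e')) = 0
    rw [map_smul, map_sub, hde', sub_self, smul_zero]
  let z : ModuleCat.of R R ⟶ E.cycles b :=
    E.liftCycles (ModuleCat.ofHom (LinearMap.toSpanSingleton R (E.X b) (e - e'))) (b + 1)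
      (by simp) hz
  have hzi : z ≫ E.iCycles b = ModuleCat.ofHom (LinearMap.toSpanSingleton R (E.X b) (e - e')) :=
    E.liftCycles_i _ _ _ _
  refine ⟨z.hom, fun x hx => ?_⟩
  apply (ModuleCat.mono_iff_injective (E.iCycles b)).1 inferInstance
  have h3 : (E.iCycles b).hom (z.hom x) = x • (e - e') := ConcreteCategory.congr_hom hzi x
  rw [h3, smul_sub, he' x hx, sub_zero, he x hx]


/-- If `Hom(R[-i], K) = 0` then `H^i(K) = 0`. -/
lemma isZero_homology_of_subsingleton_hom_single_self (K : Dual.D R) (i : ℤ)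
    (h : Subsingleton ((DerivedCategory.singleFunctor (ModuleCat.{u} R) i).obj (ModuleCat.of R R) ⟶ K)) :
    IsZero ((DerivedCategory.homologyFunctor (ModuleCat.{u} R) i).obj K) := by
  let X := Q.objPreimage K
  let e : Q.obj X ≅ K := Q.objObjPreimageIso K
  have h0 : X.homologyπ i = 0 := by
    refine ModuleCat.hom_ext (LinearMap.ext fun c => ?_)
    let f : ModuleCat.of R R ⟶ X.cycles i := ModuleCat.ofHom (LinearMap.toSpanSingleton R _ c)
    have hf := comp_homologyπ_eq_zero_of_Q_map_eq_zero X i f (by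
      rw [← cancel_epi (singleIsoQ i (ModuleCat.of R R)).hom, ← cancel_mono e.hom]
      exact h.elim _ _)
    have := ConcreteCategory.congr_hom hf (1 : R)
    have h2 : (X.homologyπ i).hom ((1 : R) • c) = 0 := this
    rw [one_smul] at h2
    exact h2
  exact (IsZero.of_epi_eq_zero _ h0).of_iso
    ((DerivedCategory.homologyFunctor _ i).mapIso e.symm ≪≫ homologyQIso X i)


open CochainComplex in
/-- (3) ⇒ (1) of S6965. -/
theorem hasInjAmplitudeIn_of_quotients (K : Dual.D R) (a b : ℤ)
    (h : ∀ (I : Ideal R) (i : ℤ), (i < a ∨ b < i) →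
      Subsingleton (DRing.ExtD R (Dual.inD R (R ⧸ I)) K i)) :
    DRing.HasInjAmplitudeIn R a b K := by
  have h' : ∀ (I : Ideal R) (i : ℤ), (i < a ∨ b < i) → Subsingleton
      ((DerivedCategory.singleFunctor (ModuleCat.{u} R) i).obj (ModuleCat.of R (R ⧸ I)) ⟶ K) :=
    fun I i hi => (subsingleton_ext_iff _ K i).1 (h I i hi)
  have hR : ∀ i : ℤ, (i < a ∨ b < i) → Subsingleton
      ((DerivedCategory.singleFunctor (ModuleCat.{u} R) i).obj (ModuleCat.of R R) ⟶ K) :=
    fun i hi => subsingleton_hom_of_iso ((DerivedCategory.singleFunctor _ i).mapIso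
      (Submodule.quotEquivOfEqBot (⊥ : Ideal R) rfl).toModuleIso) (Iso.refl K) (h' ⊥ i hi)
  have hH : ∀ i : ℤ, (i < a ∨ b < i) →
      IsZero ((DerivedCategory.homologyFunctor (ModuleCat.{u} R) i).obj K) :=
    fun i hi => isZero_homology_of_subsingleton_hom_single_self K i (hR i hi)
  obtain ⟨E, hEI, hEa, ⟨e⟩⟩ := exists_injective_rep K a (fun i hi => hH i (Or.inl hi))
  have : E.IsKInjective := isKInjective_of_forall_injective E a hEa hEI
  have hcyc : Injective (E.cycles b) := injective_cycles_of_baer E b (hEI b)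
    (fun I => subsingleton_hom_of_iso (Iso.refl _) e.symm (h' I (b + 1) (Or.inr (by lia))))
  have : E.IsLE b := by
    rw [CochainComplex.isLE_iff]
    intro i hi
    rw [exactAt_iff_isZero_homology]
    exact (hH i (Or.inr hi)).of_iso ((homologyQIso E i).symm ≪≫
      (DerivedCategory.homologyFunctor _ i).mapIso e)
  have hq : QuasiIso (E.ιTruncLE b) := inferInstance
  have : IsIso (Q.map (E.ιTruncLE b)) := by rw [isIso_Q_map_iff_quasiIso]; exact hq
  refine ⟨E.truncLE b, ?_, ?_, ⟨asIso (Q.map (E.ιTruncLE b)) ≪≫ e⟩⟩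
  · rintro i (hi | hi)
    · rcases lt_trichotomy i b with h1 | rfl | h1
      · exact (hEa i hi).of_iso (E.truncLEXIso b i h1)
      · refine IsZero.of_iso ?_ (E.truncLEXIsoCycles i)
        rw [IsZero.iff_id_eq_zero, ← cancel_mono (E.iCycles i)]
        exact (hEa i hi).eq_of_tgt _ _
      · exact CochainComplex.isZero_of_isStrictlyLE _ b i h1
    · exact CochainComplex.isZero_of_isStrictlyLE _ b i hi
  · intro i
    rw [← injective_iff]
    rcases lt_trichotomy i b with h1 | rfl | h1
    · exact Injective.of_iso (E.truncLEXIso b i h1).symm (hEI i)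
    · exact Injective.of_iso (E.truncLEXIsoCycles i).symm hcyc
    · exact (CochainComplex.isZero_of_isStrictlyLE _ b i h1).injective

/-- (1) ⇒ (2) of S6965. -/
theorem ext_subsingleton_of_hasInjAmplitudeIn (K : Dual.D R) (a b : ℤ)
    (h : DRing.HasInjAmplitudeIn R a b K) (N : Type u) [AddCommGroup N] [Module R N] (i : ℤ)
    (hi : i < a ∨ b < i) : Subsingleton (DRing.ExtD R (Dual.inD R N) K i) := by
  obtain ⟨E, hv, hE, ⟨e⟩⟩ := h
  have : E.IsKInjective := isKInjective_of_forall_injective E a (fun i hi => hv i (Or.inl hi))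
    (fun i => (injective_iff _).2 (hE i))
  refine (subsingleton_ext_iff _ K i).2 ?_
  exact subsingleton_hom_of_iso (Iso.refl _) e
    (subsingleton_hom_single_of_isZero' E i (hv i hi) (ModuleCat.of R N))

end Groth.Agent.Lib.Helper13.DR
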