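import Groth.Agent.Lib.Helper13.Coind1
import Groth.Agent.Lib.Helper13.DRingInj
import Groth.Agent.Lib.Helper7.DerivedCompleteMT

set_option autoImplicit false
universe u
open CategoryTheory CategoryTheory.Limits

namespace Groth.Agent.Lib.Helper13.Coind

attribute [local instance] HasDerivedCategory.standard

variable {A B : Type u} [CommRing A] [CommRing B]

section Shift

variable {D : Type*} [Category D] [HasShift D ℤ]

/-- `Hom(X[-n], K) ≃ Hom(X, K[n])`. -/
noncomputable def shiftHomEquiv (X K : D) (n : ℤ) : (X⟦-n⟧ ⟶ K) ≃ (X ⟶ K⟦n⟧) :=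
  ((shiftEquiv D n).symm.toAdjunction.homEquiv X K)

lemma subsingleton_shift_iff (X K : D) (n : ℤ) :
    Subsingleton (X⟦-n⟧ ⟶ K) ↔ Subsingleton (X ⟶ K⟦n⟧) :=
  (shiftHomEquiv X K n).subsingleton_congr

end Shift

/-- Restriction of `B` along `algebraMap A B` is the `A`-module `B`. -/
noncomputable def restrictSelfIso [Algebra A B] :
    (ModuleCat.restrictScalars.{u} (algebraMap A B)).obj (ModuleCat.of B B) ≅ ModuleCat.of A B :=
  LinearEquiv.toModuleIso
    (X₁ := (ModuleCat.restrictScalars.{u} (algebraMap A B)).obj (ModuleCat.of B B))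
    (X₂ := ModuleCat.of A B)
    ({ toFun := fun x => x
       invFun := fun x => x
       map_add' := fun _ _ => rfl
       map_smul' := fun a b => (Algebra.smul_def (A := B) a (id b : B)).symm
       left_inv := fun _ => rfl
       right_inv := fun _ => rfl } :
      ((ModuleCat.restrictScalars.{u} (algebraMap A B)).obj (ModuleCat.of B B)) ≃ₗ[A]
        (ModuleCat.of A B))

/-- `res (B[-i]) ≅ (inD A B)[-i]`. -/
noncomputable def restrictSingleIso [Algebra A B] (i : ℤ) :
    (DRing.restrictD (algebraMap A B)).obj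
      ((DerivedCategory.singleFunctor (ModuleCat.{u} B) i).obj (ModuleCat.of B B)) ≅
    (Dual.inD A B)⟦-i⟧ :=
  ((ModuleCat.restrictScalars.{u} (algebraMap A B)).mapDerivedCategorySingleFunctor i).app
      (ModuleCat.of B B) ≪≫
    (DerivedCategory.singleFunctor (ModuleCat.{u} A) i).mapIso restrictSelfIso ≪≫
    (((DerivedCategory.singleFunctors (ModuleCat.{u} A)).shiftIso (-i) i 0 (by simp)).app
      (ModuleCat.of A B)).symm

/-- If `Hom(B, K[n]) = 0` for all `n` then `RHom_A(B, K) = 0`. -/
theorem isZero_Rco_obj [Algebra A B] (K : Dual.D A)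
    (h : ∀ n : ℤ, Subsingleton (Dual.inD A B ⟶ K⟦n⟧)) :
    IsZero ((Rco (algebraMap A B)).obj K) := by
  apply Groth.Agent.Lib.Helper13.PC.isZero_of_forall_isZero_homology
  intro i
  apply Groth.Agent.Lib.Helper13.DR.isZero_homology_of_subsingleton_hom_single_self
  rw [← ((adj (algebraMap A B)).homEquiv _ _).subsingleton_congr]
  have h1 : Subsingleton ((Dual.inD A B)⟦-i⟧ ⟶ K) := (subsingleton_shift_iff _ _ i).2 (h i)
  exact (Iso.homCongr (restrictSingleIso (A := A) (B := B) i) (Iso.refl K)).subsingleton_congr.2 h1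

/-- Objects restricted from `D(B)` have no maps to `K` when `Hom(B, K[n]) = 0` for all `n`. -/
theorem subsingleton_hom_restrictD [Algebra A B] (K : Dual.D A)
    (h : ∀ n : ℤ, Subsingleton (Dual.inD A B ⟶ K⟦n⟧)) (E : Dual.D B) :
    Subsingleton ((DRing.restrictD (algebraMap A B)).obj E ⟶ K) := by
  rw [((adj (algebraMap A B)).homEquiv E K).subsingleton_congr]
  exact ⟨fun a b => (isZero_Rco_obj K h).eq_of_tgt a b⟩

/-- Converse. -/
theorem subsingleton_hom_inD_shift [Algebra A B] (K : Dual.D A)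
    (h : ∀ E : Dual.D B, Subsingleton ((DRing.restrictD (algebraMap A B)).obj E ⟶ K)) (n : ℤ) :
    Subsingleton (Dual.inD A B ⟶ K⟦n⟧) := by
  rw [← subsingleton_shift_iff]
  exact (Iso.homCongr (restrictSingleIso (A := A) (B := B) n) (Iso.refl K)).subsingleton_congr.1
    (h _)

end Groth.Agent.Lib.Helper13.Coind
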