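import Groth.Agent.Lib.Helper13.Coind2
import Groth.Prelude.Def_DRing3

set_option autoImplicit false
universe u
open CategoryTheory CategoryTheory.Limits

namespace Groth.Agent.Lib.Helper13.Coind

attribute [local instance] HasDerivedCategory.standard

variable {A : Type u} [CommRing A] (S : Submonoid A)

/-- `M → res (S⁻¹ M)`. -/
noncomputable def locUnitApp (M : ModuleCat.{u} A) :
    M ⟶ (ModuleCat.restrictScalars.{u} (algebraMap A (Localization S))).obj
      (M.localizedModule S) :=
  ModuleCat.ofHom
    (Y := (ModuleCat.restrictScalars.{u} (algebraMap A (Localization S))).obj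
      (M.localizedModule S))
    ({ toFun := fun m => M.localizedModuleMkLinearMap S m
       map_add' := fun x y => map_add _ x y
       map_smul' := fun a m => by
        have h1 := map_smul (M.localizedModuleMkLinearMap S) a m
        have h2 := algebraMap_smul (Localization S) a (M.localizedModuleMkLinearMap S m)
        exact h1.trans h2.symm } :
      M →ₗ[A] ((ModuleCat.restrictScalars.{u} (algebraMap A (Localization S))).obj
        (M.localizedModule S)))

lemma locUnitApp_apply (M : ModuleCat.{u} A) (m : M) :
    (locUnitApp S M).hom m = M.localizedModuleMkLinearMap S m := rfl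

lemma locUnitApp_naturality {M N : ModuleCat.{u} A} (g : M ⟶ N) :
    g ≫ locUnitApp S N = locUnitApp S M ≫
      (ModuleCat.restrictScalars.{u} (algebraMap A (Localization S))).map
        ((ModuleCat.localizedModuleFunctor S).map g) := by
  refine ModuleCat.hom_ext (LinearMap.ext fun m => ?_)
  change N.localizedModuleMkLinearMap S (g.hom m) =
    (IsLocalizedModule.mapExtendScalars S (M.localizedModuleMkLinearMap S)
      (N.localizedModuleMkLinearMap S) (Localization S) g.hom)
      (M.localizedModuleMkLinearMap S m)
  rw [IsLocalizedModule.mapExtendScalars_apply_apply, IsLocalizedModule.map_apply]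

/-- If `S` acts bijectively on `M` then `M → res (S⁻¹ M)` is an isomorphism. -/
lemma isIso_locUnitApp (M : ModuleCat.{u} A)
    (h : ∀ s ∈ S, Function.Bijective (fun x : M => s • x)) : IsIso (locUnitApp S M) := by
  rw [ConcreteCategory.isIso_iff_bijective]
  have hid : IsLocalizedModule S (LinearMap.id : M →ₗ[A] M) :=
    { map_units := fun s => by
        rw [Module.End.isUnit_iff]
        exact h s.1 s.2
      surj := fun m => ⟨(m, 1), one_smul _ _⟩
      exists_of_eq := fun hh => ⟨1, congr_arg _ hh⟩ }
  let e := IsLocalizedModule.linearEquiv S (LinearMap.id : M →ₗ[A] M)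
    (M.localizedModuleMkLinearMap S)
  have he : ∀ m : M, e m = M.localizedModuleMkLinearMap S m := fun m =>
    IsLocalizedModule.linearEquiv_apply S (LinearMap.id : M →ₗ[A] M)
      (M.localizedModuleMkLinearMap S) m
  have hb : Function.Bijective (fun m : M => M.localizedModuleMkLinearMap S m) := by
    have : (fun m : M => M.localizedModuleMkLinearMap S m) = e := funext fun m => (he m).symm
    rw [this]
    exact e.bijective
  exact hb

/-- The complex-level map `K → res (S⁻¹ K)`. -/
noncomputable def locCxMap (K : DRing.Cx A) :
    K ⟶ ((ModuleCat.restrictScalars.{u} (algebraMap A (Localization S))).mapHomologicalComplex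
      (ComplexShape.up ℤ)).obj (((ModuleCat.localizedModuleFunctor S).mapHomologicalComplex
        (ComplexShape.up ℤ)).obj K) where
  f i := locUnitApp S (K.X i)
  comm' i j _ := (locUnitApp_naturality S (K.d i j)).symm

lemma isIso_locCxMap (K : DRing.Cx A)
    (h : ∀ (i : ℤ), ∀ s ∈ S, Function.Bijective (fun x : K.X i => s • x)) :
    IsIso (locCxMap S K) := by
  have : ∀ i, IsIso ((locCxMap S K).f i) := fun i => isIso_locUnitApp S (K.X i) (h i)
  exact HomologicalComplex.Hom.isIso_of_components _

/-- A complex on which `S` acts bijectively comes from `D(S⁻¹A)`. -/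
theorem exists_iso_restrictD (K : DRing.Cx A)
    (h : ∀ (i : ℤ), ∀ s ∈ S, Function.Bijective (fun x : K.X i => s • x)) :
    ∃ E : Dual.D (Localization S),
      Nonempty (DRing.toD K ≅ (DRing.restrictD (algebraMap A (Localization S))).obj E) := by
  have := isIso_locCxMap S K h
  exact ⟨DerivedCategory.Q.obj (((ModuleCat.localizedModuleFunctor S).mapHomologicalComplex
        (ComplexShape.up ℤ)).obj K),
    ⟨DerivedCategory.Q.mapIso (asIso (locCxMap S K)) ≪≫
      ((ModuleCat.restrictScalars.{u}
        (algebraMap A (Localization S))).mapDerivedCategoryFactors.app _).symm⟩⟩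

end Groth.Agent.Lib.Helper13.Coind
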