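import Groth.Agent.Lib.Helper13.Coind2
import Groth.Prelude.Def_DRing3

set_option autoImplicit false
universe u
open CategoryTheory CategoryTheory.Limits

namespace Groth.Agent.Lib.Helper13.Coind

attribute [local instance] HasDerivedCategory.standard

variable {A B : Type u} [CommRing A] [CommRing B] (φ : A →+* B)

/-- The counit `res (Hom_A(B, M)) → M`, `g ↦ g 1`. -/
noncomputable abbrev ev1 (M : ModuleCat.{u} A) :
    (ModuleCat.restrictScalars.{u} φ).obj ((ModuleCat.coextendScalars.{u, u, u} φ).obj M) ⟶ M :=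
  (ModuleCat.RestrictionCoextensionAdj.counit'.{u, u, u} φ).app M

lemma ev1_apply (M : ModuleCat.{u} A)
    (g : (ModuleCat.restrictScalars.{u} φ).obj ((ModuleCat.coextendScalars.{u, u, u} φ).obj M)) :
    (ev1 φ M).hom g = ModuleCat.CoextendScalars.equiv φ M g (1 : B) := rfl

lemma ev1_naturality {M N : ModuleCat.{u} A} (h : M ⟶ N) :
    (ModuleCat.restrictScalars.{u} φ).map ((ModuleCat.coextendScalars.{u, u, u} φ).map h) ≫
      ev1 φ N = ev1 φ M ≫ h :=
  (ModuleCat.RestrictionCoextensionAdj.counit'.{u, u, u} φ).naturality h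

/-- The complex-level counit. -/
noncomputable def counitCx (J : DRing.Cx A) :
    ((ModuleCat.restrictScalars.{u} φ).mapHomologicalComplex (ComplexShape.up ℤ)).obj
      (((ModuleCat.coextendScalars.{u, u, u} φ).mapHomologicalComplex
        (ComplexShape.up ℤ)).obj J) ⟶ J where
  f i := ev1 φ (J.X i)
  comm' i j _ := (ev1_naturality φ (J.d i j)).symm

/-- `g s = a • g 1` when `s = φ a`. -/
lemma coext_apply_map (M : ModuleCat.{u} A)
    (g : (ModuleCat.restrictScalars.{u} φ).obj (ModuleCat.of B B) →ₗ[A] M) (a : A) :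
    g (φ a) = a • g (1 : B) := by
  rw [← map_smul]
  congr 1
  change φ a = φ a * 1
  rw [mul_one]

lemma ev1_injective (hφ : Function.Surjective φ) (M : ModuleCat.{u} A) :
    Function.Injective (ev1 φ M).hom := by
  intro g g' h
  rw [ev1_apply, ev1_apply] at h
  apply ModuleCat.CoextendScalars.ext (f := φ)
  refine LinearMap.ext fun s => ?_
  obtain ⟨a, rfl⟩ := hφ s
  rw [coext_apply_map, coext_apply_map, h]

end Groth.Agent.Lib.Helper13.Coind

namespace Groth.Agent.Lib.Helper13.Coind

attribute [local instance] HasDerivedCategory.standard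

variable {A B : Type u} [CommRing A] [CommRing B] (φ : A →+* B)

section mk

variable (hφ : Function.Surjective φ) (M : ModuleCat.{u} A) (m : M)
  (hm : ∀ a ∈ RingHom.ker φ, a • m = 0)

include hm in
lemma smul_eq_of_map_eq {a a' : A} (h : φ a = φ a') : a • m = a' • m := by
  have : a - a' ∈ RingHom.ker φ := by rw [RingHom.mem_ker, map_sub, h, sub_self]
  have h2 := hm _ this
  rwa [sub_smul, sub_eq_zero] at h2

/-- The `A`-linear map `B → M`, `φ a ↦ a • m`. -/
noncomputable def mkCoext :
    (ModuleCat.restrictScalars.{u} φ).obj (ModuleCat.of B B) →ₗ[A] M where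
  toFun s := (hφ s).choose • m
  map_add' x y := by
    rw [← add_smul]
    apply smul_eq_of_map_eq φ M m hm
    rw [map_add, (hφ x).choose_spec, (hφ y).choose_spec]
    exact (hφ _).choose_spec
  map_smul' c x := by
    change (hφ (c • x)).choose • m = c • ((hφ x).choose • m)
    rw [← mul_smul]
    apply smul_eq_of_map_eq φ M m hm
    rw [map_mul, (hφ x).choose_spec]
    exact (hφ _).choose_spec

lemma mkCoext_apply (a : A) : mkCoext φ hφ M m hm (φ a) = a • m :=
  smul_eq_of_map_eq φ M m hm (hφ (φ a)).choose_spec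

lemma mkCoext_one : mkCoext φ hφ M m hm (1 : B) = m := by
  have := mkCoext_apply φ hφ M m hm 1
  rwa [map_one, one_smul] at this

end mk

/-- Exactness of `Hom_A(A/(f), M) → M → M`. -/
lemma ev1_exact (hφ : Function.Surjective φ) (f : A) (hker : RingHom.ker φ = Ideal.span {f})
    (M : ModuleCat.{u} A) :
    Function.Exact (ev1 φ M).hom (fun m : M => f • m) := by
  intro m
  constructor
  · intro hm
    have hm' : ∀ a ∈ RingHom.ker φ, a • m = 0 := by
      intro a ha
      rw [hker, Ideal.mem_span_singleton'] at ha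
      obtain ⟨c, rfl⟩ := ha
      have hm0 : f • m = 0 := hm
      rw [mul_smul, hm0, smul_zero]
    refine ⟨(ModuleCat.CoextendScalars.equiv φ M).symm (mkCoext φ hφ M m hm'), ?_⟩
    rw [ev1_apply]
    exact mkCoext_one φ hφ M m hm'
  · rintro ⟨g, rfl⟩
    rw [ev1_apply]
    change f • (ModuleCat.CoextendScalars.equiv φ M g) (1 : B) = 0
    rw [← coext_apply_map]
    have : φ f = 0 := by
      rw [← RingHom.mem_ker, hker]
      exact Ideal.mem_span_singleton_self f
    rw [this]
    exact map_zero (ModuleCat.CoextendScalars.equiv φ M g)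

/-- Injective modules are divisible. -/
lemma smul_surjective_of_injective (M : ModuleCat.{u} A) [Injective M] (f : A)
    (hf : f ∈ nonZeroDivisors A) : Function.Surjective (fun m : M => f • m) := by
  intro m
  let ι : ModuleCat.of A A ⟶ ModuleCat.of A A := ModuleCat.ofHom (LinearMap.mulLeft A f)
  have : Mono ι := by
    rw [ModuleCat.mono_iff_injective]
    intro x y hxy
    have h1 : f * x = f * y := hxy
    exact mul_cancel_left_mem_nonZeroDivisors hf |>.1 h1
  let h : ModuleCat.of A A ⟶ M := ModuleCat.ofHom (LinearMap.toSpanSingleton A M m)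
  let k := Injective.factorThru h ι
  have hk : ι ≫ k = h := Injective.comp_factorThru h ι
  refine ⟨k.hom (1 : A), ?_⟩
  have h1 := ConcreteCategory.congr_hom hk (1 : A)
  have h2 : k.hom (f * 1) = (1 : A) • m := h1
  rw [one_smul] at h2
  change f • k.hom (1 : A) = m
  rw [← map_smul, smul_eq_mul, h2]

end Groth.Agent.Lib.Helper13.Coind
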