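import Groth.Agent.Lib.Helper13.Coind4
import Mathlib.Algebra.Homology.DerivedCategory.Linear

set_option autoImplicit false
universe u
open CategoryTheory CategoryTheory.Limits Pretriangulated

namespace Groth.Agent.Lib.Helper13.Coind

attribute [local instance] HasDerivedCategory.standard

variable {A B : Type u} [CommRing A] [CommRing B] (φ : A →+* B)

lemma smulId_f_apply (f : A) (J : DRing.Cx A) (i : ℤ) (x : J.X i) :
    ((f • 𝟙 J : J ⟶ J).f i).hom x = f • x := by
  rw [HomologicalComplex.smul_f_apply, HomologicalComplex.id_f]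
  rfl

/-- The sequence `Hom_A(A/(f), J) → J → J`. -/
noncomputable def sesCx (hφ : Function.Surjective φ) (f : A)
    (hker : RingHom.ker φ = Ideal.span {f}) (J : DRing.Cx A) : ShortComplex (DRing.Cx A) :=
  ShortComplex.mk (counitCx φ J) (f • 𝟙 J) (by
    ext i : 1
    refine ModuleCat.hom_ext (LinearMap.ext fun g => ?_)
    change ((f • 𝟙 J : J ⟶ J).f i).hom ((ev1 φ (J.X i)).hom g) = 0
    rw [smulId_f_apply]
    exact (ev1_exact φ hφ f hker (J.X i)).apply_apply_eq_zero g)

lemma sesCx_shortExact (hφ : Function.Surjective φ) (f : A) (hf : f ∈ nonZeroDivisors A)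
    (hker : RingHom.ker φ = Ideal.span {f}) (J : DRing.Cx A) (hJ : ∀ i, Injective (J.X i)) :
    (sesCx φ hφ f hker J).ShortExact := by
  apply HomologicalComplex.shortExact_of_degreewise_shortExact
  intro i
  have hg : ∀ x : J.X i, ((sesCx φ hφ f hker J).map
      (HomologicalComplex.eval _ _ i)).g.hom x = f • x := fun x => smulId_f_apply f J i x
  refine { exact := ?_, mono_f := ?_, epi_g := ?_ }
  · rw [ShortComplex.ShortExact.moduleCat_exact_iff_function_exact]
    intro m
    rw [hg]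
    exact ev1_exact φ hφ f hker (J.X i) m
  · rw [ModuleCat.mono_iff_injective]
    exact ev1_injective φ hφ (J.X i)
  · rw [ModuleCat.epi_iff_surjective]
    intro m
    have := hJ i
    obtain ⟨x, hx⟩ := smul_surjective_of_injective (J.X i) f hf m
    exact ⟨x, (hg x).trans hx⟩

open DerivedCategory in
/-- For a nonzerodivisor `f` with `B = A/(f)` and any right adjoint `R` of restriction, there is a
distinguished triangle `res (R ω) → ω --f--> ω → `. -/
theorem exists_triangle_of_nonZeroDivisor (hφ : Function.Surjective φ) (f : A)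
    (hf : f ∈ nonZeroDivisors A) (hker : RingHom.ker φ = Ideal.span {f})
    (R : Dual.D A ⥤ Dual.D B) (a : DRing.restrictD φ ⊣ R) (ω : Dual.D A) :
    ∃ (u : (DRing.restrictD φ).obj (R.obj ω) ⟶ ω)
      (w : ω ⟶ ((DRing.restrictD φ).obj (R.obj ω))⟦(1 : ℤ)⟧),
      Triangle.mk u (f • 𝟙 ω) w ∈ distTriang (Dual.D A) := by
  let X := Q.objPreimage ω
  let e0 : Q.obj X ≅ ω := Q.objObjPreimageIso ω
  obtain ⟨J, g, hJK, hg, -, hJinj⟩ :=
    Groth.Agent.Lib.Helper17.KInjRes.exists_kInjective_resolution X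
  have := hJK
  have : IsIso (Q.map g) := by
    rw [DerivedCategory.isIso_Q_map_iff_quasiIso]
    exact hg
  let eJ : ω ≅ Q.obj J := e0.symm ≪≫ asIso (Q.map g)
  let e2 : ω ≅ Q.obj (sesCx φ hφ f hker J).X₂ := eJ
  let e3 : ω ≅ Q.obj (sesCx φ hφ f hker J).X₃ := eJ
  let J' := ((ModuleCat.coextendScalars.{u, u, u} φ).mapHomologicalComplex
    (ComplexShape.up ℤ)).obj J
  let e1 : (DRing.restrictD φ).obj (R.obj ω) ≅ Q.obj (sesCx φ hφ f hker J).X₁ :=
    (DRing.restrictD φ).mapIso ((uniq φ R a).app ω ≪≫ (Rco φ).mapIso eJ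
      ≪≫ (RcoIso φ J).symm) ≪≫
      ((ModuleCat.restrictScalars.{u} φ).mapDerivedCategoryFactors.app J')
  have key : (f • 𝟙 ω) ≫ eJ.hom = eJ.hom ≫ Q.map (f • 𝟙 J) := by
    rw [CategoryTheory.Functor.map_smul, CategoryTheory.Functor.map_id, Linear.smul_comp,
      Linear.comp_smul, Category.id_comp, Category.comp_id]
  have hS := sesCx_shortExact φ hφ f hf hker J hJinj
  have hT := DerivedCategory.triangleOfSES_distinguished hS
  refine ⟨e1.hom ≫ Q.map (sesCx φ hφ f hker J).f ≫ e2.inv,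
    e3.hom ≫ triangleOfSESδ hS ≫ e1.inv⟦(1 : ℤ)⟧', ?_⟩
  refine isomorphic_distinguished _ hT _ (Triangle.isoMk _ _ e1 e2 e3 ?_ ?_ ?_)
  · change (e1.hom ≫ Q.map (sesCx φ hφ f hker J).f ≫ e2.inv) ≫ e2.hom =
      e1.hom ≫ Q.map (sesCx φ hφ f hker J).f
    rw [Category.assoc, Category.assoc, e2.inv_hom_id, Category.comp_id]
  · exact key
  · change (e3.hom ≫ triangleOfSESδ hS ≫ e1.inv⟦(1 : ℤ)⟧') ≫ e1.hom⟦(1 : ℤ)⟧' =
      e3.hom ≫ triangleOfSESδ hS
    rw [Category.assoc, Category.assoc, ← Functor.map_comp, e1.inv_hom_id,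
      CategoryTheory.Functor.map_id, Category.comp_id]

end Groth.Agent.Lib.Helper13.Coind
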