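import Mathlib.Topology.Spectral.ConstructibleTopology
import Mathlib.Topology.Constructible

set_option autoImplicit false

namespace Groth.Agent.Lib.Helper13

open Topology TopologicalSpace Set

variable {X : Type*} [TopologicalSpace X]

/-- Constructible sets of a quasi-compact space are open in the constructible topology. -/
theorem isOpen_constructibleTopology_of_isConstructible [CompactSpace X] {E : Set X}
    (hE : IsConstructible E) : IsOpen[constructibleTopology X] E := by
  refine BooleanSubalgebra.closure_sdiff_sup_induction
    (s := {U : Set X | IsOpen U ∧ IsRetrocompact U})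
    (p := fun E _ => IsOpen[constructibleTopology X] E)
    ⟨fun _ hs _ ht ↦ ⟨hs.1.union ht.1, hs.2.union ht.2⟩,
      fun _ hs _ ht ↦ ⟨hs.1.inter ht.1, hs.2.inter_isOpen ht.2 ht.1⟩⟩
    ⟨isOpen_empty, .empty⟩ ⟨isOpen_univ, .univ⟩ ?_ ?_ E hE
  · rintro A ⟨hA, hA'⟩ B ⟨hB, hB'⟩
    have hAc : IsCompact A := by simpa using hA' isCompact_univ isOpen_univ
    have hBc : IsCompact B := by simpa using hB' isCompact_univ isOpen_univ
    have h1 : IsOpen[constructibleTopology X] A := hAc.isOpen_constructibleTopology_of_isOpen hA
    have h2 : IsOpen[constructibleTopology X] Bᶜ :=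
      IsCompact.isOpen_constructibleTopology_of_isClosed (by rwa [compl_compl]) hB.isClosed_compl
    exact @IsOpen.inter X (constructibleTopology X) _ _ h1 h2
  · intro s _ t _ hs ht
    exact @IsOpen.union X _ _ (constructibleTopology X) hs ht

/-- A cover of a spectral space by constructible sets has a finite subcover. -/
theorem exists_finset_cover_of_isConstructible [CompactSpace X] [QuasiSober X]
    [PrespectralSpace X] [QuasiSeparatedSpace X] {ι : Type*} (E : ι → Set X)
    (hE : ∀ i, IsConstructible (E i)) (hcov : ∀ y, ∃ i, y ∈ E i) :
    ∃ T : Finset ι, ∀ y, ∃ i ∈ T, y ∈ E i := by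
  have hc : @CompactSpace X (constructibleTopology X) :=
    @Function.Surjective.compactSpace _ _ _ (constructibleTopology X) _
      (WithTopology.continuous_ofTopology (constructibleTopology X)) inferInstance
      (WithTopology.ofTopology_surjective (constructibleTopology X))
  obtain ⟨T, hT⟩ := @IsCompact.elim_finite_subcover X (constructibleTopology X) univ ι
    (@isCompact_univ X (constructibleTopology X) hc) E
    (fun i => isOpen_constructibleTopology_of_isConstructible (hE i))
    (fun y _ => by obtain ⟨i, hi⟩ := hcov y; exact mem_iUnion.2 ⟨i, hi⟩)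
  refine ⟨T, fun y => ?_⟩
  have := hT (mem_univ y)
  simpa using this

end Groth.Agent.Lib.Helper13
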