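import Groth.Agent.Lib.Helper13.DCNak1

set_option autoImplicit false
universe u
open CategoryTheory CategoryTheory.Limits MonoidalCategory Pretriangulated
open CochainComplex HomologicalComplex

namespace Groth.Agent.Lib.Helper13.DCN

open Groth.Agent.Lib.Helper13.DV Groth.Agent.Lib.Helper7.FComplete
  Groth.Agent.Lib.Helper7.DerivedCompleteMT

attribute [local instance] HasDerivedCategory.standard

variable {A : Type u} [CommRing A]

/-- `W` is obtained from `Y` by successively taking cones of the scalars in the list. -/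
inductive IterCone : List A → Dual.D A → Dual.D A → Prop
  | nil (Y : Dual.D A) : IterCone [] Y Y
  | cons (f : A) (l : List A) (Y Z W : Dual.D A) (g : Y ⟶ Z) (h : Z ⟶ Y⟦(1 : ℤ)⟧)
      (hT : Triangle.mk (f • 𝟙 Y) g h ∈ distTriang (Dual.D A)) (hl : IterCone l Z W) :
      IterCone (f :: l) Y W

lemma exists_iterCone (l : List A) : ∀ Y : Dual.D A, ∃ W, IterCone l Y W := by
  induction l with
  | nil => exact fun Y => ⟨Y, .nil Y⟩
  | cons f l ih =>
    intro Y
    obtain ⟨Z, g, h, hT⟩ := distinguished_cocone_triangle (f • 𝟙 Y)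
    obtain ⟨W, hW⟩ := ih Z
    exact ⟨W, .cons f l Y Z W g h hT hW⟩

/-- Descending induction of derived Nakayama along an iterated cone. -/
theorem main_down {Ψ : Dual.D A ⥤ Dual.D A} (hΨ : WeakTri Ψ)
    (hΨs : ∀ (f : A) (Y : Dual.D A), Ψ.map (f • 𝟙 Y) = f • 𝟙 (Ψ.obj Y))
    (I : Ideal A) {l : List A} {Y W : Dual.D A} (hl : IterCone l Y W) (hI : ∀ f ∈ l, f ∈ I)
    (hc : DRing.IsDerivedComplete I (Ψ.obj Y)) (b : ℤ)
    (hW : ∀ i : ℤ, b < i → IsZero ((Hi i).obj (Ψ.obj W))) :
    ∀ i : ℤ, b < i → IsZero ((Hi i).obj (Ψ.obj Y)) := by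
  induction hl with
  | nil Y => exact hW
  | cons f l Y Z W g h hT hl ih =>
    have hcZ := isDerivedComplete_cone hΨ I g h hT hc
    have hZ := ih (fun f' hf' => hI f' (List.mem_cons_of_mem _ hf')) hcZ hW
    exact step_down hΨ hΨs I (hI f List.mem_cons_self) g h hT hc b hZ

section Coh

/-- Cohomology vanishes outside `[a, 0]`. -/
def Bdd (a : ℤ) (Y : Dual.D A) : Prop := ∀ i : ℤ, i < a ∨ 0 < i → IsZero ((Hi i).obj Y)

/-- Each element of `S` acts nilpotently (uniformly) on the cohomology. -/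
def Tors (S : Set A) (Y : Dual.D A) : Prop :=
  ∀ s ∈ S, ∃ N : ℕ, ∀ (i : ℤ) (x : (Hi i).obj Y), s ^ N • x = 0

variable (T : Triangle (Dual.D A)) (hT : T ∈ distTriang (Dual.D A))

include hT in
lemma exists_of_δ_eq_zero (i j : ℤ) (hij : i + 1 = j) (z : (Hi i).obj T.obj₃)
    (hz : (DerivedCategory.HomologySequence.δ T i j hij).hom z = 0) :
    ∃ y : (Hi i).obj T.obj₂, ((Hi i).map T.mor₂).hom y = z := by
  have h := DerivedCategory.HomologySequence.exact₃ T hT i j hij
  have h' := (ShortComplex.ShortExact.moduleCat_exact_iff_function_exact _).1 h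
  exact (h' z).1 hz

include hT in
lemma map_mor₁_δ_apply (i j : ℤ) (hij : i + 1 = j) (z : (Hi i).obj T.obj₃) :
    ((Hi j).map T.mor₁).hom ((DerivedCategory.HomologySequence.δ T i j hij).hom z) = 0 := by
  have h := DerivedCategory.HomologySequence.δ_comp T hT i j hij
  exact congrArg (fun t => t.hom z) h

include hT in
lemma map_mor₂_map_mor₁_apply (i : ℤ) (y : (Hi i).obj T.obj₁) :
    ((Hi i).map T.mor₂).hom (((Hi i).map T.mor₁).hom y) = 0 := by
  rw [← Hi_map_comp_apply, comp_distTriang_mor_zero₁₂ _ hT, Functor.map_zero]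
  rfl

section Cone

include hT in
/-- If `c • δ z = 0` then `c • z` comes from the middle term. -/
lemma exists_of_smul_δ_eq_zero (i j : ℤ) (hij : i + 1 = j) (z : (Hi i).obj T.obj₃) (c : A)
    (hz : c • (DerivedCategory.HomologySequence.δ T i j hij).hom z = 0) :
    ∃ y : (Hi i).obj T.obj₂, ((Hi i).map T.mor₂).hom y = c • z := by
  apply exists_of_δ_eq_zero T hT i j hij
  rw [map_smul]
  exact hz

variable {f : A} {Y Z : Dual.D A} (g : Y ⟶ Z) (h : Z ⟶ Y⟦(1 : ℤ)⟧)
  (hT' : Triangle.mk (f • 𝟙 Y) g h ∈ distTriang (Dual.D A))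

include hT' in
lemma exists_of_smul_δ_eq_zero' (i : ℤ) (z : (Hi i).obj Z) (c : A)
    (hz : ∀ w : (Hi (i + 1)).obj Y, c • w = 0) :
    ∃ y : (Hi i).obj Y, ((Hi i).map g).hom y = c • z :=
  exists_of_smul_δ_eq_zero (Triangle.mk (f • 𝟙 Y) g h) hT' i (i + 1) rfl z c (hz _)

include hT' in
lemma smul_δ_eq_zero' (i : ℤ) (z : (Hi i).obj Z) :
    ∃ y : (Hi i).obj Y, ((Hi i).map g).hom y = f • z := by
  refine exists_of_smul_δ_eq_zero (Triangle.mk (f • 𝟙 Y) g h) hT' i (i + 1) rfl z f ?_
  have h1 := map_mor₁_δ_apply (Triangle.mk (f • 𝟙 Y) g h) hT' i (i + 1) rfl z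
  exact (Hi_map_smul_id_apply f Y (i + 1) _).symm.trans h1

include hT' in
lemma map_g_smul_apply (i : ℤ) (y : (Hi i).obj Y) : ((Hi i).map g).hom (f • y) = 0 := by
  have h1 := map_mor₂_map_mor₁_apply (Triangle.mk (f • 𝟙 Y) g h) hT' i y
  have h2 : ((Hi i).map (f • 𝟙 Y)).hom y = f • y := Hi_map_smul_id_apply f Y i y
  have h3 : ((Hi i).map g).hom (((Hi i).map (f • 𝟙 Y)).hom y) = 0 := h1
  rw [h2] at h3
  exact h3

include hT' in
lemma bdd_cone {a : ℤ} (hY : Bdd a Y) : Bdd (a - 1) Z := by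
  intro i hi
  have h1 : IsZero ((Hi i).obj Y) := hY i (by lia)
  have h2 : IsZero ((Hi (i + 1)).obj Y) := hY (i + 1) (by lia)
  have s1 := (ModuleCat.isZero_iff_subsingleton).1 h1
  have s2 := (ModuleCat.isZero_iff_subsingleton).1 h2
  have : Subsingleton ((Hi i).obj Z) := by
    refine ⟨fun z z' => ?_⟩
    suffices ∀ w : (Hi i).obj Z, w = 0 by rw [this z, this z']
    intro w
    obtain ⟨y, hy⟩ := exists_of_smul_δ_eq_zero' g h hT' i w 1 (fun w' => Subsingleton.elim _ _)
    have hy0 : y = 0 := Subsingleton.elim _ _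
    rw [one_smul] at hy
    rw [← hy, hy0]
    exact map_zero _
  exact ModuleCat.isZero_of_subsingleton _

include hT' in
lemma tors_cone {S : Set A} (hY : Tors S Y) : Tors (insert f S) Z := by
  intro s hs
  rcases hs with rfl | hs
  · refine ⟨2, fun i z => ?_⟩
    obtain ⟨y, hy⟩ := smul_δ_eq_zero' g h hT' i z
    have h4 := map_g_smul_apply g h hT' i y
    rw [map_smul, hy] at h4
    rw [pow_two, mul_smul]
    exact h4
  · obtain ⟨N, hN⟩ := hY s hs
    refine ⟨N + N, fun i z => ?_⟩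
    obtain ⟨y, hy⟩ := exists_of_smul_δ_eq_zero' g h hT' i z (s ^ N) (hN (i + 1))
    rw [pow_add, mul_smul, ← hy, ← map_smul, hN i y]
    exact map_zero _

end Cone

end Coh

/-- Boundedness and torsion of the cohomology of an iterated cone. -/
theorem bdd_tors_iterCone {l : List A} {Y W : Dual.D A} (hl : IterCone l Y W) :
    ∀ (a : ℤ) (S : Set A), Bdd a Y → Tors S Y →
      Bdd (a - l.length) W ∧ Tors (S ∪ {s | s ∈ l}) W := by
  induction hl with
  | nil Y =>
    intro a S hB hT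
    refine ⟨by simpa using hB, ?_⟩
    intro s hs
    rcases hs with hs | hs
    · exact hT s hs
    · simp at hs
  | cons f l Y Z W g h hT hl ih =>
    intro a S hB hTo
    obtain ⟨h1, h2⟩ := ih (a - 1) (insert f S) (bdd_cone g h hT hB) (tors_cone g h hT hTo)
    refine ⟨?_, ?_⟩
    · have e : a - ((f :: l).length : ℤ) = a - 1 - (l.length : ℤ) := by
        rw [List.length_cons]; push_cast; ring
      rw [e]
      exact h1
    · intro s hs
      apply h2 s
      rcases hs with hs | hs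
      · exact Or.inl (Set.mem_insert_of_mem _ hs)
      · rcases List.mem_cons.1 hs with rfl | hs'
        · exact Or.inl (Set.mem_insert _ _)
        · exact Or.inr hs'

end Groth.Agent.Lib.Helper13.DCN
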