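import Groth.Agent.Lib.Helper13.DRingKProj
import Mathlib.Algebra.Module.Torsion.Basic

/-!
# Tor amplitude and nilpotent thickenings
-/

set_option autoImplicit false
universe u
open CategoryTheory CategoryTheory.Limits MonoidalCategory

namespace Groth.Agent.Lib.Helper13.DR

open Groth.Agent.Lib.Helper13.PC Groth.Agent.Lib.Helper13.SF
open DerivedCategory
attribute [local instance] HasDerivedCategory.standard

section

variable (R' R : Type u) [CommRing R'] [CommRing R] [Algebra R' R]

/-- A module killed by the kernel of a surjection `R' → R` is an `R`-module. -/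
theorem exists_module_of_ker_smul_eq_zero (hφ : Function.Surjective (algebraMap R' R))
    (N : Type u) [AddCommGroup N] [Module R' N]
    (hN : ∀ a ∈ RingHom.ker (algebraMap R' R), ∀ x : N, a • x = 0) :
    ∃ (_ : Module R N), IsScalarTower R' R N := by
  have htors : Module.IsTorsionBySet R' N (RingHom.ker (algebraMap R' R) : Set R') :=
    fun x a => hN a.1 a.2 x
  let m1 : Module (R' ⧸ RingHom.ker (algebraMap R' R)) N := htors.module
  let e : R' ⧸ RingHom.ker (algebraMap R' R) ≃+* R := RingHom.quotientKerEquivOfSurjective hφ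
  let m2 : Module R N := Module.compHom N (e.symm : R →+* R' ⧸ RingHom.ker (algebraMap R' R))
  refine ⟨m2, IsScalarTower.of_algebraMap_smul (fun r x => ?_)⟩
  change (e.symm (algebraMap R' R r)) • x = r • x
  have h1 : e.symm (algebraMap R' R r) = Ideal.Quotient.mk _ r := by
    rw [RingEquiv.symm_apply_eq]
    exact (RingHom.kerLift_mk (algebraMap R' R) r).symm
  rw [h1]
  exact htors.mk_smul r x

end

section Main

variable {R' R : Type u} [CommRing R'] [CommRing R] [Algebra R' R]

/-- Nilpotent descent of tor amplitude, for a K-projective representative with projective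
terms. -/
theorem hasTorAmplitudeIn_of_extendCx_nilpotent (hφ : Function.Surjective (algebraMap R' R))
    (hnil : IsNilpotent (RingHom.ker (algebraMap R' R))) (P' : DRing.Cx R') [P'.IsKProjective]
    (hproj : ∀ i : ℤ, Projective (P'.X i)) (a b : ℤ)
    (h : DRing.HasTorAmplitudeIn R a b (Q.obj ((extendCx R' R).obj P'))) :
    DRing.HasTorAmplitudeIn R' a b (Q.obj P') := by
  obtain ⟨F, hF, hFfl, ⟨eF⟩⟩ := h
  have hfl : ∀ i : ℤ, Module.Flat R' (P'.X i) := fun i => by
    have := (projective_iff _).1 (hproj i)
    infer_instance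
  -- vanishing over `R`
  have h1 : ∀ (N : ModuleCat.{u} R) (i : ℤ), (i < a ∨ b < i) →
      IsZero (((tensorCx N).obj ((extendCx R' R).obj P')).homology i) := by
    intro N i hi
    obtain ⟨e⟩ := nonempty_homology_tensorCx_iso_of_flat (P := (extendCx R' R).obj P') (F := F) b
      (fun j hj => hF j (Or.inr hj)) hFfl eF.symm N i
    refine IsZero.of_iso ?_ e
    exact (HomologicalComplex.ExactAt.of_isZero
      (Functor.map_isZero (tensorRight N) (hF i hi))).isZero_homology
  -- vanishing over `R'` for modules killed by the kernel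
  have h2 : ∀ (i : ℤ), (i < a ∨ b < i) → ∀ (N : Type u) [AddCommGroup N] [Module R' N],
      (∀ a ∈ RingHom.ker (algebraMap R' R), ∀ x : N, a • x = 0) →
      IsZero (((tensorCx (ModuleCat.of R' N)).obj P').homology i) := by
    intro i hi N _ _ hN
    obtain ⟨m, hm⟩ := exists_module_of_ker_smul_eq_zero R' R hφ N hN
    refine IsZero.of_iso (Functor.map_isZero (ModuleCat.restrictScalars.{u} (algebraMap R' R))
      (h1 (ModuleCat.of R N) i hi))
      ((HomologicalComplex.homologyFunctor _ _ i).mapIso (projCxIso R' R N P').symm ≪≫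
        restrictCxHomologyIso (algebraMap R' R) _ i)
  -- vanishing for all modules
  have h3 : ∀ (N : ModuleCat.{u} R') (i : ℤ), (i < a ∨ b < i) →
      IsZero (((tensorCx N).obj P').homology i) := fun N i hi =>
    isZero_homology_tensorCx_of_nilpotent P' hfl _ hnil i (h2 i hi) N
  -- boundedness
  have hb : ∀ i : ℤ, b < i → IsZero ((DerivedCategory.homologyFunctor _ i).obj (Q.obj P')) :=
    fun i hi => IsZero.of_iso (h3 (𝟙_ _) i (Or.inr hi))
      (homologyQIso P' i ≪≫ (HomologicalComplex.homologyFunctor _ _ i).mapIso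
        (tensorCxUnitIso P').symm)
  obtain ⟨P'', hproj'', hz'', ⟨e''⟩⟩ := exists_projective_rep (Q.obj P') b hb
  have : P''.IsKProjective := isKProjective_of_forall_projective P'' b hz'' hproj''
  refine hasTorAmplitudeIn_of_iso e'' (hasTorAmplitudeIn_of_tensor_vanishing P'' b hz''
    (fun i => by
      have := (projective_iff _).1 (hproj'' i)
      infer_instance) a b (fun N i hi => ?_))
  obtain ⟨e⟩ := nonempty_homology_tensorCx_iso e'' N i
  exact IsZero.of_iso (h3 N i hi) e

end Main

section Quotient

variable {R : Type u} [CommRing R]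

/-- If `H^i(E ⊗ R/I) = 0` for `i > b` (with `E` K-projective, termwise projective) then
`H^i(E ⊗ N) = 0` for `i > b` and every module `N` killed by a power of `I`. -/
theorem isZero_homology_tensorCx_of_quotient_vanishing (I : Ideal R) (E : DRing.Cx R)
    [E.IsKProjective] (hproj : ∀ i : ℤ, Projective (E.X i)) (b : ℤ)
    (h : ∀ i : ℤ, b < i → IsZero (((tensorCx (ModuleCat.of R (R ⧸ I))).obj E).homology i))
    (n : ℕ) (N : Type u) [AddCommGroup N] [Module R N] (hN : ∀ a ∈ I ^ n, ∀ x : N, a • x = 0)
    (i : ℤ) (hi : b < i) : IsZero (((tensorCx (ModuleCat.of R N)).obj E).homology i) := by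
  have hfl : ∀ i : ℤ, Module.Flat R (E.X i) := fun i => by
    have := (projective_iff _).1 (hproj i)
    infer_instance
  -- the reduction of `E` is cohomologically bounded above by `b`
  have hb : ∀ j : ℤ, b < j → IsZero ((DerivedCategory.homologyFunctor _ j).obj
      (Q.obj ((extendCx R (R ⧸ I)).obj E))) := fun j hj => by
    refine IsZero.of_iso ?_ (homologyQIso _ j)
    rw [← HomologicalComplex.exactAt_iff_isZero_homology,
      ← exactAt_tensorCx_iff_exactAt_extendCx R (R ⧸ I) E j,
      HomologicalComplex.exactAt_iff_isZero_homology]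
    exact h j hj
  obtain ⟨P₂, hproj₂, hz₂, ⟨e₂⟩⟩ := exists_projective_rep _ b hb
  have : P₂.IsKProjective := isKProjective_of_forall_projective P₂ b hz₂ hproj₂
  have h1 : ∀ (M : ModuleCat.{u} (R ⧸ I)),
      IsZero (((tensorCx M).obj ((extendCx R (R ⧸ I)).obj E)).homology i) := fun M => by
    obtain ⟨e⟩ := nonempty_homology_tensorCx_iso e₂.symm M i
    refine IsZero.of_iso ?_ e
    exact (HomologicalComplex.ExactAt.of_isZero
      (Functor.map_isZero (tensorRight M) (hz₂ i hi))).isZero_homology
  refine isZero_homology_tensorCx_of_pow_smul_eq_zero E hfl I i (fun N' _ _ hN' => ?_) n N hN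
  obtain ⟨m, hm⟩ := exists_module_of_ker_smul_eq_zero R (R ⧸ I) Ideal.Quotient.mk_surjective N'
    (fun a ha x => hN' a (by rwa [Ideal.Quotient.algebraMap_eq, Ideal.mk_ker] at ha) x)
  refine IsZero.of_iso (Functor.map_isZero (ModuleCat.restrictScalars.{u} (algebraMap R (R ⧸ I)))
    (h1 (ModuleCat.of (R ⧸ I) N')))
    ((HomologicalComplex.homologyFunctor _ _ i).mapIso (projCxIso R (R ⧸ I) N' E).symm ≪≫
      restrictCxHomologyIso (algebraMap R (R ⧸ I)) _ i)

end Quotient

end Groth.Agent.Lib.Helper13.DR
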