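import Groth.Agent.Lib.Helper13.DCNak2
import Groth.Agent.Lib.Helper13.PCDevissage
import Groth.Agent.Lib.Helper13.DRingNilp
import Groth.Agent.Lib.Helper28.KFlatAbs2
import Mathlib.RingTheory.Ideal.Operations

set_option autoImplicit false
universe u
open CategoryTheory CategoryTheory.Limits MonoidalCategory Pretriangulated
open CochainComplex HomologicalComplex

namespace Groth.Agent.Lib.Helper13.DCN

open Groth.Agent.Lib.Helper13.DV Groth.Agent.Lib.Helper13.DR Groth.Agent.Lib.Helper13.PC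
  Groth.Agent.Lib.Helper7.FComplete Groth.Agent.Lib.Helper7.DerivedCompleteMT

attribute [local instance] HasDerivedCategory.standard

variable {A : Type u} [CommRing A]

section Dev

variable (Ψ : Dual.D A ⥤ Dual.D A)

/-- Vanishing of the cohomology of `Ψ X` above `b`. -/
def WΨ (b : ℤ) : ObjectProperty (Dual.D A) :=
  fun X => ∀ j : ℤ, b < j → IsZero ((Hi j).obj (Ψ.obj X))

instance (b : ℤ) : (WΨ Ψ b).IsClosedUnderIsomorphisms where
  of_iso e h j hj := (h j hj).of_iso ((Hi j).mapIso (Ψ.mapIso e.symm))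

variable {Ψ} (hΨ : WeakTri Ψ)
  (hΨs : ∀ (f : A) (Y : Dual.D A), Ψ.map (f • 𝟙 Y) = f • 𝟙 (Ψ.obj Y))

include hΨs in
lemma isZero_Psi_obj {Z : Dual.D A} (hZ : IsZero Z) : IsZero (Ψ.obj Z) := by
  rw [IsZero.iff_id_eq_zero, ← Ψ.map_id]
  have h1 : 𝟙 Z = (0 : A) • 𝟙 Z := hZ.eq_of_src _ _
  rw [h1, hΨs, zero_smul]

include hΨ in
lemma WΨ_ext (b : ℤ) (T : Triangle (Dual.D A)) (hT : T ∈ distTriang (Dual.D A))
    (h₁ : WΨ Ψ b T.obj₁) (h₃ : WΨ Ψ b T.obj₃) : WΨ Ψ b T.obj₂ := by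
  obtain ⟨T₁, hT₁, e₁, e₂, e₃, -, -⟩ := hΨ T hT
  intro j hj
  have z1 : IsZero ((Hi j).obj T₁.obj₁) := (h₁ j hj).of_iso ((Hi j).mapIso e₁)
  have z3 : IsZero ((Hi j).obj T₁.obj₃) := (h₃ j hj).of_iso ((Hi j).mapIso e₃)
  have s1 := (ModuleCat.isZero_iff_subsingleton).1 z1
  have s3 := (ModuleCat.isZero_iff_subsingleton).1 z3
  have : Subsingleton ((Hi j).obj T₁.obj₂) := by
    refine ⟨fun y y' => ?_⟩
    suffices ∀ w : (Hi j).obj T₁.obj₂, w = 0 by rw [this y, this y']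
    intro w
    obtain ⟨x, hx⟩ := exists_of_Hi_map_mor₂_eq_zero T₁ hT₁ j w (Subsingleton.elim _ _)
    rw [← hx, Subsingleton.elim x 0]
    exact map_zero _
  exact (ModuleCat.isZero_of_subsingleton _).of_iso ((Hi j).mapIso e₂.symm)

/-- Torsion for the generators of a finitely generated ideal gives torsion for a power. -/
lemma exists_pow_smul_eq_zero (l : List A) (M : Type u) [AddCommGroup M] [Module A M]
    (h : ∀ s ∈ l, ∃ N : ℕ, ∀ x : M, s ^ N • x = 0) :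
    ∃ k : ℕ, ∀ a ∈ (Ideal.span {s | s ∈ l}) ^ k, ∀ x : M, a • x = 0 := by
  have h1 : Ideal.span {s | s ∈ l} ≤ (Module.annihilator A M).radical := by
    rw [Ideal.span_le]
    intro s hs
    obtain ⟨N, hN⟩ := h s hs
    exact ⟨N, Module.mem_annihilator.2 hN⟩
  classical
  have h2 : (Ideal.span {s | s ∈ l}).FG := by
    refine ⟨l.toFinset, ?_⟩
    congr 1
    ext s
    simp
  obtain ⟨k, hk⟩ := Ideal.exists_pow_le_of_le_radical_of_fg h1 h2
  exact ⟨k, fun a ha x => Module.mem_annihilator.1 (hk ha) x⟩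

include hΨ hΨs in
/-- Dévissage: an object with bounded, torsion cohomology is killed (above `b`) by `Ψ`. -/
theorem WΨ_of_bdd_tors (b : ℤ) (l : List A) (F : Dual.D A) (a : ℤ) (hB : Bdd a F)
    (hT : Tors {s | s ∈ l} F)
    (hsingle : ∀ (N : ModuleCat.{u} A) (i : ℤ), i ≤ 0 →
      (∃ k : ℕ, ∀ x ∈ (Ideal.span {s | s ∈ l}) ^ k, ∀ n : N, x • n = 0) →
      WΨ Ψ b ((DerivedCategory.singleFunctor (ModuleCat.{u} A) i).obj N)) : WΨ Ψ b F := by
  have hzero : ∀ Z : Dual.D A, IsZero Z → WΨ Ψ b Z := fun Z hZ j _ =>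
    Functor.map_isZero _ (isZero_Psi_obj hΨs hZ)
  refine devissage_homology (WΨ Ψ b) (WΨ_ext hΨ b) hzero F a 0 hB (fun i => ?_)
  by_cases hi : i < a ∨ 0 < i
  · exact hzero _ (Functor.map_isZero _ (hB i hi))
  · refine hsingle _ i (by lia) ?_
    exact exists_pow_smul_eq_zero l _ (fun s hs => by
      obtain ⟨N, hN⟩ := hT s hs
      exact ⟨N, fun x => hN i x⟩)

end Dev

end Groth.Agent.Lib.Helper13.DCN
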