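import Groth.Agent.Lib.Helper13.DCNak3
import Groth.Agent.Lib.Helper13.WayOut3

set_option autoImplicit false
universe u
open CategoryTheory CategoryTheory.Limits MonoidalCategory Pretriangulated
open CochainComplex HomologicalComplex

namespace Groth.Agent.Lib.Helper13.DCN

open Groth.Agent.Lib.Helper13.DV Groth.Agent.Lib.Helper13.DR Groth.Agent.Lib.Helper13.PC
  Groth.Agent.Lib.Helper7.FComplete Groth.Agent.Lib.Helper7.DerivedCompleteMT
open Groth.Agent.Lib.Helper28.KFlatAbs
open DTen Groth.Agent.Lib.Helper13.SF Groth.Agent.Lib.Helper13.HT Groth.Agent.Lib.Helper13.DT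

attribute [local instance] HasDerivedCategory.standard

variable {A : Type u} [CommRing A]

/-- Tensoring with a module placed in degree `a` shifts exactness by `a`. -/
lemma exactAt_tensor_single (P : DRing.Cx A) (N : ModuleCat.{u} A) (a n : ℤ)
    (h : ((tensorCx N).obj P).ExactAt (n - a)) :
    (P ⊗ (HomologicalComplex.single (ModuleCat.{u} A) (ComplexShape.up ℤ) a).obj N).ExactAt n := by
  rw [HomologicalComplex.exactAt_iff' _ (n - a - 1) (n - a) (n - a + 1) (by simp) (by simp)] at h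
  rw [HomologicalComplex.exactAt_iff' _ (n - 1) n (n + 1) (by simp) (by simp)]
  refine (ShortComplex.exact_iff_of_iso ?_).1 h
  have i1 : IsIso (θ (curriedTensor (ModuleCat.{u} A)) P N a (n - a - 1) (n - 1) (by omega)) :=
    inferInstance
  have i2 : IsIso (θ (curriedTensor (ModuleCat.{u} A)) P N a (n - a) n (by omega)) :=
    inferInstance
  have i3 : IsIso (θ (curriedTensor (ModuleCat.{u} A)) P N a (n - a + 1) (n + 1) (by omega)) :=
    inferInstance
  refine ShortComplex.isoMk (@asIso _ _ _ _ _ i1) (@asIso _ _ _ _ _ i2) (@asIso _ _ _ _ _ i3)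
    ?_ ?_
  · exact θ_d (curriedTensor (ModuleCat.{u} A)) P N a (n - a - 1) (n - 1) (n - a) n (by omega)
      (by omega) (by omega)
  · exact θ_d (curriedTensor (ModuleCat.{u} A)) P N a (n - a) n (n - a + 1) (n + 1) (by omega)
      (by omega) (by omega)

section Concrete

variable (P : DRing.Cx A) (hP : KFlat P)

/-- The cohomology of `Psi (Q X)`. -/
noncomputable def HiPsiQIso (X : DRing.Cx A) (j : ℤ) :
    (Hi j).obj ((Psi P hP).obj (DerivedCategory.Q.obj X)) ≅ (X ⊗ P).homology j :=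
  (Hi j).mapIso ((psiIso P hP).app X) ≪≫
    (DerivedCategory.homologyFunctorFactors (ModuleCat.{u} A) j).app (X ⊗ P)

lemma WΨ_single (b : ℤ) (N : ModuleCat.{u} A) (i : ℤ) (hi : i ≤ 0)
    (hyp : ∀ m : ℤ, b < m → IsZero (((tensorCx N).obj P).homology m)) :
    WΨ (Psi P hP) b ((DerivedCategory.singleFunctor (ModuleCat.{u} A) i).obj N) := by
  intro j hj
  let X := (HomologicalComplex.single (ModuleCat.{u} A) (ComplexShape.up ℤ) i).obj N
  have e0 : (DerivedCategory.singleFunctor (ModuleCat.{u} A) i).obj N ≅ DerivedCategory.Q.obj X :=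
    (DerivedCategory.singleFunctorIsoCompQ (ModuleCat.{u} A) i).app N
  have h1 : IsZero ((P ⊗ X).homology j) := by
    rw [← HomologicalComplex.exactAt_iff_isZero_homology]
    apply exactAt_tensor_single
    rw [HomologicalComplex.exactAt_iff_isZero_homology]
    exact hyp _ (by lia)
  have h2 : IsZero ((X ⊗ P).homology j) :=
    h1.of_iso ((HomologicalComplex.homologyFunctor _ _ j).mapIso (DTen.braidCx X P))
  exact h2.of_iso ((Hi j).mapIso ((Psi P hP).mapIso e0) ≪≫ HiPsiQIso P hP X j)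

/-- `Psi` of the unit is `P`. -/
noncomputable def PsiUnitIso :
    (Psi P hP).obj (DerivedCategory.Q.obj (𝟙_ (DRing.Cx A))) ≅ DerivedCategory.Q.obj P :=
  (psiIso P hP).app _ ≪≫ DerivedCategory.Q.mapIso (λ_ P)

end Concrete

lemma bdd_unit : Bdd 0 (DerivedCategory.Q.obj (𝟙_ (DRing.Cx A))) := by
  intro i hi
  refine isZero_homology_Q_obj _ i ?_
  exact HomologicalComplex.isZero_single_obj_X (ComplexShape.up ℤ) 0 _ i (by lia)

/-- **Derived Nakayama**, chain-level form. -/
theorem isZero_Hi_of_hyp (I : Ideal A) (hI : I.FG) (K : Dual.D A)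
    (hc : DRing.IsDerivedComplete I K) (P : DRing.Cx A) (hP : KFlat P)
    (eP : DerivedCategory.Q.obj P ≅ K) (b : ℤ)
    (hyp : ∀ (N : ModuleCat.{u} A) (k : ℕ), (∀ x ∈ I ^ k, ∀ n : N, x • n = 0) →
      ∀ m : ℤ, b < m → IsZero (((tensorCx N).obj P).homology m)) :
    ∀ j : ℤ, b < j → IsZero ((Hi j).obj K) := by
  classical
  obtain ⟨S, hS⟩ := hI
  let l := S.toList
  have hl : {s | s ∈ l} = (S : Set A) := by
    ext s
    simp [l]
  have hIl : Ideal.span {s | s ∈ l} = I := by rw [hl, hS]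
  let U : Dual.D A := DerivedCategory.Q.obj (𝟙_ (DRing.Cx A))
  obtain ⟨W, hW⟩ := exists_iterCone l U
  have hTors0 : Tors (∅ : Set A) U := fun s hs => absurd hs (Set.notMem_empty s)
  obtain ⟨hB, hT⟩ := bdd_tors_iterCone hW 0 ∅ bdd_unit hTors0
  rw [Set.empty_union] at hT
  have hΨ := weakTri_Psi P hP
  have hΨs := Psi_map_smul_id P hP
  have hWΨ : WΨ (Psi P hP) b W := by
    refine WΨ_of_bdd_tors hΨ hΨs b l W _ hB hT (fun N i hi hN => ?_)
    obtain ⟨k, hk⟩ := hN
    rw [hIl] at hk
    exact WΨ_single P hP b N i hi (hyp N k hk)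
  have eU : (Psi P hP).obj U ≅ K := PsiUnitIso P hP ≪≫ eP
  have hcU : DRing.IsDerivedComplete I ((Psi P hP).obj U) :=
    Groth.Agent.Lib.Helper7.DerivedComplete.of_iso I eU.symm hc
  have hmain := main_down hΨ hΨs I hW (fun f hf => by
    rw [← hIl]
    exact Ideal.subset_span hf) hcU b hWΨ
  intro j hj
  exact (hmain j hj).of_iso ((Hi j).mapIso eU.symm)

end Groth.Agent.Lib.Helper13.DCN
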