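import Groth.Agent.Lib.Helper13.PCPerfect
import Groth.Agent.Lib.Helper13.PCInfinite
import Mathlib.CategoryTheory.Preadditive.Injective.Basic

/-!
# Projective resolutions and projective amplitude in `D(C)` (abstract part)
-/

set_option autoImplicit false

universe w v u

namespace Groth.Agent.Lib.Helper13.PC

open CategoryTheory CategoryTheory.Limits HomologicalComplex CochainComplex PCoh Pretriangulated
  ZeroObject DerivedCategory

variable {C : Type u} [Category.{v} C] [Abelian C]

section A

variable (C) in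
/-- The class of projective objects. -/
def Pproj : ObjectProperty C := fun X => Projective X

instance : (Pproj C).IsClosedUnderIsomorphisms where
  of_iso e h := Projective.of_iso e h

instance : (Pproj C).ContainsZero where
  exists_zero := ⟨0, isZero_zero C, (inferInstance : Projective (0 : C))⟩

lemma Pproj_prod (X Y : C) (hX : Pproj C X) (hY : Pproj C Y) : Pproj C (X ⨯ Y) := by
  have : Projective X := hX
  have : Projective Y := hY
  exact Projective.of_iso (biprod.isoProd X Y) (inferInstance : Projective (X ⊞ Y))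

omit [Abelian C] in
lemma hlift_Pproj (E F : C) (u : E ⟶ F) (hu : Epi u) (hF : Pproj C F) : IsSplitEpi u := by
  have : Projective F := hF
  exact ⟨⟨Projective.factorThru (𝟙 F) u, Projective.factorThru_comp _ _⟩⟩

lemma hst_Pproj (E F : C) (u : E ⟶ F) (hu : Epi u) (hE : Pproj C E) (hF : Pproj C F) :
    Pproj C (kernel u) := by
  obtain ⟨⟨s, hs⟩⟩ := hlift_Pproj E F u hu hF
  have : Projective E := hE
  have r : Retract (kernel u) E :=
    { i := kernel.ι u
      r := kernel.lift u (𝟙 E - u ≫ s) (by
        rw [Preadditive.sub_comp, Category.id_comp, Category.assoc, hs, Category.comp_id, sub_self])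
      retract := by
        rw [← cancel_mono (kernel.ι u), Category.assoc, kernel.lift_ι, Preadditive.comp_sub,
          Category.comp_id, kernel.condition_assoc, zero_comp, sub_zero, Category.id_comp] }
  exact r.projective

omit [Abelian C] in
lemma hql_Pproj : IsQuasiLiftable (Pproj C) := isQuasiLiftable_of_hlift _ hlift_Pproj
lemma hqs_Pproj : IsQuasiStableUnderKernels (Pproj C) :=
  isQuasiStableUnderKernels_of_hst _ hst_Pproj

variable [EnoughProjectives C]

omit [Abelian C] in
lemma isOfFiniteType_Pproj (M : C) : IsOfFiniteType (Pproj C) M :=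
  ⟨Projective.over M, Projective.π M, (inferInstance : Projective (Projective.over M)),
    inferInstance⟩

lemma isCoherent_Pproj (M : C) : IsCoherent (Pproj C) M :=
  ⟨isOfFiniteType_Pproj M, fun _ _ _ => isOfFiniteType_Pproj _⟩

variable [HasDerivedCategory.{w} C]

lemma isPC_single_Pproj (M : C) : IsPC (Pproj C) ((DerivedCategory.singleFunctor C 0).obj M) :=
  fun m => isNPC_single_of_isCoherent (fun _ _ _ _ _ => isOfFiniteType_Pproj _) Pproj_prod
    hql_Pproj (isCoherent_Pproj M) m

/-- Objects with bounded above cohomology are pseudo-coherent relative to projectives. -/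
theorem isPC_Pproj_of_bounded (K : DerivedCategory C) (b : ℤ)
    (hb : ∀ i : ℤ, b < i → IsZero ((DerivedCategory.homologyFunctor C i).obj K)) :
    IsPC (Pproj C) K :=
  fun n => isNPC_of_homology Pproj_prod hqs_Pproj hql_Pproj K b hb
    (fun i _ => isPC_single_Pproj _ (n - i))

/-- Bounded above projective resolutions in the derived category. -/
theorem exists_projective_rep (K : DerivedCategory C) (b : ℤ)
    (hb : ∀ i : ℤ, b < i → IsZero ((DerivedCategory.homologyFunctor C i).obj K)) :
    ∃ E : CochainComplex C ℤ, (∀ i : ℤ, Projective (E.X i)) ∧ (∀ i : ℤ, b < i → IsZero (E.X i)) ∧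
      Nonempty (Q.obj E ≅ K) := by
  obtain ⟨E, hP, hz, hE⟩ := exists_strictPCAll_iso Pproj_prod hqs_Pproj hql_Pproj K
    (isPC_Pproj_of_bounded K b hb) (b + 1) (fun i hi => hb i (by lia))
  exact ⟨E, hP, fun i hi => hz i (by lia), hE⟩


end A

section B

lemma isKProjective_of_forall_projective (E : CochainComplex C ℤ) (b : ℤ)
    (hb : ∀ i : ℤ, b < i → IsZero (E.X i)) (hP : ∀ i : ℤ, Projective (E.X i)) :
    E.IsKProjective := by
  have : E.IsStrictlyLE b := by
    rw [CochainComplex.isStrictlyLE_iff]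
    exact hb
  exact CochainComplex.isKProjective_of_projective E b

variable [HasDerivedCategory.{w} C]

lemma exists_homotopy_of_Q_map_eq {K L : CochainComplex C ℤ} [K.IsKProjective] (f g : K ⟶ L)
    (h : Q.map f = Q.map g) : Nonempty (Homotopy f g) := by
  have h' : Qh.map ((HomotopyCategory.quotient _ _).map f) =
      Qh.map ((HomotopyCategory.quotient _ _).map g) := by
    have h1 := quotientCompQhIso_hom_naturality f
    have h2 := quotientCompQhIso_hom_naturality g
    rw [h, ← h2] at h1
    exact (cancel_mono _).1 h1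
  have := (CochainComplex.IsKProjective.Qh_map_bijective K
    ((HomotopyCategory.quotient _ _).obj L)).injective h'
  exact ⟨HomotopyCategory.homotopyOfEq _ _ this⟩

/-- Maps in `D(C)` from a K-projective complex vanishing in degree `j` to an object in degree `j`
vanish. -/
lemma subsingleton_hom_single_of_isZero (P : CochainComplex C ℤ) [P.IsKProjective] (j : ℤ)
    (hj : IsZero (P.X j)) (N : C) :
    Subsingleton (Q.obj P ⟶ (DerivedCategory.singleFunctor C j).obj N) := by
  refine ⟨fun φ ψ => ?_⟩
  have key : ∀ φ : Q.obj P ⟶ (DerivedCategory.singleFunctor C j).obj N, φ = 0 := fun φ => by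
    obtain ⟨f, hf⟩ := exists_Q_map_eq (φ ≫ (singleIsoQ j N).hom)
    have hf0 : f = 0 := by
      apply HomologicalComplex.to_single_hom_ext
      exact hj.eq_of_src _ _
    rw [hf0, Functor.map_zero] at hf
    rw [← cancel_mono (singleIsoQ j N).hom, ← hf, zero_comp]
  rw [key φ, key ψ]


end B

section C3

/-- A null-homotopy of `P ⟶ (P^j/B^j)[-j]` gives a retraction of `P^j/B^j ⟶ P^{j+1}`. -/
lemma exists_retraction_fromOpcycles_of_homotopy (P : CochainComplex C ℤ) (j : ℤ)
    (h : Homotopy (toSingleOpcycles P j) 0) :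
    ∃ r : P.X (j + 1) ⟶ P.opcycles j, P.fromOpcycles j (j + 1) ≫ r = 𝟙 _ := by
  refine ⟨h.hom (j + 1) j ≫ (singleObjXSelf (ComplexShape.up ℤ) j (P.opcycles j)).hom, ?_⟩
  have h1 := h.comm j
  rw [dNext_eq h.hom (show (ComplexShape.up ℤ).Rel j (j + 1) from rfl),
    prevD_eq h.hom (show (ComplexShape.up ℤ).Rel (j - 1) j by simp), single_obj_d, comp_zero,
    HomologicalComplex.zero_f, add_zero, add_zero, toSingleOpcycles_f] at h1
  rw [← cancel_epi (P.pOpcycles j), p_fromOpcycles_assoc, ← Category.assoc, ← h1]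
  simp

/-- Consequences of a retraction of `P^j/B^j ⟶ P^{j+1}`: acyclicity in degree `j`. -/
lemma isZero_homology_of_retraction (P : CochainComplex C ℤ) (j : ℤ)
    (r : P.X (j + 1) ⟶ P.opcycles j) (hr : P.fromOpcycles j (j + 1) ≫ r = 𝟙 _) :
    IsZero (P.homology j) := by
  have : Mono (P.fromOpcycles j (j + 1)) := mono_of_mono_fac hr
  rw [IsZero.iff_id_eq_zero, ← cancel_mono (P.homologyι j),
    ← cancel_mono (P.fromOpcycles j (j + 1))]
  simp

/-- Consequences of a retraction of `P^j/B^j ⟶ P^{j+1}`: `P^{j+1}/B^{j+1}` is a retract of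
`P^{j+1}`. -/
lemma exists_section_pOpcycles_of_retraction (P : CochainComplex C ℤ) (j : ℤ)
    (r : P.X (j + 1) ⟶ P.opcycles j) (hr : P.fromOpcycles j (j + 1) ≫ r = 𝟙 _) :
    ∃ s : P.opcycles (j + 1) ⟶ P.X (j + 1), s ≫ P.pOpcycles (j + 1) = 𝟙 _ := by
  have h0 : P.d j (j + 1) ≫ (𝟙 _ - r ≫ P.fromOpcycles j (j + 1)) = 0 := by
    rw [← P.p_fromOpcycles j (j + 1), Category.assoc, Preadditive.comp_sub, Category.comp_id,
      reassoc_of% hr, sub_self, comp_zero]
  refine ⟨P.descOpcycles (𝟙 _ - r ≫ P.fromOpcycles j (j + 1)) j (by simp) h0, ?_⟩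
  rw [← cancel_epi (P.pOpcycles (j + 1)), p_descOpcycles_assoc, Preadditive.sub_comp,
    Category.id_comp, Category.assoc, Category.comp_id]
  have : P.fromOpcycles j (j + 1) ≫ P.pOpcycles (j + 1) = 0 := by
    rw [← cancel_epi (P.pOpcycles j), p_fromOpcycles_assoc, d_pOpcycles, comp_zero]
  rw [this, comp_zero, sub_zero]


end C3

section D

variable [HasDerivedCategory.{w} C]

/-- Truncating a projective complex acyclic below `a` with projective `P^a/B^a`. -/
theorem exists_projective_truncGE (P : CochainComplex C ℤ) (a b : ℤ)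
    (hb : ∀ i : ℤ, b < i → IsZero (P.X i)) (hP : ∀ i : ℤ, Projective (P.X i))
    (hac : ∀ i : ℤ, i < a → IsZero (P.homology i)) (hproj : Projective (P.opcycles a)) :
    ∃ E : CochainComplex C ℤ, (∀ i : ℤ, i < a ∨ b < i → IsZero (E.X i)) ∧
      (∀ i : ℤ, Projective (E.X i)) ∧ Nonempty (Q.obj E ≅ Q.obj P) := by
  have : P.IsGE a := by
    rw [CochainComplex.isGE_iff]
    intro i hi
    rw [exactAt_iff_isZero_homology]
    exact hac i hi
  have hq : QuasiIso (P.πTruncGE a) := inferInstance
  have : IsIso (Q.map (P.πTruncGE a)) := by rw [isIso_Q_map_iff_quasiIso]; exact hq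
  refine ⟨P.truncGE a, ?_, ?_, ⟨(asIso (Q.map (P.πTruncGE a))).symm⟩⟩
  · rintro i (hi | hi)
    · exact CochainComplex.isZero_of_isStrictlyGE _ a i hi
    · by_cases h : a < i
      · exact (hb i hi).of_iso (P.truncGEXIso a i h)
      · by_cases h' : i = a
        · subst h'
          refine IsZero.of_iso ?_ (P.truncGEXIsoOpcycles i)
          rw [IsZero.iff_id_eq_zero, ← cancel_epi (P.pOpcycles i)]
          exact (hb i hi).eq_of_src _ _
        · exact CochainComplex.isZero_of_isStrictlyGE _ a i (by lia)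
  · intro i
    by_cases h : a < i
    · exact Projective.of_iso (P.truncGEXIso a i h).symm (hP i)
    · by_cases h' : i = a
      · subst h'
        exact Projective.of_iso (P.truncGEXIsoOpcycles i).symm hproj
      · exact (CochainComplex.isZero_of_isStrictlyGE _ a i (by lia)).projective


end D

section E

/-- The chain map `X ⟶ I[-j]` attached to a map `X^j/B^j ⟶ I`. -/
noncomputable def toSingleOfOpcycles (X : CochainComplex C ℤ) (j : ℤ) {I : C}
    (g : X.opcycles j ⟶ I) : X ⟶ (HomologicalComplex.single C (ComplexShape.up ℤ) j).obj I :=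
  mkHomToSingle (X.pOpcycles j ≫ g) (fun i _ => by simp)

lemma toSingleOfOpcycles_f (X : CochainComplex C ℤ) (j : ℤ) {I : C} (g : X.opcycles j ⟶ I) :
    (toSingleOfOpcycles X j g).f j =
      X.pOpcycles j ≫ g ≫ (singleObjXSelf (ComplexShape.up ℤ) j I).inv := by
  simp [toSingleOfOpcycles]

/-- If `homologyι ≫ g` is mono then `X ⟶ I[-j]` is injective on `H^j`. -/
lemma mono_homologyMap_toSingleOfOpcycles (X : CochainComplex C ℤ) (j : ℤ) {I : C}
    (g : X.opcycles j ⟶ I) (hg : Mono (X.homologyι j ≫ g)) :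
    Mono (homologyMap (toSingleOfOpcycles X j g) j) := by
  rw [mono_homologyMap_iff_up_to_refinements _ (j - 1) j (j + 1) (by simp) (by simp)]
  intro A x₂ hx₂ y₁ hy₁
  rw [toSingleOfOpcycles_f, single_obj_d, comp_zero, ← Category.assoc, ← Category.assoc] at hy₁
  have h0 : (x₂ ≫ X.pOpcycles j) ≫ g = 0 := by
    rw [← cancel_mono (singleObjXSelf (ComplexShape.up ℤ) j I).inv, hy₁, zero_comp]
  let z : A ⟶ X.cycles j := X.liftCycles x₂ (j + 1) (by simp) hx₂
  have hz : z ≫ X.homologyπ j = 0 := by
    rw [← cancel_mono (X.homologyι j ≫ g), zero_comp, Category.assoc,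
      X.homology_π_ι_assoc j, X.liftCycles_i_assoc, ← Category.assoc, h0]
  rw [← X.comp_pOpcycles_eq_zero_iff_up_to_refinements x₂ (j - 1) (by simp)]
  have : x₂ ≫ X.pOpcycles j = z ≫ X.homologyπ j ≫ X.homologyι j := by
    rw [X.homology_π_ι j, X.liftCycles_i_assoc]
  rw [this, reassoc_of% hz, zero_comp]


variable [HasDerivedCategory.{w} C]

/-- If all maps `K ⟶ N[-j]` vanish (for `N` injective) then `H^j(K) = 0`. -/
theorem isZero_homology_of_subsingleton_hom_single [EnoughInjectives C] (K : DerivedCategory C)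
    (j : ℤ) (h : ∀ N : C, Injective N →
      Subsingleton (K ⟶ (DerivedCategory.singleFunctor C j).obj N)) :
    IsZero ((DerivedCategory.homologyFunctor C j).obj K) := by
  let X := Q.objPreimage K
  let e : Q.obj X ≅ K := Q.objObjPreimageIso K
  let I := Injective.under (X.homology j)
  let ι : X.homology j ⟶ I := Injective.ι _
  let g : X.opcycles j ⟶ I := Injective.factorThru ι (X.homologyι j)
  have hg : X.homologyι j ≫ g = ι := Injective.comp_factorThru _ _
  let ψ := toSingleOfOpcycles X j g
  have hψ : Q.map ψ = 0 := by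
    have := h I inferInstance
    have h1 : e.inv ≫ Q.map ψ ≫ (singleIsoQ j I).inv = 0 := Subsingleton.elim _ _
    rw [← cancel_epi e.inv, ← cancel_mono (singleIsoQ j I).inv, Category.assoc, h1]
    simp only [zero_comp, comp_zero]
  have hm : Mono ((DerivedCategory.homologyFunctor C j).map (Q.map ψ)) :=
    (mono_homologyFunctor_map_Q_iff ψ j).2
      (mono_homologyMap_toSingleOfOpcycles X j g (by rw [hg]; infer_instance))
  rw [hψ, Functor.map_zero] at hm
  exact (@IsZero.of_mono_zero _ _ _ _ _ hm).of_iso ((DerivedCategory.homologyFunctor C j).mapIso e.symm)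

/-- Key lemma: for a K-projective complex `P` with `P^{j+1}` projective, if all maps
`P ⟶ N[-j]` in `D(C)` vanish then `H^j(P) = 0` and `P^{j+1}/B^{j+1}` is projective. -/
theorem isZero_homology_and_projective_opcycles (P : CochainComplex C ℤ) [P.IsKProjective] (j : ℤ)
    (hP : Projective (P.X (j + 1)))
    (h0 : Subsingleton (Q.obj P ⟶ (DerivedCategory.singleFunctor C j).obj (P.opcycles j))) :
    IsZero (P.homology j) ∧ Projective (P.opcycles (j + 1)) := by
  have h1 : Q.map (toSingleOpcycles P j) = Q.map 0 := by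
    rw [← cancel_mono (singleIsoQ j (P.opcycles j)).inv]
    exact Subsingleton.elim _ _
  obtain ⟨hh⟩ := exists_homotopy_of_Q_map_eq _ _ h1
  obtain ⟨r, hr⟩ := exists_retraction_fromOpcycles_of_homotopy P j hh
  refine ⟨isZero_homology_of_retraction P j r hr, ?_⟩
  obtain ⟨s, hs⟩ := exists_section_pOpcycles_of_retraction P j r hr
  exact (Retract.mk s (P.pOpcycles (j + 1)) hs).projective


end E

section F

variable [HasDerivedCategory.{w} C]

/-- Maps from a K-projective complex vanishing in degrees `< a` to an object which is `≤ a - 1`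
vanish. -/
lemma subsingleton_hom_of_isLE (P : CochainComplex C ℤ) [P.IsKProjective] (a : ℤ)
    (hP : ∀ i : ℤ, i < a → IsZero (P.X i)) (K : DerivedCategory C) [K.IsLE (a - 1)] :
    Subsingleton (Q.obj P ⟶ K) := by
  obtain ⟨X, hX, ⟨e⟩⟩ := K.exists_iso_Q_obj_of_isLE (a - 1)
  have key : ∀ φ : Q.obj P ⟶ K, φ = 0 := fun φ => by
    obtain ⟨f, hf⟩ := exists_Q_map_eq (φ ≫ e.hom)
    have hf0 : f = 0 := by
      ext i
      by_cases hi : i < a
      · exact (hP i hi).eq_of_src _ _
      · exact (X.isZero_of_isStrictlyLE (a - 1) i (by lia)).eq_of_tgt _ _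
    rw [hf0, Functor.map_zero] at hf
    rw [← cancel_mono e.hom, ← hf, zero_comp]
  exact ⟨fun φ ψ => by rw [key φ, key ψ]⟩

end F

section G

open CochainComplex.HomComplex in
/-- The chain map `P ⟶ P^{a+1}[-a]` given by the differential is null-homotopic. -/
lemma nonempty_homotopy_toSingleOfOpcycles_fromOpcycles (P : CochainComplex C ℤ) (a : ℤ) :
    Nonempty (Homotopy (toSingleOfOpcycles P a (P.fromOpcycles a (a + 1))) 0) := by
  let S := (HomologicalComplex.single C (ComplexShape.up ℤ) a).obj (P.X (a + 1))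
  let f : P.X (a + 1) ⟶ S.X a := (singleObjXSelf (ComplexShape.up ℤ) a (P.X (a + 1))).inv
  refine ⟨(Cochain.equivHomotopy _ _).symm ⟨Cochain.single f (-1), ?_⟩⟩
  rw [Cochain.δ_single f (-1) 0 (by simp) a (a + 1) rfl rfl]
  ext p
  by_cases hp : p = a
  · subst hp
    simp [toSingleOfOpcycles_f, f, Cochain.single_v, S]
  · exact (isZero_single_obj_X (ComplexShape.up ℤ) a (P.X (a + 1)) p hp).eq_of_tgt _ _

end G

section H

/-- A null-homotopy of `P ⟶ I[-j]` (attached to `g : P^j/B^j ⟶ I`) gives an extension of `g` along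
`P^j/B^j ⟶ P^{j+1}`. -/
lemma exists_extension_of_homotopy (P : CochainComplex C ℤ) (j : ℤ) {I : C}
    (g : P.opcycles j ⟶ I) (h : Homotopy (toSingleOfOpcycles P j g) 0) :
    ∃ r : P.X (j + 1) ⟶ I, P.fromOpcycles j (j + 1) ≫ r = g := by
  refine ⟨h.hom (j + 1) j ≫ (singleObjXSelf (ComplexShape.up ℤ) j I).hom, ?_⟩
  have h1 := h.comm j
  rw [dNext_eq h.hom (show (ComplexShape.up ℤ).Rel j (j + 1) from rfl),
    prevD_eq h.hom (show (ComplexShape.up ℤ).Rel (j - 1) j by simp), single_obj_d, comp_zero,
    HomologicalComplex.zero_f, add_zero, add_zero, toSingleOfOpcycles_f] at h1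
  rw [← cancel_epi (P.pOpcycles j), p_fromOpcycles_assoc, ← Category.assoc, ← h1]
  simp


variable [HasDerivedCategory.{w} C]

lemma Q_map_toSingleOfOpcycles_comp (P : CochainComplex C ℤ) (j : ℤ) {I I' : C}
    (g : P.opcycles j ⟶ I) (u : I ⟶ I') :
    Q.map (toSingleOfOpcycles P j g) ≫ (singleIsoQ j I).inv ≫
      (DerivedCategory.singleFunctor C j).map u =
    Q.map (toSingleOfOpcycles P j (g ≫ u)) ≫ (singleIsoQ j I').inv := by
  have h1 : toSingleOfOpcycles P j (g ≫ u) = toSingleOfOpcycles P j g ≫
      (HomologicalComplex.single C (ComplexShape.up ℤ) j).map u := by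
    apply HomologicalComplex.to_single_hom_ext
    simp [toSingleOfOpcycles_f, HomologicalComplex.single_map_f_self]
  have h2 : (singleIsoQ j I).inv ≫ (DerivedCategory.singleFunctor C j).map u =
      Q.map ((HomologicalComplex.single C (ComplexShape.up ℤ) j).map u) ≫ (singleIsoQ j I').inv :=
    ((singleFunctorIsoCompQ C j).inv.naturality u).symm
  rw [h1, Functor.map_comp, Category.assoc, h2]

/-- If `Hom(P, M[-a]) ⟶ Hom(P, M'[-a])` is injective for all monomorphisms `M ⟶ M'`, then
`P^{a+1}/B^{a+1}` is projective (for `P` K-projective with `P^{a+1}` projective). -/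
theorem projective_opcycles_of_injective_hom (P : CochainComplex C ℤ) [P.IsKProjective] (a : ℤ)
    (hP : Projective (P.X (a + 1)))
    (h : ∀ (M M' : C) (g : M ⟶ M'), Mono g → Function.Injective
       (fun x : Q.obj P ⟶ (DerivedCategory.singleFunctor C a).obj M =>
          x ≫ (DerivedCategory.singleFunctor C a).map g)) :
    Projective (P.opcycles (a + 1)) := by
  let I := Limits.image (P.d a (a + 1))
  let g : I ⟶ P.X (a + 1) := Limits.image.ι _
  let π : P.X a ⟶ I := factorThruImage _
  have hπg : π ≫ g = P.d a (a + 1) := image.fac _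
  have hd : P.d (a - 1) a ≫ π = 0 := by
    rw [← cancel_mono g, Category.assoc, hπg, zero_comp, P.d_comp_d]
  let f' : P.opcycles a ⟶ I := P.descOpcycles π (a - 1) (by simp) hd
  have hf' : P.pOpcycles a ≫ f' = π := P.p_descOpcycles _ _ _ _
  have hf'g : f' ≫ g = P.fromOpcycles a (a + 1) := by
    rw [← cancel_epi (P.pOpcycles a), reassoc_of% hf', hπg, p_fromOpcycles]
  have : Epi f' := epi_of_epi_fac hf'
  have hx : Q.map (toSingleOfOpcycles P a f') ≫ (singleIsoQ a I).inv = 0 := by
    apply h I (P.X (a + 1)) g inferInstance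
    dsimp only
    rw [Category.assoc, Q_map_toSingleOfOpcycles_comp, hf'g, zero_comp]
    obtain ⟨hh⟩ := nonempty_homotopy_toSingleOfOpcycles_fromOpcycles P a
    rw [DerivedCategory.Q_map_eq_of_homotopy (h := hh), Functor.map_zero, zero_comp]
  have hx' : Q.map (toSingleOfOpcycles P a f') = Q.map 0 := by
    rw [← cancel_mono (singleIsoQ a I).inv, hx, Functor.map_zero, zero_comp]
  obtain ⟨hh⟩ := exists_homotopy_of_Q_map_eq _ _ hx'
  obtain ⟨r, hr⟩ := exists_extension_of_homotopy P a f' hh
  have hgr : g ≫ r = 𝟙 I := by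
    rw [← cancel_epi f', reassoc_of% hf'g, hr, Category.comp_id]
  have h0 : P.d a (a + 1) ≫ (𝟙 _ - r ≫ g) = 0 := by
    rw [← hπg, Category.assoc, Preadditive.comp_sub, Category.comp_id, reassoc_of% hgr, sub_self,
      comp_zero]
  let s : P.opcycles (a + 1) ⟶ P.X (a + 1) := P.descOpcycles (𝟙 _ - r ≫ g) a (by simp) h0
  have hs : s ≫ P.pOpcycles (a + 1) = 𝟙 _ := by
    rw [← cancel_epi (P.pOpcycles (a + 1)), p_descOpcycles_assoc, Preadditive.sub_comp,
      Category.id_comp, Category.assoc, Category.comp_id]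
    have : g ≫ P.pOpcycles (a + 1) = 0 := by
      rw [← cancel_epi π, reassoc_of% hπg, d_pOpcycles, comp_zero]
    rw [this, comp_zero, sub_zero]
  exact (Retract.mk s (P.pOpcycles (a + 1)) hs).projective

end H

end Groth.Agent.Lib.Helper13.PC
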