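import Groth.Agent.Lib.Helper13.DRingLocalSplit
import Groth.Agent.Lib.Helper13.DRingLDerived
import Groth.Agent.Lib.Helper13.DRingFlatBC
import Groth.Agent.Lib.Helper13.PCProj
import Groth.Agent.Lib.Helper13.DRingProj

/-!
# Pseudo-coherence and derived base change
-/

set_option autoImplicit false
universe u v w
open CategoryTheory CategoryTheory.Limits TensorProduct

namespace Groth.Agent.Lib.Helper13.PC

open DerivedCategory CochainComplex HomologicalComplex

variable {C : Type u} [Category.{v} C] [Abelian C] [HasDerivedCategory.{w} C]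

/-- If the mapping cone of `g` is exact in degrees `≥ m` then `g` is an `m`-quasi-isomorphism. -/
lemma nQuasiIso_of_exactAt_mappingCone {K L : CochainComplex C ℤ} (g : K ⟶ L) (m : ℤ)
    (h : ∀ i : ℤ, m ≤ i → (mappingCone g).ExactAt i) :
    (∀ i : ℤ, m < i → IsIso (homologyMap g i)) ∧ Epi (homologyMap g m) := by
  have hT := mappingCone_triangle_distinguished g
  have hz : ∀ i : ℤ, m ≤ i →
      IsZero ((DerivedCategory.homologyFunctor C i).obj (Q.obj (mappingCone g))) := fun i hi =>
    IsZero.of_iso ((h i hi).isZero_homology) (homologyQIso _ i)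
  have hepi : ∀ i : ℤ, m ≤ i → Epi (homologyMap g i) := fun i hi => by
    rw [← epi_homologyFunctor_map_Q_iff]
    exact (HomologySequence.epi_homologyMap_mor₁_iff _ hT i).2 ((hz i hi).eq_of_tgt _ _)
  have hmono : ∀ i : ℤ, m < i → Mono (homologyMap g i) := fun i hi => by
    rw [← mono_homologyFunctor_map_Q_iff]
    exact (HomologySequence.mono_homologyMap_mor₁_iff _ hT (i - 1) i (by lia)).2
      ((hz (i - 1) (by lia)).eq_of_src _ _)
  refine ⟨fun i hi => ?_, hepi m le_rfl⟩
  have := hepi i hi.le
  have := hmono i hi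
  exact isIso_of_mono_of_epi _

end Groth.Agent.Lib.Helper13.PC

namespace Groth.Agent.Lib.Helper13.DR

open Groth.Agent.Lib.Helper13.PC
open DerivedCategory
attribute [local instance] HasDerivedCategory.standard

section Lin

variable {R : Type u} [CommRing R]

lemma lTensor_exact_of_rTensor_exact {M₁ M₂ M₃ : Type u} [AddCommGroup M₁] [AddCommGroup M₂]
    [AddCommGroup M₃] [Module R M₁] [Module R M₂] [Module R M₃]
    (d₁ : M₁ →ₗ[R] M₂) (d₂ : M₂ →ₗ[R] M₃) (N : Type u) [AddCommGroup N] [Module R N]
    (h : Function.Exact (d₁.rTensor N) (d₂.rTensor N)) :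
    Function.Exact (d₁.lTensor N) (d₂.lTensor N) := by
  intro y
  constructor
  · intro hy
    have h1 : d₂.rTensor N (TensorProduct.comm R N M₂ y) = 0 := by
      rw [LinearMap.rTensor_comm, hy, map_zero]
    obtain ⟨x, hx⟩ := (h _).1 h1
    refine ⟨TensorProduct.comm R M₁ N x, ?_⟩
    rw [LinearMap.lTensor_comm, hx]
    exact (TensorProduct.comm R N M₂).symm_apply_apply y
  · rintro ⟨x, rfl⟩
    apply (TensorProduct.comm R N M₃).injective
    rw [← LinearMap.rTensor_comm, ← LinearMap.rTensor_comm, map_zero]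
    exact (h _).2 ⟨_, rfl⟩

end Lin

section Partial

variable {R : Type u} [CommRing R]

/-- In a bounded above complex of flat modules which is exact in degrees `≥ m`, the boundaries
in degrees `≥ m` are flat. -/
lemma flat_range_of_acyclic_ge (C : DRing.Cx R) (c : ℤ) (hc : ∀ i : ℤ, c < i → IsZero (C.X i))
    (hfl : ∀ i : ℤ, Module.Flat R (C.X i)) (m : ℤ) (hac : ∀ i : ℤ, m ≤ i → C.ExactAt i)
    (i j : ℤ) (hij : i + 1 = j) (hj : m ≤ j) :
    Module.Flat R (LinearMap.range (C.d i j).hom) := by
  have key : ∀ (n : ℕ) (i j : ℤ), i + 1 = j → m ≤ j → c - n ≤ i →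
      Module.Flat R (LinearMap.range (C.d i j).hom) := by
    intro n
    induction n with
    | zero =>
      intro i j hij _ hi
      have : Subsingleton (C.X j) := ModuleCat.subsingleton_of_isZero (hc j (by lia))
      infer_instance
    | succ n ih =>
      intro i j hij hj hi
      refine flat_range_of_exact (C.d i j).hom (C.d j (j + 1)).hom
        ((exactAt_iff_function_exact C i j (j + 1) hij rfl).1 (hac j hj))
        (ih j (j + 1) rfl (by lia) (by push_cast at hi; lia)) (hfl j)
  exact key (c - i).toNat i j hij hj (by lia)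

/-- Partial Lemma A: a bounded above complex of flat modules exact in degrees `≥ m` stays exact in
degrees `≥ m` after tensoring. -/
theorem exactAt_tensorCx_of_acyclic_ge (C : DRing.Cx R) (c : ℤ)
    (hc : ∀ i : ℤ, c < i → IsZero (C.X i))
    (hfl : ∀ i : ℤ, Module.Flat R (C.X i)) (m : ℤ) (hac : ∀ i : ℤ, m ≤ i → C.ExactAt i)
    (N : ModuleCat.{u} R) (j : ℤ) (hj : m ≤ j) : ((tensorCx N).obj C).ExactAt j := by
  rw [exactAt_iff_function_exact _ (j - 1) j (j + 1) (by ring) rfl]
  have := rTensor_exact_of_flat_range (C.d (j - 1) j).hom (C.d j (j + 1)).hom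
    (C.d (j + 1) (j + 1 + 1)).hom
    ((exactAt_iff_function_exact C (j - 1) j (j + 1) (by ring) rfl).1 (hac j hj))
    ((exactAt_iff_function_exact C j (j + 1) (j + 1 + 1) rfl rfl).1 (hac (j + 1) (by lia)))
    (flat_range_of_acyclic_ge C c hc hfl m hac (j + 1) (j + 1 + 1) rfl (by lia)) N
  exact this

variable (A B : Type u) [CommRing A] [CommRing B] [Algebra A B]

/-- Partial Lemma A for base change. -/
theorem exactAt_extendCx_of_acyclic_ge (C : DRing.Cx A) (c : ℤ)
    (hc : ∀ i : ℤ, c < i → IsZero (C.X i))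
    (hfl : ∀ i : ℤ, Module.Flat A (C.X i)) (m : ℤ) (hac : ∀ i : ℤ, m ≤ i → C.ExactAt i)
    (j : ℤ) (hj : m ≤ j) : ((extendCx A B).obj C).ExactAt j := by
  rw [exactAt_extendCx_iff B C (j - 1) j (j + 1) (by ring) rfl]
  apply lTensor_exact_of_rTensor_exact
  exact rTensor_exact_of_flat_range (C.d (j - 1) j).hom (C.d j (j + 1)).hom
    (C.d (j + 1) (j + 1 + 1)).hom
    ((exactAt_iff_function_exact C (j - 1) j (j + 1) (by ring) rfl).1 (hac j hj))
    ((exactAt_iff_function_exact C j (j + 1) (j + 1 + 1) rfl rfl).1 (hac (j + 1) (by lia)))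
    (flat_range_of_acyclic_ge C c hc hfl m hac (j + 1) (j + 1 + 1) rfl (by lia)) B

open CochainComplex HomologicalComplex in
/-- Base change of an `m`-quasi-isomorphism from a bounded above finite free complex to a bounded
above flat complex exhibits the base change of the target as `m`-pseudo-coherent. -/
theorem isNPC_extendCx {E P : DRing.Cx A} (f : E ⟶ P) (m c : ℤ)
    (hcE : ∀ i : ℤ, c < i → IsZero (E.X i)) (hcP : ∀ i : ℤ, c < i → IsZero (P.X i))
    (hffE : ∀ i : ℤ, Pff A (E.X i)) (hflP : ∀ i : ℤ, Module.Flat A (P.X i))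
    (hiso : ∀ i : ℤ, m < i → IsIso (homologyMap f i)) (hepi : Epi (homologyMap f m)) :
    IsNPC (Pff B) m (Q.obj ((extendCx A B).obj P)) := by
  have hflE : ∀ i : ℤ, Module.Flat A (E.X i) := fun i => by
    have := (hffE i).1
    have := (hffE i).2
    infer_instance
  have hac : ∀ i : ℤ, m ≤ i → (mappingCone f).ExactAt i := fun i hi => by
    have h1 := hiso (i + 1) (by lia)
    refine exactAt_mappingCone f i (i + 1) rfl inferInstance ?_
    rcases hi.lt_or_eq with h' | h'
    · have := hiso i h'
      infer_instance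
    · subst h'; exact hepi
  have hzC : ∀ i : ℤ, c < i → IsZero ((mappingCone f).X i) := fun i hi => by
    rw [mappingCone.isZero_X_iff]
    exact ⟨hcE _ (by lia), hcP _ hi⟩
  have hac' : ∀ i : ℤ, m ≤ i → (mappingCone ((extendCx A B).map f)).ExactAt i := fun i hi =>
    (exactAt_extendCx_of_acyclic_ge A B (mappingCone f) c hzC (flat_mappingCone_X f hflE hflP) m hac
      i hi).of_iso (mappingCone.mapHomologicalComplexIso f
        (ModuleCat.extendScalars.{u, u, u} (algebraMap A B)))
  obtain ⟨h1, h2⟩ := nQuasiIso_of_exactAt_mappingCone ((extendCx A B).map f) m hac'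
  refine isNPC_Q_of_nQuasiIso Pff_prod (E := (extendCx A B).obj E) ⟨⟨c, fun i hi => ?_⟩, fun i _ => ?_⟩
    ((extendCx A B).map f) h1 h2
  · exact Functor.map_isZero (ModuleCat.extendScalars.{u, u, u} (algebraMap A B)) (hcE i hi)
  · exact Pff_extendScalars B (hffE i)

end Partial

end Groth.Agent.Lib.Helper13.DR
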