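import Groth.Agent.Lib.Helper13.SemiFree1
import Mathlib.Algebra.Homology.Refinements
import Mathlib.Algebra.Homology.QuasiIso
import Mathlib.Algebra.Category.ModuleCat.Abelian
import Mathlib.Algebra.Category.ModuleCat.Projective
import Mathlib.Algebra.Category.ModuleCat.EpiMono

/-!
# Quasi-isomorphisms of complexes of modules, elementwise
-/

set_option autoImplicit false
universe u
open CategoryTheory CategoryTheory.Limits

namespace Groth.Agent.Lib.Helper13.SF

open CochainComplex HomologicalComplex

variable {R : Type u} [Ring R]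

/-- The free cover of a module by the free module on its elements. -/
noncomputable def freeCover (A : ModuleCat.{u} R) : ModuleCat.of R (A →₀ R) ⟶ A :=
  ModuleCat.ofHom (Finsupp.linearCombination R id)

instance (A : ModuleCat.{u} R) : Epi (freeCover A) := by
  rw [ModuleCat.epi_iff_surjective]
  intro a
  exact ⟨Finsupp.single a 1, by simp [freeCover]⟩

/-- A morphism out of the free cover, defined on generators. -/
noncomputable def freeCoverDesc (A : ModuleCat.{u} R) {B : ModuleCat.{u} R} (v : A → B) :
    ModuleCat.of R (A →₀ R) ⟶ B :=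
  ModuleCat.ofHom (Finsupp.linearCombination R v)

lemma freeCover_hom_ext {A B : ModuleCat.{u} R} {f g : ModuleCat.of R (A →₀ R) ⟶ B}
    (h : ∀ a : A, f.hom (Finsupp.single a 1) = g.hom (Finsupp.single a 1)) : f = g := by
  apply ModuleCat.hom_ext
  apply Finsupp.lhom_ext'
  intro a
  apply LinearMap.ext_ring
  exact h a

@[simp]
lemma freeCoverDesc_single (A : ModuleCat.{u} R) {B : ModuleCat.{u} R} (v : A → B) (a : A) :
    (freeCoverDesc A v).hom (Finsupp.single a 1) = v a := by
  simp [freeCoverDesc]

@[simp]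
lemma freeCover_single (A : ModuleCat.{u} R) (a : A) :
    (freeCover A).hom (Finsupp.single a 1) = a := by
  simp [freeCover]

variable {P K : CochainComplex (ModuleCat.{u} R) ℤ} (f : P ⟶ K)

lemma mono_homologyMap_of_elementwise (n : ℤ)
    (h : ∀ x : P.X n, P.d n (n + 1) x = 0 → (∃ w : K.X (n - 1), f.f n x = K.d (n - 1) n w) →
      ∃ v : P.X (n - 1), P.d (n - 1) n v = x) : Mono (homologyMap f n) := by
  rw [mono_homologyMap_iff_up_to_refinements f (n - 1) n (n + 1) (by simp) (by simp)]
  intro A x₂ hx₂ y₁ hy₁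
  have key : ∀ a : A, ∃ v : P.X (n - 1), P.d (n - 1) n v = x₂ a := fun a => by
    refine h (x₂ a) ?_ ⟨y₁ a, ?_⟩
    · have := congrArg (fun φ => φ a) hx₂
      simpa using this
    · have := congrArg (fun φ => φ a) hy₁
      simpa using this
  choose v hv using key
  refine ⟨_, freeCover A, inferInstance, freeCoverDesc A v, ?_⟩
  apply freeCover_hom_ext
  intro a
  exact (congrArg x₂.hom (freeCover_single A a)).trans
    ((hv a).symm.trans (congrArg (P.d (n - 1) n).hom (freeCoverDesc_single A v a)).symm)

lemma epi_homologyMap_of_elementwise (n : ℤ)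
    (h : ∀ y : K.X n, K.d n (n + 1) y = 0 →
      ∃ x : P.X n, P.d n (n + 1) x = 0 ∧ ∃ w : K.X (n - 1), y = f.f n x + K.d (n - 1) n w) :
    Epi (homologyMap f n) := by
  rw [epi_homologyMap_iff_up_to_refinements f (n - 1) n (n + 1) (by simp) (by simp)]
  intro A y₂ hy₂
  have key : ∀ a : A, ∃ x : P.X n, P.d n (n + 1) x = 0 ∧
      ∃ w : K.X (n - 1), y₂ a = f.f n x + K.d (n - 1) n w := fun a => by
    refine h (y₂ a) ?_
    have := congrArg (fun φ => φ a) hy₂
    simpa using this
  choose x hx w hw using key
  refine ⟨_, freeCover A, inferInstance, freeCoverDesc A x, ?_, freeCoverDesc A w, ?_⟩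
  · apply freeCover_hom_ext
    intro a
    exact (congrArg (P.d n (n + 1)).hom (freeCoverDesc_single A x a)).trans (hx a)
  · apply freeCover_hom_ext
    intro a
    exact (congrArg y₂.hom (freeCover_single A a)).trans ((hw a).trans
      (congrArg₂ (· + ·) (congrArg (f.f n).hom (freeCoverDesc_single A x a)).symm
        (congrArg (K.d (n - 1) n).hom (freeCoverDesc_single A w a)).symm))

lemma quasiIso_of_elementwise
    (hinj : ∀ (n : ℤ) (x : P.X n), P.d n (n + 1) x = 0 →
      (∃ w : K.X (n - 1), f.f n x = K.d (n - 1) n w) → ∃ v : P.X (n - 1), P.d (n - 1) n v = x)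
    (hsurj : ∀ (n : ℤ) (y : K.X n), K.d n (n + 1) y = 0 →
      ∃ x : P.X n, P.d n (n + 1) x = 0 ∧ ∃ w : K.X (n - 1), y = f.f n x + K.d (n - 1) n w) :
    QuasiIso f := by
  rw [quasiIso_iff]
  intro n
  rw [quasiIsoAt_iff_isIso_homologyMap]
  have := mono_homologyMap_of_elementwise f n (hinj n)
  have := epi_homologyMap_of_elementwise f n (hsurj n)
  exact isIso_of_mono_of_epi _

end Groth.Agent.Lib.Helper13.SF
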