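import Groth.Agent.Lib.Helper13.DRingNilp
import Groth.Agent.Lib.Helper13.PCTriangle
import Groth.Agent.Lib.Helper13.SemiFree2
import Groth.Agent.Lib.Helper13.DRingPCBC

/-!
# Pseudo-coherence and nilpotent thickenings
-/

set_option autoImplicit false
universe u
open CategoryTheory CategoryTheory.Limits MonoidalCategory

namespace Groth.Agent.Lib.Helper13.DR

open Groth.Agent.Lib.Helper13.PC Groth.Agent.Lib.Helper13.SF
open DerivedCategory
attribute [local instance] HasDerivedCategory.standard

section LemmaV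

variable {R : Type u} [CommRing R]

/-- A K-projective complex acyclic above `c` stays acyclic above `c` after tensoring. -/
lemma isZero_homology_tensorCx_of_acyclic_gt (E : DRing.Cx R) [E.IsKProjective] (c : ℤ)
    (h : ∀ i : ℤ, c < i → IsZero (E.homology i)) (N : ModuleCat.{u} R) (i : ℤ) (hi : c < i) :
    IsZero (((tensorCx N).obj E).homology i) := by
  obtain ⟨P₂, hproj, hz, ⟨e₂⟩⟩ := exists_projective_rep (Q.obj E) c
    (fun j hj => (h j hj).of_iso (homologyQIso E j))
  have : P₂.IsKProjective := isKProjective_of_forall_projective P₂ c hz hproj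
  obtain ⟨e⟩ := nonempty_homology_tensorCx_iso e₂.symm N i
  refine IsZero.of_iso ?_ e
  exact (HomologicalComplex.ExactAt.of_isZero
    (Functor.map_isZero (tensorRight N) (hz i hi))).isZero_homology

end LemmaV

section Nilp

variable {R' R : Type u} [CommRing R'] [CommRing R] [Algebra R' R]

/-- Nilpotent descent of acyclicity above a degree. -/
theorem isZero_homology_of_extendCx_nilpotent (hφ : Function.Surjective (algebraMap R' R))
    (hnil : IsNilpotent (RingHom.ker (algebraMap R' R))) (P' : DRing.Cx R') [P'.IsKProjective]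
    (hfl : ∀ i : ℤ, Module.Flat R' (P'.X i)) (b : ℤ)
    (h : ∀ i : ℤ, b < i → IsZero (((extendCx R' R).obj P').homology i)) (i : ℤ) (hi : b < i) :
    IsZero (P'.homology i) := by
  have h1 : ∀ (N : ModuleCat.{u} R) (i : ℤ), b < i →
      IsZero (((tensorCx N).obj ((extendCx R' R).obj P')).homology i) := fun N i hi =>
    isZero_homology_tensorCx_of_acyclic_gt _ b h N i hi
  have h2 : ∀ (i : ℤ), b < i → ∀ (N : Type u) [AddCommGroup N] [Module R' N],
      (∀ a ∈ RingHom.ker (algebraMap R' R), ∀ x : N, a • x = 0) →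
      IsZero (((tensorCx (ModuleCat.of R' N)).obj P').homology i) := by
    intro i hi N _ _ hN
    obtain ⟨m, hm⟩ := exists_module_of_ker_smul_eq_zero R' R hφ N hN
    refine IsZero.of_iso (Functor.map_isZero (ModuleCat.restrictScalars.{u} (algebraMap R' R))
      (h1 (ModuleCat.of R N) i hi))
      ((HomologicalComplex.homologyFunctor _ _ i).mapIso (projCxIso R' R N P').symm ≪≫
        restrictCxHomologyIso (algebraMap R' R) _ i)
  have h3 : IsZero (((tensorCx (𝟙_ (ModuleCat.{u} R'))).obj P').homology i) :=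
    isZero_homology_tensorCx_of_nilpotent P' hfl _ hnil i (h2 i hi) _
  exact h3.of_iso ((HomologicalComplex.homologyFunctor _ _ i).mapIso (tensorCxUnitIso P').symm)

end Nilp

section Generators

variable {R : Type u} [Ring R]

/-- Finite generation of the homology of a short complex of modules, elementwise. -/
lemma exists_generators_of_finite_homology_sc (S : ShortComplex (ModuleCat.{u} R))
    (hfin : Module.Finite R S.homology) :
    ∃ (n : ℕ) (y : Fin n → S.X₂), (∀ j, S.g (y j) = 0) ∧ ∀ y' : S.X₂, S.g y' = 0 →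
      ∃ (b : Fin n → R) (w : S.X₁), y' = ∑ j, b j • y j + S.f w := by
  have hfin' : Module.Finite R
      (LinearMap.ker S.g.hom ⧸ LinearMap.range S.moduleCatToCycles) :=
    Module.Finite.equiv S.moduleCatHomologyIso.toLinearEquiv
  obtain ⟨n, s, hs⟩ := Module.Finite.exists_fin (R := R)
    (M := LinearMap.ker S.g.hom ⧸ LinearMap.range S.moduleCatToCycles)
  have hsurj : Function.Surjective (LinearMap.range S.moduleCatToCycles).mkQ :=
    Submodule.mkQ_surjective _
  choose ζ hζ using fun j => hsurj (s j)
  refine ⟨n, fun j => (ζ j).1, fun j => (ζ j).2, fun y' hy' => ?_⟩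
  have hmem : (LinearMap.range S.moduleCatToCycles).mkQ ⟨y', hy'⟩ ∈
      Submodule.span R (Set.range s) := by rw [hs]; trivial
  obtain ⟨b, hb⟩ := (Submodule.mem_span_range_iff_exists_fun R).1 hmem
  have h1 : (LinearMap.range S.moduleCatToCycles).mkQ (⟨y', hy'⟩ - ∑ j, b j • ζ j) = 0 := by
    rw [map_sub, map_sum, ← hb, sub_eq_zero]
    refine Finset.sum_congr rfl fun j _ => ?_
    rw [map_smul, hζ]
  rw [Submodule.mkQ_apply, Submodule.Quotient.mk_eq_zero] at h1
  obtain ⟨w, hw⟩ := h1
  refine ⟨b, w, ?_⟩
  have h2 := congrArg Subtype.val hw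
  simp only [LinearMap.codRestrict_apply, Submodule.coe_sub, Submodule.coe_sum,
    Submodule.coe_smul] at h2
  rw [h2]
  abel

lemma exists_generators_of_finite_homology (K : CochainComplex (ModuleCat.{u} R) ℤ) (c : ℤ)
    (hfin : Module.Finite R (K.homology c)) :
    ∃ (n : ℕ) (y : Fin n → K.X c), (∀ j, K.d c (c + 1) (y j) = 0) ∧
      ∀ y' : K.X c, K.d c (c + 1) y' = 0 →
        ∃ (b : Fin n → R) (w : K.X (c - 1)), y' = ∑ j, b j • y j + K.d (c - 1) c w := by
  have e : K.homology c ≅ (K.sc' (c - 1) c (c + 1)).homology :=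
    ShortComplex.homologyMapIso (K.isoSc' (c - 1) c (c + 1) (by simp) (by simp))
  have hfin' : Module.Finite R (K.sc' (c - 1) c (c + 1)).homology :=
    Module.Finite.equiv e.toLinearEquiv
  exact exists_generators_of_finite_homology_sc (K.sc' (c - 1) c (c + 1)) hfin'

end Generators

section Lift

variable {A : Type u} [CommRing A] (B : Type u) [CommRing B] [Algebra A B]

open TensorProduct in
/-- The element `1 ⊗ m` of the extension of scalars. -/
noncomputable def oneT (M : ModuleCat.{u} A) (m : M) :
    (ModuleCat.extendScalars.{u, u, u} (algebraMap A B)).obj M :=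
  (extendScalarsEquiv B M).symm ((1 : B) ⊗ₜ[A] m)

open TensorProduct in
lemma exists_oneT (hφ : Function.Surjective (algebraMap A B)) (M : ModuleCat.{u} A)
    (z : (ModuleCat.extendScalars.{u, u, u} (algebraMap A B)).obj M) :
    ∃ m : M, z = oneT B M m := by
  have key : ∀ t : B ⊗[A] M, ∃ m : M, t = (1 : B) ⊗ₜ[A] m := by
    intro t
    induction t using TensorProduct.induction_on with
    | zero => exact ⟨0, (TensorProduct.tmul_zero _ _).symm⟩
    | tmul s m =>
      obtain ⟨a, rfl⟩ := hφ s
      refine ⟨a • m, ?_⟩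
      rw [← TensorProduct.smul_tmul, Algebra.algebraMap_eq_smul_one]
    | add x y hx hy =>
      obtain ⟨m₁, rfl⟩ := hx
      obtain ⟨m₂, rfl⟩ := hy
      exact ⟨m₁ + m₂, (TensorProduct.tmul_add _ _ _).symm⟩
  obtain ⟨m, hm⟩ := key (extendScalarsEquiv B M z)
  exact ⟨m, ((extendScalarsEquiv B M).symm_apply_apply z).symm.trans
    (congrArg (extendScalarsEquiv B M).symm hm)⟩

lemma map_oneT {M N : ModuleCat.{u} A} (l : M ⟶ N) (m : M) :
    ((ModuleCat.extendScalars.{u, u, u} (algebraMap A B)).map l).hom (oneT B M m) =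
      oneT B N (l.hom m) := by
  apply (extendScalarsEquiv B N).injective
  rw [extendScalarsEquiv_naturality]
  unfold oneT
  rw [LinearEquiv.apply_symm_apply, LinearEquiv.apply_symm_apply]
  rfl

variable {B}

open HomologicalComplex in
/-- If the top cohomology of the base change of `P` is finitely generated, there is a map from a
finite free module placed in the top degree inducing a surjection on top cohomology after base
change. -/
theorem exists_single_map_epi (hφ : Function.Surjective (algebraMap A B)) (P : DRing.Cx A)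
    (c : ℤ) (hz : ∀ i : ℤ, c < i → IsZero (P.X i))
    (hfin : Module.Finite B (((extendCx A B).obj P).homology c)) :
    ∃ (n : ℕ) (f : (single (ModuleCat.{u} A) (ComplexShape.up ℤ) c).obj
        (ModuleCat.of A (Fin n → A)) ⟶ P),
      Epi (homologyMap ((extendCx A B).map f) c) := by
  obtain ⟨n, y, hy, hgen⟩ := exists_generators_of_finite_homology _ c hfin
  choose p hp using fun j => exists_oneT B hφ (P.X c) (y j)
  let M₀ : ModuleCat.{u} A := ModuleCat.of A (Fin n → A)
  let g₀ : M₀ ⟶ P.X c := ModuleCat.ofHom (Fintype.linearCombination A p)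
  let f : (single (ModuleCat.{u} A) (ComplexShape.up ℤ) c).obj M₀ ⟶ P :=
    mkHomFromSingle g₀ (fun k hk => (hz k (by simp at hk; lia)).eq_of_tgt _ _)
  refine ⟨n, f, epi_homologyMap_of_elementwise _ c (fun y' hy' => ?_)⟩
  obtain ⟨b, w, hbw⟩ := hgen y' hy'
  let e : Fin n → ((single (ModuleCat.{u} A) (ComplexShape.up ℤ) c).obj M₀).X c := fun j =>
    (singleObjXSelf (ComplexShape.up ℤ) c M₀).inv (Pi.single j (1 : A) : Fin n → A)
  let x : ((extendCx A B).obj ((single (ModuleCat.{u} A) (ComplexShape.up ℤ) c).obj M₀)).X c :=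
    ∑ j, b j • oneT B _ (e j)
  have hzero : IsZero (((extendCx A B).obj
      ((single (ModuleCat.{u} A) (ComplexShape.up ℤ) c).obj M₀)).X (c + 1)) :=
    Functor.map_isZero (ModuleCat.extendScalars.{u, u, u} (algebraMap A B))
      (isZero_single_obj_X (ComplexShape.up ℤ) c M₀ (c + 1) (by lia))
  have hfe : ∀ j, (f.f c).hom (e j) = p j := fun j => by
    have h1 : f.f c = (singleObjXSelf (ComplexShape.up ℤ) c M₀).hom ≫ g₀ := mkHomFromSingle_f _ _
    rw [h1]
    change g₀ ((singleObjXSelf (ComplexShape.up ℤ) c M₀).hom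
      ((singleObjXSelf (ComplexShape.up ℤ) c M₀).inv (Pi.single j (1 : A) : Fin n → A))) = _
    rw [Iso.inv_hom_id_apply]
    change Fintype.linearCombination A p (Pi.single j (1 : A)) = p j
    rw [Fintype.linearCombination_apply_single, one_smul]
  refine ⟨x, ?_, w, ?_⟩
  · have := ModuleCat.subsingleton_of_isZero hzero
    exact Subsingleton.elim _ _
  · rw [hbw]
    congr 1
    change _ = ((ModuleCat.extendScalars.{u, u, u} (algebraMap A B)).map (f.f c)).hom
      (∑ j, b j • oneT B _ (e j))
    rw [map_sum]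
    refine Finset.sum_congr rfl fun j _ => ?_
    rw [map_smul, hp j, map_oneT, hfe]
    rfl

end Lift

section Main

variable {A : Type u} [CommRing A] (B : Type u) [CommRing B] [Algebra A B]

/-- The derived base change of `X` is pseudo-coherent (computed via a K-projective
representative). -/
def BCPC (X : DerivedCategory (ModuleCat.{u} A)) : Prop :=
  ∃ (P : DRing.Cx A), P.IsKProjective ∧ Nonempty (Q.obj P ≅ X) ∧
    ∀ m : ℤ, IsNPC (Pff B) m (Q.obj ((extendCx A B).obj P))

variable {B}

lemma BCPC.of_rep {X : DerivedCategory (ModuleCat.{u} A)} (h : BCPC B X) (P : DRing.Cx A)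
    [P.IsKProjective] (e : Q.obj P ≅ X) (m : ℤ) :
    IsNPC (Pff B) m (Q.obj ((extendCx A B).obj P)) := by
  obtain ⟨P₀, hK, ⟨e₀⟩, hP₀⟩ := h
  obtain ⟨h⟩ := nonempty_homotopyEquiv_of_iso (e₀ ≪≫ e.symm)
  let h' : HomotopyEquiv ((extendCx A B).obj P₀) ((extendCx A B).obj P) :=
    Functor.mapHomotopyEquiv (c := ComplexShape.up ℤ)
      (ModuleCat.extendScalars.{u, u, u} (algebraMap A B)) h
  have : QuasiIso h'.hom := inferInstance
  exact (hP₀ m).of_iso (asIso (Q.map h'.hom))

lemma projective_mappingCone_X {F F' : DRing.Cx A} (f : F ⟶ F')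
    (hF : ∀ i : ℤ, Projective (F.X i)) (hF' : ∀ i : ℤ, Projective (F'.X i)) (i : ℤ) :
    Projective ((CochainComplex.mappingCone f).X i) := by
  have := HomologicalComplex.HasHomotopyCofiber.hasBinaryBiproduct f i (i + 1) rfl
  have := hF (i + 1)
  have := hF' i
  exact Projective.of_iso (HomologicalComplex.homotopyCofiber.XIsoBiprod f i (i + 1) rfl).symm
    inferInstance

open HomologicalComplex CochainComplex in
theorem isNPC_of_BCPC (hφ : Function.Surjective (algebraMap A B))
    (hnil : IsNilpotent (RingHom.ker (algebraMap A B))) :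
    ∀ (k : ℕ) (X : DerivedCategory (ModuleCat.{u} A)) (c : ℤ),
      (∀ i : ℤ, c < i → IsZero ((DerivedCategory.homologyFunctor _ i).obj X)) → BCPC B X →
      IsNPC (Pff A) (c + 1 - k) X := by
  intro k
  induction k with
  | zero =>
    intro X c hc _
    exact isNPC_of_acyclic (fun i hi => hc i (by simp at hi; lia))
  | succ k ih =>
    intro X c hc hX
    obtain ⟨P, hproj, hzP, ⟨e⟩⟩ := exists_projective_rep X c hc
    have hKP : P.IsKProjective := isKProjective_of_forall_projective P c hzP hproj
    have hPC := hX.of_rep P e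
    have hzE : ∀ i : ℤ, c < i → IsZero (((extendCx A B).obj P).X i) := fun i hi =>
      Functor.map_isZero (ModuleCat.extendScalars.{u, u, u} (algebraMap A B)) (hzP i hi)
    have hfin : Module.Finite B (((extendCx A B).obj P).homology c) := by
      have := isOfFiniteType_homology_of_isNPC hqs_Pff (hPC c) (fun i hi =>
        IsZero.of_iso ((ExactAt.of_isZero (hzE i hi)).isZero_homology) (homologyQIso _ i))
      exact (isOfFiniteType_Pff_iff _).1 (isOfFiniteType_of_iso _ (homologyQIso _ c) this)
    obtain ⟨n, f, hf⟩ := exists_single_map_epi hφ P c hzP hfin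
    let M₀ : ModuleCat.{u} A := ModuleCat.of A (Fin n → A)
    have hM₀ : Pff A M₀ := ⟨inferInstance, inferInstance⟩
    let S : DRing.Cx A := (single (ModuleCat.{u} A) (ComplexShape.up ℤ) c).obj M₀
    have hSX : ∀ i : ℤ, Pff A (S.X i) := fun i => by
      by_cases h : i = c
      · subst h
        exact ((Pff A).prop_iff_of_iso (singleObjXSelf _ i M₀)).2 hM₀
      · exact (Pff A).prop_of_isZero (isZero_single_obj_X _ c M₀ i h)
    have hSz : ∀ i : ℤ, c < i → IsZero (S.X i) := fun i hi =>
      isZero_single_obj_X _ c M₀ i (by lia)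
    have hS : ∀ m : ℤ, IsNPC (Pff A) m (Q.obj S) := fun m =>
      isNPC_Q (isStrictPC_of_forall hSz hSX m)
    have hSB : ∀ m : ℤ, IsNPC (Pff B) m (Q.obj ((extendCx A B).obj S)) := fun m =>
      isNPC_Q (isStrictPC_of_forall (b := c)
        (fun i hi => Functor.map_isZero (ModuleCat.extendScalars.{u, u, u} (algebraMap A B))
          (hSz i hi))
        (fun i => Pff_extendScalars B (hSX i)) m)
    have hSproj : ∀ i : ℤ, Projective (S.X i) := fun i => projective_of_Pfp (Pff_le_Pfp (hSX i))
    let C : DRing.Cx A := mappingCone f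
    have hCz : ∀ i : ℤ, c < i → IsZero (C.X i) := fun i hi => by
      rw [mappingCone.isZero_X_iff]
      exact ⟨hSz _ (by lia), hzP _ hi⟩
    have hCproj : ∀ i : ℤ, Projective (C.X i) := projective_mappingCone_X f hSproj hproj
    have hCK : C.IsKProjective := isKProjective_of_forall_projective C c hCz hCproj
    have hCfl : ∀ i : ℤ, Module.Flat A (C.X i) := fun i => by
      have := (projective_iff _).1 (hCproj i)
      infer_instance
    let iC := mappingCone.mapHomologicalComplexIso f
      (ModuleCat.extendScalars.{u, u, u} (algebraMap A B))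
    have hEC : ∀ m : ℤ, IsNPC (Pff B) m (Q.obj ((extendCx A B).obj C)) := fun m =>
      (isNPC_obj₃ Pff_prod hqs_Pff hql_Pff _
        (mappingCone_triangle_distinguished ((extendCx A B).map f)) (hSB (m + 1)) (hPC m)).of_iso
        (Q.mapIso iC.symm)
    have hac : ∀ i : ℤ, c - 1 < i → IsZero (((extendCx A B).obj C).homology i) := fun i hi => by
      rcases (show c ≤ i by lia).lt_or_eq with h | h
      · exact (ExactAt.of_isZero (Functor.map_isZero
          (ModuleCat.extendScalars.{u, u, u} (algebraMap A B)) (hCz i h))).isZero_homology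
      · subst h
        have hmono : Mono (homologyMap ((extendCx A B).map f) (c + 1)) := by
          have hz : IsZero (((extendCx A B).obj S).homology (c + 1)) :=
            (ExactAt.of_isZero (Functor.map_isZero
              (ModuleCat.extendScalars.{u, u, u} (algebraMap A B))
              (hSz (c + 1) (by lia)))).isZero_homology
          exact ⟨fun _ _ _ => hz.eq_of_tgt _ _⟩
        exact ((exactAt_mappingCone ((extendCx A B).map f) c (c + 1) rfl hmono hf).of_iso
          iC.symm).isZero_homology
    have hacC : ∀ i : ℤ, c - 1 < i → IsZero (C.homology i) :=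
      isZero_homology_of_extendCx_nilpotent hφ hnil C hCfl (c - 1) hac
    have hIH := ih (Q.obj C) (c - 1) (fun i hi => (hacC i hi).of_iso (homologyQIso _ i))
      ⟨C, hCK, ⟨Iso.refl _⟩, hEC⟩
    have hIH' : IsNPC (Pff A) (c + 1 - (k + 1 : ℕ)) (Q.obj C) := by
      have : (c + 1 - ((k + 1 : ℕ) : ℤ)) = c - 1 + 1 - (k : ℤ) := by push_cast; ring
      rw [this]
      exact hIH
    exact (isNPC_obj₂ Pff_prod hqs_Pff hql_Pff _ (mappingCone_triangle_distinguished f) (hS _)
      hIH').of_iso e

/-- Nilpotent descent of pseudo-coherence, chain level. -/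
theorem isPC_of_extendCx_nilpotent (hφ : Function.Surjective (algebraMap A B))
    (hnil : IsNilpotent (RingHom.ker (algebraMap A B))) (P' : DRing.Cx A) [P'.IsKProjective]
    (hproj : ∀ i : ℤ, Projective (P'.X i))
    (h : ∀ m : ℤ, IsNPC (Pff B) m (Q.obj ((extendCx A B).obj P'))) (m : ℤ) :
    IsNPC (Pff A) m (Q.obj P') := by
  have hfl : ∀ i : ℤ, Module.Flat A (P'.X i) := fun i => by
    have := (projective_iff _).1 (hproj i)
    infer_instance
  obtain ⟨c₀, hc₀⟩ := exists_bound_of_isNPC (h 0)
  have hc : ∀ i : ℤ, c₀ < i → IsZero (P'.homology i) :=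
    isZero_homology_of_extendCx_nilpotent hφ hnil P' hfl c₀
      (fun i hi => (hc₀ i hi).of_iso (homologyQIso _ i).symm)
  have := isNPC_of_BCPC hφ hnil (c₀ + 1 - m).toNat (Q.obj P') c₀
    (fun i hi => (hc i hi).of_iso (homologyQIso _ i)) ⟨P', inferInstance, ⟨Iso.refl _⟩, h⟩
  exact this.of_le (by lia)

end Main

end Groth.Agent.Lib.Helper13.DR
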