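import Groth.Agent.Lib.Helper13.HomTensorKProj
import Groth.Agent.Lib.Helper13.PCProj
import Groth.Agent.Lib.Helper13.PCInj
import Groth.Agent.Lib.Helper13.SemiFree4
import Groth.Prelude.Def_DTen

/-!
# K-projective complexes are K-flat
-/

set_option autoImplicit false
universe u
open CategoryTheory CategoryTheory.Limits MonoidalCategory
open CochainComplex CochainComplex.HomComplex HomologicalComplex

namespace Groth.Agent.Lib.Helper13.HT

open Groth.Agent.Lib.Helper13.PC

section General

variable {C : Type*} [Category C] [Abelian C]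

/-- For `M` acyclic and `J` K-injective, every cocycle `M ⟶ J` is a coboundary. -/
lemma exists_δ_eq_of_isKInjective (M J : CochainComplex C ℤ) [J.IsKInjective] (hM : M.Acyclic)
    (n m : ℤ) (hm : m + 1 = n) (z : Cochain M J n) (hz : δ n (n + 1) z = 0) :
    ∃ w : Cochain M J m, δ m n w = z := by
  let c : Cocycle M J n := Cocycle.mk z (n + 1) rfl hz
  have h0 : CohomologyClass.toHom (CohomologyClass.mk c) = 0 := by
    apply IsKInjective.rightOrthogonal (J⟦n⟧)
    rw [HomotopyCategory.quotient_obj_mem_subcategoryAcyclic_iff_acyclic]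
    exact hM
  rw [CohomologyClass.toHom_mk_eq_zero_iff, mem_coboundaries_iff c m hm] at h0
  exact h0

end General

section Modules

variable {A : Type u} [CommRing A]

/-- `Hom(M, J)` is acyclic for `M` acyclic and `J` K-injective. -/
lemma acyclic_homCx_of_isKInjective (M J : DRing.Cx A) [J.IsKInjective] (hM : M.Acyclic) :
    (DRing.homCx M J).Acyclic := by
  intro n
  rw [exactAt_iff_forall _ (n - 1) n (n + 1) (by omega) rfl]
  intro z hz
  exact exists_δ_eq_of_isKInjective M J hM n (n - 1) (by omega) z hz

end Modules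


section KFlat

variable {A : Type u} [CommRing A]

/-- If `Hom(M, Z)` is acyclic and `P` is K-projective, every map `P ⊗ M ⟶ Z` is null-homotopic. -/
lemma nonempty_homotopy_zero_of_acyclic_homCx (P M Z : DRing.Cx A) [P.IsKProjective]
    (h : (DRing.homCx M Z).Acyclic) (f : P ⊗ M ⟶ Z) : Nonempty (Homotopy f 0) := by
  have hδ : δ 0 1 (curry (Cochain.ofHom f)) = 0 := by
    rw [← curry_δ P M Z 0 1 rfl, δ_ofHom]
    exact (curryEquiv (K := P) (L := M) (M := Z) 1).map_zero
  let c : Cocycle P (DRing.homCx M Z) 0 := Cocycle.mk _ 1 rfl hδ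
  let g : P ⟶ DRing.homCx M Z := Cocycle.homOf c
  have hg : Cochain.ofHom g = curry (Cochain.ofHom f) := Cocycle.cochain_ofHom_homOf_eq_coe c
  obtain ⟨w, hw⟩ := exists_δ_of_homotopy_zero g (IsKProjective.homotopyZero g h)
  refine nonempty_homotopy_zero_of_δ f (uncurry w) ?_
  rw [← uncurry_δ (-1) 0 (by omega), hw, hg, uncurry_curry]

lemma isKInjective_single_of_injective (I : ModuleCat.{u} A) [Injective I] (n : ℤ) :
    CochainComplex.IsKInjective
      ((HomologicalComplex.single (ModuleCat.{u} A) (ComplexShape.up ℤ) n).obj I) := by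
  refine isKInjective_of_forall_injective _ n (fun i hi => ?_) (fun i => ?_)
  · exact isZero_single_obj_X (ComplexShape.up ℤ) n I i (by omega)
  · by_cases hi : i = n
    · subst hi
      exact Injective.of_iso (singleObjXSelf (ComplexShape.up ℤ) i I).symm inferInstance
    · exact (isZero_single_obj_X (ComplexShape.up ℤ) n I i hi).injective

/-- **K-projective complexes are K-flat** (tensoring on the right by an acyclic complex). -/
theorem isZero_homology_tensor_of_isKProjective (P M : DRing.Cx A) [P.IsKProjective]
    (hM : ∀ i : ℤ, IsZero (M.homology i)) (n : ℤ) : IsZero ((P ⊗ M).homology n) := by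
  have hM' : M.Acyclic := fun i => by
    rw [HomologicalComplex.exactAt_iff_isZero_homology]
    exact hM i
  let X : DRing.Cx A := P ⊗ M
  let I := Injective.under (X.homology n)
  let ι : X.homology n ⟶ I := Injective.ι _
  let g : X.opcycles n ⟶ I := Injective.factorThru ι (X.homologyι n)
  have hg : X.homologyι n ≫ g = ι := Injective.comp_factorThru _ _
  have := isKInjective_single_of_injective I n
  obtain ⟨H⟩ := nonempty_homotopy_zero_of_acyclic_homCx P M _
    (acyclic_homCx_of_isKInjective M _ hM') (toSingleOfOpcycles X n g)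
  have hm : Mono (homologyMap (toSingleOfOpcycles X n g) n) :=
    mono_homologyMap_toSingleOfOpcycles X n g (by rw [hg]; infer_instance)
  rw [H.homologyMap_eq n, homologyMap_zero] at hm
  exact @IsZero.of_mono_zero _ _ _ _ _ hm

end KFlat


section KFlat2

variable {A : Type u} [CommRing A]

/-- **K-projective complexes are K-flat**. -/
theorem isKFlat_of_isKProjective (P : DRing.Cx A) [P.IsKProjective] :
    ∀ M : DRing.Cx A, (∀ i : ℤ, IsZero (M.homology i)) → ∀ i : ℤ, IsZero ((M ⊗ P).homology i) :=
  fun M hM i => (isZero_homology_tensor_of_isKProjective P M hM i).of_iso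
    ((HomologicalComplex.homologyFunctor _ _ i).mapIso (DTen.braidCx M P))

end KFlat2

section Surjective

open Groth.Agent.Lib.Helper13.SF

variable {R : Type u} [Ring R] {K : CochainComplex (ModuleCat.{u} R) ℤ}

/-- Any element of `K` whose differential lifts to a cycle of the stage is hit in the next stage. -/
lemma Stage.exists_preimage (s : Stage K) (m n : ℤ) (hmn : m + (-1) = n) (y : K.X n)
    (z : s.P.X m) (hz : s.P.d m (m + 1) z = 0) (hy : s.f.f m z = K.d n m y) :
    ∃ x : s.next.P.X n, s.next.f.f n x = y := by
  subst hmn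
  let c : Cell s m := ⟨(z, y), hz, hy⟩
  refine ⟨((mappingCone.inl (attach s)).v m (m + (-1)) rfl).hom (Finsupp.single c 1), ?_⟩
  have h1 := mappingCone.inl_v_desc_f (attach s) (nullH s) s.f (δ_nullH s) m (m + (-1)) rfl
  have h2 := congrArg (fun φ => φ.hom (Finsupp.single c 1)) h1
  refine h2.trans ?_
  rw [nullH, freeCxCochain_v_single]

variable (K)

/-- The semi-free resolution is degreewise surjective. -/
lemma resMap_f_surjective (n : ℤ) : Function.Surjective ((resMap K).f n) := by
  intro y
  obtain ⟨z, hz, hzy⟩ := (stage K 0).exists_cycle (n + 1 + 1) (n + 1) (by omega)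
    ((K.d n (n + 1)).hom y) (by
      have := K.d_comp_d n (n + 1) (n + 1 + 1)
      exact congrArg (fun φ => φ.hom y) this)
  obtain ⟨x, hx⟩ := Stage.exists_preimage (stage K 1) (n + 1) n (by omega) y z hz hzy
  refine ⟨((resι K 2).f n).hom x, ?_⟩
  have h := resι_resMap K 2
  have h2 := congrArg (fun φ => (φ.f n).hom x) h
  exact h2.trans hx

end Surjective

end Groth.Agent.Lib.Helper13.HT
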