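import Groth.Agent.Lib.Helper13.DCNak4
import Groth.Agent.Lib.Helper13.DRingNilpPC
import Groth.Agent.Lib.Helper13.DRingLDerived
import Groth.Agent.Lib.Helper13.SemiFree4
import Groth.Agent.Lib.Helper13.KFlat1

set_option autoImplicit false
set_option linter.style.haveILetI false
universe u
open CategoryTheory CategoryTheory.Limits MonoidalCategory Pretriangulated
open CochainComplex HomologicalComplex

namespace Groth.Agent.Lib.Helper13.DCN

open Groth.Agent.Lib.Helper13.DV Groth.Agent.Lib.Helper13.DR Groth.Agent.Lib.Helper13.PC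
  Groth.Agent.Lib.Helper7.FComplete Groth.Agent.Lib.Helper7.DerivedCompleteMT
open DTen Groth.Agent.Lib.Helper13.SF Groth.Agent.Lib.Helper13.HT Groth.Agent.Lib.Helper13.DT

attribute [local instance] HasDerivedCategory.standard

variable {A : Type u} [CommRing A]

/-- The hypothesis of the chain-level derived Nakayama lemma, from vanishing mod `I`. -/
lemma hyp_of_quotient_vanishing (I : Ideal A) (P : DRing.Cx A) [P.IsKProjective]
    (hproj : ∀ i : ℤ, Projective (P.X i)) (b : ℤ)
    (h : ∀ i : ℤ, b < i → IsZero (((tensorCx (ModuleCat.of A (A ⧸ I))).obj P).homology i))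
    (N : ModuleCat.{u} A) (k : ℕ) (hN : ∀ x ∈ I ^ k, ∀ n : N, x • n = 0) (m : ℤ) (hm : b < m) :
    IsZero (((tensorCx N).obj P).homology m) :=
  isZero_homology_tensorCx_of_quotient_vanishing I P hproj b h k N hN m hm

section

variable (I : Ideal A) (hI : I.FG) [DRing.HasLTensor A (ModuleCat.of A (A ⧸ I))]
  (K : Dual.D A) (hc : DRing.IsDerivedComplete I K)

include hI hc in
/-- Derived Nakayama with a bound. -/
theorem isZero_Hi_of_LTensor (b : ℤ)
    (h : ∀ i : ℤ, b < i → IsZero ((Hi i).obj ((DRing.LTensor A (ModuleCat.of A (A ⧸ I))).obj K))) :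
    ∀ j : ℤ, b < j → IsZero ((Hi j).obj K) := by
  obtain ⟨P, hKP, hproj, ⟨eP⟩⟩ := exists_kprojective_rep K
  haveI := hKP
  have hP : KFlat P := isKFlat_of_isKProjective P
  let eL : (DRing.LTensor A (ModuleCat.of A (A ⧸ I))).obj K ≅
      DerivedCategory.Q.obj ((tensorCx (ModuleCat.of A (A ⧸ I))).obj P) :=
    (DRing.LTensor A (ModuleCat.of A (A ⧸ I))).mapIso eP.symm ≪≫
      LTensorIso (ModuleCat.of A (A ⧸ I)) P
  have h' : ∀ i : ℤ, b < i →
      IsZero (((tensorCx (ModuleCat.of A (A ⧸ I))).obj P).homology i) := fun i hi =>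
    (h i hi).of_iso ((homologyQIso _ i).symm ≪≫ (Hi i).mapIso eL.symm)
  exact isZero_Hi_of_hyp I hI K hc P hP eP b
    (fun N k hN m hm => hyp_of_quotient_vanishing I P hproj b h' N k hN m hm)

include hI hc in
/-- **Derived Nakayama** (S7055). -/
theorem isZero_of_isZero_LTensor
    (h0 : IsZero ((DRing.LTensor A (ModuleCat.of A (A ⧸ I))).obj K)) : IsZero K := by
  apply isZero_of_forall_isZero_homology
  intro j
  exact isZero_Hi_of_LTensor I hI K hc (j - 1) (fun i _ => Functor.map_isZero _ h0) j (by lia)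

omit hI hc in
/-- Right t-exactness of the derived tensor product with a module. -/
theorem isZero_Hi_LTensor_of_isZero_Hi (b : ℤ) (h : ∀ j : ℤ, b < j → IsZero ((Hi j).obj K)) :
    ∀ i : ℤ, b < i → IsZero ((Hi i).obj ((DRing.LTensor A (ModuleCat.of A (A ⧸ I))).obj K)) := by
  obtain ⟨P, hKP, hproj, ⟨eP⟩⟩ := exists_kprojective_rep K
  haveI := hKP
  let eL : (DRing.LTensor A (ModuleCat.of A (A ⧸ I))).obj K ≅
      DerivedCategory.Q.obj ((tensorCx (ModuleCat.of A (A ⧸ I))).obj P) :=
    (DRing.LTensor A (ModuleCat.of A (A ⧸ I))).mapIso eP.symm ≪≫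
      LTensorIso (ModuleCat.of A (A ⧸ I)) P
  have hPh : ∀ j : ℤ, b < j → IsZero (P.homology j) := fun j hj =>
    (h j hj).of_iso ((homologyQIso P j).symm ≪≫ (Hi j).mapIso eP)
  intro i hi
  exact (isZero_homology_tensorCx_of_acyclic_gt P b hPh _ i hi).of_iso
    ((Hi i).mapIso eL ≪≫ homologyQIso _ i)

end

end Groth.Agent.Lib.Helper13.DCN
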