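import Groth.Agent.Lib.Helper13.WhiskerCochain
import Groth.Agent.Lib.Helper13.KFlat1
import Groth.Agent.Lib.Helper13.DRingTor

/-!
# Tensoring with a K-flat complex preserves quasi-isomorphisms
-/

set_option autoImplicit false
universe u
open CategoryTheory CategoryTheory.Limits MonoidalCategory
open CochainComplex CochainComplex.HomComplex HomologicalComplex

namespace Groth.Agent.Lib.Helper13.HT

open Groth.Agent.Lib.Helper13.PC Groth.Agent.Lib.Helper13.DR Groth.Agent.Lib.Helper13.SF

attribute [local instance] HasDerivedCategory.standard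

variable {A : Type u} [CommRing A]

/-- K-flatness, in the form used by the statements. -/
abbrev KFlat (K : DRing.Cx A) : Prop :=
  ∀ L : DRing.Cx A, (∀ i : ℤ, IsZero (L.homology i)) → ∀ i : ℤ, IsZero ((L ⊗ K).homology i)

/-- Tensoring on the right with a K-flat complex preserves quasi-isomorphisms. -/
theorem quasiIso_whiskerRight_of_kflat (K : DRing.Cx A) (hK : KFlat K) {L₁ L₂ : DRing.Cx A}
    (f : L₁ ⟶ L₂) [QuasiIso f] : QuasiIso (f ▷ K) := by
  apply quasiIso_of_acyclic_mappingCone
  intro i
  rw [exactAt_iff_isZero_homology]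
  refine IsZero.of_iso (hK (mappingCone f) (fun j => ?_) i)
    ((HomologicalComplex.homologyFunctor _ _ i).mapIso (coneWhiskIso f K))
  rw [← exactAt_iff_isZero_homology]
  exact exactAt_mappingCone f j (j + 1) rfl inferInstance inferInstance

lemma whiskerLeft_eq_braid (L : DRing.Cx A) {P Q : DRing.Cx A} (α : P ⟶ Q) :
    L ◁ α = (DTen.braidCx L P).hom ≫ (α ▷ L) ≫ (DTen.braidCx L Q).inv := by
  have h := DTen.braidCx_naturality (𝟙 L) α
  rw [id_tensorHom, tensorHom_id] at h
  rw [← Category.assoc, ← h, Category.assoc, Iso.hom_inv_id, Category.comp_id]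

/-- A quasi-isomorphism between K-flat complexes stays a quasi-isomorphism after tensoring on the
left with any complex. -/
theorem quasiIso_whiskerLeft_of_kflat {P Q : DRing.Cx A} (α : P ⟶ Q) (hP : KFlat P) (hQ : KFlat Q)
    [QuasiIso α] (L : DRing.Cx A) : QuasiIso (L ◁ α) := by
  have h1 : QuasiIso (res L ◁ α) := by
    have := quasiIso_whiskerRight_of_kflat (res L) (isKFlat_of_isKProjective (res L)) α
    rw [whiskerLeft_eq_braid]
    infer_instance
  have h2 := quasiIso_whiskerRight_of_kflat P hP (resMap L)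
  have h3 := quasiIso_whiskerRight_of_kflat Q hQ (resMap L)
  have e : (resMap L ▷ P) ≫ (L ◁ α) = (res L ◁ α) ≫ (resMap L ▷ Q) :=
    (whisker_exchange (resMap L) α).symm
  have h4 : QuasiIso ((resMap L ▷ P) ≫ (L ◁ α)) := by
    rw [e]
    infer_instance
  exact quasiIso_of_comp_left (resMap L ▷ P) (L ◁ α)

end Groth.Agent.Lib.Helper13.HT
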