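import Groth.Agent.Lib.Helper13.RHomModel3
import Mathlib.Algebra.Homology.DerivedCategory.HomologySequence

/-!
# A way-out lemma for natural transformations between weakly triangulated functors
-/

set_option autoImplicit false
universe u
open CategoryTheory CategoryTheory.Limits MonoidalCategory Pretriangulated

namespace Groth.Agent.Lib.Helper13.DV

attribute [local instance] HasDerivedCategory.standard

variable {A : Type u} [CommRing A]

/-- In a distinguished triangle of `D(A)` whose third vertex has no homology in degrees `i - 1`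
and `i`, the first map induces an isomorphism on `H^i`. -/
lemma isIso_homologyMap_mor₁ (T : Triangle (Dual.D A)) (hT : T ∈ distTriang (Dual.D A))
    (i j : ℤ) (hij : j + 1 = i)
    (h₁ : IsZero ((DerivedCategory.homologyFunctor (ModuleCat.{u} A) j).obj T.obj₃))
    (h₂ : IsZero ((DerivedCategory.homologyFunctor (ModuleCat.{u} A) i).obj T.obj₃)) :
    IsIso ((DerivedCategory.homologyFunctor (ModuleCat.{u} A) i).map T.mor₁) := by
  have hm : Mono ((DerivedCategory.homologyFunctor (ModuleCat.{u} A) i).map T.mor₁) := by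
    rw [DerivedCategory.HomologySequence.mono_homologyMap_mor₁_iff T hT j i hij]
    exact h₁.eq_of_src _ _
  have he : Epi ((DerivedCategory.homologyFunctor (ModuleCat.{u} A) i).map T.mor₁) := by
    rw [DerivedCategory.HomologySequence.epi_homologyMap_mor₁_iff T hT i]
    exact h₂.eq_of_tgt _ _
  exact isIso_of_mono_of_epi _

/-- A functor `D(A) ⥤ D(A)` is weakly triangulated if it sends every distinguished triangle to
the first two maps of a distinguished triangle, up to isomorphism. -/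
def WeakTri (S : Dual.D A ⥤ Dual.D A) : Prop :=
  ∀ T₀ : Triangle (Dual.D A), T₀ ∈ distTriang (Dual.D A) →
    ∃ (T₁ : Triangle (Dual.D A)) (_ : T₁ ∈ distTriang (Dual.D A))
      (e₁ : T₁.obj₁ ≅ S.obj T₀.obj₁) (e₂ : T₁.obj₂ ≅ S.obj T₀.obj₂)
      (e₃ : T₁.obj₃ ≅ S.obj T₀.obj₃),
      T₁.mor₁ ≫ e₂.hom = e₁.hom ≫ S.map T₀.mor₁ ∧ T₁.mor₂ ≫ e₃.hom = e₂.hom ≫ S.map T₀.mor₂

lemma WeakTri.isIso_homologyMap_map_mor₁ {S : Dual.D A ⥤ Dual.D A} (hS : WeakTri S)
    (T₀ : Triangle (Dual.D A)) (hT₀ : T₀ ∈ distTriang (Dual.D A)) (i j : ℤ) (hij : j + 1 = i)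
    (h₁ : IsZero ((DerivedCategory.homologyFunctor (ModuleCat.{u} A) j).obj (S.obj T₀.obj₃)))
    (h₂ : IsZero ((DerivedCategory.homologyFunctor (ModuleCat.{u} A) i).obj (S.obj T₀.obj₃))) :
    IsIso ((DerivedCategory.homologyFunctor (ModuleCat.{u} A) i).map (S.map T₀.mor₁)) := by
  obtain ⟨T₁, hT₁, e₁, e₂, e₃, c₁, -⟩ := hS T₀ hT₀
  have h := isIso_homologyMap_mor₁ T₁ hT₁ i j hij
    (h₁.of_iso ((DerivedCategory.homologyFunctor (ModuleCat.{u} A) j).mapIso e₃))
    (h₂.of_iso ((DerivedCategory.homologyFunctor (ModuleCat.{u} A) i).mapIso e₃))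
  have h3 : S.map T₀.mor₁ = e₁.inv ≫ T₁.mor₁ ≫ e₂.hom := by
    rw [c₁, Iso.inv_hom_id_assoc]
  rw [h3, Functor.map_comp, Functor.map_comp]
  infer_instance

/-- The way-out lemma. -/
theorem isIso_homologyMap_app_of_weakTri {S T : Dual.D A ⥤ Dual.D A} (η : S ⟶ T)
    (hS : WeakTri S) (hT : WeakTri T)
    (T₀ : Triangle (Dual.D A)) (hT₀ : T₀ ∈ distTriang (Dual.D A)) [IsIso (η.app T₀.obj₁)]
    (i j : ℤ) (hij : j + 1 = i)
    (hS₁ : IsZero ((DerivedCategory.homologyFunctor (ModuleCat.{u} A) j).obj (S.obj T₀.obj₃)))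
    (hS₂ : IsZero ((DerivedCategory.homologyFunctor (ModuleCat.{u} A) i).obj (S.obj T₀.obj₃)))
    (hT₁ : IsZero ((DerivedCategory.homologyFunctor (ModuleCat.{u} A) j).obj (T.obj T₀.obj₃)))
    (hT₂ : IsZero ((DerivedCategory.homologyFunctor (ModuleCat.{u} A) i).obj (T.obj T₀.obj₃))) :
    IsIso ((DerivedCategory.homologyFunctor (ModuleCat.{u} A) i).map (η.app T₀.obj₂)) := by
  have i₁ := hS.isIso_homologyMap_map_mor₁ T₀ hT₀ i j hij hS₁ hS₂
  have i₂ := hT.isIso_homologyMap_map_mor₁ T₀ hT₀ i j hij hT₁ hT₂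
  have nat := congrArg (DerivedCategory.homologyFunctor (ModuleCat.{u} A) i).map
    (η.naturality T₀.mor₁)
  rw [Functor.map_comp, Functor.map_comp] at nat
  have h : (DerivedCategory.homologyFunctor (ModuleCat.{u} A) i).map (η.app T₀.obj₂) =
      inv ((DerivedCategory.homologyFunctor (ModuleCat.{u} A) i).map (S.map T₀.mor₁)) ≫
        (DerivedCategory.homologyFunctor (ModuleCat.{u} A) i).map (η.app T₀.obj₁) ≫
        (DerivedCategory.homologyFunctor (ModuleCat.{u} A) i).map (T.map T₀.mor₁) := by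
    rw [← nat, IsIso.inv_hom_id_assoc]
  rw [h]
  infer_instance

end Groth.Agent.Lib.Helper13.DV
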