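import Groth.Agent.Lib.Helper13.DTenDev2
import Groth.Agent.Lib.Helper13.WayOut1
import Groth.Agent.Lib.Helper13.KFlat2
import Mathlib.Algebra.Homology.DerivedCategory.Linear
import Mathlib.CategoryTheory.Monoidal.Linear

set_option autoImplicit false
universe u
open CategoryTheory CategoryTheory.Limits MonoidalCategory Pretriangulated
open CochainComplex HomologicalComplex

namespace Groth.Agent.Lib.Helper13.DCN

open DTen Groth.Agent.Lib.Helper13.SF Groth.Agent.Lib.Helper13.HT Groth.Agent.Lib.Helper13.DT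
  Groth.Agent.Lib.Helper13.DV

attribute [local instance] HasDerivedCategory.standard

variable {A : Type u} [CommRing A]

/-- Whiskering on the right, on the generators of the total complex. -/
lemma ι_whiskerRight_f' {Y Y' : DRing.Cx A} (g : Y ⟶ Y') (P : DRing.Cx A) (p q n : ℤ)
    (h : p + q = n) :
    ιTensorObj Y P p q n h ≫ (g ▷ P).f n = (g.f p ▷ P.X q) ≫ ιTensorObj Y' P p q n h := by
  have := HomologicalComplex.ι_mapBifunctorMap g (𝟙 P) (curriedTensor (ModuleCat.{u} A))
    (ComplexShape.up ℤ) p q n h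
  refine this.trans ?_
  dsimp
  rw [MonoidalCategory.whiskerLeft_id, Category.id_comp]

/-- Scalar multiplication passes through whiskering. -/
lemma smul_id_whiskerRight (f : A) (Y P : DRing.Cx A) :
    (f • 𝟙 Y) ▷ P = f • 𝟙 (Y ⊗ P) := by
  refine HomologicalComplex.hom_ext _ _ (fun n => ?_)
  apply HomologicalComplex.mapBifunctor.hom_ext
  intro p q h
  have h1 := ι_whiskerRight_f' (f • 𝟙 Y) P p q n h
  refine h1.trans ?_
  rw [HomologicalComplex.smul_f_apply, HomologicalComplex.id_f, MonoidalLinear.smul_whiskerRight,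
    id_whiskerRight, Linear.smul_comp, Category.id_comp, HomologicalComplex.smul_f_apply,
    HomologicalComplex.id_f, Linear.comp_smul]
  congr 1


section Psi

variable (P : DRing.Cx A) (hP : KFlat P)

include hP in
lemma inverts_tensorRight_Q :
    (HomologicalComplex.quasiIso (ModuleCat.{u} A) (ComplexShape.up ℤ)).IsInvertedBy
      (tensorRight P ⋙ DerivedCategory.Q) := by
  intro X Y f hf
  have : QuasiIso f := (HomologicalComplex.mem_quasiIso_iff f).1 hf
  have h2 : QuasiIso (f ▷ P) := quasiIso_whiskerRight_of_kflat P hP f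
  change IsIso (DerivedCategory.Q.map (f ▷ P))
  rw [DerivedCategory.isIso_Q_map_iff_quasiIso]
  exact h2

/-- The functor `- ⊗ P` on the derived category, for a K-flat complex `P`. -/
noncomputable def Psi : Dual.D A ⥤ Dual.D A :=
  Localization.lift (tensorRight P ⋙ DerivedCategory.Q) (inverts_tensorRight_Q P hP)
    DerivedCategory.Q

noncomputable def psiIso : DerivedCategory.Q ⋙ Psi P hP ≅ tensorRight P ⋙ DerivedCategory.Q :=
  Localization.fac _ _ _

lemma Psi_map_Q_map {Y Y' : DRing.Cx A} (g : Y ⟶ Y') :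
    (Psi P hP).map (DerivedCategory.Q.map g) =
      (psiIso P hP).hom.app Y ≫ DerivedCategory.Q.map (g ▷ P) ≫ (psiIso P hP).inv.app Y' := by
  have h := (psiIso P hP).hom.naturality g
  dsimp at h
  rw [← Category.assoc, ← h, Category.assoc, Iso.hom_inv_id_app]
  dsimp
  rw [Category.comp_id]

/-- `Psi` commutes with scalar multiplication. -/
lemma Psi_map_smul_id (f : A) (Y : Dual.D A) :
    (Psi P hP).map (f • 𝟙 Y) = f • 𝟙 ((Psi P hP).obj Y) := by
  let Y₀ := DerivedCategory.Q.objPreimage Y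
  let e : DerivedCategory.Q.obj Y₀ ≅ Y := DerivedCategory.Q.objObjPreimageIso Y
  have h1 : f • 𝟙 Y = e.inv ≫ DerivedCategory.Q.map (f • 𝟙 Y₀) ≫ e.hom := by
    rw [CategoryTheory.Functor.map_smul, CategoryTheory.Functor.map_id, Linear.smul_comp, Linear.comp_smul, Category.id_comp,
      Iso.inv_hom_id]
  have h2 : (Psi P hP).map (DerivedCategory.Q.map (f • 𝟙 Y₀)) =
      f • 𝟙 ((Psi P hP).obj (DerivedCategory.Q.obj Y₀)) := by
    rw [Psi_map_Q_map, smul_id_whiskerRight, CategoryTheory.Functor.map_smul, Linear.smul_comp,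
      Linear.comp_smul]
    have h3 : DerivedCategory.Q.map (𝟙 (Y₀ ⊗ P)) ≫ (psiIso P hP).inv.app Y₀ =
        (psiIso P hP).inv.app Y₀ := by
      rw [DerivedCategory.Q.map_id]
      exact Category.id_comp _
    rw [h3]
    congr 1
    exact Iso.hom_inv_id_app _ _
  rw [h1, Functor.map_comp, Functor.map_comp, h2, Linear.smul_comp, Linear.comp_smul,
    Category.id_comp, ← Functor.map_comp, Iso.inv_hom_id, CategoryTheory.Functor.map_id]

/-- `Psi` sends distinguished triangles to distinguished triangles (on the first two maps). -/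
theorem weakTri_Psi : WeakTri (Psi P hP) := by
  intro T₀ hT₀
  obtain ⟨S, σ, e₁, e₂, e₃, c₁, c₂⟩ := exists_split_shortComplex_of_distTriang T₀ hT₀
  have hSP := shortExact_map_tensorRight S σ P
  let E : ∀ (Z : Dual.D A) (K : DRing.Cx A) (_ : Z ≅ DerivedCategory.Q.obj K),
      DerivedCategory.Q.obj (K ⊗ P) ≅ (Psi P hP).obj Z :=
    fun Z K e => ((psiIso P hP).app K).symm ≪≫ (Psi P hP).mapIso e.symm
  have key : ∀ {Z Z' : Dual.D A} {K K' : DRing.Cx A} (e : Z ≅ DerivedCategory.Q.obj K)
      (e' : Z' ≅ DerivedCategory.Q.obj K') (m : Z ⟶ Z') (f : K ⟶ K')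
      (_ : m ≫ e'.hom = e.hom ≫ DerivedCategory.Q.map f),
      DerivedCategory.Q.map (f ▷ P) ≫ (E Z' K' e').hom = (E Z K e).hom ≫ (Psi P hP).map m := by
    intro Z Z' K K' e e' m f c
    have k2 : DerivedCategory.Q.map f ≫ e'.inv = e.inv ≫ m := by
      rw [Iso.comp_inv_eq, Category.assoc, c, Iso.inv_hom_id_assoc]
    change DerivedCategory.Q.map (f ▷ P) ≫ (psiIso P hP).inv.app K' ≫ (Psi P hP).map e'.inv =
      ((psiIso P hP).inv.app K ≫ (Psi P hP).map e.inv) ≫ (Psi P hP).map m
    rw [Category.assoc, ← Functor.map_comp, ← k2, Functor.map_comp, Psi_map_Q_map]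
    simp only [Category.assoc, Iso.inv_hom_id_app_assoc]
  exact ⟨DerivedCategory.triangleOfSES hSP, DerivedCategory.triangleOfSES_distinguished hSP,
    E _ _ e₁, E _ _ e₂, E _ _ e₃, key e₁ e₂ _ _ c₁, key e₂ e₃ _ _ c₂⟩

end Psi

end Groth.Agent.Lib.Helper13.DCN
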