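import Groth.Agent.Lib.Helper13.DRingProj
import Mathlib.RingTheory.Filtration

/-!
# Artin–Rees input for maps `K ⟶ E[-i]` (S6989)
-/

set_option autoImplicit false
universe u v w
open CategoryTheory CategoryTheory.Limits

namespace Groth.Agent.Lib.Helper13.DR

theorem exists_not_range_le_pow_smul {A : Type u} [CommRing A] [IsNoetherianRing A]
    {H M : Type u} [AddCommGroup H] [Module A H] [AddCommGroup M] [Module A M] [Module.Finite A M]
    (j : H →ₗ[A] M) (hj : Function.Injective j) (m : Ideal A)
    (hm : m • (⊤ : Submodule A H) ≠ ⊤) :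
    ∃ n : ℕ, ¬ (LinearMap.range j ≤ m ^ n • (⊤ : Submodule A M)) := by
  obtain ⟨k, hk⟩ := Ideal.exists_pow_inf_eq_pow_smul m (LinearMap.range j)
  refine ⟨k + 1, fun hle => hm ?_⟩
  have h1 := hk (k + 1) (by lia)
  rw [inf_eq_right.2 hle, show k + 1 - k = 1 by lia, pow_one] at h1
  have h2 : LinearMap.range j ≤ m • LinearMap.range j := by
    conv_lhs => rw [h1]
    exact Submodule.smul_mono le_rfl inf_le_right
  have h3 : m • LinearMap.range j = LinearMap.range j := le_antisymm Submodule.smul_le_right h2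
  apply Submodule.map_injective_of_injective hj
  rw [Submodule.map_smul'', Submodule.map_top, h3]

end Groth.Agent.Lib.Helper13.DR

namespace Groth.Agent.Lib.Helper13.PC

open HomologicalComplex CochainComplex

variable {C : Type u} [Category.{v} C] [Abelian C]

/-- If `X ⟶ I[-j]` (attached to `g : X^j/B^j ⟶ I`) is zero on `H^j` then `H^j(X) ⟶ X^j/B^j ⟶ I`
vanishes. -/
lemma homologyι_comp_eq_zero_of_homologyMap_eq_zero (X : CochainComplex C ℤ) (j : ℤ) {I : C}
    (g : X.opcycles j ⟶ I) (h : homologyMap (toSingleOfOpcycles X j g) j = 0) :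
    X.homologyι j ≫ g = 0 := by
  let L := (HomologicalComplex.single C (ComplexShape.up ℤ) j).obj I
  let ψ := toSingleOfOpcycles X j g
  have h1 : X.homologyι j ≫ opcyclesMap ψ j = 0 := by
    rw [← homologyι_naturality, h, zero_comp]
  have h2 : opcyclesMap ψ j = g ≫ (singleObjXSelf (ComplexShape.up ℤ) j I).inv ≫ L.pOpcycles j := by
    rw [← cancel_epi (X.pOpcycles j), p_opcyclesMap, toSingleOfOpcycles_f]
    simp [L]
  have : IsIso (L.pOpcycles j) := L.isIso_pOpcycles (j - 1) j (by simp) (by simp [L])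
  rw [h2, ← Category.assoc, ← Category.assoc] at h1
  rw [← cancel_mono ((singleObjXSelf (ComplexShape.up ℤ) j I).inv ≫ L.pOpcycles j), zero_comp,
    ← Category.assoc]
  exact h1

end Groth.Agent.Lib.Helper13.PC
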