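import Groth.Agent.Lib.Helper13.DRingExt
import Groth.Agent.Lib.Helper13.PCProj
import Mathlib.Algebra.Category.ModuleCat.FilteredColimits
import Mathlib.CategoryTheory.Limits.ConcreteCategory.Basic
import Mathlib.Algebra.Homology.DerivedCategory.TStructure

/-!
# Maps from pseudo-coherent objects to filtered colimits of modules
-/

set_option autoImplicit false
universe u
open CategoryTheory CategoryTheory.Limits

namespace Groth.Agent.Lib.Helper13.DR

open Groth.Agent.Lib.Helper13.PC
open DerivedCategory Pretriangulated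
attribute [local instance] HasDerivedCategory.standard

section Filtered

variable {R : Type u} [CommRing R] {J : Type u} [SmallCategory J] [IsFiltered J]
  (F : J ⥤ ModuleCat.{u} R) (c : Cocone F) (hc : IsColimit c)

include hc

/-- Two elements of a stage with the same image in the colimit become equal at a later stage. -/
lemma exists_map_eq_of_ι_eq {j : J} (x y : F.obj j) (h : c.ι.app j x = c.ι.app j y) :
    ∃ (j' : J) (u : j ⟶ j'), F.map u x = F.map u y := by
  obtain ⟨k, f, g, hfg⟩ := Concrete.isColimit_exists_of_rep_eq F hc x y h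
  refine ⟨IsFiltered.coeq f g, f ≫ IsFiltered.coeqHom f g, ?_⟩
  have h1 : F.map (f ≫ IsFiltered.coeqHom f g) y = F.map (g ≫ IsFiltered.coeqHom f g) y := by
    rw [IsFiltered.coeq_condition]
  rw [h1, F.map_comp, F.map_comp]
  exact congrArg (F.map (IsFiltered.coeqHom f g)) hfg

/-- Two maps from a finitely generated module to a stage which agree in the colimit agree at a
later stage. -/
lemma exists_comp_map_eq_of_comp_ι_eq {P : ModuleCat.{u} R} [Module.Finite R P] {j : J}
    (g g' : P ⟶ F.obj j) (h : g ≫ c.ι.app j = g' ≫ c.ι.app j) :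
    ∃ (j' : J) (u : j ⟶ j'), g ≫ F.map u = g' ≫ F.map u := by
  obtain ⟨S, hS⟩ := (Module.Finite.fg_top : (⊤ : Submodule R P).FG)
  have key : ∀ T : Finset P, ∃ (j' : J) (u : j ⟶ j'), ∀ s ∈ T,
      F.map u (g s) = F.map u (g' s) := by
    classical
    intro T
    induction T using Finset.induction_on with
    | empty => exact ⟨j, 𝟙 j, fun s hs => by simp at hs⟩
    | insert a T ha ih =>
      obtain ⟨j', u, hu⟩ := ih
      have h1 : c.ι.app j' (F.map u (g a)) = c.ι.app j' (F.map u (g' a)) := by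
        have e : ∀ x : F.obj j, c.ι.app j' (F.map u x) = c.ι.app j x := fun x =>
          congrArg (fun φ => φ.hom x) (c.w u)
        rw [e, e]
        exact congrArg (fun φ => φ.hom a) h
      obtain ⟨j'', v, hv⟩ := exists_map_eq_of_ι_eq F c hc _ _ h1
      refine ⟨j'', u ≫ v, fun s hs => ?_⟩
      rw [F.map_comp]
      rcases Finset.mem_insert.1 hs with rfl | hs
      · exact hv
      · exact congrArg (F.map v) (hu s hs)
  obtain ⟨j', u, hu⟩ := key S
  refine ⟨j', u, ?_⟩
  apply ModuleCat.hom_ext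
  apply LinearMap.ext_on_range (v := fun s : S => (s : P))
  · rw [Subtype.range_coe_subtype]
    simpa using hS
  · intro s
    exact hu s.1 s.2

/-- A map from a finite free module to the colimit factors through a stage. -/
lemma exists_factor_of_Pff {P : ModuleCat.{u} R} (hP : Pff R P) (f : P ⟶ c.pt) :
    ∃ (j : J) (g : P ⟶ F.obj j), g ≫ c.ι.app j = f := by
  have := hP.1
  have := hP.2
  let b := Module.Free.chooseBasis R P
  have key : ∀ T : Finset (Module.Free.ChooseBasisIndex R P), ∃ (j : J),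
      ∀ k ∈ T, ∃ y : F.obj j, c.ι.app j y = f (b k) := by
    classical
    intro T
    induction T using Finset.induction_on with
    | empty => exact ⟨Classical.choice IsFiltered.nonempty, fun k hk => by simp at hk⟩
    | insert a T ha ih =>
      obtain ⟨j, hj⟩ := ih
      obtain ⟨j₀, y₀, hy₀⟩ := Concrete.isColimit_exists_rep F hc (f (b a))
      refine ⟨IsFiltered.max j j₀, fun k hk => ?_⟩
      rcases Finset.mem_insert.1 hk with rfl | hk
      · refine ⟨F.map (IsFiltered.rightToMax j j₀) y₀, ?_⟩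
        exact (congrArg (fun φ => φ.hom y₀) (c.w (IsFiltered.rightToMax j j₀))).trans hy₀
      · obtain ⟨y, hy⟩ := hj k hk
        refine ⟨F.map (IsFiltered.leftToMax j j₀) y, ?_⟩
        exact (congrArg (fun φ => φ.hom y) (c.w (IsFiltered.leftToMax j j₀))).trans hy
  obtain ⟨j, hj⟩ := key Finset.univ
  choose y hy using fun k => hj k (Finset.mem_univ k)
  refine ⟨j, ModuleCat.ofHom (b.constr R y), ?_⟩
  apply ModuleCat.hom_ext
  apply b.ext
  intro k
  change c.ι.app j (b.constr R y (b k)) = f (b k)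
  rw [Module.Basis.constr_basis]
  exact hy k

end Filtered

section Coboundary

variable {A : Type u} [CommRing A]

open CochainComplex.HomComplex HomologicalComplex in
/-- The chain map attached to a coboundary is null-homotopic. -/
lemma nonempty_homotopy_toSingle_of_coboundary (P : DRing.Cx A) (n : ℤ) {M : ModuleCat.{u} A}
    (h : P.X (n + 1) ⟶ M) (hf : P.d (n - 1) n ≫ P.d n (n + 1) ≫ h = 0) :
    Nonempty (Homotopy (toSingle (P.d n (n + 1) ≫ h) hf) 0) := by
  let S := (HomologicalComplex.single (ModuleCat.{u} A) (ComplexShape.up ℤ) n).obj M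
  let f : P.X (n + 1) ⟶ S.X n := h ≫ (singleObjXSelf (ComplexShape.up ℤ) n M).inv
  refine ⟨(Cochain.equivHomotopy _ _).symm ⟨Cochain.single f (-1), ?_⟩⟩
  rw [Cochain.δ_single f (-1) 0 (by simp) n (n + 1) rfl rfl]
  refine Cochain.ext₀ _ _ (fun p => ?_)
  by_cases hp : p = n
  · subst hp
    simp [toSingle_f, f, Cochain.single_v, S]
  · exact (isZero_single_obj_X (ComplexShape.up ℤ) n M p hp).eq_of_tgt _ _

lemma cls_eq_zero_of_coboundary (P : DRing.Cx A) (n : ℤ) {M : ModuleCat.{u} A}
    (h : P.X (n + 1) ⟶ M) (hf : P.d (n - 1) n ≫ P.d n (n + 1) ≫ h = 0) :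
    cls (P.d n (n + 1) ≫ h) hf = 0 := by
  obtain ⟨hh⟩ := nonempty_homotopy_toSingle_of_coboundary P n h hf
  rw [cls, DerivedCategory.Q_map_eq_of_homotopy (h := hh), Functor.map_zero, zero_comp]

open HomologicalComplex in
lemma exists_coboundary_of_cls_eq_zero (P : DRing.Cx A) [P.IsKProjective] (n : ℤ)
    {M : ModuleCat.{u} A} (f : P.X n ⟶ M) (hf : P.d (n - 1) n ≫ f = 0) (h0 : cls f hf = 0) :
    ∃ h : P.X (n + 1) ⟶ M, f = P.d n (n + 1) ≫ h := by
  have h1 : Q.map (toSingle f hf) = Q.map 0 := by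
    rw [Functor.map_zero, ← cancel_mono (singleIsoQ n M).inv, zero_comp]
    exact h0
  obtain ⟨hh⟩ := exists_homotopy_of_Q_map_eq _ _ h1
  refine ⟨hh.hom (n + 1) n ≫ (singleObjXSelf (ComplexShape.up ℤ) n M).hom, ?_⟩
  have h2 := hh.comm n
  rw [dNext_eq hh.hom (show (ComplexShape.up ℤ).Rel n (n + 1) from rfl),
    prevD_eq hh.hom (show (ComplexShape.up ℤ).Rel (n - 1) n by simp), single_obj_d, comp_zero,
    HomologicalComplex.zero_f, add_zero, add_zero, toSingle_f] at h2
  rw [← Category.assoc, ← h2]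
  simp

end Coboundary

section Comparison

variable {A : Type u} [CommRing A]

/-- The cone of a map which is an iso on `H^i` for `i > m` and epi on `H^m` is `≤ m - 1`. -/
lemma isLE_cone_of_isIso_of_epi (T : Triangle (Dual.D A)) (hT : T ∈ distTriang _) (m : ℤ)
    (hiso : ∀ i : ℤ, m < i → IsIso ((DerivedCategory.homologyFunctor (ModuleCat.{u} A) i).map T.mor₁))
    (hepi : Epi ((DerivedCategory.homologyFunctor (ModuleCat.{u} A) m).map T.mor₁)) :
    T.obj₃.IsLE (m - 1) := by
  rw [DerivedCategory.isLE_iff]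
  intro i hi
  have h1 : Epi ((DerivedCategory.homologyFunctor (ModuleCat.{u} A) i).map T.mor₁) := by
    rcases eq_or_lt_of_le (show m ≤ i by lia) with rfl | h
    · exact hepi
    · have := hiso i h
      infer_instance
  have h2 : Mono ((DerivedCategory.homologyFunctor (ModuleCat.{u} A) (i + 1)).map T.mor₁) := by
    have := hiso (i + 1) (by lia)
    infer_instance
  have e := DerivedCategory.HomologySequence.exact₃ T hT i (i + 1) rfl
  rw [DerivedCategory.HomologySequence.epi_homologyMap_mor₁_iff T hT] at h1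
  rw [DerivedCategory.HomologySequence.mono_homologyMap_mor₁_iff T hT i (i + 1) rfl] at h2
  exact e.isZero_of_both_zeros h1 h2

lemma isGE_shift_single (N : ModuleCat.{u} A) (n : ℤ) :
    ((shiftFunctor (Dual.D A) n).obj ((DerivedCategory.singleFunctor (ModuleCat.{u} A) 0).obj N)).IsGE
      (-n) :=
  DerivedCategory.TStructure.t.isGE_shift _ 0 n (-n) (by lia)

/-- injectivity of precomposition -/
lemma comp_injective_of_isIso_of_epi {E K : Dual.D A} (α : E ⟶ K) (m : ℤ)
    (hiso : ∀ i : ℤ, m < i → IsIso ((DerivedCategory.homologyFunctor (ModuleCat.{u} A) i).map α))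
    (hepi : Epi ((DerivedCategory.homologyFunctor (ModuleCat.{u} A) m).map α))
    (N : ModuleCat.{u} A) (n : ℤ) (hn : n ≤ -m)
    (y : K ⟶ (shiftFunctor (Dual.D A) n).obj ((DerivedCategory.singleFunctor (ModuleCat.{u} A) 0).obj N))
    (hy : α ≫ y = 0) : y = 0 := by
  obtain ⟨C, β, γ, hT⟩ := Pretriangulated.distinguished_cocone_triangle α
  have hC := isLE_cone_of_isIso_of_epi (Triangle.mk α β γ) hT m hiso hepi
  have hY := isGE_shift_single N n
  obtain ⟨g, hg⟩ := Triangle.yoneda_exact₂ _ hT y hy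
  have : g = 0 := DerivedCategory.TStructure.t.zero_of_isLE_of_isGE g (m - 1) (-n) (by lia) hC hY
  rw [hg, this, comp_zero]
  rfl

/-- surjectivity of precomposition -/
lemma comp_surjective_of_isIso_of_epi {E K : Dual.D A} (α : E ⟶ K) (m : ℤ)
    (hiso : ∀ i : ℤ, m < i → IsIso ((DerivedCategory.homologyFunctor (ModuleCat.{u} A) i).map α))
    (hepi : Epi ((DerivedCategory.homologyFunctor (ModuleCat.{u} A) m).map α))
    (N : ModuleCat.{u} A) (n : ℤ) (hn : n < -m)
    (x : E ⟶ (shiftFunctor (Dual.D A) n).obj ((DerivedCategory.singleFunctor (ModuleCat.{u} A) 0).obj N)) :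
    ∃ y : K ⟶ (shiftFunctor (Dual.D A) n).obj ((DerivedCategory.singleFunctor (ModuleCat.{u} A) 0).obj N),
      α ≫ y = x := by
  obtain ⟨C, β, γ, hT⟩ := Pretriangulated.distinguished_cocone_triangle α
  have hC := isLE_cone_of_isIso_of_epi (Triangle.mk α β γ) hT m hiso hepi
  have hY := isGE_shift_single N n
  have hT' := inv_rot_of_distTriang _ hT
  have hC' : ((Triangle.mk α β γ).invRotate.obj₁).IsLE m := by
    have : DerivedCategory.TStructure.t.IsLE C (m - 1) := hC
    exact DerivedCategory.TStructure.t.isLE_shift C (m - 1) (-1) m (by lia)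
  have h0 : (Triangle.mk α β γ).invRotate.mor₁ ≫ x = 0 :=
    DerivedCategory.TStructure.t.zero_of_isLE_of_isGE _ m (-n) (by lia) hC' hY
  obtain ⟨g, hg⟩ := Triangle.yoneda_exact₂ _ hT' x h0
  exact ⟨g, hg.symm⟩

end Comparison

section Main

variable {A : Type u} [CommRing A]

lemma cls_congr {P : DRing.Cx A} {n : ℤ} {M : ModuleCat.{u} A} {f f' : P.X n ⟶ M}
    (h : f = f') (hf : P.d (n - 1) n ≫ f = 0) (hf' : P.d (n - 1) n ≫ f' = 0) :
    cls f hf = cls f' hf' := by
  subst h
  rfl

lemma extCls_eq_zero_iff (P : DRing.Cx A) (p : ℤ) (M : ModuleCat.{u} A)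
    (f : cocycleSubmodule (R := A) P (-p) M) :
    extCls P (Iso.refl (Q.obj P)) p M f = 0 ↔ cls f.1 f.2 = 0 := by
  rw [extCls_apply]
  constructor
  · intro h
    have h1 : (cls f.1 f.2 ≫ (inDShiftIso p).inv.app M) ≫ (inDShiftIso p).hom.app M = 0 := by
      have h2 : cls f.1 f.2 ≫ (inDShiftIso p).inv.app M = 0 := by simpa using h
      rw [h2, zero_comp]
    simpa using h1
  · intro h
    rw [h]
    simp

theorem colim_hom_of_pseudoCoherent (m : ℤ) (K : Dual.D A)
    (hK : DRing.IsPseudoCoherent A m K) {J : Type u} [SmallCategory J] [IsFiltered J]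
    (F : J ⥤ ModuleCat.{u} A) (c : Cocone F) (hc : IsColimit c) :
    (∀ n : ℤ, n < -m → ∀ x : K ⟶ (shiftFunctor (Dual.D A) n).obj (Dual.inD A c.pt),
      ∃ (j : J) (y : K ⟶ (shiftFunctor (Dual.D A) n).obj (Dual.inD A (F.obj j))),
        y ≫ (shiftFunctor (Dual.D A) n).map
          ((DerivedCategory.singleFunctor (ModuleCat.{u} A) 0).map (c.ι.app j)) = x) ∧
    (∀ n : ℤ, n ≤ -m → ∀ (j : J) (y : K ⟶ (shiftFunctor (Dual.D A) n).obj (Dual.inD A (F.obj j))),
      y ≫ (shiftFunctor (Dual.D A) n).map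
          ((DerivedCategory.singleFunctor (ModuleCat.{u} A) 0).map (c.ι.app j)) = 0 →
      ∃ (j' : J) (f : j ⟶ j'), y ≫ (shiftFunctor (Dual.D A) n).map
          ((DerivedCategory.singleFunctor (ModuleCat.{u} A) 0).map (F.map f)) = 0) := by
  obtain ⟨E, a, b, α, hv, hff, hiso, hepi⟩ := hK
  have hPff : ∀ i, Pff A (E.X i) := fun i => hff i
  have hE : E.IsKProjective := isKProjective_of_forall_projective E b
    (fun i hi => hv i (Or.inr hi)) (fun i => by
      have := (hff i).1
      have := (hff i).2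
      infer_instance)
  constructor
  · intro n hn x
    obtain ⟨f, hf⟩ := extCls_surjective E (Iso.refl _) n c.pt (α ≫ x)
    obtain ⟨j₀, g₀, hg₀⟩ := exists_factor_of_Pff F c hc (hPff (-n)) f.1
    have := (hff (-n - 1)).1
    have h1 : (E.d (-n - 1) (-n) ≫ g₀) ≫ c.ι.app j₀ = 0 ≫ c.ι.app j₀ := by
      rw [Category.assoc, hg₀, zero_comp]
      exact f.2
    obtain ⟨j₁, u, hu⟩ := exists_comp_map_eq_of_comp_ι_eq F c hc _ _ h1
    have hg₁ : g₀ ≫ F.map u ∈ cocycleSubmodule (R := A) E (-n) (F.obj j₁) := by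
      rw [mem_cocycleSubmodule, ← Category.assoc, hu, zero_comp]
    obtain ⟨y, hy⟩ := comp_surjective_of_isIso_of_epi α m hiso hepi (F.obj j₁) n hn
      (extCls E (Iso.refl _) n (F.obj j₁) ⟨g₀ ≫ F.map u, hg₁⟩)
    refine ⟨j₁, y, ?_⟩
    have h2 : (g₀ ≫ F.map u) ≫ c.ι.app j₁ = f.1 := by
      rw [Category.assoc, c.w, hg₀]
    have h3 : α ≫ ((y ≫ (shiftFunctor (Dual.D A) n).map
          ((DerivedCategory.singleFunctor (ModuleCat.{u} A) 0).map (c.ι.app j₁)) :
            K ⟶ (shiftFunctor (Dual.D A) n).obj (Dual.inD A c.pt)) - x) = 0 := by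
      rw [Preadditive.comp_sub, ← Category.assoc, hy,
        extCls_comp E (Iso.refl _) n (M' := c.pt) (c.ι.app j₁) ⟨g₀ ≫ F.map u, hg₁⟩
          (by rw [h2]; exact f.2),
        ← hf, sub_eq_zero]
      congr 1
      exact Subtype.ext h2
    exact sub_eq_zero.1 (comp_injective_of_isIso_of_epi α m hiso hepi c.pt n hn.le _ h3)
  · intro n hn j y hy
    obtain ⟨g, hg⟩ := extCls_surjective E (Iso.refl _) n (F.obj j) (α ≫ y)
    have hgι : g.1 ≫ c.ι.app j ∈ cocycleSubmodule (R := A) E (-n) c.pt := by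
      rw [mem_cocycleSubmodule, ← Category.assoc, (mem_cocycleSubmodule g.1).1 g.2, zero_comp]
    have h0 : extCls E (Iso.refl _) n c.pt ⟨g.1 ≫ c.ι.app j, hgι⟩ = 0 := by
      rw [← extCls_comp E (Iso.refl _) n (M' := c.pt) (c.ι.app j) g hgι, hg, Category.assoc, hy,
        comp_zero]
    rw [extCls_eq_zero_iff] at h0
    obtain ⟨h, hh⟩ := exists_coboundary_of_cls_eq_zero E (-n) _ _ h0
    obtain ⟨j₁, h₁, hh₁⟩ := exists_factor_of_Pff F c hc (hPff (-n + 1)) h
    have := (hff (-n)).1
    have h1 : (g.1 ≫ F.map (IsFiltered.leftToMax j j₁)) ≫ c.ι.app (IsFiltered.max j j₁) =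
        (E.d (-n) (-n + 1) ≫ h₁ ≫ F.map (IsFiltered.rightToMax j j₁)) ≫
          c.ι.app (IsFiltered.max j j₁) := by
      simp only [Category.assoc, c.w]
      rw [hh₁]
      exact hh
    obtain ⟨j₃, w, hw⟩ := exists_comp_map_eq_of_comp_ι_eq F c hc _ _ h1
    refine ⟨j₃, IsFiltered.leftToMax j j₁ ≫ w, ?_⟩
    apply comp_injective_of_isIso_of_epi α m hiso hepi (F.obj j₃) n hn
    have hgf : g.1 ≫ F.map (IsFiltered.leftToMax j j₁ ≫ w) ∈
        cocycleSubmodule (R := A) E (-n) (F.obj j₃) := by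
      rw [mem_cocycleSubmodule, ← Category.assoc, (mem_cocycleSubmodule g.1).1 g.2, zero_comp]
    rw [← Category.assoc, ← hg, extCls_comp E (Iso.refl _) n _ g hgf, extCls_eq_zero_iff]
    have key : g.1 ≫ F.map (IsFiltered.leftToMax j j₁ ≫ w) =
        E.d (-n) (-n + 1) ≫ (h₁ ≫ F.map (IsFiltered.rightToMax j j₁) ≫ F.map w) := by
      rw [F.map_comp, ← Category.assoc, hw]
      simp only [Category.assoc]
    have hf' : E.d (-n - 1) (-n) ≫ E.d (-n) (-n + 1) ≫
        (h₁ ≫ F.map (IsFiltered.rightToMax j j₁) ≫ F.map w) = 0 := by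
      rw [← Category.assoc, E.d_comp_d, zero_comp]
    rw [cls_congr key _ hf']
    exact cls_eq_zero_of_coboundary E (-n) _ hf'

end Main

end Groth.Agent.Lib.Helper13.DR
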