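import Groth.Agent.Lib.Helper13.DRingTor5
import Groth.Agent.Lib.Helper13.DRingFlatBC
import Mathlib.Algebra.Category.ModuleCat.Monoidal.Adjunction

set_option autoImplicit false
universe u
open CategoryTheory CategoryTheory.Limits TensorProduct MonoidalCategory Pretriangulated

namespace Groth.Agent.Lib.Helper13.DR

open Groth.Agent.Lib.Helper13.PC
open DerivedCategory
attribute [local instance] HasDerivedCategory.standard

section

variable (A B : Type u) [CommRing A] [CommRing B] [Algebra A B]

/-- Base change commutes with termwise tensor products. -/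
noncomputable def extendTensorIso (P : DRing.Cx A) (N : ModuleCat.{u} A) :
    (extendCx A B).obj ((tensorCx N).obj P) ≅
      (tensorCx ((ModuleCat.extendScalars.{u, u, u} (algebraMap A B)).obj N)).obj
        ((extendCx A B).obj P) :=
  ((NatIso.mapHomologicalComplex (Functor.Monoidal.commTensorRight
    (ModuleCat.extendScalars.{u, u, u} (algebraMap A B)) N) (ComplexShape.up ℤ)).app P).symm

variable [Module.Flat A B]

/-- Flat base change commutes with homology. -/
noncomputable def extendCxHomologyIso (E : DRing.Cx A) (i : ℤ) :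
    ((extendCx A B).obj E).homology i ≅
      (ModuleCat.extendScalars.{u, u, u} (algebraMap A B)).obj (E.homology i) :=
  (E.sc i).mapHomologyIso (ModuleCat.extendScalars.{u, u, u} (algebraMap A B))

instance quasiIso_extendCx_map {E F : DRing.Cx A} (f : E ⟶ F) [QuasiIso f] :
    QuasiIso ((extendCx A B).map f) := inferInstance

end

section Family

variable (R : Type u) [CommRing R] {ι : Type*} (S : ι → Type u) [∀ i, CommRing (S i)]
  [∀ i, Algebra R (S i)]

/-- The family of base changes `R → S i` detects zero modules. -/
def JointlyFaithful : Prop :=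
  ∀ M : ModuleCat.{u} R,
    (∀ i, IsZero ((ModuleCat.extendScalars.{u, u, u} (algebraMap R (S i))).obj M)) → IsZero M

variable [∀ i, Module.Flat R (S i)]

variable {R S} in
/-- Descent of tor amplitude along a jointly faithful family of flat ring maps. -/
theorem hasTorAmplitudeIn_of_jointlyFaithful (hS : JointlyFaithful R S) (K : DRing.Cx R) (a b : ℤ)
    (hK : ∀ i, DRing.HasTorAmplitudeIn (S i) a b (Q.obj ((extendCx R (S i)).obj K))) :
    DRing.HasTorAmplitudeIn R a b (Q.obj K) := by
  have hH : ∀ j : ℤ, b < j → IsZero (K.homology j) := fun j hj => hS _ (fun i =>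
    ((isZero_HD_of_hasTorAmplitudeIn (hK i) j (Or.inr hj)).of_iso (homologyQIso _ j).symm).of_iso
      (extendCxHomologyIso R (S i) K j).symm)
  obtain ⟨P, φ, hφ, hP, hz⟩ := exists_projective_quasiIso K b hH
  have hfl : ∀ j : ℤ, Module.Flat R (P.X j) := fun j => flat_of_projective' _ (hP j)
  have : IsIso (Q.map φ) := by rw [isIso_Q_map_iff_quasiIso]; exact hφ
  refine hasTorAmplitudeIn_of_iso (asIso (Q.map φ)) ?_
  refine hasTorAmplitudeIn_of_tensor_vanishing P b hz hfl a b (fun N j hj => hS _ (fun i => ?_))
  refine IsZero.of_iso ?_ ((extendCxHomologyIso R (S i) _ j).symm ≪≫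
    (HomologicalComplex.homologyFunctor _ _ j).mapIso (extendTensorIso R (S i) P N))
  have hq : QuasiIso ((extendCx R (S i)).map φ) := inferInstance
  have : IsIso (Q.map ((extendCx R (S i)).map φ)) := by rw [isIso_Q_map_iff_quasiIso]; exact hq
  exact tensor_vanishing_of_hasTorAmplitudeIn (hK i) ((extendCx R (S i)).obj P) b
    (fun k hk => Functor.map_isZero (ModuleCat.extendScalars.{u, u, u} (algebraMap R (S i))) (hz k hk))
    (fun k => by
      have h1 : Pfl (S i) ((ModuleCat.extendScalars.{u, u, u} (algebraMap R (S i))).obj (P.X k)) :=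
        Pfl_extendScalars (S i) (hfl k)
      exact h1)
    (asIso (Q.map ((extendCx R (S i)).map φ))) _ j hj

end Family

end Groth.Agent.Lib.Helper13.DR
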