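import Groth.Agent.Lib.Helper13.DRingDescent2

set_option autoImplicit false
universe u
open CategoryTheory CategoryTheory.Limits TensorProduct MonoidalCategory Pretriangulated

namespace Groth.Agent.Lib.Helper13.DR

open Groth.Agent.Lib.Helper13.PC
open DerivedCategory
attribute [local instance] HasDerivedCategory.standard

lemma isNPC_of_isPerfect {A : Type u} [CommRing A] {K : Dual.D A} (h : DRing.IsPerfect A K)
    (m : ℤ) : IsNPC (Pff A) m K := by
  obtain ⟨E, a, b, hv, hE, ⟨e⟩⟩ := h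
  rw [← isNPC_Pfp_iff_Pff]
  exact ⟨E, isStrictPC_of_forall (b := b) (fun i hi => hv i (Or.inr hi)) (fun i => hE i) _, ⟨e⟩⟩

lemma exists_hasTorAmplitudeIn_of_isPerfect {A : Type u} [CommRing A] {K : Dual.D A}
    (h : DRing.IsPerfect A K) : ∃ a b : ℤ, DRing.HasTorAmplitudeIn A a b K := by
  obtain ⟨E, a, b, hv, hE, e⟩ := h
  exact ⟨a, b, E, hv, fun i => by have := (hE i).2; infer_instance, e⟩

lemma isPerfect_of_isNPC_of_hasTorAmplitudeIn {A : Type u} [CommRing A] {K : Dual.D A} {a b : ℤ}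
    (hpc : IsNPC (Pff A) (a - 1) K) (h : DRing.HasTorAmplitudeIn A a b K) :
    DRing.IsPerfect A K := by
  obtain ⟨F, hv, hfl, ⟨e⟩⟩ := h
  obtain ⟨E, hEv, hE, hEe⟩ := exists_perfect_of_isNPC_of_flat a b K hpc F hv hfl e
  exact ⟨E, a, b, hEv, hE, hEe⟩

section Family

variable {R : Type u} [CommRing R] {ι : Type*} {S : ι → Type u} [∀ i, CommRing (S i)]
  [∀ i, Algebra R (S i)] [∀ i, Module.Flat R (S i)] [Finite ι]

/-- Descent of perfectness along a jointly faithful finite family of flat ring maps. -/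
theorem isPerfect_of_jointlyFaithful (hS : JointlyFaithful R S) (hfin : JointlyDetectsFinite R S)
    (K : DRing.Cx R)
    (hK : ∀ i, DRing.IsPerfect (S i) (Q.obj ((extendCx R (S i)).obj K))) :
    DRing.IsPerfect R (Q.obj K) := by
  choose a₀ b₀ hab using fun i => exists_hasTorAmplitudeIn_of_isPerfect (hK i)
  obtain ⟨a, ha⟩ := (Set.finite_range a₀).bddBelow
  obtain ⟨b, hb⟩ := (Set.finite_range b₀).bddAbove
  have hamp : DRing.HasTorAmplitudeIn R a b (Q.obj K) :=
    hasTorAmplitudeIn_of_jointlyFaithful hS K a b (fun i =>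
      hasTorAmplitudeIn_mono (ha ⟨i, rfl⟩) (hb ⟨i, rfl⟩) (hab i))
  exact isPerfect_of_isNPC_of_hasTorAmplitudeIn
    (isNPC_of_jointlyFaithful hS hfin K (a - 1) (fun i => isNPC_of_isPerfect (hK i) _)) hamp

end Family

end Groth.Agent.Lib.Helper13.DR
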