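import Groth.Agent.Lib.Helper13.PCExt
import Groth.Agent.Lib.Helper13.DRingPC
import Mathlib.RingTheory.Filtration
import Mathlib.LinearAlgebra.FreeModule.Finite.Matrix

set_option autoImplicit false
universe u
open CategoryTheory CategoryTheory.Limits

namespace Groth.Agent.Lib.Helper13.DR

open Groth.Agent.Lib.Helper13.PC
open DerivedCategory
attribute [local instance] HasDerivedCategory.standard

variable {A : Type u} [CommRing A]

/-- `(M[0])⟦p⟧ ≅ M[p]`, naturally in `M`. -/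
noncomputable def inDShiftIso (p : ℤ) :
    DerivedCategory.singleFunctor (ModuleCat.{u} A) 0 ⋙ shiftFunctor (Dual.D A) p ≅
      DerivedCategory.singleFunctor (ModuleCat.{u} A) (-p) :=
  (DerivedCategory.singleFunctors (ModuleCat.{u} A)).shiftIso p (-p) 0 (by lia)

/-- The class map from cocycles `P^{-p} → M` to `Ext^p(K, M)` for `K ≅ Q P`. -/
noncomputable def extCls (P : DRing.Cx A) {K : Dual.D A} (e₀ : Q.obj P ≅ K) (p : ℤ)
    (M : ModuleCat.{u} A) :
    cocycleSubmodule (R := A) P (-p) M →ₗ[A]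
      (K ⟶ (shiftFunctor (Dual.D A) p).obj ((DerivedCategory.singleFunctor (ModuleCat.{u} A) 0).obj M)) :=
  (Linear.leftComp A _ e₀.inv) ∘ₗ (Linear.rightComp A _ ((inDShiftIso p).inv.app M)) ∘ₗ
    clsLin P (-p) M

lemma extCls_apply (P : DRing.Cx A) {K : Dual.D A} (e₀ : Q.obj P ≅ K) (p : ℤ)
    (M : ModuleCat.{u} A) (f : cocycleSubmodule (R := A) P (-p) M) :
    extCls P e₀ p M f = e₀.inv ≫ cls f.1 f.2 ≫ (inDShiftIso p).inv.app M := rfl

lemma extCls_surjective (P : DRing.Cx A) [P.IsKProjective] {K : Dual.D A} (e₀ : Q.obj P ≅ K)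
    (p : ℤ) (M : ModuleCat.{u} A) : Function.Surjective (extCls P e₀ p M) := by
  intro e
  obtain ⟨f, hf⟩ := clsLin_surjective (R := A) P (-p) M (e₀.hom ≫ e ≫ (inDShiftIso p).hom.app M)
  refine ⟨f, ?_⟩
  rw [extCls_apply, ← clsLin_apply, hf]
  simp

lemma extCls_comp (P : DRing.Cx A) {K : Dual.D A} (e₀ : Q.obj P ≅ K) (p : ℤ)
    {M M' : ModuleCat.{u} A} (φ : M ⟶ M') (f : cocycleSubmodule (R := A) P (-p) M)
    (hf' : f.1 ≫ φ ∈ cocycleSubmodule (R := A) P (-p) M') :
    extCls P e₀ p M f ≫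
        (shiftFunctor (Dual.D A) p).map ((DerivedCategory.singleFunctor (ModuleCat.{u} A) 0).map φ) =
      extCls P e₀ p M' ⟨f.1 ≫ φ, hf'⟩ := by
  rw [extCls_apply, extCls_apply]
  have h1 := (inDShiftIso (A := A) p).inv.naturality φ
  have h2 := cls_comp f.1 f.2 φ
  simp only [Category.assoc]
  congr 1
  rw [← h2, Category.assoc]
  congr 1
  exact h1.symm

section ArtinRees

lemma map_mem_smul_top {X Y : Type*} [AddCommGroup X] [Module A X] [AddCommGroup Y] [Module A Y]
    (I : Ideal A) (g : X →ₗ[A] Y) {x : X} (hx : x ∈ I • (⊤ : Submodule A X)) :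
    g x ∈ I • (⊤ : Submodule A Y) := by
  have h1 : g x ∈ (I • (⊤ : Submodule A X)).map g := Submodule.mem_map_of_mem hx
  rw [Submodule.map_smul''] at h1
  exact Submodule.smul_mono le_rfl le_top h1

/-- A map from a finite free module into `I • M` lies in `I • Hom(F, M)`. -/
lemma comp_subtype_mem_smul_top (I : Ideal A) (F M : ModuleCat.{u} A) [Module.Finite A F]
    [Module.Free A F] (f : F ⟶ ModuleCat.of A ↥(I • ⊤ : Submodule A M)) :
    f ≫ ModuleCat.ofHom (I • ⊤ : Submodule A M).subtype ∈ I • (⊤ : Submodule A (F ⟶ M)) := by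
  classical
  let b := Module.Free.chooseBasis A F
  let θ : Module.Free.ChooseBasisIndex A F → M →ₗ[A] (F ⟶ M) := fun j =>
    (ModuleCat.homLinearEquiv (S := A)).symm.toLinearMap ∘ₗ LinearMap.smulRightₗ (b.coord j)
  have key : f ≫ ModuleCat.ofHom (I • ⊤ : Submodule A M).subtype =
      ∑ j, θ j ((f.hom (b j) : ↥(I • ⊤ : Submodule A M)) : M) := by
    apply ModuleCat.hom_ext
    apply b.ext
    intro i
    rw [ModuleCat.hom_sum, LinearMap.sum_apply]
    simp only [θ, LinearMap.comp_apply, LinearEquiv.coe_coe]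
    have : ∀ j, ((ModuleCat.homLinearEquiv (S := A)).symm
        ((LinearMap.smulRightₗ (b.coord j)) ((f.hom (b j) : ↥(I • ⊤ : Submodule A M)) : M))).hom (b i) =
          if i = j then ((f.hom (b i) : ↥(I • ⊤ : Submodule A M)) : M) else 0 := by
      intro j
      show (b.coord j) (b i) • ((f.hom (b j) : ↥(I • ⊤ : Submodule A M)) : M) = _
      rw [Module.Basis.coord_apply, Module.Basis.repr_self, Finsupp.single_apply]
      split_ifs with h
      · subst h; rw [one_smul]
      · rw [zero_smul]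
    rw [Finset.sum_congr rfl (fun j _ => this j), Finset.sum_ite_eq]
    simp
  rw [key]
  exact Submodule.sum_mem _ (fun j _ => map_mem_smul_top I (θ j) (f.hom (b j)).2)

lemma finite_hom_of_Pff {F M : ModuleCat.{u} A} (hF : Pff A F) [Module.Finite A M] :
    Module.Finite A (F ⟶ M) := by
  have := hF.1
  have := hF.2
  exact Module.Finite.equiv (ModuleCat.homLinearEquiv (S := A) : (F ⟶ M) ≃ₗ[A] (F →ₗ[A] M)).symm

/-- Ext and Artin–Rees: for `K` represented by a K-projective complex of finite free modules and `M`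
finite over a Noetherian ring, the image of `Ext^p(K, IⁿM) → Ext^p(K, M)` lies in
`I^(n-c) Ext^p(K, M)`. -/
theorem ext_artinRees [IsNoetherianRing A] (I : Ideal A) (P : DRing.Cx A) [P.IsKProjective]
    (hff : ∀ i : ℤ, Pff A (P.X i)) {K : Dual.D A} (e₀ : Q.obj P ≅ K) (M : ModuleCat.{u} A)
    [Module.Finite A M] (p : ℤ) :
    ∃ c : ℕ, ∀ n : ℕ, c ≤ n →
      ∀ e : K ⟶ (shiftFunctor (Dual.D A) p).obj ((DerivedCategory.singleFunctor (ModuleCat.{u} A) 0).obj
          (ModuleCat.of A ↥(I ^ n • ⊤ : Submodule A M))),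
        e ≫ (shiftFunctor (Dual.D A) p).map ((DerivedCategory.singleFunctor (ModuleCat.{u} A) 0).map
            (ModuleCat.ofHom (I ^ n • ⊤ : Submodule A M).subtype)) ∈
          (I ^ (n - c) • ⊤ : Submodule A
            (K ⟶ (shiftFunctor (Dual.D A) p).obj ((DerivedCategory.singleFunctor (ModuleCat.{u} A) 0).obj M))) := by
  have hfin : Module.Finite A (P.X (-p) ⟶ M) := finite_hom_of_Pff (hff _)
  obtain ⟨c, hc⟩ := Ideal.exists_pow_inf_eq_pow_smul I (cocycleSubmodule (R := A) P (-p) M)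
  refine ⟨c, fun n hn e => ?_⟩
  obtain ⟨f, rfl⟩ := extCls_surjective P e₀ p _ e
  have := (hff (-p)).1
  have := (hff (-p)).2
  have hg1 : f.1 ≫ ModuleCat.ofHom (I ^ n • ⊤ : Submodule A M).subtype ∈
      (I ^ n • ⊤ : Submodule A (P.X (-p) ⟶ M)) := comp_subtype_mem_smul_top (I ^ n) _ M f.1
  have hg2 : f.1 ≫ ModuleCat.ofHom (I ^ n • ⊤ : Submodule A M).subtype ∈
      cocycleSubmodule (R := A) P (-p) M := by
    rw [mem_cocycleSubmodule, ← Category.assoc, (mem_cocycleSubmodule f.1).1 f.2, zero_comp]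
  rw [extCls_comp P e₀ p _ f hg2]
  have hg3 : f.1 ≫ ModuleCat.ofHom (I ^ n • ⊤ : Submodule A M).subtype ∈
      I ^ (n - c) • (I ^ c • ⊤ ⊓ cocycleSubmodule (R := A) P (-p) M) := by
    rw [← hc n hn]
    exact ⟨hg1, hg2⟩
  have hg4 : (⟨_, hg2⟩ : cocycleSubmodule (R := A) P (-p) M) ∈
      I ^ (n - c) • (⊤ : Submodule A (cocycleSubmodule (R := A) P (-p) M)) := by
    rw [Submodule.mem_smul_top_iff]
    exact Submodule.smul_mono le_rfl inf_le_right hg3
  exact map_mem_smul_top _ (extCls P e₀ p M) hg4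

end ArtinRees

end Groth.Agent.Lib.Helper13.DR
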