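import Groth.Agent.Lib.Helper13.DRingExt
import Groth.Agent.Lib.Helper13.PCProj

set_option autoImplicit false
universe u
open CategoryTheory CategoryTheory.Limits Pretriangulated

namespace Groth.Agent.Lib.Helper13.PC

section Generic

variable {D : Type*} [Category D] [Preadditive D] [HasZeroObject D] [HasShift D ℤ]
  [∀ n : ℤ, (shiftFunctor D n).Additive] [Pretriangulated D]

/-- Exactness of `Hom(K, -⟦i⟧)` at the middle term of a distinguished triangle. -/
lemma exact₂_shift (T : Triangle D) (hT : T ∈ distTriang D) (i : ℤ) {K : D}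
    (e : K ⟶ (shiftFunctor D i).obj T.obj₂) (he : e ≫ (shiftFunctor D i).map T.mor₂ = 0) :
    ∃ e' : K ⟶ (shiftFunctor D i).obj T.obj₁, e = e' ≫ (shiftFunctor D i).map T.mor₁ := by
  have hT' := Triangle.shift_distinguished T hT i
  have h0 : e ≫ (i.negOnePow • (shiftFunctor D i).map T.mor₂) = 0 := by
    rw [Linear.comp_units_smul, he, smul_zero]
  obtain ⟨g, hg⟩ : ∃ g : K ⟶ (shiftFunctor D i).obj T.obj₁,
      e = g ≫ (i.negOnePow • (shiftFunctor D i).map T.mor₁) :=
    Triangle.coyoneda_exact₂ _ hT' e h0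
  refine ⟨i.negOnePow • g, ?_⟩
  rw [hg, Linear.comp_units_smul, Linear.units_smul_comp]

/-- Exactness of `Hom(K, -⟦i⟧)` at the third term of a distinguished triangle. -/
lemma exact₃_shift (T : Triangle D) (hT : T ∈ distTriang D) (i : ℤ) {K : D}
    (e : K ⟶ (shiftFunctor D i).obj T.obj₃) (he : e ≫ (shiftFunctor D i).map T.mor₃ = 0) :
    ∃ e' : K ⟶ (shiftFunctor D i).obj T.obj₂, e = e' ≫ (shiftFunctor D i).map T.mor₂ := by
  have hT' := Triangle.shift_distinguished T hT i
  have h0 : e ≫ (i.negOnePow • ((shiftFunctor D i).map T.mor₃ ≫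
      (shiftFunctorComm D 1 i).hom.app T.obj₁)) = 0 := by
    rw [Linear.comp_units_smul, ← Category.assoc, he, zero_comp, smul_zero]
  obtain ⟨g, hg⟩ : ∃ g : K ⟶ (shiftFunctor D i).obj T.obj₂,
      e = g ≫ (i.negOnePow • (shiftFunctor D i).map T.mor₂) :=
    Triangle.coyoneda_exact₃ _ hT' e h0
  refine ⟨i.negOnePow • g, ?_⟩
  rw [hg, Linear.comp_units_smul, Linear.units_smul_comp]

end Generic

end Groth.Agent.Lib.Helper13.PC

namespace Groth.Agent.Lib.Helper13.DR

open Groth.Agent.Lib.Helper13.PC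
open DerivedCategory
attribute [local instance] HasDerivedCategory.standard

variable {A : Type u} [CommRing A]

/-- `Ext^p(K, M)` as a type. -/
abbrev ExtG (K : Dual.D A) (p : ℤ) (M : ModuleCat.{u} A) : Type (u + 1) :=
  K ⟶ (shiftFunctor (Dual.D A) p).obj ((DerivedCategory.singleFunctor (ModuleCat.{u} A) 0).obj M)

/-- Functoriality of `Ext^p(K, -)`. -/
noncomputable abbrev extMap (p : ℤ) {M M' : ModuleCat.{u} A} (φ : M ⟶ M') :
    (shiftFunctor (Dual.D A) p).obj ((DerivedCategory.singleFunctor (ModuleCat.{u} A) 0).obj M) ⟶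
      (shiftFunctor (Dual.D A) p).obj ((DerivedCategory.singleFunctor (ModuleCat.{u} A) 0).obj M') :=
  (shiftFunctor (Dual.D A) p).map ((DerivedCategory.singleFunctor (ModuleCat.{u} A) 0).map φ)

lemma ext_finite [IsNoetherianRing A] (P : DRing.Cx A) [P.IsKProjective]
    (hff : ∀ i : ℤ, Pff A (P.X i)) {K : Dual.D A} (e₀ : Q.obj P ≅ K) (M : ModuleCat.{u} A)
    [Module.Finite A M] (p : ℤ) : Module.Finite A (ExtG K p M) := by
  have hfin : Module.Finite A (P.X (-p) ⟶ M) := finite_hom_of_Pff (hff _)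
  have : IsNoetherian A (P.X (-p) ⟶ M) := inferInstance
  have : Module.Finite A (cocycleSubmodule (R := A) P (-p) M) := inferInstance
  exact Module.Finite.of_surjective (extCls P e₀ p M) (extCls_surjective P e₀ p M)

lemma exists_pow_smul_top_le_bot (I : Ideal A) (E : Type*) [AddCommGroup E] [Module A E]
    [Module.Finite A E] (h : ∀ e : E, ∃ n : ℕ, ∀ x ∈ I ^ n, x • e = 0) :
    ∃ N : ℕ, ∀ k : ℕ, N ≤ k → ∀ e ∈ (I ^ k • ⊤ : Submodule A E), e = 0 := by
  classical
  obtain ⟨s, hs⟩ := (Module.Finite.fg_top : (⊤ : Submodule A E).FG)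
  choose n hn using h
  refine ⟨s.sup n, fun k hk e he => ?_⟩
  have hkill : ∀ x ∈ I ^ k, ∀ e : E, x • e = 0 := by
    intro x hx e
    have he : e ∈ Submodule.span A (s : Set E) := by rw [hs]; trivial
    induction he using Submodule.span_induction with
    | mem g hg =>
      exact hn g x (Ideal.pow_le_pow_right ((Finset.le_sup hg).trans hk) hx)
    | zero => exact smul_zero x
    | add y z _ _ hy hz => rw [smul_add, hy, hz, add_zero]
    | smul a y _ hy => rw [smul_comm, hy, smul_zero]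
  refine Submodule.smul_induction_on he (fun x hx e _ => hkill x hx e) ?_
  intro y z hy hz
  rw [hy, hz, add_zero]

section SES

/-- The short complex `0 → N → M → M/N → 0`. -/
noncomputable def subSC (M : ModuleCat.{u} A) (N : Submodule A M) : ShortComplex (ModuleCat.{u} A) :=
  ShortComplex.mk (ModuleCat.ofHom N.subtype) (ModuleCat.ofHom N.mkQ) (by
    ext x
    simp)

lemma subSC_shortExact (M : ModuleCat.{u} A) (N : Submodule A M) : (subSC M N).ShortExact := by
  refine ShortComplex.ShortExact.mk' ?_ ?_ ?_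
  · rw [ShortComplex.ShortExact.moduleCat_exact_iff_function_exact]
    exact LinearMap.exact_subtype_mkQ N
  · rw [ModuleCat.mono_iff_injective]
    exact N.injective_subtype
  · rw [ModuleCat.epi_iff_surjective]
    exact N.mkQ_surjective

/-- The morphism of short complexes attached to `N' ≤ N`. -/
noncomputable def subSCMap (M : ModuleCat.{u} A) {N' N : Submodule A M} (h : N' ≤ N) :
    subSC M N' ⟶ subSC M N where
  τ₁ := ModuleCat.ofHom (Submodule.inclusion h)
  τ₂ := 𝟙 _
  τ₃ := ModuleCat.ofHom (Submodule.mapQ N' N LinearMap.id (by simpa using h))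
  comm₁₂ := by
    ext x
    rfl
  comm₂₃ := by
    ext x
    rfl

end SES

section Main

variable [IsNoetherianRing A] (I : Ideal A) (P : DRing.Cx A) [P.IsKProjective]
  (hff : ∀ i : ℤ, Pff A (P.X i)) {K : Dual.D A} (e₀ : Q.obj P ≅ K) (a : ℤ)
  (htors : ∀ (M : ModuleCat.{u} A), Module.Finite A M → ∀ i : ℤ, a ≤ i →
    ∀ e : ExtG K i M, ∃ n : ℕ, ∀ x ∈ I ^ n, x • e = 0)

include hff e₀ htors

/-- Part 1: `Ext^i(K, M) → Ext^i(K, M/I^m M)` is injective for `m` large. -/
theorem ext_quotient_injective (M : ModuleCat.{u} A) [Module.Finite A M] (i : ℤ) (hi : a ≤ i) :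
    ∃ m : ℕ, Function.Injective (fun e : ExtG K i M =>
      e ≫ extMap i (ModuleCat.ofHom (I ^ m • ⊤ : Submodule A M).mkQ)) := by
  obtain ⟨c₁, hc₁⟩ := ext_artinRees I P hff e₀ M i
  have := ext_finite P hff e₀ M i
  obtain ⟨N₁, hN₁⟩ := exists_pow_smul_top_le_bot I (ExtG K i M) (htors M inferInstance i hi)
  refine ⟨c₁ + N₁, ?_⟩
  have key : ∀ d : ExtG K i M,
      d ≫ extMap i (ModuleCat.ofHom (I ^ (c₁ + N₁) • ⊤ : Submodule A M).mkQ) = 0 → d = 0 := by
    intro d hd
    obtain ⟨d', rfl⟩ := exact₂_shift _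
      (subSC_shortExact M (I ^ (c₁ + N₁) • ⊤ : Submodule A M)).singleTriangle_distinguished i d hd
    exact hN₁ _ (by lia) _ (hc₁ (c₁ + N₁) (by lia) d')
  intro e e' h
  have h' : (e - e') ≫ extMap i (ModuleCat.ofHom (I ^ (c₁ + N₁) • ⊤ : Submodule A M).mkQ) = 0 := by
    rw [Preadditive.sub_comp]
    exact sub_eq_zero.2 h
  exact sub_eq_zero.1 (key _ h')

omit [IsNoetherianRing A] [P.IsKProjective] hff e₀ htors in
/-- `I^(n+k) M → I^k (I^n M)`. -/
noncomputable def powPowMap (M : ModuleCat.{u} A) (n k : ℕ) :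
    ↥(I ^ (n + k) • ⊤ : Submodule A M) →ₗ[A]
      ↥(I ^ k • ⊤ : Submodule A ↥(I ^ n • ⊤ : Submodule A M)) :=
  LinearMap.codRestrict _
    (Submodule.inclusion (Submodule.smul_mono_left (Ideal.pow_le_pow_right (Nat.le_add_right n k))))
    (fun x => by
      rw [Submodule.mem_smul_top_iff, ← Submodule.mul_smul, ← pow_add, add_comm]
      exact x.2)

omit [IsNoetherianRing A] [P.IsKProjective] hff e₀ htors in
lemma powPowMap_comp (M : ModuleCat.{u} A) (n k : ℕ) :
    (I ^ k • ⊤ : Submodule A ↥(I ^ n • ⊤ : Submodule A M)).subtype ∘ₗ powPowMap I M n k =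
      Submodule.inclusion
        (Submodule.smul_mono_left (Ideal.pow_le_pow_right (Nat.le_add_right n k))) := rfl

/-- Part 2: the image of `Ext^i(K, M/I^{m'}M) → Ext^i(K, M/IⁿM)` lies in the image of
`Ext^i(K, M)` for `m'` large. -/
theorem ext_quotient_range (M : ModuleCat.{u} A) [Module.Finite A M] (i : ℤ) (hi : a ≤ i) (n : ℕ) :
    ∃ (m' : ℕ) (hnm : n ≤ m'), ∀ e : ExtG K i (ModuleCat.of A (M ⧸ (I ^ m' • ⊤ : Submodule A M))),
      ∃ y : ExtG K i M, y ≫ extMap i (ModuleCat.ofHom (I ^ n • ⊤ : Submodule A M).mkQ) =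
        e ≫ extMap i (ModuleCat.ofHom (Submodule.mapQ (I ^ m' • ⊤ : Submodule A M)
          (I ^ n • ⊤ : Submodule A M) LinearMap.id
          (Submodule.smul_mono_left (Ideal.pow_le_pow_right hnm)))) := by
  let X : ModuleCat.{u} A := ModuleCat.of A ↥(I ^ n • ⊤ : Submodule A M)
  have : Module.Finite A X := inferInstanceAs (Module.Finite A ↥(I ^ n • ⊤ : Submodule A M))
  obtain ⟨c₂, hc₂⟩ := ext_artinRees I P hff e₀ X (i + 1)
  have := ext_finite P hff e₀ X (i + 1)
  obtain ⟨N₂, hN₂⟩ := exists_pow_smul_top_le_bot I (ExtG K (i + 1) X)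
    (htors X inferInstance (i + 1) (by lia))
  obtain ⟨k, hk⟩ : ∃ k : ℕ, k = c₂ + N₂ := ⟨_, rfl⟩
  refine ⟨n + k, Nat.le_add_right _ _, fun e => ?_⟩
  have hle : (I ^ (n + k) • ⊤ : Submodule A M) ≤ I ^ n • ⊤ :=
    Submodule.smul_mono_left (Ideal.pow_le_pow_right (Nat.le_add_right n k))
  have S' := subSC_shortExact M (I ^ (n + k) • ⊤ : Submodule A M)
  have S := subSC_shortExact M (I ^ n • ⊤ : Submodule A M)
  let q₃ : ModuleCat.of A (M ⧸ (I ^ (n + k) • ⊤ : Submodule A M)) ⟶
      ModuleCat.of A (M ⧸ (I ^ n • ⊤ : Submodule A M)) :=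
    ModuleCat.ofHom (Submodule.mapQ (I ^ (n + k) • ⊤ : Submodule A M)
      (I ^ n • ⊤ : Submodule A M) LinearMap.id hle)
  let j : ModuleCat.of A ↥(I ^ (n + k) • ⊤ : Submodule A M) ⟶
      ModuleCat.of A ↥(I ^ n • ⊤ : Submodule A M) := ModuleCat.ofHom (Submodule.inclusion hle)
  let δ' : (DerivedCategory.singleFunctor (ModuleCat.{u} A) 0).obj
        (ModuleCat.of A (M ⧸ (I ^ (n + k) • ⊤ : Submodule A M))) ⟶
      (shiftFunctor (Dual.D A) (1 : ℤ)).obj ((DerivedCategory.singleFunctor (ModuleCat.{u} A) 0).obj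
        (ModuleCat.of A ↥(I ^ (n + k) • ⊤ : Submodule A M))) := S'.singleδ
  let δ : (DerivedCategory.singleFunctor (ModuleCat.{u} A) 0).obj
        (ModuleCat.of A (M ⧸ (I ^ n • ⊤ : Submodule A M))) ⟶
      (shiftFunctor (Dual.D A) (1 : ℤ)).obj ((DerivedCategory.singleFunctor (ModuleCat.{u} A) 0).obj
        (ModuleCat.of A ↥(I ^ n • ⊤ : Submodule A M))) := S.singleδ
  have hnat : (DerivedCategory.singleFunctor (ModuleCat.{u} A) 0).map q₃ ≫ δ =
      δ' ≫ (shiftFunctor (Dual.D A) (1 : ℤ)).map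
        ((DerivedCategory.singleFunctor (ModuleCat.{u} A) 0).map j) :=
    (ShortComplex.ShortExact.singleTriangle.map S' S (subSCMap M hle)).comm₃.symm
  -- it suffices to show that the composite with the connecting map vanishes
  suffices h : (e ≫ extMap i q₃) ≫ (shiftFunctor (Dual.D A) i).map δ = 0 by
    obtain ⟨y, hy⟩ := exact₃_shift S.singleTriangle S.singleTriangle_distinguished i
      (e ≫ extMap i q₃) h
    exact ⟨y, hy.symm⟩
  rw [Category.assoc, ← Functor.map_comp, hnat, Functor.map_comp, ← Category.assoc]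
  -- move to degree `i + 1`
  let α := shiftFunctorAdd' (Dual.D A) 1 i (i + 1) (by lia)
  have hα : ∀ {Y Y' : Dual.D A} (f : Y ⟶ Y'),
      (shiftFunctor (Dual.D A) i).map ((shiftFunctor (Dual.D A) 1).map f) =
        α.inv.app Y ≫ (shiftFunctor (Dual.D A) (i + 1)).map f ≫ α.hom.app Y' := by
    intro Y Y' f
    have := α.inv.naturality f
    rw [← Category.assoc, ← this, Category.assoc, Iso.inv_hom_id_app, Category.comp_id]
    rfl
  rw [hα]
  -- factor the inclusion through `I^k (I^n M)`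
  have hj : j = ModuleCat.ofHom (powPowMap I M n k) ≫
      ModuleCat.ofHom (I ^ k • ⊤ : Submodule A ↥(I ^ n • ⊤ : Submodule A M)).subtype := by
    rw [← ModuleCat.ofHom_comp, powPowMap_comp]
  rw [hj, Functor.map_comp, Functor.map_comp]
  have hw := hc₂ k (by lia) ((e ≫ (shiftFunctor (Dual.D A) i).map δ') ≫ α.inv.app _ ≫
    (shiftFunctor (Dual.D A) (i + 1)).map
      ((DerivedCategory.singleFunctor (ModuleCat.{u} A) 0).map (ModuleCat.ofHom (powPowMap I M n k))))
  have hw0 := hN₂ _ (by lia) _ hw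
  simp only [Category.assoc] at hw0 ⊢
  rw [reassoc_of% hw0, zero_comp]

end Main

end Groth.Agent.Lib.Helper13.DR
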