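import Groth.Agent.Lib.Helper13.DRingExt2
import Groth.Agent.Lib.Helper13.PCSingleHom
import Mathlib.Algebra.Homology.DerivedCategory.FullyFaithful

set_option autoImplicit false
universe u
open CategoryTheory CategoryTheory.Limits Pretriangulated

namespace Groth.Agent.Lib.Helper13.DR

open Groth.Agent.Lib.Helper13.PC
open DerivedCategory
attribute [local instance] HasDerivedCategory.standard

variable {A : Type u} [CommRing A]

/-- No nonzero maps from a projective module in degree 0 to a module in nonzero degree. -/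
lemma hom_single_shift_eq_zero_of_projective (F N : ModuleCat.{u} A) [Projective F] (k : ℤ)
    (hk : k ≠ 0) (g : (DerivedCategory.singleFunctor (ModuleCat.{u} A) 0).obj F ⟶
      (shiftFunctor (Dual.D A) k).obj ((DerivedCategory.singleFunctor (ModuleCat.{u} A) 0).obj N)) :
    g = 0 := by
  apply (bijective_fromSingleHomologyMap F 0 _).injective
  have hz : IsZero ((DerivedCategory.homologyFunctor (ModuleCat.{u} A) 0).obj
      ((shiftFunctor (Dual.D A) k).obj
        ((DerivedCategory.singleFunctor (ModuleCat.{u} A) 0).obj N))) :=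
    (isZero_homology_single (-k) 0 (by lia) N).of_iso
      ((DerivedCategory.homologyFunctor (ModuleCat.{u} A) 0).mapIso ((inDShiftIso k).app N))
  exact hz.eq_of_tgt _ _

section ExtAR

variable (I : Ideal A) (N : ModuleCat.{u} A)

/-- The Artin–Rees property for `Ext^p(-, N)`. -/
def ExtARProp (p : ℕ) : Prop :=
  ∀ (M : ModuleCat.{u} A), Module.Finite A M → ∃ c : ℕ, ∀ n k : ℕ, k + c ≤ n →
    ∀ e : (DerivedCategory.singleFunctor (ModuleCat.{u} A) 0).obj M ⟶
        (shiftFunctor (Dual.D A) (p : ℤ)).obj ((DerivedCategory.singleFunctor (ModuleCat.{u} A) 0).obj N),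
      ∃ e' : (DerivedCategory.singleFunctor (ModuleCat.{u} A) 0).obj
            (ModuleCat.of A ↥(I ^ n • ⊤ : Submodule A M)) ⟶
          (shiftFunctor (Dual.D A) (p : ℤ)).obj ((DerivedCategory.singleFunctor (ModuleCat.{u} A) 0).obj
            (ModuleCat.of A ↥(I ^ k • ⊤ : Submodule A N))),
        e' ≫ extMap (p : ℤ) (ModuleCat.ofHom (I ^ k • ⊤ : Submodule A N).subtype) =
          (DerivedCategory.singleFunctor (ModuleCat.{u} A) 0).map
            (ModuleCat.ofHom (I ^ n • ⊤ : Submodule A M).subtype) ≫ e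

lemma extARProp_zero : ExtARProp I N 0 := by
  intro M _
  refine ⟨0, fun n k hk e => ?_⟩
  let z := shiftFunctorZero (Dual.D A) ℤ
  obtain ⟨φ, hφ⟩ := (DerivedCategory.singleFunctor (ModuleCat.{u} A) 0).map_surjective
    (e ≫ z.hom.app _)
  have hmem : ∀ x : ↥(I ^ n • ⊤ : Submodule A M), φ.hom x.1 ∈ (I ^ k • ⊤ : Submodule A N) := by
    intro x
    exact Submodule.smul_mono_left (Ideal.pow_le_pow_right (by lia))
      (map_mem_smul_top (I ^ n) φ.hom x.2)
  let ψ : ↥(I ^ n • ⊤ : Submodule A M) →ₗ[A] ↥(I ^ k • ⊤ : Submodule A N) :=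
    LinearMap.codRestrict _ (φ.hom ∘ₗ (I ^ n • ⊤ : Submodule A M).subtype) hmem
  have hψ : ModuleCat.ofHom ψ ≫ ModuleCat.ofHom (I ^ k • ⊤ : Submodule A N).subtype =
      ModuleCat.ofHom (I ^ n • ⊤ : Submodule A M).subtype ≫ φ := rfl
  refine ⟨(DerivedCategory.singleFunctor (ModuleCat.{u} A) 0).map (ModuleCat.ofHom ψ) ≫ z.inv.app _, ?_⟩
  have hnat := z.inv.naturality ((DerivedCategory.singleFunctor (ModuleCat.{u} A) 0).map
    (ModuleCat.ofHom (I ^ k • ⊤ : Submodule A N).subtype))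
  rw [Category.assoc]
  erw [← hnat]
  rw [Functor.id_map, ← Category.assoc, ← Functor.map_comp, hψ, Functor.map_comp, hφ]
  simp

variable [IsNoetherianRing A]

lemma extARProp_succ (p : ℕ) (ih : ExtARProp I N p) : ExtARProp I N (p + 1) := by
  intro M hM
  obtain ⟨r, f, hf⟩ := Module.Finite.exists_fin' A M
  let F : ModuleCat.{u} A := ModuleCat.of A (Fin r → A)
  have : Module.Projective A (Fin r → A) := inferInstance
  have : Projective F := ModuleCat.projective_of_categoryTheory_projective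
    (ModuleCat.of A (Fin r → A))
  let Ksub : Submodule A (Fin r → A) := LinearMap.ker f
  let K : ModuleCat.{u} A := ModuleCat.of A ↥Ksub
  have hKfin : Module.Finite A K := inferInstanceAs (Module.Finite A ↥Ksub)
  obtain ⟨c₀, hc₀⟩ := Ideal.exists_pow_inf_eq_pow_smul I Ksub
  obtain ⟨c₁, hc₁⟩ := ih K hKfin
  refine ⟨c₀ + c₁, fun n k hk e => ?_⟩
  obtain ⟨m, hm⟩ : ∃ m : ℕ, m = n - c₀ := ⟨_, rfl⟩
  -- the short exact sequence `0 → K → F → M → 0`
  let S : ShortComplex (ModuleCat.{u} A) :=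
    ShortComplex.mk (ModuleCat.ofHom Ksub.subtype) (ModuleCat.ofHom f) (by
      ext x
      exact x.2)
  have hS : S.ShortExact := by
    refine ShortComplex.ShortExact.mk' ?_ ?_ ?_
    · rw [ShortComplex.ShortExact.moduleCat_exact_iff_function_exact]
      exact LinearMap.exact_subtype_ker_map f
    · rw [ModuleCat.mono_iff_injective]
      exact Ksub.injective_subtype
    · rw [ModuleCat.epi_iff_surjective]
      exact hf
  -- the restricted sequence `0 → K_n → I^n F → I^n M → 0`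
  have hfmem : ∀ x ∈ (I ^ n • ⊤ : Submodule A (Fin r → A)), f x ∈ (I ^ n • ⊤ : Submodule A M) :=
    fun x hx => map_mem_smul_top (I ^ n) f hx
  let fn : ↥(I ^ n • ⊤ : Submodule A (Fin r → A)) →ₗ[A] ↥(I ^ n • ⊤ : Submodule A M) :=
    f.restrict hfmem
  have hfn : Function.Surjective fn := by
    rintro ⟨y, hy⟩
    have h1 : (I ^ n • ⊤ : Submodule A M) = (I ^ n • ⊤ : Submodule A (Fin r → A)).map f := by
      rw [Submodule.map_smul'', Submodule.map_top, LinearMap.range_eq_top.2 hf]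
    rw [h1] at hy
    obtain ⟨x, hx, rfl⟩ := hy
    exact ⟨⟨x, hx⟩, rfl⟩
  let Sn : ShortComplex (ModuleCat.{u} A) :=
    ShortComplex.mk (X₁ := ModuleCat.of A ↥(LinearMap.ker fn))
      (X₂ := ModuleCat.of A ↥(I ^ n • ⊤ : Submodule A (Fin r → A)))
      (X₃ := ModuleCat.of A ↥(I ^ n • ⊤ : Submodule A M))
      (ModuleCat.ofHom (LinearMap.ker fn).subtype) (ModuleCat.ofHom fn) (by
      ext x
      exact congrArg Subtype.val (show fn x.1 = 0 from x.2))
  have hSn : Sn.ShortExact := by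
    refine ShortComplex.ShortExact.mk' ?_ ?_ ?_
    · rw [ShortComplex.ShortExact.moduleCat_exact_iff_function_exact]
      exact LinearMap.exact_subtype_ker_map fn
    · rw [ModuleCat.mono_iff_injective]
      exact (LinearMap.ker fn).injective_subtype
    · rw [ModuleCat.epi_iff_surjective]
      exact hfn
  -- the comparison `K_n → I^m K → K`
  have hκ₁ : ∀ x : ↥(LinearMap.ker fn), (x.1.1 : Fin r → A) ∈ Ksub := by
    intro x
    have := congrArg Subtype.val x.2
    exact this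
  let κ₁ : ↥(LinearMap.ker fn) →ₗ[A] ↥Ksub :=
    LinearMap.codRestrict Ksub ((I ^ n • ⊤ : Submodule A (Fin r → A)).subtype ∘ₗ
      (LinearMap.ker fn).subtype) hκ₁
  have hκmem : ∀ x : ↥(LinearMap.ker fn), κ₁ x ∈ (I ^ m • ⊤ : Submodule A ↥Ksub) := by
    intro x
    rw [Submodule.mem_smul_top_iff]
    have h1 : (x.1.1 : Fin r → A) ∈ I ^ n • ⊤ ⊓ Ksub := ⟨x.1.2, hκ₁ x⟩
    rw [hc₀ n (by lia)] at h1
    rw [hm]
    exact Submodule.smul_mono le_rfl inf_le_right h1
  let κ : ↥(LinearMap.ker fn) →ₗ[A] ↥(I ^ m • ⊤ : Submodule A ↥Ksub) :=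
    LinearMap.codRestrict _ κ₁ hκmem
  let kκ₁ : ModuleCat.of A ↥(LinearMap.ker fn) ⟶ K := ModuleCat.ofHom κ₁
  let kκ : ModuleCat.of A ↥(LinearMap.ker fn) ⟶ ModuleCat.of A ↥(I ^ m • ⊤ : Submodule A ↥Ksub) :=
    ModuleCat.ofHom κ
  let ιK : ModuleCat.of A ↥(I ^ m • ⊤ : Submodule A ↥Ksub) ⟶ K :=
    ModuleCat.ofHom (I ^ m • ⊤ : Submodule A ↥Ksub).subtype
  have hκ : kκ₁ = kκ ≫ ιK := rfl
  let φ : Sn ⟶ S :=
    { τ₁ := kκ₁
      τ₂ := ModuleCat.ofHom (I ^ n • ⊤ : Submodule A (Fin r → A)).subtype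
      τ₃ := ModuleCat.ofHom (I ^ n • ⊤ : Submodule A M).subtype
      comm₁₂ := rfl
      comm₂₃ := rfl }
  -- name the objects and maps with explicit types
  let sF := DerivedCategory.singleFunctor (ModuleCat.{u} A) 0
  let δS : sF.obj M ⟶ (shiftFunctor (Dual.D A) (1 : ℤ)).obj (sF.obj K) := hS.singleδ
  let δn : sF.obj (ModuleCat.of A ↥(I ^ n • ⊤ : Submodule A M)) ⟶
      (shiftFunctor (Dual.D A) (1 : ℤ)).obj (sF.obj (ModuleCat.of A ↥(LinearMap.ker fn))) :=
    hSn.singleδ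
  have hnat : δn ≫ (shiftFunctor (Dual.D A) (1 : ℤ)).map (sF.map kκ₁) =
      sF.map (ModuleCat.ofHom (I ^ n • ⊤ : Submodule A M).subtype) ≫ δS :=
    (ShortComplex.ShortExact.singleTriangle.map hSn hS φ).comm₃
  -- Step 1/2: `e` comes from `K[1]`
  have h1 : sF.map (ModuleCat.ofHom f) ≫ e = 0 :=
    hom_single_shift_eq_zero_of_projective F N _ (by push_cast; lia) _
  obtain ⟨g, hg⟩ : ∃ g : (shiftFunctor (Dual.D A) (1 : ℤ)).obj (sF.obj K) ⟶
      (shiftFunctor (Dual.D A) ((p + 1 : ℕ) : ℤ)).obj (sF.obj N), e = δS ≫ g :=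
    Triangle.yoneda_exact₃ _ hS.singleTriangle_distinguished e h1
  -- Step 3: desuspend
  let α := shiftFunctorAdd' (Dual.D A) (p : ℤ) 1 ((p + 1 : ℕ) : ℤ) (by push_cast; rfl)
  let e₁ : sF.obj K ⟶ (shiftFunctor (Dual.D A) (p : ℤ)).obj (sF.obj N) :=
    (shiftFunctor (Dual.D A) (1 : ℤ)).preimage (g ≫ α.hom.app (sF.obj N))
  have he₁ : (shiftFunctor (Dual.D A) (1 : ℤ)).map e₁ = g ≫ α.hom.app (sF.obj N) :=
    Functor.map_preimage _ _
  -- Step 4: induction hypothesis
  obtain ⟨e₁', he₁'⟩ := hc₁ m k (by lia) e₁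
  -- Step 5
  refine ⟨δn ≫ (shiftFunctor (Dual.D A) (1 : ℤ)).map (sF.map kκ) ≫
    (shiftFunctor (Dual.D A) (1 : ℤ)).map e₁' ≫ α.inv.app _, ?_⟩
  have hα := α.inv.naturality (sF.map (ModuleCat.ofHom (I ^ k • ⊤ : Submodule A N).subtype))
  have step1 : (shiftFunctor (Dual.D A) (1 : ℤ)).map e₁' ≫
      (shiftFunctor (Dual.D A) (1 : ℤ)).map ((shiftFunctor (Dual.D A) (p : ℤ)).map
        (sF.map (ModuleCat.ofHom (I ^ k • ⊤ : Submodule A N).subtype))) =
      (shiftFunctor (Dual.D A) (1 : ℤ)).map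
        (sF.map ιK) ≫
      (shiftFunctor (Dual.D A) (1 : ℤ)).map e₁ := by
    rw [← Functor.map_comp, ← Functor.map_comp]
    exact congrArg _ he₁'
  have step2 : (shiftFunctor (Dual.D A) (1 : ℤ)).map (sF.map kκ) ≫
      (shiftFunctor (Dual.D A) (1 : ℤ)).map
        (sF.map ιK) =
      (shiftFunctor (Dual.D A) (1 : ℤ)).map (sF.map kκ₁) := by
    rw [← Functor.map_comp, ← Functor.map_comp]
    exact congrArg _ (congrArg _ hκ.symm)
  calc (δn ≫ (shiftFunctor (Dual.D A) (1 : ℤ)).map (sF.map kκ) ≫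
          (shiftFunctor (Dual.D A) (1 : ℤ)).map e₁' ≫ α.inv.app _) ≫
        extMap ((p + 1 : ℕ) : ℤ) (ModuleCat.ofHom (I ^ k • ⊤ : Submodule A N).subtype)
      = δn ≫ (shiftFunctor (Dual.D A) (1 : ℤ)).map (sF.map kκ) ≫
          ((shiftFunctor (Dual.D A) (1 : ℤ)).map e₁' ≫
            (shiftFunctor (Dual.D A) (1 : ℤ)).map ((shiftFunctor (Dual.D A) (p : ℤ)).map
              (sF.map (ModuleCat.ofHom (I ^ k • ⊤ : Submodule A N).subtype)))) ≫
          α.inv.app _ := by
        simp only [Category.assoc]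
        erw [← hα]
        rfl
    _ = δn ≫ ((shiftFunctor (Dual.D A) (1 : ℤ)).map (sF.map kκ) ≫
          (shiftFunctor (Dual.D A) (1 : ℤ)).map
            (sF.map ιK)) ≫
          (shiftFunctor (Dual.D A) (1 : ℤ)).map e₁ ≫ α.inv.app _ := by
        rw [step1]
        simp only [Category.assoc]
    _ = δn ≫ (shiftFunctor (Dual.D A) (1 : ℤ)).map (sF.map kκ₁) ≫ g := by
        rw [step2, he₁, Category.assoc, Iso.hom_inv_id_app, Category.comp_id]
    _ = sF.map (ModuleCat.ofHom (I ^ n • ⊤ : Submodule A M).subtype) ≫ e := by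
        rw [reassoc_of% hnat, hg]

/-- The Artin–Rees property for `Ext^p(-, N)` holds for all `p`. -/
theorem extARProp (p : ℕ) : ExtARProp I N p := by
  induction p with
  | zero => exact extARProp_zero I N
  | succ p ih => exact extARProp_succ I N p ih

end ExtAR

end Groth.Agent.Lib.Helper13.DR
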