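import Groth.Agent.Lib.Helper13.DRingInj
import Groth.Agent.Lib.Helper13.PCDevissage
import Mathlib.CategoryTheory.Abelian.Projective.Dimension

set_option autoImplicit false
universe u
open CategoryTheory CategoryTheory.Limits CategoryTheory.Pretriangulated

namespace Groth.Agent.Lib.Helper13.DR

open Groth.Agent.Lib.Helper13.PC
open DerivedCategory

attribute [local instance] HasDerivedCategory.standard

variable {R : Type u} [CommRing R]

/-- Ext-vanishing from projective dimension, in `D(R)`. -/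
lemma subsingleton_hom_of_hasProjectiveDimensionLT (X N : ModuleCat.{u} R) (n : ℕ)
    [HasProjectiveDimensionLT X n] (k : ℤ) (hk : (n : ℤ) ≤ k) :
    Subsingleton ((DerivedCategory.singleFunctor (ModuleCat.{u} R) 0).obj X ⟶
      ((DerivedCategory.singleFunctor (ModuleCat.{u} R) 0).obj N)⟦k⟧) := by
  obtain ⟨j, rfl⟩ : ∃ j : ℕ, k = j := ⟨k.toNat, by rw [Int.toNat_of_nonneg (by lia)]⟩
  let _ := HasExt.standard (ModuleCat.{u} R)
  have := HasProjectiveDimensionLT.subsingleton X n j (by exact_mod_cast hk) N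
  exact (Abelian.Ext.homEquiv (X := X) (Y := N) (n := j)).symm.subsingleton

/-- Objects with cohomology in `[a, b]` over a ring of global dimension `≤ d` have no maps to
`N[s]` for `s > d - a`. -/
theorem subsingleton_hom_of_globalDim (d : ℕ)
    (hgl : ∀ M : ModuleCat.{u} R, HasProjectiveDimensionLT M (d + 1)) (K : Dual.D R) (a b : ℤ)
    (hK : ∀ i : ℤ, (i < a ∨ b < i) → IsZero ((DerivedCategory.homologyFunctor _ i).obj K))
    (N : ModuleCat.{u} R) (s : ℤ) (hs : d - a < s) :
    Subsingleton (K ⟶ ((DerivedCategory.singleFunctor (ModuleCat.{u} R) 0).obj N)⟦s⟧) := by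
  let L := ((DerivedCategory.singleFunctor (ModuleCat.{u} R) 0).obj N)⟦s⟧
  let W : ObjectProperty (Dual.D R) := fun K' => Subsingleton (K' ⟶ L)
  have hW : W.IsClosedUnderIsomorphisms :=
    ⟨fun e h => subsingleton_hom_of_iso e (Iso.refl L) h⟩
  have hext : ∀ T : Triangle (Dual.D R), T ∈ distTriang _ → W T.obj₁ → W T.obj₃ → W T.obj₂ := by
    intro T hT h1 h3
    refine ⟨fun f g => ?_⟩
    have key : ∀ f : T.obj₂ ⟶ L, f = 0 := by
      intro f
      obtain ⟨g, hg⟩ := Triangle.yoneda_exact₂ _ hT f (h1.elim _ _)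
      have hg0 : g = 0 := h3.elim g 0
      rw [hg, hg0]
      exact comp_zero
    rw [key f, key g]
  have hzero : ∀ Z : Dual.D R, IsZero Z → W Z := fun Z hZ => ⟨fun f g => hZ.eq_of_src f g⟩
  refine devissage_homology W hext hzero K a b hK (fun i => ?_)
  by_cases hi : i < a ∨ b < i
  · exact hzero _ (Functor.map_isZero _ (hK i hi))
  · change Subsingleton (_ ⟶ L)
    rw [← subsingleton_ext_iff]
    have e : L⟦i⟧ ≅ ((DerivedCategory.singleFunctor (ModuleCat.{u} R) 0).obj N)⟦s + i⟧ :=
      ((shiftFunctorAdd (Dual.D R) s i).app _).symm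
    have := hgl ((DerivedCategory.homologyFunctor _ i).obj K)
    exact subsingleton_hom_of_iso (Iso.refl _) e.symm
      (subsingleton_hom_of_hasProjectiveDimensionLT _ N (d + 1) (s + i) (by push_cast; lia))

/-- Global dimension `≤ d` and cohomology in `[a, b]` give projective amplitude `[a - d, b]`. -/
theorem hasProjAmp_of_globalDim (d : ℕ)
    (hgl : ∀ M : ModuleCat.{u} R, HasProjectiveDimensionLT M (d + 1)) (K : Dual.D R) (a b : ℤ)
    (hK : ∀ i : ℤ, (i < a ∨ b < i) → Subsingleton (Dual.HD R K i)) :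
    HasProjAmp K (a - d) b := by
  refine hasProjAmp_of_four K (a - d) b (fun n hn => hK n ?_) (fun N _ _ => ?_)
  · rcases hn with h | h
    · exact Or.inl (by lia)
    · exact Or.inr h
  · exact subsingleton_hom_of_globalDim d hgl K a b
      (fun i hi => (isZero_iff_subsingleton _).2 (hK i hi)) (ModuleCat.of R N) _ (by lia)

lemma hasTorAmplitudeIn_of_hasProjAmp {K : Dual.D R} {a b : ℤ} (h : HasProjAmp K a b) :
    DRing.HasTorAmplitudeIn R a b K := by
  obtain ⟨P, hv, hP, e⟩ := h
  exact ⟨P, hv, fun i => by have := hP i; infer_instance, e⟩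

end Groth.Agent.Lib.Helper13.DR
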