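import Groth.Agent.Lib.Helper13.DRingLocalSplit

set_option autoImplicit false
universe u
open CategoryTheory CategoryTheory.Limits TensorProduct MonoidalCategory

namespace Groth.Agent.Lib.Helper13.DR

open Groth.Agent.Lib.Helper13.PC
open DerivedCategory
attribute [local instance] HasDerivedCategory.standard

section Transfer

/-- Flat base change preserves exactness at a spot (ring hom version). -/
lemma exactAt_extendScalars_of_flat {S T : Type u} [CommRing S] [CommRing T] (g : S →+* T)
    (hg : g.Flat) (K : DRing.Cx S) (i : ℤ) (h : K.ExactAt i) :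
    (((ModuleCat.extendScalars.{u, u, u} g).mapHomologicalComplex (ComplexShape.up ℤ)).obj
      K).ExactAt i := by
  have : PreservesFiniteLimits (ModuleCat.extendScalars.{u, u, u} g) :=
    ModuleCat.preservesFiniteLimits_extendScalars_of_flat hg
  have : PreservesFiniteColimits (ModuleCat.extendScalars.{u, u, u} g) := by
    have : PreservesColimitsOfSize.{0, 0} (ModuleCat.extendScalars.{u, u, u} g) :=
      (ModuleCat.extendRestrictScalarsAdj g).leftAdjoint_preservesColimits
    exact ⟨fun _ _ _ => inferInstance⟩
  exact ShortComplex.Exact.map (S := K.sc i) h (ModuleCat.extendScalars.{u, u, u} g)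

/-- Exactness of base changes along two factorizations of the same ring map. -/
lemma exactAt_extendScalars_comp {R S S' T : Type u} [CommRing R] [CommRing S] [CommRing S']
    [CommRing T] (f : R →+* S) (g : S →+* T) (f' : R →+* S') (g' : S' →+* T)
    (hfg : g.comp f = g'.comp f') (hg' : g'.Flat) (E : DRing.Cx R) (i : ℤ)
    (h : (((ModuleCat.extendScalars.{u, u, u} f').mapHomologicalComplex (ComplexShape.up ℤ)).obj
      E).ExactAt i) :
    (((ModuleCat.extendScalars.{u, u, u} g).mapHomologicalComplex (ComplexShape.up ℤ)).obj
      (((ModuleCat.extendScalars.{u, u, u} f).mapHomologicalComplex (ComplexShape.up ℤ)).obj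
        E)).ExactAt i := by
  have h1 := exactAt_extendScalars_of_flat g' hg' _ i h
  have key : ∀ (k : R →+* T), k = g'.comp f' →
      (((ModuleCat.extendScalars.{u, u, u} k).mapHomologicalComplex (ComplexShape.up ℤ)).obj
        E).ExactAt i := by
    rintro _ rfl
    let e := (NatIso.mapHomologicalComplex (ModuleCat.extendScalarsComp.{u} f' g')
      (ComplexShape.up ℤ)).app E
    rw [HomologicalComplex.exactAt_iff_isZero_homology] at h1 ⊢
    exact h1.of_iso ((HomologicalComplex.homologyFunctor _ _ i).mapIso e)
  have h2 := key _ hfg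
  let e := (NatIso.mapHomologicalComplex (ModuleCat.extendScalarsComp.{u} f g)
      (ComplexShape.up ℤ)).app E
  rw [HomologicalComplex.exactAt_iff_isZero_homology] at h2 ⊢
  exact h2.of_iso ((HomologicalComplex.homologyFunctor _ _ i).mapIso e.symm)

end Transfer

section Maximal

variable (R : Type u) [CommRing R]

instance (m : MaximalSpectrum R) : m.asIdeal.IsPrime := m.isMaximal.isPrime

lemma jointlyFaithful_maximal :
    JointlyFaithful R (fun m : MaximalSpectrum R => Localization.AtPrime m.asIdeal) := by
  intro M hM
  rw [isZero_iff_subsingleton]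
  refine Module.subsingleton_of_localization_maximal
    (fun (P : Ideal R) [P.IsMaximal] => Localization.AtPrime P ⊗[R] M)
    (fun (P : Ideal R) [P.IsMaximal] => TensorProduct.mk R (Localization.AtPrime P) M 1) ?_
  intro P hP
  exact subsingleton_tensor_of_isZero_extendScalars R (Localization.AtPrime P) M (hM ⟨P, hP⟩)

/-- The canonical map `R/m → κ(R_m)`. -/
noncomputable def quotToResidue (m : Ideal R) [m.IsMaximal] :
    R ⧸ m →+* IsLocalRing.ResidueField (Localization.AtPrime m) :=
  Ideal.Quotient.lift m ((IsLocalRing.residue (Localization.AtPrime m)).comp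
    (algebraMap R (Localization.AtPrime m))) (fun a ha => by
      rw [RingHom.comp_apply, IsLocalRing.residue_eq_zero_iff]
      exact (IsLocalization.AtPrime.to_map_mem_maximal_iff (Localization.AtPrime m) m a).2 ha)

lemma quotToResidue_flat (m : Ideal R) [m.IsMaximal] : (quotToResidue R m).Flat := by
  let _ : Field (R ⧸ m) := Ideal.Quotient.field m
  let _ := (quotToResidue R m).toAlgebra
  show Module.Flat (R ⧸ m) (IsLocalRing.ResidueField (Localization.AtPrime m))
  infer_instance

/-- A bounded above complex of finite free modules whose reductions modulo all maximal ideals are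
exact outside `[a, b]` has tor amplitude in `[a, b]`. -/
theorem hasTorAmplitudeIn_of_fibres_vanishing (E : DRing.Cx R) (c : ℤ)
    (hc : ∀ i : ℤ, c < i → IsZero (E.X i)) (hff : ∀ i : ℤ, Pff R (E.X i)) (a b : ℤ)
    (h : ∀ (m : Ideal R), m.IsMaximal → ∀ i : ℤ, (i < a ∨ b < i) →
      (((ModuleCat.extendScalars.{u, u, u} (Ideal.Quotient.mk m)).mapHomologicalComplex
        (ComplexShape.up ℤ)).obj E).ExactAt i) :
    DRing.HasTorAmplitudeIn R a b (Q.obj E) := by
  refine hasTorAmplitudeIn_of_jointlyFaithful (jointlyFaithful_maximal R) E a b (fun m => ?_)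
  have := m.isMaximal
  refine hasTorAmplitudeIn_of_residue_vanishing (Localization.AtPrime m.asIdeal)
    ((extendCx R (Localization.AtPrime m.asIdeal)).obj E) c
    (fun i hi => Functor.map_isZero
      (ModuleCat.extendScalars.{u, u, u} (algebraMap R (Localization.AtPrime m.asIdeal))) (hc i hi))
    (fun i => Pff_extendScalars (Localization.AtPrime m.asIdeal) (hff i)) a b (fun i hi => ?_)
  exact exactAt_extendScalars_comp (algebraMap R (Localization.AtPrime m.asIdeal))
    (algebraMap (Localization.AtPrime m.asIdeal)
      (IsLocalRing.ResidueField (Localization.AtPrime m.asIdeal)))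
    (Ideal.Quotient.mk m.asIdeal) (quotToResidue R m.asIdeal)
    (by
      ext x
      simp [quotToResidue])
    (quotToResidue_flat R m.asIdeal) E i (h m.asIdeal m.isMaximal i hi)

end Maximal

end Groth.Agent.Lib.Helper13.DR
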