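import Groth.Agent.Lib.Helper13.DRingInj
import Groth.Agent.Lib.Helper13.PCDevissage

set_option autoImplicit false
universe u
open CategoryTheory CategoryTheory.Limits CategoryTheory.Pretriangulated

namespace Groth.Agent.Lib.Helper13.DR

open Groth.Agent.Lib.Helper13.PC
open DerivedCategory

attribute [local instance] HasDerivedCategory.standard

variable {R : Type u} [CommRing R]

theorem hasInjAmplitudeIn_iff_ext (K : Dual.D R) (a b : ℤ) :
    DRing.HasInjAmplitudeIn R a b K ↔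
      ∀ (N : Type u) [AddCommGroup N] [Module R N] (i : ℤ), (i < a ∨ b < i) →
        Subsingleton (DRing.ExtD R (Dual.inD R N) K i) :=
  ⟨fun h N _ _ i hi => ext_subsingleton_of_hasInjAmplitudeIn K a b h N i hi,
    fun h => hasInjAmplitudeIn_of_quotients K a b (fun I i hi => h (R ⧸ I) i hi)⟩

lemma hasInjAmplitudeIn_mono {K : Dual.D R} {a b a' b' : ℤ} (h : DRing.HasInjAmplitudeIn R a b K)
    (ha : a' ≤ a) (hb : b ≤ b') : DRing.HasInjAmplitudeIn R a' b' K := by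
  rw [hasInjAmplitudeIn_iff_ext] at h ⊢
  intro N _ _ i hi
  exact h N i (by lia)

theorem hasInjAmplitudeIn_obj₂ (T : Triangle (Dual.D R)) (hT : T ∈ distTriang _) (a b : ℤ)
    (h₁ : DRing.HasInjAmplitudeIn R a b T.obj₁) (h₃ : DRing.HasInjAmplitudeIn R a b T.obj₃) :
    DRing.HasInjAmplitudeIn R a b T.obj₂ := by
  rw [hasInjAmplitudeIn_iff_ext] at h₁ h₃ ⊢
  intro N _ _ i hi
  have hT' := Triangle.shift_distinguished T hT i
  refine ⟨fun f g => ?_⟩
  have key : ∀ f : Dual.inD R N ⟶ (T.obj₂)⟦i⟧, f = 0 := by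
    intro f
    have h3 := h₃ N i hi
    have h1 := h₁ N i hi
    obtain ⟨g, hg⟩ := Triangle.coyoneda_exact₂ _ hT' f (h3.elim _ _)
    have hg0 : g = 0 := h1.elim g 0
    rw [hg, hg0]
    exact zero_comp
  rw [key f, key g]


lemma hasInjAmplitudeIn_of_iso {K K' : Dual.D R} {a b : ℤ} (h : DRing.HasInjAmplitudeIn R a b K)
    (e : K ≅ K') : DRing.HasInjAmplitudeIn R a b K' := by
  obtain ⟨E, hv, hI, ⟨e'⟩⟩ := h
  exact ⟨E, hv, hI, ⟨e' ≪≫ e⟩⟩

lemma hasInjAmplitudeIn_shift {K : Dual.D R} {a b : ℤ} (h : DRing.HasInjAmplitudeIn R a b K)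
    (n : ℤ) : DRing.HasInjAmplitudeIn R (a - n) (b - n)
      ((CategoryTheory.shiftFunctor (Dual.D R) n).obj K) := by
  obtain ⟨E, hv, hI, ⟨e⟩⟩ := h
  exact ⟨(CategoryTheory.shiftFunctor (CochainComplex (ModuleCat.{u} R) ℤ) n).obj E,
    fun i hi => hv (i + n) (by lia), fun i => hI (i + n),
    ⟨(Q.commShiftIso n).app E ≪≫ (CategoryTheory.shiftFunctor (Dual.D R) n).mapIso e⟩⟩

open ZeroObject in
lemma hasInjAmplitudeIn_of_isZero {Z : Dual.D R} (hZ : IsZero Z) (a b : ℤ) :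
    DRing.HasInjAmplitudeIn R a b Z := by
  have hzero : ∀ i : ℤ, IsZero ((0 : CochainComplex (ModuleCat.{u} R) ℤ).X i) := fun i =>
    (HomologicalComplex.eval _ _ i).map_isZero (isZero_zero _)
  refine ⟨0, fun i _ => hzero i, fun i => ?_,
    ⟨((Q (C := ModuleCat.{u} R)).map_isZero (isZero_zero _)).iso hZ⟩⟩
  have := ModuleCat.subsingleton_of_isZero (hzero i)
  exact (injective_iff _).1 (Injective.of_iso (IsZero.iso (isZero_zero _) (hzero i)) inferInstance)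

lemma hasFiniteInjDim_obj₂ (T : Triangle (Dual.D R)) (hT : T ∈ distTriang _)
    (h₁ : DRing.HasFiniteInjDim R T.obj₁) (h₃ : DRing.HasFiniteInjDim R T.obj₃) :
    DRing.HasFiniteInjDim R T.obj₂ := by
  obtain ⟨a₁, b₁, h₁⟩ := h₁
  obtain ⟨a₃, b₃, h₃⟩ := h₃
  exact ⟨min a₁ a₃, max b₁ b₃, hasInjAmplitudeIn_obj₂ T hT _ _
    (hasInjAmplitudeIn_mono h₁ (min_le_left _ _) (le_max_left _ _))
    (hasInjAmplitudeIn_mono h₃ (min_le_right _ _) (le_max_right _ _))⟩

lemma hasFiniteInjDim_single_shift {X : ModuleCat.{u} R}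
    (h : DRing.HasFiniteInjDim R ((DerivedCategory.singleFunctor (ModuleCat.{u} R) 0).obj X)) (i : ℤ) :
    DRing.HasFiniteInjDim R ((DerivedCategory.singleFunctor (ModuleCat.{u} R) i).obj X) := by
  obtain ⟨a, b, h⟩ := h
  exact ⟨_, _, hasInjAmplitudeIn_of_iso (hasInjAmplitudeIn_shift h (-i)) (singleShiftIso i X)⟩

end Groth.Agent.Lib.Helper13.DR
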