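import Groth.Agent.Lib.Helper13.DRingDescent3
import Groth.Agent.Lib.Helper13.DRingTorBC
import Mathlib.RingTheory.LocalRing.Module

set_option autoImplicit false
universe u
open CategoryTheory CategoryTheory.Limits TensorProduct MonoidalCategory

namespace Groth.Agent.Lib.Helper13.DR

open Groth.Agent.Lib.Helper13.PC
open DerivedCategory
attribute [local instance] HasDerivedCategory.standard

section ModuleLevel

open IsLocalRing

/-- Over a local ring: a three-term complex `F → G → H` with `G` finite projective, `H` finite free,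
which is exact after tensoring with the residue field, admits a contracting homotopy at `G`. -/
theorem exists_contracting_of_exact_residueField {R : Type u} [CommRing R] [IsLocalRing R]
    {F G H : Type u} [AddCommGroup F] [Module R F] [AddCommGroup G] [Module R G]
    [AddCommGroup H] [Module R H]
    [Module.Finite R G] [Module.Projective R G] [Module.Finite R H] [Module.Free R H]
    (u : F →ₗ[R] G) (v : G →ₗ[R] H) (huv : v ∘ₗ u = 0)
    (hex : Function.Exact (u.lTensor (ResidueField R)) (v.lTensor (ResidueField R))) :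
    ∃ (s : G →ₗ[R] F) (t : H →ₗ[R] G), u ∘ₗ s + t ∘ₗ v = LinearMap.id := by
  classical
  -- the cokernel of u and the induced map to H
  let C := G ⧸ LinearMap.range u
  let q : G →ₗ[R] C := (LinearMap.range u).mkQ
  have hq : Function.Surjective q := Submodule.mkQ_surjective _
  let v' : C →ₗ[R] H := (LinearMap.range u).liftQ v (by
    rintro _ ⟨x, rfl⟩
    exact LinearMap.congr_fun huv x)
  have hv' : v' ∘ₗ q = v := Submodule.liftQ_mkQ _ _ _
  have hqu : q ∘ₗ u = 0 := by
    ext x
    exact (Submodule.Quotient.mk_eq_zero _).2 ⟨x, rfl⟩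
  have hinj : Function.Injective (v'.lTensor (ResidueField R)) := by
    rw [injective_iff_map_eq_zero]
    intro x hx
    obtain ⟨y, rfl⟩ := LinearMap.lTensor_surjective (ResidueField R) hq x
    have h1 : (v.lTensor (ResidueField R)) y = 0 := by
      rw [← hv', LinearMap.lTensor_comp]
      exact hx
    obtain ⟨z, rfl⟩ := (hex y).1 h1
    rw [← LinearMap.comp_apply, ← LinearMap.lTensor_comp, hqu, LinearMap.lTensor_zero]
    rfl
  obtain ⟨l', hl'⟩ := (IsLocalRing.split_injective_iff_lTensor_residueField_injective v').2 hinj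
  -- lift l' through q
  obtain ⟨t, ht⟩ := Module.projective_lifting_property q l' hq
  -- id - t ∘ v lands in range u
  have hrange : ∀ g : G, g - t (v g) ∈ LinearMap.range u := by
    intro g
    rw [← Submodule.Quotient.mk_eq_zero, Submodule.Quotient.mk_sub]
    have h2 : q (t (v g)) = q g := by
      have := LinearMap.congr_fun ht (v g)
      rw [LinearMap.comp_apply] at this
      rw [this, ← hv', LinearMap.comp_apply]
      exact LinearMap.congr_fun hl' (q g)
    exact sub_eq_zero.2 h2.symm
  let w : G →ₗ[R] LinearMap.range u :=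
    (LinearMap.id - t ∘ₗ v).codRestrict (LinearMap.range u) (fun g => by
      simpa using hrange g)
  obtain ⟨s, hs⟩ := Module.projective_lifting_property u.rangeRestrict w
    (LinearMap.surjective_rangeRestrict u)
  refine ⟨s, t, ?_⟩
  ext g
  have h3 := congrArg Subtype.val (LinearMap.congr_fun hs g)
  simp only [LinearMap.comp_apply, LinearMap.codRestrict_apply, LinearMap.sub_apply,
    LinearMap.id_apply, w] at h3
  simp only [LinearMap.add_apply, LinearMap.comp_apply, LinearMap.id_apply]
  have h4 : u (s g) = g - t (v g) := h3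
  rw [h4]; abel

end ModuleLevel

section Abstract

variable {C : Type*} [Category C] [Abelian C]

/-- A complex with a contracting homotopy at `j` is exact at `j`. -/
lemma exactAt_of_contracting (K : CochainComplex C ℤ) (i j k : ℤ) (hij : i + 1 = j)
    (hjk : j + 1 = k) (s : K.X j ⟶ K.X i) (t : K.X k ⟶ K.X j)
    (h : s ≫ K.d i j + K.d j k ≫ t = 𝟙 (K.X j)) : K.ExactAt j := by
  rw [HomologicalComplex.exactAt_iff' K i j k (by simp; lia) (by simp; lia)]
  rw [ShortComplex.exact_iff_isZero_homology, IsZero.iff_id_eq_zero]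
  have hf : K.d i j ≫ s ≫ K.d i j = K.d i j := by
    have : K.d i j ≫ (s ≫ K.d i j + K.d j k ≫ t) = K.d i j := by rw [h, Category.comp_id]
    rw [Preadditive.comp_add, HomologicalComplex.d_comp_d_assoc, zero_comp, add_zero] at this
    exact this
  have hg : K.d j k ≫ t ≫ K.d j k = K.d j k := by
    have : (s ≫ K.d i j + K.d j k ≫ t) ≫ K.d j k = K.d j k := by rw [h, Category.id_comp]
    rw [Preadditive.add_comp, Category.assoc, HomologicalComplex.d_comp_d, comp_zero, zero_add,
      Category.assoc] at this
    exact this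
  let H : ShortComplex.Homotopy (𝟙 (K.sc' i j k)) 0 :=
    { h₀ := (𝟙 (K.X i) - K.d i j ≫ s : K.X i ⟶ K.X i)
      h₀_f := by
        show (𝟙 (K.X i) - K.d i j ≫ s) ≫ K.d i j = 0
        rw [Preadditive.sub_comp, Category.id_comp, Category.assoc, hf, sub_self]
      h₁ := s
      h₂ := t
      h₃ := (𝟙 (K.X k) - t ≫ K.d j k : K.X k ⟶ K.X k)
      g_h₃ := by
        show K.d j k ≫ (𝟙 (K.X k) - t ≫ K.d j k) = 0
        rw [Preadditive.comp_sub, Category.comp_id, hg, sub_self]
      comm₁ := by
        show 𝟙 (K.X i) = K.d i j ≫ s + (𝟙 (K.X i) - K.d i j ≫ s) + 0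
        abel
      comm₂ := by
        show 𝟙 (K.X j) = K.d j k ≫ t + s ≫ K.d i j + 0
        rw [add_zero, add_comm]; exact h.symm
      comm₃ := by
        show 𝟙 (K.X k) = (𝟙 (K.X k) - t ≫ K.d j k) + t ≫ K.d j k + 0
        abel }
  rw [← ShortComplex.homologyMap_id, H.homologyMap_congr, ShortComplex.homologyMap_zero]

/-- Contracting homotopies are preserved by additive functors. -/
lemma exactAt_map_of_contracting {D : Type*} [Category D] [Abelian D] (Φ : C ⥤ D) [Φ.Additive]
    (K : CochainComplex C ℤ) (i j k : ℤ) (hij : i + 1 = j)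
    (hjk : j + 1 = k) (s : K.X j ⟶ K.X i) (t : K.X k ⟶ K.X j)
    (h : s ≫ K.d i j + K.d j k ≫ t = 𝟙 (K.X j)) :
    (((Φ.mapHomologicalComplex (ComplexShape.up ℤ)).obj K)).ExactAt j := by
  refine exactAt_of_contracting _ i j k hij hjk (Φ.map s) (Φ.map t) ?_
  show Φ.map s ≫ Φ.map (K.d i j) + Φ.map (K.d j k) ≫ Φ.map t = 𝟙 (Φ.obj (K.X j))
  rw [← Φ.map_comp, ← Φ.map_comp, ← Φ.map_add, h, Φ.map_id]

end Abstract

section Bridge

variable {A : Type u} [CommRing A] (B : Type u) [CommRing B] [Algebra A B]

set_option backward.isDefEq.respectTransparency false in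
lemma extendScalarsEquiv_naturality {M N : ModuleCat.{u} A} (l : M ⟶ N)
    (z : (ModuleCat.extendScalars.{u, u, u} (algebraMap A B)).obj M) :
    extendScalarsEquiv B N (((ModuleCat.extendScalars.{u, u, u} (algebraMap A B)).map l).hom z) =
      (l.hom.lTensor B) (extendScalarsEquiv B M z) := by
  induction z using TensorProduct.induction_on with
  | zero => simp
  | tmul s m => rfl
  | add x y hx hy => rw [map_add, map_add, map_add, map_add, hx, hy]

/-- Exactness of the base-changed complex in terms of `lTensor`. -/
lemma exactAt_extendCx_iff (P : DRing.Cx A) (i j k : ℤ) (hij : i + 1 = j) (hjk : j + 1 = k) :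
    ((extendCx A B).obj P).ExactAt j ↔
      Function.Exact ((P.d i j).hom.lTensor B) ((P.d j k).hom.lTensor B) := by
  rw [exactAt_iff_function_exact _ i j k hij hjk]
  constructor
  · intro h y
    constructor
    · intro hy
      obtain ⟨x, hx⟩ := (h ((extendScalarsEquiv B (P.X j)).symm y)).1 (by
        apply (extendScalarsEquiv B (P.X k)).injective
        refine ((extendScalarsEquiv_naturality B (P.d j k) _).trans ?_).trans
          (map_zero (extendScalarsEquiv B (P.X k))).symm
        rw [LinearEquiv.apply_symm_apply]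
        exact hy)
      refine ⟨extendScalarsEquiv B (P.X i) x, ?_⟩
      rw [← extendScalarsEquiv_naturality B (P.d i j) x]
      refine (congrArg (extendScalarsEquiv B (P.X j)) hx).trans ?_
      rw [LinearEquiv.apply_symm_apply]
    · rintro ⟨x, rfl⟩
      rw [← LinearMap.comp_apply, ← LinearMap.lTensor_comp, ← ModuleCat.hom_comp,
        HomologicalComplex.d_comp_d]
      simp
  · intro h y
    constructor
    · intro hy
      obtain ⟨x, hx⟩ := (h (extendScalarsEquiv B (P.X j) y)).1 (by
        rw [← extendScalarsEquiv_naturality B (P.d j k) y]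
        exact (congrArg (extendScalarsEquiv B (P.X k)) hy).trans
          (map_zero (extendScalarsEquiv B (P.X k))))
      refine ⟨(extendScalarsEquiv B (P.X i)).symm x, ?_⟩
      apply (extendScalarsEquiv B (P.X j)).injective
      refine (extendScalarsEquiv_naturality B (P.d i j) _).trans ?_
      rw [LinearEquiv.apply_symm_apply]
      exact hx
    · rintro ⟨x, rfl⟩
      have := ((extendCx A B).obj P).d_comp_d i j k
      exact congrArg (fun f => f.hom x) this

end Bridge

section Local

variable (R : Type u) [CommRing R] [IsLocalRing R]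

/-- Over a local ring, a complex with finite projective/free terms around `j` whose reduction to
the residue field is exact at `j` has a contracting homotopy at `j`. -/
theorem exists_contracting_of_exactAt_residue (P : DRing.Cx R) (i j k : ℤ) (hij : i + 1 = j)
    (hjk : j + 1 = k) (hj : Pfp R (P.X j)) (hk : Pff R (P.X k))
    (h : ((extendCx R (IsLocalRing.ResidueField R)).obj P).ExactAt j) :
    ∃ (s : P.X j ⟶ P.X i) (t : P.X k ⟶ P.X j), s ≫ P.d i j + P.d j k ≫ t = 𝟙 (P.X j) := by
  rw [exactAt_extendCx_iff (IsLocalRing.ResidueField R) P i j k hij hjk] at h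
  have := hj.1
  have := hj.2
  have := hk.1
  have := hk.2
  obtain ⟨s, t, hst⟩ := exists_contracting_of_exact_residueField (P.d i j).hom (P.d j k).hom
    (by rw [← ModuleCat.hom_comp, HomologicalComplex.d_comp_d]; rfl) h
  refine ⟨ModuleCat.ofHom s, ModuleCat.ofHom t, ?_⟩
  apply ModuleCat.hom_ext
  exact hst

/-- Over a local ring: exactness of the residue field reduction at `j` implies exactness of all
tensor products at `j`. -/
theorem exactAt_tensorCx_of_exactAt_residue (P : DRing.Cx R) (j : ℤ)
    (hj : Pfp R (P.X j)) (hk : Pff R (P.X (j + 1)))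
    (h : ((extendCx R (IsLocalRing.ResidueField R)).obj P).ExactAt j) (N : ModuleCat.{u} R) :
    ((tensorCx N).obj P).ExactAt j := by
  obtain ⟨s, t, hst⟩ := exists_contracting_of_exactAt_residue R P (j - 1) j (j + 1) (by ring) rfl
    hj hk h
  exact exactAt_map_of_contracting (tensorRight N) P (j - 1) j (j + 1) (by ring) rfl s t hst

/-- Over a local ring: a bounded above complex of finite free modules whose reduction to the
residue field is exact outside `[a, b]` has tor amplitude in `[a, b]`. -/
theorem hasTorAmplitudeIn_of_residue_vanishing (P : DRing.Cx R) (c : ℤ)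
    (hc : ∀ i : ℤ, c < i → IsZero (P.X i)) (hff : ∀ i : ℤ, Pff R (P.X i)) (a b : ℤ)
    (h : ∀ i : ℤ, (i < a ∨ b < i) → ((extendCx R (IsLocalRing.ResidueField R)).obj P).ExactAt i) :
    DRing.HasTorAmplitudeIn R a b (Q.obj P) := by
  refine hasTorAmplitudeIn_of_tensor_vanishing P c hc (fun i => Pfp_le_Pfl (Pff_le_Pfp (hff i))) a b
    (fun N i hi => ?_)
  rw [← HomologicalComplex.exactAt_iff_isZero_homology]
  exact exactAt_tensorCx_of_exactAt_residue R P i (Pff_le_Pfp (hff i)) (hff _) (h i hi) N

/-- Over a local ring: a bounded above complex of finite free modules whose reduction to the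
residue field is exact outside `[a, b]` is perfect. -/
theorem isPerfect_of_residue_vanishing (P : DRing.Cx R) (c : ℤ)
    (hc : ∀ i : ℤ, c < i → IsZero (P.X i)) (hff : ∀ i : ℤ, Pff R (P.X i)) (a b : ℤ)
    (h : ∀ i : ℤ, (i < a ∨ b < i) → ((extendCx R (IsLocalRing.ResidueField R)).obj P).ExactAt i) :
    DRing.IsPerfect R (Q.obj P) := by
  refine isPerfect_of_isNPC_of_hasTorAmplitudeIn ?_
    (hasTorAmplitudeIn_of_residue_vanishing R P c hc hff a b h)
  exact isPC_Q_of_strictPCAll (P := Pff R) (E := P) ⟨⟨c, hc⟩, hff⟩ _

end Local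

end Groth.Agent.Lib.Helper13.DR
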