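import Groth.Agent.Lib.Helper13.DRingPC
import Groth.Prelude.Def_MoreMor

set_option autoImplicit false
universe u
open CategoryTheory CategoryTheory.Limits

namespace Groth.Agent.Lib.Helper13.DR

open Groth.Agent.Lib.Helper13.PC
open DerivedCategory

attribute [local instance] HasDerivedCategory.standard

lemma finitePresentation_of_isPseudoCoherentModule' {A : Type u} [CommRing A] (M : Type u)
    [AddCommGroup M] [Module A M] (h : DRing.IsPseudoCoherentModule' A M) :
    Module.FinitePresentation A M := by
  have h1 : DRing.IsPseudoCoherent' A (Dual.inD A M) := h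
  rw [isPseudoCoherent'_iff_forall] at h1
  have h2 := (isPseudoCoherent_iff (-1) _).1 (h1 (-1))
  exact (isNPC_single_neg_one_iff (ModuleCat.of A M)).1 h2

lemma finitePresentation_of_isPseudoCoherentHom (A B : Type u) [CommRing A] [CommRing B]
    [Algebra A B] (h : MoreMor.IsPseudoCoherentHom A B) : Algebra.FinitePresentation A B := by
  obtain ⟨n, φ, hφ, h⟩ := h
  let _ := φ.toRingHom.toAlgebra
  have hfp := finitePresentation_of_isPseudoCoherentModule' (A := MvPolynomial (Fin n) A) B h
  refine ⟨n, φ, hφ, ?_⟩
  have := Module.FinitePresentation.fg_ker (Algebra.linearMap (MvPolynomial (Fin n) A) B) hφ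
  have e : RingHom.ker φ.toRingHom = LinearMap.ker (Algebra.linearMap (MvPolynomial (Fin n) A) B) := by
    ext x
    rw [RingHom.mem_ker, LinearMap.mem_ker]
    rfl
  rw [e]
  exact this

end Groth.Agent.Lib.Helper13.DR
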