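import Groth.Agent.Lib.Helper13.DRingFlatBC
import Mathlib.Algebra.Category.ModuleCat.Monoidal.Basic
import Mathlib.RingTheory.TensorProduct.Maps

set_option autoImplicit false
universe u
open CategoryTheory CategoryTheory.Limits MonoidalCategory TensorProduct

namespace Groth.Agent.Lib.Helper13.DR

section Proj

variable (A B : Type u) [CommRing A] [CommRing B] [Algebra A B]
variable (Q' : Type u) [AddCommGroup Q'] [Module B Q'] [Module A Q'] [IsScalarTower A B Q']

/-- `(B ⊗_A X) ⊗_B Q' ≃ X ⊗_A Q'`, additively. -/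
noncomputable def projEquiv (X : ModuleCat.{u} A) :
    ((ModuleCat.extendScalars.{u, u, u} (algebraMap A B)).obj X) ⊗[B] Q' ≃ₗ[B] Q' ⊗[A] X :=
  TensorProduct.congr (extendScalarsEquiv B X) (LinearEquiv.refl B Q') ≪≫ₗ
    TensorProduct.comm B _ _ ≪≫ₗ
    TensorProduct.AlgebraTensorModule.cancelBaseChange A B B Q' X

lemma projEquiv_tmul (X : ModuleCat.{u} A) (s : B) (x : X) (q : Q') :
    projEquiv A B Q' X ((s ⊗ₜ[A] x : (ModuleCat.extendScalars.{u, u, u} (algebraMap A B)).obj X)
      ⊗ₜ[B] q) = (s • q) ⊗ₜ[A] x := rfl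

/-- The projection formula, as an `A`-linear equivalence. -/
noncomputable def projEquivA (X : ModuleCat.{u} A) :
    ((ModuleCat.restrictScalars.{u} (algebraMap A B)).obj
      ((ModuleCat.extendScalars.{u, u, u} (algebraMap A B)).obj X ⊗ ModuleCat.of B Q')) ≃ₗ[A]
    (X ⊗ ModuleCat.of A Q' : ModuleCat.{u} A) where
  toFun y := TensorProduct.comm A Q' X (projEquiv A B Q' X y)
  invFun z := (projEquiv A B Q' X).symm ((TensorProduct.comm A Q' X).symm z)
  map_add' y y' := by
    have h : ∀ y y' : ((ModuleCat.extendScalars.{u, u, u} (algebraMap A B)).obj X) ⊗[B] Q',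
        TensorProduct.comm A Q' X (projEquiv A B Q' X (y + y')) =
          TensorProduct.comm A Q' X (projEquiv A B Q' X y) +
            TensorProduct.comm A Q' X (projEquiv A B Q' X y') := fun y y' => by
      rw [map_add, map_add]
    exact h y y'
  map_smul' a y := by
    have h : ∀ y : ((ModuleCat.extendScalars.{u, u, u} (algebraMap A B)).obj X) ⊗[B] Q',
        TensorProduct.comm A Q' X (projEquiv A B Q' X ((algebraMap A B a) • y)) =
          a • TensorProduct.comm A Q' X (projEquiv A B Q' X y) := fun y => by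
      rw [map_smul, algebraMap_smul, map_smul]
    exact h y
  left_inv y := by
    change (projEquiv A B Q' X).symm ((TensorProduct.comm A Q' X).symm
      (TensorProduct.comm A Q' X (projEquiv A B Q' X y))) = y
    rw [LinearEquiv.symm_apply_apply, LinearEquiv.symm_apply_apply]
  right_inv z := by
    change TensorProduct.comm A Q' X (projEquiv A B Q' X ((projEquiv A B Q' X).symm
      ((TensorProduct.comm A Q' X).symm z))) = z
    rw [LinearEquiv.apply_symm_apply, LinearEquiv.apply_symm_apply]

lemma projEquivA_tmul (X : ModuleCat.{u} A) (s : B) (x : X) (q : Q') :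
    projEquivA A B Q' X ((s ⊗ₜ[A] x : (ModuleCat.extendScalars.{u, u, u} (algebraMap A B)).obj X)
      ⊗ₜ[B] q) = x ⊗ₜ[A] (s • q) := rfl

/-- The projection formula, as an isomorphism of `A`-modules. -/
noncomputable def projIso (X : ModuleCat.{u} A) :
    (ModuleCat.restrictScalars.{u} (algebraMap A B)).obj
      ((ModuleCat.extendScalars.{u, u, u} (algebraMap A B)).obj X ⊗ ModuleCat.of B Q') ≅
    (X ⊗ ModuleCat.of A Q' : ModuleCat.{u} A) :=
  (projEquivA A B Q' X).toModuleIso

lemma projIso_naturality {X X' : ModuleCat.{u} A} (g : X ⟶ X') :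
    (ModuleCat.restrictScalars.{u} (algebraMap A B)).map
        ((ModuleCat.extendScalars.{u, u, u} (algebraMap A B)).map g ▷ ModuleCat.of B Q') ≫
      (projIso A B Q' X').hom = (projIso A B Q' X).hom ≫ (g ▷ ModuleCat.of A Q') := by
  apply ModuleCat.hom_ext
  apply LinearMap.ext
  intro y
  let L : ((ModuleCat.extendScalars.{u, u, u} (algebraMap A B)).obj X) ⊗[B] Q' → X' ⊗[A] Q' :=
    fun w => TensorProduct.comm A Q' X' (projEquiv A B Q' X'
      (((ModuleCat.extendScalars.{u, u, u} (algebraMap A B)).map g ▷ ModuleCat.of B Q').hom w))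
  let Rr : ((ModuleCat.extendScalars.{u, u, u} (algebraMap A B)).obj X) ⊗[B] Q' → X' ⊗[A] Q' :=
    fun w => (g ▷ ModuleCat.of A Q').hom (TensorProduct.comm A Q' X (projEquiv A B Q' X w))
  have hL : ∀ a b, L (a + b) = L a + L b := fun a b => by
    simp only [L, map_add]
  have hR : ∀ a b, Rr (a + b) = Rr a + Rr b := fun a b => by
    simp only [Rr, map_add]
  have hL0 : L 0 = 0 := by
    simp only [L, map_zero]
  have hR0 : Rr 0 = 0 := by
    simp only [Rr, map_zero]
  have key : ∀ w, L w = Rr w := by
    intro w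
    induction w using TensorProduct.induction_on with
    | zero => rw [hL0, hR0]
    | add x y hx hy => rw [hL, hR, hx, hy]
    | tmul z q =>
      induction z using TensorProduct.induction_on with
      | zero =>
        have h0 : ((0 : ((ModuleCat.extendScalars.{u, u, u} (algebraMap A B)).obj X)) ⊗ₜ[B] q :
          ((ModuleCat.extendScalars.{u, u, u} (algebraMap A B)).obj X) ⊗[B] Q') = 0 :=
          TensorProduct.zero_tmul _ q
        exact (congrArg L h0).trans (hL0.trans ((congrArg Rr h0).trans hR0).symm)
      | add x y hx hy =>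
        have hadd : ∀ a b : ((ModuleCat.extendScalars.{u, u, u} (algebraMap A B)).obj X),
            ((a + b) ⊗ₜ[B] q :
              ((ModuleCat.extendScalars.{u, u, u} (algebraMap A B)).obj X) ⊗[B] Q') =
            a ⊗ₜ[B] q + b ⊗ₜ[B] q := fun a b => TensorProduct.add_tmul a b q
        have h1 := hadd x y
        exact (congrArg L h1).trans ((hL _ _).trans
          ((congrArg₂ (· + ·) hx hy).trans ((congrArg Rr h1).trans (hR _ _)).symm))
      | tmul s x => rfl
  exact key y

/-- The projection formula as a natural isomorphism. -/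
noncomputable def projNatIsoRight :
    ModuleCat.extendScalars.{u, u, u} (algebraMap A B) ⋙ tensorRight (ModuleCat.of B Q') ⋙
      ModuleCat.restrictScalars.{u} (algebraMap A B) ≅ tensorRight (ModuleCat.of A Q') :=
  NatIso.ofComponents (fun X => projIso A B Q' X) (fun g => projIso_naturality A B Q' g)

end Proj

end Groth.Agent.Lib.Helper13.DR
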