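import Groth.Agent.Lib.Helper13.DRingRestrict
import Mathlib.Algebra.Homology.DerivedCategory.SingleTriangle
import Mathlib.Algebra.MvPolynomial.Equiv
import Mathlib.Algebra.MvPolynomial.Eval
import Groth.Prelude.Def_DerCA

set_option autoImplicit false
universe u
open CategoryTheory CategoryTheory.Limits
open PCoh

namespace Groth.Agent.Lib.Helper13.DR

open Groth.Agent.Lib.Helper13.PC
open DerivedCategory

attribute [local instance] HasDerivedCategory.standard

section

variable {A B C : Type u} [CommRing A] [CommRing B] [CommRing C]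

/-- `B` is pseudo-coherent as an `A`-module via `φ`. -/
def IsPCHom (φ : A →+* B) : Prop :=
  IsPC (Pff A) ((resSingle φ).obj (ModuleCat.of B B))

theorem isNPC_restrictD_iff {φ : A →+* B} (hφ : IsPCHom φ) (m : ℤ) (K : Dual.D B) :
    IsNPC (Pff B) m K ↔ IsNPC (Pff A) m ((DRing.restrictD φ).obj K) :=
  ⟨isNPC_restrictD φ hφ, isNPC_of_isNPC_restrictD φ hφ⟩

/-- Iterated restriction of a complex. -/
noncomputable def restrictCxComp (φ : A →+* B) (ψ : B →+* C) (E : DRing.Cx C) :
    (DRing.restrictCx φ).obj ((DRing.restrictCx ψ).obj E) ≅ (DRing.restrictCx (ψ.comp φ)).obj E :=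
  HomologicalComplex.Hom.isoOfComponents
    (fun i => (ModuleCat.restrictScalarsComp'App φ ψ (ψ.comp φ) rfl (E.X i)).symm)
    (fun i j _ => by
      ext x
      rfl)

lemma nonempty_restrictD_comp (φ : A →+* B) (ψ : B →+* C) (K : Dual.D C) :
    Nonempty ((DRing.restrictD φ).obj ((DRing.restrictD ψ).obj K) ≅
      (DRing.restrictD (ψ.comp φ)).obj K) := by
  let E := Q.objPreimage K
  let e : Q.obj E ≅ K := Q.objObjPreimageIso K
  exact ⟨(DRing.restrictD φ).mapIso ((DRing.restrictD ψ).mapIso e.symm ≪≫ restrictDQIso ψ E) ≪≫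
    restrictDQIso φ _ ≪≫ Q.mapIso (restrictCxComp φ ψ E) ≪≫ (restrictDQIso (ψ.comp φ) E).symm ≪≫
    (DRing.restrictD (ψ.comp φ)).mapIso e⟩

lemma IsPCHom.comp {φ : A →+* B} {ψ : B →+* C} (hφ : IsPCHom φ) (hψ : IsPCHom ψ) :
    IsPCHom (ψ.comp φ) := by
  intro n
  have h1 : IsNPC (Pff A) n ((DRing.restrictD φ).obj ((resSingle ψ).obj (ModuleCat.of C C))) :=
    isNPC_restrictD φ hφ (hψ n)
  have e1 : (DRing.restrictD φ).obj ((resSingle ψ).obj (ModuleCat.of C C)) ≅
      (DerivedCategory.singleFunctor (ModuleCat.{u} A) 0).obj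
        ((ModuleCat.restrictScalars.{u} φ).obj ((ModuleCat.restrictScalars.{u} ψ).obj (ModuleCat.of C C))) :=
    ((ModuleCat.restrictScalars.{u} φ).mapDerivedCategorySingleFunctor 0).app _
  have e2 := (DerivedCategory.singleFunctor (ModuleCat.{u} A) 0).mapIso
    (ModuleCat.restrictScalarsComp'App φ ψ (ψ.comp φ) rfl (ModuleCat.of C C)).symm
  exact h1.of_iso (e1 ≪≫ e2)

lemma isPCHom_of_ringEquiv (e : A ≃+* B) : IsPCHom (e : A →+* B) := by
  have iso : ModuleCat.of A A ≅ (ModuleCat.restrictScalars.{u} (e : A →+* B)).obj (ModuleCat.of B B) :=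
    isoOfAddEquiv _ _ e.toAddEquiv (fun a x => by
      change e (a * x) = e a * e x
      exact map_mul e a x)
  refine isPC_of_iso (isPC_single_of_Pfp (M := ModuleCat.of A A) ?_)
    ((DerivedCategory.singleFunctor (ModuleCat.{u} A) 0).mapIso iso)
  exact ⟨(inferInstance : Module.Finite A A), (inferInstance : Module.Projective A A)⟩

lemma IsPCHom.of_eq {φ φ' : A →+* B} (hφ : IsPCHom φ) (h : φ = φ') : IsPCHom φ' := h ▸ hφ

end

open Polynomial in
/-- evaluation at `b` as a `B[X]`-linear map to `B`. -/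
noncomputable def evalLin (B : Type u) [CommRing B] (b : B) :
    B[X] →ₗ[B[X]] ((ModuleCat.restrictScalars.{u} (Polynomial.evalRingHom b)).obj
      (ModuleCat.of B B)) :=
  LinearMap.toSpanSingleton B[X] ((ModuleCat.restrictScalars.{u} (Polynomial.evalRingHom b)).obj
      (ModuleCat.of B B)) (show B from 1)

open Polynomial in
lemma evalLin_apply (B : Type u) [CommRing B] (b : B) (r : B[X]) :
    evalLin B b r = (r.eval b : B) := by
  change (Polynomial.evalRingHom b r) * (1 : B) = _
  simp

open Polynomial in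
/-- `B` is a perfect `B[X]`-module via evaluation at `b`. -/
lemma isPCHom_eval (B : Type u) [CommRing B] (b : B) :
    IsPCHom (Polynomial.evalRingHom b) := by
  let f : ModuleCat.of B[X] B[X] ⟶ ModuleCat.of B[X] B[X] :=
    ModuleCat.ofHom (LinearMap.toSpanSingleton B[X] B[X] (X - C b))
  let g := ModuleCat.ofHom (evalLin B b)
  have hg : ∀ r : B[X], g.hom r = (r.eval b : B) := fun r => evalLin_apply B b r
  have hf : ∀ r : B[X], f.hom r = r * (X - C b) := fun r => rfl
  have zero : f ≫ g = 0 := by
    refine ModuleCat.hom_ext (LinearMap.ext fun r => ?_)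
    change g.hom (f.hom r) = 0
    rw [hg, hf, Polynomial.eval_mul, Polynomial.eval_sub, Polynomial.eval_X, Polynomial.eval_C,
      sub_self, mul_zero]
    rfl
  let S : ShortComplex (ModuleCat.{u} B[X]) := ShortComplex.mk f g zero
  have hS : S.ShortExact := by
    refine { exact := ?_, mono_f := ?_, epi_g := ?_ }
    · rw [ShortComplex.ShortExact.moduleCat_exact_iff_function_exact]
      intro r
      constructor
      · intro hr
        have hr' : r.eval b = 0 := by rw [← hg]; exact hr
        obtain ⟨q, rfl⟩ := Polynomial.dvd_iff_isRoot.2 hr'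
        exact ⟨q, by change f.hom q = _; rw [hf, mul_comm]⟩
      · rintro ⟨q, rfl⟩
        change g.hom (f.hom q) = 0
        rw [hg, hf, Polynomial.eval_mul, Polynomial.eval_sub, Polynomial.eval_X, Polynomial.eval_C,
          sub_self, mul_zero]
        rfl
    · rw [ModuleCat.mono_iff_injective]
      intro r s hrs
      change f.hom r = f.hom s at hrs
      rw [hf, hf] at hrs
      exact (Polynomial.monic_X_sub_C b).isRegular.right hrs
    · rw [ModuleCat.epi_iff_surjective]
      intro c
      refine ⟨C (c : B), ?_⟩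
      change g.hom (C (c : B)) = c
      rw [hg]
      simp
  intro n
  have hfree : IsPC (Pff B[X])
      ((DerivedCategory.singleFunctor (ModuleCat.{u} B[X]) 0).obj (ModuleCat.of B[X] B[X])) :=
    isPC_single_of_Pfp ⟨(inferInstance : Module.Finite B[X] B[X]),
      (inferInstance : Module.Projective B[X] B[X])⟩
  exact isNPC_obj₃ Pff_prod hqs_Pff hql_Pff hS.singleTriangle hS.singleTriangle_distinguished
    (hfree (n + 1)) (hfree n)


/-- `B` is a perfect `B[x_1, …, x_k]`-module via evaluation at any point. -/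
theorem isPCHom_mvEval : ∀ (k : ℕ) (B : Type u) [CommRing B] (g : Fin k → B),
    IsPCHom (MvPolynomial.eval g)
  | 0, B, _, g => by
    refine (isPCHom_of_ringEquiv (MvPolynomial.isEmptyRingEquiv B (Fin 0))).of_eq ?_
    apply MvPolynomial.ringHom_ext
    · intro b
      change MvPolynomial.isEmptyRingEquiv B (Fin 0) (MvPolynomial.C b) =
        MvPolynomial.eval g (MvPolynomial.C b)
      rw [MvPolynomial.eval_C, ← MvPolynomial.isEmptyRingEquiv_symm_apply (R := B) (σ := Fin 0) b,
        RingEquiv.apply_symm_apply]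
    · intro i
      exact i.elim0
  | k + 1, B, _, g => by
    have h1 := isPCHom_of_ringEquiv (MvPolynomial.finSuccEquiv B k).toRingEquiv
    have h2 := isPCHom_eval (MvPolynomial (Fin k) B) (MvPolynomial.C (g 0))
    have h3 := isPCHom_mvEval k B (fun j : Fin k => g j.succ)
    refine ((h1.comp h2).comp h3).of_eq ?_
    apply MvPolynomial.ringHom_ext
    · intro b
      simp [MvPolynomial.finSuccEquiv_apply]
    · intro i
      refine Fin.cases ?_ (fun j => ?_) i
      · simp [MvPolynomial.finSuccEquiv_X_zero]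
      · simp [MvPolynomial.finSuccEquiv_X_succ]


section RelPC

variable {R A : Type u} [CommRing R] [CommRing A] [Algebra R A]

/-- The ring map `R[x][y] → A` extending `α` on `R[x]` and sending `y_j` to `α (g j)`. -/
noncomputable def viaExt {n k : ℕ} (α : MvPolynomial (Fin n) R →ₐ[R] A)
    (g : Fin k → MvPolynomial (Fin n) R) :
    MvPolynomial (Fin k) (MvPolynomial (Fin n) R) →+* A :=
  (α : MvPolynomial (Fin n) R →+* A).comp (MvPolynomial.eval g)

lemma viaExt_C {n k : ℕ} (α : MvPolynomial (Fin n) R →ₐ[R] A)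
    (g : Fin k → MvPolynomial (Fin n) R) (p : MvPolynomial (Fin n) R) :
    viaExt α g (MvPolynomial.C p) = α p := by
  simp [viaExt]

lemma viaExt_X {n k : ℕ} (α : MvPolynomial (Fin n) R →ₐ[R] A)
    (g : Fin k → MvPolynomial (Fin n) R) (j : Fin k) :
    viaExt α g (MvPolynomial.X j) = α (g j) := by
  simp [viaExt]

lemma isNPC_viaExt_iff {n k : ℕ} (α : MvPolynomial (Fin n) R →ₐ[R] A)
    (g : Fin k → MvPolynomial (Fin n) R) (K : Dual.D A) (m : ℤ) :
    IsNPC (Pff (MvPolynomial (Fin n) R)) m
        ((DRing.restrictD (α : MvPolynomial (Fin n) R →+* A)).obj K) ↔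
      IsNPC (Pff (MvPolynomial (Fin k) (MvPolynomial (Fin n) R))) m
        ((DRing.restrictD (viaExt α g)).obj K) := by
  rw [isNPC_restrictD_iff (isPCHom_mvEval k _ g) m]
  obtain ⟨e⟩ := nonempty_restrictD_comp (MvPolynomial.eval g) (α : MvPolynomial (Fin n) R →+* A) K
  exact ⟨fun h => h.of_iso e, fun h => h.of_iso e.symm⟩

/-- Independence of the presentation (Stacks 0682-type): relative pseudo-coherence does not
depend on the surjection from a polynomial ring. -/
theorem isRelPseudoCoherentVia_iff {n k : ℕ} (α : MvPolynomial (Fin n) R →ₐ[R] A)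
    (hα : Function.Surjective α) (β : MvPolynomial (Fin k) R →ₐ[R] A)
    (hβ : Function.Surjective β) (K : Dual.D A) (m : ℤ) :
    DerCA.IsRelPseudoCoherentVia α m K ↔ DerCA.IsRelPseudoCoherentVia β m K := by
  unfold DerCA.IsRelPseudoCoherentVia
  rw [isPseudoCoherent_iff, isPseudoCoherent_iff]
  choose g hg using fun j : Fin k => hα (β (MvPolynomial.X j))
  choose g' hg' using fun i : Fin n => hβ (α (MvPolynomial.X i))
  rw [isNPC_viaExt_iff α g K m, isNPC_viaExt_iff β g' K m]
  let σ := MvPolynomial.commAlgEquiv R (Fin k) (Fin n)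
  have hσ : (viaExt β g').comp (σ.toRingEquiv : MvPolynomial (Fin k) (MvPolynomial (Fin n) R) →+* MvPolynomial (Fin n) (MvPolynomial (Fin k) R)) = viaExt α g := by
    apply MvPolynomial.ringHom_ext
    · intro p
      change viaExt β g' (σ (MvPolynomial.C p)) = viaExt α g (MvPolynomial.C p)
      rw [viaExt_C]
      induction p using MvPolynomial.induction_on with
      | C r =>
        rw [MvPolynomial.commAlgEquiv_C, MvPolynomial.map_C, viaExt_C]
        change β (algebraMap R _ r) = α (algebraMap R _ r)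
        rw [AlgHom.commutes, AlgHom.commutes]
      | add p q hp hq =>
        rw [map_add, map_add, map_add, map_add, hp, hq]
      | mul_X p i hp =>
        rw [map_mul, map_mul, map_mul, map_mul, hp, MvPolynomial.commAlgEquiv_C_X, viaExt_X, hg']
    · intro j
      change viaExt β g' (σ (MvPolynomial.X j)) = viaExt α g (MvPolynomial.X j)
      rw [MvPolynomial.commAlgEquiv_X, viaExt_C, viaExt_X, hg]
  rw [isNPC_restrictD_iff (isPCHom_of_ringEquiv σ.toRingEquiv) m
    ((DRing.restrictD (viaExt β g')).obj K)]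
  obtain ⟨e⟩ := nonempty_restrictD_comp (σ.toRingEquiv : MvPolynomial (Fin k) (MvPolynomial (Fin n) R) →+* MvPolynomial (Fin n) (MvPolynomial (Fin k) R)) (viaExt β g') K
  rw [hσ] at e
  exact ⟨fun h => h.of_iso e.symm, fun h => h.of_iso e⟩

end RelPC



section HomologyRestrict

variable {A B : Type u} [CommRing A] [CommRing B]

/-- `H^i (K|_A) ≅ (H^i K)|_A`. -/
lemma nonempty_homology_restrictD_iso (φ : A →+* B) (K : Dual.D B) (i : ℤ) :
    Nonempty ((DerivedCategory.homologyFunctor (ModuleCat.{u} A) i).obj ((DRing.restrictD φ).obj K) ≅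
      (ModuleCat.restrictScalars.{u} φ).obj
        ((DerivedCategory.homologyFunctor (ModuleCat.{u} B) i).obj K)) := by
  let E := Q.objPreimage K
  let e : Q.obj E ≅ K := Q.objObjPreimageIso K
  exact ⟨(DerivedCategory.homologyFunctor (ModuleCat.{u} A) i).mapIso
      ((DRing.restrictD φ).mapIso e.symm ≪≫ restrictDQIso φ E) ≪≫
    homologyQIso _ i ≪≫ restrictCxHomologyIso φ E i ≪≫
    (ModuleCat.restrictScalars.{u} φ).mapIso ((homologyQIso E i).symm ≪≫
      (DerivedCategory.homologyFunctor (ModuleCat.{u} B) i).mapIso e)⟩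

/-- `(M[0])|_A ≅ (M|_A)[0]`. -/
noncomputable def restrictDSingleIso (φ : A →+* B) (M : ModuleCat.{u} B) :
    (DRing.restrictD φ).obj ((DerivedCategory.singleFunctor (ModuleCat.{u} B) 0).obj M) ≅
      (DerivedCategory.singleFunctor (ModuleCat.{u} A) 0).obj
        ((ModuleCat.restrictScalars.{u} φ).obj M) :=
  ((ModuleCat.restrictScalars.{u} φ).mapDerivedCategorySingleFunctor 0).app M

lemma finite_restrictScalars_iff_of_surjective (φ : A →+* B) (hφ : Function.Surjective φ)
    (M : ModuleCat.{u} B) :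
    Module.Finite A ((ModuleCat.restrictScalars.{u} φ).obj M) ↔ Module.Finite B M := by
  refine ⟨finite_of_finite_restrictScalars φ M, fun h => ?_⟩
  obtain ⟨S, hS⟩ := h.fg_top
  refine ⟨⟨S, ?_⟩⟩
  rw [eq_top_iff]
  rintro x -
  have hx : (x : M) ∈ Submodule.span B (S : Set M) := by rw [hS]; trivial
  induction hx using Submodule.span_induction with
  | mem y hy => exact Submodule.subset_span hy
  | zero => exact Submodule.zero_mem _
  | add y z _ _ hy hz => exact Submodule.add_mem _ hy hz
  | smul b y _ hy =>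
    obtain ⟨a, rfl⟩ := hφ b
    exact Submodule.smul_mem _ a hy

end HomologyRestrict

section RelPC2

variable {R A : Type u} [CommRing R] [CommRing A] [Algebra R A]

variable (R A) in
lemma exists_presentation [Algebra.FiniteType R A] :
    ∃ (n : ℕ) (α : MvPolynomial (Fin n) R →ₐ[R] A), Function.Surjective α :=
  Algebra.FiniteType.iff_quotient_mvPolynomial''.1 inferInstance

/-- Relative pseudo-coherence can be tested on any presentation. -/
theorem isRelPseudoCoherent_iff {n : ℕ} (α : MvPolynomial (Fin n) R →ₐ[R] A)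
    (hα : Function.Surjective α) (m : ℤ) (K : Dual.D A) :
    DerCA.IsRelPseudoCoherent R A m K ↔
      IsNPC (Pff (MvPolynomial (Fin n) R)) m
        ((DRing.restrictD (α : MvPolynomial (Fin n) R →+* A)).obj K) := by
  rw [← isPseudoCoherent_iff]
  constructor
  · rintro ⟨k, β, hβ, h⟩
    exact (isRelPseudoCoherentVia_iff β hβ α hα K m).1 h
  · intro h
    exact ⟨n, α, hα, h⟩

end RelPC2

end Groth.Agent.Lib.Helper13.DR
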