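import Groth.Agent.Lib.Helper13.PCProj
import Mathlib.Algebra.Homology.DerivedCategory.TStructure
import Mathlib.CategoryTheory.Triangulated.TStructure.TruncLTGE

/-!
# Canonical truncations in `D(C)`: comparison with chain-level truncations, splitting criteria
-/

set_option autoImplicit false
universe w v u
open CategoryTheory CategoryTheory.Limits
open PCoh

namespace Groth.Agent.Lib.Helper13.PC

open DerivedCategory HomologicalComplex Pretriangulated Triangulated

variable {C : Type u} [Category.{v} C] [Abelian C] [HasDerivedCategory.{w} C]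

set_option backward.defeqAttrib.useBackward true in
set_option backward.isDefEq.respectTransparency false in
/-- The distinguished triangle `τ_{≤ n₀} K ⟶ K ⟶ τ_{≥ n₁} K` at chain level. -/
lemma exists_truncTriangle (K : CochainComplex C ℤ) (n₀ n₁ : ℤ) (hn : n₀ + 1 = n₁) :
    ∃ δ : Q.obj (K.truncGE n₁) ⟶ (Q.obj (K.truncLE n₀))⟦(1 : ℤ)⟧,
      Triangle.mk (Q.map (K.ιTruncLE n₀)) (Q.map (K.πTruncGE n₁)) δ ∈ distTriang _ := by
  have h := K.shortComplexTruncLE_shortExact n₀
  have hq : QuasiIso (K.shortComplexTruncLEX₃ToTruncGE n₀ n₁ hn) :=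
    inferInstanceAs (QuasiIso (HomologicalComplex.shortComplexTruncLEX₃ToTruncGE K
      (ComplexShape.Embedding.embeddingUpInt_areComplementary n₀ n₁ hn)))
  have : IsIso (Q.map (K.shortComplexTruncLEX₃ToTruncGE n₀ n₁ hn)) := by
    rw [isIso_Q_map_iff_quasiIso]; exact hq
  refine ⟨inv (Q.map (K.shortComplexTruncLEX₃ToTruncGE n₀ n₁ hn)) ≫ (triangleOfSES h).mor₃,
    isomorphic_distinguished _ (triangleOfSES_distinguished h) _ (Iso.symm ?_)⟩
  refine Triangle.isoMk _ _ (Iso.refl _) (Iso.refl _)
    (asIso (Q.map (K.shortComplexTruncLEX₃ToTruncGE n₀ n₁ hn))) ?_ ?_ (by simp)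
  · dsimp
    rw [Category.id_comp, Category.comp_id]
    rfl
  · dsimp
    rw [← Q.map_comp, CochainComplex.g_shortComplexTruncLEX₃ToTruncGE .., Category.id_comp]

set_option backward.defeqAttrib.useBackward true in
set_option backward.isDefEq.respectTransparency false in
/-- Comparison of the chain-level truncation with the t-structure truncation. -/
lemma exists_iso_truncGE (K : CochainComplex C ℤ) (n : ℤ) :
    ∃ e : Q.obj (K.truncGE n) ≅ (TStructure.t.truncGE n).obj (Q.obj K),
      Q.map (K.πTruncGE n) ≫ e.hom = (TStructure.t.truncGEπ n).app (Q.obj K) := by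
  obtain ⟨δ, hδ⟩ := exists_truncTriangle K (n - 1) n (by ring)
  obtain ⟨e', he'⟩ := TStructure.t.triangle_iso_exists hδ
    (TStructure.t.triangleLTGE_distinguished n (Q.obj K)) (Iso.refl _) (n - 1) n
    (by dsimp; infer_instance) (by dsimp; infer_instance) (by dsimp; infer_instance)
    (by dsimp; infer_instance)
  refine ⟨Triangle.π₃.mapIso e', ?_⟩
  have := e'.hom.comm₂
  dsimp at this he' ⊢
  rw [this, he', Category.id_comp]

/-- If `H^a(K) = 0` then `τ_{≥ a} K` is `≥ a + 1`. -/
lemma isGE_truncGE_succ (K : DerivedCategory C) (a : ℤ)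
    (h : IsZero ((DerivedCategory.homologyFunctor C a).obj K)) :
    ((TStructure.t.truncGE a).obj K).IsGE (a + 1) := by
  rw [DerivedCategory.isGE_iff]
  intro i hi
  rcases (show i ≤ a by lia).lt_or_eq with h' | rfl
  · exact DerivedCategory.isZero_of_isGE _ a i h'
  · have hT := TStructure.t.triangleLTGE_distinguished i K
    have hepi : Epi ((DerivedCategory.homologyFunctor C i).map
        ((TStructure.t.triangleLTGE i).obj K).mor₂) := by
      rw [HomologySequence.epi_homologyMap_mor₂_iff _ hT i (i + 1) rfl]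
      apply IsZero.eq_of_tgt
      exact DerivedCategory.isZero_of_isLE ((TStructure.t.truncLT i).obj K) (i - 1) (i + 1) (by lia)
    have hepi' : Epi ((DerivedCategory.homologyFunctor C i).map
      ((TStructure.t.truncGEπ i).app K)) := hepi
    rw [IsZero.iff_id_eq_zero, ← cancel_epi ((DerivedCategory.homologyFunctor C i).map
      ((TStructure.t.truncGEπ i).app K))]
    exact h.eq_of_src _ _


set_option backward.defeqAttrib.useBackward true in
set_option backward.isDefEq.respectTransparency false in
/-- If `H^a(K) = 0` then `τ_{< a} K ≅ τ_{< a+1} K`. -/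
lemma exists_iso_truncLT_succ (K : DerivedCategory C) (a : ℤ)
    (h : IsZero ((DerivedCategory.homologyFunctor C a).obj K)) :
    ∃ e : (TStructure.t.truncLT a).obj K ≅ (TStructure.t.truncLT (a + 1)).obj K,
      e.hom ≫ (TStructure.t.truncLTι (a + 1)).app K = (TStructure.t.truncLTι a).app K := by
  have := isGE_truncGE_succ K a h
  have h1 : TStructure.t.IsLE ((TStructure.t.truncLT a).obj K) a :=
    TStructure.t.isLE_of_le _ (a - 1) a (by lia)
  have h2 : TStructure.t.IsLE ((TStructure.t.truncLT (a + 1)).obj K) a := inferInstance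
  have h3 : TStructure.t.IsGE ((TStructure.t.truncGE (a + 1)).obj K) (a + 1) := inferInstance
  obtain ⟨e', he'⟩ := TStructure.t.triangle_iso_exists
    (T := (TStructure.t.triangleLTGE a).obj K) (T' := (TStructure.t.triangleLTGE (a + 1)).obj K)
    (TStructure.t.triangleLTGE_distinguished a K)
    (TStructure.t.triangleLTGE_distinguished (a + 1) K) (Iso.refl K) a (a + 1)
    h1 this h2 h3 (by lia)
  refine ⟨Triangle.π₁.mapIso e', ?_⟩
  have h4 := e'.hom.comm₁
  have h5 : e'.hom.hom₂ = 𝟙 K := he'
  rw [h5] at h4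
  exact h4.symm.trans (Category.comp_id _)

set_option backward.defeqAttrib.useBackward true in
set_option backward.isDefEq.respectTransparency false in
/-- If `τ_{≥ n} K` is represented by a K-projective complex vanishing in degrees `< n`, then `K`
splits as `τ_{< n} K ⊞ τ_{≥ n} K`. -/
theorem exists_iso_biprod_trunc (K : DerivedCategory C) (n : ℤ) (P : CochainComplex C ℤ)
    [P.IsKProjective] (hP : ∀ i : ℤ, i < n → IsZero (P.X i))
    (e : Q.obj P ≅ (TStructure.t.truncGE n).obj K) :
    ∃ e : K ≅ (TStructure.t.truncLT n).obj K ⊞ (TStructure.t.truncGE n).obj K,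
      (TStructure.t.truncLTι n).app K ≫ e.hom = biprod.inl ∧
        e.hom ≫ biprod.snd = (TStructure.t.truncGEπ n).app K := by
  have h1 : (((TStructure.t.truncLT n).obj K)⟦(1 : ℤ)⟧).IsLE (n - 1) := by
    have : TStructure.t.IsLE (((TStructure.t.truncLT n).obj K)⟦(1 : ℤ)⟧) (n - 1 - 1) :=
      TStructure.t.isLE_shift _ (n - 1) 1 (n - 1 - 1) (by ring)
    exact TStructure.t.isLE_of_le _ (n - 1 - 1) (n - 1) (by lia)
  have hs := subsingleton_hom_of_isLE P n hP (((TStructure.t.truncLT n).obj K)⟦(1 : ℤ)⟧)
  have h0 : ((TStructure.t.triangleLTGE n).obj K).mor₃ = 0 := by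
    have : (TStructure.t.truncGEδLT n).app K = 0 := by
      rw [← cancel_epi e.hom]
      exact hs.elim _ _
    exact this
  obtain ⟨e', he1, he2⟩ := exists_iso_binaryBiproduct_of_distTriang _
    (TStructure.t.triangleLTGE_distinguished n K) h0
  exact ⟨e', he1, he2.symm⟩

end Groth.Agent.Lib.Helper13.PC
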