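import Groth.Agent.Lib.Helper13.DRingProj
import Groth.Agent.Lib.Helper13.PCTrunc

/-!
# Splitting off projective truncations in `D(R)`
-/

set_option autoImplicit false
universe w v u
open CategoryTheory CategoryTheory.Limits
open PCoh

namespace Groth.Agent.Lib.Helper13.PC

open DerivedCategory HomologicalComplex Pretriangulated Triangulated

variable {C : Type u} [Category.{v} C] [Abelian C]

/-- Terms of the truncation `τ_{≥ a} P` of a bounded above complex of projectives with
`P^a/B^a` projective. -/
lemma truncGE_isZero_and_projective (P : CochainComplex C ℤ) (a b : ℤ)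
    (hb : ∀ i : ℤ, b < i → IsZero (P.X i)) (hP : ∀ i : ℤ, Projective (P.X i))
    (hproj : Projective (P.opcycles a)) :
    (∀ i : ℤ, i < a ∨ b < i → IsZero ((P.truncGE a).X i)) ∧
      (∀ i : ℤ, Projective ((P.truncGE a).X i)) := by
  constructor
  · rintro i (hi | hi)
    · exact CochainComplex.isZero_of_isStrictlyGE _ a i hi
    · by_cases h : a < i
      · exact (hb i hi).of_iso (P.truncGEXIso a i h)
      · by_cases h' : i = a
        · subst h'
          refine IsZero.of_iso ?_ (P.truncGEXIsoOpcycles i)
          rw [IsZero.iff_id_eq_zero, ← cancel_epi (P.pOpcycles i)]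
          exact (hb i hi).eq_of_src _ _
        · exact CochainComplex.isZero_of_isStrictlyGE _ a i (by lia)
  · intro i
    by_cases h : a < i
    · exact Projective.of_iso (P.truncGEXIso a i h).symm (hP i)
    · by_cases h' : i = a
      · subst h'
        exact Projective.of_iso (P.truncGEXIsoOpcycles i).symm hproj
      · exact (CochainComplex.isZero_of_isStrictlyGE _ a i (by lia)).projective

end Groth.Agent.Lib.Helper13.PC

namespace Groth.Agent.Lib.Helper13.DR

open Groth.Agent.Lib.Helper13.PC
open DerivedCategory Triangulated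

attribute [local instance] HasDerivedCategory.standard

variable {R : Type u} [CommRing R]

/-- The natural isomorphism `(X[0])⟦i⟧ ≅ X[-j]`. -/
noncomputable def shiftSingleNatIso {C : Type*} [Category C] [Abelian C] [HasDerivedCategory C]
    (i j : ℤ) (h : i + j = 0) :
    DerivedCategory.singleFunctor C 0 ⋙ shiftFunctor (DerivedCategory C) i ≅
      DerivedCategory.singleFunctor C j :=
  (DerivedCategory.singleFunctors C).shiftIso i j 0 h

/-- `τ_{≥ a+1} K` has projective amplitude in `[a+1, b]` under the hypothesis of S7003. -/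
theorem hasProjAmp_truncGE_of_injective (a : ℤ) (K : Dual.D R) (b : ℤ)
    (hb : ∀ i : ℤ, b < i → Subsingleton (Dual.HD R K i))
    (h : ∀ (M M' : Type u) [AddCommGroup M] [Module R M] [AddCommGroup M'] [Module R M']
      (g : M →ₗ[R] M'), Function.Injective g →
      Function.Injective (fun x : K ⟶ (shiftFunctor (Dual.D R) (-a)).obj (Dual.inD R M) =>
        x ≫ (shiftFunctor (Dual.D R) (-a)).map
          ((DerivedCategory.singleFunctor (ModuleCat.{u} R) 0).map (ModuleCat.ofHom g)))) :
    ∃ (P : DRing.Cx R), P.IsKProjective ∧ DRing.VanishesOutside P (a + 1) b ∧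
      (∀ i : ℤ, Module.Projective R (P.X i)) ∧
      Nonempty (DRing.toD P ≅ (TStructure.t.truncGE (a + 1)).obj K) := by
  obtain ⟨P, hP, hPb, ⟨e⟩⟩ := exists_projective_rep' K b hb
  have : P.IsKProjective := isKProjective_of_forall_projective P b hPb hP
  have hproj : Projective (P.opcycles (a + 1)) := by
    refine projective_opcycles_of_injective_hom P a (hP _) (fun M M' g hg x₁ x₂ hx => ?_)
    let σ := shiftSingleNatIso (C := ModuleCat.{u} R) (-a) a (by ring)
    have hnat : ∀ x : Q.obj P ⟶ (DerivedCategory.singleFunctor _ a).obj M,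
        (e.inv ≫ x ≫ σ.inv.app M) ≫ (shiftFunctor (Dual.D R) (-a)).map
          ((DerivedCategory.singleFunctor (ModuleCat.{u} R) 0).map (ModuleCat.ofHom g.hom)) =
        e.inv ≫ (x ≫ (DerivedCategory.singleFunctor _ a).map g) ≫ σ.inv.app M' := fun x => by
      have := σ.inv.naturality g
      dsimp at this
      simp only [Category.assoc]
      congr 2
      exact this.symm
    have h1 := h M M' g.hom ((ModuleCat.mono_iff_injective g).1 hg)
      (a₁ := e.inv ≫ x₁ ≫ σ.inv.app M) (a₂ := e.inv ≫ x₂ ≫ σ.inv.app M) (by
        dsimp only at hx ⊢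
        rw [hnat x₁, hnat x₂, hx])
    simpa using h1
  obtain ⟨h1, h2⟩ := truncGE_isZero_and_projective P (a + 1) b hPb hP hproj
  obtain ⟨e', -⟩ := exists_iso_truncGE P (a + 1)
  have : (P.truncGE (a + 1)).IsKProjective :=
    isKProjective_of_forall_projective _ b (fun i hi => h1 i (Or.inr hi)) h2
  exact ⟨P.truncGE (a + 1), this, h1, fun i => (projective_iff _).1 (h2 i),
    ⟨e' ≪≫ (TStructure.t.truncGE (a + 1)).mapIso e⟩⟩

end Groth.Agent.Lib.Helper13.DR
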