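import Groth.Agent.Lib.Helper13.DRingNilpPC
import Groth.Agent.Lib.Helper13.DRingDescent3

/-!
# Descent of tor amplitude and pseudo-coherence along a pair of quotients `A/I₁`, `A/I₂`
with `I₁ I₂ = 0`
-/

set_option autoImplicit false
universe u
open CategoryTheory CategoryTheory.Limits MonoidalCategory

namespace Groth.Agent.Lib.Helper13.DR

open Groth.Agent.Lib.Helper13.PC Groth.Agent.Lib.Helper13.SF
open DerivedCategory
attribute [local instance] HasDerivedCategory.standard

section Killed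

variable {A B : Type u} [CommRing A] [CommRing B] [Algebra A B]

/-- Vanishing of `H^i(P' ⊗ N)` for modules killed by the kernel of a surjection, from vanishing
over the quotient ring. -/
lemma isZero_homology_tensorCx_of_killed (hφ : Function.Surjective (algebraMap A B))
    (P' : DRing.Cx A) (i : ℤ)
    (h1 : ∀ N : ModuleCat.{u} B, IsZero (((tensorCx N).obj ((extendCx A B).obj P')).homology i))
    (N : Type u) [AddCommGroup N] [Module A N]
    (hN : ∀ a ∈ RingHom.ker (algebraMap A B), ∀ x : N, a • x = 0) :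
    IsZero (((tensorCx (ModuleCat.of A N)).obj P').homology i) := by
  obtain ⟨m, hm⟩ := exists_module_of_ker_smul_eq_zero A B hφ N hN
  exact IsZero.of_iso (Functor.map_isZero (ModuleCat.restrictScalars.{u} (algebraMap A B))
    (h1 (ModuleCat.of B N)))
    ((HomologicalComplex.homologyFunctor _ _ i).mapIso (projCxIso A B N P').symm ≪≫
      restrictCxHomologyIso (algebraMap A B) _ i)

end Killed

section Two

variable {A B₁ B₂ : Type u} [CommRing A] [CommRing B₁] [CommRing B₂] [Algebra A B₁] [Algebra A B₂]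

/-- Dévissage for two ideals with zero product. -/
lemma isZero_homology_tensorCx_of_two
    (hker : ∀ x ∈ RingHom.ker (algebraMap A B₁), ∀ y ∈ RingHom.ker (algebraMap A B₂), x * y = 0)
    (E : DRing.Cx A) (hfl : ∀ i : ℤ, Module.Flat A (E.X i)) (i : ℤ)
    (k₁ : ∀ (N : Type u) [AddCommGroup N] [Module A N],
      (∀ a ∈ RingHom.ker (algebraMap A B₁), ∀ x : N, a • x = 0) →
      IsZero (((tensorCx (ModuleCat.of A N)).obj E).homology i))
    (k₂ : ∀ (N : Type u) [AddCommGroup N] [Module A N],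
      (∀ a ∈ RingHom.ker (algebraMap A B₂), ∀ x : N, a • x = 0) →
      IsZero (((tensorCx (ModuleCat.of A N)).obj E).homology i))
    (N : Type u) [AddCommGroup N] [Module A N] :
    IsZero (((tensorCx (ModuleCat.of A N)).obj E).homology i) := by
  let N' : Submodule A N := RingHom.ker (algebraMap A B₁) • (⊤ : Submodule A N)
  refine isZero_homology_tensorCx_of_submodule E hfl i N N' (k₂ N' ?_) (k₁ (N ⧸ N') ?_)
  · intro y hy ⟨n', hn'⟩
    apply Subtype.ext
    change y • n' = 0
    refine Submodule.smul_induction_on hn' (fun x hx n _ => ?_) (fun n₁ n₂ h₁ h₂ => ?_)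
    · rw [smul_smul, mul_comm, hker x hx y hy, zero_smul]
    · rw [smul_add, h₁, h₂, add_zero]
  · intro x hx n
    obtain ⟨n, rfl⟩ := Submodule.Quotient.mk_surjective N' n
    rw [← Submodule.Quotient.mk_smul, Submodule.Quotient.mk_eq_zero]
    exact Submodule.smul_mem_smul hx Submodule.mem_top

variable (h₁ : Function.Surjective (algebraMap A B₁)) (h₂ : Function.Surjective (algebraMap A B₂))
  (hker : ∀ x ∈ RingHom.ker (algebraMap A B₁), ∀ y ∈ RingHom.ker (algebraMap A B₂), x * y = 0)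

include h₁ h₂ hker

/-- Descent of acyclicity above a degree along two quotients with `I₁ I₂ = 0`. -/
theorem isZero_homology_of_extendCx_two (P' : DRing.Cx A) [P'.IsKProjective]
    (hfl : ∀ i : ℤ, Module.Flat A (P'.X i)) (b : ℤ)
    (hb₁ : ∀ i : ℤ, b < i → IsZero (((extendCx A B₁).obj P').homology i))
    (hb₂ : ∀ i : ℤ, b < i → IsZero (((extendCx A B₂).obj P').homology i)) (i : ℤ) (hi : b < i) :
    IsZero (P'.homology i) := by
  have h3 : IsZero (((tensorCx (𝟙_ (ModuleCat.{u} A))).obj P').homology i) :=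
    isZero_homology_tensorCx_of_two hker P' hfl i
      (fun N _ _ hN => isZero_homology_tensorCx_of_killed h₁ P' i
        (fun N' => isZero_homology_tensorCx_of_acyclic_gt _ b hb₁ N' i hi) N hN)
      (fun N _ _ hN => isZero_homology_tensorCx_of_killed h₂ P' i
        (fun N' => isZero_homology_tensorCx_of_acyclic_gt _ b hb₂ N' i hi) N hN) A
  exact h3.of_iso ((HomologicalComplex.homologyFunctor _ _ i).mapIso (tensorCxUnitIso P').symm)

/-- Descent of tor amplitude along two quotients with `I₁ I₂ = 0`. -/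
theorem hasTorAmplitudeIn_of_extendCx_two (P' : DRing.Cx A) [P'.IsKProjective]
    (hproj : ∀ i : ℤ, Projective (P'.X i)) (a b : ℤ)
    (ht₁ : DRing.HasTorAmplitudeIn B₁ a b (Q.obj ((extendCx A B₁).obj P')))
    (ht₂ : DRing.HasTorAmplitudeIn B₂ a b (Q.obj ((extendCx A B₂).obj P'))) :
    DRing.HasTorAmplitudeIn A a b (Q.obj P') := by
  have hfl : ∀ i : ℤ, Module.Flat A (P'.X i) := fun i => by
    have := (projective_iff _).1 (hproj i)
    infer_instance
  have key : ∀ {B : Type u} [CommRing B] [Algebra A B],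
      DRing.HasTorAmplitudeIn B a b (Q.obj ((extendCx A B).obj P')) →
      ∀ (N : ModuleCat.{u} B) (i : ℤ), (i < a ∨ b < i) →
      IsZero (((tensorCx N).obj ((extendCx A B).obj P')).homology i) := by
    intro B _ _ h N i hi
    obtain ⟨F, hF, hFfl, ⟨eF⟩⟩ := h
    obtain ⟨e⟩ := nonempty_homology_tensorCx_iso_of_flat (P := (extendCx A B).obj P') (F := F) b
      (fun j hj => hF j (Or.inr hj)) hFfl eF.symm N i
    refine IsZero.of_iso ?_ e
    exact (HomologicalComplex.ExactAt.of_isZero
      (Functor.map_isZero (tensorRight N) (hF i hi))).isZero_homology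
  have h3 : ∀ (N : ModuleCat.{u} A) (i : ℤ), (i < a ∨ b < i) →
      IsZero (((tensorCx N).obj P').homology i) := fun N i hi =>
    isZero_homology_tensorCx_of_two hker P' hfl i
      (fun N _ _ hN => isZero_homology_tensorCx_of_killed h₁ P' i
        (fun N' => key ht₁ N' i hi) N hN)
      (fun N _ _ hN => isZero_homology_tensorCx_of_killed h₂ P' i
        (fun N' => key ht₂ N' i hi) N hN) N
  have hb : ∀ i : ℤ, b < i → IsZero ((DerivedCategory.homologyFunctor _ i).obj (Q.obj P')) :=
    fun i hi => IsZero.of_iso (h3 (𝟙_ _) i (Or.inr hi))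
      (homologyQIso P' i ≪≫ (HomologicalComplex.homologyFunctor _ _ i).mapIso
        (tensorCxUnitIso P').symm)
  obtain ⟨P'', hproj'', hz'', ⟨e''⟩⟩ := exists_projective_rep (Q.obj P') b hb
  have : P''.IsKProjective := isKProjective_of_forall_projective P'' b hz'' hproj''
  refine hasTorAmplitudeIn_of_iso e'' (hasTorAmplitudeIn_of_tensor_vanishing P'' b hz''
    (fun i => by
      have := (projective_iff _).1 (hproj'' i)
      infer_instance) a b (fun N i hi => ?_))
  obtain ⟨e⟩ := nonempty_homology_tensorCx_iso e'' N i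
  exact IsZero.of_iso (h3 N i hi) e

end Two

section Cone

open HomologicalComplex CochainComplex

variable {A : Type u} [CommRing A]

/-- The finite free module `A^n` placed in degree `c`. -/
noncomputable abbrev freeSingle (A : Type u) [CommRing A] (n : ℕ) (c : ℤ) : DRing.Cx A :=
  (single (ModuleCat.{u} A) (ComplexShape.up ℤ) c).obj (ModuleCat.of A (Fin n → A))

lemma Pff_freeSingle_X (n : ℕ) (c i : ℤ) : Pff A ((freeSingle A n c).X i) := by
  by_cases h : i = c
  · subst h
    exact ((Pff A).prop_iff_of_iso (singleObjXSelf _ i _)).2 ⟨inferInstance, inferInstance⟩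
  · exact (Pff A).prop_of_isZero (isZero_single_obj_X _ c _ i h)

lemma isZero_freeSingle_X (n : ℕ) (c i : ℤ) (h : i ≠ c) : IsZero ((freeSingle A n c).X i) :=
  isZero_single_obj_X _ c _ i h

variable {n : ℕ} {c : ℤ} {P : DRing.Cx A} (f : freeSingle A n c ⟶ P)

lemma isZero_cone_X (hzP : ∀ i : ℤ, c < i → IsZero (P.X i)) (i : ℤ) (hi : c < i) :
    IsZero ((mappingCone f).X i) := by
  rw [mappingCone.isZero_X_iff]
  exact ⟨isZero_freeSingle_X n c _ (by lia), hzP _ hi⟩

lemma projective_cone_X (hproj : ∀ i : ℤ, Projective (P.X i)) (i : ℤ) :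
    Projective ((mappingCone f).X i) :=
  projective_mappingCone_X f (fun i => projective_of_Pfp (Pff_le_Pfp (Pff_freeSingle_X n c i)))
    hproj i

lemma isNPC_of_cone (m : ℤ) (h : IsNPC (Pff A) m (Q.obj (mappingCone f))) :
    IsNPC (Pff A) m (Q.obj P) :=
  isNPC_obj₂ Pff_prod hqs_Pff hql_Pff _ (mappingCone_triangle_distinguished f)
    (isNPC_Q (isStrictPC_of_forall (b := c) (fun i hi => isZero_freeSingle_X n c i (by lia))
      (Pff_freeSingle_X n c) m)) h

variable (B : Type u) [CommRing B] [Algebra A B]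

lemma isNPC_extendCx_cone (h : ∀ m : ℤ, IsNPC (Pff B) m (Q.obj ((extendCx A B).obj P))) (m : ℤ) :
    IsNPC (Pff B) m (Q.obj ((extendCx A B).obj (mappingCone f))) :=
  (isNPC_obj₃ Pff_prod hqs_Pff hql_Pff _
    (mappingCone_triangle_distinguished ((extendCx A B).map f))
    (isNPC_Q (isStrictPC_of_forall (b := c)
      (fun i hi => Functor.map_isZero (ModuleCat.extendScalars.{u, u, u} (algebraMap A B))
        (isZero_freeSingle_X n c i (by lia)))
      (fun i => Pff_extendScalars B (Pff_freeSingle_X n c i)) (m + 1))) (h m)).of_iso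
    (Q.mapIso (mappingCone.mapHomologicalComplexIso f
      (ModuleCat.extendScalars.{u, u, u} (algebraMap A B))).symm)

lemma isZero_homology_extendCx_cone (hzP : ∀ i : ℤ, c < i → IsZero (P.X i))
    (hf : Epi (homologyMap ((extendCx A B).map f) c)) (i : ℤ) (hi : c - 1 < i) :
    IsZero (((extendCx A B).obj (mappingCone f)).homology i) := by
  rcases (show c ≤ i by lia).lt_or_eq with h | h
  · exact (ExactAt.of_isZero (Functor.map_isZero
      (ModuleCat.extendScalars.{u, u, u} (algebraMap A B))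
      (isZero_cone_X f hzP i h))).isZero_homology
  · subst h
    have hmono : Mono (homologyMap ((extendCx A B).map f) (c + 1)) := by
      have hz : IsZero (((extendCx A B).obj (freeSingle A n c)).homology (c + 1)) :=
        (ExactAt.of_isZero (Functor.map_isZero
          (ModuleCat.extendScalars.{u, u, u} (algebraMap A B))
          (isZero_freeSingle_X n c (c + 1) (by lia)))).isZero_homology
      exact ⟨fun _ _ _ => hz.eq_of_tgt _ _⟩
    exact ((exactAt_mappingCone ((extendCx A B).map f) c (c + 1) rfl hmono hf).of_iso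
      (mappingCone.mapHomologicalComplexIso f
        (ModuleCat.extendScalars.{u, u, u} (algebraMap A B))).symm).isZero_homology

lemma epi_homologyMap_of_isZero (h : IsZero (((extendCx A B).obj P).homology c)) :
    Epi (homologyMap ((extendCx A B).map f) c) :=
  ⟨fun _ _ _ => h.eq_of_src _ _⟩

end Cone

section ConeStep

open HomologicalComplex CochainComplex

variable {A B : Type u} [CommRing A] [CommRing B] [Algebra A B]

/-- The cone step: kill the top cohomology of the base change. -/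
theorem exists_cone_step (hφ : Function.Surjective (algebraMap A B)) (P : DRing.Cx A) (c : ℤ)
    (hzP : ∀ i : ℤ, c < i → IsZero (P.X i))
    (hPC : IsNPC (Pff B) c (Q.obj ((extendCx A B).obj P))) :
    ∃ (n : ℕ) (f : freeSingle A n c ⟶ P), ∀ i : ℤ, c - 1 < i →
      IsZero (((extendCx A B).obj (mappingCone f)).homology i) := by
  have hzE : ∀ i : ℤ, c < i → IsZero (((extendCx A B).obj P).X i) := fun i hi =>
    Functor.map_isZero (ModuleCat.extendScalars.{u, u, u} (algebraMap A B)) (hzP i hi)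
  have hfin : Module.Finite B (((extendCx A B).obj P).homology c) := by
    have := isOfFiniteType_homology_of_isNPC hqs_Pff hPC (fun i hi =>
      IsZero.of_iso ((ExactAt.of_isZero (hzE i hi)).isZero_homology) (homologyQIso _ i))
    exact (isOfFiniteType_Pff_iff _).1 (isOfFiniteType_of_iso _ (homologyQIso _ c) this)
  obtain ⟨n, f, hf⟩ := exists_single_map_epi hφ P c hzP hfin
  exact ⟨n, f, isZero_homology_extendCx_cone f B hzP hf⟩

end ConeStep

section TwoPC

open HomologicalComplex CochainComplex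

variable {A B₁ B₂ : Type u} [CommRing A] [CommRing B₁] [CommRing B₂] [Algebra A B₁] [Algebra A B₂]
  (h₁ : Function.Surjective (algebraMap A B₁)) (h₂ : Function.Surjective (algebraMap A B₂))
  (hker : ∀ x ∈ RingHom.ker (algebraMap A B₁), ∀ y ∈ RingHom.ker (algebraMap A B₂), x * y = 0)

include h₁ h₂ hker

theorem isNPC_of_BCPC_two :
    ∀ (k : ℕ) (X : DerivedCategory (ModuleCat.{u} A)) (c : ℤ),
      (∀ i : ℤ, c < i → IsZero ((DerivedCategory.homologyFunctor _ i).obj X)) →
      BCPC B₁ X → BCPC B₂ X → IsNPC (Pff A) (c + 1 - k) X := by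
  intro k
  induction k with
  | zero =>
    intro X c hc _ _
    exact isNPC_of_acyclic (fun i hi => hc i (by simp at hi; lia))
  | succ k ih =>
    intro X c hc hX₁ hX₂
    obtain ⟨P, hproj, hzP, ⟨e⟩⟩ := exists_projective_rep X c hc
    have hKP : P.IsKProjective := isKProjective_of_forall_projective P c hzP hproj
    have hPC₁ := hX₁.of_rep P e
    have hPC₂ := hX₂.of_rep P e
    -- first cone
    obtain ⟨n₁, f₁, hf₁⟩ := exists_cone_step h₁ P c hzP (hPC₁ c)
    have hz₁ := isZero_cone_X f₁ hzP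
    have hproj₁ := projective_cone_X f₁ hproj
    have hC₁PC₁ := isNPC_extendCx_cone f₁ B₁ hPC₁
    have hC₁PC₂ := isNPC_extendCx_cone f₁ B₂ hPC₂
    -- second cone
    obtain ⟨n₂, f₂, hf₂⟩ := exists_cone_step h₂ (mappingCone f₁) c hz₁ (hC₁PC₂ c)
    have hz₂ := isZero_cone_X f₂ hz₁
    have hproj₂ := projective_cone_X f₂ hproj₁
    have hC₂PC₁ := isNPC_extendCx_cone f₂ B₁ hC₁PC₁
    have hC₂PC₂ := isNPC_extendCx_cone f₂ B₂ hC₁PC₂
    have hf₂' := isZero_homology_extendCx_cone f₂ B₁ hz₁
      (epi_homologyMap_of_isZero f₂ B₁ (hf₁ c (by lia)))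
    have hCK : (mappingCone f₂).IsKProjective :=
      isKProjective_of_forall_projective _ c hz₂ hproj₂
    have hCfl : ∀ i : ℤ, Module.Flat A ((mappingCone f₂).X i) := fun i => by
      have := (projective_iff _).1 (hproj₂ i)
      infer_instance
    have hacC : ∀ i : ℤ, c - 1 < i → IsZero ((mappingCone f₂).homology i) :=
      isZero_homology_of_extendCx_two h₁ h₂ hker _ hCfl (c - 1) hf₂' hf₂
    have hIH := ih (Q.obj (mappingCone f₂)) (c - 1)
      (fun i hi => (hacC i hi).of_iso (homologyQIso _ i))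
      ⟨_, hCK, ⟨Iso.refl _⟩, hC₂PC₁⟩ ⟨_, hCK, ⟨Iso.refl _⟩, hC₂PC₂⟩
    have hIH' : IsNPC (Pff A) (c + 1 - (k + 1 : ℕ)) (Q.obj (mappingCone f₂)) := by
      have : (c + 1 - ((k + 1 : ℕ) : ℤ)) = c - 1 + 1 - (k : ℤ) := by push_cast; ring
      rw [this]
      exact hIH
    exact (isNPC_of_cone f₁ _ (isNPC_of_cone f₂ _ hIH')).of_iso e

/-- Descent of pseudo-coherence along two quotients with `I₁ I₂ = 0`, chain level. -/
theorem isPC_of_extendCx_two (P' : DRing.Cx A) [P'.IsKProjective]
    (hproj : ∀ i : ℤ, Projective (P'.X i))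
    (hp₁ : ∀ m : ℤ, IsNPC (Pff B₁) m (Q.obj ((extendCx A B₁).obj P')))
    (hp₂ : ∀ m : ℤ, IsNPC (Pff B₂) m (Q.obj ((extendCx A B₂).obj P'))) (m : ℤ) :
    IsNPC (Pff A) m (Q.obj P') := by
  have hfl : ∀ i : ℤ, Module.Flat A (P'.X i) := fun i => by
    have := (projective_iff _).1 (hproj i)
    infer_instance
  obtain ⟨c₁, hc₁⟩ := exists_bound_of_isNPC (hp₁ 0)
  obtain ⟨c₂, hc₂⟩ := exists_bound_of_isNPC (hp₂ 0)
  have hc : ∀ i : ℤ, max c₁ c₂ < i → IsZero (P'.homology i) :=
    isZero_homology_of_extendCx_two h₁ h₂ hker P' hfl (max c₁ c₂)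
      (fun i hi => (hc₁ i (by have := le_max_left c₁ c₂; lia)).of_iso (homologyQIso _ i).symm)
      (fun i hi => (hc₂ i (by have := le_max_right c₁ c₂; lia)).of_iso (homologyQIso _ i).symm)
  have := isNPC_of_BCPC_two h₁ h₂ hker (max c₁ c₂ + 1 - m).toNat (Q.obj P') (max c₁ c₂)
    (fun i hi => (hc i hi).of_iso (homologyQIso _ i)) ⟨P', inferInstance, ⟨Iso.refl _⟩, hp₁⟩
    ⟨P', inferInstance, ⟨Iso.refl _⟩, hp₂⟩
  exact this.of_le (by lia)

end TwoPC

section Product

variable {R : Type u} [CommRing R]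

lemma nonempty_extendCx_comp_iso {R A B : Type u} [CommRing R] [CommRing A] [CommRing B]
    (f : R →+* A) (g : A →+* B) (h : R →+* B) (hc : g.comp f = h) (P₀ : DRing.Cx R) :
    Nonempty (((ModuleCat.extendScalars.{u, u, u} g).mapHomologicalComplex
      (ComplexShape.up ℤ)).obj (((ModuleCat.extendScalars.{u, u, u} f).mapHomologicalComplex
        (ComplexShape.up ℤ)).obj P₀) ≅
      ((ModuleCat.extendScalars.{u, u, u} h).mapHomologicalComplex (ComplexShape.up ℤ)).obj P₀) := by
  subst hc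
  exact ⟨((NatIso.mapHomologicalComplex (ModuleCat.extendScalarsComp f g)
    (ComplexShape.up ℤ)).app P₀).symm⟩

lemma isPerfect_of_iso {A : Type u} [CommRing A] {K L : Dual.D A} (e : K ≅ L)
    (h : DRing.IsPerfect A K) : DRing.IsPerfect A L := by
  obtain ⟨E, a, b, hv, hE, ⟨e'⟩⟩ := h
  exact ⟨E, a, b, hv, hE, ⟨e' ≪≫ e⟩⟩

/-- Perfectness of the reductions modulo `I` and `J` implies perfectness of the reduction modulo
`I * J`, for a K-projective complex with projective terms. -/
theorem isPerfect_extendCx_mul (I J : Ideal R) (P₀ : DRing.Cx R) [P₀.IsKProjective]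
    (hproj : ∀ i : ℤ, Projective (P₀.X i))
    (hI : DRing.IsPerfect (R ⧸ I) (Q.obj (((ModuleCat.extendScalars.{u, u, u}
      (Ideal.Quotient.mk I)).mapHomologicalComplex (ComplexShape.up ℤ)).obj P₀)))
    (hJ : DRing.IsPerfect (R ⧸ J) (Q.obj (((ModuleCat.extendScalars.{u, u, u}
      (Ideal.Quotient.mk J)).mapHomologicalComplex (ComplexShape.up ℤ)).obj P₀))) :
    DRing.IsPerfect (R ⧸ (I * J)) (Q.obj (((ModuleCat.extendScalars.{u, u, u}
      (Ideal.Quotient.mk (I * J))).mapHomologicalComplex (ComplexShape.up ℤ)).obj P₀)) := by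
  let g₁ : R ⧸ (I * J) →+* R ⧸ I := Ideal.Quotient.factor Ideal.mul_le_left
  let g₂ : R ⧸ (I * J) →+* R ⧸ J := Ideal.Quotient.factor Ideal.mul_le_right
  let _ : Algebra (R ⧸ (I * J)) (R ⧸ I) := g₁.toAlgebra
  let _ : Algebra (R ⧸ (I * J)) (R ⧸ J) := g₂.toAlgebra
  let P : DRing.Cx (R ⧸ (I * J)) := (extendCx R (R ⧸ (I * J))).obj P₀
  have hPK : P.IsKProjective := isKProjective_extendCx R (R ⧸ (I * J)) P₀
  have hPproj : ∀ i : ℤ, Projective (P.X i) := fun i =>
    (projective_iff _).2 (projective_extendScalars (R ⧸ (I * J)) ((projective_iff _).1 (hproj i)))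
  obtain ⟨e₁⟩ := nonempty_extendCx_comp_iso (Ideal.Quotient.mk (I * J)) g₁ (Ideal.Quotient.mk I)
    (Ideal.Quotient.factor_comp_mk _) P₀
  obtain ⟨e₂⟩ := nonempty_extendCx_comp_iso (Ideal.Quotient.mk (I * J)) g₂ (Ideal.Quotient.mk J)
    (Ideal.Quotient.factor_comp_mk _) P₀
  have hI' : DRing.IsPerfect (R ⧸ I) (Q.obj ((extendCx (R ⧸ (I * J)) (R ⧸ I)).obj P)) :=
    isPerfect_of_iso (Q.mapIso e₁.symm) hI
  have hJ' : DRing.IsPerfect (R ⧸ J) (Q.obj ((extendCx (R ⧸ (I * J)) (R ⧸ J)).obj P)) :=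
    isPerfect_of_iso (Q.mapIso e₂.symm) hJ
  have hs₁ : Function.Surjective (algebraMap (R ⧸ (I * J)) (R ⧸ I)) :=
    Ideal.Quotient.factor_surjective _
  have hs₂ : Function.Surjective (algebraMap (R ⧸ (I * J)) (R ⧸ J)) :=
    Ideal.Quotient.factor_surjective _
  have hker : ∀ x ∈ RingHom.ker (algebraMap (R ⧸ (I * J)) (R ⧸ I)),
      ∀ y ∈ RingHom.ker (algebraMap (R ⧸ (I * J)) (R ⧸ J)), x * y = 0 := by
    intro x hx y hy
    obtain ⟨x₀, rfl⟩ := Ideal.Quotient.mk_surjective x
    obtain ⟨y₀, rfl⟩ := Ideal.Quotient.mk_surjective y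
    have hx₀ : x₀ ∈ I := by
      have : g₁ (Ideal.Quotient.mk (I * J) x₀) = 0 := hx
      rwa [Ideal.Quotient.factor_mk, Ideal.Quotient.eq_zero_iff_mem] at this
    have hy₀ : y₀ ∈ J := by
      have : g₂ (Ideal.Quotient.mk (I * J) y₀) = 0 := hy
      rwa [Ideal.Quotient.factor_mk, Ideal.Quotient.eq_zero_iff_mem] at this
    rw [← map_mul, Ideal.Quotient.eq_zero_iff_mem]
    exact Ideal.mul_mem_mul hx₀ hy₀
  obtain ⟨a₁, b₁, hab₁⟩ := exists_hasTorAmplitudeIn_of_isPerfect hI'
  obtain ⟨a₂, b₂, hab₂⟩ := exists_hasTorAmplitudeIn_of_isPerfect hJ'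
  have ht := hasTorAmplitudeIn_of_extendCx_two hs₁ hs₂ hker P hPproj (min a₁ a₂) (max b₁ b₂)
    (hasTorAmplitudeIn_mono (min_le_left _ _) (le_max_left _ _) hab₁)
    (hasTorAmplitudeIn_mono (min_le_right _ _) (le_max_right _ _) hab₂)
  have hpc := isPC_of_extendCx_two hs₁ hs₂ hker P hPproj (fun m => isNPC_of_isPerfect hI' m)
    (fun m => isNPC_of_isPerfect hJ' m) (min a₁ a₂ - 1)
  exact isPerfect_of_isNPC_of_hasTorAmplitudeIn hpc ht

end Product

end Groth.Agent.Lib.Helper13.DR
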