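import Groth.Agent.Lib.Helper13.DTenKProj
import Groth.Agent.Lib.Helper13.HomTensorKProj
import Groth.Prelude.Def_DTen2

/-!
# The associativity legs of the derived tensor product are isomorphisms
-/

set_option autoImplicit false
universe u
open CategoryTheory CategoryTheory.Limits MonoidalCategory

namespace Groth.Agent.Lib.Helper13.DT

open Groth.Agent.Lib.Helper13.PC Groth.Agent.Lib.Helper13.SF Groth.Agent.Lib.Helper13.Kan
open Groth.Agent.Lib.Helper13.DR Groth.Agent.Lib.Helper13.HT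
open DerivedCategory DTen
attribute [local instance] HasDerivedCategory.standard

section Homotopy

variable {A : Type u} [CommRing A]

/-- The tensor product of maps of complexes is compatible with homotopies. -/
lemma nonempty_homotopy_tensorHom {K K' L L' : DRing.Cx A} {f f' : K ⟶ K'} {g g' : L ⟶ L'}
    (hf : Nonempty (Homotopy f f')) (hg : Nonempty (Homotopy g g')) :
    Nonempty (Homotopy (f ⊗ₘ g) (f' ⊗ₘ g')) := by
  obtain ⟨hf⟩ := hf
  obtain ⟨hg⟩ := hg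
  have h1 : Homotopy (HomologicalComplex.mapBifunctorMap f g (curriedTensor (ModuleCat.{u} A))
      (ComplexShape.up ℤ)) (HomologicalComplex.mapBifunctorMap f' g
        (curriedTensor (ModuleCat.{u} A)) (ComplexShape.up ℤ)) :=
    HomologicalComplex.mapBifunctorMapHomotopy₁ hf g _ _
  have h2 : Homotopy (HomologicalComplex.mapBifunctorMap f' g (curriedTensor (ModuleCat.{u} A))
      (ComplexShape.up ℤ)) (HomologicalComplex.mapBifunctorMap f' g'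
        (curriedTensor (ModuleCat.{u} A)) (ComplexShape.up ℤ)) :=
    HomologicalComplex.mapBifunctorMapHomotopy₂ f' hg _ _
  exact ⟨h1.trans h2⟩

end Homotopy

section Triple

variable (A : Type u) [CommRing A]

instance (P P' : DRing.Cx A) [P.IsKProjective] [P'.IsKProjective] :
    CochainComplex.IsKProjective (P ⊗ P') := isKProjective_tensor P P'

lemma isRightKanExtension_LTen₃ [HasLTen₃ A] : (LTen₃ A).IsRightKanExtension (ε₃ A) :=
  Functor.IsLeftDerivedFunctor.isRightKanExtension _ _ (W := qis₃ A)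

theorem isIso_ε₃_app_of_isKProjective [HasLTen₃ A] (P₁ P₂ P₃ : DRing.Cx A) [P₁.IsKProjective]
    [P₂.IsKProjective] [P₃.IsKProjective] : IsIso ((ε₃ A).app (P₁, (P₂, P₃))) := by
  have := isRightKanExtension_LTen₃ A
  have hs : ∀ Y : Dual.D A × (Dual.D A × Dual.D A),
      Small.{u} ((QQQ A).obj (P₁, (P₂, P₃)) ⟶ Y) := fun Y =>
    inferInstanceAs (Small.{u} ((Q.obj P₁ ⟶ Y.1) × ((Q.obj P₂ ⟶ Y.2.1) × (Q.obj P₃ ⟶ Y.2.2))))
  refine isIso_counit_app_of_lifting (QQQ A) (tensor₃ A) (LTen₃ A) (ε₃ A) (P₁, (P₂, P₃)) ?_ ?_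
  · rintro ⟨X₁, X₂, X₃⟩ ⟨f₁, f₂, f₃⟩
    obtain ⟨g₁, hg₁⟩ := exists_Q_map_eq (K := P₁) (L := X₁) f₁
    obtain ⟨g₂, hg₂⟩ := exists_Q_map_eq (K := P₂) (L := X₂) f₂
    obtain ⟨g₃, hg₃⟩ := exists_Q_map_eq (K := P₃) (L := X₃) f₃
    exact ⟨(g₁, (g₂, g₃)), Prod.ext hg₁ (Prod.ext hg₂ hg₃)⟩
  · rintro ⟨X₁, X₂, X₃⟩ ⟨f₁, f₂, f₃⟩ ⟨g₁, g₂, g₃⟩ h
    have h1 : Q.map f₁ = Q.map g₁ := congrArg Prod.fst h
    have h2 : Q.map f₂ = Q.map g₂ := congrArg (fun t => t.2.1) h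
    have h3 : Q.map f₃ = Q.map g₃ := congrArg (fun t => t.2.2) h
    have e := Q_map_tensorHom_eq (exists_homotopy_of_Q_map_eq f₁ g₁ h1)
      (nonempty_homotopy_tensorHom (exists_homotopy_of_Q_map_eq f₂ g₂ h2)
        (exists_homotopy_of_Q_map_eq f₃ g₃ h3))
    dsimp [tensor₃, tensorT₃, tensorT]
    rw [← MonoidalCategory.tensorHom_def, ← MonoidalCategory.tensorHom_def,
      ← MonoidalCategory.tensorHom_def, ← MonoidalCategory.tensorHom_def]
    exact e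

end Triple


section Assoc

variable (A : Type u) [CommRing A]

theorem isIso_assocR_app [HasLTen A] [HasLTen₃ A] (a b c : Dual.D A) :
    IsIso ((assocR A).app (a, (b, c))) := by
  obtain ⟨P₁, hP₁, -, ⟨e₁⟩⟩ := exists_kprojective_rep a
  obtain ⟨P₂, hP₂, -, ⟨e₂⟩⟩ := exists_kprojective_rep b
  obtain ⟨P₃, hP₃, -, ⟨e₃⟩⟩ := exists_kprojective_rep c
  have e : ((Q.obj P₁, (Q.obj P₂, Q.obj P₃)) : Dual.D A × (Dual.D A × Dual.D A)) ≅ (a, (b, c)) :=
    Iso.prod e₁ (Iso.prod e₂ e₃)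
  rw [← NatTrans.isIso_app_iff_of_iso (assocR A) e]
  have h1 := assocR_fac A (P₁, (P₂, P₃))
  have h2 := isIso_ε₃_app_of_isKProjective A P₁ P₂ P₃
  have h3 := isIso_ε_app_of_isKProjective A P₂ P₃
  have h4 := isIso_ε_app_of_isKProjective A P₁ (P₂ ⊗ P₃)
  have h5 : IsIso ((βR A).app (P₁, (P₂, P₃))) := by
    have h6 : IsIso (Prod.mkHom (𝟙 (Q.obj P₁)) ((ε A).app (P₂, P₃))) := by
      rw [isIso_prod_iff]
      exact ⟨inferInstance, h3⟩
    dsimp [βR]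
    infer_instance
  rw [← h1] at h5
  exact @IsIso.of_isIso_comp_right _ _ _ _ _ ((assocR A).app (Q.obj P₁, (Q.obj P₂, Q.obj P₃)))
    ((ε₃ A).app (P₁, (P₂, P₃))) h2 h5

theorem isIso_assocL_app [HasLTen A] [HasLTen₃ A] (a b c : Dual.D A) :
    IsIso ((assocL A).app (a, (b, c))) := by
  obtain ⟨P₁, hP₁, -, ⟨e₁⟩⟩ := exists_kprojective_rep a
  obtain ⟨P₂, hP₂, -, ⟨e₂⟩⟩ := exists_kprojective_rep b
  obtain ⟨P₃, hP₃, -, ⟨e₃⟩⟩ := exists_kprojective_rep c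
  have e : ((Q.obj P₁, (Q.obj P₂, Q.obj P₃)) : Dual.D A × (Dual.D A × Dual.D A)) ≅ (a, (b, c)) :=
    Iso.prod e₁ (Iso.prod e₂ e₃)
  rw [← NatTrans.isIso_app_iff_of_iso (assocL A) e]
  have h1 := assocL_fac A (P₁, (P₂, P₃))
  have h2 := isIso_ε₃_app_of_isKProjective A P₁ P₂ P₃
  have h3 := isIso_ε_app_of_isKProjective A P₁ P₂
  have h4 := isIso_ε_app_of_isKProjective A (P₁ ⊗ P₂) P₃
  have h5 : IsIso ((βL A).app (P₁, (P₂, P₃))) := by
    have h6 : IsIso (Prod.mkHom ((ε A).app (P₁, P₂)) (𝟙 (Q.obj P₃))) := by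
      rw [isIso_prod_iff]
      exact ⟨h3, inferInstance⟩
    have h7 : IsIso ((LTen₂ A).map (Prod.mkHom ((ε A).app (P₁, P₂)) (𝟙 (Q.obj P₃)))) :=
      Functor.map_isIso _ _
    have h8 : IsIso (Q.map (α_ P₁ P₂ P₃).hom) := inferInstance
    have h9 : IsIso ((ε A).app (P₁ ⊗ P₂, P₃) ≫ Q.map (α_ P₁ P₂ P₃).hom) :=
      @IsIso.comp_isIso _ _ _ _ _ _ _ h4 h8
    exact @IsIso.comp_isIso _ _ _ _ _ _ _ h7 h9
  rw [← h1] at h5
  exact @IsIso.of_isIso_comp_right _ _ _ _ _ ((assocL A).app (Q.obj P₁, (Q.obj P₂, Q.obj P₃)))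
    ((ε₃ A).app (P₁, (P₂, P₃))) h2 h5

end Assoc

end Groth.Agent.Lib.Helper13.DT
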