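import Mathlib

/-!
# Generic lemmas for dévissage arguments: mid-exact pairs, a five lemma via Yoneda, and
mates along equivalences
-/

set_option autoImplicit false
universe v u
open CategoryTheory CategoryTheory.Limits

namespace Groth.Agent.Lib.Helper13.DV

section MidExact

variable {C : Type u} [Category.{v} C] [Preadditive C]

/-- A composable pair which is exact in the middle after applying every `Hom(W, -)`. -/
def MidExact {X Y Z : C} (f : X ⟶ Y) (g : Y ⟶ Z) : Prop :=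
  f ≫ g = 0 ∧ ∀ ⦃W : C⦄ (u : W ⟶ Y), u ≫ g = 0 → ∃ v : W ⟶ X, v ≫ f = u

lemma MidExact.of_iso {X Y Z X' Y' Z' : C} {f : X ⟶ Y} {g : Y ⟶ Z} {f' : X' ⟶ Y'} {g' : Y' ⟶ Z'}
    (h : MidExact f g) (e₁ : X ≅ X') (e₂ : Y ≅ Y') (e₃ : Z ≅ Z')
    (c₁ : f ≫ e₂.hom = e₁.hom ≫ f') (c₂ : g ≫ e₃.hom = e₂.hom ≫ g') : MidExact f' g' := by
  have hf' : f' = e₁.inv ≫ f ≫ e₂.hom := by rw [c₁, Iso.inv_hom_id_assoc]
  have hg' : g' = e₂.inv ≫ g ≫ e₃.hom := by rw [c₂, Iso.inv_hom_id_assoc]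
  constructor
  · rw [hf', hg']
    simp only [Category.assoc, Iso.hom_inv_id_assoc]
    rw [reassoc_of% h.1, zero_comp, comp_zero]
  · intro W u hu
    have h1 : (u ≫ e₂.inv) ≫ g = 0 := by
      rw [hg'] at hu
      have := congrArg (fun t => t ≫ e₃.inv) hu
      simpa using this
    obtain ⟨v, hv⟩ := h.2 _ h1
    refine ⟨v ≫ e₁.hom, ?_⟩
    rw [Category.assoc, ← c₁, reassoc_of% hv, Iso.inv_hom_id, Category.comp_id]

lemma MidExact.of_distTriang [HasZeroObject C] [HasShift C ℤ]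
    [∀ n : ℤ, (shiftFunctor C n).Additive] [Pretriangulated C]
    (T : Pretriangulated.Triangle C) (hT : T ∈ Pretriangulated.distinguishedTriangles) :
    MidExact T.mor₁ T.mor₂ :=
  ⟨Pretriangulated.comp_distTriang_mor_zero₁₂ T hT, fun _ u hu => by
    obtain ⟨v, hv⟩ := Pretriangulated.Triangle.coyoneda_exact₂ T hT u hu
    exact ⟨v, hv.symm⟩⟩

/-- Right adjoints preserve mid-exact pairs. -/
lemma MidExact.map_rightAdjoint {D : Type*} [Category D] [Preadditive D] {E : D ⥤ C} {G : C ⥤ D}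
    (adj : E ⊣ G) [G.PreservesZeroMorphisms] {X Y Z : C} {f : X ⟶ Y} {g : Y ⟶ Z}
    (h : MidExact f g) : MidExact (G.map f) (G.map g) := by
  constructor
  · rw [← G.map_comp, h.1, G.map_zero]
  · intro W u hu
    have h0 : (adj.homEquiv W Z).symm 0 = 0 := by
      have := adj.homEquiv_naturality_right_symm (0 : W ⟶ G.obj Z) (0 : Z ⟶ Z)
      rw [G.map_zero, comp_zero, comp_zero] at this
      exact this
    have h1 : (adj.homEquiv W Y).symm u ≫ g = 0 := by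
      rw [← adj.homEquiv_naturality_right_symm, hu, h0]
    obtain ⟨v, hv⟩ := h.2 _ h1
    refine ⟨adj.homEquiv W X v, ?_⟩
    rw [← adj.homEquiv_naturality_right, hv, Equiv.apply_symm_apply]

/-- The five lemma for `Hom(W, -)`-exact rows. -/
theorem isIso_of_five {X₁ X₂ X₃ X₄ X₅ Y₁ Y₂ Y₃ Y₄ Y₅ : C}
    (f₁ : X₁ ⟶ X₂) (f₂ : X₂ ⟶ X₃) (f₃ : X₃ ⟶ X₄) (f₄ : X₄ ⟶ X₅)
    (g₁ : Y₁ ⟶ Y₂) (g₂ : Y₂ ⟶ Y₃) (g₃ : Y₃ ⟶ Y₄) (g₄ : Y₄ ⟶ Y₅)
    (η₁ : X₁ ⟶ Y₁) (η₂ : X₂ ⟶ Y₂) (η₃ : X₃ ⟶ Y₃) (η₄ : X₄ ⟶ Y₄) (η₅ : X₅ ⟶ Y₅)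
    (c₁ : f₁ ≫ η₂ = η₁ ≫ g₁) (c₂ : f₂ ≫ η₃ = η₂ ≫ g₂) (c₃ : f₃ ≫ η₄ = η₃ ≫ g₃)
    (c₄ : f₄ ≫ η₅ = η₄ ≫ g₄)
    (hf₁ : f₁ ≫ f₂ = 0) (hf₃ : MidExact f₂ f₃) (hf₄ : MidExact f₃ f₄)
    (hg₂ : MidExact g₁ g₂) (hg₃ : MidExact g₂ g₃) (hg₄ : g₃ ≫ g₄ = 0)
    [IsIso η₁] [IsIso η₂] [IsIso η₄] [IsIso η₅] : IsIso η₃ := by
  apply isIso_of_yoneda_map_bijective
  intro W
  constructor
  · -- injectivity
    intro u u' huu'
    dsimp only at huu'
    suffices h : ∀ t : W ⟶ X₃, t ≫ η₃ = 0 → t = 0 by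
      have := h (u - u') (by rw [Preadditive.sub_comp, huu', sub_self])
      exact sub_eq_zero.1 this
    intro t ht
    have h1 : t ≫ f₃ = 0 := by
      rw [← cancel_mono η₄, Category.assoc, c₃, reassoc_of% ht, zero_comp, zero_comp]
    obtain ⟨v, hv⟩ := hf₃.2 t h1
    have h2 : (v ≫ η₂) ≫ g₂ = 0 := by
      rw [Category.assoc, ← c₂, reassoc_of% hv, ht]
    obtain ⟨w, hw⟩ := hg₂.2 _ h2
    have h3 : (w ≫ inv η₁) ≫ f₁ = v := by
      rw [← cancel_mono η₂, Category.assoc, c₁, Category.assoc, IsIso.inv_hom_id_assoc, hw]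
    rw [← hv, ← h3, Category.assoc, hf₁, comp_zero]
  · -- surjectivity
    intro y
    have h1 : (y ≫ g₃ ≫ inv η₄) ≫ f₄ = 0 := by
      rw [← cancel_mono η₅, Category.assoc, Category.assoc, c₄, zero_comp]
      simp [hg₄]
    obtain ⟨x₃, hx₃⟩ := hf₄.2 _ h1
    have h2 : (y - x₃ ≫ η₃) ≫ g₃ = 0 := by
      rw [Preadditive.sub_comp, Category.assoc, ← c₃, reassoc_of% hx₃]
      simp
    obtain ⟨y₂, hy₂⟩ := hg₃.2 _ h2
    refine ⟨x₃ + (y₂ ≫ inv η₂) ≫ f₂, ?_⟩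
    dsimp only
    rw [Preadditive.add_comp, Category.assoc, c₂, Category.assoc, IsIso.inv_hom_id_assoc, hy₂]
    abel

end MidExact

section Mates

variable {C : Type u} [Category.{v} C]

lemma homEquiv_symm_comp_mate {E G F : C ⥤ C} (adj : E ⊣ G) (α : F ⋙ E ≅ E ⋙ F) (L : C)
    {W W' : C} (e : F.obj W' ≅ W) (x₀ : W' ⟶ G.obj L) :
    (adj.homEquiv _ _).symm ((e.inv ≫ F.map x₀) ≫
        adj.homEquiv _ _ (α.hom.app (G.obj L) ≫ F.map (adj.counit.app L))) =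
      E.map e.inv ≫ α.hom.app W' ≫ F.map ((adj.homEquiv _ _).symm x₀) := by
  rw [adj.homEquiv_naturality_left_symm, Equiv.symm_apply_apply, E.map_comp, Category.assoc]
  have nat := α.hom.naturality x₀
  dsimp only [Functor.comp_map, Functor.comp_obj] at nat
  rw [reassoc_of% nat, ← F.map_comp, Adjunction.homEquiv_symm_apply]

/-- Let `E ⊣ G` be an adjunction on `C`, `F` an equivalence and `α : F ⋙ E ≅ E ⋙ F`. Then the
adjunct `F G L ⟶ G F L` of `α ≫ F(counit)` is an isomorphism. -/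
theorem isIso_homEquiv_of_isEquivalence {E G F : C ⥤ C} (adj : E ⊣ G) [F.IsEquivalence]
    (α : F ⋙ E ≅ E ⋙ F) (L : C) :
    IsIso (adj.homEquiv _ _ (α.hom.app (G.obj L) ≫ F.map (adj.counit.app L))) := by
  apply isIso_of_yoneda_map_bijective
  intro W
  let e : F.obj (F.objPreimage W) ≅ W := F.objObjPreimageIso W
  have key := fun x₀ => homEquiv_symm_comp_mate adj α L e x₀
  have hx : ∀ x : W ⟶ F.obj (G.obj L), x = e.inv ≫ F.map (F.preimage (e.hom ≫ x)) := fun x => by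
    rw [F.map_preimage, Iso.inv_hom_id_assoc]
  constructor
  · intro x x' hxx'
    dsimp only at hxx'
    rw [hx x, hx x'] at hxx'
    have h1 := congrArg (adj.homEquiv _ _).symm hxx'
    rw [key, key] at h1
    have h2 : IsIso (E.map e.inv) := inferInstance
    rw [cancel_epi, cancel_epi] at h1
    have h3 := (adj.homEquiv _ _).symm.injective (F.map_injective h1)
    have h4 : e.hom ≫ x = e.hom ≫ x' := by
      have := congrArg F.map h3
      rwa [F.map_preimage, F.map_preimage] at this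
    exact (cancel_epi e.hom).1 h4
  · intro y
    let z : F.obj (E.obj (F.objPreimage W)) ⟶ F.obj L :=
      inv (α.hom.app (F.objPreimage W)) ≫ E.map e.hom ≫ (adj.homEquiv _ _).symm y
    refine ⟨e.inv ≫ F.map (adj.homEquiv _ _ (F.preimage z)), ?_⟩
    dsimp only
    apply (adj.homEquiv _ _).symm.injective
    rw [key, Equiv.symm_apply_apply, F.map_preimage]
    dsimp only [z]
    rw [IsIso.hom_inv_id_assoc, ← E.map_comp_assoc, Iso.inv_hom_id, E.map_id, Category.id_comp]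
    rfl

end Mates

end Groth.Agent.Lib.Helper13.DV
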