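import Groth.Agent.Lib.Helper13.DTenDev0
import Groth.Agent.Lib.Helper13.DTenKProj
import Groth.Agent.Lib.Helper13.KFlat7

/-!
# Naturality of the associator and of `evalTen`
-/

set_option autoImplicit false
universe u
open CategoryTheory CategoryTheory.Limits MonoidalCategory

namespace Groth.Agent.Lib.Helper13.DV

open DTen

attribute [local instance] HasDerivedCategory.standard

variable {A : Type u} [CommRing A] [HasLTen A] [HasLTen₃ A] [IsSymMonoidal A]

/-- Naturality of the associativity isomorphism of `D(A)` in the three variables. -/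
lemma associator_naturality {a a' b b' c c' : Dual.D A} (f : a ⟶ a') (g : b ⟶ b') (h : c ⟶ c') :
    (LTen₂ A).map (Prod.mkHom ((LTen₂ A).map (Prod.mkHom f g)) h) ≫ (DTen.associator a' b' c').hom =
      (DTen.associator a b c).hom ≫
        (LTen₂ A).map (Prod.mkHom f ((LTen₂ A).map (Prod.mkHom g h))) := by
  let F : ((a, (b, c)) : Dual.D A × (Dual.D A × Dual.D A)) ⟶ (a', (b', c')) :=
    Prod.mkHom f (Prod.mkHom g h)
  have hL : (LTen₂ A).map (Prod.mkHom ((LTen₂ A).map (Prod.mkHom f g)) h) ≫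
      (assocL A).app (a', (b', c')) = (assocL A).app (a, (b, c)) ≫ (LTen₃ A).map F :=
    (assocL A).naturality F
  have hR : (LTen₂ A).map (Prod.mkHom f ((LTen₂ A).map (Prod.mkHom g h))) ≫
      (assocR A).app (a', (b', c')) = (assocR A).app (a, (b, c)) ≫ (LTen₃ A).map F :=
    (assocR A).naturality F
  rw [← cancel_mono ((assocR A).app (a', (b', c'))), Category.assoc, Category.assoc,
    associator_hom_assocR, hL, hR, associator_hom_assocR_assoc]
  rfl

omit [HasLTen₃ A] [IsSymMonoidal A] in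
lemma LTen₂_map_comp {a a' a'' b b' b'' : Dual.D A} (f : a ⟶ a') (f' : a' ⟶ a'') (g : b ⟶ b')
    (g' : b' ⟶ b'') :
    (LTen₂ A).map (Prod.mkHom f g) ≫ (LTen₂ A).map (Prod.mkHom f' g') =
      (LTen₂ A).map (Prod.mkHom (f ≫ f') (g ≫ g')) := by
  rw [← Functor.map_comp]
  rfl

omit [HasLTen₃ A] [IsSymMonoidal A] in
lemma LTen₂_map_id (a b : Dual.D A) :
    (LTen₂ A).map (Prod.mkHom (𝟙 a) (𝟙 b)) = 𝟙 _ :=
  (LTen₂ A).map_id (a, b)

variable [HasRHom A]

/-- `evalTen` is natural in its first variable. -/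
lemma evalTen_naturality {K K' : Dual.D A} (f : K ⟶ K') (L M : Dual.D A) :
    (LTen₂ A).map (Prod.mkHom f (𝟙 ((RHomR A M).obj L))) ≫ evalTen K' L M =
      evalTen K L M ≫ (RHomR A M).map ((LTen₂ A).map (Prod.mkHom f (𝟙 L))) := by
  dsimp only [evalTen]
  rw [← Adjunction.homEquiv_naturality_left, ← Adjunction.homEquiv_naturality_right]
  congr 1
  change (LTen₂ A).map (Prod.mkHom ((LTen₂ A).map (Prod.mkHom f (𝟙 ((RHomR A M).obj L)))) (𝟙 M)) ≫
    evalTenAux K' L M = evalTenAux K L M ≫ (LTen₂ A).map (Prod.mkHom f (𝟙 L))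
  dsimp only [evalTenAux]
  rw [reassoc_of% (associator_naturality f (𝟙 ((RHomR A M).obj L)) (𝟙 M)), LTen₂_map_id,
    Category.assoc, LTen₂_map_comp, LTen₂_map_comp, Category.comp_id, Category.id_comp,
    Category.comp_id, Category.id_comp]

section Counit

open Groth.Agent.Lib.Helper13.SF Groth.Agent.Lib.Helper13.HT Groth.Agent.Lib.Helper13.DT

omit [HasLTen₃ A] [IsSymMonoidal A] [HasRHom A] in
/-- The counit `QK ⊗^L QP ⟶ Q(K ⊗ P)` is an isomorphism when `P` is K-projective. -/
theorem isIso_ε_app_right (K P : DRing.Cx A) [P.IsKProjective] : IsIso ((ε A).app (K, P)) := by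
  have nat := (ε A).naturality (Prod.mkHom (resMap K) (𝟙 P) : (res K, P) ⟶ (K, P))
  have h2 := isIso_ε_app_of_isKProjective A (res K) P
  have h1 : IsIso ((QQ A ⋙ LTen₂ A).map (Prod.mkHom (resMap K) (𝟙 P) : (res K, P) ⟶ (K, P))) := by
    have : IsIso ((QQ A).map (Prod.mkHom (resMap K) (𝟙 P) : (res K, P) ⟶ (K, P))) := by
      rw [isIso_prod_iff]
      constructor
      · change IsIso (DerivedCategory.Q.map (resMap K))
        infer_instance
      · change IsIso (DerivedCategory.Q.map (𝟙 P))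
        infer_instance
    rw [Functor.comp_map]
    infer_instance
  have h3 : IsIso ((tensor₂ A).map (Prod.mkHom (resMap K) (𝟙 P) : (res K, P) ⟶ (K, P))) := by
    have : QuasiIso (resMap K ▷ P) :=
      quasiIso_whiskerRight_of_kflat P (isKFlat_of_isKProjective P) (resMap K)
    change IsIso (DerivedCategory.Q.map (resMap K ▷ P ≫ K ◁ 𝟙 P))
    rw [MonoidalCategory.whiskerLeft_id, Category.comp_id]
    infer_instance
  have h4 : IsIso ((QQ A ⋙ LTen₂ A).map (Prod.mkHom (resMap K) (𝟙 P) : (res K, P) ⟶ (K, P)) ≫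
      (ε A).app (K, P)) := by
    rw [nat]
    infer_instance
  exact IsIso.of_isIso_comp_left
    ((QQ A ⋙ LTen₂ A).map (Prod.mkHom (resMap K) (𝟙 P) : (res K, P) ⟶ (K, P))) _

end Counit

end Groth.Agent.Lib.Helper13.DV
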