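import Groth.Agent.Lib.Helper13.DTenDev1

/-!
# The derived tensor product is mid-exact in each variable
-/

set_option autoImplicit false
universe u
open CategoryTheory CategoryTheory.Limits MonoidalCategory Pretriangulated
open CochainComplex HomologicalComplex

namespace Groth.Agent.Lib.Helper13.DV

open DTen Groth.Agent.Lib.Helper13.SF Groth.Agent.Lib.Helper13.HT Groth.Agent.Lib.Helper13.DT
open Groth.Agent.Lib.Helper28

attribute [local instance] HasDerivedCategory.standard

variable {A : Type u} [CommRing A]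

instance preservesZeroMorphisms_tensorRight (P : DRing.Cx A) :
    (tensorRight P).PreservesZeroMorphisms where
  map_zero X Y := by
    change HomologicalComplex.mapBifunctorMap (0 : X ⟶ Y) (𝟙 P)
      (curriedTensor (ModuleCat.{u} A)) (ComplexShape.up ℤ) = 0
    refine HomologicalComplex.hom_ext _ _ (fun n =>
      HomologicalComplex.mapBifunctor.hom_ext (fun p q h => ?_))
    rw [HomologicalComplex.ι_mapBifunctorMap]
    simp

/-- Tensoring a degreewise split short exact sequence of complexes with a complex gives a short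
exact sequence. -/
lemma shortExact_map_tensorRight (S : ShortComplex (DRing.Cx A))
    (σ : ∀ n, (S.map (HomologicalComplex.eval _ _ n)).Splitting) (P : DRing.Cx A) :
    (S.map (tensorRight P)).ShortExact :=
  KFlatAbs.shortExact_tot₁ (curriedTensor (ModuleCat.{u} A)) S P (fun p q =>
    ((σ p).map ((curriedTensor (ModuleCat.{u} A)).flip.obj (P.X q))).shortExact)

/-- Every distinguished triangle of `D(A)` is, on its first two maps, the image of a degreewise
split short exact sequence of complexes. -/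
lemma exists_split_shortComplex_of_distTriang (T₀ : Triangle (Dual.D A))
    (hT₀ : T₀ ∈ distTriang (Dual.D A)) :
    ∃ (S : ShortComplex (DRing.Cx A)) (_ : ∀ n, (S.map (HomologicalComplex.eval _ _ n)).Splitting)
      (e₁ : T₀.obj₁ ≅ DerivedCategory.Q.obj S.X₁) (e₂ : T₀.obj₂ ≅ DerivedCategory.Q.obj S.X₂)
      (e₃ : T₀.obj₃ ≅ DerivedCategory.Q.obj S.X₃),
      T₀.mor₁ ≫ e₂.hom = e₁.hom ≫ DerivedCategory.Q.map S.f ∧
        T₀.mor₂ ≫ e₃.hom = e₂.hom ≫ DerivedCategory.Q.map S.g := by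
  have h := inv_rot_of_distTriang _ hT₀
  rw [DerivedCategory.mem_distTriang_iff] at h
  obtain ⟨X, Y, φ, ⟨e⟩⟩ := h
  let e' : T₀ ≅ DerivedCategory.Q.mapTriangle.obj (mappingCone.triangle φ).rotate :=
    ((invRotCompRot).app T₀).symm ≪≫ (rotate _).mapIso e ≪≫
      (DerivedCategory.Q.mapTriangleRotateIso).app _
  refine ⟨mappingCone.triangleRotateShortComplex φ,
    mappingCone.triangleRotateShortComplexSplitting φ,
    Triangle.π₁.mapIso e', Triangle.π₂.mapIso e', Triangle.π₃.mapIso e', ?_, ?_⟩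
  · exact e'.hom.comm₁
  · exact e'.hom.comm₂

variable [HasLTen A]

/-- The derived tensor product is mid-exact in the first variable. -/
theorem midExact_LTen₂_left (T₀ : Triangle (Dual.D A)) (hT₀ : T₀ ∈ distTriang (Dual.D A))
    (X : Dual.D A) :
    MidExact ((LTen₂ A).map (Prod.mkHom T₀.mor₁ (𝟙 X))) ((LTen₂ A).map (Prod.mkHom T₀.mor₂ (𝟙 X))) := by
  obtain ⟨P, hP, -, ⟨eX⟩⟩ := exists_kprojective_rep X
  obtain ⟨S, σ, e₁, e₂, e₃, c₁, c₂⟩ := exists_split_shortComplex_of_distTriang T₀ hT₀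
  have hSP := shortExact_map_tensorRight S σ P
  have hmid : MidExact (DerivedCategory.Q.map (S.f ▷ P)) (DerivedCategory.Q.map (S.g ▷ P)) :=
    MidExact.of_distTriang _ (DerivedCategory.triangleOfSES_distinguished hSP)
  have i₁ := isIso_ε_app_right S.X₁ P
  have i₂ := isIso_ε_app_right S.X₂ P
  have i₃ := isIso_ε_app_right S.X₃ P
  have n₁ : (LTen₂ A).map (Prod.mkHom (DerivedCategory.Q.map S.f) (𝟙 (DerivedCategory.Q.obj P))) ≫
      (ε A).app (S.X₂, P) = (ε A).app (S.X₁, P) ≫ DerivedCategory.Q.map (S.f ▷ P) := by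
    have := (ε A).naturality (Prod.mkHom S.f (𝟙 P) : (S.X₁, P) ⟶ (S.X₂, P))
    dsimp at this
    rw [MonoidalCategory.whiskerLeft_id, Category.comp_id, CategoryTheory.Functor.map_id] at this
    exact this
  have n₂ : (LTen₂ A).map (Prod.mkHom (DerivedCategory.Q.map S.g) (𝟙 (DerivedCategory.Q.obj P))) ≫
      (ε A).app (S.X₃, P) = (ε A).app (S.X₂, P) ≫ DerivedCategory.Q.map (S.g ▷ P) := by
    have := (ε A).naturality (Prod.mkHom S.g (𝟙 P) : (S.X₂, P) ⟶ (S.X₃, P))
    dsimp at this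
    rw [MonoidalCategory.whiskerLeft_id, Category.comp_id, CategoryTheory.Functor.map_id] at this
    exact this
  let E : ∀ (Z : Dual.D A) (K : DRing.Cx A) (e : Z ≅ DerivedCategory.Q.obj K)
      [IsIso ((ε A).app (K, P))], DerivedCategory.Q.obj (K ⊗ P) ≅ (LTen₂ A).obj (Z, X) :=
    fun Z K e _ => (asIso ((ε A).app (K, P))).symm ≪≫ (LTen₂ A).mapIso (Iso.prod e.symm eX)
  have key : ∀ {Z Z' : Dual.D A} {K K' : DRing.Cx A} (e : Z ≅ DerivedCategory.Q.obj K)
      (e' : Z' ≅ DerivedCategory.Q.obj K') [IsIso ((ε A).app (K, P))] [IsIso ((ε A).app (K', P))]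
      (m : Z ⟶ Z') (f : K ⟶ K') (c : m ≫ e'.hom = e.hom ≫ DerivedCategory.Q.map f)
      (n : (LTen₂ A).map (Prod.mkHom (DerivedCategory.Q.map f) (𝟙 (DerivedCategory.Q.obj P))) ≫
        (ε A).app (K', P) = (ε A).app (K, P) ≫ DerivedCategory.Q.map (f ▷ P)),
      DerivedCategory.Q.map (f ▷ P) ≫ (E Z' K' e').hom =
        (E Z K e).hom ≫ (LTen₂ A).map (Prod.mkHom m (𝟙 X)) := by
    intro Z Z' K K' e e' _ _ m f c n
    have k1 : DerivedCategory.Q.map (f ▷ P) ≫ inv ((ε A).app (K', P)) =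
        inv ((ε A).app (K, P)) ≫
          (LTen₂ A).map (Prod.mkHom (DerivedCategory.Q.map f) (𝟙 (DerivedCategory.Q.obj P))) := by
      rw [IsIso.comp_inv_eq, Category.assoc, n, IsIso.inv_hom_id_assoc]
    have k2 : DerivedCategory.Q.map f ≫ e'.inv = e.inv ≫ m := by
      rw [Iso.comp_inv_eq, Category.assoc, c, Iso.inv_hom_id_assoc]
    change DerivedCategory.Q.map (f ▷ P) ≫ inv ((ε A).app (K', P)) ≫
      (LTen₂ A).map (Prod.mkHom e'.inv eX.hom) =
      (inv ((ε A).app (K, P)) ≫ (LTen₂ A).map (Prod.mkHom e.inv eX.hom)) ≫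
        (LTen₂ A).map (Prod.mkHom m (𝟙 X))
    rw [reassoc_of% k1, Category.assoc, LTen₂_map_comp, LTen₂_map_comp, k2, Category.id_comp,
      Category.comp_id]
  exact hmid.of_iso (E _ _ e₁) (E _ _ e₂) (E _ _ e₃) (key e₁ e₂ _ _ c₁ n₁) (key e₂ e₃ _ _ c₂ n₂)

end Groth.Agent.Lib.Helper13.DV
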