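import Groth.Agent.Lib.Helper13.DTenDev3

/-!
# Invertible objects act by equivalences; `evalTen` at an invertible object
-/

set_option autoImplicit false
universe u
open CategoryTheory CategoryTheory.Limits MonoidalCategory Pretriangulated

namespace Groth.Agent.Lib.Helper13.DV

open DTen

attribute [local instance] HasDerivedCategory.standard

variable {A : Type u} [CommRing A] [HasLTen A] [HasLTen₃ A] [IsSymMonoidal A]

/-- The associator as a natural isomorphism in the middle variable. -/
noncomputable def assocMid (K M : Dual.D A) :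
    (LTen A).obj K ⋙ (LTen A).flip.obj M ≅ (LTen A).flip.obj M ⋙ (LTen A).obj K :=
  NatIso.ofComponents (fun X => DTen.associator K X M) (fun {X Y} g => by
    have := associator_naturality (𝟙 K) g (𝟙 M)
    exact this)

section

variable [HasRHom A]

/-- `evalTen K L M` is an isomorphism as soon as `K ⊗^L -` is an equivalence. -/
theorem isIso_evalTen_of_isEquivalence (K L M : Dual.D A) [((LTen A).obj K).IsEquivalence] :
    IsIso (evalTen K L M) :=
  isIso_homEquiv_of_isEquivalence (rhomAdj A M) (assocMid K M) L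

end

/-- If `K' ⊗^L K ≅ A[0]`, then `(K ⊗^L -) ⋙ (K' ⊗^L -) ≅ 𝟭`. -/
noncomputable def tensorLeftCompIso (K K' : Dual.D A) (i : (LTen₂ A).obj (K', K) ≅ DTen.unit A) :
    (LTen A).obj K ⋙ (LTen A).obj K' ≅ 𝟭 (Dual.D A) :=
  NatIso.ofComponents (fun X => (DTen.associator K' K X).symm ≪≫
      (LTen₂ A).mapIso (Iso.prod i (Iso.refl X)) ≪≫ asIso ((unitL A).app X)) (fun {X Y} g => by
    have h1 := associator_naturality (𝟙 K') (𝟙 K) g
    rw [LTen₂_map_id] at h1
    have h1' : ((LTen A).obj K ⋙ (LTen A).obj K').map g ≫ (DTen.associator K' K Y).inv =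
        (DTen.associator K' K X).inv ≫ (LTen₂ A).map (Prod.mkHom (𝟙 _) g) := by
      rw [Iso.comp_inv_eq, Category.assoc, h1, Iso.inv_hom_id_assoc]
      rfl
    have h2 := (unitL A).naturality g
    dsimp only [Iso.trans_hom, Iso.symm_hom, Functor.mapIso_hom, asIso_hom, Iso.prod_hom,
      Iso.refl_hom, Functor.id_map] at h2 ⊢
    rw [← Category.assoc, h1', Category.assoc, Category.assoc, Category.assoc]
    congr 1
    rw [← h2]
    change (LTen₂ A).map (Prod.mkHom (𝟙 _) g) ≫ (LTen₂ A).map (Prod.mkHom i.hom (𝟙 Y)) ≫ _ =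
      (LTen₂ A).map (Prod.mkHom i.hom (𝟙 X)) ≫ (LTen₂ A).map (Prod.mkHom (𝟙 _) g) ≫ _
    rw [← Category.assoc, ← Category.assoc, LTen₂_map_comp, LTen₂_map_comp, Category.id_comp,
      Category.comp_id, Category.id_comp, Category.comp_id])

/-- Invertible objects act by equivalences. -/
theorem isEquivalence_of_isInvertible (K : Dual.D A) (hK : IsInvertible A K) :
    ((LTen A).obj K).IsEquivalence := by
  obtain ⟨K', ⟨i⟩, ⟨j⟩⟩ := hK
  exact (CategoryTheory.Equivalence.mk ((LTen A).obj K) ((LTen A).obj K') (tensorLeftCompIso K K' j).symm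
    (tensorLeftCompIso K' K i)).isEquivalence_functor

end Groth.Agent.Lib.Helper13.DV
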