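import Groth.Agent.Lib.Helper13.DTenDev4

/-!
# Shifts of the unit are invertible
-/

set_option autoImplicit false
universe u
open CategoryTheory CategoryTheory.Limits MonoidalCategory Pretriangulated

namespace Groth.Agent.Lib.Helper13.DV

open DTen

attribute [local instance] HasDerivedCategory.standard

variable {A : Type u} [CommRing A]

instance isKProjective_unit : (𝟙_ (DRing.Cx A)).IsKProjective := by
  have h1 : (𝟙_ (DRing.Cx A)).IsStrictlyLE 0 := by
    change CochainComplex.IsStrictlyLE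
      ((HomologicalComplex.single (ModuleCat.{u} A) (ComplexShape.up ℤ) 0).obj _) 0
    infer_instance
  have h2 : ∀ n : ℤ, Projective ((𝟙_ (DRing.Cx A)).X n) := by
    intro n
    change Projective (((HomologicalComplex.single (ModuleCat.{u} A) (ComplexShape.up ℤ) 0).obj
      (𝟙_ (ModuleCat.{u} A))).X n)
    by_cases hn : n = 0
    · subst hn
      have : Projective (𝟙_ (ModuleCat.{u} A)) := by
        change Projective (ModuleCat.of A A)
        exact ModuleCat.projective_of_categoryTheory_projective (ModuleCat.of A A)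
      exact Projective.of_iso (HomologicalComplex.singleObjXSelf (ComplexShape.up ℤ) 0
        (𝟙_ (ModuleCat.{u} A))).symm inferInstance
    · exact (HomologicalComplex.isZero_single_obj_X (ComplexShape.up ℤ) 0 _ n hn).projective
  exact CochainComplex.isKProjective_of_projective _ 0

/-- `A[n] ⊗ A[m] ≅ A[0]` at the chain level when `n + m = 0`. -/
noncomputable def shiftUnitTensorIso (n m : ℤ) (h : m + n = 0) :
    (𝟙_ (DRing.Cx A))⟦n⟧ ⊗ (𝟙_ (DRing.Cx A))⟦m⟧ ≅ 𝟙_ (DRing.Cx A) :=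
  CochainComplex.mapBifunctorShift₁Iso (𝟙_ (DRing.Cx A)) ((𝟙_ (DRing.Cx A))⟦m⟧)
      (curriedTensor (ModuleCat.{u} A)) n ≪≫
    (shiftFunctor (DRing.Cx A) n).mapIso
      (CochainComplex.mapBifunctorShift₂Iso (𝟙_ (DRing.Cx A)) (𝟙_ (DRing.Cx A))
        (curriedTensor (ModuleCat.{u} A)) m) ≪≫
    (shiftFunctor (DRing.Cx A) n).mapIso ((shiftFunctor (DRing.Cx A) m).mapIso
      (λ_ (𝟙_ (DRing.Cx A)))) ≪≫
    (shiftFunctorCompIsoId (DRing.Cx A) m n h).app _

variable [HasLTen A]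

theorem isInvertible_shift_unit (n : ℤ) :
    IsInvertible A (DerivedCategory.Q.obj ((𝟙_ (DRing.Cx A))⟦n⟧)) := by
  refine ⟨DerivedCategory.Q.obj ((𝟙_ (DRing.Cx A))⟦-n⟧), ⟨?_⟩, ⟨?_⟩⟩
  · have := isIso_ε_app_right ((𝟙_ (DRing.Cx A))⟦n⟧) ((𝟙_ (DRing.Cx A))⟦-n⟧)
    exact asIso ((ε A).app (((𝟙_ (DRing.Cx A))⟦n⟧), ((𝟙_ (DRing.Cx A))⟦-n⟧))) ≪≫
      DerivedCategory.Q.mapIso (shiftUnitTensorIso n (-n) (by simp))
  · have := isIso_ε_app_right ((𝟙_ (DRing.Cx A))⟦-n⟧) ((𝟙_ (DRing.Cx A))⟦n⟧)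
    exact asIso ((ε A).app (((𝟙_ (DRing.Cx A))⟦-n⟧), ((𝟙_ (DRing.Cx A))⟦n⟧))) ≪≫
      DerivedCategory.Q.mapIso (shiftUnitTensorIso (-n) n (by simp))

/-- `A[0]⟦n⟧` as the image of the chain-level shifted unit. -/
noncomputable def singleShiftIso (n : ℤ) :
    (shiftFunctor (Dual.D A) n).obj
        ((DerivedCategory.singleFunctor (ModuleCat.{u} A) 0).obj (ModuleCat.of A A)) ≅
      DerivedCategory.Q.obj ((𝟙_ (DRing.Cx A))⟦n⟧) :=
  (shiftFunctor (Dual.D A) n).mapIso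
      ((DerivedCategory.singleFunctorIsoCompQ (ModuleCat.{u} A) 0).app (ModuleCat.of A A)) ≪≫
    ((DerivedCategory.Q.commShiftIso n).app (𝟙_ (DRing.Cx A))).symm

end Groth.Agent.Lib.Helper13.DV
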