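import Groth.Agent.Lib.Helper13.RHomModel2

/-!
# Exactness properties of `⊗^L` and `RHom` in each variable
-/

set_option autoImplicit false
universe v u
open CategoryTheory CategoryTheory.Limits MonoidalCategory Pretriangulated
open CochainComplex HomologicalComplex

namespace Groth.Agent.Lib.Helper13.DV

section CoMidExact

variable {C : Type u} [Category.{v} C] [Preadditive C]

/-- A composable pair which is exact in the middle after applying every `Hom(-, W)`. -/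
def CoMidExact {X Y Z : C} (f : X ⟶ Y) (g : Y ⟶ Z) : Prop :=
  f ≫ g = 0 ∧ ∀ ⦃W : C⦄ (u : Y ⟶ W), f ≫ u = 0 → ∃ v : Z ⟶ W, g ≫ v = u

lemma CoMidExact.of_iso {X Y Z X' Y' Z' : C} {f : X ⟶ Y} {g : Y ⟶ Z} {f' : X' ⟶ Y'} {g' : Y' ⟶ Z'}
    (h : CoMidExact f g) (e₁ : X ≅ X') (e₂ : Y ≅ Y') (e₃ : Z ≅ Z')
    (c₁ : f ≫ e₂.hom = e₁.hom ≫ f') (c₂ : g ≫ e₃.hom = e₂.hom ≫ g') : CoMidExact f' g' := by
  have hf' : f' = e₁.inv ≫ f ≫ e₂.hom := by rw [c₁, Iso.inv_hom_id_assoc]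
  have hg' : g' = e₂.inv ≫ g ≫ e₃.hom := by rw [c₂, Iso.inv_hom_id_assoc]
  constructor
  · rw [hf', hg']
    simp only [Category.assoc, Iso.hom_inv_id_assoc]
    rw [reassoc_of% h.1, zero_comp, comp_zero]
  · intro W u hu
    have h1 : f ≫ (e₂.hom ≫ u) = 0 := by
      rw [hf'] at hu
      have := congrArg (fun t => e₁.hom ≫ t) hu
      simpa using this
    obtain ⟨v, hv⟩ := h.2 _ h1
    refine ⟨e₃.inv ≫ v, ?_⟩
    rw [hg', Category.assoc, Category.assoc, Iso.hom_inv_id_assoc, hv, Iso.inv_hom_id_assoc]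

lemma CoMidExact.of_distTriang [HasZeroObject C] [HasShift C ℤ]
    [∀ n : ℤ, (CategoryTheory.shiftFunctor C n).Additive] [Pretriangulated C]
    (T : Pretriangulated.Triangle C) (hT : T ∈ Pretriangulated.distinguishedTriangles) :
    CoMidExact T.mor₁ T.mor₂ :=
  ⟨Pretriangulated.comp_distTriang_mor_zero₁₂ T hT, fun _ u hu => by
    obtain ⟨v, hv⟩ := Pretriangulated.Triangle.yoneda_exact₂ T hT u hu
    exact ⟨v, hv.symm⟩⟩

end CoMidExact

open DTen Groth.Agent.Lib.Helper13.SF Groth.Agent.Lib.Helper13.HT Groth.Agent.Lib.Helper13.DT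
open Groth.Agent.Lib.Helper28

attribute [local instance] HasDerivedCategory.standard

variable {A : Type u} [CommRing A] [HasLTen A]

/-- The derived tensor product sends a distinguished triangle in the first variable to (the
first two maps of) a distinguished triangle. -/
theorem exists_distTriang_LTen₂_left (T₀ : Triangle (Dual.D A)) (hT₀ : T₀ ∈ distTriang (Dual.D A))
    (X : Dual.D A) :
    ∃ (T₁ : Triangle (Dual.D A)) (_ : T₁ ∈ distTriang (Dual.D A))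
      (e₁ : T₁.obj₁ ≅ (LTen₂ A).obj (T₀.obj₁, X)) (e₂ : T₁.obj₂ ≅ (LTen₂ A).obj (T₀.obj₂, X))
      (e₃ : T₁.obj₃ ≅ (LTen₂ A).obj (T₀.obj₃, X)),
      T₁.mor₁ ≫ e₂.hom = e₁.hom ≫ (LTen₂ A).map (Prod.mkHom T₀.mor₁ (𝟙 X)) ∧
        T₁.mor₂ ≫ e₃.hom = e₂.hom ≫ (LTen₂ A).map (Prod.mkHom T₀.mor₂ (𝟙 X)) := by
  obtain ⟨P, hP, -, ⟨eX⟩⟩ := exists_kprojective_rep X
  obtain ⟨S, σ, e₁, e₂, e₃, c₁, c₂⟩ := exists_split_shortComplex_of_distTriang T₀ hT₀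
  have hSP := shortExact_map_tensorRight S σ P
  have i₁ := isIso_ε_app_right S.X₁ P
  have i₂ := isIso_ε_app_right S.X₂ P
  have i₃ := isIso_ε_app_right S.X₃ P
  let E : ∀ (Z : Dual.D A) (K : DRing.Cx A) (e : Z ≅ DerivedCategory.Q.obj K)
      [IsIso ((ε A).app (K, P))], DerivedCategory.Q.obj (K ⊗ P) ≅ (LTen₂ A).obj (Z, X) :=
    fun Z K e _ => (asIso ((ε A).app (K, P))).symm ≪≫ (LTen₂ A).mapIso (Iso.prod e.symm eX)
  have key : ∀ {Z Z' : Dual.D A} {K K' : DRing.Cx A} (e : Z ≅ DerivedCategory.Q.obj K)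
      (e' : Z' ≅ DerivedCategory.Q.obj K') [IsIso ((ε A).app (K, P))] [IsIso ((ε A).app (K', P))]
      (m : Z ⟶ Z') (f : K ⟶ K') (c : m ≫ e'.hom = e.hom ≫ DerivedCategory.Q.map f),
      DerivedCategory.Q.map (f ▷ P) ≫ (E Z' K' e').hom =
        (E Z K e).hom ≫ (LTen₂ A).map (Prod.mkHom m (𝟙 X)) := by
    intro Z Z' K K' e e' _ _ m f c
    have n := ε_naturality_left f P
    have k1 : DerivedCategory.Q.map (f ▷ P) ≫ inv ((ε A).app (K', P)) =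
        inv ((ε A).app (K, P)) ≫
          (LTen₂ A).map (Prod.mkHom (DerivedCategory.Q.map f) (𝟙 (DerivedCategory.Q.obj P))) := by
      rw [IsIso.comp_inv_eq, Category.assoc, n, IsIso.inv_hom_id_assoc]
    have k2 : DerivedCategory.Q.map f ≫ e'.inv = e.inv ≫ m := by
      rw [Iso.comp_inv_eq, Category.assoc, c, Iso.inv_hom_id_assoc]
    change DerivedCategory.Q.map (f ▷ P) ≫ inv ((ε A).app (K', P)) ≫
      (LTen₂ A).map (Prod.mkHom e'.inv eX.hom) =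
      (inv ((ε A).app (K, P)) ≫ (LTen₂ A).map (Prod.mkHom e.inv eX.hom)) ≫
        (LTen₂ A).map (Prod.mkHom m (𝟙 X))
    rw [reassoc_of% k1, Category.assoc, LTen₂_map_comp, LTen₂_map_comp, k2, Category.id_comp,
      Category.comp_id]
  exact ⟨DerivedCategory.triangleOfSES hSP, DerivedCategory.triangleOfSES_distinguished hSP,
    E _ _ e₁, E _ _ e₂, E _ _ e₃, key e₁ e₂ _ _ c₁, key e₂ e₃ _ _ c₂⟩

lemma coMidExact_LTen₂_left (T₀ : Triangle (Dual.D A)) (hT₀ : T₀ ∈ distTriang (Dual.D A))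
    (X : Dual.D A) :
    CoMidExact ((LTen₂ A).map (Prod.mkHom T₀.mor₁ (𝟙 X)))
      ((LTen₂ A).map (Prod.mkHom T₀.mor₂ (𝟙 X))) := by
  obtain ⟨T₁, hT₁, e₁, e₂, e₃, c₁, c₂⟩ := exists_distTriang_LTen₂_left T₀ hT₀ X
  exact (CoMidExact.of_distTriang T₁ hT₁).of_iso e₁ e₂ e₃ c₁ c₂

section Symm

variable [HasLTen₃ A] [IsSymMonoidal A]

/-- The symmetry isomorphism `Y ⊗^L X ≅ X ⊗^L Y`. -/
noncomputable def symmIso (X Y : Dual.D A) : (LTen₂ A).obj (Y, X) ≅ (LTen₂ A).obj (X, Y) :=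
  asIso ((DTen.symm A).app (X, Y))

lemma symmIso_naturality {X X' Y Y' : Dual.D A} (f : X ⟶ X') (g : Y ⟶ Y') :
    (LTen₂ A).map (Prod.mkHom g f) ≫ (symmIso X' Y').hom =
      (symmIso X Y).hom ≫ (LTen₂ A).map (Prod.mkHom f g) :=
  (DTen.symm A).naturality (Prod.mkHom f g : (X, Y) ⟶ (X', Y'))

/-- The derived tensor product sends a distinguished triangle in the second variable to (the
first two maps of) a distinguished triangle. -/
theorem exists_distTriang_LTen₂_right (T₀ : Triangle (Dual.D A))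
    (hT₀ : T₀ ∈ distTriang (Dual.D A)) (X : Dual.D A) :
    ∃ (T₁ : Triangle (Dual.D A)) (_ : T₁ ∈ distTriang (Dual.D A))
      (e₁ : T₁.obj₁ ≅ (LTen₂ A).obj (X, T₀.obj₁)) (e₂ : T₁.obj₂ ≅ (LTen₂ A).obj (X, T₀.obj₂))
      (e₃ : T₁.obj₃ ≅ (LTen₂ A).obj (X, T₀.obj₃)),
      T₁.mor₁ ≫ e₂.hom = e₁.hom ≫ (LTen₂ A).map (Prod.mkHom (𝟙 X) T₀.mor₁) ∧
        T₁.mor₂ ≫ e₃.hom = e₂.hom ≫ (LTen₂ A).map (Prod.mkHom (𝟙 X) T₀.mor₂) := by
  obtain ⟨T₁, hT₁, e₁, e₂, e₃, c₁, c₂⟩ := exists_distTriang_LTen₂_left T₀ hT₀ X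
  refine ⟨T₁, hT₁, e₁ ≪≫ symmIso _ _, e₂ ≪≫ symmIso _ _, e₃ ≪≫ symmIso _ _, ?_, ?_⟩
  · rw [Iso.trans_hom, Iso.trans_hom, reassoc_of% c₁, Category.assoc, symmIso_naturality]
  · rw [Iso.trans_hom, Iso.trans_hom, reassoc_of% c₂, Category.assoc, symmIso_naturality]

lemma midExact_LTen₂_right (T₀ : Triangle (Dual.D A)) (hT₀ : T₀ ∈ distTriang (Dual.D A))
    (X : Dual.D A) :
    MidExact ((LTen₂ A).map (Prod.mkHom (𝟙 X) T₀.mor₁))
      ((LTen₂ A).map (Prod.mkHom (𝟙 X) T₀.mor₂)) := by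
  obtain ⟨T₁, hT₁, e₁, e₂, e₃, c₁, c₂⟩ := exists_distTriang_LTen₂_right T₀ hT₀ X
  exact (MidExact.of_distTriang T₁ hT₁).of_iso e₁ e₂ e₃ c₁ c₂

lemma coMidExact_LTen₂_right (T₀ : Triangle (Dual.D A)) (hT₀ : T₀ ∈ distTriang (Dual.D A))
    (X : Dual.D A) :
    CoMidExact ((LTen₂ A).map (Prod.mkHom (𝟙 X) T₀.mor₁))
      ((LTen₂ A).map (Prod.mkHom (𝟙 X) T₀.mor₂)) := by
  obtain ⟨T₁, hT₁, e₁, e₂, e₃, c₁, c₂⟩ := exists_distTriang_LTen₂_right T₀ hT₀ X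
  exact (CoMidExact.of_distTriang T₁ hT₁).of_iso e₁ e₂ e₃ c₁ c₂

variable [HasRHom A]

omit [HasLTen₃ A] [IsSymMonoidal A] in
lemma homEquiv_zero (K L M : Dual.D A) : rhomHomEquiv K L M 0 = 0 := by
  change (rhomAdj A L).homEquiv K M 0 = 0
  rw [Adjunction.homEquiv_unit, Functor.map_zero, comp_zero]

/-- `RHom(-, M)` sends distinguished triangles to mid-exact sequences. -/
theorem midExact_RHomMap (T₀ : Triangle (Dual.D A)) (hT₀ : T₀ ∈ distTriang (Dual.D A))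
    (M : Dual.D A) : MidExact (RHomMap T₀.mor₂ M) (RHomMap T₀.mor₁ M) := by
  constructor
  · have h := (coMidExact_LTen₂_right T₀ hT₀ ((RHomR A T₀.obj₃).obj M)).1
    have h1 := homEquiv_comp_RHomMap T₀.mor₂ (ev T₀.obj₃ M)
    have h2 : rhomHomEquiv _ _ _ (ev T₀.obj₃ M) = 𝟙 _ := by
      change (rhomAdj A T₀.obj₃).homEquiv _ _ ((rhomAdj A T₀.obj₃).counit.app M) = 𝟙 _
      rw [Adjunction.homEquiv_unit, Adjunction.right_triangle_components]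
    rw [h2, Category.id_comp] at h1
    rw [h1, homEquiv_comp_RHomMap, ← Category.assoc, h, zero_comp, homEquiv_zero]
  · intro W u hu
    have h := (coMidExact_LTen₂_right T₀ hT₀ W).2 ((rhomHomEquiv W T₀.obj₂ M).symm u)
    have h1 := homEquiv_comp_RHomMap T₀.mor₁ ((rhomHomEquiv W T₀.obj₂ M).symm u)
    rw [Equiv.apply_symm_apply, hu] at h1
    have h2 : (LTen₂ A).map (Prod.mkHom (𝟙 W) T₀.mor₁) ≫ (rhomHomEquiv W T₀.obj₂ M).symm u = 0 := by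
      apply (rhomHomEquiv W T₀.obj₁ M).injective
      rw [← h1, homEquiv_zero]
    obtain ⟨v, hv⟩ := h h2
    refine ⟨rhomHomEquiv W T₀.obj₃ M v, ?_⟩
    rw [homEquiv_comp_RHomMap, hv, Equiv.apply_symm_apply]

end Symm

end Groth.Agent.Lib.Helper13.DV
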