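import Groth.Agent.Lib.Helper13.DTenDev6

/-!
# Contravariant dévissage; `evalTen` in the variable `M`
-/

set_option autoImplicit false
universe u
open CategoryTheory CategoryTheory.Limits MonoidalCategory Pretriangulated Opposite

namespace Groth.Agent.Lib.Helper13.DV

attribute [local instance] HasDerivedCategory.standard

variable {A : Type u} [CommRing A]

lemma isIso_of_retract_op {C D : Type*} [Category C] [Category D] {S T : Cᵒᵖ ⥤ D} (η : S ⟶ T)
    {X Y : C} (i : X ⟶ Y) (p : Y ⟶ X) (hip : i ≫ p = 𝟙 X) [IsIso (η.app (op Y))] :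
    IsIso (η.app (op X)) := by
  refine ⟨T.map p.op ≫ inv (η.app (op Y)) ≫ S.map i.op, ?_, ?_⟩
  · rw [← η.naturality_assoc, IsIso.hom_inv_id_assoc, ← S.map_comp, ← op_comp, hip, op_id,
      S.map_id]
  · rw [Category.assoc, Category.assoc, η.naturality, IsIso.inv_hom_id_assoc, ← T.map_comp,
      ← op_comp, hip, op_id, T.map_id]

/-- Contravariant version of `isIso_app_of_isPerfect`. -/
theorem isIso_app_op_of_isPerfect {S T : (Dual.D A)ᵒᵖ ⥤ Dual.D A} (η : S ⟶ T)
    (hS : ∀ T₀ : Triangle (Dual.D A), T₀ ∈ distTriang (Dual.D A) →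
      MidExact (S.map T₀.mor₂.op) (S.map T₀.mor₁.op))
    (hT : ∀ T₀ : Triangle (Dual.D A), T₀ ∈ distTriang (Dual.D A) →
      MidExact (T.map T₀.mor₂.op) (T.map T₀.mor₁.op))
    (hbase : ∀ n : ℤ, IsIso (η.app (op
      ((shiftFunctor (Dual.D A) n).obj
        ((DerivedCategory.singleFunctor (ModuleCat.{u} A) 0).obj (ModuleCat.of A A))))))
    (K : Dual.D A) (hK : DRing.IsPerfect A K) : IsIso (η.app (op K)) := by
  let W : ObjectProperty (DerivedCategory (ModuleCat.{u} A)) :=
    fun K => ∀ n : ℤ, IsIso (η.app (op ((shiftFunctor (Dual.D A) n).obj K)))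
  have hW : W.IsClosedUnderIsomorphisms := ⟨fun {X Y} e hX n => by
    have := hX n
    exact (NatTrans.isIso_app_iff_of_iso η ((shiftFunctor (Dual.D A) n).mapIso e).symm.op).1
      (hX n)⟩
  have hshift : ∀ (K : DerivedCategory (ModuleCat.{u} A)) (n : ℤ), W K →
      W ((shiftFunctor (DerivedCategory (ModuleCat.{u} A)) n).obj K) := by
    intro K n hK m
    exact (NatTrans.isIso_app_iff_of_iso η
      ((shiftFunctorAdd (DerivedCategory (ModuleCat.{u} A)) n m).app K).symm.op).1 (hK (n + m))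
  have key : W K := by
    refine Groth.Agent.Lib.Helper13.DR.prop_of_isPerfect_of_thick W hbase hshift ?_ ?_ K hK
    · intro T₀ hT₀ h₁ h₃ n
      let T' := (Triangle.shiftFunctor (Dual.D A) n).obj T₀
      have hT' : T' ∈ distTriang (Dual.D A) := Triangle.shift_distinguished T₀ hT₀ n
      have hinv := inv_rot_of_distTriang _ hT'
      have hrot := rot_of_distTriang _ hT'
      have i₁ : IsIso (η.app (op T'.invRotate.obj₁)) := hshift _ n h₃ (-1)
      have i₂ : IsIso (η.app (op T'.obj₁)) := h₁ n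
      have i₄ : IsIso (η.app (op T'.obj₃)) := h₃ n
      have i₅ : IsIso (η.app (op T'.rotate.obj₃)) := hshift _ n h₁ 1
      exact isIso_of_five (X₁ := S.obj (op T'.rotate.obj₃)) (X₂ := S.obj (op T'.obj₃))
        (X₃ := S.obj (op T'.obj₂)) (X₄ := S.obj (op T'.obj₁)) (X₅ := S.obj (op T'.invRotate.obj₁))
        (Y₁ := T.obj (op T'.rotate.obj₃)) (Y₂ := T.obj (op T'.obj₃))
        (Y₃ := T.obj (op T'.obj₂)) (Y₄ := T.obj (op T'.obj₁)) (Y₅ := T.obj (op T'.invRotate.obj₁))
        (S.map T'.rotate.mor₂.op) (S.map T'.mor₂.op) (S.map T'.mor₁.op)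
        (S.map T'.invRotate.mor₁.op)
        (T.map T'.rotate.mor₂.op) (T.map T'.mor₂.op) (T.map T'.mor₁.op)
        (T.map T'.invRotate.mor₁.op)
        (η.app (op T'.rotate.obj₃)) (η.app (op T'.obj₃)) (η.app (op T'.obj₂)) (η.app (op T'.obj₁))
        (η.app (op T'.invRotate.obj₁))
        (η.naturality _) (η.naturality _) (η.naturality _) (η.naturality _)
        (hS _ hrot).1 (hS _ hT') (hS _ hinv) (hT _ hrot) (hT _ hT') (hT _ hinv).1
    · intro X Y _ hXY n
      have := hXY n
      exact isIso_of_retract_op η ((shiftFunctor (Dual.D A) n).map (biprod.inl : X ⟶ X ⊞ Y))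
        ((shiftFunctor (Dual.D A) n).map (biprod.fst : X ⊞ Y ⟶ X))
        (by rw [← Functor.map_comp, biprod.inl_fst, CategoryTheory.Functor.map_id])
  exact (NatTrans.isIso_app_iff_of_iso η
      ((shiftFunctorZero (DerivedCategory (ModuleCat.{u} A)) ℤ).app K).symm.op).1 (key 0)

end Groth.Agent.Lib.Helper13.DV
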