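import Groth.Agent.Lib.Helper13.DTenDev7

/-!
# `evalTen` as a natural transformation in `M`; the invertible case
-/

set_option autoImplicit false
universe u
open CategoryTheory CategoryTheory.Limits MonoidalCategory Pretriangulated Opposite

namespace Groth.Agent.Lib.Helper13.DV

open DTen

attribute [local instance] HasDerivedCategory.standard

variable {A : Type u} [CommRing A] [HasLTen A] [HasLTen₃ A] [IsSymMonoidal A]

/-- If `K ⊗^L K' ≅ A[0]`, then `(- ⊗^L K) ⋙ (- ⊗^L K') ≅ 𝟭`. -/
noncomputable def tensorRightCompIso (K K' : Dual.D A) (i : (LTen₂ A).obj (K, K') ≅ DTen.unit A) :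
    (LTen A).flip.obj K ⋙ (LTen A).flip.obj K' ≅ 𝟭 (Dual.D A) :=
  NatIso.ofComponents (fun X => DTen.associator X K K' ≪≫
      (LTen₂ A).mapIso (Iso.prod (Iso.refl X) i) ≪≫ asIso ((unitR A).app X)) (fun {X Y} g => by
    have h1 := associator_naturality g (𝟙 K) (𝟙 K')
    rw [LTen₂_map_id] at h1
    have h2 := (unitR A).naturality g
    dsimp only [Iso.trans_hom, Functor.mapIso_hom, asIso_hom, Iso.prod_hom,
      Iso.refl_hom, Functor.id_map] at h2 ⊢
    change (LTen₂ A).map (Prod.mkHom ((LTen₂ A).map (Prod.mkHom g (𝟙 K))) (𝟙 K')) ≫ _ = _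
    rw [reassoc_of% h1, Category.assoc, Category.assoc]
    congr 1
    rw [← h2]
    change (LTen₂ A).map (Prod.mkHom g (𝟙 _)) ≫ (LTen₂ A).map (Prod.mkHom (𝟙 Y) i.hom) ≫ _ =
      (LTen₂ A).map (Prod.mkHom (𝟙 X) i.hom) ≫ (LTen₂ A).map (Prod.mkHom g (𝟙 _)) ≫ _
    rw [← Category.assoc, ← Category.assoc, LTen₂_map_comp, LTen₂_map_comp, Category.id_comp,
      Category.comp_id, Category.id_comp, Category.comp_id])

/-- Invertible objects act by equivalences, on the right. -/
theorem isEquivalence_flip_of_isInvertible (K : Dual.D A) (hK : IsInvertible A K) :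
    ((LTen A).flip.obj K).IsEquivalence := by
  obtain ⟨K', ⟨i⟩, ⟨j⟩⟩ := hK
  exact (CategoryTheory.Equivalence.mk ((LTen A).flip.obj K) ((LTen A).flip.obj K')
    (tensorRightCompIso K K' i).symm (tensorRightCompIso K' K j)).isEquivalence_functor

variable [HasRHom A]

/-- `evalTen` is natural in its third variable. -/
lemma evalTen_naturality_third (K L : Dual.D A) {M M' : Dual.D A} (g : M' ⟶ M) :
    (LTen₂ A).map (Prod.mkHom (𝟙 K) (RHomMap g L)) ≫ evalTen K L M' =
      evalTen K L M ≫ RHomMap g ((LTen₂ A).obj (K, L)) := by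
  dsimp only [evalTen]
  rw [homEquiv_comp_RHomMap, ← Adjunction.homEquiv_naturality_left]
  congr 1
  change (LTen₂ A).map (Prod.mkHom ((LTen₂ A).map (Prod.mkHom (𝟙 K) (RHomMap g L))) (𝟙 M')) ≫
    evalTenAux K L M' = (LTen₂ A).map (Prod.mkHom (𝟙 _) g) ≫ evalTenAux K L M
  dsimp only [evalTenAux]
  have h1 := associator_naturality (𝟙 K) (RHomMap g L) (𝟙 M')
  have h2 := associator_naturality (𝟙 K) (𝟙 ((RHomR A M).obj L)) g
  rw [LTen₂_map_id] at h2
  rw [reassoc_of% h1, reassoc_of% h2, LTen₂_map_comp, LTen₂_map_comp, Category.id_comp,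
    RHom_map_ev]

/-- `evalTen K L M` is an isomorphism as soon as `- ⊗^L M` is an equivalence. -/
theorem isIso_evalTen_of_isEquivalence_third (K L M : Dual.D A)
    [((LTen A).flip.obj M).IsEquivalence] : IsIso (evalTen K L M) := by
  have h1 : IsIso (evalTenAux K L M) := by
    dsimp only [evalTenAux]
    have : IsIso (ev M L) := by
      change IsIso ((rhomAdj A M).counit.app L)
      infer_instance
    have : IsIso ((LTen₂ A).map (Prod.mkHom (𝟙 K) (ev M L))) :=
      inferInstanceAs (IsIso (((LTen A).obj K).map (ev M L)))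
    infer_instance
  dsimp only [evalTen]
  change IsIso ((rhomAdj A M).homEquiv _ _ (evalTenAux K L M))
  rw [Adjunction.homEquiv_unit]
  infer_instance

end Groth.Agent.Lib.Helper13.DV
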