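import Groth.Agent.Lib.Helper13.DTenAssoc
import Groth.Prelude.Def_DTen6

/-!
# The two legs into the jointly derived triple mixed tensor product are isomorphisms
-/

set_option autoImplicit false
universe u
open CategoryTheory CategoryTheory.Limits MonoidalCategory

namespace Groth.Agent.Lib.Helper13.DT

open Groth.Agent.Lib.Helper13.PC Groth.Agent.Lib.Helper13.SF Groth.Agent.Lib.Helper13.Kan
open Groth.Agent.Lib.Helper13.DR Groth.Agent.Lib.Helper13.HT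
open DerivedCategory DTen
attribute [local instance] HasDerivedCategory.standard

section Mix

variable {R A : Type u} [CommRing R] [CommRing A] (φ : R →+* A)

lemma nonempty_homotopy_mixT_map {K K' : DRing.Cx R} {L L' : DRing.Cx A} {f f' : K ⟶ K'}
    {g g' : L ⟶ L'} (hf : Nonempty (Homotopy f f')) (hg : Nonempty (Homotopy g g')) :
    Nonempty (Homotopy ((mixT φ).map (Prod.mkHom f g)) ((mixT φ).map (Prod.mkHom f' g'))) := by
  obtain ⟨H⟩ := hf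
  have e := nonempty_homotopy_tensorHom
    (⟨(ModuleCat.extendScalars.{u, u, u} φ).mapHomotopy H⟩ :
      Nonempty (Homotopy ((extCx φ).map f) ((extCx φ).map f'))) hg
  dsimp [mixT, tensorT]
  rw [← MonoidalCategory.tensorHom_def, ← MonoidalCategory.tensorHom_def]
  exact e

instance isKProjective_mixT_obj (P : DRing.Cx R) (N : DRing.Cx A) [P.IsKProjective]
    [N.IsKProjective] : CochainComplex.IsKProjective ((mixT φ).obj (P, N)) := by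
  have : ((extCx φ).obj P).IsKProjective := isKProjective_extCx φ P
  exact isKProjective_tensor ((extCx φ).obj P) N

end Mix

section Triple

variable {A B C : Type u} [CommRing A] [CommRing B] [CommRing C] (φ : A →+* B) (ψ : B →+* C)

lemma isRightKanExtension_LTenMix₃ [HasLTenMix₃ φ ψ] :
    (LTenMix₃ φ ψ).IsRightKanExtension (εMix₃ φ ψ) :=
  Functor.IsLeftDerivedFunctor.isRightKanExtension _ _ (W := qisMix₃ A B C)

theorem isIso_εMix₃_app_of_isKProjective [HasLTenMix₃ φ ψ] (P₁ : DRing.Cx A) (P₂ : DRing.Cx B)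
    (P₃ : DRing.Cx C) [P₁.IsKProjective] [P₂.IsKProjective] [P₃.IsKProjective] :
    IsIso ((εMix₃ φ ψ).app (P₁, (P₂, P₃))) := by
  have := isRightKanExtension_LTenMix₃ φ ψ
  have hs : ∀ Y : Dual.D A × (Dual.D B × Dual.D C),
      Small.{u} ((QMix₃ A B C).obj (P₁, (P₂, P₃)) ⟶ Y) := fun Y =>
    inferInstanceAs (Small.{u} ((Q.obj P₁ ⟶ Y.1) × ((Q.obj P₂ ⟶ Y.2.1) × (Q.obj P₃ ⟶ Y.2.2))))
  refine isIso_counit_app_of_lifting (QMix₃ A B C) (mix₃ φ ψ) (LTenMix₃ φ ψ) (εMix₃ φ ψ)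
    (P₁, (P₂, P₃)) ?_ ?_
  · rintro ⟨X₁, X₂, X₃⟩ ⟨f₁, f₂, f₃⟩
    obtain ⟨g₁, hg₁⟩ := exists_Q_map_eq (K := P₁) (L := X₁) f₁
    obtain ⟨g₂, hg₂⟩ := exists_Q_map_eq (K := P₂) (L := X₂) f₂
    obtain ⟨g₃, hg₃⟩ := exists_Q_map_eq (K := P₃) (L := X₃) f₃
    exact ⟨(g₁, (g₂, g₃)), Prod.ext hg₁ (Prod.ext hg₂ hg₃)⟩
  · rintro ⟨X₁, X₂, X₃⟩ ⟨f₁, f₂, f₃⟩ ⟨g₁, g₂, g₃⟩ h
    have h1 : Q.map f₁ = Q.map g₁ := congrArg Prod.fst h
    have h2 : Q.map f₂ = Q.map g₂ := congrArg (fun t => t.2.1) h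
    have h3 : Q.map f₃ = Q.map g₃ := congrArg (fun t => t.2.2) h
    obtain ⟨H⟩ := nonempty_homotopy_mixT_map ψ
      (nonempty_homotopy_mixT_map φ (exists_homotopy_of_Q_map_eq f₁ g₁ h1)
        (exists_homotopy_of_Q_map_eq f₂ g₂ h2))
      (exists_homotopy_of_Q_map_eq f₃ g₃ h3)
    exact DerivedCategory.Q_map_eq_of_homotopy _ H

end Triple


section Legs

variable {A B C : Type u} [CommRing A] [CommRing B] [CommRing C] (φ : A →+* B) (ψ : B →+* C)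

theorem isIso_leg₃L_app [HasLTenMix φ] [HasLTenMix ψ] [HasLTenMix₃ φ ψ]
    (E : Dual.D A) (F : Dual.D B) (G : Dual.D C) : IsIso ((leg₃L φ ψ).app (E, (F, G))) := by
  obtain ⟨P₁, hP₁, -, ⟨e₁⟩⟩ := exists_kprojective_rep E
  obtain ⟨P₂, hP₂, -, ⟨e₂⟩⟩ := exists_kprojective_rep F
  obtain ⟨P₃, hP₃, -, ⟨e₃⟩⟩ := exists_kprojective_rep G
  have e : ((Q.obj P₁, (Q.obj P₂, Q.obj P₃)) : Dual.D A × (Dual.D B × Dual.D C)) ≅ (E, (F, G)) :=
    Iso.prod e₁ (Iso.prod e₂ e₃)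
  rw [← NatTrans.isIso_app_iff_of_iso (leg₃L φ ψ) e]
  have h1 := leg₃L_fac φ ψ (P₁, (P₂, P₃))
  have h2 := isIso_εMix₃_app_of_isKProjective φ ψ P₁ P₂ P₃
  have h3 := isIso_εMix_app_of_isKProjective φ P₁ P₂
  have h4 := isIso_εMix_app_of_isKProjective ψ ((mixT φ).obj (P₁, P₂)) P₃
  have h5 : IsIso ((β₃L φ ψ).app (P₁, (P₂, P₃))) := by
    have h6 : IsIso (Prod.mkHom ((εMix φ).app (P₁, P₂)) (𝟙 (Q.obj P₃))) := by
      rw [isIso_prod_iff]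
      exact ⟨h3, inferInstance⟩
    have h7 : IsIso ((LTenMix ψ).map (Prod.mkHom ((εMix φ).app (P₁, P₂)) (𝟙 (Q.obj P₃)))) :=
      Functor.map_isIso _ _
    exact @IsIso.comp_isIso _ _ _ _ _ _ _ h7 h4
  rw [← h1] at h5
  exact @IsIso.of_isIso_comp_right _ _ _ _ _ ((leg₃L φ ψ).app (Q.obj P₁, (Q.obj P₂, Q.obj P₃)))
    ((εMix₃ φ ψ).app (P₁, (P₂, P₃))) h2 h5

theorem isIso_leg₃R_app [HasLTenMix ψ] [HasLTenMix (ψ.comp φ)] [HasLTenMix₃ φ ψ]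
    (E : Dual.D A) (F : Dual.D B) (G : Dual.D C) : IsIso ((leg₃R φ ψ).app (E, (F, G))) := by
  obtain ⟨P₁, hP₁, -, ⟨e₁⟩⟩ := exists_kprojective_rep E
  obtain ⟨P₂, hP₂, -, ⟨e₂⟩⟩ := exists_kprojective_rep F
  obtain ⟨P₃, hP₃, -, ⟨e₃⟩⟩ := exists_kprojective_rep G
  have e : ((Q.obj P₁, (Q.obj P₂, Q.obj P₃)) : Dual.D A × (Dual.D B × Dual.D C)) ≅ (E, (F, G)) :=
    Iso.prod e₁ (Iso.prod e₂ e₃)
  rw [← NatTrans.isIso_app_iff_of_iso (leg₃R φ ψ) e]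
  have h1 := leg₃R_fac φ ψ (P₁, (P₂, P₃))
  have h2 := isIso_εMix₃_app_of_isKProjective φ ψ P₁ P₂ P₃
  have h3 := isIso_εMix_app_of_isKProjective ψ P₂ P₃
  have h4 := isIso_εMix_app_of_isKProjective (ψ.comp φ) P₁ ((mixT ψ).obj (P₂, P₃))
  have h5 : IsIso ((β₃R φ ψ).app (P₁, (P₂, P₃))) := by
    have h6 : IsIso (Prod.mkHom (𝟙 (Q.obj P₁)) ((εMix ψ).app (P₂, P₃))) := by
      rw [isIso_prod_iff]
      exact ⟨inferInstance, h3⟩
    have h7 : IsIso ((LTenMix (ψ.comp φ)).map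
        (Prod.mkHom (𝟙 (Q.obj P₁)) ((εMix ψ).app (P₂, P₃)))) :=
      Functor.map_isIso _ _
    have h8 : IsIso (Q.map ((θ₃ φ ψ).inv.app (P₁, (P₂, P₃)))) := inferInstance
    have h9 : IsIso ((εMix (ψ.comp φ)).app (P₁, (mixT ψ).obj (P₂, P₃)) ≫
        Q.map ((θ₃ φ ψ).inv.app (P₁, (P₂, P₃)))) :=
      @IsIso.comp_isIso _ _ _ _ _ _ _ h4 h8
    exact @IsIso.comp_isIso _ _ _ _ _ _ _ h7 h9
  rw [← h1] at h5
  exact @IsIso.of_isIso_comp_right _ _ _ _ _ ((leg₃R φ ψ).app (Q.obj P₁, (Q.obj P₂, Q.obj P₃)))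
    ((εMix₃ φ ψ).app (P₁, (P₂, P₃))) h2 h5

end Legs

end Groth.Agent.Lib.Helper13.DT
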