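import Groth.Agent.Lib.Helper13.HomBC5
import Groth.Agent.Lib.Helper13.DRingInj

/-!
# Flat base change and dualizing complexes: general lemmas
-/

set_option autoImplicit false
set_option linter.unusedSectionVars false

open CategoryTheory CategoryTheory.Limits CategoryTheory.Functor TensorProduct Pretriangulated

universe u

namespace Groth.Agent.Lib.Helper13.DualBC

open DerivedCategory Groth.Agent.Lib.Helper13.DR Groth.Agent.Lib.Helper13.Coind
  Groth.Agent.Lib.Helper13.Shriek Groth.Agent.Lib.Helper13.HomBC Groth.Agent.Lib.Helper13.PC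

attribute [local instance] HasDerivedCategory.standard

section General

variable {A : Type u} (B : Type u) [CommRing A] [CommRing B] [Algebra A B] [Module.Flat A B]

/-- The comparison map for shifted targets is bijective. -/
lemma bijective_bcHom_shift (X : Dual.D A) (hX : DRing.IsPseudoCoherent' A X) (Y : Dual.D A)
    (c : ℤ) [Y.IsGE c] (i : ℤ) : Function.Bijective (bcHom B X (Y⟦i⟧)) := by
  have : (Y⟦i⟧).IsGE (c - i) := TStructure.t.isGE_shift Y c i (c - i) (by omega)
  exact bijective_bcHom B X hX (Y⟦i⟧) (c - i)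

/-- `flatBC` commutes with shifts. -/
noncomputable def flatBCShiftIso (Y : Dual.D A) (i : ℤ) :
    (flatBC A B).obj (Y⟦i⟧) ≅ ((flatBC A B).obj Y)⟦i⟧ :=
  ((flatBC A B).commShiftIso i).app Y

/-- Vanishing of `Hom(X, Y[i])` ascends along flat base change. -/
lemma subsingleton_hom_flatBC (X : Dual.D A) (hX : DRing.IsPseudoCoherent' A X) (Y : Dual.D A)
    (c : ℤ) [Y.IsGE c] (i : ℤ) (h : Subsingleton (X ⟶ Y⟦i⟧)) :
    Subsingleton ((flatBC A B).obj X ⟶ ((flatBC A B).obj Y)⟦i⟧) := by
  have h1 : Subsingleton ((flatBC A B).obj X ⟶ (flatBC A B).obj (Y⟦i⟧)) :=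
    (bijective_bcHom_shift B X hX Y c i).2.subsingleton
  exact (Iso.homCongr (Iso.refl _) (flatBCShiftIso B Y i)).symm.subsingleton

/-- Vanishing of `Hom(X, Y[i])` descends along faithfully flat base change. -/
lemma subsingleton_hom_of_flatBC [Module.FaithfullyFlat A B] (X : Dual.D A)
    (hX : DRing.IsPseudoCoherent' A X) (Y : Dual.D A)
    (c : ℤ) [Y.IsGE c] (i : ℤ)
    (h : Subsingleton ((flatBC A B).obj X ⟶ ((flatBC A B).obj Y)⟦i⟧)) :
    Subsingleton (X ⟶ Y⟦i⟧) := by
  have h1 : Subsingleton ((flatBC A B).obj X ⟶ (flatBC A B).obj (Y⟦i⟧)) :=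
    (Iso.homCongr (Iso.refl _) (flatBCShiftIso B Y i)).subsingleton
  have h2 : Subsingleton (B ⊗[A] (X ⟶ Y⟦i⟧)) :=
    (bijective_bcHom_shift B X hX Y c i).1.subsingleton
  exact (Module.FaithfullyFlat.subsingleton_tensorProduct_iff_right A B).1 h2

/-- The structure map to endomorphisms, as a linear map. -/
noncomputable def toEndLin (K : Dual.D A) : A →ₗ[A] (K ⟶ K) :=
  LinearMap.toSpanSingleton A (K ⟶ K) (𝟙 K)

lemma toEndLin_apply (K : Dual.D A) (a : A) : toEndLin K a = a • 𝟙 K := rfl

lemma toEnd_flatBC_eq (K : Dual.D A) (b : B) :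
    b • 𝟙 ((flatBC A B).obj K) =
      bcHom B K K (LinearMap.lTensor B (toEndLin K) ((TensorProduct.rid A B).symm b)) := by
  rw [TensorProduct.rid_symm_apply, LinearMap.lTensor_tmul, bcHom_tmul, toEndLin_apply, one_smul,
    CategoryTheory.Functor.map_id]

/-- Bijectivity of `A → End(K)` ascends. -/
lemma bijective_toEnd_flatBC (K : Dual.D A) (hK : DRing.IsPseudoCoherent' A K) (c : ℤ) [K.IsGE c]
    (h : Function.Bijective (fun a : A => a • 𝟙 K)) :
    Function.Bijective (fun b : B => b • 𝟙 ((flatBC A B).obj K)) := by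
  have h1 : (fun b : B => b • 𝟙 ((flatBC A B).obj K)) =
      (bcHom B K K) ∘ (LinearMap.lTensor B (toEndLin K)) ∘ (TensorProduct.rid A B).symm :=
    funext (toEnd_flatBC_eq B K)
  rw [h1]
  have h2 : Function.Bijective (LinearMap.lTensor B (toEndLin K)) := by
    have : LinearMap.lTensor B (toEndLin K) =
        LinearEquiv.lTensor B (LinearEquiv.ofBijective (toEndLin K) h) := rfl
    rw [this]
    exact (LinearEquiv.lTensor B (LinearEquiv.ofBijective (toEndLin K) h)).bijective
  exact (bijective_bcHom B K hK K c).comp (h2.comp (TensorProduct.rid A B).symm.bijective)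

/-- Bijectivity of `A → End(K)` descends along faithfully flat maps. -/
lemma bijective_toEnd_of_flatBC [Module.FaithfullyFlat A B] (K : Dual.D A)
    (hK : DRing.IsPseudoCoherent' A K) (c : ℤ) [K.IsGE c]
    (h : Function.Bijective (fun b : B => b • 𝟙 ((flatBC A B).obj K))) :
    Function.Bijective (fun a : A => a • 𝟙 K) := by
  have h1 : (fun b : B => b • 𝟙 ((flatBC A B).obj K)) =
      (bcHom B K K) ∘ (LinearMap.lTensor B (toEndLin K)) ∘ (TensorProduct.rid A B).symm :=
    funext (toEnd_flatBC_eq B K)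
  rw [h1] at h
  have h2 : Function.Bijective ((LinearMap.lTensor B (toEndLin K)) ∘ (TensorProduct.rid A B).symm) :=
    (Function.Bijective.of_comp_iff' (bijective_bcHom B K hK K c) _).1 h
  have h3 : Function.Bijective (LinearMap.lTensor B (toEndLin K)) :=
    (Function.Bijective.of_comp_iff _ (TensorProduct.rid A B).symm.bijective).1 h2
  exact (Module.FaithfullyFlat.lTensor_bijective_iff_bijective A B (toEndLin K)).1 h3

end General

end Groth.Agent.Lib.Helper13.DualBC
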