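import Groth.Agent.Lib.Helper13.DualBC9

/-!
# Flat local homomorphisms with `m_A B = m_B` and dualizing complexes
-/

set_option autoImplicit false
set_option linter.unusedSectionVars false

open CategoryTheory CategoryTheory.Limits Pretriangulated

universe u

namespace Groth.Agent.Lib.Helper13.DualBC

open DerivedCategory Groth.Agent.Lib.Helper13.Coind Groth.Agent.Lib.Helper13.PC
  Groth.Agent.Lib.Helper13.DR Groth.Agent.Lib.Helper13.Shriek Groth.Agent.Lib.Helper13.BD

attribute [local instance] HasDerivedCategory.standard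

section

variable {A : Type u} [CommRing A]

lemma exists_isGE_of_isDualizing (ω : Dual.D A) (hω : Dual.IsDualizing A ω) : ∃ a : ℤ, ω.IsGE a := by
  obtain ⟨hA, ⟨a, b, h2⟩, h3, h4, h5⟩ := hω
  exact ⟨a, isGE_of_subsingleton_HD ω a (fun i hi =>
    ModuleCat.subsingleton_of_isZero (isZero_HD_of_subsingleton_ext ω i (h2 A i (Or.inl hi))))⟩

end

section LocalExt

variable (A B : Type u) [CommRing A] [CommRing B] [IsLocalRing A] [IsLocalRing B] [Algebra A B]
  [IsNoetherianRing A] [IsNoetherianRing B] [Module.Flat A B]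
  (hm : (IsLocalRing.maximalIdeal A).map (algebraMap A B) = IsLocalRing.maximalIdeal B)
  [DRing.HasLBaseChange (algebraMap A B)]

include hm

theorem isDualizing_LBaseChange_of_map_maximalIdeal (ω : Dual.D A) (hω : Dual.IsDualizing A ω) :
    Dual.IsDualizing B ((DRing.LBaseChange (algebraMap A B)).obj ω) :=
  isDualizing_LBaseChange_of_maximal_extended A B
    (fun _ hn => ⟨IsLocalRing.maximalIdeal A, hm.trans (IsLocalRing.eq_maximalIdeal hn).symm⟩) ω hω

theorem isNormalized_LBaseChange_of_map_maximalIdeal (ω : Dual.D A) (c : ℤ) [ω.IsGE c]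
    (hn : Dual.IsNormalized A ω) :
    Dual.IsNormalized B ((DRing.LBaseChange (algebraMap A B)).obj ω) := by
  intro i hi
  have h1 := subsingleton_hom_quot_map A B (IsLocalRing.maximalIdeal A) ω c i (hn i hi)
  let e2 : (B ⧸ (IsLocalRing.maximalIdeal A).map (algebraMap A B)) ≃ₗ[B]
      IsLocalRing.ResidueField B := Submodule.quotEquivOfEq _ _ hm
  let e3 : Dual.inD B (B ⧸ (IsLocalRing.maximalIdeal A).map (algebraMap A B)) ≅
      Dual.inD B (IsLocalRing.ResidueField B) :=
    (DerivedCategory.singleFunctor (ModuleCat.{u} B) 0).mapIso e2.toModuleIso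
  exact (Iso.homCongr e3 ((shiftFunctor (Dual.D B) i).mapIso
    ((LBaseChangeFlatIso A B).app ω).symm)).symm.subsingleton

end LocalExt

end Groth.Agent.Lib.Helper13.DualBC
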