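import Groth.Agent.Lib.Helper13.DualBC10
import Groth.Agent.Lib.Helper21.AdicNoetherian

/-!
# Base change of dualizing complexes to `B` with `A/I = B/IB`, `IB ⊆ rad(B)`, and completions
-/

set_option autoImplicit false
set_option linter.unusedSectionVars false

open CategoryTheory CategoryTheory.Limits Pretriangulated

universe u

namespace Groth.Agent.Lib.Helper13.DualBC

attribute [local instance] HasDerivedCategory.standard

section Jac

variable (A B : Type u) [CommRing A] [CommRing B] [Algebra A B] [IsNoetherianRing A]
  [IsNoetherianRing B] [Module.Flat A B] [DRing.HasLBaseChange (algebraMap A B)]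

theorem isDualizing_LBaseChange_of_jacobson (I : Ideal A)
    (hs : ∀ b : B, ∃ a : A, b - algebraMap A B a ∈ I.map (algebraMap A B))
    (hJ : I.map (algebraMap A B) ≤ (⊥ : Ideal B).jacobson)
    (ω : Dual.D A) (hω : Dual.IsDualizing A ω) :
    Dual.IsDualizing B ((DRing.LBaseChange (algebraMap A B)).obj ω) := by
  refine isDualizing_LBaseChange_of_maximal_extended A B
    (fun n hn => ⟨n.comap (algebraMap A B), le_antisymm Ideal.map_comap_le ?_⟩) ω hω
  have hIn : I.map (algebraMap A B) ≤ n := hJ.trans ((Ideal.jacobson_mono bot_le).trans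
    (le_of_eq (@Ideal.jacobson_eq_self_of_isMaximal _ _ n hn)))
  intro b hb
  obtain ⟨a, hab⟩ := hs b
  have han : algebraMap A B a ∈ n := by
    have := n.sub_mem hb (hIn hab)
    simpa using this
  have h1 : algebraMap A B a ∈ (n.comap (algebraMap A B)).map (algebraMap A B) :=
    Ideal.mem_map_of_mem _ han
  have h2 : b - algebraMap A B a ∈ (n.comap (algebraMap A B)).map (algebraMap A B) :=
    Ideal.map_mono (Ideal.map_le_iff_le_comap.1 hIn) hab
  have := Ideal.add_mem _ h2 h1
  simpa using this

end Jac

section Completion

variable (A : Type u) [CommRing A] [IsNoetherianRing A] (I : Ideal A)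
  [DRing.HasLBaseChange (algebraMap A (AdicCompletion I A))]

theorem isDualizing_LBaseChange_adicCompletion (ω : Dual.D A) (hω : Dual.IsDualizing A ω) :
    Dual.IsDualizing (AdicCompletion I A)
      ((DRing.LBaseChange (algebraMap A (AdicCompletion I A))).obj ω) := by
  have hfg : I.FG := IsNoetherian.noetherian I
  have : IsNoetherianRing (AdicCompletion I A) :=
    Groth.Agent.Lib.Helper21.isNoetherianRing_adicCompletion_of_fg I hfg
  have hc := AdicCompletion.isAdicComplete_self I hfg
  refine isDualizing_LBaseChange_of_jacobson A (AdicCompletion I A) I (fun b => ?_)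
    (IsAdicComplete.le_jacobson_bot _) ω hω
  obtain ⟨a, ha⟩ := Ideal.Quotient.mk_surjective (AdicCompletion.evalOneₐ I b)
  refine ⟨a, ?_⟩
  rw [← AdicCompletion.ker_evalOneₐ_eq_map I hfg, RingHom.mem_ker]
  change AdicCompletion.evalOneₐ I (b - algebraMap A (AdicCompletion I A) a) = 0
  rw [map_sub, ← ha]
  exact sub_self _

end Completion

end Groth.Agent.Lib.Helper13.DualBC
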