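import Groth.Agent.Lib.Helper13.DualBC11
import Groth.Agent.Lib.Helper13.BD5

/-!
# Dualizing complexes over a field, and `Ext(κ, ω)`
-/

set_option autoImplicit false
set_option linter.unusedSectionVars false

open CategoryTheory CategoryTheory.Limits Pretriangulated

universe u

namespace Groth.Agent.Lib.Helper13.DualBC

open DerivedCategory Groth.Agent.Lib.Helper13.Coind Groth.Agent.Lib.Helper13.PC
  Groth.Agent.Lib.Helper13.DR Groth.Agent.Lib.Helper13.Shriek Groth.Agent.Lib.Helper13.BD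

attribute [local instance] HasDerivedCategory.standard

section Field

variable {κ : Type u} [Field κ]

/-- Over a field, an object of the derived category whose endomorphism ring is the field is a
shift of the field. -/
theorem exists_iso_single_of_bijective_toEnd (R : Dual.D κ)
    (h : Function.Bijective (fun c : κ => c • 𝟙 R)) :
    ∃ j : ℤ, Nonempty (R ≅
      (DerivedCategory.singleFunctor (ModuleCat.{u} κ) j).obj (ModuleCat.of κ κ)) := by
  let X := Q.objPreimage R
  let e : Q.obj X ≅ R := Q.objObjPreimageIso R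
  have hR : ¬ IsZero R := fun hz => by
    have : (1 : κ) • 𝟙 R = (0 : κ) • 𝟙 R := hz.eq_of_src _ _
    exact one_ne_zero (h.1 this)
  have hnz : ∃ j, ¬ IsZero ((DerivedCategory.homologyFunctor (ModuleCat.{u} κ) j).obj R) := by
    by_contra hcon
    push Not at hcon
    have h1 : R.IsGE 1 := by rw [DerivedCategory.isGE_iff]; intro i _; exact hcon i
    have h0 : R.IsLE 0 := by rw [DerivedCategory.isLE_iff]; intro i _; exact hcon i
    exact hR ((IsZero.iff_id_eq_zero R).2
      (TStructure.t.zero_of_isLE_of_isGE (𝟙 R) 0 1 (by omega) h0 h1))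
  obtain ⟨j, hj⟩ := hnz
  have hj' : ¬ IsZero (X.homology j) := fun hz =>
    hj (hz.of_iso ((DerivedCategory.homologyFunctor _ j).mapIso e.symm ≪≫ homologyQIso X j))
  have hex : ¬ (X.sc' (j - 1) j (j + 1)).Exact := fun hex =>
    hj' ((X.exactAt_iff_isZero_homology j).1
      ((X.exactAt_iff' (j - 1) j (j + 1) (by simp) (by simp)).2 hex))
  rw [ShortComplex.moduleCat_exact_iff] at hex
  push Not at hex
  obtain ⟨z, hz0, hzB⟩ := hex
  change X.X j at z
  have hz0' : (X.d j (j + 1)).hom z = 0 := hz0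
  let B : Submodule κ (X.X j) := LinearMap.range (X.d (j - 1) j).hom
  have hzB' : z ∉ B := fun ⟨y, hy⟩ => hzB y hy
  obtain ⟨f, hfz, hBf⟩ := Submodule.exists_le_ker_of_notMem hzB'
  let μ : X.X j →ₗ[κ] κ := (f z)⁻¹ • f
  have hμz : μ z = 1 := inv_mul_cancel₀ hfz
  have hμB : ∀ y, μ ((X.d (j - 1) j).hom y) = 0 := fun y => by
    have : f ((X.d (j - 1) j).hom y) = 0 := hBf ⟨y, rfl⟩
    change (f z)⁻¹ • f ((X.d (j - 1) j).hom y) = 0
    rw [this, smul_zero]
  let S := (HomologicalComplex.single (ModuleCat.{u} κ) (ComplexShape.up ℤ) j).obj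
    (ModuleCat.of κ κ)
  let σ₀ : S ⟶ X :=
    HomologicalComplex.mkHomFromSingle (ModuleCat.ofHom (LinearMap.toSpanSingleton κ _ z))
      (fun k hk => by
        have hk' : j + 1 = k := hk
        subst hk'
        refine ModuleCat.hom_ext (LinearMap.ext fun c => ?_)
        change (X.d j (j + 1)).hom (c • z) = 0
        rw [map_smul, hz0', smul_zero])
  let π₀ : X ⟶ S :=
    HomologicalComplex.mkHomToSingle (ModuleCat.ofHom μ)
      (fun i hi => by
        have hi' : i + 1 = j := hi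
        obtain rfl : i = j - 1 := by omega
        refine ModuleCat.hom_ext (LinearMap.ext fun y => ?_)
        exact hμB y)
  have hσπ : σ₀ ≫ π₀ = 𝟙 S := by
    apply HomologicalComplex.from_single_hom_ext
    rw [HomologicalComplex.comp_f, HomologicalComplex.mkHomFromSingle_f,
      HomologicalComplex.mkHomToSingle_f, HomologicalComplex.id_f]
    have : ModuleCat.ofHom (LinearMap.toSpanSingleton κ _ z) ≫ ModuleCat.ofHom μ =
        𝟙 (ModuleCat.of κ κ) := by
      refine ModuleCat.hom_ext (LinearMap.ext fun c => ?_)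
      change μ (c • z) = c
      rw [map_smul, hμz, smul_eq_mul, mul_one]
    rw [Category.assoc, reassoc_of% this, Iso.hom_inv_id]
  let Sg := (DerivedCategory.singleFunctor (ModuleCat.{u} κ) j).obj (ModuleCat.of κ κ)
  let σ : Sg ⟶ R := (singleIsoQ j (ModuleCat.of κ κ)).hom ≫ Q.map σ₀ ≫ e.hom
  let π : R ⟶ Sg := e.inv ≫ Q.map π₀ ≫ (singleIsoQ j (ModuleCat.of κ κ)).inv
  have hσπ' : σ ≫ π = 𝟙 Sg := by
    change ((singleIsoQ j (ModuleCat.of κ κ)).hom ≫ Q.map σ₀ ≫ e.hom) ≫
      (e.inv ≫ Q.map π₀ ≫ (singleIsoQ j (ModuleCat.of κ κ)).inv) = 𝟙 _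
    simp only [Category.assoc, Iso.hom_inv_id_assoc]
    rw [← Functor.map_comp_assoc, hσπ, CategoryTheory.Functor.map_id, Category.id_comp,
      Iso.hom_inv_id]
  clear_value σ π
  have hSg : ¬ IsZero Sg := fun hz => by
    have h1 : (DerivedCategory.singleFunctor (ModuleCat.{u} κ) j).map (𝟙 (ModuleCat.of κ κ)) =
        (DerivedCategory.singleFunctor (ModuleCat.{u} κ) j).map 0 := hz.eq_of_src _ _
    have h2 := (DerivedCategory.singleFunctor (ModuleCat.{u} κ) j).map_injective h1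
    have h3 := ConcreteCategory.congr_hom h2 (1 : κ)
    exact one_ne_zero h3
  obtain ⟨c, hc⟩ := h.2 (π ≫ σ)
  have hc' : c • 𝟙 R = π ≫ σ := hc
  have hidem : (π ≫ σ) ≫ (π ≫ σ) = π ≫ σ := by
    rw [Category.assoc, reassoc_of% hσπ']
  have hcc : c * c = c := by
    apply h.1
    change (c * c) • 𝟙 R = c • 𝟙 R
    have := hidem
    rw [← hc', Linear.smul_comp, Linear.comp_smul, Category.id_comp, smul_smul] at this
    exact this
  have hc1 : c = 1 := by
    rcases eq_or_ne c 0 with h0 | h0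
    · exfalso
      rw [h0, zero_smul] at hc'
      apply hSg
      rw [IsZero.iff_id_eq_zero]
      calc 𝟙 Sg = (σ ≫ π) ≫ (σ ≫ π) := by rw [hσπ', Category.comp_id]
        _ = σ ≫ (π ≫ σ) ≫ π := by simp only [Category.assoc]
        _ = 0 := by rw [← hc', zero_comp, comp_zero]
    · exact mul_left_cancel₀ h0 (hcc.trans (mul_one c).symm)
  rw [hc1, one_smul] at hc'
  exact ⟨j, ⟨⟨π, σ, hc'.symm, hσπ'⟩⟩⟩

end Field

section ShiftHom

variable {A : Type u} [CommRing A]

/-- `Hom(X[-j], Y) ≃ Hom(X, Y[j])`, linearly. -/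
noncomputable def shiftHomLinearEquiv (X Y : Dual.D A) (j : ℤ) :
    (X⟦-j⟧ ⟶ Y) ≃ₗ[A] (X ⟶ Y⟦j⟧) :=
  LinearEquiv.ofBijective
    { toFun := fun f => (shiftFunctorCompIsoId (Dual.D A) (-j) j (by simp)).inv.app X ≫ f⟦j⟧'
      map_add' := fun f g => by
        rw [Functor.map_add, Preadditive.comp_add]
      map_smul' := fun a f => by
        rw [Functor.map_smul, Linear.comp_smul]
        rfl }
    (by
      constructor
      · intro f g hfg
        have h1 : (shiftFunctorCompIsoId (Dual.D A) (-j) j (by simp)).inv.app X ≫ f⟦j⟧' =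
            (shiftFunctorCompIsoId (Dual.D A) (-j) j (by simp)).inv.app X ≫ g⟦j⟧' := hfg
        rw [cancel_epi] at h1
        exact (shiftFunctor (Dual.D A) j).map_injective h1
      · intro h
        refine ⟨(shiftFunctor (Dual.D A) j).preimage
          ((shiftFunctorCompIsoId (Dual.D A) (-j) j (by simp)).hom.app X ≫ h), ?_⟩
        change (shiftFunctorCompIsoId (Dual.D A) (-j) j (by simp)).inv.app X ≫
          (shiftFunctor (Dual.D A) j).map ((shiftFunctor (Dual.D A) j).preimage _) = h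
        rw [Functor.map_preimage, ← Category.assoc, ← NatTrans.comp_app, Iso.inv_hom_id,
          NatTrans.id_app, Category.id_comp])

end ShiftHom

section ExtResidue

variable (A : Type u) [CommRing A] [IsNoetherianRing A]

lemma eta_smul (I : DRing.Cx A) (M : ModuleCat.{u} A) (a : A) (x : M) :
    eta I M (a • x) = a • eta I M x := by
  unfold eta
  rw [evm_smul, Functor.map_smul, Linear.smul_comp]

/-- For a dualizing complex `ω` and a maximal ideal `m`, `Ext^i(A/m, ω)` is zero except in one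
degree, where it is `A/m`. -/
theorem ext_residue (ω : Dual.D A) (hω : Dual.IsDualizing A ω) (m : Ideal A) [hm : m.IsMaximal] :
    ∃ n : ℤ, (∀ i : ℤ, i ≠ n → Subsingleton (Dual.inD A (A ⧸ m) ⟶ ω⟦i⟧)) ∧
      Nonempty ((Dual.inD A (A ⧸ m) ⟶ ω⟦n⟧) ≃ₗ[A] (A ⧸ m)) := by
  obtain ⟨_, ⟨a, b, h2⟩, h3, h4, h5⟩ := hω
  have hinj : DRing.HasInjAmplitudeIn A a b ω :=
    hasInjAmplitudeIn_of_quotients ω a b (fun J i hi => h2 (A ⧸ J) i hi)
  obtain ⟨I, hv, hI, ⟨e⟩⟩ := hinj
  have hK : I.IsKInjective := isKInjective_of_forall_injective I a (fun i hi => hv i (Or.inl hi))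
    (fun i => (injective_iff _).2 (hI i))
  have h4' : Function.Bijective (fun a : A => a • 𝟙 (Q.obj I : Dual.D A)) := by
    have : (fun a : A => a • 𝟙 (Q.obj I : Dual.D A)) =
        (Iso.homCongr e.symm e.symm) ∘ (fun a : A => a • 𝟙 ω) := by
      funext a
      change a • 𝟙 _ = e.hom ≫ (a • 𝟙 ω) ≫ e.inv
      rw [Linear.smul_comp, Linear.comp_smul, Category.id_comp, e.hom_inv_id]
    rw [this]
    exact (Iso.homCongr e.symm e.symm).bijective.comp h4
  have h5' : ∀ i : ℤ, i ≠ 0 →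
      Subsingleton ((Q.obj I : Dual.D A) ⟶ (Q.obj I : Dual.D A)⟦i⟧) := by
    intro i hi
    have := h5 i hi
    exact (Iso.homCongr e ((shiftFunctor (Dual.D A) i).mapIso e)).subsingleton
  let _ : Field (A ⧸ m) := Ideal.Quotient.field m
  obtain ⟨k1, -⟩ := toEnd_Rco_aux (B := A ⧸ m) I hI a b hv h4' h5'
  obtain ⟨j, ⟨ε⟩⟩ := exists_iso_single_of_bijective_toEnd _ k1
  have hfin : Module.Finite A (BA A (A ⧸ m)) :=
    Module.Finite.equiv (restrictSelfIso (A := A) (B := A ⧸ m)).symm.toLinearEquiv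
  have hR := refl_of_finite I hI h4' h5' a b hv (BA A (A ⧸ m))
  -- `D(κ) ≅ κ[-j]` in `D(A)`
  let ε1 : (Q.obj (Dm I (BA A (A ⧸ m))) : Dual.D A) ≅
      (DerivedCategory.singleFunctor (ModuleCat.{u} A) j).obj (BA A (A ⧸ m)) :=
    (theta (A ⧸ m) I).symm ≪≫ (DRing.restrictD (algebraMap A (A ⧸ m))).mapIso ε ≪≫
      ((ModuleCat.restrictScalars.{u} (algebraMap A (A ⧸ m))).mapDerivedCategorySingleFunctor
        j).app (ModuleCat.of (A ⧸ m) (A ⧸ m))
  let ε2 : (Q.obj (Dm I (BA A (A ⧸ m))) : Dual.D A) ≅ (Dual.inD A (A ⧸ m))⟦-j⟧ :=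
    ε1 ≪≫ (DerivedCategory.singleFunctor (ModuleCat.{u} A) j).mapIso
        (restrictSelfIso (A := A) (B := A ⧸ m)) ≪≫
      (((DerivedCategory.singleFunctors (ModuleCat.{u} A)).shiftIso (-j) j 0 (by simp)).app
        (ModuleCat.of A (A ⧸ m))).symm
  -- the linear equivalences
  let TE : ∀ i : ℤ, T I i (BA A (A ⧸ m)) ≃ₗ[A] (Dual.inD A (A ⧸ m) ⟶ ω⟦i + j⟧) := fun i =>
    (Linear.homCongr A ε2 (Iso.refl _)).trans
      ((shiftHomLinearEquiv (Dual.inD A (A ⧸ m)) ((Q.obj I : Dual.D A)⟦i⟧) j).trans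
        (Linear.homCongr A (Iso.refl _)
          (((shiftFunctorAdd' (Dual.D A) i j (i + j) rfl).app (Q.obj I)).symm ≪≫
            (shiftFunctor (Dual.D A) (i + j)).mapIso e)))
  refine ⟨j, fun i hi => ?_, ?_⟩
  · have h0 : i - j ≠ 0 := fun h => hi (by omega)
    have := hR.2 (i - j) h0
    have hij : i - j + j = i := by ring
    have h1 : Subsingleton (Dual.inD A (A ⧸ m) ⟶ ω⟦i - j + j⟧) :=
      (TE (i - j)).symm.toEquiv.subsingleton
    rw [hij] at h1
    exact h1
  · let etaL : (BA A (A ⧸ m)) →ₗ[A] T I 0 (BA A (A ⧸ m)) :=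
      { toFun := eta I (BA A (A ⧸ m))
        map_add' := eta_add I _
        map_smul' := fun a x => eta_smul A I _ a x }
    let E1 : (BA A (A ⧸ m)) ≃ₗ[A] T I 0 (BA A (A ⧸ m)) := LinearEquiv.ofBijective etaL hR.1
    have h0j : (0 : ℤ) + j = j := zero_add j
    let E2 : T I 0 (BA A (A ⧸ m)) ≃ₗ[A] (Dual.inD A (A ⧸ m) ⟶ ω⟦j⟧) :=
      (TE 0).trans (Linear.homCongr A (Iso.refl _) (eqToIso (by rw [h0j])))
    exact ⟨((restrictSelfIso (A := A) (B := A ⧸ m)).symm.toLinearEquiv.trans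
      (E1.trans E2)).symm⟩

end ExtResidue

end Groth.Agent.Lib.Helper13.DualBC
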