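import Groth.Agent.Lib.Helper13.DualBC12
import Mathlib.RingTheory.HopkinsLevitzki
import Mathlib.RingTheory.KrullDimension.Zero

/-!
# Dualizing complexes over Artinian local rings and at minimal primes
-/

set_option autoImplicit false
set_option linter.unusedSectionVars false

open CategoryTheory CategoryTheory.Limits Pretriangulated TensorProduct

universe u

namespace Groth.Agent.Lib.Helper13.DualBC

open DerivedCategory Groth.Agent.Lib.Helper13.Coind Groth.Agent.Lib.Helper13.PC
  Groth.Agent.Lib.Helper13.DR Groth.Agent.Lib.Helper13.Shriek Groth.Agent.Lib.Helper13.BD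

attribute [local instance] HasDerivedCategory.standard

section FiniteLength

variable {A : Type u} [CommRing A]

/-- The short exact sequence `0 → N → M → M/N → 0`. -/
noncomputable def subSC {M : Type u} [AddCommGroup M] [Module A M] (N : Submodule A M) :
    ShortComplex (ModuleCat.{u} A) :=
  ShortComplex.mk (ModuleCat.ofHom N.subtype : ModuleCat.of A N ⟶ ModuleCat.of A M)
    (ModuleCat.ofHom N.mkQ : ModuleCat.of A M ⟶ ModuleCat.of A (M ⧸ N))
    (by
      refine ModuleCat.hom_ext (LinearMap.ext fun x => ?_)
      change N.mkQ (N.subtype x) = 0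
      simp)

lemma subSC_shortExact {M : Type u} [AddCommGroup M] [Module A M] (N : Submodule A M) :
    (subSC N).ShortExact := by
  refine { exact := ?_, mono_f := ?_, epi_g := ?_ }
  · rw [ShortComplex.ShortExact.moduleCat_exact_iff_function_exact]
    exact LinearMap.exact_subtype_mkQ N
  · rw [ModuleCat.mono_iff_injective]
    exact N.injective_subtype
  · rw [ModuleCat.epi_iff_surjective]
    exact N.mkQ_surjective

/-- Vanishing of `Hom(A/m, W)` for all maximal `m` implies vanishing of `Hom(M, W)` for all `M`
of finite length. -/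
theorem subsingleton_hom_of_isFiniteLength (W : Dual.D A)
    (h : ∀ m : Ideal A, m.IsMaximal → Subsingleton (Dual.inD A (A ⧸ m) ⟶ W))
    (M : Type u) [AddCommGroup M] [Module A M] (hM : IsFiniteLength A M) :
    Subsingleton (Dual.inD A M ⟶ W) := by
  induction hM with
  | @of_subsingleton M _ _ _ =>
    have hz : IsZero (Dual.inD A M) :=
      Functor.map_isZero _ (ModuleCat.isZero_of_subsingleton _)
    exact ⟨fun x y => hz.eq_of_src x y⟩
  | @of_simple_quotient M _ _ N hs _ ih =>
    obtain ⟨m, hm, ⟨e⟩⟩ := isSimpleModule_iff_quot_maximal.mp hs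
    have hq : Subsingleton (Dual.inD A (M ⧸ N) ⟶ W) := by
      have := h m hm
      exact (Iso.homCongr ((DerivedCategory.singleFunctor (ModuleCat.{u} A) 0).mapIso
        e.toModuleIso) (Iso.refl W)).subsingleton
    have hS := subSC_shortExact N
    refine ⟨fun x y => ?_⟩
    suffices H : ∀ x : Dual.inD A M ⟶ W, x = 0 by rw [H x, H y]
    intro x
    obtain ⟨g, hg⟩ := Triangle.yoneda_exact₂ _ hS.singleTriangle_distinguished x
      (ih.elim _ _)
    have hg0 : g = 0 := hq.elim g 0
    rw [hg, hg0]
    exact comp_zero

end FiniteLength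

section Artinian

variable {A : Type u} [CommRing A]

lemma isZero_of_forall_isZero_homology (R : Dual.D A)
    (h : ∀ j : ℤ, IsZero ((DerivedCategory.homologyFunctor (ModuleCat.{u} A) j).obj R)) :
    IsZero R := by
  have h1 : R.IsGE 1 := by rw [DerivedCategory.isGE_iff]; intro i _; exact h i
  have h0 : R.IsLE 0 := by rw [DerivedCategory.isLE_iff]; intro i _; exact h i
  exact (IsZero.iff_id_eq_zero R).2
    (TStructure.t.zero_of_isLE_of_isGE (𝟙 R) 0 1 (by omega) h0 h1)

/-- A dualizing complex over an Artinian local ring has exactly one nonzero cohomology module. -/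
theorem exists_unique_homology_of_artinian [IsLocalRing A] [IsNoetherianRing A]
    [IsArtinianRing A] (ω : Dual.D A) (hω : Dual.IsDualizing A ω) :
    ∃ n : ℤ, (∀ i : ℤ, i ≠ n → Subsingleton (Dual.HD A ω i)) ∧ Nontrivial (Dual.HD A ω n) := by
  obtain ⟨n, hn, -⟩ := ext_residue A ω hω (IsLocalRing.maximalIdeal A)
  have hA : IsFiniteLength A A := isFiniteLength_iff_isNoetherian_isArtinian.2
    ⟨inferInstance, inferInstance⟩
  have hvan : ∀ i : ℤ, i ≠ n → Subsingleton (Dual.HD A ω i) := fun i hi => by
    have h1 : Subsingleton (Dual.inD A A ⟶ ω⟦i⟧) :=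
      subsingleton_hom_of_isFiniteLength (ω⟦i⟧) (fun m hm => by
        rw [IsLocalRing.eq_maximalIdeal hm]
        exact hn i hi) A hA
    exact ModuleCat.subsingleton_of_isZero (isZero_HD_of_subsingleton_ext ω i h1)
  refine ⟨n, hvan, ?_⟩
  by_contra hcon
  rw [not_nontrivial_iff_subsingleton] at hcon
  have hz : IsZero ω := isZero_of_forall_isZero_homology ω (fun j => by
    by_cases hj : j = n
    · subst hj
      exact ModuleCat.isZero_of_subsingleton _
    · have := hvan j hj
      exact ModuleCat.isZero_of_subsingleton _)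
  obtain ⟨_, _, _, h4, _⟩ := hω
  have : (1 : A) • 𝟙 ω = (0 : A) • 𝟙 ω := hz.eq_of_src _ _
  exact one_ne_zero (h4.1 this)

end Artinian

section MinPrime

variable (A : Type u) [CommRing A] [IsNoetherianRing A]

/-- A dualizing complex has exactly one nonzero cohomology module at a minimal prime. -/
theorem existsUnique_homology_minimalPrime (ω : Dual.D A) (hω : Dual.IsDualizing A ω)
    (p : Ideal A) (hp : p ∈ minimalPrimes A) :
    ∃! i : ℤ, Nontrivial (LocalizedModule (Ideal.primeCompl p (hp := hp.1.1))
      (Dual.HD A ω i)) := by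
  have hpp : p.IsPrime := hp.1.1
  have hd := isDualizing_flatBC_localization A p.primeCompl ω hω
  have h0 : Ring.KrullDimLE 0 (Localization.AtPrime p) :=
    Ring.KrullDimLE.of_isLocalization p hp (Localization.AtPrime p)
  have hart : IsArtinianRing (Localization.AtPrime p) :=
    isArtinianRing_iff_krullDimLE_zero.2 h0
  obtain ⟨n, hn, hnn⟩ := exists_unique_homology_of_artinian
    ((flatBC A (Localization.AtPrime p)).obj ω) hd
  have key : ∀ i : ℤ, (LocalizedModule p.primeCompl (Dual.HD A ω i)) ≃
      (Dual.HD (Localization.AtPrime p) ((flatBC A (Localization.AtPrime p)).obj ω) i) :=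
    fun i => ((LocalizedModule.equivTensorProduct p.primeCompl (Dual.HD A ω i)).toEquiv.trans
      (extendScalarsEquiv (Localization.AtPrime p) _).symm.toEquiv).trans
      (flatBCHomologyIso A (Localization.AtPrime p) ω i).symm.toLinearEquiv.toEquiv
  refine ⟨n, (key n).nontrivial, fun i hi => ?_⟩
  by_contra hne
  have h1 := hn i hne
  have h2 : Subsingleton (LocalizedModule p.primeCompl (Dual.HD A ω i)) :=
    (key i).subsingleton
  exact not_subsingleton _ h2

end MinPrime

end Groth.Agent.Lib.Helper13.DualBC
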