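import Groth.Agent.Lib.Helper13.DualBC13
import Groth.Agent.S0302

/-!
# Normalized dualizing complexes over Artinian local rings
-/

set_option autoImplicit false
set_option linter.unusedSectionVars false

open CategoryTheory CategoryTheory.Limits Pretriangulated TensorProduct

universe u

namespace Groth.Agent.Lib.Helper13.DualBC

open DerivedCategory Groth.Agent.Lib.Helper13.Coind Groth.Agent.Lib.Helper13.PC
  Groth.Agent.Lib.Helper13.DR Groth.Agent.Lib.Helper13.Shriek Groth.Agent.Lib.Helper13.BD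

attribute [local instance] HasDerivedCategory.standard

section SingleIso

variable {A : Type u} [CommRing A]

/-- A complex concentrated in degree `0` is a single complex. -/
noncomputable def isoSingleOfVanishesOutside (E : DRing.Cx A) (hv : DRing.VanishesOutside E 0 0) :
    E ≅ (HomologicalComplex.single (ModuleCat.{u} A) (ComplexShape.up ℤ) 0).obj (E.X 0) where
  hom := HomologicalComplex.mkHomToSingle (𝟙 (E.X 0)) (fun i hi =>
    (hv i (Or.inl (by have : i + 1 = 0 := hi; omega))).eq_of_src _ _)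
  inv := HomologicalComplex.mkHomFromSingle (𝟙 (E.X 0)) (fun k hk =>
    (hv k (Or.inr (by have : 0 + 1 = k := hk; omega))).eq_of_tgt _ _)
  hom_inv_id := by
    refine HomologicalComplex.hom_ext _ _ (fun i => ?_)
    by_cases hi : i = 0
    · subst hi
      rw [HomologicalComplex.comp_f, HomologicalComplex.mkHomToSingle_f,
        HomologicalComplex.mkHomFromSingle_f, HomologicalComplex.id_f]
      simp
    · exact (hv i (by omega)).eq_of_src _ _
  inv_hom_id := by
    apply HomologicalComplex.from_single_hom_ext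
    rw [HomologicalComplex.comp_f, HomologicalComplex.mkHomToSingle_f,
      HomologicalComplex.mkHomFromSingle_f, HomologicalComplex.id_f]
    simp

/-- The same in the derived category. -/
noncomputable def toDIsoInD (E : DRing.Cx A) (hv : DRing.VanishesOutside E 0 0) :
    DRing.toD E ≅ Dual.inD A (E.X 0) :=
  Q.mapIso (isoSingleOfVanishesOutside E hv) ≪≫ (singleIsoQ 0 (E.X 0)).symm

end SingleIso

section Hull

variable {A : Type u} [CommRing A] [IsLocalRing A] [IsArtinianRing A]

/-- Over an Artinian local ring, an injective module with one-dimensional socle is an injective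
hull of the residue field. -/
theorem exists_isInjectiveHull_of_linearEquiv (W : Type u) [AddCommGroup W] [Module A W]
    [Module.Finite A W] [Module.Injective A W]
    (Φ : ((A ⧸ IsLocalRing.maximalIdeal A) →ₗ[A] W) ≃ₗ[A] (A ⧸ IsLocalRing.maximalIdeal A)) :
    ∃ g : (A ⧸ IsLocalRing.maximalIdeal A) →ₗ[A] W, InjHull.IsInjectiveHull g := by
  let g := Φ.symm 1
  have hg1 : Φ g = 1 := Φ.apply_symm_apply 1
  have hg0 : g ≠ 0 := fun h => by
    rw [h, map_zero] at hg1
    exact zero_ne_one hg1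
  refine ⟨g, ⟨⟨?_, ?_⟩, inferInstance⟩⟩
  · rw [← LinearMap.ker_eq_bot, LinearMap.ker_eq_bot']
    intro x hx
    obtain ⟨a, rfl⟩ := Ideal.Quotient.mk_surjective x
    by_contra hne
    have ha : a ∉ IsLocalRing.maximalIdeal A := fun h => hne (Ideal.Quotient.eq_zero_iff_mem.2 h)
    have hu : IsUnit a := by
      by_contra hnu
      exact ha ((IsLocalRing.mem_maximalIdeal a).2 hnu)
    obtain ⟨u, rfl⟩ := hu
    apply hg0
    refine LinearMap.ext fun y => ?_
    obtain ⟨b, rfl⟩ := Ideal.Quotient.mk_surjective y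
    have h1 : (Ideal.Quotient.mk (IsLocalRing.maximalIdeal A) b) =
        (b * ↑u⁻¹) • (Ideal.Quotient.mk (IsLocalRing.maximalIdeal A) (u : A)) := by
      rw [Algebra.smul_def, Ideal.Quotient.algebraMap_eq, ← map_mul, mul_assoc,
        Units.inv_mul, mul_one]
    rw [h1, map_smul, hx, smul_zero, LinearMap.zero_apply]
  · intro N hN
    have hart : IsArtinian A W := inferInstance
    obtain h | ⟨S, hS, hSN⟩ := IsAtomic.eq_bot_or_exists_atom_le N
    · exact absurd h hN
    have hsimple : IsSimpleModule A S := isSimpleModule_iff_isAtom.2 hS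
    obtain ⟨m', hm', ⟨e⟩⟩ := isSimpleModule_iff_quot_maximal.mp hsimple
    obtain rfl := IsLocalRing.eq_maximalIdeal hm'
    let g' : (A ⧸ IsLocalRing.maximalIdeal A) →ₗ[A] W := S.subtype ∘ₗ e.symm.toLinearMap
    obtain ⟨c, hc⟩ := Ideal.Quotient.mk_surjective (Φ g')
    have hgg : g' = c • g := by
      apply Φ.injective
      rw [map_smul, hg1, ← hc]
      rw [Algebra.smul_def, Ideal.Quotient.algebraMap_eq, mul_one]
    have hSle : S ≤ LinearMap.range g := by
      intro w hw
      refine ⟨c • e ⟨w, hw⟩, ?_⟩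
      have h2 : g' (e ⟨w, hw⟩) = w := by
        change S.subtype (e.symm (e ⟨w, hw⟩)) = w
        rw [e.symm_apply_apply]
        rfl
      calc g (c • e ⟨w, hw⟩) = (c • g) (e ⟨w, hw⟩) := by
            rw [map_smul, LinearMap.smul_apply]
        _ = g' (e ⟨w, hw⟩) := by rw [hgg]
        _ = w := h2
    intro hbot
    exact hS.1 (le_bot_iff.1 (hbot ▸ le_inf hSN hSle))

end Hull

section Main

variable (A : Type u) [CommRing A] [IsLocalRing A] [IsNoetherianRing A]

lemma ext_residue_normalized (ω : Dual.D A) (hω : Dual.IsDualizing A ω)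
    (hn : Dual.IsNormalized A ω) :
    Nonempty ((Dual.inD A (A ⧸ IsLocalRing.maximalIdeal A) ⟶ ω⟦(0 : ℤ)⟧) ≃ₗ[A]
      (A ⧸ IsLocalRing.maximalIdeal A)) := by
  obtain ⟨n, h1, ⟨e⟩⟩ := ext_residue A ω hω (IsLocalRing.maximalIdeal A)
  by_cases h0 : n = 0
  · subst h0
    exact ⟨e⟩
  · exfalso
    have h2 : Subsingleton (Dual.inD A (A ⧸ IsLocalRing.maximalIdeal A) ⟶ ω⟦n⟧) := hn n h0
    have h3 : Subsingleton (A ⧸ IsLocalRing.maximalIdeal A) := e.symm.toEquiv.subsingleton
    have h4 : Nontrivial (A ⧸ IsLocalRing.maximalIdeal A) :=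
      Ideal.Quotient.nontrivial_iff.2 (IsLocalRing.maximalIdeal.isMaximal A).ne_top
    exact not_subsingleton _ h3

/-- Over an Artinian local ring a normalized dualizing complex is an injective hull of the
residue field placed in degree `0`. -/
theorem iso_inD_hull_of_artinian [IsArtinianRing A] (ω : Dual.D A) (hω : Dual.IsDualizing A ω)
    (hn : Dual.IsNormalized A ω) (E : Type u) [AddCommGroup E] [Module A E]
    (f : IsLocalRing.ResidueField A →ₗ[A] E) (hf : InjHull.IsInjectiveHull f) :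
    Nonempty (ω ≅ Dual.inD A E) := by
  have hA : ∀ I : Ideal A, IsFiniteLength A (A ⧸ I) := fun I =>
    isFiniteLength_iff_isNoetherian_isArtinian.2 ⟨inferInstance, inferInstance⟩
  have hinj : DRing.HasInjAmplitudeIn A 0 0 ω :=
    hasInjAmplitudeIn_of_quotients ω 0 0 (fun I i hi =>
      subsingleton_hom_of_isFiniteLength (ω⟦i⟧) (fun m hm => by
        rw [IsLocalRing.eq_maximalIdeal hm]
        exact hn i (by omega)) (A ⧸ I) (hA I))
  obtain ⟨Ec, hv, hE, ⟨e⟩⟩ := hinj
  have hWinj : Module.Injective A (Ec.X 0) := hE 0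
  let ι : ω ≅ Dual.inD A (Ec.X 0) := e.symm ≪≫ toDIsoInD Ec hv
  have hWfin : Module.Finite A (Ec.X 0) := by
    obtain ⟨_, _, h3, _, _⟩ := hω
    have := h3 0
    exact Module.Finite.equiv (((DerivedCategory.homologyFunctor _ 0).mapIso ι ≪≫
      homologySingleIso 0 (Ec.X 0)).toLinearEquiv)
  obtain ⟨Φ0⟩ := ext_residue_normalized A ω hω hn
  let Φ1 : ((A ⧸ IsLocalRing.maximalIdeal A) →ₗ[A] (Ec.X 0)) ≃ₗ[A]
      (ModuleCat.of A (A ⧸ IsLocalRing.maximalIdeal A) ⟶ Ec.X 0) :=
    { toFun := fun φ => ModuleCat.ofHom φ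
      invFun := fun φ => φ.hom
      left_inv := fun _ => rfl
      right_inv := fun _ => rfl
      map_add' := fun _ _ => rfl
      map_smul' := fun _ _ => rfl }
  let Φ2 : (ModuleCat.of A (A ⧸ IsLocalRing.maximalIdeal A) ⟶ Ec.X 0) ≃ₗ[A]
      (Dual.inD A (A ⧸ IsLocalRing.maximalIdeal A) ⟶ Dual.inD A (Ec.X 0)) :=
    LinearEquiv.ofBijective
      ((DerivedCategory.singleFunctor (ModuleCat.{u} A) 0).mapLinearMap A)
      (Functor.FullyFaithful.ofFullyFaithful
        (DerivedCategory.singleFunctor (ModuleCat.{u} A) 0)).homEquiv.bijective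
  let Φ3 : (Dual.inD A (A ⧸ IsLocalRing.maximalIdeal A) ⟶ Dual.inD A (Ec.X 0)) ≃ₗ[A]
      (Dual.inD A (A ⧸ IsLocalRing.maximalIdeal A) ⟶ ω⟦(0 : ℤ)⟧) :=
    Linear.homCongr A (Iso.refl _) (ι.symm ≪≫ ((shiftFunctorZero (Dual.D A) ℤ).app ω).symm)
  obtain ⟨g, hg⟩ := exists_isInjectiveHull_of_linearEquiv (Ec.X 0)
    (Φ1.trans (Φ2.trans (Φ3.trans Φ0)))
  obtain ⟨ε, -⟩ := Groth.Agent.S0302.result A (A ⧸ IsLocalRing.maximalIdeal A) (Ec.X 0) E g hg f hf
  exact ⟨ι ≪≫ (DerivedCategory.singleFunctor (ModuleCat.{u} A) 0).mapIso ε.toModuleIso⟩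

end Main

end Groth.Agent.Lib.Helper13.DualBC
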