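import Groth.Agent.Lib.Helper13.DualBC14
import Mathlib.RingTheory.Support

/-!
# A Noetherian ring with a dualizing complex has finite Krull dimension
-/

set_option autoImplicit false
set_option linter.unusedSectionVars false

open CategoryTheory CategoryTheory.Limits Pretriangulated TensorProduct

universe u

namespace Groth.Agent.Lib.Helper13.DualBC

open DerivedCategory Groth.Agent.Lib.Helper13.Coind Groth.Agent.Lib.Helper13.PC
  Groth.Agent.Lib.Helper13.DR Groth.Agent.Lib.Helper13.Shriek Groth.Agent.Lib.Helper13.BD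
  Groth.Agent.Lib.Helper13.HomBC

attribute [local instance] HasDerivedCategory.standard

section LocalStep

variable {A : Type u} [CommRing A] [IsNoetherianRing A] [IsLocalRing A]

/-- Over a local ring: if `Ext^j(κ, K) = 0` for `j > t` then `Ext^j(A/p, K) = 0` for `j ≥ t` and
every non-maximal prime `p`. -/
theorem subsingleton_hom_quot_prime_of_gt (K : Dual.D A) (c : ℤ) [K.IsGE c]
    (hfin : ∀ i : ℤ, Module.Finite A (Dual.HD A K i)) (t : ℤ)
    (h : ∀ j : ℤ, t < j →
      Subsingleton (Dual.inD A (A ⧸ IsLocalRing.maximalIdeal A) ⟶ K⟦j⟧))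
    (p : Ideal A) [hp : p.IsPrime] (hpm : p ≠ IsLocalRing.maximalIdeal A) (j : ℤ) (hj : t ≤ j) :
    Subsingleton (Dual.inD A (A ⧸ p) ⟶ K⟦j⟧) := by
  have hb : ∀ (I : Ideal A) (i : ℤ), t < i → Subsingleton (Dual.inD A (A ⧸ I) ⟶ K⟦i⟧) :=
    fun I => bass K c hfin t (fun m hm i hi => by
      rw [IsLocalRing.eq_maximalIdeal hm]
      exact h i hi) I
  rcases lt_or_eq_of_le hj with hlt | rfl
  · exact hb p j hlt
  -- the Nakayama step
  obtain ⟨x, hxm, hxp⟩ := SetLike.exists_of_lt
    (lt_of_le_of_ne (IsLocalRing.le_maximalIdeal hp.ne_top) hpm)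
  have hpcI : DRing.IsPseudoCoherent' A (Dual.inD A (A ⧸ p)) :=
    (isPseudoCoherentModule'_iff_of_isNoetherianRing (A ⧸ p)).2 inferInstance
  have hGE : (K⟦t⟧).IsGE (c - t) := TStructure.t.isGE_shift K c t (c - t) (by omega)
  have hE : Module.Finite A (Dual.inD A (A ⧸ p) ⟶ K⟦t⟧) :=
    FC.finite_hom_of_isGE hpcI 0 (K⟦t⟧) (c - t) (finite_HD_shift K hfin t)
  have hJ : p = Submodule.comap (LinearMap.toSpanSingleton A A x) p := by
    ext a
    change a ∈ p ↔ a • x ∈ p
    rw [smul_eq_mul]
    exact ⟨fun ha => p.mul_mem_right x ha,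
      fun ha => (hp.mem_or_mem ha).resolve_right hxp⟩
  have hF : colonF p x p hJ = x • LinearMap.id := by
    refine LinearMap.ext fun a => ?_
    obtain ⟨a, rfl⟩ := Submodule.Quotient.mk_surjective _ a
    rw [colonF_mk]
    change _ = x • (Submodule.Quotient.mk a : A ⧸ p)
    rw [← Submodule.Quotient.mk_smul, smul_eq_mul, mul_comm]
  have hF2 : (DerivedCategory.singleFunctor (ModuleCat.{u} A) 0).map
      (ModuleCat.ofHom (colonF p x p hJ)) = x • 𝟙 (Dual.inD A (A ⧸ p)) := by
    have : ModuleCat.ofHom (colonF p x p hJ) = x • 𝟙 (ModuleCat.of A (A ⧸ p)) := by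
      rw [hF]
      rfl
    rw [this, Functor.map_smul, CategoryTheory.Functor.map_id]
  have hsurj : (⊤ : Submodule A (Dual.inD A (A ⧸ p) ⟶ K⟦t⟧)) ≤
      Ideal.span {x} • (⊤ : Submodule A (Dual.inD A (A ⧸ p) ⟶ K⟦t⟧)) := by
    intro z _
    obtain ⟨f, hf⟩ := colon_surj p x p hJ K t (t + 1) rfl (hb _ (t + 1) (by omega)) z
    rw [hF2, Linear.smul_comp, Category.id_comp] at hf
    rw [hf]
    exact Submodule.smul_mem_smul (Ideal.subset_span rfl) Submodule.mem_top
  have hjac : Ideal.span {x} ≤ (⊥ : Ideal A).jacobson := by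
    rw [IsLocalRing.jacobson_eq_maximalIdeal ⊥ bot_ne_top]
    exact (Ideal.span_singleton_le_iff_mem _).2 hxm
  have htop := Submodule.eq_bot_of_le_smul_of_le_jacobson_bot (Ideal.span {x}) ⊤
    (Module.finite_def.1 hE) hsurj hjac
  exact ⟨fun f g => by
    have hf : f ∈ (⊤ : Submodule A (Dual.inD A (A ⧸ p) ⟶ K⟦t⟧)) := Submodule.mem_top
    have hg : g ∈ (⊤ : Submodule A (Dual.inD A (A ⧸ p) ⟶ K⟦t⟧)) := Submodule.mem_top
    rw [htop, Submodule.mem_bot] at hf hg
    rw [hf, hg]⟩

end LocalStep

section Bridge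

variable (A : Type u) [CommRing A] [IsNoetherianRing A]

/-- Localization of `Ext^i(A/I, K)` at a prime. -/
noncomputable def locHomEquiv (p : Ideal A) [p.IsPrime] (I : Ideal A) (K : Dual.D A) (c : ℤ)
    [K.IsGE c] (i : ℤ) :
    LocalizedModule p.primeCompl (Dual.inD A (A ⧸ I) ⟶ K⟦i⟧) ≃
      (Dual.inD (Localization.AtPrime p)
        (Localization.AtPrime p ⧸ I.map (algebraMap A (Localization.AtPrime p))) ⟶
        ((flatBC A (Localization.AtPrime p)).obj K)⟦i⟧) :=
  ((LocalizedModule.equivTensorProduct p.primeCompl _).toEquiv.trans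
    (Equiv.ofBijective _ (bijective_bcHom_shift (Localization.AtPrime p) (Dual.inD A (A ⧸ I))
      ((isPseudoCoherentModule'_iff_of_isNoetherianRing (A ⧸ I)).2 inferInstance) K c i))).trans
    (Iso.homCongr (inDQuotMapIso A (Localization.AtPrime p) I).symm
      (flatBCShiftIso (Localization.AtPrime p) K i))

end Bridge

section KrullDim

/-- A strictly monotone integer-valued function with values in `[a, b]` bounds the Krull
dimension. -/
lemma krullDim_lt_top_of_strictMono {α : Type*} [Preorder α] (T : α → ℤ) (hT : StrictMono T)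
    (a b : ℤ) (hab : ∀ x, a ≤ T x ∧ T x ≤ b) : Order.krullDim α < ⊤ := by
  have key : ∀ s : LTSeries α, (s.length : ℤ) ≤ b - a := by
    intro s
    have h1 : ∀ (k : ℕ) (hk : k < s.length + 1), T (s ⟨0, by omega⟩) + k ≤ T (s ⟨k, hk⟩) := by
      intro k
      induction k with
      | zero => intro hk; simp
      | succ k ih =>
        intro hk
        have hlt : s ⟨k, by omega⟩ < s ⟨k + 1, hk⟩ := s.strictMono (by
          rw [Fin.lt_def]
          simp)
        have := hT hlt
        have := ih (by omega)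
        push_cast
        omega
    have h2 := h1 s.length (by omega)
    have h3 := (hab (s ⟨0, by omega⟩)).1
    have h4 := (hab (s ⟨s.length, by omega⟩)).2
    omega
  have hle : Order.krullDim α ≤ ((b - a).toNat : ℕ∞) := by
    unfold Order.krullDim
    refine iSup_le (fun s => ?_)
    have := key s
    have h5 : s.length ≤ (b - a).toNat := by omega
    exact_mod_cast h5
  exact lt_of_le_of_lt hle (WithBot.coe_lt_coe.2 (ENat.natCast_lt_top _))

end KrullDim

section Main

variable (A : Type u) [CommRing A] [IsNoetherianRing A]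

/-- A Noetherian ring with a dualizing complex has finite Krull dimension. -/
theorem ringKrullDim_lt_top_of_isDualizing (ω : Dual.D A) (hω : Dual.IsDualizing A ω) :
    ringKrullDim A < ⊤ := by
  obtain ⟨hA, ⟨a, b, h2⟩, h3, h4, h5⟩ := id hω
  have hvan : ∀ i : ℤ, i < a → Subsingleton (Dual.HD A ω i) := fun i hi =>
    ModuleCat.subsingleton_of_isZero (isZero_HD_of_subsingleton_ext ω i (h2 A i (Or.inl hi)))
  have hGE : ω.IsGE a := isGE_of_subsingleton_HD ω a hvan
  let S : PrimeSpectrum A → ℤ → Prop := fun p i =>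
    p ∈ Module.support A (Dual.inD A (A ⧸ p.asIdeal) ⟶ ω⟦i⟧)
  have hS_bound : ∀ p i, S p i → a ≤ i ∧ i ≤ b := by
    intro p i hS
    by_contra hcon
    have hsub : Subsingleton (Dual.inD A (A ⧸ p.asIdeal) ⟶ ω⟦i⟧) := h2 _ i (by omega)
    have : Subsingleton (LocalizedModule p.asIdeal.primeCompl
        (Dual.inD A (A ⧸ p.asIdeal) ⟶ ω⟦i⟧)) := inferInstance
    exact (Module.notMem_support_iff.2 this) hS
  have hS_ex : ∀ p : PrimeSpectrum A, ∃ i, S p i := by
    intro p
    have hd := isDualizing_flatBC_localization A p.asIdeal.primeCompl ω hω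
    obtain ⟨n, -, ⟨e⟩⟩ := ext_residue (Localization.AtPrime p.asIdeal) _ hd
      (IsLocalRing.maximalIdeal (Localization.AtPrime p.asIdeal))
    have hnt : Nontrivial (Localization.AtPrime p.asIdeal ⧸
        IsLocalRing.maximalIdeal (Localization.AtPrime p.asIdeal)) :=
      Ideal.Quotient.nontrivial_iff.2 (IsLocalRing.maximalIdeal.isMaximal _).ne_top
    have h1 : Nontrivial (Dual.inD (Localization.AtPrime p.asIdeal)
        (Localization.AtPrime p.asIdeal ⧸
          IsLocalRing.maximalIdeal (Localization.AtPrime p.asIdeal)) ⟶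
        ((flatBC A (Localization.AtPrime p.asIdeal)).obj ω)⟦n⟧) := e.toEquiv.nontrivial
    have hmax : p.asIdeal.map (algebraMap A (Localization.AtPrime p.asIdeal)) =
        IsLocalRing.maximalIdeal (Localization.AtPrime p.asIdeal) :=
      Localization.AtPrime.map_eq_maximalIdeal
    rw [← hmax] at h1
    exact ⟨n, Module.mem_support_iff.2 (locHomEquiv A p.asIdeal p.asIdeal ω a n).nontrivial⟩
  have hstep : ∀ (p q : PrimeSpectrum A), p < q → ∀ t : ℤ, (∀ j, t < j → ¬ S q j) →
      ∀ j, t ≤ j → ¬ S p j := by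
    intro p q hpq t ht j hj hSp
    have hd := isDualizing_flatBC_localization A q.asIdeal.primeCompl ω hω
    have hGEq : ((flatBC A (Localization.AtPrime q.asIdeal)).obj ω).IsGE a :=
      isGE_flatBC (Localization.AtPrime q.asIdeal) ω a
    have hmax : q.asIdeal.map (algebraMap A (Localization.AtPrime q.asIdeal)) =
        IsLocalRing.maximalIdeal (Localization.AtPrime q.asIdeal) :=
      Localization.AtPrime.map_eq_maximalIdeal
    have h1 : ∀ j' : ℤ, t < j' → Subsingleton (Dual.inD (Localization.AtPrime q.asIdeal)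
        (Localization.AtPrime q.asIdeal ⧸
          IsLocalRing.maximalIdeal (Localization.AtPrime q.asIdeal)) ⟶
        ((flatBC A (Localization.AtPrime q.asIdeal)).obj ω)⟦j'⟧) := by
      intro j' hj'
      have h0 : Subsingleton (LocalizedModule q.asIdeal.primeCompl
          (Dual.inD A (A ⧸ q.asIdeal) ⟶ ω⟦j'⟧)) := Module.notMem_support_iff.1 (ht j' hj')
      have h0' := (locHomEquiv A q.asIdeal q.asIdeal ω a j').symm.subsingleton
      rw [hmax] at h0'
      exact h0'
    have hdisj : Disjoint (q.asIdeal.primeCompl : Set A) (p.asIdeal : Set A) := by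
      rw [Set.disjoint_left]
      intro x hx hxp
      exact hx ((le_of_lt hpq : p ≤ q) hxp)
    have hp'prime : (p.asIdeal.map (algebraMap A (Localization.AtPrime q.asIdeal))).IsPrime :=
      IsLocalization.isPrime_of_isPrime_disjoint q.asIdeal.primeCompl _ p.asIdeal p.isPrime hdisj
    have hp'ne : p.asIdeal.map (algebraMap A (Localization.AtPrime q.asIdeal)) ≠
        IsLocalRing.maximalIdeal (Localization.AtPrime q.asIdeal) := by
      intro heq
      have e1 := IsLocalization.under_map_of_isPrime_disjoint q.asIdeal.primeCompl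
        (Localization.AtPrime q.asIdeal) p.isPrime hdisj
      have e2 : (IsLocalRing.maximalIdeal (Localization.AtPrime q.asIdeal)).under A =
          q.asIdeal := Localization.AtPrime.under_maximalIdeal
      rw [heq, e2] at e1
      exact (ne_of_lt hpq) (PrimeSpectrum.ext e1.symm)
    have h3' := subsingleton_hom_quot_prime_of_gt
      ((flatBC A (Localization.AtPrime q.asIdeal)).obj ω) a hd.finite_cohomology t h1
      (p.asIdeal.map (algebraMap A (Localization.AtPrime q.asIdeal))) hp'ne j hj
    have h4' : Subsingleton (LocalizedModule q.asIdeal.primeCompl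
        (Dual.inD A (A ⧸ p.asIdeal) ⟶ ω⟦j⟧)) :=
      (locHomEquiv A q.asIdeal p.asIdeal ω a j).subsingleton
    exact (Module.notMem_support_iff.2 h4') (Module.mem_support_mono (le_of_lt hpq) hSp)
  have hT : ∀ p : PrimeSpectrum A, ∃ i, S p i ∧ ∀ j, i < j → ¬ S p j := by
    intro p
    obtain ⟨i, hi, hmax⟩ := Int.exists_greatest_of_bdd
      (P := fun i => S p i) ⟨b, fun i hi => (hS_bound p i hi).2⟩ (hS_ex p)
    exact ⟨i, hi, fun j hj hSj => not_lt.2 (hmax j hSj) hj⟩
  choose T hT1 hT2 using hT
  have hmono : StrictMono T := by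
    intro p q hpq
    by_contra hcon
    exact hstep p q hpq (T q) (hT2 q) (T p) (not_lt.1 hcon) (hT1 p)
  exact krullDim_lt_top_of_strictMono T hmono a b (fun p => hS_bound p _ (hT1 p))

end Main

end Groth.Agent.Lib.Helper13.DualBC
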