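import Groth.Agent.Lib.Helper13.DualBC15
import Groth.Agent.Lib.Helper18.CM2
import Groth.Agent.Lib.Helper18.FlatDepth

/-!
# Depth via `Ext` into a normalized dualizing complex
-/

set_option autoImplicit false
set_option linter.unusedSectionVars false

open CategoryTheory CategoryTheory.Limits Pretriangulated TensorProduct Pointwise

universe u

namespace Groth.Agent.Lib.Helper13.DualBC

open DerivedCategory Groth.Agent.Lib.Helper13.Coind Groth.Agent.Lib.Helper13.PC
  Groth.Agent.Lib.Helper13.DR Groth.Agent.Lib.Helper13.Shriek Groth.Agent.Lib.Helper13.BD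
  Groth.Agent.Lib.Helper13.HomBC

attribute [local instance] HasDerivedCategory.standard

section RegSC

variable {A : Type u} [CommRing A]

/-- The short complex `M --x--> M → M/xM`. -/
noncomputable def regSC (M : Type u) [AddCommGroup M] [Module A M] (x : A) :
    ShortComplex (ModuleCat.{u} A) :=
  ShortComplex.mk (ModuleCat.ofHom (x • LinearMap.id) : ModuleCat.of A M ⟶ ModuleCat.of A M)
    (ModuleCat.ofHom (x • (⊤ : Submodule A M)).mkQ :
      ModuleCat.of A M ⟶ ModuleCat.of A (QuotSMulTop x M))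
    (by
      refine ModuleCat.hom_ext (LinearMap.ext fun y => ?_)
      change (x • (⊤ : Submodule A M)).mkQ (x • y) = 0
      rw [Submodule.mkQ_apply, Submodule.Quotient.mk_eq_zero]
      exact Submodule.smul_mem_pointwise_smul y x ⊤ Submodule.mem_top)

lemma regSC_shortExact (M : Type u) [AddCommGroup M] [Module A M] (x : A)
    (hreg : IsSMulRegular M x) : (regSC M x).ShortExact := by
  refine { exact := ?_, mono_f := ?_, epi_g := ?_ }
  · rw [ShortComplex.ShortExact.moduleCat_exact_iff_function_exact]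
    intro y
    change (x • (⊤ : Submodule A M)).mkQ y = 0 ↔ y ∈ Set.range (fun z : M => x • z)
    rw [Submodule.mkQ_apply, Submodule.Quotient.mk_eq_zero,
      Submodule.mem_smul_pointwise_iff_exists]
    constructor
    · rintro ⟨b, -, hb⟩
      exact ⟨b, hb⟩
    · rintro ⟨b, hb⟩
      exact ⟨b, Submodule.mem_top, hb⟩
  · rw [ModuleCat.mono_iff_injective]
    exact hreg
  · rw [ModuleCat.epi_iff_surjective]
    exact (x • (⊤ : Submodule A M)).mkQ_surjective

lemma regSC_f_map (M : Type u) [AddCommGroup M] [Module A M] (x : A) :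
    (DerivedCategory.singleFunctor (ModuleCat.{u} A) 0).map
      (ModuleCat.ofHom (x • LinearMap.id) : ModuleCat.of A M ⟶ ModuleCat.of A M) =
      x • 𝟙 (Dual.inD A M) := by
  have : (ModuleCat.ofHom (x • LinearMap.id) : ModuleCat.of A M ⟶ ModuleCat.of A M) =
      x • 𝟙 (ModuleCat.of A M) := rfl
  rw [this, Functor.map_smul, CategoryTheory.Functor.map_id]

/-- Surjectivity of multiplication by `x` on `Ext^i(M, W)` when `Ext^{i+1}(M/xM, W) = 0`. -/
lemma reg_surj (M : Type u) [AddCommGroup M] [Module A M] (x : A) (hreg : IsSMulRegular M x)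
    (W : Dual.D A) (i i' : ℤ) (hi : i + 1 = i')
    (h : Subsingleton (Dual.inD A (QuotSMulTop x M) ⟶ W⟦i'⟧)) (z : Dual.inD A M ⟶ W⟦i⟧) :
    ∃ f : Dual.inD A M ⟶ W⟦i⟧, z = x • f := by
  have hS := regSC_shortExact M x hreg
  obtain ⟨g, hg⟩ := yo_surj _ W hS.singleTriangle_distinguished i i' hi h z
  have hg' : z = (DerivedCategory.singleFunctor (ModuleCat.{u} A) 0).map
      (ModuleCat.ofHom (x • LinearMap.id) : ModuleCat.of A M ⟶ ModuleCat.of A M) ≫
      (show Dual.inD A M ⟶ W⟦i⟧ from g) := hg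
  rw [regSC_f_map, Linear.smul_comp, Category.id_comp] at hg'
  exact ⟨g, hg'⟩

/-- `Ext^{i+1}(M/xM, W)` nonzero and `Ext^{i+1}(M, W) = 0` implies `Ext^i(M, W)` nonzero. -/
lemma reg_nontrivial (M : Type u) [AddCommGroup M] [Module A M] (x : A)
    (hreg : IsSMulRegular M x) (W : Dual.D A) (i i' : ℤ) (hi : i + 1 = i')
    (h : Subsingleton (Dual.inD A M ⟶ W⟦i'⟧))
    (hnt : Nontrivial (Dual.inD A (QuotSMulTop x M) ⟶ W⟦i'⟧)) :
    Nontrivial (Dual.inD A M ⟶ W⟦i⟧) := by
  have hS := regSC_shortExact M x hreg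
  by_contra hcon
  rw [not_nontrivial_iff_subsingleton] at hcon
  have : Subsingleton (Dual.inD A (QuotSMulTop x M) ⟶ W⟦i'⟧) := by
    refine ⟨fun y y' => ?_⟩
    suffices H : ∀ y : Dual.inD A (QuotSMulTop x M) ⟶ W⟦i'⟧, y = 0 by rw [H y, H y']
    intro y
    exact yo_inj _ W hS.singleTriangle_distinguished i' i hi hcon y (h.elim _ _)
  exact not_subsingleton _ this

end RegSC

section Nak

variable {A : Type u} [CommRing A] [IsLocalRing A]

lemma subsingleton_of_smul_surj {E : Type*} [AddCommGroup E] [Module A E] [Module.Finite A E]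
    (x : A) (hx : x ∈ IsLocalRing.maximalIdeal A) (h : ∀ z : E, ∃ f : E, z = x • f) :
    Subsingleton E := by
  have hsurj : (⊤ : Submodule A E) ≤ Ideal.span {x} • (⊤ : Submodule A E) := by
    intro z _
    obtain ⟨f, rfl⟩ := h z
    exact Submodule.smul_mem_smul (Ideal.subset_span rfl) Submodule.mem_top
  have hjac : Ideal.span {x} ≤ (⊥ : Ideal A).jacobson := by
    rw [IsLocalRing.jacobson_eq_maximalIdeal ⊥ bot_ne_top]
    exact (Ideal.span_singleton_le_iff_mem _).2 hx
  have htop := Submodule.eq_bot_of_le_smul_of_le_jacobson_bot (Ideal.span {x}) ⊤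
    (Module.finite_def.1 inferInstance) hsurj hjac
  exact ⟨fun f g => by
    have hf : f ∈ (⊤ : Submodule A E) := Submodule.mem_top
    have hg : g ∈ (⊤ : Submodule A E) := Submodule.mem_top
    rw [htop, Submodule.mem_bot] at hf hg
    rw [hf, hg]⟩

end Nak

section Main

variable {A : Type u} [CommRing A] [IsLocalRing A] [IsNoetherianRing A]

/-- `Ext^i(N, ω) = 0` for `i > 0`, `ω` a normalized dualizing complex. -/
lemma subsingleton_ext_pos (ω : Dual.D A) (hω : Dual.IsDualizing A ω)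
    (hn : Dual.IsNormalized A ω) (N : Type u) [AddCommGroup N] [Module A N] (i : ℤ) (hi : 0 < i) :
    Subsingleton (Dual.inD A N ⟶ ω⟦i⟧) := by
  obtain ⟨c, hc⟩ := exists_isGE_of_isDualizing ω hω
  have hamp := hasInjAmplitudeIn_of_maximal ω c hω.finite_cohomology 0 (fun m hm j hj => by
    rw [IsLocalRing.eq_maximalIdeal hm]
    exact hn j (by omega))
  exact ext_subsingleton_of_hasInjAmplitudeIn ω c 0 hamp N i (Or.inr hi)

lemma finite_ext (ω : Dual.D A) (hω : Dual.IsDualizing A ω) (M : Type u) [AddCommGroup M]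
    [Module A M] [Module.Finite A M] (i : ℤ) : Module.Finite A (Dual.inD A M ⟶ ω⟦i⟧) := by
  obtain ⟨c, hc⟩ := exists_isGE_of_isDualizing ω hω
  have hpcI : DRing.IsPseudoCoherent' A (Dual.inD A M) :=
    (isPseudoCoherentModule'_iff_of_isNoetherianRing M).2 inferInstance
  have hGE : (ω⟦i⟧).IsGE (c - i) := TStructure.t.isGE_shift ω c i (c - i) (by omega)
  exact FC.finite_hom_of_isGE hpcI 0 (ω⟦i⟧) (c - i) (finite_HD_shift ω hω.finite_cohomology i)

/-- A socle element gives a nonzero map `M → ω`. -/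
lemma nontrivial_hom_of_socle (ω : Dual.D A) (hω : Dual.IsDualizing A ω)
    (hn : Dual.IsNormalized A ω) (M : Type u) [AddCommGroup M] [Module A M] (z : M) (hz0 : z ≠ 0)
    (hz : ∀ a ∈ IsLocalRing.maximalIdeal A, a • z = 0) :
    Nontrivial (Dual.inD A M ⟶ ω⟦(0 : ℤ)⟧) := by
  let φ : A →ₗ[A] M := LinearMap.toSpanSingleton A M z
  have hker : LinearMap.ker φ = IsLocalRing.maximalIdeal A := by
    refine le_antisymm ?_ (fun a ha => ?_)
    · refine IsLocalRing.le_maximalIdeal (fun htop => hz0 ?_)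
      have h1 : (1 : A) ∈ LinearMap.ker φ := by rw [htop]; exact Submodule.mem_top
      have h2 : φ 1 = 0 := h1
      simpa [φ] using h2
    · change φ a = 0
      simpa [φ] using hz a ha
  let N : Submodule A M := LinearMap.range φ
  let e : (A ⧸ IsLocalRing.maximalIdeal A) ≃ₗ[A] N :=
    (Submodule.quotEquivOfEq _ _ hker.symm).trans φ.quotKerEquivRange
  obtain ⟨ε⟩ := ext_residue_normalized A ω hω hn
  have hnt0 : Nontrivial (A ⧸ IsLocalRing.maximalIdeal A) :=
    Ideal.Quotient.nontrivial_iff.2 (IsLocalRing.maximalIdeal.isMaximal A).ne_top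
  have h1 : Nontrivial (Dual.inD A (A ⧸ IsLocalRing.maximalIdeal A) ⟶ ω⟦(0 : ℤ)⟧) :=
    ε.toEquiv.nontrivial
  have h2 : Nontrivial (Dual.inD A N ⟶ ω⟦(0 : ℤ)⟧) :=
    (Iso.homCongr ((DerivedCategory.singleFunctor (ModuleCat.{u} A) 0).mapIso
      e.toModuleIso) (Iso.refl (ω⟦(0 : ℤ)⟧))).symm.nontrivial
  have hS := subSC_shortExact N
  by_contra hcon
  rw [not_nontrivial_iff_subsingleton] at hcon
  have : Subsingleton (Dual.inD A N ⟶ ω⟦(0 : ℤ)⟧) := by
    refine ⟨fun y y' => ?_⟩
    suffices H : ∀ y : Dual.inD A N ⟶ ω⟦(0 : ℤ)⟧, y = 0 by rw [H y, H y']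
    intro y
    obtain ⟨g, hg⟩ := yo_surj _ ω hS.singleTriangle_distinguished 0 1 rfl
      (subsingleton_ext_pos ω hω hn (M ⧸ N) 1 one_pos) y
    have hg0 : g = 0 := hcon.elim g 0
    rw [hg, hg0]
    exact comp_zero
  exact not_subsingleton _ this

/-- The main induction: for `M` of depth `n`, `Ext^{-δ}(M, ω) = 0` for `δ < n` and
`Ext^{-n}(M, ω) ≠ 0`. -/
theorem depth_ext_aux (ω : Dual.D A) (hω : Dual.IsDualizing A ω) (hn : Dual.IsNormalized A ω) :
    ∀ (n : ℕ) (M : Type u) [AddCommGroup M] [Module A M] [Module.Finite A M] [Nontrivial M],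
      LocCoh.depth A M = n →
      (∀ δ : ℕ, δ < n → Subsingleton (Dual.inD A M ⟶ ω⟦(-(δ : ℤ))⟧)) ∧
        Nontrivial (Dual.inD A M ⟶ ω⟦(-(n : ℤ))⟧) := by
  intro n
  induction n with
  | zero =>
    intro M _ _ _ _ h
    refine ⟨fun δ hδ => absurd hδ (Nat.not_lt_zero δ), ?_⟩
    obtain ⟨z, hz0, hz⟩ := (Groth.Agent.Lib.Helper18.CM.depth_eq_zero_iff_exists_socle M).1
      (by simpa using h)
    have := nontrivial_hom_of_socle ω hω hn M z hz0 hz
    simpa using this
  | succ n ih =>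
    intro M _ _ _ _ h
    obtain ⟨x, hx, hreg⟩ := (Groth.Agent.Lib.Helper18.CM.one_le_depth_iff M).1 (by
      rw [h]
      exact_mod_cast Nat.succ_le_succ (Nat.zero_le n))
    have hQnt : Nontrivial (QuotSMulTop x M) :=
      Groth.Agent.Lib.Helper18.CM.nontrivial_quotSMulTop M hx
    have hQd : LocCoh.depth A (QuotSMulTop x M) = n := by
      have h1 := Groth.Agent.Lib.Helper18.CM.depth_quotSMulTop M hx hreg
      rw [h] at h1
      push_cast at h1
      exact ENat.add_left_injective_of_ne_top ENat.one_ne_top h1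
    obtain ⟨ih1, ih2⟩ := ih (QuotSMulTop x M) hQd
    have hvan : ∀ δ : ℕ, δ < n + 1 → Subsingleton (Dual.inD A M ⟶ ω⟦(-(δ : ℤ))⟧) := by
      intro δ hδ
      have hfin := finite_ext ω hω M (-(δ : ℤ))
      refine subsingleton_of_smul_surj x hx (fun z => ?_)
      refine reg_surj M x hreg ω (-(δ : ℤ)) (-(δ : ℤ) + 1) rfl ?_ z
      rcases Nat.eq_zero_or_pos δ with rfl | hpos
      · exact subsingleton_ext_pos ω hω hn _ _ (by simp)
      · have := ih1 (δ - 1) (by omega)
        have he : (-(δ : ℤ) + 1) = -((δ - 1 : ℕ) : ℤ) := by omega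
        rw [he]
        exact this
    refine ⟨hvan, ?_⟩
    refine reg_nontrivial M x hreg ω (-((n + 1 : ℕ) : ℤ)) (-(n : ℤ)) (by push_cast; omega)
      (hvan n (Nat.lt_succ_self n)) ih2

end Main

end Groth.Agent.Lib.Helper13.DualBC
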