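import Groth.Agent.Lib.Helper13.DualBC16
import Mathlib.RingTheory.KrullDimension.Regular
import Mathlib.RingTheory.Ideal.AssociatedPrime.Finiteness

/-!
# Vanishing range and support dimension of `Ext^i(M, ω)` for a normalized dualizing complex
-/

set_option autoImplicit false
set_option linter.unusedSectionVars false

open CategoryTheory CategoryTheory.Limits Pretriangulated TensorProduct Pointwise

universe u

namespace Groth.Agent.Lib.Helper13.DualBC

open DerivedCategory Groth.Agent.Lib.Helper13.Coind Groth.Agent.Lib.Helper13.PC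
  Groth.Agent.Lib.Helper13.DR Groth.Agent.Lib.Helper13.Shriek Groth.Agent.Lib.Helper13.BD
  Groth.Agent.Lib.Helper13.HomBC

attribute [local instance] HasDerivedCategory.standard

section Supp

variable {A : Type u} [CommRing A]

lemma support_subset_of_exact_mid {E₁ E₂ E₃ : Type*} [AddCommGroup E₁] [Module A E₁]
    [AddCommGroup E₂] [Module A E₂] [AddCommGroup E₃] [Module A E₃] (f : E₁ →ₗ[A] E₂)
    (g : E₂ →ₗ[A] E₃) (h : ∀ y, g y = 0 → ∃ z, f z = y) :
    Module.support A E₂ ⊆ Module.support A E₁ ∪ Module.support A E₃ := by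
  intro p hp
  by_contra hcon
  rw [Set.mem_union, not_or] at hcon
  obtain ⟨h1, h3⟩ := hcon
  rw [Module.notMem_support_iff'] at h1 h3
  refine (Module.notMem_support_iff'.2 (fun y => ?_)) hp
  obtain ⟨r, hr, hr0⟩ := h3 (g y)
  rw [← map_smul] at hr0
  obtain ⟨z, hz⟩ := h _ hr0
  obtain ⟨s, hs, hs0⟩ := h1 z
  refine ⟨s * r, fun hsr => (p.isPrime.mem_or_mem hsr).elim hs hr, ?_⟩
  rw [mul_smul, ← hz, ← map_smul, hs0, map_zero]

lemma supportDim_le_of_support_subset_union {E₁ E₂ E₃ : Type (u + 1)} [AddCommGroup E₁] [Module A E₁]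
    [AddCommGroup E₂] [Module A E₂] [AddCommGroup E₃] [Module A E₃]
    (h : Module.support A E₂ ⊆ Module.support A E₁ ∪ Module.support A E₃) (k : WithBot ℕ∞)
    (h1 : Module.supportDim A E₁ ≤ k) (h3 : Module.supportDim A E₃ ≤ k) :
    Module.supportDim A E₂ ≤ k := by
  unfold Module.supportDim Order.krullDim
  refine iSup_le (fun q => ?_)
  have key : ∀ (E : Type _) [AddCommGroup E] [Module A E], Module.supportDim A E ≤ k →
      q.head.1 ∈ Module.support A E → (q.length : WithBot ℕ∞) ≤ k := by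
    intro E _ _ hE hmem
    let q' : LTSeries (Module.support A E) :=
      { length := q.length
        toFun := fun j => ⟨(q j).1, Module.mem_support_mono (LTSeries.head_le q j) hmem⟩
        step := fun j => q.step j }
    exact (Order.LTSeries.length_le_krullDim q').trans hE
  rcases h q.head.2 with hm | hm
  · exact key E₁ h1 hm
  · exact key E₃ h3 hm

end Supp

section Tri

variable {A : Type u} [CommRing A]

/-- The connecting map `Hom(T₁, W[i]) → Hom(T₃, W[i+1])`, as a linear map. -/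
noncomputable def yoδL (T : Triangle (Dual.D A)) (W : Dual.D A) (i i' : ℤ) (hi : i + 1 = i') :
    (T.obj₁ ⟶ W⟦i⟧) →ₗ[A] (T.obj₃ ⟶ W⟦i'⟧) where
  toFun y := T.mor₃ ≫ y⟦(1 : ℤ)⟧' ≫ (shiftFunctorAdd' (Dual.D A) i 1 i' hi).inv.app W
  map_add' y y' := by
    rw [Functor.map_add, Preadditive.add_comp, Preadditive.comp_add]
  map_smul' a y := by
    rw [Functor.map_smul, Linear.smul_comp, Linear.comp_smul]
    rfl

lemma yoδL_ker (T : Triangle (Dual.D A)) (hT : T ∈ distTriang (Dual.D A)) (W : Dual.D A)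
    (i i' : ℤ) (hi : i + 1 = i') (y : T.obj₁ ⟶ W⟦i⟧) (hy : yoδL T W i i' hi y = 0) :
    ∃ g : T.obj₂ ⟶ W⟦i⟧, y = T.mor₁ ≫ g := by
  have h1 : T.mor₃ ≫ y⟦(1 : ℤ)⟧' = 0 := by
    have h2 : (T.mor₃ ≫ y⟦(1 : ℤ)⟧') ≫ (shiftFunctorAdd' (Dual.D A) i 1 i' hi).inv.app W = 0 := by
      rw [Category.assoc]; exact hy
    rw [← cancel_mono ((shiftFunctorAdd' (Dual.D A) i 1 i' hi).inv.app W), h2, zero_comp]
  obtain ⟨g, hg⟩ := Triangle.yoneda_exact₃ _ (rot_of_distTriang _ hT) (y⟦(1 : ℤ)⟧') h1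
  obtain ⟨g', hg'⟩ : ∃ g' : T.obj₂⟦(1 : ℤ)⟧ ⟶ (W⟦i⟧)⟦(1 : ℤ)⟧,
      y⟦(1 : ℤ)⟧' = (-(T.mor₁⟦(1 : ℤ)⟧')) ≫ g' := ⟨g, hg⟩
  refine ⟨-(shiftFunctor (Dual.D A) (1 : ℤ)).preimage g', ?_⟩
  apply (shiftFunctor (Dual.D A) (1 : ℤ)).map_injective
  rw [hg', Functor.map_comp, Functor.map_neg, Functor.map_preimage, Preadditive.neg_comp,
    Preadditive.comp_neg]

end Tri

section Main

variable {A : Type u} [CommRing A] [IsLocalRing A] [IsNoetherianRing A]

/-- The vanishing/support statement for a module `N` and bound `d`. -/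
def ExtClaim (ω : Dual.D A) (N : Type u) [AddCommGroup N] [Module A N] (d : ℕ) : Prop :=
  ∀ i : ℤ, (i < -(d : ℤ) → Subsingleton (Dual.inD A N ⟶ ω⟦i⟧)) ∧
    Module.supportDim A (Dual.inD A N ⟶ ω⟦i⟧) ≤ ((-i).toNat : WithBot ℕ∞)

lemma extClaim_of_exact (ω : Dual.D A) (d : ℕ) {N₁ N₂ N₃ : Type u} [AddCommGroup N₁]
    [Module A N₁] [AddCommGroup N₂] [Module A N₂] [AddCommGroup N₃] [Module A N₃]
    (f : N₁ →ₗ[A] N₂) (g : N₂ →ₗ[A] N₃) (hf : Function.Injective f)
    (hg : Function.Surjective g) (hfg : Function.Exact f g) (h1 : ExtClaim ω N₁ d)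
    (h3 : ExtClaim ω N₃ d) : ExtClaim ω N₂ d := by
  let S : ShortComplex (ModuleCat.{u} A) :=
    ShortComplex.mk (ModuleCat.ofHom f : ModuleCat.of A N₁ ⟶ ModuleCat.of A N₂)
      (ModuleCat.ofHom g : ModuleCat.of A N₂ ⟶ ModuleCat.of A N₃)
      (ModuleCat.hom_ext (LinearMap.ext fun x => hfg.apply_apply_eq_zero x))
  have hS : S.ShortExact :=
    { exact := (ShortComplex.ShortExact.moduleCat_exact_iff_function_exact S).2 hfg
      mono_f := (ModuleCat.mono_iff_injective _).2 hf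
      epi_g := (ModuleCat.epi_iff_surjective _).2 hg }
  intro i
  have hT := hS.singleTriangle_distinguished
  let a₂ : (Dual.inD A N₃ ⟶ ω⟦i⟧) →ₗ[A] (Dual.inD A N₂ ⟶ ω⟦i⟧) :=
    Linear.leftComp A (ω⟦i⟧) hS.singleTriangle.mor₂
  let a₁ : (Dual.inD A N₂ ⟶ ω⟦i⟧) →ₗ[A] (Dual.inD A N₁ ⟶ ω⟦i⟧) :=
    Linear.leftComp A (ω⟦i⟧) hS.singleTriangle.mor₁
  have hex : ∀ y, a₁ y = 0 → ∃ z, a₂ z = y := fun y hy => by
    obtain ⟨z, hz⟩ := Triangle.yoneda_exact₂ _ hT y hy
    exact ⟨z, hz.symm⟩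
  refine ⟨fun hi => ?_, ?_⟩
  · have k1 := (h1 i).1 hi
    have k3 := (h3 i).1 hi
    refine ⟨fun y y' => ?_⟩
    suffices H : ∀ y : Dual.inD A N₂ ⟶ ω⟦i⟧, y = 0 by rw [H y, H y']
    intro y
    obtain ⟨z, hz⟩ := hex y (k1.elim _ _)
    rw [← hz, k3.elim z 0, map_zero]
  · exact supportDim_le_of_support_subset_union (support_subset_of_exact_mid a₂ a₁ hex) _
      (h3 i).2 (h1 i).2

lemma extClaim_of_subsingleton (ω : Dual.D A) (d : ℕ) (N : Type u) [AddCommGroup N]
    [Module A N] [Subsingleton N] : ExtClaim ω N d := by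
  intro i
  have := subsingleton_hom_inD_of_subsingleton N (ω⟦i⟧)
  refine ⟨fun _ => this, ?_⟩
  rw [Module.supportDim_eq_bot_of_subsingleton]
  exact bot_le

lemma extClaim_of_equiv_residue (ω : Dual.D A) (hω : Dual.IsDualizing A ω)
    (hn : Dual.IsNormalized A ω) (d : ℕ) (N : Type u) [AddCommGroup N] [Module A N]
    (e : N ≃ₗ[A] A ⧸ IsLocalRing.maximalIdeal A) : ExtClaim ω N d := by
  intro i
  let L : (Dual.inD A N ⟶ ω⟦i⟧) ≃ₗ[A]
      (Dual.inD A (A ⧸ IsLocalRing.maximalIdeal A) ⟶ ω⟦i⟧) :=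
    Linear.homCongr A ((DerivedCategory.singleFunctor (ModuleCat.{u} A) 0).mapIso
      e.toModuleIso) (Iso.refl _)
  by_cases hi : i = 0
  · subst hi
    refine ⟨fun h => absurd h (by omega), ?_⟩
    obtain ⟨ε⟩ := ext_residue_normalized A ω hω hn
    rw [Module.supportDim_eq_of_equiv (L.trans ε), Module.supportDim_quotient_eq_ringKrullDim]
    let _ := Ideal.Quotient.field (IsLocalRing.maximalIdeal A)
    rw [ringKrullDim_eq_zero_of_field]
    simp
  · have h0 : Subsingleton (Dual.inD A (A ⧸ IsLocalRing.maximalIdeal A) ⟶ ω⟦i⟧) := hn i hi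
    have hsub : Subsingleton (Dual.inD A N ⟶ ω⟦i⟧) := L.toEquiv.subsingleton
    refine ⟨fun _ => hsub, ?_⟩
    rw [Module.supportDim_eq_bot_of_subsingleton]
    exact bot_le

lemma extClaim_of_regular (ω : Dual.D A) (hω : Dual.IsDualizing A ω)
    (hn : Dual.IsNormalized A ω) (N : Type u) [AddCommGroup N] [Module A N] [Module.Finite A N]
    (x : A) (hx : x ∈ IsLocalRing.maximalIdeal A) (hreg : IsSMulRegular N x) (k d : ℕ)
    (hkd : k + 1 ≤ d) (hQ : ExtClaim ω (QuotSMulTop x N) k) : ExtClaim ω N d := by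
  intro i
  have hfin := finite_ext ω hω N i
  have hvan : Subsingleton (Dual.inD A (QuotSMulTop x N) ⟶ ω⟦i + 1⟧) →
      Subsingleton (Dual.inD A N ⟶ ω⟦i⟧) := fun h =>
    subsingleton_of_smul_surj x hx (fun z => reg_surj N x hreg ω i (i + 1) rfl h z)
  refine ⟨fun hi => hvan ((hQ (i + 1)).1 (by omega)), ?_⟩
  by_cases hi : 0 ≤ i
  · have := hvan (subsingleton_ext_pos ω hω hn (QuotSMulTop x N) (i + 1) (by omega))
    rw [Module.supportDim_eq_bot_of_subsingleton]
    exact bot_le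
  · have hS := regSC_shortExact N x hreg
    have hT := hS.singleTriangle_distinguished
    let δ : (Dual.inD A N ⟶ ω⟦i⟧) →ₗ[A] (Dual.inD A (QuotSMulTop x N) ⟶ ω⟦i + 1⟧) :=
      yoδL hS.singleTriangle ω i (i + 1) rfl
    have hm1 : ∀ g : Dual.inD A N ⟶ ω⟦i⟧, hS.singleTriangle.mor₁ ≫ g = x • g := by
      intro g
      have h1 : hS.singleTriangle.mor₁ ≫ g =
          (DerivedCategory.singleFunctor (ModuleCat.{u} A) 0).map
          (ModuleCat.ofHom (x • LinearMap.id) : ModuleCat.of A N ⟶ ModuleCat.of A N) ≫ g := rfl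
      rw [h1, regSC_f_map, Linear.smul_comp, Category.id_comp]
    have hle : x • (⊤ : Submodule A (Dual.inD A N ⟶ ω⟦i⟧)) ≤ LinearMap.ker δ := by
      intro y hy
      obtain ⟨y', -, rfl⟩ := (Submodule.mem_smul_pointwise_iff_exists _ _ _).1 hy
      rw [LinearMap.mem_ker, ← hm1]
      change hS.singleTriangle.mor₃ ≫ (hS.singleTriangle.mor₁ ≫ y')⟦(1 : ℤ)⟧' ≫ _ = 0
      rw [Functor.map_comp, Category.assoc, ← Category.assoc,
        comp_distTriang_mor_zero₃₁ _ hT, zero_comp]
    have hker : LinearMap.ker δ ≤ x • (⊤ : Submodule A (Dual.inD A N ⟶ ω⟦i⟧)) := by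
      intro y hy
      obtain ⟨g, hg⟩ := yoδL_ker _ hT ω i (i + 1) rfl y hy
      have hg' : y = x • (show Dual.inD A N ⟶ ω⟦i⟧ from g) := hg.trans (hm1 g)
      rw [hg']
      exact Submodule.smul_mem_pointwise_smul _ x ⊤ Submodule.mem_top
    let ι : QuotSMulTop x (Dual.inD A N ⟶ ω⟦i⟧) →ₗ[A]
        (Dual.inD A (QuotSMulTop x N) ⟶ ω⟦i + 1⟧) :=
      (x • (⊤ : Submodule A (Dual.inD A N ⟶ ω⟦i⟧))).liftQ δ hle
    have hι : Function.Injective ι :=
      LinearMap.ker_eq_bot.1 (Submodule.ker_liftQ_eq_bot _ _ _ hker)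
    calc Module.supportDim A (Dual.inD A N ⟶ ω⟦i⟧)
        ≤ Module.supportDim A (QuotSMulTop x (Dual.inD A N ⟶ ω⟦i⟧)) + 1 :=
          Module.supportDim_le_supportDim_quotSMulTop_succ hx
      _ ≤ Module.supportDim A (Dual.inD A (QuotSMulTop x N) ⟶ ω⟦i + 1⟧) + 1 :=
          add_le_add_left (Module.supportDim_le_of_injective ι hι) 1
      _ ≤ ((-(i + 1)).toNat : WithBot ℕ∞) + 1 := add_le_add_left (hQ (i + 1)).2 1
      _ = ((-i).toNat : WithBot ℕ∞) := by
          have : (-i).toNat = (-(i + 1)).toNat + 1 := by omega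
          rw [this]
          push_cast
          rfl

theorem extClaim (ω : Dual.D A) (hω : Dual.IsDualizing A ω) (hn : Dual.IsNormalized A ω) :
    ∀ (d : ℕ) (M : Type u) [AddCommGroup M] [Module A M] [Module.Finite A M],
      Module.supportDim A M ≤ (d : WithBot ℕ∞) → ExtClaim ω M d := by
  intro d
  induction d using Nat.strong_induction_on with
  | _ d ih =>
    intro M _ _ hfin
    induction hfin using IsNoetherianRing.induction_on_isQuotientEquivQuotientPrime A with
    | subsingleton N => exact fun _ => extClaim_of_subsingleton ω d N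
    | quotient N p e =>
      intro hd
      by_cases hpm : p.asIdeal = IsLocalRing.maximalIdeal A
      · exact extClaim_of_equiv_residue ω hω hn d N
          (e.trans (Submodule.quotEquivOfEq _ _ hpm))
      · obtain ⟨x, hxm, hxp⟩ := SetLike.exists_of_lt
          (lt_of_le_of_ne (IsLocalRing.le_maximalIdeal p.isPrime.ne_top) hpm)
        have hreg0 : IsSMulRegular (A ⧸ p.asIdeal) x := by
          intro a b hab
          obtain ⟨a, rfl⟩ := Submodule.Quotient.mk_surjective _ a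
          obtain ⟨b, rfl⟩ := Submodule.Quotient.mk_surjective _ b
          have h1 : Submodule.Quotient.mk (p := p.asIdeal) (x • a) =
              Submodule.Quotient.mk (x • b) := hab
          rw [Submodule.Quotient.eq] at h1 ⊢
          rw [← smul_sub, smul_eq_mul] at h1
          exact (p.isPrime.mem_or_mem h1).resolve_left hxp
        have hreg : IsSMulRegular N x :=
          (e.toEquiv.isSMulRegular_congr (fun y => by
            change e (x • y) = x • e y
            exact map_smul e x y)).2 hreg0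
        have hNnt : Nontrivial N := by
          have : Nontrivial (A ⧸ p.asIdeal) :=
            Ideal.Quotient.nontrivial_iff.2 p.isPrime.ne_top
          exact e.toEquiv.nontrivial
        have hQnt : Nontrivial (QuotSMulTop x N) :=
          Groth.Agent.Lib.Helper18.CM.nontrivial_quotSMulTop N hxm
        have hQ1 := Module.supportDim_quotSMulTop_succ_eq_supportDim hreg hxm
        obtain ⟨c, hc⟩ := WithBot.ne_bot_iff_exists.mp
          (Module.supportDim_ne_bot_of_nontrivial A (QuotSMulTop x N))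
        rw [← hc] at hQ1
        rw [← hQ1] at hd
        have hd' : c + 1 ≤ (d : ℕ∞) := by exact_mod_cast hd
        have hctop : c ≠ ⊤ := by
          rintro rfl
          simp at hd'
        obtain ⟨k, rfl⟩ := ENat.ne_top_iff_exists.mp hctop
        have hkd : k + 1 ≤ d := by exact_mod_cast hd'
        exact extClaim_of_regular ω hω hn N x hxm hreg k d hkd
          (ih k (by omega) (QuotSMulTop x N) (by rw [← hc]; exact le_rfl))
    | exact N₁ N₂ N₃ f g hf hg hfg h₁ h₃ =>
      intro hd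
      exact extClaim_of_exact ω d f g hf hg hfg
        (h₁ ((Module.supportDim_le_of_injective f hf).trans hd))
        (h₃ ((Module.supportDim_le_of_surjective g hg).trans hd))

end Main

end Groth.Agent.Lib.Helper13.DualBC
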