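import Groth.Agent.Lib.Helper13.DualBC17
import Groth.Agent.S0365

/-!
# The dimension function of a dualizing complex; Cohen–Macaulayness from a dualizing module
-/

set_option autoImplicit false
set_option linter.unusedSectionVars false

open CategoryTheory CategoryTheory.Limits Pretriangulated TensorProduct Pointwise

universe u

namespace Groth.Agent.Lib.Helper13.DualBC

open DerivedCategory Groth.Agent.Lib.Helper13.Coind Groth.Agent.Lib.Helper13.PC
  Groth.Agent.Lib.Helper13.DR Groth.Agent.Lib.Helper13.Shriek Groth.Agent.Lib.Helper13.BD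
  Groth.Agent.Lib.Helper13.HomBC

attribute [local instance] HasDerivedCategory.standard

section KrullDim

/-- A strictly monotone integer-valued function with values in `[a, b]` bounds the Krull
dimension by `b - a`. -/
lemma krullDim_le_of_strictMono_int {α : Type*} [Preorder α] (T : α → ℤ) (hT : StrictMono T)
    (a b : ℤ) (hab : ∀ x, a ≤ T x ∧ T x ≤ b) : Order.krullDim α ≤ ((b - a).toNat : ℕ∞) := by
  have key : ∀ s : LTSeries α, (s.length : ℤ) ≤ b - a := by
    intro s
    have h1 : ∀ (k : ℕ) (hk : k < s.length + 1), T (s ⟨0, by omega⟩) + k ≤ T (s ⟨k, hk⟩) := by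
      intro k
      induction k with
      | zero => intro hk; simp
      | succ k ih =>
        intro hk
        have hlt : s ⟨k, by omega⟩ < s ⟨k + 1, hk⟩ := s.strictMono (by
          rw [Fin.lt_def]
          simp)
        have := hT hlt
        have := ih (by omega)
        push_cast
        omega
    have h2 := h1 s.length (by omega)
    have h3 := (hab (s ⟨0, by omega⟩)).1
    have h4 := (hab (s ⟨s.length, by omega⟩)).2
    omega
  unfold Order.krullDim
  refine iSup_le (fun s => ?_)
  have := key s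
  have h5 : s.length ≤ (b - a).toNat := by omega
  exact_mod_cast h5

end KrullDim

section Top

variable (A : Type u) [CommRing A] [IsNoetherianRing A]

/-- The (top-degree) dimension function of a dualizing complex: a strictly monotone function `T`
on the spectrum with `p ∈ Supp Ext^{T p}(A/p, ω)` and `p ∉ Supp Ext^j(A/p, ω)` for `j > T p`. -/
theorem exists_strictMono_top (ω : Dual.D A) (hω : Dual.IsDualizing A ω) :
    ∃ T : PrimeSpectrum A → ℤ, StrictMono T ∧ ∀ p : PrimeSpectrum A,
      p ∈ Module.support A (Dual.inD A (A ⧸ p.asIdeal) ⟶ ω⟦T p⟧) ∧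
      ∀ j : ℤ, T p < j → p ∉ Module.support A (Dual.inD A (A ⧸ p.asIdeal) ⟶ ω⟦j⟧) := by
  obtain ⟨hA, ⟨a, b, h2⟩, h3, h4, h5⟩ := id hω
  have hvan : ∀ i : ℤ, i < a → Subsingleton (Dual.HD A ω i) := fun i hi =>
    ModuleCat.subsingleton_of_isZero (isZero_HD_of_subsingleton_ext ω i (h2 A i (Or.inl hi)))
  have hGE : ω.IsGE a := isGE_of_subsingleton_HD ω a hvan
  let S : PrimeSpectrum A → ℤ → Prop := fun p i =>
    p ∈ Module.support A (Dual.inD A (A ⧸ p.asIdeal) ⟶ ω⟦i⟧)
  have hS_bound : ∀ p i, S p i → a ≤ i ∧ i ≤ b := by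
    intro p i hS
    by_contra hcon
    have hsub : Subsingleton (Dual.inD A (A ⧸ p.asIdeal) ⟶ ω⟦i⟧) := h2 _ i (by omega)
    have : Subsingleton (LocalizedModule p.asIdeal.primeCompl
        (Dual.inD A (A ⧸ p.asIdeal) ⟶ ω⟦i⟧)) := inferInstance
    exact (Module.notMem_support_iff.2 this) hS
  have hS_ex : ∀ p : PrimeSpectrum A, ∃ i, S p i := by
    intro p
    have hd := isDualizing_flatBC_localization A p.asIdeal.primeCompl ω hω
    obtain ⟨n, -, ⟨e⟩⟩ := ext_residue (Localization.AtPrime p.asIdeal) _ hd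
      (IsLocalRing.maximalIdeal (Localization.AtPrime p.asIdeal))
    have hnt : Nontrivial (Localization.AtPrime p.asIdeal ⧸
        IsLocalRing.maximalIdeal (Localization.AtPrime p.asIdeal)) :=
      Ideal.Quotient.nontrivial_iff.2 (IsLocalRing.maximalIdeal.isMaximal _).ne_top
    have h1 : Nontrivial (Dual.inD (Localization.AtPrime p.asIdeal)
        (Localization.AtPrime p.asIdeal ⧸
          IsLocalRing.maximalIdeal (Localization.AtPrime p.asIdeal)) ⟶
        ((flatBC A (Localization.AtPrime p.asIdeal)).obj ω)⟦n⟧) := e.toEquiv.nontrivial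
    have hmax : p.asIdeal.map (algebraMap A (Localization.AtPrime p.asIdeal)) =
        IsLocalRing.maximalIdeal (Localization.AtPrime p.asIdeal) :=
      Localization.AtPrime.map_eq_maximalIdeal
    rw [← hmax] at h1
    exact ⟨n, Module.mem_support_iff.2 (locHomEquiv A p.asIdeal p.asIdeal ω a n).nontrivial⟩
  have hstep : ∀ (p q : PrimeSpectrum A), p < q → ∀ t : ℤ, (∀ j, t < j → ¬ S q j) →
      ∀ j, t ≤ j → ¬ S p j := by
    intro p q hpq t ht j hj hSp
    have hd := isDualizing_flatBC_localization A q.asIdeal.primeCompl ω hω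
    have hGEq : ((flatBC A (Localization.AtPrime q.asIdeal)).obj ω).IsGE a :=
      isGE_flatBC (Localization.AtPrime q.asIdeal) ω a
    have hmax : q.asIdeal.map (algebraMap A (Localization.AtPrime q.asIdeal)) =
        IsLocalRing.maximalIdeal (Localization.AtPrime q.asIdeal) :=
      Localization.AtPrime.map_eq_maximalIdeal
    have h1 : ∀ j' : ℤ, t < j' → Subsingleton (Dual.inD (Localization.AtPrime q.asIdeal)
        (Localization.AtPrime q.asIdeal ⧸
          IsLocalRing.maximalIdeal (Localization.AtPrime q.asIdeal)) ⟶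
        ((flatBC A (Localization.AtPrime q.asIdeal)).obj ω)⟦j'⟧) := by
      intro j' hj'
      have h0 : Subsingleton (LocalizedModule q.asIdeal.primeCompl
          (Dual.inD A (A ⧸ q.asIdeal) ⟶ ω⟦j'⟧)) := Module.notMem_support_iff.1 (ht j' hj')
      have h0' := (locHomEquiv A q.asIdeal q.asIdeal ω a j').symm.subsingleton
      rw [hmax] at h0'
      exact h0'
    have hdisj : Disjoint (q.asIdeal.primeCompl : Set A) (p.asIdeal : Set A) := by
      rw [Set.disjoint_left]
      intro x hx hxp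
      exact hx ((le_of_lt hpq : p ≤ q) hxp)
    have hp'prime : (p.asIdeal.map (algebraMap A (Localization.AtPrime q.asIdeal))).IsPrime :=
      IsLocalization.isPrime_of_isPrime_disjoint q.asIdeal.primeCompl _ p.asIdeal p.isPrime hdisj
    have hp'ne : p.asIdeal.map (algebraMap A (Localization.AtPrime q.asIdeal)) ≠
        IsLocalRing.maximalIdeal (Localization.AtPrime q.asIdeal) := by
      intro heq
      have e1 := IsLocalization.under_map_of_isPrime_disjoint q.asIdeal.primeCompl
        (Localization.AtPrime q.asIdeal) p.isPrime hdisj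
      have e2 : (IsLocalRing.maximalIdeal (Localization.AtPrime q.asIdeal)).under A =
          q.asIdeal := Localization.AtPrime.under_maximalIdeal
      rw [heq, e2] at e1
      exact (ne_of_lt hpq) (PrimeSpectrum.ext e1.symm)
    have h3' := subsingleton_hom_quot_prime_of_gt
      ((flatBC A (Localization.AtPrime q.asIdeal)).obj ω) a hd.finite_cohomology t h1
      (p.asIdeal.map (algebraMap A (Localization.AtPrime q.asIdeal))) hp'ne j hj
    have h4' : Subsingleton (LocalizedModule q.asIdeal.primeCompl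
        (Dual.inD A (A ⧸ p.asIdeal) ⟶ ω⟦j⟧)) :=
      (locHomEquiv A q.asIdeal p.asIdeal ω a j).subsingleton
    exact (Module.notMem_support_iff.2 h4') (Module.mem_support_mono (le_of_lt hpq) hSp)
  have hT : ∀ p : PrimeSpectrum A, ∃ i, S p i ∧ ∀ j, i < j → ¬ S p j := by
    intro p
    obtain ⟨i, hi, hmax⟩ := Int.exists_greatest_of_bdd
      (P := fun i => S p i) ⟨b, fun i hi => (hS_bound p i hi).2⟩ (hS_ex p)
    exact ⟨i, hi, fun j hj hSj => not_lt.2 (hmax j hSj) hj⟩
  choose T hT1 hT2 using hT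
  have hmono : StrictMono T := by
    intro p q hpq
    by_contra hcon
    exact hstep p q hpq (T q) (hT2 q) (T p) (not_lt.1 hcon) (hT1 p)
  exact ⟨T, hmono, fun p => ⟨hT1 p, hT2 p⟩⟩

end Top

section CM

variable {A : Type u} [CommRing A] [IsLocalRing A] [IsNoetherianRing A]

/-- Cohomology of a shift. -/
noncomputable def HDShiftEquiv (K : Dual.D A) (n j : ℤ) :
    Dual.HD A (K⟦n⟧) j ≃ Dual.HD A K (n + j) :=
  (show ((DerivedCategory.homologyFunctor (ModuleCat.{u} A) j).obj (K⟦n⟧)) ≃
      (((DerivedCategory.homologyFunctor (ModuleCat.{u} A) 0).shift (n + j)).obj K) from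
    (((DerivedCategory.homologyFunctor (ModuleCat.{u} A) 0).shiftIso n j (n + j) rfl).app
      K).toLinearEquiv.toEquiv)

lemma exists_normalized_shift (ω : Dual.D A) (hω : Dual.IsDualizing A ω) :
    ∃ n : ℤ, Dual.IsNormalized A (ω⟦n⟧) := by
  obtain ⟨n, h1, -⟩ := ext_residue A ω hω (IsLocalRing.maximalIdeal A)
  refine ⟨n, fun i hi => ?_⟩
  have := h1 (n + i) (by omega)
  exact (Iso.homCongr (Iso.refl (Dual.inD A (A ⧸ IsLocalRing.maximalIdeal A)))
    ((shiftFunctorAdd' (Dual.D A) n i (n + i) rfl).app ω).symm).subsingleton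

/-- A Noetherian local ring with a dualizing complex having a single nonzero cohomology module
is Cohen–Macaulay. -/
theorem supportDim_eq_depth_of_single_homology (ω : Dual.D A) (hω : Dual.IsDualizing A ω)
    (i₀ : ℤ) (h : ∀ j : ℤ, j ≠ i₀ → Subsingleton (Dual.HD A ω j)) :
    Module.supportDim A A = ((LocCoh.depth A A : ℕ∞) : WithBot ℕ∞) := by
  obtain ⟨n, hnorm⟩ := exists_normalized_shift ω hω
  have hω' := isDualizing_shift ω hω n
  obtain ⟨m₀, hm₀⟩ := ENat.ne_top_iff_exists.mp
    (Groth.Agent.Lib.Helper18.CM.depth_ne_top (R := A) A)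
  obtain ⟨-, h365⟩ := (Groth.Agent.S0365.result A (ω⟦n⟧) hω' hnorm m₀).1 hm₀.symm
  have hi₀ : n + -(m₀ : ℤ) = i₀ := by
    by_contra hne
    have := h _ hne
    have h2 : Nontrivial (Dual.HD A ω (n + -(m₀ : ℤ))) := (HDShiftEquiv ω n _).symm.nontrivial
    exact not_subsingleton _ this
  have hvan' : ∀ j : ℤ, j ≠ -(m₀ : ℤ) → Subsingleton (Dual.HD A (ω⟦n⟧) j) := fun j hj => by
    have := h (n + j) (by omega)
    exact (HDShiftEquiv ω n j).subsingleton
  have hGE : (ω⟦n⟧).IsGE (-(m₀ : ℤ)) :=
    isGE_of_subsingleton_HD (ω⟦n⟧) _ (fun i hi => hvan' i (by omega))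
  obtain ⟨T, hmono, hT⟩ := exists_strictMono_top A (ω⟦n⟧) hω'
  have hlow : ∀ p, -(m₀ : ℤ) ≤ T p := by
    intro p
    by_contra hlt
    push Not at hlt
    have hGE' : ((ω⟦n⟧)⟦T p⟧).IsGE (-(m₀ : ℤ) - T p) :=
      TStructure.t.isGE_shift (ω⟦n⟧) (-(m₀ : ℤ)) (T p) (-(m₀ : ℤ) - T p) (by omega)
    have hLE : (Dual.inD A (A ⧸ p.asIdeal)).IsLE 0 := inferInstance
    have hsub : Subsingleton (Dual.inD A (A ⧸ p.asIdeal) ⟶ (ω⟦n⟧)⟦T p⟧) :=
      ⟨fun f g => (TStructure.t.zero_of_isLE_of_isGE f 0 (-(m₀ : ℤ) - T p) (by omega)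
        hLE hGE').trans
        (TStructure.t.zero_of_isLE_of_isGE g 0 (-(m₀ : ℤ) - T p) (by omega) hLE hGE').symm⟩
    have : Subsingleton (LocalizedModule p.asIdeal.primeCompl
        (Dual.inD A (A ⧸ p.asIdeal) ⟶ (ω⟦n⟧)⟦T p⟧)) := inferInstance
    exact (Module.notMem_support_iff.2 this) (hT p).1
  have hclosed : T (IsLocalRing.closedPoint A) = 0 := by
    by_contra hne
    have hsub : Subsingleton (Dual.inD A (A ⧸ (IsLocalRing.closedPoint A).asIdeal) ⟶
        (ω⟦n⟧)⟦T (IsLocalRing.closedPoint A)⟧) := hnorm _ hne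
    have : Subsingleton (LocalizedModule (IsLocalRing.closedPoint A).asIdeal.primeCompl
        (Dual.inD A (A ⧸ (IsLocalRing.closedPoint A).asIdeal) ⟶
          (ω⟦n⟧)⟦T (IsLocalRing.closedPoint A)⟧)) := inferInstance
    exact (Module.notMem_support_iff.2 this) (hT _).1
  have hup : ∀ p, T p ≤ 0 := fun p => by
    rw [← hclosed]
    exact hmono.monotone
      (show p ≤ IsLocalRing.closedPoint A from IsLocalRing.le_maximalIdeal p.isPrime.ne_top)
  have hdim : ringKrullDim A ≤ ((m₀ : ℕ∞) : WithBot ℕ∞) := by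
    have := krullDim_le_of_strictMono_int T hmono (-(m₀ : ℤ)) 0 (fun p => ⟨hlow p, hup p⟩)
    have h0 : (0 - -(m₀ : ℤ)).toNat = m₀ := by omega
    rw [h0] at this
    exact this
  have hle := Groth.Agent.Lib.Helper18.CM.depth_le_supportDim (R := A) A
  rw [Module.supportDim_self_eq_ringKrullDim] at hle ⊢
  rw [← hm₀] at hle ⊢
  exact le_antisymm hdim hle

end CM

end Groth.Agent.Lib.Helper13.DualBC
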