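import Groth.Agent.Lib.Helper13.DualBC18
import Groth.Agent.S0368

/-!
# The Cohen–Macaulay locus of a Noetherian ring with a dualizing complex
-/

set_option autoImplicit false
set_option linter.unusedSectionVars false

open CategoryTheory CategoryTheory.Limits Pretriangulated TensorProduct Pointwise

universe u

namespace Groth.Agent.Lib.Helper13.DualBC

open DerivedCategory Groth.Agent.Lib.Helper13.Coind Groth.Agent.Lib.Helper13.PC
  Groth.Agent.Lib.Helper13.DR Groth.Agent.Lib.Helper13.Shriek Groth.Agent.Lib.Helper13.BD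
  Groth.Agent.Lib.Helper13.HomBC

attribute [local instance] HasDerivedCategory.standard

section Loc

variable (A : Type u) [CommRing A] [IsNoetherianRing A]

/-- Localization of cohomology modules. -/
noncomputable def locHDEquiv (p : Ideal A) [p.IsPrime] (ω : Dual.D A) (i : ℤ) :
    (LocalizedModule p.primeCompl (Dual.HD A ω i)) ≃
      (Dual.HD (Localization.AtPrime p) ((flatBC A (Localization.AtPrime p)).obj ω) i) :=
  ((LocalizedModule.equivTensorProduct p.primeCompl (Dual.HD A ω i)).toEquiv.trans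
      (extendScalarsEquiv (Localization.AtPrime p) _).symm.toEquiv).trans
      (flatBCHomologyIso A (Localization.AtPrime p) ω i).symm.toLinearEquiv.toEquiv

/-- The localization at `p` is Cohen–Macaulay iff the dualizing complex has a single nonzero
cohomology module at `p`. -/
theorem isCM_localization_iff (ω : Dual.D A) (hω : Dual.IsDualizing A ω) (p : PrimeSpectrum A) :
    LocCoh.IsCohenMacaulayLocalRing (Localization.AtPrime p.asIdeal) ↔
      ∃ i₀ : ℤ, ∀ j : ℤ, j ≠ i₀ → p ∉ Module.support A (Dual.HD A ω j) := by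
  have hd := isDualizing_flatBC_localization A p.asIdeal.primeCompl ω hω
  constructor
  · intro hCM
    obtain ⟨n, hnorm⟩ := exists_normalized_shift _ hd
    have hω' := isDualizing_shift _ hd n
    obtain ⟨m₀, hm₀⟩ := ENat.ne_top_iff_exists.mp
      (Groth.Agent.Lib.Helper18.CM.depth_ne_top (R := Localization.AtPrime p.asIdeal)
        (Localization.AtPrime p.asIdeal))
    have hsd : Module.supportDim (Localization.AtPrime p.asIdeal)
        (Localization.AtPrime p.asIdeal) = (m₀ : ℕ) := by
      rw [hCM.supportDim_eq_depth, ← hm₀]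
      rfl
    have h368 := (Groth.Agent.S0368.result (Localization.AtPrime p.asIdeal) _ hω' hnorm
      (Localization.AtPrime p.asIdeal) m₀ hsd).1 hCM.supportDim_eq_depth
    refine ⟨n - m₀, fun j hj => ?_⟩
    rw [Module.notMem_support_iff]
    have h1 := h368 (n - j) (by omega)
    have h2 := ModuleCat.subsingleton_of_isZero (isZero_HD_of_subsingleton_ext _ _ h1)
    have h3 : Subsingleton (Dual.HD (Localization.AtPrime p.asIdeal)
        ((flatBC A (Localization.AtPrime p.asIdeal)).obj ω) (n + -(n - j))) :=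
      (HDShiftEquiv _ n (-(n - j))).symm.subsingleton
    have h4 : n + -(n - j) = j := by omega
    rw [h4] at h3
    exact (locHDEquiv A p.asIdeal ω j).subsingleton
  · rintro ⟨i₀, h⟩
    refine { supportDim_eq_depth := ?_ }
    refine supportDim_eq_depth_of_single_homology _ hd i₀ (fun j hj => ?_)
    have := Module.notMem_support_iff.1 (h j hj)
    exact (locHDEquiv A p.asIdeal ω j).symm.subsingleton

theorem isOpen_cmLocus (ω : Dual.D A) (hω : Dual.IsDualizing A ω) :
    IsOpen {p : PrimeSpectrum A |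
      LocCoh.IsCohenMacaulayLocalRing (Localization.AtPrime p.asIdeal)} := by
  obtain ⟨hA, ⟨a, b, h2⟩, h3, h4, h5⟩ := id hω
  have hvan : ∀ i : ℤ, (i < a ∨ b < i) → Subsingleton (Dual.HD A ω i) := fun i hi =>
    ModuleCat.subsingleton_of_isZero (isZero_HD_of_subsingleton_ext ω i (h2 A i hi))
  rw [isOpen_iff_forall_mem_open]
  intro p hp
  obtain ⟨i₀, hi₀⟩ := (isCM_localization_iff A ω hω p).1 hp
  let Z : Set (PrimeSpectrum A) :=
    ⋃ j ∈ (Finset.Icc a b).erase i₀, Module.support A (Dual.HD A ω j)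
  have hZ : IsClosed Z := isClosed_biUnion_finset (fun j _ => by
    have := h3 j
    rw [Module.support_eq_zeroLocus]
    exact PrimeSpectrum.isClosed_zeroLocus _)
  refine ⟨Zᶜ, fun q hq => ?_, hZ.isOpen_compl, ?_⟩
  · refine (isCM_localization_iff A ω hω q).2 ⟨i₀, fun j hj hmem => ?_⟩
    by_cases hjab : a ≤ j ∧ j ≤ b
    · exact hq (Set.mem_iUnion₂.2 ⟨j, Finset.mem_erase.2 ⟨hj, Finset.mem_Icc.2 hjab⟩, hmem⟩)
    · have := hvan j (by omega)
      rw [Module.support_eq_empty] at hmem
      exact hmem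
  · intro hpZ
    obtain ⟨j, hj, hmem⟩ := Set.mem_iUnion₂.1 hpZ
    exact hi₀ j (Finset.mem_erase.1 hj).1 hmem

theorem dense_cmLocus (ω : Dual.D A) (hω : Dual.IsDualizing A ω) :
    Dense {p : PrimeSpectrum A |
      LocCoh.IsCohenMacaulayLocalRing (Localization.AtPrime p.asIdeal)} := by
  have hmin : ∀ (q : PrimeSpectrum A) (hq : q.asIdeal ∈ minimalPrimes A),
      LocCoh.IsCohenMacaulayLocalRing (Localization.AtPrime q.asIdeal) := by
    intro q hq
    obtain ⟨i₀, -, huniq⟩ := existsUnique_homology_minimalPrime A ω hω q.asIdeal hq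
    refine (isCM_localization_iff A ω hω _).2 ⟨i₀, fun j hj hmem => ?_⟩
    exact hj (huniq j (Module.mem_support_iff.1 hmem))
  rw [dense_iff_inter_open]
  rintro U hU ⟨q, hqU⟩
  obtain ⟨p, hp, hpq⟩ := Ideal.exists_minimalPrimes_le (bot_le : (⊥ : Ideal A) ≤ q.asIdeal)
  refine ⟨⟨p, hp.1.1⟩, ?_, hmin ⟨p, hp.1.1⟩ hp⟩
  have hspec : (⟨p, hp.1.1⟩ : PrimeSpectrum A) ⤳ q :=
    (PrimeSpectrum.le_iff_specializes _ _).1 hpq
  exact hspec.mem_open hU hqU

end Loc

end Groth.Agent.Lib.Helper13.DualBC
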