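import Groth.Agent.Lib.Helper13.DualBC16

/-!
# Vanishing of maps into complexes of bounded injective amplitude
-/

set_option autoImplicit false
set_option linter.unusedSectionVars false

open CategoryTheory CategoryTheory.Limits Pretriangulated TensorProduct Pointwise

universe u

namespace Groth.Agent.Lib.Helper13.DualBC

open DerivedCategory Groth.Agent.Lib.Helper13.Coind Groth.Agent.Lib.Helper13.PC
  Groth.Agent.Lib.Helper13.DR Groth.Agent.Lib.Helper13.Shriek Groth.Agent.Lib.Helper13.BD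
  Groth.Agent.Lib.Helper13.HomBC

attribute [local instance] HasDerivedCategory.standard

/-- Maps from `D^{≥ n}` to an object of injective amplitude `≤ b` shifted by `i > b - n` vanish. -/
lemma subsingleton_hom_of_isGE_of_hasInjAmplitudeIn {A : Type u} [CommRing A] (N K : Dual.D A)
    (n : ℤ) [N.IsGE n] (a b : ℤ) (hK : DRing.HasInjAmplitudeIn A a b K) (i : ℤ) (hi : b - n < i) :
    Subsingleton (N ⟶ K⟦i⟧) := by
  obtain ⟨E, hv, hE, ⟨e⟩⟩ := hK
  obtain ⟨N', hN', ⟨eN⟩⟩ := DerivedCategory.exists_iso_Q_obj_of_isGE N n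
  have hK' : (E⟦i⟧).IsKInjective := isKInjective_of_forall_injective (E⟦i⟧) (a - i)
    (fun p hp => hv (p + i) (Or.inl (by lia))) (fun p => (injective_iff _).2 (hE (p + i)))
  have key : ∀ x : (Q.obj N' : Dual.D A) ⟶ Q.obj (E⟦i⟧), x = 0 := by
    intro x
    obtain ⟨f, rfl⟩ := exists_Q_map_eq_of_isKInjective x
    have : f = 0 := by
      refine HomologicalComplex.hom_ext _ _ (fun p => ?_)
      by_cases hp : p < n
      · exact (CochainComplex.isZero_of_isStrictlyGE N' n p hp).eq_of_src _ _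
      · have hz : IsZero ((E⟦i⟧).X p) := hv (p + i) (Or.inr (by lia))
        exact hz.eq_of_tgt _ _
    rw [this, Functor.map_zero]
  refine ⟨fun x y => ?_⟩
  let ε : K⟦i⟧ ≅ Q.obj (E⟦i⟧) :=
    (shiftFunctor (Dual.D A) i).mapIso e.symm ≪≫ ((Q.commShiftIso i).app E).symm
  rw [← cancel_mono ε.hom, ← cancel_epi eN.inv, key (eN.inv ≫ x ≫ ε.hom),
    key (eN.inv ≫ y ≫ ε.hom)]

/-- A normalized dualizing complex over a local ring has injective amplitude `≤ 0`. -/
lemma hasInjAmplitudeIn_of_normalized {A : Type u} [CommRing A] [IsLocalRing A]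
    [IsNoetherianRing A] (ω : Dual.D A) (hω : Dual.IsDualizing A ω)
    (hn : Dual.IsNormalized A ω) : ∃ c : ℤ, DRing.HasInjAmplitudeIn A c 0 ω := by
  obtain ⟨c, hc⟩ := exists_isGE_of_isDualizing ω hω
  exact ⟨c, hasInjAmplitudeIn_of_maximal ω c hω.finite_cohomology 0 (fun m hm j hj => by
    rw [IsLocalRing.eq_maximalIdeal hm]
    exact hn j (by omega))⟩

end Groth.Agent.Lib.Helper13.DualBC
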