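import Groth.Agent.Lib.Helper13.DualBC18
import Groth.Prelude.Def_Found

/-!
# The dimension function of a dualizing complex is exact; catenarity
-/

set_option autoImplicit false
set_option linter.unusedSectionVars false

open CategoryTheory CategoryTheory.Limits Pretriangulated TensorProduct Pointwise

universe u

namespace Groth.Agent.Lib.Helper13.DualBC

open DerivedCategory Groth.Agent.Lib.Helper13.Coind Groth.Agent.Lib.Helper13.PC
  Groth.Agent.Lib.Helper13.DR Groth.Agent.Lib.Helper13.Shriek Groth.Agent.Lib.Helper13.BD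
  Groth.Agent.Lib.Helper13.HomBC

attribute [local instance] HasDerivedCategory.standard

section BcLinear

variable {A : Type u} (B : Type u) [CommRing A] [CommRing B] [Algebra A B] [Module.Flat A B]

/-- The base change comparison map as a `B`-linear map. -/
noncomputable def bcHomL (X Y : Dual.D A) :
    B ⊗[A] (X ⟶ Y) →ₗ[B] ((flatBC A B).obj X ⟶ (flatBC A B).obj Y) where
  toFun := bcHom B X Y
  map_add' := map_add _
  map_smul' b z := by
    induction z using TensorProduct.induction_on with
    | zero => simp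
    | tmul b' f =>
      rw [TensorProduct.smul_tmul', bcHom_tmul, bcHom_tmul, smul_eq_mul, mul_smul]
      rfl
    | add z w hz hw => rw [smul_add, map_add, map_add, hz, hw, smul_add]

end BcLinear

section Bridge

variable (A : Type u) [CommRing A] [IsNoetherianRing A]

/-- Localization of `Ext^i(A/I, K)` at a prime, linearly. -/
noncomputable def locHomLinearEquiv (p : Ideal A) [p.IsPrime] (I : Ideal A) (K : Dual.D A) (c : ℤ)
    [K.IsGE c] (i : ℤ) :
    LocalizedModule p.primeCompl (Dual.inD A (A ⧸ I) ⟶ K⟦i⟧) ≃ₗ[Localization.AtPrime p]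
      (Dual.inD (Localization.AtPrime p)
        (Localization.AtPrime p ⧸ I.map (algebraMap A (Localization.AtPrime p))) ⟶
        ((flatBC A (Localization.AtPrime p)).obj K)⟦i⟧) :=
  ((LocalizedModule.equivTensorProduct p.primeCompl _).trans
    (LinearEquiv.ofBijective (bcHomL (Localization.AtPrime p) (Dual.inD A (A ⧸ I)) (K⟦i⟧))
      (bijective_bcHom_shift (Localization.AtPrime p) (Dual.inD A (A ⧸ I))
      ((isPseudoCoherentModule'_iff_of_isNoetherianRing (A ⧸ I)).2 inferInstance) K c i))).trans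
    (Linear.homCongr (Localization.AtPrime p) (inDQuotMapIso A (Localization.AtPrime p) I).symm
      (flatBCShiftIso (Localization.AtPrime p) K i))

omit [IsNoetherianRing A] in
/-- Transfer of support membership from a localization. -/
lemma mem_support_of_localized (p q : Ideal A) [hp : p.IsPrime] [q.IsPrime] (hpq : p ≤ q)
    {E : Type*} [AddCommGroup E] [Module A E] {E' : Type*} [AddCommGroup E']
    [Module (Localization.AtPrime q) E']
    (Φ : LocalizedModule q.primeCompl E ≃ₗ[Localization.AtPrime q] E')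
    (hp' : (p.map (algebraMap A (Localization.AtPrime q))).IsPrime)
    (h : (⟨p.map (algebraMap A (Localization.AtPrime q)), hp'⟩ :
      PrimeSpectrum (Localization.AtPrime q)) ∈ Module.support (Localization.AtPrime q) E') :
    (⟨p, hp⟩ : PrimeSpectrum A) ∈ Module.support A E := by
  by_contra h0
  rw [Module.notMem_support_iff'] at h0
  refine (Module.notMem_support_iff'.2 (fun e' => ?_)) h
  obtain ⟨z, rfl⟩ := Φ.surjective e'
  induction z using LocalizedModule.induction_on with
  | h e s =>
    obtain ⟨r, hr, hre⟩ := h0 e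
    refine ⟨algebraMap A (Localization.AtPrime q) r, fun hmem => hr ?_, ?_⟩
    · have hdisj : Disjoint (q.primeCompl : Set A) (p : Set A) := by
        rw [Set.disjoint_left]
        intro x hx hxp
        exact hx (hpq hxp)
      have e1 := IsLocalization.under_map_of_isPrime_disjoint q.primeCompl
        (Localization.AtPrime q) hp hdisj
      have : r ∈ (p.map (algebraMap A (Localization.AtPrime q))).under A := hmem
      rw [e1] at this
      exact this
    · rw [← map_smul, algebraMap_smul, LocalizedModule.smul'_mk, hre, LocalizedModule.zero_mk,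
        map_zero]

end Bridge

section LocalCov

variable {A : Type u} [CommRing A] [IsNoetherianRing A] [IsLocalRing A]

/-- Nonvanishing of `Ext^t(N, K)` for nonzero `N` of finite length. -/
theorem nontrivial_hom_of_isFiniteLength (K : Dual.D A) (t : ℤ)
    (hvan : ∀ j : ℤ, j ≠ t →
      Subsingleton (Dual.inD A (A ⧸ IsLocalRing.maximalIdeal A) ⟶ K⟦j⟧))
    (hnt : Nontrivial (Dual.inD A (A ⧸ IsLocalRing.maximalIdeal A) ⟶ K⟦t⟧))
    (N : Type u) [AddCommGroup N] [Module A N] (hN : IsFiniteLength A N) :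
    Nontrivial N → Nontrivial (Dual.inD A N ⟶ K⟦t⟧) := by
  induction hN with
  | @of_subsingleton M _ _ _ =>
    intro h
    exact absurd h (not_nontrivial_iff_subsingleton.2 inferInstance)
  | @of_simple_quotient M _ _ N hs hNfl ih =>
    intro _
    obtain ⟨m, hm, ⟨e⟩⟩ := isSimpleModule_iff_quot_maximal.mp hs
    have hq : Nontrivial (Dual.inD A (M ⧸ N) ⟶ K⟦t⟧) := by
      have hmm := IsLocalRing.eq_maximalIdeal hm
      subst hmm
      exact (Iso.homCongr ((DerivedCategory.singleFunctor (ModuleCat.{u} A) 0).mapIso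
        e.toModuleIso) (Iso.refl (K⟦t⟧))).nontrivial
    have hsub : Subsingleton (Dual.inD A N ⟶ K⟦t - 1⟧) :=
      subsingleton_hom_of_isFiniteLength (K⟦t - 1⟧) (fun m' hm' => by
        rw [IsLocalRing.eq_maximalIdeal hm']
        exact hvan (t - 1) (by omega)) N hNfl
    have hS := subSC_shortExact N
    by_contra hcon
    rw [not_nontrivial_iff_subsingleton] at hcon
    have : Subsingleton (Dual.inD A (M ⧸ N) ⟶ K⟦t⟧) := by
      refine ⟨fun y y' => ?_⟩
      suffices H : ∀ y : Dual.inD A (M ⧸ N) ⟶ K⟦t⟧, y = 0 by rw [H y, H y']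
      intro y
      exact yo_inj _ K hS.singleTriangle_distinguished t (t - 1) (by omega) hsub y
        (hcon.elim _ _)
    exact not_subsingleton _ this

/-- If `p` is a prime covered by the maximal ideal and `Ext^j(κ, K)` is concentrated in degree `t`,
then `p` lies in the support of `Ext^{t-1}(A/p, K)`. -/
theorem mem_support_ext_pred (K : Dual.D A) (c : ℤ) [K.IsGE c]
    (hfin : ∀ i : ℤ, Module.Finite A (Dual.HD A K i)) (t : ℤ)
    (hvan : ∀ j : ℤ, j ≠ t →
      Subsingleton (Dual.inD A (A ⧸ IsLocalRing.maximalIdeal A) ⟶ K⟦j⟧))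
    (hnt : Nontrivial (Dual.inD A (A ⧸ IsLocalRing.maximalIdeal A) ⟶ K⟦t⟧))
    (p : Ideal A) [hp : p.IsPrime] (hpm : p ≠ IsLocalRing.maximalIdeal A)
    (hcov : ∀ r : Ideal A, r.IsPrime → p ≤ r → r = p ∨ r = IsLocalRing.maximalIdeal A)
    (t' : ℤ) (ht' : t' + 1 = t) :
    (⟨p, hp⟩ : PrimeSpectrum A) ∈ Module.support A (Dual.inD A (A ⧸ p) ⟶ K⟦t'⟧) := by
  obtain ⟨x, hxm, hxp⟩ := SetLike.exists_of_lt
    (lt_of_le_of_ne (IsLocalRing.le_maximalIdeal hp.ne_top) hpm)
  have hJ : p = Submodule.comap (LinearMap.toSpanSingleton A A x) p := by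
    ext a
    change a ∈ p ↔ a • x ∈ p
    rw [smul_eq_mul]
    exact ⟨fun ha => p.mul_mem_right x ha,
      fun ha => (hp.mem_or_mem ha).resolve_right hxp⟩
  have hF : colonF p x p hJ = x • LinearMap.id := by
    refine LinearMap.ext fun a => ?_
    obtain ⟨a, rfl⟩ := Submodule.Quotient.mk_surjective _ a
    rw [colonF_mk]
    change _ = x • (Submodule.Quotient.mk a : A ⧸ p)
    rw [← Submodule.Quotient.mk_smul, smul_eq_mul, mul_comm]
  have hF2 : (DerivedCategory.singleFunctor (ModuleCat.{u} A) 0).map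
      (ModuleCat.ofHom (colonF p x p hJ)) = x • 𝟙 (Dual.inD A (A ⧸ p)) := by
    have : ModuleCat.ofHom (colonF p x p hJ) = x • 𝟙 (ModuleCat.of A (A ⧸ p)) := by
      rw [hF]
      rfl
    rw [this, Functor.map_smul, CategoryTheory.Functor.map_id]
  -- the quotient `A/(p + x)` has finite length
  have hJle : p ⊔ Ideal.span {x} ≤ IsLocalRing.maximalIdeal A :=
    sup_le (IsLocalRing.le_maximalIdeal hp.ne_top) ((Ideal.span_singleton_le_iff_mem _).2 hxm)
  have hNnt : Nontrivial (A ⧸ (p ⊔ Ideal.span {x})) :=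
    Ideal.Quotient.nontrivial_iff.2 (fun h => (IsLocalRing.maximalIdeal.isMaximal A).ne_top
      (top_le_iff.1 (h ▸ hJle)))
  have hdim0 : Ring.KrullDimLE 0 (A ⧸ (p ⊔ Ideal.span {x})) := by
    refine Ring.krullDimLE_zero_iff.2 (fun P hP => ?_)
    have hsurj : Function.Surjective (Ideal.Quotient.mk (p ⊔ Ideal.span {x})) :=
      Ideal.Quotient.mk_surjective
    have hr : (P.comap (Ideal.Quotient.mk (p ⊔ Ideal.span {x}))).IsPrime := Ideal.comap_isPrime _ _
    have hle : p ⊔ Ideal.span {x} ≤ P.comap (Ideal.Quotient.mk (p ⊔ Ideal.span {x})) := by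
      intro a ha
      rw [Ideal.mem_comap, Ideal.Quotient.eq_zero_iff_mem.2 ha]
      exact P.zero_mem
    have hxr : x ∈ P.comap (Ideal.Quotient.mk (p ⊔ Ideal.span {x})) :=
      hle (Ideal.mem_sup_right (Ideal.subset_span rfl))
    rcases hcov _ hr (le_trans le_sup_left hle) with h1 | h1
    · exact absurd (h1 ▸ hxr) hxp
    · have hmap := Ideal.map_comap_of_surjective _ hsurj P
      rw [h1] at hmap
      rcases Ideal.map_eq_top_or_isMaximal_of_surjective _ hsurj
        (IsLocalRing.maximalIdeal.isMaximal A) with h2 | h2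
      · rw [h2] at hmap
        exact absurd hmap.symm hP.ne_top
      · rw [hmap] at h2
        exact h2
  have hart : IsArtinianRing (A ⧸ (p ⊔ Ideal.span {x})) :=
    isArtinianRing_iff_krullDimLE_zero.2 hdim0
  have hartA : IsArtinian A (A ⧸ (p ⊔ Ideal.span {x})) :=
    isArtinian_of_surjective_algebraMap (S := A) (R := A ⧸ (p ⊔ Ideal.span {x}))
      (M := A ⧸ (p ⊔ Ideal.span {x})) Ideal.Quotient.mk_surjective
  have hNfl : IsFiniteLength A (A ⧸ (p ⊔ Ideal.span {x})) :=
    isFiniteLength_iff_isNoetherian_isArtinian.2 ⟨inferInstance, hartA⟩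
  have ha : ∀ j : ℤ, j ≠ t → Subsingleton (Dual.inD A (A ⧸ (p ⊔ Ideal.span {x})) ⟶ K⟦j⟧) :=
    fun j hj => subsingleton_hom_of_isFiniteLength (K⟦j⟧) (fun m' hm' => by
      rw [IsLocalRing.eq_maximalIdeal hm']
      exact hvan j hj) _ hNfl
  have hb : Nontrivial (Dual.inD A (A ⧸ (p ⊔ Ideal.span {x})) ⟶ K⟦t⟧) :=
    nontrivial_hom_of_isFiniteLength K t hvan hnt _ hNfl hNnt
  have hc : Subsingleton (Dual.inD A (A ⧸ p) ⟶ K⟦t⟧) :=
    subsingleton_hom_quot_prime_of_gt K c hfin t (fun j hj => hvan j (ne_of_gt hj)) p hpm t le_rfl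
  have hpcI : DRing.IsPseudoCoherent' A (Dual.inD A (A ⧸ p)) :=
    (isPseudoCoherentModule'_iff_of_isNoetherianRing (A ⧸ p)).2 inferInstance
  have hGE : (K⟦t'⟧).IsGE (c - t') := TStructure.t.isGE_shift K c t' (c - t') (by omega)
  have hEfin : Module.Finite A (Dual.inD A (A ⧸ p) ⟶ K⟦t'⟧) :=
    FC.finite_hom_of_isGE hpcI 0 (K⟦t'⟧) (c - t') (finite_HD_shift K hfin t')
  have hS := colonSC_shortExact p x p hJ
  have hEnt : Nontrivial (Dual.inD A (A ⧸ p) ⟶ K⟦t'⟧) := by
    by_contra hcon
    rw [not_nontrivial_iff_subsingleton] at hcon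
    have : Subsingleton (Dual.inD A (A ⧸ (p ⊔ Ideal.span {x})) ⟶ K⟦t⟧) := by
      refine ⟨fun y y' => ?_⟩
      suffices H : ∀ y : Dual.inD A (A ⧸ (p ⊔ Ideal.span {x})) ⟶ K⟦t⟧, y = 0 by rw [H y, H y']
      intro y
      exact yo_inj _ K hS.singleTriangle_distinguished t t' ht' hcon y (hc.elim _ _)
    exact not_subsingleton _ this
  have hinj : ∀ f : Dual.inD A (A ⧸ p) ⟶ K⟦t'⟧, x • f = 0 → f = 0 := by
    intro f hf
    refine colon_inj p x p hJ (K⟦t'⟧) (ha t' (by omega)) f ?_
    rw [hF2, Linear.smul_comp, Category.id_comp]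
    exact hf
  have hpE : ∀ a ∈ p, ∀ f : Dual.inD A (A ⧸ p) ⟶ K⟦t'⟧, a • f = 0 := by
    intro a ha f
    have h0 : a • 𝟙 (ModuleCat.of A (A ⧸ p)) = 0 := by
      refine ModuleCat.hom_ext (LinearMap.ext fun y => ?_)
      obtain ⟨b, rfl⟩ := Submodule.Quotient.mk_surjective _ y
      change a • (Submodule.Quotient.mk b : A ⧸ p) = 0
      rw [← Submodule.Quotient.mk_smul, Submodule.Quotient.mk_eq_zero, smul_eq_mul]
      exact p.mul_mem_right b ha
    have h1 : a • 𝟙 (Dual.inD A (A ⧸ p)) = 0 := by
      have : a • 𝟙 (Dual.inD A (A ⧸ p)) =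
          (DerivedCategory.singleFunctor (ModuleCat.{u} A) 0).map
            (a • 𝟙 (ModuleCat.of A (A ⧸ p))) := by
        rw [Functor.map_smul, CategoryTheory.Functor.map_id]
      rw [this, h0, Functor.map_zero]
    calc a • f = (a • 𝟙 (Dual.inD A (A ⧸ p))) ≫ f := by
          rw [Linear.smul_comp, Category.id_comp]
      _ = 0 := by rw [h1, zero_comp]
  by_contra hns
  have hxrad : x ∈ (Module.annihilator A (Dual.inD A (A ⧸ p) ⟶ K⟦t'⟧)).radical := by
    rw [Ideal.radical_eq_sInf, Ideal.mem_sInf]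
    rintro J ⟨hJann, hJp⟩
    have hmem : (⟨J, hJp⟩ : PrimeSpectrum A) ∈
        Module.support A (Dual.inD A (A ⧸ p) ⟶ K⟦t'⟧) :=
      Module.mem_support_iff_of_finite.2 hJann
    have hpJ : p ≤ J := fun a ha => hJann (Module.mem_annihilator.2 (hpE a ha))
    rcases hcov J hJp hpJ with h1 | h1
    · subst h1
      exact absurd hmem hns
    · rw [h1]
      exact hxm
  obtain ⟨n, hn⟩ := hxrad
  have hzero : ∀ (k : ℕ) (f : Dual.inD A (A ⧸ p) ⟶ K⟦t'⟧), x ^ k • f = 0 → f = 0 := by
    intro k
    induction k with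
    | zero => intro f hf; simpa using hf
    | succ k ih =>
      intro f hf
      refine ih f (hinj _ ?_)
      rw [smul_smul, ← pow_succ']
      exact hf
  have : Subsingleton (Dual.inD A (A ⧸ p) ⟶ K⟦t'⟧) :=
    ⟨fun f g => (hzero n f (Module.mem_annihilator.1 hn f)).trans
      (hzero n g (Module.mem_annihilator.1 hn g)).symm⟩
  exact not_subsingleton _ this

end LocalCov

section Series

variable {α : Type*} [PartialOrder α]

lemma add_length_le_of_strictMono (T : α → ℤ) (hT : StrictMono T) (s : LTSeries α) :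
    T s.head + s.length ≤ T s.last := by
  have h1 : ∀ (k : ℕ) (hk : k < s.length + 1), T (s ⟨0, by omega⟩) + k ≤ T (s ⟨k, hk⟩) := by
    intro k
    induction k with
    | zero => intro hk; simp
    | succ k ih =>
      intro hk
      have hlt : s ⟨k, by omega⟩ < s ⟨k + 1, hk⟩ := s.strictMono (by
        rw [Fin.lt_def]
        simp)
      have := hT hlt
      have := ih (by omega)
      push_cast
      omega
  exact h1 s.length (by omega)

lemma add_length_eq_of_covBy (T : α → ℤ) (hT : ∀ a b : α, a ⋖ b → T b = T a + 1)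
    (s : LTSeries α) (hs : ∀ i : Fin s.length, s (Fin.castSucc i) ⋖ s (Fin.succ i)) :
    T s.last = T s.head + s.length := by
  have h1 : ∀ (k : ℕ) (hk : k < s.length + 1), T (s ⟨k, hk⟩) = T (s ⟨0, by omega⟩) + k := by
    intro k
    induction k with
    | zero => intro hk; simp
    | succ k ih =>
      intro hk
      have hcov := hs ⟨k, by omega⟩
      have := hT _ _ hcov
      have h2 := ih (by omega)
      have e1 : (Fin.castSucc (⟨k, by omega⟩ : Fin s.length)) = (⟨k, by omega⟩ : Fin (s.length + 1)) := rfl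
      have e2 : (Fin.succ (⟨k, by omega⟩ : Fin s.length)) = (⟨k + 1, hk⟩ : Fin (s.length + 1)) := rfl
      rw [e1, e2] at this
      rw [this, h2]
      push_cast
      ring
  exact h1 s.length (by omega)

end Series

section Exact

variable (A : Type u) [CommRing A] [IsNoetherianRing A]

/-- The dimension function of a dualizing complex jumps by exactly one along covering
relations. -/
theorem top_covBy (ω : Dual.D A) (hω : Dual.IsDualizing A ω) (T : PrimeSpectrum A → ℤ)
    (hmono : StrictMono T)
    (hT : ∀ p : PrimeSpectrum A,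
      p ∈ Module.support A (Dual.inD A (A ⧸ p.asIdeal) ⟶ ω⟦T p⟧) ∧
      ∀ j : ℤ, T p < j → p ∉ Module.support A (Dual.inD A (A ⧸ p.asIdeal) ⟶ ω⟦j⟧))
    (p q : PrimeSpectrum A) (hpq : p ⋖ q) : T q = T p + 1 := by
  obtain ⟨hA, ⟨a, b, h2⟩, h3, h4, h5⟩ := id hω
  have hvan : ∀ i : ℤ, i < a → Subsingleton (Dual.HD A ω i) := fun i hi =>
    ModuleCat.subsingleton_of_isZero (isZero_HD_of_subsingleton_ext ω i (h2 A i (Or.inl hi)))
  have hGE : ω.IsGE a := isGE_of_subsingleton_HD ω a hvan
  have hd := isDualizing_flatBC_localization A q.asIdeal.primeCompl ω hω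
  have hGEq : ((flatBC A (Localization.AtPrime q.asIdeal)).obj ω).IsGE a :=
    isGE_flatBC (Localization.AtPrime q.asIdeal) ω a
  have hmax : q.asIdeal.map (algebraMap A (Localization.AtPrime q.asIdeal)) =
      IsLocalRing.maximalIdeal (Localization.AtPrime q.asIdeal) :=
    Localization.AtPrime.map_eq_maximalIdeal
  obtain ⟨n, hn1, ⟨e⟩⟩ := ext_residue (Localization.AtPrime q.asIdeal) _ hd
    (IsLocalRing.maximalIdeal (Localization.AtPrime q.asIdeal))
  have hnt0 : Nontrivial (Localization.AtPrime q.asIdeal ⧸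
      IsLocalRing.maximalIdeal (Localization.AtPrime q.asIdeal)) :=
    Ideal.Quotient.nontrivial_iff.2 (IsLocalRing.maximalIdeal.isMaximal _).ne_top
  have hnt : Nontrivial (Dual.inD (Localization.AtPrime q.asIdeal)
      (Localization.AtPrime q.asIdeal ⧸
        IsLocalRing.maximalIdeal (Localization.AtPrime q.asIdeal)) ⟶
      ((flatBC A (Localization.AtPrime q.asIdeal)).obj ω)⟦n⟧) := e.toEquiv.nontrivial
  have hnT : n = T q := by
    by_contra hne
    have h0 : Nontrivial (LocalizedModule q.asIdeal.primeCompl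
        (Dual.inD A (A ⧸ q.asIdeal) ⟶ ω⟦T q⟧)) := Module.mem_support_iff.1 (hT q).1
    have h1 := (locHomEquiv A q.asIdeal q.asIdeal ω a (T q)).symm.nontrivial
    rw [hmax] at h1
    have := hn1 (T q) (fun h => hne h.symm)
    exact not_subsingleton _ this
  have hdisj : Disjoint (q.asIdeal.primeCompl : Set A) (p.asIdeal : Set A) := by
    rw [Set.disjoint_left]
    intro x hx hxp
    exact hx ((le_of_lt hpq.lt : p ≤ q) hxp)
  have hp'prime : (p.asIdeal.map (algebraMap A (Localization.AtPrime q.asIdeal))).IsPrime :=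
    IsLocalization.isPrime_of_isPrime_disjoint q.asIdeal.primeCompl _ p.asIdeal p.isPrime hdisj
  have hunder : (p.asIdeal.map (algebraMap A (Localization.AtPrime q.asIdeal))).under A =
      p.asIdeal := IsLocalization.under_map_of_isPrime_disjoint q.asIdeal.primeCompl
        (Localization.AtPrime q.asIdeal) p.isPrime hdisj
  have hunderq : (IsLocalRing.maximalIdeal (Localization.AtPrime q.asIdeal)).under A =
      q.asIdeal := Localization.AtPrime.under_maximalIdeal
  have hp'ne : p.asIdeal.map (algebraMap A (Localization.AtPrime q.asIdeal)) ≠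
      IsLocalRing.maximalIdeal (Localization.AtPrime q.asIdeal) := by
    intro heq
    rw [heq, hunderq] at hunder
    exact (ne_of_lt hpq.lt) (PrimeSpectrum.ext hunder.symm)
  have hcov' : ∀ r' : Ideal (Localization.AtPrime q.asIdeal), r'.IsPrime →
      p.asIdeal.map (algebraMap A (Localization.AtPrime q.asIdeal)) ≤ r' →
      r' = p.asIdeal.map (algebraMap A (Localization.AtPrime q.asIdeal)) ∨
        r' = IsLocalRing.maximalIdeal (Localization.AtPrime q.asIdeal) := by
    intro r' hr' hle
    have hrp : (r'.under A).IsPrime := Ideal.comap_isPrime _ _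
    let rr : PrimeSpectrum A := ⟨r'.under A, hrp⟩
    have h1 : p ≤ rr := by
      change p.asIdeal ≤ r'.under A
      exact le_of_eq_of_le hunder.symm (Ideal.comap_mono hle)
    have h2 : rr ≤ q := by
      change r'.under A ≤ q.asIdeal
      exact le_of_le_of_eq (Ideal.comap_mono (IsLocalRing.le_maximalIdeal hr'.ne_top)) hunderq
    have hmc : (r'.under A).map (algebraMap A (Localization.AtPrime q.asIdeal)) = r' :=
      IsLocalization.map_under q.asIdeal.primeCompl _ r'
    rcases eq_or_lt_of_le h1 with h3 | h3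
    · left
      rw [← hmc]
      have : r'.under A = p.asIdeal := congrArg PrimeSpectrum.asIdeal h3.symm
      rw [this]
    · right
      have h4 : rr = q := (eq_or_lt_of_le h2).resolve_right (hpq.2 h3)
      rw [← hmc, ← hmax]
      have : r'.under A = q.asIdeal := congrArg PrimeSpectrum.asIdeal h4
      rw [this]
  have hmem := mem_support_ext_pred ((flatBC A (Localization.AtPrime q.asIdeal)).obj ω) a
    hd.finite_cohomology n hn1 hnt
    (p.asIdeal.map (algebraMap A (Localization.AtPrime q.asIdeal))) hp'ne hcov' (n - 1) (by ring)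
  have hmemA : p ∈ Module.support A (Dual.inD A (A ⧸ p.asIdeal) ⟶ ω⟦n - 1⟧) :=
    mem_support_of_localized A p.asIdeal q.asIdeal (le_of_lt hpq.lt : p ≤ q)
      (locHomLinearEquiv A q.asIdeal p.asIdeal ω a (n - 1)) hp'prime hmem
  have hlt : T p < T q := hmono hpq.lt
  have hge : T q - 1 ≤ T p := by
    by_contra hcon
    push Not at hcon
    exact (hT p).2 (n - 1) (by omega) hmemA
  omega

/-- A Noetherian ring with a dualizing complex is catenary. -/
theorem isCatenary_of_isDualizing (ω : Dual.D A) (hω : Dual.IsDualizing A ω) :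
    CAlg.IsCatenary A := by
  obtain ⟨T, hmono, hT⟩ := exists_strictMono_top A ω hω
  have hcov := top_covBy A ω hω T hmono hT
  refine ⟨fun p q _ => ⟨(T q - T p).toNat, fun s hs1 hs2 => ?_⟩, fun s t h1 h2 hs ht => ?_⟩
  · have := add_length_le_of_strictMono T hmono s
    rw [hs1, hs2] at this
    omega
  · have e1 := add_length_eq_of_covBy T hcov s hs
    have e2 := add_length_eq_of_covBy T hcov t ht
    rw [h1, h2] at e1
    omega

/-- A Noetherian ring with a dualizing complex is universally catenary. -/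
theorem isUniversallyCatenary_of_isDualizing (ω : Dual.D A) (hω : Dual.IsDualizing A ω) :
    CAlg.IsUniversallyCatenary A := by
  refine ⟨inferInstance, fun S _ _ hS => ?_⟩
  have hSn : IsNoetherianRing S := Algebra.FiniteType.isNoetherianRing A S
  obtain ⟨n, ψ, hψ⟩ := Algebra.FiniteType.iff_quotient_mvPolynomial''.1 hS
  exact isCatenary_of_isDualizing S _ (isDualizing_Sh A S n ψ.toRingHom hψ ω hω 0)

end Exact

end Groth.Agent.Lib.Helper13.DualBC
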