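import Groth.Agent.Lib.Helper13.DualBC21

/-!
# Semilinearity of the adjunction `Hom_B(N, RHom_A(B, K)[i]) ≃ Hom_A(N, K[i])`
-/

set_option autoImplicit false
set_option linter.unusedSectionVars false

open CategoryTheory CategoryTheory.Limits Pretriangulated TensorProduct Pointwise

universe u

namespace Groth.Agent.Lib.Helper13.DualBC

open DerivedCategory Groth.Agent.Lib.Helper13.Coind Groth.Agent.Lib.Helper13.PC
  Groth.Agent.Lib.Helper13.DR Groth.Agent.Lib.Helper13.Shriek Groth.Agent.Lib.Helper13.BD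
  Groth.Agent.Lib.Helper13.HomBC

attribute [local instance] HasDerivedCategory.standard

section Semi

variable (A B : Type u) [CommRing A] [CommRing B] [Algebra A B]

lemma homRcoEquiv_apply (K : Dual.D A) (N : Type u) [AddCommGroup N] [Module B N] (i : ℤ)
    (f : Dual.inD B N ⟶ ((Rco (algebraMap A B)).obj K)⟦i⟧) :
    homRcoEquiv A B K N i f =
      (((ModuleCat.restrictScalars.{u} (algebraMap A B)).mapDerivedCategorySingleFunctor 0).app
        (ModuleCat.of B N)).inv ≫
      (((Coind.adj (algebraMap A B)).homEquiv (Dual.inD B N) (K⟦i⟧)).symm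
        (𝟙 _ ≫ f ≫ (RcoShift (algebraMap A B) i K).symm.hom)) ≫ 𝟙 _ := rfl

lemma homRcoEquiv_smul (K : Dual.D A) (N : Type u) [AddCommGroup N] [Module B N] (i : ℤ)
    (a : A) (f : Dual.inD B N ⟶ ((Rco (algebraMap A B)).obj K)⟦i⟧) :
    homRcoEquiv A B K N i (algebraMap A B a • f) = a • homRcoEquiv A B K N i f := by
  rw [homRcoEquiv_apply, homRcoEquiv_apply, Linear.smul_comp, Linear.comp_smul]
  have key : ∀ g : Dual.inD B N ⟶ (Rco (algebraMap A B)).obj (K⟦i⟧),
      ((Coind.adj (algebraMap A B)).homEquiv (Dual.inD B N) (K⟦i⟧)).symm (algebraMap A B a • g) =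
        a • ((Coind.adj (algebraMap A B)).homEquiv (Dual.inD B N) (K⟦i⟧)).symm g := by
    intro g
    apply ((Coind.adj (algebraMap A B)).homEquiv (Dual.inD B N) (K⟦i⟧)).injective
    rw [Equiv.apply_symm_apply, adj_homEquiv_smul, Equiv.apply_symm_apply]
  rw [key, Linear.smul_comp, Linear.comp_smul]

end Semi

section Restrict

variable (A B : Type u) [CommRing A] [CommRing B] [Algebra A B]

/-- `A/q^c ≅ B/q` as `A`-modules, for a surjective ring map. -/
noncomputable def quotComapEquiv (hs : Function.Surjective (algebraMap A B)) (q : Ideal B) :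
    (A ⧸ q.comap (algebraMap A B)) ≃ₗ[A]
      ((ModuleCat.restrictScalars.{u} (algebraMap A B)).obj (ModuleCat.of B (B ⧸ q))) := by
  let ℓ : A →ₗ[A]
      ((ModuleCat.restrictScalars.{u} (algebraMap A B)).obj (ModuleCat.of B (B ⧸ q))) :=
    { toFun := fun a => (Ideal.Quotient.mk q (algebraMap A B a) : B ⧸ q)
      map_add' := fun a b => by
        change Ideal.Quotient.mk q (algebraMap A B (a + b)) = Ideal.Quotient.mk q (algebraMap A B a) +
          Ideal.Quotient.mk q (algebraMap A B b)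
        rw [map_add, map_add]
      map_smul' := fun a x => by
        change Ideal.Quotient.mk q (algebraMap A B (a • x)) =
          algebraMap A B a • (Ideal.Quotient.mk q (algebraMap A B x) : B ⧸ q)
        rw [smul_eq_mul, map_mul, map_mul, Algebra.smul_def]
        rfl }
  have hsurj : Function.Surjective ℓ := by
    intro y
    obtain ⟨b, rfl⟩ := Ideal.Quotient.mk_surjective (I := q) y
    obtain ⟨a, rfl⟩ := hs b
    exact ⟨a, rfl⟩
  have hker : LinearMap.ker ℓ = q.comap (algebraMap A B) := by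
    ext a
    change Ideal.Quotient.mk q (algebraMap A B a) = 0 ↔ _
    rw [Ideal.Quotient.eq_zero_iff_mem]
    rfl
  exact (Submodule.quotEquivOfEq _ _ hker.symm).trans (ℓ.quotKerEquivOfSurjective hsurj)

/-- The dimension function of `RHom_A(B, ω)` is the restriction of that of `ω`. -/
theorem nontrivial_localized_Rco_iff [IsNoetherianRing A] [IsNoetherianRing B]
    (hs : Function.Surjective (algebraMap A B)) (R : Dual.D A ⥤ Dual.D B)
    (adj : DRing.restrictD (algebraMap A B) ⊣ R) (ω : Dual.D A) (q : PrimeSpectrum B) (i : ℤ) :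
    Nontrivial (LocalizedModule q.asIdeal.primeCompl
      (Dual.inD B (B ⧸ q.asIdeal) ⟶ (R.obj ω)⟦i⟧)) ↔
    Nontrivial (LocalizedModule (q.asIdeal.comap (algebraMap A B)).primeCompl
      (Dual.inD A (A ⧸ q.asIdeal.comap (algebraMap A B)) ⟶ ω⟦i⟧)) := by
  let u : R ≅ Rco (algebraMap A B) := Coind.uniq (algebraMap A B) R adj
  let s1 : (Dual.inD B (B ⧸ q.asIdeal) ⟶ (R.obj ω)⟦i⟧) ≃
      (Dual.inD B (B ⧸ q.asIdeal) ⟶ ((Rco (algebraMap A B)).obj ω)⟦i⟧) :=
    Iso.homCongr (Iso.refl _) ((shiftFunctor (Dual.D B) i).mapIso (u.app ω))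
  let s3 : (Dual.inD A ((ModuleCat.restrictScalars.{u} (algebraMap A B)).obj
      (ModuleCat.of B (B ⧸ q.asIdeal))) ⟶ ω⟦i⟧) ≃
      (Dual.inD A (A ⧸ q.asIdeal.comap (algebraMap A B)) ⟶ ω⟦i⟧) :=
    Iso.homCongr ((DerivedCategory.singleFunctor (ModuleCat.{u} A) 0).mapIso
      (quotComapEquiv A B hs q.asIdeal).symm.toModuleIso) (Iso.refl _)
  let Φ := (s1.trans (homRcoEquiv A B ω (B ⧸ q.asIdeal) i)).trans s3
  have hΦ : ∀ (a : A) (f : Dual.inD B (B ⧸ q.asIdeal) ⟶ (R.obj ω)⟦i⟧),
      Φ (algebraMap A B a • f) = a • Φ f := by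
    intro a f
    have h1 : s1 (algebraMap A B a • f) = algebraMap A B a • s1 f := by
      change (Iso.refl _).inv ≫ (algebraMap A B a • f) ≫ _ = algebraMap A B a • ((Iso.refl _).inv ≫ f ≫ _)
      rw [Linear.smul_comp, Linear.comp_smul]
    have h3 : ∀ g, s3 (a • g) = a • s3 g := by
      intro g
      change ((DerivedCategory.singleFunctor (ModuleCat.{u} A) 0).mapIso
          (quotComapEquiv A B hs q.asIdeal).symm.toModuleIso).inv ≫ (a • g) ≫ (Iso.refl _).hom =
        a • (((DerivedCategory.singleFunctor (ModuleCat.{u} A) 0).mapIso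
          (quotComapEquiv A B hs q.asIdeal).symm.toModuleIso).inv ≫ g ≫ (Iso.refl _).hom)
      rw [Linear.smul_comp, Linear.comp_smul]
    change s3 (homRcoEquiv A B ω (B ⧸ q.asIdeal) i (s1 (algebraMap A B a • f))) = _
    rw [h1, homRcoEquiv_smul, h3]
    rfl
  have hΦ0 : ∀ f, Φ f = 0 → f = 0 := by
    intro f hf
    have h0 : Φ 0 = 0 := by
      have := hΦ 0 0
      rw [map_zero, zero_smul, zero_smul] at this
      exact this
    exact Φ.injective (hf.trans h0.symm)
  have hpr : (q.asIdeal.comap (algebraMap A B)).IsPrime := Ideal.comap_isPrime _ _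
  let p : PrimeSpectrum A := ⟨q.asIdeal.comap (algebraMap A B), hpr⟩
  change q ∈ Module.support B (Dual.inD B (B ⧸ q.asIdeal) ⟶ (R.obj ω)⟦i⟧) ↔
    p ∈ Module.support A (Dual.inD A (A ⧸ q.asIdeal.comap (algebraMap A B)) ⟶ ω⟦i⟧)
  rw [Module.mem_support_iff', Module.mem_support_iff']
  constructor
  · rintro ⟨f, hf⟩
    refine ⟨Φ f, fun a ha h0 => ?_⟩
    rw [← hΦ] at h0
    exact hf (algebraMap A B a) ha (hΦ0 _ h0)
  · rintro ⟨g, hg⟩
    refine ⟨Φ.symm g, fun b hb h0 => ?_⟩
    obtain ⟨a, rfl⟩ := hs b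
    have h1 : a • g = 0 := by
      have := hΦ a (Φ.symm g)
      rw [h0, Equiv.apply_symm_apply] at this
      have h00 : Φ 0 = 0 := by
        have := hΦ 0 0
        rw [map_zero, zero_smul, zero_smul] at this
        exact this
      rw [← this, h00]
    exact hg a hb h1

end Restrict

end Groth.Agent.Lib.Helper13.DualBC
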