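import Groth.Agent.Lib.Helper13.DualBC22

/-!
# Uniqueness of dualizing complexes, part 1: the functors `M ↦ Hom(D_I(M), W[i])`
-/

set_option autoImplicit false
set_option linter.unusedSectionVars false

open CategoryTheory CategoryTheory.Limits Pretriangulated

universe u

namespace Groth.Agent.Lib.Helper13.DualBC

open DerivedCategory Groth.Agent.Lib.Helper13.Coind Groth.Agent.Lib.Helper13.PC
  Groth.Agent.Lib.Helper13.DR Groth.Agent.Lib.Helper13.Shriek Groth.Agent.Lib.Helper13.BD

attribute [local instance] HasDerivedCategory.standard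

section G

variable {A : Type u} [CommRing A] (I W : DRing.Cx A)

lemma DmMap_smul {M N : ModuleCat.{u} A} (a : A) (g : M ⟶ N) :
    DmMap I (a • g) = a • DmMap I g := by
  refine HomologicalComplex.hom_ext _ _ (fun p => ModuleCat.hom_ext (LinearMap.ext fun f => ?_))
  refine Dm_ext I _ _ (fun x => ?_)
  change toLin I f ((a • g).hom x) = a • toLin I f (g.hom x)
  rw [ModuleCat.hom_smul, LinearMap.smul_apply, map_smul]

/-- `G^i(M) = Hom(D_I(M), W[i])`. -/
abbrev G (i : ℤ) (M : ModuleCat.{u} A) : Type (u + 1) :=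
  (Q.obj (Dm I M) : Dual.D A) ⟶ (Q.obj W : Dual.D A)⟦i⟧

/-- Covariant functoriality of `G^i`. -/
noncomputable def GmapL (i : ℤ) {M N : ModuleCat.{u} A} (g : M ⟶ N) :
    G I W i M →ₗ[A] G I W i N :=
  Linear.leftComp A _ (Q.map (DmMap I g))

lemma GmapL_apply (i : ℤ) {M N : ModuleCat.{u} A} (g : M ⟶ N) (x : G I W i M) :
    GmapL I W i g x = Q.map (DmMap I g) ≫ x := rfl

lemma GmapL_add (i : ℤ) {M N : ModuleCat.{u} A} (g h : M ⟶ N) (x : G I W i M) :
    GmapL I W i (g + h) x = GmapL I W i g x + GmapL I W i h x := by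
  simp only [GmapL_apply]
  rw [DmMap_add, Functor.map_add, Preadditive.add_comp]

lemma GmapL_zero (i : ℤ) {M N : ModuleCat.{u} A} (x : G I W i M) :
    GmapL I W i (0 : M ⟶ N) x = 0 := by
  simp only [GmapL_apply]
  rw [DmMap_zero, Functor.map_zero, zero_comp]

lemma GmapL_smul (i : ℤ) {M N : ModuleCat.{u} A} (a : A) (g : M ⟶ N) (x : G I W i M) :
    GmapL I W i (a • g) x = a • GmapL I W i g x := by
  simp only [GmapL_apply]
  rw [DmMap_smul, Functor.map_smul, Linear.smul_comp]

lemma GmapL_comp (i : ℤ) {M N P : ModuleCat.{u} A} (g : M ⟶ N) (h : N ⟶ P) (x : G I W i M) :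
    GmapL I W i (g ≫ h) x = GmapL I W i h (GmapL I W i g x) := by
  simp only [GmapL_apply]
  rw [DmMap_comp, Functor.map_comp, Category.assoc]

lemma GmapL_sum (i : ℤ) {M N : ModuleCat.{u} A} {ι : Type*} (s : Finset ι) (g : ι → (M ⟶ N))
    (x : G I W i M) :
    GmapL I W i (∑ j ∈ s, g j) x = ∑ j ∈ s, GmapL I W i (g j) x := by
  classical
  induction s using Finset.induction_on with
  | empty => simp only [Finset.sum_empty]; exact GmapL_zero I W i x
  | insert a s ha ih => rw [Finset.sum_insert ha, Finset.sum_insert ha, GmapL_add, ih]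

variable (S : ShortComplex (ModuleCat.{u} A))

lemma G_exact₂ (hI : DRing.TermwiseInjective I) (hS : S.ShortExact) (i : ℤ) (x : G I W i S.X₂)
    (hx : GmapL I W i S.g x = 0) : ∃ y : G I W i S.X₁, x = GmapL I W i S.f y :=
  Triangle.yoneda_exact₂ _ (tri_dist I hI S hS) x hx

lemma G_surj (hI : DRing.TermwiseInjective I) (hS : S.ShortExact) (i i' : ℤ) (hi : i + 1 = i')
    (h : Subsingleton (G I W i' S.X₁)) (z : G I W i S.X₃) :
    ∃ g : G I W i S.X₂, z = GmapL I W i S.g g :=
  yo_surj (tri I hI S hS) (Q.obj W) (tri_dist I hI S hS) i i' hi h z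

lemma subsingleton_G_of_subsingleton (M : ModuleCat.{u} A) [Subsingleton M] (i : ℤ) :
    Subsingleton (G I W i M) := by
  have hz : IsZero (Q.obj (Dm I M) : Dual.D A) := by
    rw [IsZero.iff_id_eq_zero, ← CategoryTheory.Functor.map_id, ← DmMap_id,
      (ModuleCat.isZero_of_subsingleton M).eq_of_src (𝟙 M) 0, DmMap_zero, Functor.map_zero]
  exact ⟨fun x y => hz.eq_of_src x y⟩

/-- Vanishing of `G^i(M)` for `i > b' - a`. -/
lemma subsingleton_G_of_gt (hW : DRing.TermwiseInjective W) (a b a' b' : ℤ)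
    (hvI : DRing.VanishesOutside I a b) (hvW : DRing.VanishesOutside W a' b')
    (M : ModuleCat.{u} A) (i : ℤ) (hi : b' - a < i) :
    Subsingleton (G I W i M) := by
  have hK : (W⟦i⟧).IsKInjective := isKInjective_of_forall_injective (W⟦i⟧) (a' - i)
    (fun p hp => hvW (p + i) (Or.inl (by lia))) (fun p => (injective_iff _).2 (hW (p + i)))
  have key : ∀ x : (Q.obj (Dm I M) : Dual.D A) ⟶ Q.obj (W⟦i⟧), x = 0 := by
    intro x
    obtain ⟨f, rfl⟩ := exists_Q_map_eq_of_isKInjective x
    have : f = 0 := by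
      refine HomologicalComplex.hom_ext _ _ (fun p => ?_)
      by_cases hp : p < a ∨ b < p
      · have hz : IsZero ((Dm I M).X p) := by
          have := ModuleCat.subsingleton_of_isZero (hvI p hp)
          have : Subsingleton ((Dm I M).X p) :=
            ⟨fun (f g : M →ₗ[A] I.X p) => LinearMap.ext fun x => Subsingleton.elim _ _⟩
          exact ModuleCat.isZero_of_subsingleton _
        exact hz.eq_of_src _ _
      · have hz : IsZero ((W⟦i⟧).X p) := hvW (p + i) (Or.inr (by lia))
        exact hz.eq_of_tgt _ _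
    rw [this, Functor.map_zero]
  refine ⟨fun x y => ?_⟩
  let e := (Q.commShiftIso i).app W
  rw [← cancel_mono e.inv, key (x ≫ e.inv), key (y ≫ e.inv)]

end G

section Local

variable {A : Type u} [CommRing A] [IsLocalRing A] [IsNoetherianRing A] (I W : DRing.Cx A)

/-- Nakayama for ideals contained in the maximal ideal. -/
lemma subsingleton_of_le_smul_top {E : Type*} [AddCommGroup E] [Module A E] [Module.Finite A E]
    (h : (⊤ : Submodule A E) ≤ IsLocalRing.maximalIdeal A • (⊤ : Submodule A E)) :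
    Subsingleton E := by
  have hjac : IsLocalRing.maximalIdeal A ≤ (⊥ : Ideal A).jacobson := by
    rw [IsLocalRing.jacobson_eq_maximalIdeal ⊥ bot_ne_top]
  have htop := Submodule.eq_bot_of_le_smul_of_le_jacobson_bot (IsLocalRing.maximalIdeal A) ⊤
    (Module.finite_def.1 inferInstance) h hjac
  exact ⟨fun f g => by
    have hf : f ∈ (⊤ : Submodule A E) := Submodule.mem_top
    have hg : g ∈ (⊤ : Submodule A E) := Submodule.mem_top
    rw [htop, Submodule.mem_bot] at hf hg
    rw [hf, hg]⟩

/-- A linear map `A^n → A` is a combination of the projections. -/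
lemma ofHom_eq_sum_proj {n : ℕ} (φ : (Fin n → A) →ₗ[A] A) :
    (ModuleCat.ofHom φ : ModuleCat.of A (Fin n → A) ⟶ ModuleCat.of A A) =
      ∑ j : Fin n, (φ (fun k => if j = k then 1 else 0)) •
        (ModuleCat.ofHom (LinearMap.proj j) : ModuleCat.of A (Fin n → A) ⟶ ModuleCat.of A A) := by
  refine ModuleCat.hom_ext (LinearMap.ext fun (v : Fin n → A) => ?_)
  rw [ModuleCat.hom_sum]
  change φ v = (∑ j : Fin n, ((φ (fun k => if j = k then 1 else 0)) •
    (ModuleCat.ofHom (LinearMap.proj j) :
      ModuleCat.of A (Fin n → A) ⟶ ModuleCat.of A A)).hom) v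
  rw [LinearMap.sum_apply, LinearMap.pi_apply_eq_sum_univ φ v]
  refine Finset.sum_congr rfl (fun j _ => ?_)
  change v j • φ _ = φ _ • v j
  rw [smul_eq_mul, smul_eq_mul, mul_comm]

variable (hI : DRing.TermwiseInjective I)

include hI in
/-- The Nakayama step: `G^i(A) = 0`. -/
lemma subsingleton_G_self (i : ℤ)
    (h1 : ∀ (M : ModuleCat.{u} A) [Module.Finite A M], Subsingleton (G I W (i + 1) M))
    (hκ : Subsingleton (G I W i (ModuleCat.of A (A ⧸ IsLocalRing.maximalIdeal A))))
    (hfin : Module.Finite A (G I W i (ModuleCat.of A A))) :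
    Subsingleton (G I W i (ModuleCat.of A A)) := by
  refine subsingleton_of_le_smul_top (A := A) ?_
  intro x _
  let m := IsLocalRing.maximalIdeal A
  have hS := subSC_shortExact (A := A) (M := A) m
  obtain ⟨y, hy⟩ := G_exact₂ I W (subSC (A := A) (M := A) m) hI hS i x (hκ.elim _ _)
  obtain ⟨n, π, hπ⟩ := Module.Finite.exists_fin' A m
  have hS' := presSC_shortExact (M := ModuleCat.of A m) π hπ
  have hfinK : Module.Finite A (ModuleCat.of A (LinearMap.ker π)) :=
    Module.Finite.of_injective (LinearMap.ker π).subtype (Submodule.injective_subtype _)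
  obtain ⟨z, hz⟩ := G_surj I W (presSC (M := ModuleCat.of A m) π) hI hS' i (i + 1) rfl
    (h1 (ModuleCat.of A (LinearMap.ker π))) y
  have hx : x = GmapL I W i (ModuleCat.ofHom (m.subtype ∘ₗ π) :
      ModuleCat.of A (Fin n → A) ⟶ ModuleCat.of A A) z := by
    rw [hy, hz]
    exact (GmapL_comp I W i (presSC (M := ModuleCat.of A m) π).g
      (subSC (A := A) (M := A) m).f z).symm
  rw [hx, ofHom_eq_sum_proj, GmapL_sum]
  refine Submodule.sum_mem _ (fun j _ => ?_)
  rw [GmapL_smul]
  refine Submodule.smul_mem_smul ?_ Submodule.mem_top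
  exact (π _).2

include hI in
lemma subsingleton_G_free (i : ℤ) (h : Subsingleton (G I W i (ModuleCat.of A A))) (n : ℕ) :
    Subsingleton (G I W i (ModuleCat.of A (Fin n → A))) := by
  induction n with
  | zero => exact subsingleton_G_of_subsingleton I W _ i
  | succ n ih =>
    refine ⟨fun x y => ?_⟩
    suffices H : ∀ x : G I W i (ModuleCat.of A (Fin (n + 1) → A)), x = 0 by rw [H x, H y]
    intro x
    obtain ⟨y, hy⟩ := G_exact₂ I W (freeSC n) hI (freeSC_shortExact n) i x (ih.elim _ _)
    rw [hy, h.elim y 0]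
    exact (GmapL I W i (freeSC n).f).map_zero

include hI in
/-- The inductive step. -/
lemma subsingleton_G_step (i : ℤ)
    (h1 : ∀ (M : ModuleCat.{u} A) [Module.Finite A M], Subsingleton (G I W (i + 1) M))
    (hκ : Subsingleton (G I W i (ModuleCat.of A (A ⧸ IsLocalRing.maximalIdeal A))))
    (hfin : Module.Finite A (G I W i (ModuleCat.of A A)))
    (M : ModuleCat.{u} A) [Module.Finite A M] : Subsingleton (G I W i M) := by
  have hA := subsingleton_G_self I W hI i h1 hκ hfin
  obtain ⟨n, π, hπ⟩ := Module.Finite.exists_fin' A M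
  have hS := presSC_shortExact π hπ
  have hF := subsingleton_G_free I W hI i hA n
  have hfinK : Module.Finite A (ModuleCat.of A (LinearMap.ker π)) :=
    Module.Finite.of_injective (LinearMap.ker π).subtype (Submodule.injective_subtype _)
  refine ⟨fun x y => ?_⟩
  suffices H : ∀ x : G I W i M, x = 0 by rw [H x, H y]
  intro x
  obtain ⟨g, hg⟩ := G_surj I W (presSC π) hI hS i (i + 1) rfl
    (h1 (ModuleCat.of A (LinearMap.ker π))) x
  rw [hg, hF.elim g 0]
  exact (GmapL I W i (presSC π).g).map_zero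

include hI in
/-- Vanishing of `G^i(M)` for `i > 0` and finite `M`. -/
theorem subsingleton_G_pos (hW : DRing.TermwiseInjective W) (a b a' b' : ℤ)
    (hvI : DRing.VanishesOutside I a b) (hvW : DRing.VanishesOutside W a' b')
    (hκ : ∀ i : ℤ, 0 < i →
      Subsingleton (G I W i (ModuleCat.of A (A ⧸ IsLocalRing.maximalIdeal A))))
    (hfin : ∀ i : ℤ, Module.Finite A (G I W i (ModuleCat.of A A)))
    (i : ℤ) (hi : 0 < i) (M : ModuleCat.{u} A) [Module.Finite A M] :
    Subsingleton (G I W i M) := by
  have key : ∀ n : ℤ, n ≤ max i (b' - a + 1) → 0 < n →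
      ∀ (M : ModuleCat.{u} A) [Module.Finite A M], Subsingleton (G I W n M) := by
    refine Int.leInductionDown ?_ ?_
    · intro _ M _
      exact subsingleton_G_of_gt I W hW a b a' b' hvI hvW M _
        (lt_of_lt_of_le (by lia : b' - a < b' - a + 1) (le_max_right _ _))
    · intro n _ hn hpos M _
      have h1 : ∀ (M : ModuleCat.{u} A) [Module.Finite A M],
          Subsingleton (G I W (n - 1 + 1) M) := by
        have : n - 1 + 1 = n := by ring
        rw [this]
        exact hn (by lia)
      exact subsingleton_G_step I W hI (n - 1) h1 (hκ _ hpos) (hfin _) M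
  exact key i (le_max_left _ _) hi M

end Local

end Groth.Agent.Lib.Helper13.DualBC
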