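import Groth.Agent.Lib.Helper13.DualBC23

/-!
# Uniqueness of dualizing complexes, part 2
-/

set_option autoImplicit false
set_option linter.unusedSectionVars false

open CategoryTheory CategoryTheory.Limits Pretriangulated

universe u

namespace Groth.Agent.Lib.Helper13.DualBC

open DerivedCategory Groth.Agent.Lib.Helper13.Coind Groth.Agent.Lib.Helper13.PC
  Groth.Agent.Lib.Helper13.DR Groth.Agent.Lib.Helper13.Shriek Groth.Agent.Lib.Helper13.BD

attribute [local instance] HasDerivedCategory.standard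

section DmIso

variable {A : Type u} [CommRing A] (I : DRing.Cx A)

/-- The dual complex of isomorphic modules. -/
noncomputable def DmIso {M N : ModuleCat.{u} A} (e : M ≅ N) : Dm I N ≅ Dm I M where
  hom := DmMap I e.hom
  inv := DmMap I e.inv
  hom_inv_id := by rw [← DmMap_comp, e.inv_hom_id, DmMap_id]
  inv_hom_id := by rw [← DmMap_comp, e.hom_inv_id, DmMap_id]

end DmIso

section ResidueIso

variable (A : Type u) [CommRing A] [IsNoetherianRing A]

/-- The dual of a residue field is a shift of the residue field. -/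
theorem exists_Dm_residue_iso (I : DRing.Cx A) (a b : ℤ) (hv : DRing.VanishesOutside I a b)
    (hI : DRing.TermwiseInjective I)
    (h4' : Function.Bijective (fun a : A => a • 𝟙 (Q.obj I : Dual.D A)))
    (h5' : ∀ i : ℤ, i ≠ 0 → Subsingleton ((Q.obj I : Dual.D A) ⟶ (Q.obj I : Dual.D A)⟦i⟧))
    (m : Ideal A) [hm : m.IsMaximal] :
    ∃ j : ℤ, Nonempty ((Q.obj (Dm I (ModuleCat.of A (A ⧸ m))) : Dual.D A) ≅
      (Dual.inD A (A ⧸ m))⟦-j⟧) := by
  let _ : Field (A ⧸ m) := Ideal.Quotient.field m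
  have hK : I.IsKInjective := isKInjective_of_forall_injective I a (fun i hi => hv i (Or.inl hi))
    (fun i => (injective_iff _).2 (hI i))
  obtain ⟨k1, -⟩ := toEnd_Rco_aux (B := A ⧸ m) I hI a b hv h4' h5'
  obtain ⟨j, ⟨ε⟩⟩ := exists_iso_single_of_bijective_toEnd _ k1
  let ε1 : (Q.obj (Dm I (BA A (A ⧸ m))) : Dual.D A) ≅
      (DerivedCategory.singleFunctor (ModuleCat.{u} A) j).obj (BA A (A ⧸ m)) :=
    (theta (A ⧸ m) I).symm ≪≫ (DRing.restrictD (algebraMap A (A ⧸ m))).mapIso ε ≪≫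
      ((ModuleCat.restrictScalars.{u} (algebraMap A (A ⧸ m))).mapDerivedCategorySingleFunctor
        j).app (ModuleCat.of (A ⧸ m) (A ⧸ m))
  let ε2 : (Q.obj (Dm I (BA A (A ⧸ m))) : Dual.D A) ≅ (Dual.inD A (A ⧸ m))⟦-j⟧ :=
    ε1 ≪≫ (DerivedCategory.singleFunctor (ModuleCat.{u} A) j).mapIso
        (restrictSelfIso (A := A) (B := A ⧸ m)) ≪≫
      (((DerivedCategory.singleFunctors (ModuleCat.{u} A)).shiftIso (-j) j 0 (by simp)).app
        (ModuleCat.of A (A ⧸ m))).symm
  exact ⟨j, ⟨Q.mapIso (DmIso I (restrictSelfIso (A := A) (B := A ⧸ m))) ≪≫ ε2⟩⟩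

end ResidueIso

section Local

variable (A : Type u) [CommRing A] [IsLocalRing A] [IsNoetherianRing A]

/-- For a normalized dualizing complex, the dual of the residue field is the residue field. -/
theorem Dm_residue_iso_of_normalized (I : DRing.Cx A) (a b : ℤ)
    (hv : DRing.VanishesOutside I a b) (hI : DRing.TermwiseInjective I)
    (hω : Dual.IsDualizing A (Q.obj I)) (hn : Dual.IsNormalized A (Q.obj I)) :
    Nonempty ((Q.obj (Dm I (ModuleCat.of A (A ⧸ IsLocalRing.maximalIdeal A))) : Dual.D A) ≅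
      Dual.inD A (A ⧸ IsLocalRing.maximalIdeal A)) := by
  have h4' := hω.toEnd_bijective
  have h5' := hω.ext_self_subsingleton
  obtain ⟨j, ⟨ε⟩⟩ := exists_Dm_residue_iso A I a b hv hI h4' h5' (IsLocalRing.maximalIdeal A)
  have hfin : Module.Finite A (ModuleCat.of A (A ⧸ IsLocalRing.maximalIdeal A)) :=
    inferInstanceAs (Module.Finite A (A ⧸ IsLocalRing.maximalIdeal A))
  have hR := refl_of_finite I hI h4' h5' a b hv (ModuleCat.of A (A ⧸ IsLocalRing.maximalIdeal A))
  have hnt0 : Nontrivial (A ⧸ IsLocalRing.maximalIdeal A) :=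
    Ideal.Quotient.nontrivial_iff.2 (IsLocalRing.maximalIdeal.isMaximal A).ne_top
  have hnt : Nontrivial (T I 0 (ModuleCat.of A (A ⧸ IsLocalRing.maximalIdeal A))) :=
    (Equiv.ofBijective _ hR.1).symm.nontrivial
  have hj : j = 0 := by
    by_contra hj
    have h1 : Subsingleton (Dual.inD A (A ⧸ IsLocalRing.maximalIdeal A) ⟶
        (Q.obj I : Dual.D A)⟦j⟧) := hn j hj
    have h2 : Subsingleton (Dual.inD A (A ⧸ IsLocalRing.maximalIdeal A) ⟶
        ((Q.obj I : Dual.D A)⟦(0 : ℤ)⟧)⟦j⟧) :=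
      (Iso.homCongr (Iso.refl _) ((shiftFunctorAdd' (Dual.D A) 0 j j (zero_add j)).app
        (Q.obj I))).symm.subsingleton
    have h3 : Subsingleton ((Dual.inD A (A ⧸ IsLocalRing.maximalIdeal A))⟦-j⟧ ⟶
        ((Q.obj I : Dual.D A)⟦(0 : ℤ)⟧)) :=
      (shiftHomLinearEquiv _ _ j).toEquiv.subsingleton
    have h4 : Subsingleton (T I 0 (ModuleCat.of A (A ⧸ IsLocalRing.maximalIdeal A))) :=
      (Iso.homCongr ε (Iso.refl _)).subsingleton
    exact not_subsingleton _ h4
  subst hj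
  exact ⟨ε ≪≫ (shiftFunctorZero' (Dual.D A) (-0 : ℤ) (by simp)).app _⟩

/-- Finiteness of `Hom(ω, ω'[i])`. -/
lemma finite_hom_dualizing (ω ω' : Dual.D A) (hω : Dual.IsDualizing A ω)
    (hω' : Dual.IsDualizing A ω') (i : ℤ) : Module.Finite A (ω ⟶ ω'⟦i⟧) := by
  obtain ⟨c, hc⟩ := exists_isGE_of_isDualizing ω' hω'
  obtain ⟨-, ⟨a, b, h2⟩, h3, -, -⟩ := hω
  have hb : ∀ i : ℤ, b < i → Subsingleton (Dual.HD A ω i) := fun i hi =>
    ModuleCat.subsingleton_of_isZero (isZero_HD_of_subsingleton_ext ω i (h2 A i (Or.inr hi)))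
  have hpc : DRing.IsPseudoCoherent' A ω := isPseudoCoherent'_of_bdd_finite ω b hb h3
  have hLE : ω.IsLE b := isLE_of_subsingleton_HD ω b hb
  have hGE : (ω'⟦i⟧).IsGE (c - i) := TStructure.t.isGE_shift ω' c i (c - i) (by omega)
  exact FC.finite_hom_of_isGE hpc b (ω'⟦i⟧) (c - i) (finite_HD_shift ω' hω'.finite_cohomology i)

/-- A nonzero linear endomorphism of the residue field is bijective. -/
lemma bijective_of_ne_zero_residue (φ : (A ⧸ IsLocalRing.maximalIdeal A) →ₗ[A]
    (A ⧸ IsLocalRing.maximalIdeal A)) (h : φ ≠ 0) : Function.Bijective φ := by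
  let _ : Field (A ⧸ IsLocalRing.maximalIdeal A) :=
    Ideal.Quotient.field (IsLocalRing.maximalIdeal A)
  have hφ : ∀ x, φ x = x * φ 1 := by
    intro x
    obtain ⟨a, rfl⟩ := Ideal.Quotient.mk_surjective x
    have : (Ideal.Quotient.mk (IsLocalRing.maximalIdeal A) a) =
        a • (1 : A ⧸ IsLocalRing.maximalIdeal A) := by
      rw [Algebra.smul_def, mul_one]; rfl
    rw [this, map_smul, Algebra.smul_def, Algebra.smul_def, mul_one]
  have h1 : φ 1 ≠ 0 := by
    intro h0
    apply h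
    refine LinearMap.ext fun x => ?_
    rw [hφ, h0, mul_zero]
    rfl
  constructor
  · intro x y hxy
    rw [hφ x, hφ y] at hxy
    exact mul_right_cancel₀ h1 hxy
  · intro y
    refine ⟨y * (φ 1)⁻¹, ?_⟩
    rw [hφ, mul_assoc, inv_mul_cancel₀ h1, mul_one]

end Local

end Groth.Agent.Lib.Helper13.DualBC
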