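import Groth.Agent.Lib.Helper13.DualBC24

/-!
# Uniqueness of dualizing complexes, part 3
-/

set_option autoImplicit false
set_option linter.unusedSectionVars false

open CategoryTheory CategoryTheory.Limits Pretriangulated

universe u

namespace Groth.Agent.Lib.Helper13.DualBC

open DerivedCategory Groth.Agent.Lib.Helper13.Coind Groth.Agent.Lib.Helper13.PC
  Groth.Agent.Lib.Helper13.DR Groth.Agent.Lib.Helper13.Shriek Groth.Agent.Lib.Helper13.BD

attribute [local instance] HasDerivedCategory.standard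

section Generic

variable {A : Type u} [CommRing A]

lemma shiftHomLinearEquiv_comp (X Y Y' : Dual.D A) (f : Y ⟶ Y') (j : ℤ) (t : X⟦-j⟧ ⟶ Y) :
    shiftHomLinearEquiv X Y' j (t ≫ f) = shiftHomLinearEquiv X Y j t ≫ f⟦j⟧' := by
  change (shiftFunctorCompIsoId (Dual.D A) (-j) j (by simp)).inv.app X ≫ (t ≫ f)⟦j⟧' =
    ((shiftFunctorCompIsoId (Dual.D A) (-j) j (by simp)).inv.app X ≫ t⟦j⟧') ≫ f⟦j⟧'
  rw [Functor.map_comp, Category.assoc]

/-- Morphisms into the cone vanish if composition with the map is suitably bijective. -/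
lemma eq_zero_of_cone (T : Triangle (Dual.D A)) (hT : T ∈ distTriang (Dual.D A)) (X : Dual.D A)
    (hsurj : Function.Surjective (fun t : X ⟶ T.obj₁ => t ≫ T.mor₁))
    (hinj : Function.Injective (fun t : X ⟶ T.obj₁⟦(1 : ℤ)⟧ => t ≫ T.mor₁⟦(1 : ℤ)⟧'))
    (t : X ⟶ T.obj₃) : t = 0 := by
  have h1 : (t ≫ T.mor₃) ≫ T.mor₁⟦(1 : ℤ)⟧' = 0 := by
    rw [Category.assoc, comp_distTriang_mor_zero₃₁ _ hT, comp_zero]
  have h2 : t ≫ T.mor₃ = 0 := hinj (h1.trans zero_comp.symm)
  obtain ⟨t', ht'⟩ := Triangle.coyoneda_exact₃ T hT t h2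
  obtain ⟨t'', rfl⟩ := hsurj t'
  rw [ht', Category.assoc, comp_distTriang_mor_zero₁₂ _ hT, comp_zero]

/-- If `f` induces bijections on `Hom(X, -[j])` for all `j`, then `Hom(X, C[j]) = 0` for the
cone `C` of `f`. -/
lemma subsingleton_hom_cone (T : Triangle (Dual.D A)) (hT : T ∈ distTriang (Dual.D A))
    (X : Dual.D A)
    (hF : ∀ j : ℤ, Function.Bijective (fun t : X ⟶ T.obj₁⟦j⟧ => t ≫ T.mor₁⟦j⟧')) (j : ℤ) :
    Subsingleton (X ⟶ T.obj₃⟦j⟧) := by
  -- bijectivity for the test objects `X[-j]`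
  have hP : ∀ j : ℤ, Function.Bijective (fun t : X⟦-j⟧ ⟶ T.obj₁ => t ≫ T.mor₁) := by
    intro j
    have h : (fun t : X⟦-j⟧ ⟶ T.obj₁ => t ≫ T.mor₁) =
        (shiftHomLinearEquiv X T.obj₂ j).symm ∘ (fun t : X ⟶ T.obj₁⟦j⟧ => t ≫ T.mor₁⟦j⟧') ∘
          (shiftHomLinearEquiv X T.obj₁ j) := by
      funext t
      change _ = (shiftHomLinearEquiv X T.obj₂ j).symm (shiftHomLinearEquiv X T.obj₁ j t ≫ _)
      rw [← shiftHomLinearEquiv_comp, LinearEquiv.symm_apply_apply]
    rw [h]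
    exact (shiftHomLinearEquiv X T.obj₂ j).symm.bijective.comp
      ((hF j).comp (shiftHomLinearEquiv X T.obj₁ j).bijective)
  have hz : ∀ t : X⟦-j⟧ ⟶ T.obj₃, t = 0 := by
    refine eq_zero_of_cone T hT _ (hP j).2 ?_
    -- injectivity on `Hom(X[-j], ω[1])`
    let e : X⟦-(j + 1)⟧ ≅ (X⟦-j⟧)⟦(-1 : ℤ)⟧ :=
      (shiftFunctorAdd' (Dual.D A) (-j) (-1) (-(j + 1)) (by ring)).app X
    have hP' : Function.Injective (fun t : (X⟦-j⟧)⟦-(1 : ℤ)⟧ ⟶ T.obj₁ => t ≫ T.mor₁) := by
      intro t₁ t₂ h12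
      have h12' : t₁ ≫ T.mor₁ = t₂ ≫ T.mor₁ := h12
      have : e.hom ≫ t₁ = e.hom ≫ t₂ := by
        apply (hP (j + 1)).1
        change (e.hom ≫ t₁) ≫ T.mor₁ = (e.hom ≫ t₂) ≫ T.mor₁
        rw [Category.assoc, Category.assoc, h12']
      exact (cancel_epi e.hom).1 this
    intro t₁ t₂ h12
    have h12' : t₁ ≫ T.mor₁⟦(1 : ℤ)⟧' = t₂ ≫ T.mor₁⟦(1 : ℤ)⟧' := h12
    apply (shiftHomLinearEquiv (X⟦-j⟧) T.obj₁ 1).symm.injective
    apply hP'
    apply (shiftHomLinearEquiv (X⟦-j⟧) T.obj₂ 1).injective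
    change shiftHomLinearEquiv (X⟦-j⟧) T.obj₂ 1
        ((shiftHomLinearEquiv (X⟦-j⟧) T.obj₁ 1).symm t₁ ≫ T.mor₁) =
      shiftHomLinearEquiv (X⟦-j⟧) T.obj₂ 1
        ((shiftHomLinearEquiv (X⟦-j⟧) T.obj₁ 1).symm t₂ ≫ T.mor₁)
    rw [shiftHomLinearEquiv_comp, shiftHomLinearEquiv_comp, LinearEquiv.apply_symm_apply,
      LinearEquiv.apply_symm_apply, h12']
  have : Subsingleton (X⟦-j⟧ ⟶ T.obj₃) := ⟨fun x y => (hz x).trans (hz y).symm⟩
  exact (shiftHomLinearEquiv X T.obj₃ j).symm.toEquiv.subsingleton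

end Generic

section Local

variable (A : Type u) [CommRing A] [IsLocalRing A] [IsNoetherianRing A]

/-- A morphism of normalized dualizing complexes which does not kill the socle is an
isomorphism. -/
theorem isIso_of_residue (ω ω' : Dual.D A) (hω : Dual.IsDualizing A ω)
    (hω' : Dual.IsDualizing A ω') (hn : Dual.IsNormalized A ω) (hn' : Dual.IsNormalized A ω')
    (f : ω ⟶ ω') (s : Dual.inD A (A ⧸ IsLocalRing.maximalIdeal A) ⟶ ω) (hs : s ≫ f ≠ 0) :
    IsIso f := by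
  -- bijectivity on `Ext^j(κ, -)`
  have hF : ∀ j : ℤ, Function.Bijective
      (fun t : Dual.inD A (A ⧸ IsLocalRing.maximalIdeal A) ⟶ ω⟦j⟧ => t ≫ f⟦j⟧') := by
    intro j
    by_cases hj : j = 0
    · subst hj
      obtain ⟨E⟩ := ext_residue_normalized A ω hω hn
      obtain ⟨E'⟩ := ext_residue_normalized A ω' hω' hn'
      let F : (Dual.inD A (A ⧸ IsLocalRing.maximalIdeal A) ⟶ ω⟦(0 : ℤ)⟧) →ₗ[A]
          (Dual.inD A (A ⧸ IsLocalRing.maximalIdeal A) ⟶ ω'⟦(0 : ℤ)⟧) :=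
        Linear.rightComp A _ (f⟦(0 : ℤ)⟧')
      let φ : (A ⧸ IsLocalRing.maximalIdeal A) →ₗ[A] (A ⧸ IsLocalRing.maximalIdeal A) :=
        E'.toLinearMap ∘ₗ F ∘ₗ E.symm.toLinearMap
      have hφ : φ ≠ 0 := by
        intro h0
        apply hs
        have h1 : φ (E (s ≫ (shiftFunctorZero (Dual.D A) ℤ).inv.app ω)) = 0 := by
          rw [h0]; rfl
        have h2 : E' ((s ≫ (shiftFunctorZero (Dual.D A) ℤ).inv.app ω) ≫ f⟦(0 : ℤ)⟧') = 0 := by
          have : φ (E (s ≫ (shiftFunctorZero (Dual.D A) ℤ).inv.app ω)) =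
              E' (E.symm (E (s ≫ (shiftFunctorZero (Dual.D A) ℤ).inv.app ω)) ≫ f⟦(0 : ℤ)⟧') :=
            rfl
          rw [this, LinearEquiv.symm_apply_apply] at h1
          exact h1
        have h3 : (s ≫ (shiftFunctorZero (Dual.D A) ℤ).inv.app ω) ≫ f⟦(0 : ℤ)⟧' = 0 :=
          E'.injective (h2.trans (map_zero E').symm)
        have h4 : (s ≫ f) ≫ (shiftFunctorZero (Dual.D A) ℤ).inv.app ω' = 0 := by
          rw [← h3, Category.assoc, Category.assoc]
          congr 1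
          exact ((shiftFunctorZero (Dual.D A) ℤ).inv.naturality f)
        rw [← cancel_mono ((shiftFunctorZero (Dual.D A) ℤ).inv.app ω'), h4, zero_comp]
      have hb := bijective_of_ne_zero_residue A φ hφ
      have h : (fun t : Dual.inD A (A ⧸ IsLocalRing.maximalIdeal A) ⟶ ω⟦(0 : ℤ)⟧ =>
          t ≫ f⟦(0 : ℤ)⟧') = E'.symm ∘ φ ∘ E := by
        funext t
        change _ = E'.symm (E' (E.symm (E t) ≫ f⟦(0 : ℤ)⟧'))
        rw [LinearEquiv.symm_apply_apply, LinearEquiv.symm_apply_apply]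
      rw [h]
      exact E'.symm.bijective.comp (hb.comp E.bijective)
    · have h1 := hn j hj
      have h2 := hn' j hj
      exact ⟨fun x y _ => h1.elim x y, fun y => ⟨0, h2.elim _ _⟩⟩
  obtain ⟨C, g, h, hT⟩ := distinguished_cocone_triangle f
  have hC : ∀ j : ℤ, Subsingleton (Dual.inD A (A ⧸ IsLocalRing.maximalIdeal A) ⟶ C⟦j⟧) :=
    fun j => subsingleton_hom_cone (Triangle.mk f g h) hT _ hF j
  -- `C` is bounded below with finite cohomology
  obtain ⟨c, hc⟩ := exists_isGE_of_isDualizing ω hω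
  obtain ⟨c', hc'⟩ := exists_isGE_of_isDualizing ω' hω'
  have hCz : ∀ i : ℤ, i < min c c' - 1 → IsZero ((DerivedCategory.homologyFunctor
      (ModuleCat.{u} A) i).obj C) := by
    intro i hi
    have h1 : IsZero ((DerivedCategory.homologyFunctor (ModuleCat.{u} A) i).obj ω') :=
      ω'.isZero_of_isGE c' i (by omega)
    have h2 : IsZero ((DerivedCategory.homologyFunctor (ModuleCat.{u} A) (i + 1)).obj ω) :=
      ω.isZero_of_isGE c (i + 1) (by omega)
    exact (DerivedCategory.HomologySequence.exact₃ _ hT i (i + 1) rfl).isZero_of_both_isZero h1 h2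
  have hCGE : C.IsGE (min c c' - 1) := by
    rw [DerivedCategory.isGE_iff]
    exact hCz
  have hCfin : ∀ i : ℤ, Module.Finite A (Dual.HD A C i) := by
    intro i
    have hex := DerivedCategory.HomologySequence.exact₃ _ hT i (i + 1) rfl
    rw [ShortComplex.moduleCat_exact_iff_range_eq_ker] at hex
    have h1 : Module.Finite A (Dual.HD A ω' i) := hω'.finite_cohomology i
    have h2 : Module.Finite A (Dual.HD A ω (i + 1)) := hω.finite_cohomology (i + 1)
    have i1 : IsNoetherian A ((DerivedCategory.homologyFunctor (ModuleCat.{u} A) i).obj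
        (Triangle.mk f g h).obj₂) := by
      change IsNoetherian A (Dual.HD A ω' i)
      infer_instance
    have i2 : IsNoetherian A ((DerivedCategory.homologyFunctor (ModuleCat.{u} A) (i + 1)).obj
        (Triangle.mk f g h).obj₁) := by
      change IsNoetherian A (Dual.HD A ω (i + 1))
      infer_instance
    have : IsNoetherian A (Dual.HD A C i) :=
      isNoetherian_of_range_eq_ker
        (((DerivedCategory.homologyFunctor (ModuleCat.{u} A) i).map g).hom :
          Dual.HD A ω' i →ₗ[A] Dual.HD A C i)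
        ((DerivedCategory.HomologySequence.δ (Triangle.mk f g h) i (i + 1) rfl).hom :
          Dual.HD A C i →ₗ[A] Dual.HD A ω (i + 1)) hex
    infer_instance
  have hCzero : IsZero C := by
    refine isZero_of_forall_isZero_homology C (fun i => ?_)
    have hb := bass C (min c c' - 1) hCfin (i - 1) (fun m hm k _ => by
      rw [IsLocalRing.eq_maximalIdeal hm]
      exact hC k) ⊥ i (by omega)
    let e : Dual.inD A (A ⧸ (⊥ : Ideal A)) ≅ Dual.inD A A :=
      (DerivedCategory.singleFunctor (ModuleCat.{u} A) 0).mapIso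
        (Submodule.quotEquivOfEqBot (⊥ : Ideal A) rfl).toModuleIso
    have : Subsingleton (Dual.inD A A ⟶ C⟦i⟧) :=
      (Iso.homCongr e (Iso.refl _)).symm.subsingleton
    exact isZero_HD_of_subsingleton_ext C i this
  exact (Triangle.isZero₃_iff_isIso₁ _ hT).1 hCzero

end Local

section Main

variable (A : Type u) [CommRing A] [IsLocalRing A] [IsNoetherianRing A]

lemma isNormalized_of_iso {K L : Dual.D A} (e : K ≅ L) (h : Dual.IsNormalized A K) :
    Dual.IsNormalized A L := by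
  intro i hi
  have := h i hi
  exact (Iso.homCongr (Iso.refl _) ((shiftFunctor (Dual.D A) i).mapIso e)).symm.subsingleton

theorem iso_of_normalized_aux (I W : DRing.Cx A) (a b a' b' : ℤ)
    (hvI : DRing.VanishesOutside I a b) (hvW : DRing.VanishesOutside W a' b')
    (hI : DRing.TermwiseInjective I) (hW : DRing.TermwiseInjective W)
    (hω : Dual.IsDualizing A (Q.obj I)) (hω' : Dual.IsDualizing A (Q.obj W))
    (hn : Dual.IsNormalized A (Q.obj I)) (hn' : Dual.IsNormalized A (Q.obj W)) :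
    Nonempty ((Q.obj I : Dual.D A) ≅ Q.obj W) := by
  obtain ⟨ε⟩ := Dm_residue_iso_of_normalized A I a b hvI hI hω hn
  have hκ : ∀ i : ℤ, 0 < i →
      Subsingleton (G I W i (ModuleCat.of A (A ⧸ IsLocalRing.maximalIdeal A))) := fun i hi => by
    have : Subsingleton (Dual.inD A (A ⧸ IsLocalRing.maximalIdeal A) ⟶
      (Q.obj W : Dual.D A)⟦i⟧) := hn' i (by omega)
    exact (Iso.homCongr ε (Iso.refl _)).subsingleton
  have hfin : ∀ i : ℤ, Module.Finite A (G I W i (ModuleCat.of A A)) := fun i => by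
    have := finite_hom_dualizing A _ _ hω hω' i
    exact Module.Finite.equiv (Linear.homCongr A (Q.mapIso (evOneIso I)).symm (Iso.refl _))
  have hG := subsingleton_G_pos I W hI hW a b a' b' hvI hvW hκ hfin
  have hS := subSC_shortExact (A := A) (M := A) (IsLocalRing.maximalIdeal A)
  have hfinm : Module.Finite A (ModuleCat.of A (IsLocalRing.maximalIdeal A)) :=
    inferInstanceAs (Module.Finite A (IsLocalRing.maximalIdeal A))
  obtain ⟨E'⟩ := ext_residue_normalized A (Q.obj W) hω' hn'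
  have hnt0 : Nontrivial (A ⧸ IsLocalRing.maximalIdeal A) :=
    Ideal.Quotient.nontrivial_iff.2 (IsLocalRing.maximalIdeal.isMaximal A).ne_top
  have hnt : Nontrivial (G I W 0 (ModuleCat.of A (A ⧸ IsLocalRing.maximalIdeal A))) :=
    ((Iso.homCongr ε (Iso.refl _)).trans E'.toEquiv).nontrivial
  obtain ⟨z, hz⟩ := exists_ne (0 : G I W 0 (ModuleCat.of A (A ⧸ IsLocalRing.maximalIdeal A)))
  obtain ⟨g, hg⟩ := G_surj I W (subSC (A := A) (M := A) (IsLocalRing.maximalIdeal A)) hI hS 0 1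
    (by norm_num) (hG 1 one_pos (ModuleCat.of A (IsLocalRing.maximalIdeal A))) z
  obtain ⟨d, g', hg'⟩ : ∃ (d : (Q.obj (Dm I (ModuleCat.of A (A ⧸ IsLocalRing.maximalIdeal A))) :
      Dual.D A) ⟶ (Q.obj (Dm I (ModuleCat.of A A)) : Dual.D A))
      (g' : (Q.obj (Dm I (ModuleCat.of A A)) : Dual.D A) ⟶
      (Q.obj W : Dual.D A)⟦(0 : ℤ)⟧), z = d ≫ g' :=
    ⟨Q.map (DmMap I (subSC (A := A) (M := A) (IsLocalRing.maximalIdeal A)).g), g, hg⟩
  let f : (Q.obj I : Dual.D A) ⟶ Q.obj W :=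
    Q.map (evOneIso I).inv ≫ g' ≫ (shiftFunctorZero (Dual.D A) ℤ).hom.app _
  let s : Dual.inD A (A ⧸ IsLocalRing.maximalIdeal A) ⟶ (Q.obj I : Dual.D A) :=
    ε.inv ≫ d ≫ Q.map (evOneIso I).hom
  have key : Q.map (evOneIso I).hom ≫ Q.map (evOneIso I).inv = 𝟙 _ := by
    rw [← Functor.map_comp, Iso.hom_inv_id, CategoryTheory.Functor.map_id]
  have hsf : s ≫ f = ε.inv ≫ z ≫ (shiftFunctorZero (Dual.D A) ℤ).hom.app _ := by
    change (ε.inv ≫ d ≫ Q.map (evOneIso I).hom) ≫ (Q.map (evOneIso I).inv ≫ g' ≫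
        (shiftFunctorZero (Dual.D A) ℤ).hom.app _) = _
    rw [hg']
    simp only [Category.assoc]
    rw [reassoc_of% key]
  have hs : s ≫ f ≠ 0 := by
    intro h0
    apply hz
    rw [hsf] at h0
    have h1 : z ≫ (shiftFunctorZero (Dual.D A) ℤ).hom.app _ = 0 := by
      rw [← cancel_epi ε.inv, h0, comp_zero]
    rw [← cancel_mono ((shiftFunctorZero (Dual.D A) ℤ).hom.app (Q.obj W : Dual.D A)), h1, zero_comp]
  have := isIso_of_residue A _ _ hω hω' hn hn' f s hs
  exact ⟨asIso f⟩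

/-- Two normalized dualizing complexes over a Noetherian local ring are isomorphic. -/
theorem iso_of_normalized (ω ω' : Dual.D A) (hω : Dual.IsDualizing A ω)
    (hω' : Dual.IsDualizing A ω') (hn : Dual.IsNormalized A ω) (hn' : Dual.IsNormalized A ω') :
    Nonempty (ω ≅ ω') := by
  obtain ⟨a, b, h2⟩ := hω.finite_injective_dimension
  obtain ⟨a', b', h2'⟩ := hω'.finite_injective_dimension
  obtain ⟨I, hvI, hI, ⟨e⟩⟩ := hasInjAmplitudeIn_of_quotients ω a b
    (fun J i hi => h2 (A ⧸ J) i hi)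
  obtain ⟨W, hvW, hW, ⟨e'⟩⟩ := hasInjAmplitudeIn_of_quotients ω' a' b'
    (fun J i hi => h2' (A ⧸ J) i hi)
  obtain ⟨ι⟩ := iso_of_normalized_aux A I W a b a' b' hvI hvW hI hW
    (isDualizing_of_iso e.symm hω) (isDualizing_of_iso e'.symm hω')
    (isNormalized_of_iso A e.symm hn) (isNormalized_of_iso A e'.symm hn')
  exact ⟨e.symm ≪≫ ι ≪≫ e'⟩

/-- Uniqueness of dualizing complexes over a Noetherian local ring up to shift. -/
theorem dualizing_unique_up_to_shift (ω ω' : Dual.D A) (hω : Dual.IsDualizing A ω)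
    (hω' : Dual.IsDualizing A ω') : ∃ n : ℤ, Nonempty (ω' ≅ ω⟦n⟧) := by
  obtain ⟨k, hk⟩ := exists_normalized_shift ω hω
  obtain ⟨k', hk'⟩ := exists_normalized_shift ω' hω'
  obtain ⟨e⟩ := iso_of_normalized A (ω'⟦k'⟧) (ω⟦k⟧) (isDualizing_shift ω' hω' k')
    (isDualizing_shift ω hω k) hk' hk
  refine ⟨k - k', ⟨?_⟩⟩
  exact (shiftFunctorCompIsoId (Dual.D A) k' (-k') (by simp)).symm.app ω' ≪≫
    (shiftFunctor (Dual.D A) (-k')).mapIso e ≪≫
    ((shiftFunctorAdd' (Dual.D A) k (-k') (k - k') (by ring)).app ω).symm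

end Main

end Groth.Agent.Lib.Helper13.DualBC
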