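import Groth.Agent.Lib.Helper13.DualBC25

/-!
# The dimension function of a normalized dualizing complex
-/

set_option autoImplicit false
set_option linter.unusedSectionVars false

open CategoryTheory CategoryTheory.Limits Pretriangulated

universe u

namespace Groth.Agent.Lib.Helper13.DualBC

open DerivedCategory Groth.Agent.Lib.Helper13.Coind Groth.Agent.Lib.Helper13.PC
  Groth.Agent.Lib.Helper13.DR Groth.Agent.Lib.Helper13.Shriek Groth.Agent.Lib.Helper13.BD
  Groth.Agent.Lib.Helper13.HomBC

attribute [local instance] HasDerivedCategory.standard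

section Order

variable {α : Type*} [PartialOrder α]

/-- For a strictly monotone integer valued function, every non-maximal element is covered. -/
lemma exists_covBy_of_strictMono (T : α → ℤ) (hT : StrictMono T) (p m : α) (hpm : p < m) :
    ∃ q, p ⋖ q ∧ q ≤ m := by
  -- choose `q ∈ (p, m]` with `T q` minimal
  have hex : ∃ n : ℕ, ∃ q, p < q ∧ q ≤ m ∧ T q = T p + 1 + n := by
    refine ⟨(T m - T p - 1).toNat, m, hpm, le_rfl, ?_⟩
    have := hT hpm
    omega
  classical
  obtain ⟨q, hq1, hq2, hq3⟩ := Nat.find_spec hex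
  refine ⟨q, ⟨hq1, fun r hpr hrq => ?_⟩, hq2⟩
  have h1 := hT hpr
  have h2 := hT hrq
  have hmin := Nat.find_min hex (m := (T r - T p - 1).toNat) (by
    have : (T r - T p - 1).toNat < (T q - T p - 1).toNat := by omega
    have h3 : Nat.find hex = (T q - T p - 1).toNat := by omega
    rw [h3]
    exact this)
  exact hmin ⟨r, hpr, hrq.le.trans hq2, by omega⟩

/-- A dimension function computes the coheight. -/
lemma coheight_eq_of_dimFunction (T : α → ℤ) (hT : StrictMono T)
    (hcov : ∀ a b : α, a ⋖ b → T b = T a + 1) (m : α) (hm : ∀ p, p ≤ m) (hm0 : T m = 0) (p : α) :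
    T p ≤ 0 ∧ Order.coheight p = ((-T p).toNat : ℕ∞) := by
  have hle : T p ≤ 0 := by
    rw [← hm0]
    exact hT.monotone (hm p)
  refine ⟨hle, le_antisymm ?_ ?_⟩
  · refine Order.coheight_le (fun s hs => ?_)
    have h1 := add_length_le_of_strictMono T hT s
    have h2 : T s.last ≤ 0 := by
      rw [← hm0]
      exact hT.monotone (hm _)
    rw [hs] at h1
    have : s.length ≤ (-T p).toNat := by omega
    exact_mod_cast this
  · have key : ∀ (n : ℕ) (p : α), T p = -(n : ℤ) → (n : ℕ∞) ≤ Order.coheight p := by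
      intro n
      induction n with
      | zero => intro p _; simp
      | succ n ih =>
        intro p hp
        have hpm : p < m := by
          refine lt_of_le_of_ne (hm p) (fun h => ?_)
          rw [h, hm0] at hp
          push_cast at hp
          omega
        obtain ⟨q, hpq, -⟩ := exists_covBy_of_strictMono T hT p m hpm
        have hq : T q = -(n : ℤ) := by
          rw [hcov p q hpq, hp]
          push_cast
          ring
        have h1 := ih q hq
        have h2 := Order.coheight_add_one_le hpq.lt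
        calc ((n + 1 : ℕ) : ℕ∞) = (n : ℕ∞) + 1 := by push_cast; rfl
          _ ≤ Order.coheight q + 1 := by gcongr
          _ ≤ Order.coheight p := h2
    exact key (-T p).toNat p (by omega)

end Order

section RingDim

variable {A : Type u} [CommRing A]

lemma ringKrullDim_quotient_eq_coheight (p : PrimeSpectrum A) :
    ringKrullDim (A ⧸ p.asIdeal) = (Order.coheight p : WithBot ℕ∞) := by
  rw [ringKrullDim_quotient, Order.coheight_eq_krullDim_Ici]
  rfl

end RingDim

section Local

variable (A : Type u) [CommRing A] [IsNoetherianRing A]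

/-- The localized `Ext` modules `Ext^i(A/p, ω)_p` are nonzero in exactly one degree. -/
lemma nontrivial_localized_ext_iff (ω : Dual.D A) (hω : Dual.IsDualizing A ω)
    (T : PrimeSpectrum A → ℤ)
    (hT : ∀ p : PrimeSpectrum A,
      p ∈ Module.support A (Dual.inD A (A ⧸ p.asIdeal) ⟶ ω⟦T p⟧) ∧
      ∀ j : ℤ, T p < j → p ∉ Module.support A (Dual.inD A (A ⧸ p.asIdeal) ⟶ ω⟦j⟧))
    (p : PrimeSpectrum A) (i : ℤ) :
    (i ≠ T p → Subsingleton (Dual.inD (Localization.AtPrime p.asIdeal)
        (Localization.AtPrime p.asIdeal ⧸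
          IsLocalRing.maximalIdeal (Localization.AtPrime p.asIdeal)) ⟶
        ((flatBC A (Localization.AtPrime p.asIdeal)).obj ω)⟦i⟧)) ∧
    (Nontrivial (LocalizedModule p.asIdeal.primeCompl
      (Dual.inD A (A ⧸ p.asIdeal) ⟶ ω⟦i⟧)) ↔ i = T p) := by
  obtain ⟨hA, ⟨a, b, h2⟩, h3, h4, h5⟩ := id hω
  have hvan : ∀ i : ℤ, i < a → Subsingleton (Dual.HD A ω i) := fun i hi =>
    ModuleCat.subsingleton_of_isZero (isZero_HD_of_subsingleton_ext ω i (h2 A i (Or.inl hi)))
  have hGE : ω.IsGE a := isGE_of_subsingleton_HD ω a hvan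
  have hd := isDualizing_flatBC_localization A p.asIdeal.primeCompl ω hω
  obtain ⟨n, hn, -⟩ := ext_residue (Localization.AtPrime p.asIdeal) _ hd
    (IsLocalRing.maximalIdeal (Localization.AtPrime p.asIdeal))
  have hmax : p.asIdeal.map (algebraMap A (Localization.AtPrime p.asIdeal)) =
      IsLocalRing.maximalIdeal (Localization.AtPrime p.asIdeal) :=
    Localization.AtPrime.map_eq_maximalIdeal
  have huniq : ∀ j : ℤ, Nontrivial (LocalizedModule p.asIdeal.primeCompl
      (Dual.inD A (A ⧸ p.asIdeal) ⟶ ω⟦j⟧)) → j = n := by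
    intro j hj
    by_contra hne
    have h0 := hn j hne
    rw [← hmax] at h0
    have h0' := (locHomEquiv A p.asIdeal p.asIdeal ω a j).subsingleton
    exact not_subsingleton _ h0'
  have hTn : T p = n := huniq (T p) (Module.mem_support_iff.1 (hT p).1)
  refine ⟨fun hi => hn i (by rw [← hTn]; exact hi), ?_, ?_⟩
  · intro h
    rw [hTn]
    exact huniq i h
  · rintro rfl
    exact Module.mem_support_iff.1 (hT p).1

end Local

section Normalized

variable (A : Type u) [CommRing A] [IsLocalRing A] [IsNoetherianRing A]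

/-- For a normalized dualizing complex, the dimension function is `p ↦ -dim(A/p)`. -/
theorem top_eq_neg_dim (ω : Dual.D A) (hω : Dual.IsDualizing A ω) (hn : Dual.IsNormalized A ω)
    (T : PrimeSpectrum A → ℤ) (hmono : StrictMono T)
    (hT : ∀ p : PrimeSpectrum A,
      p ∈ Module.support A (Dual.inD A (A ⧸ p.asIdeal) ⟶ ω⟦T p⟧) ∧
      ∀ j : ℤ, T p < j → p ∉ Module.support A (Dual.inD A (A ⧸ p.asIdeal) ⟶ ω⟦j⟧))
    (p : PrimeSpectrum A) :
    T p ≤ 0 ∧ ringKrullDim (A ⧸ p.asIdeal) = (((-T p).toNat : ℕ∞) : WithBot ℕ∞) := by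
  have hcov := top_covBy A ω hω T hmono hT
  let m : PrimeSpectrum A := ⟨IsLocalRing.maximalIdeal A, inferInstance⟩
  have hm : ∀ p : PrimeSpectrum A, p ≤ m := fun p => IsLocalRing.le_maximalIdeal p.isPrime.ne_top
  have hm0 : T m = 0 := by
    by_contra hne
    have h1 : Subsingleton (Dual.inD A (A ⧸ IsLocalRing.maximalIdeal A) ⟶ ω⟦T m⟧) := hn _ hne
    have h2 := (hT m).1
    have h3 : Subsingleton (LocalizedModule m.asIdeal.primeCompl
        (Dual.inD A (A ⧸ m.asIdeal) ⟶ ω⟦T m⟧)) := by
      change Subsingleton (LocalizedModule m.asIdeal.primeCompl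
        (Dual.inD A (A ⧸ IsLocalRing.maximalIdeal A) ⟶ ω⟦T m⟧))
      infer_instance
    exact (Module.notMem_support_iff.2 h3) h2
  obtain ⟨h1, h2⟩ := coheight_eq_of_dimFunction T hmono hcov m hm hm0 p
  refine ⟨h1, ?_⟩
  rw [ringKrullDim_quotient_eq_coheight, h2]

end Normalized

end Groth.Agent.Lib.Helper13.DualBC
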