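import Groth.Agent.Lib.Helper13.DualBC26

/-!
# Cohomology of a normalized dualizing complex at minimal primes
-/

set_option autoImplicit false
set_option linter.unusedSectionVars false

open CategoryTheory CategoryTheory.Limits Pretriangulated TensorProduct

universe u

namespace Groth.Agent.Lib.Helper13.DualBC

open DerivedCategory Groth.Agent.Lib.Helper13.Coind Groth.Agent.Lib.Helper13.PC
  Groth.Agent.Lib.Helper13.DR Groth.Agent.Lib.Helper13.Shriek Groth.Agent.Lib.Helper13.BD
  Groth.Agent.Lib.Helper13.HomBC

attribute [local instance] HasDerivedCategory.standard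

section Normalized

variable (A : Type u) [CommRing A] [IsLocalRing A] [IsNoetherianRing A]

theorem nontrivial_localized_HD_iff_minimalPrime (ω : Dual.D A) (hω : Dual.IsDualizing A ω)
    (hn : Dual.IsNormalized A ω) (p : Ideal A) (hp : p ∈ minimalPrimes A) (e : ℕ)
    (he : ringKrullDim (A ⧸ p) = e) (i : ℤ) :
    Nontrivial (LocalizedModule (Ideal.primeCompl p (hp := hp.1.1)) (Dual.HD A ω i)) ↔
      i = -(e : ℤ) := by
  have hpp : p.IsPrime := hp.1.1
  obtain ⟨T, hmono, hT⟩ := exists_strictMono_top A ω hω
  let P : PrimeSpectrum A := ⟨p, hpp⟩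
  obtain ⟨hT0, hdim⟩ := top_eq_neg_dim A ω hω hn T hmono hT P
  have hTe : T P = -(e : ℤ) := by
    have h1 : ringKrullDim (A ⧸ p) = (((-T P).toNat : ℕ∞) : WithBot ℕ∞) := hdim
    rw [he] at h1
    have h2 : (e : ℕ∞) = ((-T P).toNat : ℕ∞) := by exact_mod_cast h1
    have h3 : e = (-T P).toNat := by exact_mod_cast h2
    omega
  have hd := isDualizing_flatBC_localization A p.primeCompl ω hω
  have h0 : Ring.KrullDimLE 0 (Localization.AtPrime p) :=
    Ring.KrullDimLE.of_isLocalization p hp (Localization.AtPrime p)
  have hart : IsArtinianRing (Localization.AtPrime p) :=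
    isArtinianRing_iff_krullDimLE_zero.2 h0
  have hAp : IsFiniteLength (Localization.AtPrime p) (Localization.AtPrime p) :=
    isFiniteLength_iff_isNoetherian_isArtinian.2 ⟨inferInstance, inferInstance⟩
  have key : ∀ i : ℤ, (LocalizedModule p.primeCompl (Dual.HD A ω i)) ≃
      (Dual.HD (Localization.AtPrime p) ((flatBC A (Localization.AtPrime p)).obj ω) i) :=
    fun i => ((LocalizedModule.equivTensorProduct p.primeCompl (Dual.HD A ω i)).toEquiv.trans
      (extendScalarsEquiv (Localization.AtPrime p) _).symm.toEquiv).trans
      (flatBCHomologyIso A (Localization.AtPrime p) ω i).symm.toLinearEquiv.toEquiv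
  have hvan : ∀ i : ℤ, i ≠ T P → Subsingleton (Dual.HD (Localization.AtPrime p)
      ((flatBC A (Localization.AtPrime p)).obj ω) i) := fun i hi => by
    have h1 : Subsingleton (Dual.inD (Localization.AtPrime p) (Localization.AtPrime p) ⟶
        ((flatBC A (Localization.AtPrime p)).obj ω)⟦i⟧) :=
      subsingleton_hom_of_isFiniteLength (((flatBC A (Localization.AtPrime p)).obj ω)⟦i⟧)
        (fun m hm => by
          rw [IsLocalRing.eq_maximalIdeal hm]
          exact (nontrivial_localized_ext_iff A ω hω T hT P i).1 hi) (Localization.AtPrime p) hAp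
    exact ModuleCat.subsingleton_of_isZero (isZero_HD_of_subsingleton_ext _ i h1)
  have hnt : Nontrivial (Dual.HD (Localization.AtPrime p)
      ((flatBC A (Localization.AtPrime p)).obj ω) (T P)) := by
    by_contra hcon
    rw [not_nontrivial_iff_subsingleton] at hcon
    have hz : IsZero ((flatBC A (Localization.AtPrime p)).obj ω) :=
      isZero_of_forall_isZero_homology _ (fun j => by
        by_cases hj : j = T P
        · rw [hj]
          exact ModuleCat.isZero_of_subsingleton _
        · have := hvan j hj
          exact ModuleCat.isZero_of_subsingleton _)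
    obtain ⟨_, _, _, h4, _⟩ := hd
    have : (1 : Localization.AtPrime p) • 𝟙 ((flatBC A (Localization.AtPrime p)).obj ω) =
      (0 : Localization.AtPrime p) • 𝟙 _ := hz.eq_of_src _ _
    exact one_ne_zero (h4.1 this)
  rw [← hTe]
  constructor
  · intro h
    by_contra hne
    have := hvan i hne
    exact not_subsingleton _ (key i).subsingleton
  · rintro rfl
    exact (key (T P)).nontrivial

end Normalized

end Groth.Agent.Lib.Helper13.DualBC
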