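import Groth.Agent.Lib.Helper13.DualBC27
import Groth.Agent.Lib.Helper13.DualBC19
import Groth.Agent.S11179
import Mathlib.RingTheory.Spectrum.Prime.FreeLocus

/-!
# The Gorenstein locus is open
-/

set_option autoImplicit false
set_option linter.unusedSectionVars false

open CategoryTheory CategoryTheory.Limits Pretriangulated TensorProduct

universe u

namespace Groth.Agent.Lib.Helper13.DualBC

open DerivedCategory Groth.Agent.Lib.Helper13.Coind Groth.Agent.Lib.Helper13.PC
  Groth.Agent.Lib.Helper13.DR Groth.Agent.Lib.Helper13.Shriek Groth.Agent.Lib.Helper13.BD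
  Groth.Agent.Lib.Helper13.HomBC

attribute [local instance] HasDerivedCategory.standard

section Gor

variable (A : Type u) [CommRing A] [IsNoetherianRing A]

/-- Localization of cohomology modules, linearly. -/
noncomputable def locHDLinearEquiv (p : Ideal A) [p.IsPrime] (ω : Dual.D A) (i : ℤ) :
    (LocalizedModule p.primeCompl (Dual.HD A ω i)) ≃ₗ[Localization.AtPrime p]
      (Dual.HD (Localization.AtPrime p) ((flatBC A (Localization.AtPrime p)).obj ω) i) :=
  ((LocalizedModule.equivTensorProduct p.primeCompl (Dual.HD A ω i)).trans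
      (extendScalarsEquiv (Localization.AtPrime p) _).symm).trans
      (flatBCHomologyIso A (Localization.AtPrime p) ω i).symm.toLinearEquiv

/-- Cohomology of a shift, linearly. -/
noncomputable def HDShiftLinearEquiv {B : Type u} [CommRing B] (K : Dual.D B) (n j : ℤ) :
    Dual.HD B (K⟦n⟧) j ≃ₗ[B] Dual.HD B K (n + j) :=
  (show ((DerivedCategory.homologyFunctor (ModuleCat.{u} B) j).obj (K⟦n⟧)) ≃ₗ[B]
      (((DerivedCategory.homologyFunctor (ModuleCat.{u} B) 0).shift (n + j)).obj K) from
    (((DerivedCategory.homologyFunctor (ModuleCat.{u} B) 0).shiftIso n j (n + j) rfl).app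
      K).toLinearEquiv)

/-- Cohomology of the unit object. -/
lemma HD_inD_self {B : Type u} [CommRing B] (j : ℤ) :
    (j ≠ 0 → Subsingleton (Dual.HD B (Dual.inD B B) j)) ∧
      (j = 0 → Nonempty (Dual.HD B (Dual.inD B B) j ≃ₗ[B] B)) := by
  constructor
  · intro hj
    have hz : IsZero ((DerivedCategory.homologyFunctor (ModuleCat.{u} B) j).obj
        ((DerivedCategory.singleFunctor (ModuleCat.{u} B) 0).obj (ModuleCat.of B B))) := by
      rcases lt_or_gt_of_ne hj with h | h
      · exact ((DerivedCategory.singleFunctor (ModuleCat.{u} B) 0).obj _).isZero_of_isGE 0 j h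
      · exact ((DerivedCategory.singleFunctor (ModuleCat.{u} B) 0).obj _).isZero_of_isLE 0 j h
    exact ModuleCat.subsingleton_of_isZero hz
  · rintro rfl
    exact ⟨((DerivedCategory.singleFunctorCompHomologyFunctorIso (ModuleCat.{u} B) 0).app
      (ModuleCat.of B B)).toLinearEquiv⟩

/-- The localization at `p` is Gorenstein iff the dualizing complex is, at `p`, a shift of the
ring. -/
theorem isGorenstein_localization_iff (ω : Dual.D A) (hω : Dual.IsDualizing A ω)
    (p : PrimeSpectrum A) :
    LocCoh.IsGorensteinLocalRing (Localization.AtPrime p.asIdeal) ↔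
      ∃ n : ℤ, (∀ j : ℤ, j ≠ n → p ∉ Module.support A (Dual.HD A ω j)) ∧
        Nonempty (Localization.AtPrime p.asIdeal ≃ₗ[Localization.AtPrime p.asIdeal]
          LocalizedModule p.asIdeal.primeCompl (Dual.HD A ω n)) := by
  have hd := isDualizing_flatBC_localization A p.asIdeal.primeCompl ω hω
  rw [Groth.Agent.S11179.result]
  constructor
  · intro hG
    obtain ⟨k, ⟨e⟩⟩ := dualizing_unique_up_to_shift (Localization.AtPrime p.asIdeal) _ _ hG hd
    have E : ∀ j : ℤ, LocalizedModule p.asIdeal.primeCompl (Dual.HD A ω j)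
        ≃ₗ[Localization.AtPrime p.asIdeal]
        Dual.HD (Localization.AtPrime p.asIdeal)
          (Dual.inD (Localization.AtPrime p.asIdeal) (Localization.AtPrime p.asIdeal)) (k + j) :=
      fun j => (locHDLinearEquiv A p.asIdeal ω j).trans
        ((((DerivedCategory.homologyFunctor _ j).mapIso e).toLinearEquiv).trans
          (HDShiftLinearEquiv _ k j))
    refine ⟨-k, fun j hj => ?_, ?_⟩
    · have := (HD_inD_self (B := Localization.AtPrime p.asIdeal) (k + j)).1 (by omega)
      exact Module.notMem_support_iff.2 (E j).toEquiv.subsingleton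
    · obtain ⟨e0⟩ := (HD_inD_self (B := Localization.AtPrime p.asIdeal) (k + -k)).2 (by omega)
      exact ⟨((E (-k)).trans e0).symm⟩
  · rintro ⟨n, hvan, ⟨e0⟩⟩
    have hsub : ∀ j : ℤ, j ≠ n → Subsingleton (Dual.HD (Localization.AtPrime p.asIdeal)
        ((flatBC A (Localization.AtPrime p.asIdeal)).obj ω) j) := fun j hj => by
      have := Module.notMem_support_iff.1 (hvan j hj)
      exact (locHDLinearEquiv A p.asIdeal ω j).symm.toEquiv.subsingleton
    have hGE : ((flatBC A (Localization.AtPrime p.asIdeal)).obj ω).IsGE n :=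
      isGE_of_subsingleton_HD _ n (fun i hi => hsub i (by omega))
    have hLE : ((flatBC A (Localization.AtPrime p.asIdeal)).obj ω).IsLE n :=
      isLE_of_subsingleton_HD _ n (fun i hi => hsub i (by omega))
    obtain ⟨Y, ⟨ε⟩⟩ := DerivedCategory.exists_iso_singleFunctor_obj_of_isGE_of_isLE
      ((flatBC A (Localization.AtPrime p.asIdeal)).obj ω) n
    -- `Y ≅ H^n ≅ A_p`
    let εY : Y ≅ ModuleCat.of (Localization.AtPrime p.asIdeal) (Localization.AtPrime p.asIdeal) :=
      ((DerivedCategory.singleFunctorCompHomologyFunctorIso _ n).app Y).symm ≪≫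
        (DerivedCategory.homologyFunctor _ n).mapIso ε.symm ≪≫
        ((locHDLinearEquiv A p.asIdeal ω n).symm.trans e0.symm).toModuleIso
    let ε' : (flatBC A (Localization.AtPrime p.asIdeal)).obj ω ≅
        (Dual.inD (Localization.AtPrime p.asIdeal) (Localization.AtPrime p.asIdeal))⟦-n⟧ :=
      ε ≪≫ (DerivedCategory.singleFunctor _ n).mapIso εY ≪≫
        (((DerivedCategory.singleFunctors (ModuleCat.{u} (Localization.AtPrime p.asIdeal))).shiftIso
          (-n) n 0 (by simp)).app _).symm
    have h1 := isDualizing_of_iso ε' hd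
    have h2 := isDualizing_shift _ h1 n
    exact isDualizing_of_iso ((shiftFunctorCompIsoId _ (-n) n (by simp)).app _) h2

theorem isOpen_gorensteinLocus (ω : Dual.D A) (hω : Dual.IsDualizing A ω) :
    IsOpen {p : PrimeSpectrum A |
      LocCoh.IsGorensteinLocalRing (Localization.AtPrime p.asIdeal)} := by
  obtain ⟨hA, ⟨a, b, h2⟩, h3, h4, h5⟩ := id hω
  have hvan : ∀ i : ℤ, (i < a ∨ b < i) → Subsingleton (Dual.HD A ω i) := fun i hi =>
    ModuleCat.subsingleton_of_isZero (isZero_HD_of_subsingleton_ext ω i (h2 A i hi))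
  rw [isOpen_iff_forall_mem_open]
  intro p hp
  obtain ⟨n, hn, ⟨e0⟩⟩ := (isGorenstein_localization_iff A ω hω p).1 hp
  let Z : Set (PrimeSpectrum A) :=
    ⋃ j ∈ (Finset.Icc a b).erase n, Module.support A (Dual.HD A ω j)
  have hZ : IsClosed Z := isClosed_biUnion_finset (fun j _ => by
    have := h3 j
    rw [Module.support_eq_zeroLocus]
    exact PrimeSpectrum.isClosed_zeroLocus _)
  have hfin := h3 n
  have hfp : Module.FinitePresentation A (Dual.HD A ω n) :=
    Module.finitePresentation_of_finite A _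
  let F : Set (Module.freeLocus A (Dual.HD A ω n)) :=
    {x | Module.rankAtStalk (Dual.HD A ω n) x.1 = 1}
  have hF : IsOpen F :=
    (Module.isLocallyConstant_rankAtStalk_freeLocus (R := A) (M := Dual.HD A ω n)).isOpen_fiber 1
  have hF' : IsOpen (Subtype.val '' F) :=
    (Module.isOpen_freeLocus (R := A) (M := Dual.HD A ω n)).isOpenMap_subtype_val _ hF
  refine ⟨Zᶜ ∩ (Subtype.val '' F), fun q hq => ?_, hZ.isOpen_compl.inter hF', ⟨?_, ?_⟩⟩
  · obtain ⟨hq1, ⟨⟨q', hq'free⟩, hq'rank, rfl⟩⟩ := hq
    refine (isGorenstein_localization_iff A ω hω q').2 ⟨n, fun j hj hmem => ?_, ?_⟩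
    · by_cases hjab : a ≤ j ∧ j ≤ b
      · exact hq1 (Set.mem_iUnion₂.2 ⟨j, Finset.mem_erase.2 ⟨hj, Finset.mem_Icc.2 hjab⟩, hmem⟩)
      · have := hvan j (by omega)
        rw [Module.support_eq_empty] at hmem
        exact hmem
    · have hfree : Module.Free (Localization.AtPrime q'.asIdeal)
          (LocalizedModule q'.asIdeal.primeCompl (Dual.HD A ω n)) := hq'free
      exact Module.nonempty_linearEquiv_iff_finrank_eq_one.2 hq'rank
  · intro hpZ
    obtain ⟨j, hj, hmem⟩ := Set.mem_iUnion₂.1 hpZ
    exact hn j (Finset.mem_erase.1 hj).1 hmem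
  · have hfree : Module.Free (Localization.AtPrime p.asIdeal)
        (LocalizedModule p.asIdeal.primeCompl (Dual.HD A ω n)) := Module.Free.of_equiv e0
    refine ⟨⟨p, hfree⟩, ?_, rfl⟩
    change Module.finrank (Localization.AtPrime p.asIdeal)
      (LocalizedModule p.asIdeal.primeCompl (Dual.HD A ω n)) = 1
    exact Module.nonempty_linearEquiv_iff_finrank_eq_one.1 ⟨e0⟩

end Gor

end Groth.Agent.Lib.Helper13.DualBC
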