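import Groth.Agent.Lib.Helper13.DualBC28

/-!
# Pointwise dualizing complexes: the dimension function
-/

set_option autoImplicit false
set_option linter.unusedSectionVars false
set_option linter.style.haveILetI false

open CategoryTheory CategoryTheory.Limits Pretriangulated TensorProduct

universe u

namespace Groth.Agent.Lib.Helper13.DualBC

open DerivedCategory Groth.Agent.Lib.Helper13.Coind Groth.Agent.Lib.Helper13.PC
  Groth.Agent.Lib.Helper13.DR Groth.Agent.Lib.Helper13.Shriek Groth.Agent.Lib.Helper13.BD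
  Groth.Agent.Lib.Helper13.HomBC

attribute [local instance] HasDerivedCategory.standard

section PD

variable (A : Type u) [CommRing A] [IsNoetherianRing A]

/-- The dimension function of a pointwise dualizing complex. -/
theorem exists_strictMono_top_pd (R : Dual.D A) (a : ℤ) [R.IsGE a]
    (hd : ∀ q : PrimeSpectrum A, Dual.IsDualizing (Localization.AtPrime q.asIdeal)
      ((flatBC A (Localization.AtPrime q.asIdeal)).obj R)) :
    ∃ T : PrimeSpectrum A → ℤ, StrictMono T ∧ ∀ p : PrimeSpectrum A,
      p ∈ Module.support A (Dual.inD A (A ⧸ p.asIdeal) ⟶ R⟦T p⟧) ∧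
      ∀ j : ℤ, j ≠ T p → p ∉ Module.support A (Dual.inD A (A ⧸ p.asIdeal) ⟶ R⟦j⟧) := by
  let S : PrimeSpectrum A → ℤ → Prop := fun p i =>
    p ∈ Module.support A (Dual.inD A (A ⧸ p.asIdeal) ⟶ R⟦i⟧)
  have hS_ex : ∀ p : PrimeSpectrum A, ∃ i, S p i ∧ ∀ j, j ≠ i → ¬ S p j := by
    intro p
    obtain ⟨n, hn, ⟨e⟩⟩ := ext_residue (Localization.AtPrime p.asIdeal) _ (hd p)
      (IsLocalRing.maximalIdeal (Localization.AtPrime p.asIdeal))
    have hnt : Nontrivial (Localization.AtPrime p.asIdeal ⧸
        IsLocalRing.maximalIdeal (Localization.AtPrime p.asIdeal)) :=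
      Ideal.Quotient.nontrivial_iff.2 (IsLocalRing.maximalIdeal.isMaximal _).ne_top
    have h1 : Nontrivial (Dual.inD (Localization.AtPrime p.asIdeal)
        (Localization.AtPrime p.asIdeal ⧸
          IsLocalRing.maximalIdeal (Localization.AtPrime p.asIdeal)) ⟶
        ((flatBC A (Localization.AtPrime p.asIdeal)).obj R)⟦n⟧) := e.toEquiv.nontrivial
    have hmax : p.asIdeal.map (algebraMap A (Localization.AtPrime p.asIdeal)) =
        IsLocalRing.maximalIdeal (Localization.AtPrime p.asIdeal) :=
      Localization.AtPrime.map_eq_maximalIdeal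
    rw [← hmax] at h1
    refine ⟨n, Module.mem_support_iff.2 (locHomEquiv A p.asIdeal p.asIdeal R a n).nontrivial,
      fun j hj hSj => ?_⟩
    have h0 := hn j hj
    rw [← hmax] at h0
    have h0' := (locHomEquiv A p.asIdeal p.asIdeal R a j).subsingleton
    have := Module.mem_support_iff.1 hSj
    exact not_subsingleton _ h0'
  have hstep : ∀ (p q : PrimeSpectrum A), p < q → ∀ t : ℤ, (∀ j, t < j → ¬ S q j) →
      ∀ j, t ≤ j → ¬ S p j := by
    intro p q hpq t ht j hj hSp
    have hd' := hd q
    have hGEq : ((flatBC A (Localization.AtPrime q.asIdeal)).obj R).IsGE a :=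
      isGE_flatBC (Localization.AtPrime q.asIdeal) R a
    have hmax : q.asIdeal.map (algebraMap A (Localization.AtPrime q.asIdeal)) =
        IsLocalRing.maximalIdeal (Localization.AtPrime q.asIdeal) :=
      Localization.AtPrime.map_eq_maximalIdeal
    have h1 : ∀ j' : ℤ, t < j' → Subsingleton (Dual.inD (Localization.AtPrime q.asIdeal)
        (Localization.AtPrime q.asIdeal ⧸
          IsLocalRing.maximalIdeal (Localization.AtPrime q.asIdeal)) ⟶
        ((flatBC A (Localization.AtPrime q.asIdeal)).obj R)⟦j'⟧) := by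
      intro j' hj'
      have h0 : Subsingleton (LocalizedModule q.asIdeal.primeCompl
          (Dual.inD A (A ⧸ q.asIdeal) ⟶ R⟦j'⟧)) := Module.notMem_support_iff.1 (ht j' hj')
      have h0' := (locHomEquiv A q.asIdeal q.asIdeal R a j').symm.subsingleton
      rw [hmax] at h0'
      exact h0'
    have hdisj : Disjoint (q.asIdeal.primeCompl : Set A) (p.asIdeal : Set A) := by
      rw [Set.disjoint_left]
      intro x hx hxp
      exact hx ((le_of_lt hpq : p ≤ q) hxp)
    have hp'prime : (p.asIdeal.map (algebraMap A (Localization.AtPrime q.asIdeal))).IsPrime :=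
      IsLocalization.isPrime_of_isPrime_disjoint q.asIdeal.primeCompl _ p.asIdeal p.isPrime hdisj
    have hp'ne : p.asIdeal.map (algebraMap A (Localization.AtPrime q.asIdeal)) ≠
        IsLocalRing.maximalIdeal (Localization.AtPrime q.asIdeal) := by
      intro heq
      have e1 := IsLocalization.under_map_of_isPrime_disjoint q.asIdeal.primeCompl
        (Localization.AtPrime q.asIdeal) p.isPrime hdisj
      have e2 : (IsLocalRing.maximalIdeal (Localization.AtPrime q.asIdeal)).under A =
          q.asIdeal := Localization.AtPrime.under_maximalIdeal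
      rw [heq, e2] at e1
      exact (ne_of_lt hpq) (PrimeSpectrum.ext e1.symm)
    have h3' := subsingleton_hom_quot_prime_of_gt
      ((flatBC A (Localization.AtPrime q.asIdeal)).obj R) a hd'.finite_cohomology t h1
      (p.asIdeal.map (algebraMap A (Localization.AtPrime q.asIdeal))) hp'ne j hj
    have h4' : Subsingleton (LocalizedModule q.asIdeal.primeCompl
        (Dual.inD A (A ⧸ p.asIdeal) ⟶ R⟦j⟧)) :=
      (locHomEquiv A q.asIdeal p.asIdeal R a j).subsingleton
    exact (Module.notMem_support_iff.2 h4') (Module.mem_support_mono (le_of_lt hpq) hSp)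
  choose T hT1 hT2 using hS_ex
  have hmono : StrictMono T := by
    intro p q hpq
    by_contra hcon
    exact hstep p q hpq (T q) (fun j hj => hT2 q j (by omega)) (T p) (not_lt.1 hcon) (hT1 p)
  exact ⟨T, hmono, fun p => ⟨hT1 p, hT2 p⟩⟩

theorem top_covBy_pd (R : Dual.D A) (a : ℤ) [R.IsGE a]
    (hdd : ∀ q : PrimeSpectrum A, Dual.IsDualizing (Localization.AtPrime q.asIdeal)
      ((flatBC A (Localization.AtPrime q.asIdeal)).obj R)) (T : PrimeSpectrum A → ℤ)
    (hmono : StrictMono T)
    (hT : ∀ p : PrimeSpectrum A,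
      p ∈ Module.support A (Dual.inD A (A ⧸ p.asIdeal) ⟶ R⟦T p⟧) ∧
      ∀ j : ℤ, T p < j → p ∉ Module.support A (Dual.inD A (A ⧸ p.asIdeal) ⟶ R⟦j⟧))
    (p q : PrimeSpectrum A) (hpq : p ⋖ q) : T q = T p + 1 := by
  have hd := hdd q
  have hGEq : ((flatBC A (Localization.AtPrime q.asIdeal)).obj R).IsGE a :=
    isGE_flatBC (Localization.AtPrime q.asIdeal) R a
  have hmax : q.asIdeal.map (algebraMap A (Localization.AtPrime q.asIdeal)) =
      IsLocalRing.maximalIdeal (Localization.AtPrime q.asIdeal) :=
    Localization.AtPrime.map_eq_maximalIdeal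
  obtain ⟨n, hn1, ⟨e⟩⟩ := ext_residue (Localization.AtPrime q.asIdeal) _ hd
    (IsLocalRing.maximalIdeal (Localization.AtPrime q.asIdeal))
  have hnt0 : Nontrivial (Localization.AtPrime q.asIdeal ⧸
      IsLocalRing.maximalIdeal (Localization.AtPrime q.asIdeal)) :=
    Ideal.Quotient.nontrivial_iff.2 (IsLocalRing.maximalIdeal.isMaximal _).ne_top
  have hnt : Nontrivial (Dual.inD (Localization.AtPrime q.asIdeal)
      (Localization.AtPrime q.asIdeal ⧸
        IsLocalRing.maximalIdeal (Localization.AtPrime q.asIdeal)) ⟶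
      ((flatBC A (Localization.AtPrime q.asIdeal)).obj R)⟦n⟧) := e.toEquiv.nontrivial
  have hnT : n = T q := by
    by_contra hne
    have h0 : Nontrivial (LocalizedModule q.asIdeal.primeCompl
        (Dual.inD A (A ⧸ q.asIdeal) ⟶ R⟦T q⟧)) := Module.mem_support_iff.1 (hT q).1
    have h1 := (locHomEquiv A q.asIdeal q.asIdeal R a (T q)).symm.nontrivial
    rw [hmax] at h1
    have := hn1 (T q) (fun h => hne h.symm)
    exact not_subsingleton _ this
  have hdisj : Disjoint (q.asIdeal.primeCompl : Set A) (p.asIdeal : Set A) := by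
    rw [Set.disjoint_left]
    intro x hx hxp
    exact hx ((le_of_lt hpq.lt : p ≤ q) hxp)
  have hp'prime : (p.asIdeal.map (algebraMap A (Localization.AtPrime q.asIdeal))).IsPrime :=
    IsLocalization.isPrime_of_isPrime_disjoint q.asIdeal.primeCompl _ p.asIdeal p.isPrime hdisj
  have hunder : (p.asIdeal.map (algebraMap A (Localization.AtPrime q.asIdeal))).under A =
      p.asIdeal := IsLocalization.under_map_of_isPrime_disjoint q.asIdeal.primeCompl
        (Localization.AtPrime q.asIdeal) p.isPrime hdisj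
  have hunderq : (IsLocalRing.maximalIdeal (Localization.AtPrime q.asIdeal)).under A =
      q.asIdeal := Localization.AtPrime.under_maximalIdeal
  have hp'ne : p.asIdeal.map (algebraMap A (Localization.AtPrime q.asIdeal)) ≠
      IsLocalRing.maximalIdeal (Localization.AtPrime q.asIdeal) := by
    intro heq
    rw [heq, hunderq] at hunder
    exact (ne_of_lt hpq.lt) (PrimeSpectrum.ext hunder.symm)
  have hcov' : ∀ r' : Ideal (Localization.AtPrime q.asIdeal), r'.IsPrime →
      p.asIdeal.map (algebraMap A (Localization.AtPrime q.asIdeal)) ≤ r' →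
      r' = p.asIdeal.map (algebraMap A (Localization.AtPrime q.asIdeal)) ∨
        r' = IsLocalRing.maximalIdeal (Localization.AtPrime q.asIdeal) := by
    intro r' hr' hle
    have hrp : (r'.under A).IsPrime := Ideal.comap_isPrime _ _
    let rr : PrimeSpectrum A := ⟨r'.under A, hrp⟩
    have h1 : p ≤ rr := by
      change p.asIdeal ≤ r'.under A
      exact le_of_eq_of_le hunder.symm (Ideal.comap_mono hle)
    have h2 : rr ≤ q := by
      change r'.under A ≤ q.asIdeal
      exact le_of_le_of_eq (Ideal.comap_mono (IsLocalRing.le_maximalIdeal hr'.ne_top)) hunderq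
    have hmc : (r'.under A).map (algebraMap A (Localization.AtPrime q.asIdeal)) = r' :=
      IsLocalization.map_under q.asIdeal.primeCompl _ r'
    rcases eq_or_lt_of_le h1 with h3 | h3
    · left
      rw [← hmc]
      have : r'.under A = p.asIdeal := congrArg PrimeSpectrum.asIdeal h3.symm
      rw [this]
    · right
      have h4 : rr = q := (eq_or_lt_of_le h2).resolve_right (hpq.2 h3)
      rw [← hmc, ← hmax]
      have : r'.under A = q.asIdeal := congrArg PrimeSpectrum.asIdeal h4
      rw [this]
  have hmem := mem_support_ext_pred ((flatBC A (Localization.AtPrime q.asIdeal)).obj R) a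
    hd.finite_cohomology n hn1 hnt
    (p.asIdeal.map (algebraMap A (Localization.AtPrime q.asIdeal))) hp'ne hcov' (n - 1) (by ring)
  have hmemA : p ∈ Module.support A (Dual.inD A (A ⧸ p.asIdeal) ⟶ R⟦n - 1⟧) :=
    mem_support_of_localized A p.asIdeal q.asIdeal (le_of_lt hpq.lt : p ≤ q)
      (locHomLinearEquiv A q.asIdeal p.asIdeal R a (n - 1)) hp'prime hmem
  have hlt : T p < T q := hmono hpq.lt
  have hge : T q - 1 ≤ T p := by
    by_contra hcon
    push Not at hcon
    exact (hT p).2 (n - 1) (by omega) hmemA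
  omega

end PD

section Bound

/-- Saturated chains for a dimension function. -/
lemma exists_ltSeries_of_dimFunction {α : Type*} [PartialOrder α] (T : α → ℤ) (hT : StrictMono T)
    (hcov : ∀ a b : α, a ⋖ b → T b = T a + 1) (q : α) :
    ∀ (n : ℕ) (p : α), p ≤ q → T q - T p = n → ∃ s : LTSeries α, s.head = p ∧ s.length = n := by
  intro n
  induction n with
  | zero =>
    intro p hpq h0
    exact ⟨RelSeries.singleton _ p, rfl, rfl⟩
  | succ n ih =>
    intro p hpq hn
    have hlt : p < q := by
      refine lt_of_le_of_ne hpq (fun h => ?_)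
      rw [h] at hn
      push_cast at hn
      omega
    obtain ⟨q', hpq', hq'q⟩ := exists_covBy_of_strictMono T hT p q hlt
    have h1 := hcov p q' hpq'
    obtain ⟨s, hs1, hs2⟩ := ih q' hq'q (by push_cast at hn; omega)
    refine ⟨s.cons p (by rw [hs1]; exact hpq'.lt), ?_, ?_⟩
    · exact RelSeries.head_cons _ _ _
    · rw [RelSeries.cons_length, hs2]

variable (A : Type u) [CommRing A] [IsNoetherianRing A]

/-- A dimension function on the spectrum of a finite dimensional Noetherian ring is bounded
above. -/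
theorem exists_bound_of_dimFunction (hdim : ringKrullDim A < ⊤) (T : PrimeSpectrum A → ℤ)
    (hT : StrictMono T) (hcov : ∀ a b : PrimeSpectrum A, a ⋖ b → T b = T a + 1) :
    ∃ B : ℤ, ∀ q : PrimeSpectrum A, T q ≤ B := by
  obtain ⟨d, hd⟩ : ∃ d : ℕ, ∀ s : LTSeries (PrimeSpectrum A), s.length ≤ d := by
    have hle : ∀ s : LTSeries (PrimeSpectrum A), (s.length : WithBot ℕ∞) ≤ ringKrullDim A :=
      fun s => Order.LTSeries.length_le_krullDim s
    generalize ringKrullDim A = x at hdim hle
    induction x using WithBot.recBotCoe with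
    | bot =>
      refine ⟨0, fun s => ?_⟩
      have := hle s
      simp at this
    | coe e =>
      have he : e ≠ ⊤ := by
        rintro rfl
        exact lt_irrefl _ hdim
      obtain ⟨d, rfl⟩ := ENat.ne_top_iff_exists.1 he
      refine ⟨d, fun s => ?_⟩
      have := hle s
      exact_mod_cast this
  have hfinite := minimalPrimes.finite_of_isNoetherianRing A
  classical
  let g : Ideal A → ℤ := fun p => if h : p.IsPrime then T ⟨p, h⟩ else 0
  obtain ⟨B₀, hB₀⟩ := (hfinite.image g).bddAbove
  refine ⟨B₀ + d, fun q => ?_⟩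
  obtain ⟨p, hp, hpq⟩ := Ideal.exists_minimalPrimes_le (bot_le : (⊥ : Ideal A) ≤ q.asIdeal)
  have hpp : p.IsPrime := hp.1.1
  have h1 : T ⟨p, hpp⟩ ≤ B₀ := by
    have : g p = T ⟨p, hpp⟩ := dif_pos hpp
    rw [← this]
    exact hB₀ (Set.mem_image_of_mem g hp)
  have hle : (⟨p, hpp⟩ : PrimeSpectrum A) ≤ q := hpq
  have h2 : T ⟨p, hpp⟩ ≤ T q := hT.monotone hle
  obtain ⟨s, -, hs⟩ := exists_ltSeries_of_dimFunction T hT hcov q (T q - T ⟨p, hpp⟩).toNat ⟨p, hpp⟩
    hle (by omega)
  have := hd s
  omega

end Bound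

section Pointwise

variable (A : Type u) [CommRing A] [IsNoetherianRing A]

/-- Elements of `I` kill `Hom(A/I, K)`. -/
lemma smul_hom_quot_eq_zero (I : Ideal A) (K : Dual.D A) (s : A) (hs : s ∈ I)
    (f : Dual.inD A (A ⧸ I) ⟶ K) : s • f = 0 := by
  have h1 : s • 𝟙 (ModuleCat.of A (A ⧸ I)) = 0 := by
    refine ModuleCat.hom_ext (LinearMap.ext fun x => ?_)
    obtain ⟨x, rfl⟩ := Ideal.Quotient.mk_surjective x
    change s • (Ideal.Quotient.mk I x) = 0
    rw [Algebra.smul_def, Ideal.Quotient.algebraMap_eq, ← map_mul, Ideal.Quotient.eq_zero_iff_mem]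
    exact I.mul_mem_right _ hs
  have h2 : s • 𝟙 (Dual.inD A (A ⧸ I)) = 0 := by
    change s • 𝟙 ((DerivedCategory.singleFunctor (ModuleCat.{u} A) 0).obj _) = 0
    rw [← CategoryTheory.Functor.map_id, ← Functor.map_smul, h1, Functor.map_zero]
  calc s • f = (s • 𝟙 _) ≫ f := by rw [Linear.smul_comp, Category.id_comp]
    _ = 0 := by rw [h2, zero_comp]

/-- A bounded below complex with finite cohomology over a finite dimensional Noetherian ring which
is dualizing at every prime is dualizing. -/
theorem isDualizing_of_pointwise (hdim : ringKrullDim A < ⊤) (R : Dual.D A)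
    (hfin : ∀ i : ℤ, Module.Finite A (Dual.HD A R i)) (a : ℤ)
    (ha : ∀ i : ℤ, i < a → Subsingleton (Dual.HD A R i))
    (hd : ∀ q : PrimeSpectrum A, Dual.IsDualizing (Localization.AtPrime q.asIdeal)
      ((flatBC A (Localization.AtPrime q.asIdeal)).obj R)) :
    Dual.IsDualizing A R := by
  have hGE : R.IsGE a := isGE_of_subsingleton_HD R a ha
  obtain ⟨T, hmono, hT⟩ := exists_strictMono_top_pd A R a hd
  have hT' : ∀ p : PrimeSpectrum A,
      p ∈ Module.support A (Dual.inD A (A ⧸ p.asIdeal) ⟶ R⟦T p⟧) ∧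
      ∀ j : ℤ, T p < j → p ∉ Module.support A (Dual.inD A (A ⧸ p.asIdeal) ⟶ R⟦j⟧) :=
    fun p => ⟨(hT p).1, fun j hj => (hT p).2 j (by omega)⟩
  have hcov := top_covBy_pd A R a hd T hmono hT'
  obtain ⟨B, hB⟩ := exists_bound_of_dimFunction A hdim T hmono hcov
  -- vanishing of `Ext^i(A/m, R)` for `i > B`
  have hmax : ∀ (m : Ideal A), m.IsMaximal → ∀ i : ℤ, B < i →
      Subsingleton (Dual.inD A (A ⧸ m) ⟶ R⟦i⟧) := by
    intro m hm i hi
    rw [← Module.support_eq_empty_iff (R := A), Set.eq_empty_iff_forall_notMem]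
    intro q
    by_cases hqm : q.asIdeal = m
    · have h1 := (hT q).2 i (by have := hB q; omega)
      rw [hqm] at h1
      exact h1
    · rw [Module.notMem_support_iff']
      intro f
      have hnle : ¬ m ≤ q.asIdeal := fun hle =>
        hqm (hm.eq_of_le q.isPrime.ne_top hle).symm
      obtain ⟨s, hsm, hsq⟩ := Set.not_subset.1 hnle
      exact ⟨s, hsq, smul_hom_quot_eq_zero A m _ s hsm f⟩
  have hamp := hasInjAmplitudeIn_of_maximal R a hfin B hmax
  have hinj : ∀ (M : Type u) [AddCommGroup M] [Module A M] (i : ℤ),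
      (i < a ∨ B < i) → Subsingleton (Dual.inD A M ⟶ R⟦i⟧) := fun M _ _ i hi =>
    ext_subsingleton_of_hasInjAmplitudeIn R a B hamp M i hi
  have hvan : ∀ j : ℤ, B < j → Subsingleton (Dual.HD A R j) := fun j hj =>
    ModuleCat.subsingleton_of_isZero (isZero_HD_of_subsingleton_ext R j (hinj A j (Or.inr hj)))
  have hpc : DRing.IsPseudoCoherent' A R := isPseudoCoherent'_of_bdd_finite R B hvan hfin
  classical
  let Bf : {m : Ideal A // m.IsMaximal} → Type u := fun m =>
    letI := m.2
    Localization.AtPrime m.1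
  letI iCR : ∀ m, CommRing (Bf m) := fun m => by dsimp only [Bf]; infer_instance
  letI iAlg : ∀ m, Algebra A (Bf m) := fun m => by dsimp only [Bf]; infer_instance
  haveI iFlat : ∀ m, Module.Flat A (Bf m) := fun m => by dsimp only [Bf, iAlg]; infer_instance
  have hJF1 : JF.{u, u + 1} A Bf := jf_maximal A
  have hd' : ∀ m : {m : Ideal A // m.IsMaximal},
      Dual.IsDualizing (Bf m) ((flatBC A (Bf m)).obj R) := by
    intro m
    haveI := m.2
    exact hd ⟨m.1, m.2.isPrime⟩
  refine ⟨inferInstance, ⟨a, B, hinj⟩, hfin, ?_, fun j hj => ?_⟩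
  · exact bijective_toEnd_of_family Bf hJF1 R hpc a (fun m => (hd' m).toEnd_bijective)
  · exact subsingleton_hom_of_family Bf hJF1 R hpc R a j
      (fun m => (hd' m).ext_self_subsingleton j hj)

end Pointwise

end Groth.Agent.Lib.Helper13.DualBC
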