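import Groth.Agent.Lib.Helper13.DualBC2
import Mathlib.RingTheory.TensorProduct.Quotient

/-!
# Dualizing complexes localize
-/

set_option autoImplicit false
set_option linter.unusedSectionVars false

open CategoryTheory CategoryTheory.Limits CategoryTheory.Functor TensorProduct Pretriangulated

universe u

namespace Groth.Agent.Lib.Helper13.DualBC

open DerivedCategory Groth.Agent.Lib.Helper13.DR Groth.Agent.Lib.Helper13.Coind
  Groth.Agent.Lib.Helper13.Shriek Groth.Agent.Lib.Helper13.HomBC Groth.Agent.Lib.Helper13.PC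

attribute [local instance] HasDerivedCategory.standard

section Ascent

variable (A B : Type u) [CommRing A] [CommRing B] [Algebra A B] [IsNoetherianRing A]
  [IsNoetherianRing B] [Module.Flat A B]

/-- Flat base change of a dualizing complex is dualizing, provided every ideal of the target is
extended from the source. -/
theorem isDualizing_flatBC_of_extended
    (hext : ∀ J : Ideal B, (J.comap (algebraMap A B)).map (algebraMap A B) = J)
    (ω : Dual.D A) (hω : Dual.IsDualizing A ω) :
    Dual.IsDualizing B ((flatBC A B).obj ω) := by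
  obtain ⟨hA, ⟨a, b, h2⟩, h3, h4, h5⟩ := hω
  have hvan : ∀ i : ℤ, (i < a ∨ b < i) → Subsingleton (Dual.HD A ω i) := fun i hi =>
    ModuleCat.subsingleton_of_isZero (isZero_HD_of_subsingleton_ext ω i (h2 A i hi))
  have hpc : DRing.IsPseudoCoherent' A ω :=
    isPseudoCoherent'_of_bdd_finite ω b (fun i hi => hvan i (Or.inr hi)) h3
  have hGE : ω.IsGE a := isGE_of_subsingleton_HD ω a (fun i hi => hvan i (Or.inl hi))
  have hinj : DRing.HasInjAmplitudeIn B a b ((flatBC A B).obj ω) := by
    refine hasInjAmplitudeIn_of_quotients _ a b (fun J i hi => ?_)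
    let I := J.comap (algebraMap A B)
    have hpcI : DRing.IsPseudoCoherent' A (Dual.inD A (A ⧸ I)) :=
      (isPseudoCoherentModule'_iff_of_isNoetherianRing (A ⧸ I)).2 inferInstance
    have h1 := subsingleton_hom_flatBC B (Dual.inD A (A ⧸ I)) hpcI ω a i (h2 (A ⧸ I) i hi)
    let e1 : (B ⧸ J) ≃ₗ[B] B ⊗[A] (A ⧸ I) :=
      (Submodule.quotEquivOfEq _ _ (hext J).symm) ≪≫ₗ
        (Algebra.TensorProduct.quotIdealMapEquivTensorQuot B I).toLinearEquiv
    let e2 : Dual.inD B (B ⧸ J) ≅ (flatBC A B).obj (Dual.inD A (A ⧸ I)) :=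
      (DerivedCategory.singleFunctor (ModuleCat.{u} B) 0).mapIso e1.toModuleIso ≪≫
        (flatBCSingleIso A B (A ⧸ I)).symm
    exact (Iso.homCongr e2 (Iso.refl _)).subsingleton
  refine ⟨inferInstance, ⟨a, b, fun M _ _ i hi => ?_⟩, fun i => ?_, ?_, fun i hi => ?_⟩
  · exact ext_subsingleton_of_hasInjAmplitudeIn _ a b hinj M i hi
  · have h1 : Module.Finite B ((ModuleCat.extendScalars.{u, u, u} (algebraMap A B)).obj
        ((DerivedCategory.homologyFunctor (ModuleCat.{u} A) i).obj ω)) := by
      have := h3 i
      exact Module.Finite.equiv (extendScalarsEquiv B _).symm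
    exact Module.Finite.equiv (flatBCHomologyIso A B ω i).symm.toLinearEquiv
  · exact bijective_toEnd_flatBC B ω hpc a h4
  · exact subsingleton_hom_flatBC B ω hpc ω a i (h5 i hi)

end Ascent

section Loc

variable (A : Type u) [CommRing A] [IsNoetherianRing A] (S : Submonoid A)

/-- **Dualizing complexes localize.** -/
theorem isDualizing_flatBC_localization (ω : Dual.D A) (hω : Dual.IsDualizing A ω) :
    Dual.IsDualizing (Localization S) ((flatBC A (Localization S)).obj ω) :=
  isDualizing_flatBC_of_extended A (Localization S)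
    (fun J => IsLocalization.map_comap S (Localization S) J) ω hω

end Loc

end Groth.Agent.Lib.Helper13.DualBC
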