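import Groth.Agent.Lib.Helper13.RegPerf2
import Groth.Agent.Lib.Helper18.HomDim

set_option autoImplicit false
universe u
open CategoryTheory CategoryTheory.Limits TensorProduct

namespace Groth.Agent.Lib.Helper13.RP

open Groth.Agent.Lib.Helper13.DR Groth.Agent.Lib.Helper13.PC Groth.Agent.Lib.Helper13.DV
  DerivedCategory

attribute [local instance] HasDerivedCategory.standard

section

variable (R : Type u) [CommRing R] [IsNoetherianRing R]

/-- Local projectivity of syzygies from the dimension of the regular local ring `R_p`. -/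
lemma projective_opcycles_loc
    (hreg : ∀ p : PrimeSpectrum R, IsRegularLocalRing (Localization.AtPrime p.asIdeal))
    (E : DRing.Cx R) (hff : ∀ i : ℤ, Pff R (E.X i)) (a : ℤ)
    (hac : ∀ i : ℤ, i < a → IsZero (E.homology i)) (p : PrimeSpectrum R) (k : ℕ)
    (hk : ringKrullDim (Localization.AtPrime p.asIdeal) ≤ k) :
    Projective (((extendCx R (Localization.AtPrime p.asIdeal)).obj E).opcycles (a - k)) := by
  have := hreg p
  let Rp := Localization.AtPrime p.asIdeal
  let Ep := (extendCx R Rp).obj E
  let d : ℕ := (IsLocalRing.maximalIdeal Rp).spanFinrank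
  have hd : ringKrullDim Rp = d := by
    have hsf : ((IsLocalRing.maximalIdeal Rp).spanFinrank : WithBot ℕ∞) = ringKrullDim Rp :=
      IsRegularLocalRing.spanFinrank_maximalIdeal
    rw [← hsf]
  have hdk : d ≤ k := by
    rw [hd] at hk
    exact_mod_cast hk
  have hproj : ∀ i : ℤ, Projective (Ep.X i) := fun i =>
    projective_of_Pfp (Pff_le_Pfp (Pff_extendScalars Rp (hff i)))
  have hacp : ∀ i : ℤ, i < a → IsZero (Ep.homology i) := fun i hi =>
    IsZero.of_iso (Functor.map_isZero _ (hac i hi)) (DR.extendCxHomologyIso R Rp E i)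
  have hfinEp : ∀ i : ℤ, Module.Finite Rp (Ep.X i) := fun i =>
    (Pff_extendScalars Rp (hff i)).1
  have := finite_opcycles Rp Ep hfinEp a
  have hpd : HasProjectiveDimensionLT (Ep.opcycles a) (d + 1) :=
    Groth.Agent.Lib.Helper4.hasProjectiveDimensionLT_of_isRegularLocalRing_of_finite Rp d hd
      (Ep.opcycles a)
  exact projective_opcycles_of_pd Ep hproj a hacp d hpd k hdk

lemma projective_opcycles_of_forall_loc (E : DRing.Cx R) (hff : ∀ i : ℤ, Pff R (E.X i)) (j : ℤ)
    (h : ∀ p : PrimeSpectrum R,
      Projective (((extendCx R (Localization.AtPrime p.asIdeal)).obj E).opcycles j)) :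
    Projective (E.opcycles j) := by
  have hfin : ∀ i : ℤ, Module.Finite R (E.X i) := fun i => (hff i).1
  have := finite_opcycles R E hfin j
  have : Module.FinitePresentation R (E.opcycles j) := Module.finitePresentation_of_finite R _
  rw [projective_iff, ← Module.freeLocus_eq_univ_iff, Set.eq_univ_iff_forall]
  intro p
  rw [mem_freeLocus_opcycles_iff R p E hfin]
  exact h p

/-- Over a regular ring of dimension `≤ d`, bounded below pseudo-coherent objects have projective
amplitude `≥ a - d`. -/
theorem hasProjAmp_of_regular_of_dim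
    (hreg : ∀ p : PrimeSpectrum R, IsRegularLocalRing (Localization.AtPrime p.asIdeal))
    (d : ℕ) (hd : ringKrullDim R ≤ d)
    (K : Dual.D R) (hpc : DRing.IsPseudoCoherent' R K) (a : ℤ)
    (hK : ∀ i : ℤ, i < a → Subsingleton (Dual.HD R K i)) : ∃ c : ℤ, HasProjAmp K (a - d) c := by
  obtain ⟨E, c, hEv, hff, ⟨eE⟩⟩ := hpc
  have hac : ∀ i : ℤ, i < a → IsZero (E.homology i) := fun i hi => by
    have := hK i hi
    have hz : IsZero ((DerivedCategory.homologyFunctor (ModuleCat.{u} R) i).obj K) :=
      ModuleCat.isZero_of_subsingleton _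
    exact hz.of_iso ((homologyQIso E i).symm ≪≫
      (DerivedCategory.homologyFunctor (ModuleCat.{u} R) i).mapIso eE)
  have hproj : Projective (E.opcycles (a - d)) := by
    refine projective_opcycles_of_forall_loc R E hff _ (fun p => ?_)
    refine projective_opcycles_loc R hreg E hff a hac p d ?_
    refine le_trans ?_ hd
    rw [IsLocalization.AtPrime.ringKrullDim_eq_height p.asIdeal (Localization.AtPrime p.asIdeal)]
    exact Ideal.height_le_ringKrullDim_of_isPrime
  have hfin : ∀ i : ℤ, Module.Finite R (E.X i) := fun i => (hff i).1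
  have hop : Pfp R (E.opcycles (a - d)) :=
    ⟨finite_opcycles R E hfin _, (projective_iff _).1 hproj⟩
  obtain ⟨E', f, hf, hv, hP⟩ := exists_truncGE_of_prop (Pfp R) E (a - d) c hEv
    (fun i => Pff_le_Pfp (hff i)) (fun i hi => hac i (by lia)) hop
  have : IsIso (Q.map f) := by rw [isIso_Q_map_iff_quasiIso]; exact hf
  exact ⟨c, E', hv, fun i => (hP i).2, ⟨(asIso (Q.map f)).symm ≪≫ eE⟩⟩

end

section GlDim

open Abelian

variable (R : Type u) [CommRing R] [IsNoetherianRing R]

theorem hasProjectiveDimensionLT_of_regular_of_finite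
    (hreg : ∀ p : PrimeSpectrum R, IsRegularLocalRing (Localization.AtPrime p.asIdeal))
    (d : ℕ) (hd : ringKrullDim R ≤ d) (M : Type u) [AddCommGroup M] [Module R M]
    [Module.Finite R M] : HasProjectiveDimensionLT (ModuleCat.of R M) (d + 1) := by
  have hpc : DRing.IsPseudoCoherent' R (Dual.inD R M) :=
    (isPseudoCoherentModule'_iff_of_isNoetherianRing M).2 inferInstance
  obtain ⟨c, hpa⟩ := hasProjAmp_of_regular_of_dim R hreg d hd (Dual.inD R M) hpc 0
    (fun i hi => by
      have : IsZero ((DerivedCategory.homologyFunctor (ModuleCat.{u} R) i).obj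
          ((DerivedCategory.singleFunctor (ModuleCat.{u} R) 0).obj (ModuleCat.of R M))) :=
        DerivedCategory.isZero_of_isGE _ 0 i hi
      exact ModuleCat.subsingleton_of_isZero this)
  let _ := HasExt.standard (ModuleCat.{u} R)
  rw [hasProjectiveDimensionLT_iff]
  intro i hi Y e
  let K := ((DerivedCategory.singleFunctor (ModuleCat.{u} R) 0).obj Y)⟦(i : ℤ)⟧
  have h1 : K.IsLE (-(i : ℤ)) :=
    DerivedCategory.TStructure.t.isLE_shift
      ((DerivedCategory.singleFunctor (ModuleCat.{u} R) 0).obj Y) 0 (i : ℤ) (-(i : ℤ)) (by lia)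
  have h2 : K.IsLE (0 - (d : ℤ) - 1) :=
    DerivedCategory.TStructure.t.isLE_of_le K (-(i : ℤ)) _ (by push_cast at hi ⊢; lia)
  have h3 : Subsingleton (Dual.inD R M ⟶ K) := subsingleton_hom_of_hasProjAmp hpa K
  have h4 : Subsingleton (Ext (ModuleCat.of R M) Y i) :=
    (Abelian.Ext.homEquiv (X := ModuleCat.of R M) (Y := Y) (n := i)).subsingleton
  exact Subsingleton.elim _ _

/-- A regular ring of Krull dimension `≤ d` has global dimension `≤ d`. -/
theorem hasProjectiveDimensionLT_of_regular
    (hreg : ∀ p : PrimeSpectrum R, IsRegularLocalRing (Localization.AtPrime p.asIdeal))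
    (d : ℕ) (hd : ringKrullDim R ≤ d) (M : ModuleCat.{u} R) :
    HasProjectiveDimensionLT M (d + 1) := by
  rw [hasProjectiveDimensionLT_iff]
  intro i hi Y e
  have hY : HasInjectiveDimensionLT Y (d + 1) := by
    refine Groth.Agent.Lib.Helper18.hasInjectiveDimensionLT_of_ext_cyclic R d Y (fun I => ?_)
    have := hasProjectiveDimensionLT_of_regular_of_finite R hreg d hd (R ⧸ I)
    exact HasProjectiveDimensionLT.subsingleton (ModuleCat.of R (R ⧸ I)) (d + 1) (d + 1) le_rfl Y
  exact e.eq_zero_of_hasInjectiveDimensionLT (d + 1) hi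

end GlDim

end Groth.Agent.Lib.Helper13.RP
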