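import Groth.Agent.Lib.Helper13.DualBC29
import Groth.Agent.S0376
import Mathlib.RingTheory.AdicCompletion.LocalRing

/-!
# Recognizing dualizing complexes by `Ext(κ, -)`
-/

set_option autoImplicit false
set_option linter.unusedSectionVars false

open CategoryTheory CategoryTheory.Limits Pretriangulated TensorProduct

universe u

namespace Groth.Agent.Lib.Helper13.DualBC

open DerivedCategory Groth.Agent.Lib.Helper13.Coind Groth.Agent.Lib.Helper13.PC
  Groth.Agent.Lib.Helper13.DR Groth.Agent.Lib.Helper13.Shriek Groth.Agent.Lib.Helper13.BD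
  Groth.Agent.Lib.Helper13.HomBC

attribute [local instance] HasDerivedCategory.standard

section Local

variable (A : Type u) [CommRing A] [IsLocalRing A] [IsNoetherianRing A]

/-- Finiteness of `Hom(ω, K[i])`. -/
lemma finite_hom_of_dualizing_left (ω K : Dual.D A) (hω : Dual.IsDualizing A ω) (c : ℤ)
    [K.IsGE c] (hK : ∀ i : ℤ, Module.Finite A (Dual.HD A K i)) (i : ℤ) :
    Module.Finite A (ω ⟶ K⟦i⟧) := by
  obtain ⟨-, ⟨a, b, h2⟩, h3, -, -⟩ := hω
  have hb : ∀ i : ℤ, b < i → Subsingleton (Dual.HD A ω i) := fun i hi =>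
    ModuleCat.subsingleton_of_isZero (isZero_HD_of_subsingleton_ext ω i (h2 A i (Or.inr hi)))
  have hpc : DRing.IsPseudoCoherent' A ω := isPseudoCoherent'_of_bdd_finite ω b hb h3
  have hLE : ω.IsLE b := isLE_of_subsingleton_HD ω b hb
  have hGE : (K⟦i⟧).IsGE (c - i) := TStructure.t.isGE_shift K c i (c - i) (by omega)
  exact FC.finite_hom_of_isGE hpc b (K⟦i⟧) (c - i) (finite_HD_shift K hK i)

/-- A morphism between bounded below complexes with finite cohomology whose `Ext(κ, -)` is `κ` in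
degree `0`, which does not kill the socle, is an isomorphism. -/
theorem isIso_of_residue' (ω ω' : Dual.D A) (c c' : ℤ) [hc : ω.IsGE c] [hc' : ω'.IsGE c']
    (hωfin : ∀ i : ℤ, Module.Finite A (Dual.HD A ω i))
    (hω'fin : ∀ i : ℤ, Module.Finite A (Dual.HD A ω' i))
    (hn : Dual.IsNormalized A ω) (hn' : Dual.IsNormalized A ω')
    (hE : Nonempty ((Dual.inD A (A ⧸ IsLocalRing.maximalIdeal A) ⟶ ω⟦(0 : ℤ)⟧) ≃ₗ[A]
      (A ⧸ IsLocalRing.maximalIdeal A)))
    (hE' : Nonempty ((Dual.inD A (A ⧸ IsLocalRing.maximalIdeal A) ⟶ ω'⟦(0 : ℤ)⟧) ≃ₗ[A]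
      (A ⧸ IsLocalRing.maximalIdeal A)))
    (f : ω ⟶ ω') (s : Dual.inD A (A ⧸ IsLocalRing.maximalIdeal A) ⟶ ω) (hs : s ≫ f ≠ 0) :
    IsIso f := by
  -- bijectivity on `Ext^j(κ, -)`
  have hF : ∀ j : ℤ, Function.Bijective
      (fun t : Dual.inD A (A ⧸ IsLocalRing.maximalIdeal A) ⟶ ω⟦j⟧ => t ≫ f⟦j⟧') := by
    intro j
    by_cases hj : j = 0
    · subst hj
      obtain ⟨E⟩ := hE
      obtain ⟨E'⟩ := hE'
      let F : (Dual.inD A (A ⧸ IsLocalRing.maximalIdeal A) ⟶ ω⟦(0 : ℤ)⟧) →ₗ[A]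
          (Dual.inD A (A ⧸ IsLocalRing.maximalIdeal A) ⟶ ω'⟦(0 : ℤ)⟧) :=
        Linear.rightComp A _ (f⟦(0 : ℤ)⟧')
      let φ : (A ⧸ IsLocalRing.maximalIdeal A) →ₗ[A] (A ⧸ IsLocalRing.maximalIdeal A) :=
        E'.toLinearMap ∘ₗ F ∘ₗ E.symm.toLinearMap
      have hφ : φ ≠ 0 := by
        intro h0
        apply hs
        have h1 : φ (E (s ≫ (shiftFunctorZero (Dual.D A) ℤ).inv.app ω)) = 0 := by
          rw [h0]; rfl
        have h2 : E' ((s ≫ (shiftFunctorZero (Dual.D A) ℤ).inv.app ω) ≫ f⟦(0 : ℤ)⟧') = 0 := by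
          have : φ (E (s ≫ (shiftFunctorZero (Dual.D A) ℤ).inv.app ω)) =
              E' (E.symm (E (s ≫ (shiftFunctorZero (Dual.D A) ℤ).inv.app ω)) ≫ f⟦(0 : ℤ)⟧') :=
            rfl
          rw [this, LinearEquiv.symm_apply_apply] at h1
          exact h1
        have h3 : (s ≫ (shiftFunctorZero (Dual.D A) ℤ).inv.app ω) ≫ f⟦(0 : ℤ)⟧' = 0 :=
          E'.injective (h2.trans (map_zero E').symm)
        have h4 : (s ≫ f) ≫ (shiftFunctorZero (Dual.D A) ℤ).inv.app ω' = 0 := by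
          rw [← h3, Category.assoc, Category.assoc]
          congr 1
          exact ((shiftFunctorZero (Dual.D A) ℤ).inv.naturality f)
        rw [← cancel_mono ((shiftFunctorZero (Dual.D A) ℤ).inv.app ω'), h4, zero_comp]
      have hb := bijective_of_ne_zero_residue A φ hφ
      have h : (fun t : Dual.inD A (A ⧸ IsLocalRing.maximalIdeal A) ⟶ ω⟦(0 : ℤ)⟧ =>
          t ≫ f⟦(0 : ℤ)⟧') = E'.symm ∘ φ ∘ E := by
        funext t
        change _ = E'.symm (E' (E.symm (E t) ≫ f⟦(0 : ℤ)⟧'))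
        rw [LinearEquiv.symm_apply_apply, LinearEquiv.symm_apply_apply]
      rw [h]
      exact E'.symm.bijective.comp (hb.comp E.bijective)
    · have h1 := hn j hj
      have h2 := hn' j hj
      exact ⟨fun x y _ => h1.elim x y, fun y => ⟨0, h2.elim _ _⟩⟩
  obtain ⟨C, g, h, hT⟩ := distinguished_cocone_triangle f
  have hC : ∀ j : ℤ, Subsingleton (Dual.inD A (A ⧸ IsLocalRing.maximalIdeal A) ⟶ C⟦j⟧) :=
    fun j => subsingleton_hom_cone (Triangle.mk f g h) hT _ hF j
  -- `C` is bounded below with finite cohomology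
  have hCz : ∀ i : ℤ, i < min c c' - 1 → IsZero ((DerivedCategory.homologyFunctor
      (ModuleCat.{u} A) i).obj C) := by
    intro i hi
    have h1 : IsZero ((DerivedCategory.homologyFunctor (ModuleCat.{u} A) i).obj ω') :=
      ω'.isZero_of_isGE c' i (by omega)
    have h2 : IsZero ((DerivedCategory.homologyFunctor (ModuleCat.{u} A) (i + 1)).obj ω) :=
      ω.isZero_of_isGE c (i + 1) (by omega)
    exact (DerivedCategory.HomologySequence.exact₃ _ hT i (i + 1) rfl).isZero_of_both_isZero h1 h2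
  have hCGE : C.IsGE (min c c' - 1) := by
    rw [DerivedCategory.isGE_iff]
    exact hCz
  have hCfin : ∀ i : ℤ, Module.Finite A (Dual.HD A C i) := by
    intro i
    have hex := DerivedCategory.HomologySequence.exact₃ _ hT i (i + 1) rfl
    rw [ShortComplex.moduleCat_exact_iff_range_eq_ker] at hex
    have h1 : Module.Finite A (Dual.HD A ω' i) := hω'fin i
    have h2 : Module.Finite A (Dual.HD A ω (i + 1)) := hωfin (i + 1)
    have i1 : IsNoetherian A ((DerivedCategory.homologyFunctor (ModuleCat.{u} A) i).obj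
        (Triangle.mk f g h).obj₂) := by
      change IsNoetherian A (Dual.HD A ω' i)
      infer_instance
    have i2 : IsNoetherian A ((DerivedCategory.homologyFunctor (ModuleCat.{u} A) (i + 1)).obj
        (Triangle.mk f g h).obj₁) := by
      change IsNoetherian A (Dual.HD A ω (i + 1))
      infer_instance
    have : IsNoetherian A (Dual.HD A C i) :=
      isNoetherian_of_range_eq_ker
        (((DerivedCategory.homologyFunctor (ModuleCat.{u} A) i).map g).hom :
          Dual.HD A ω' i →ₗ[A] Dual.HD A C i)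
        ((DerivedCategory.HomologySequence.δ (Triangle.mk f g h) i (i + 1) rfl).hom :
          Dual.HD A C i →ₗ[A] Dual.HD A ω (i + 1)) hex
    infer_instance
  have hCzero : IsZero C := by
    refine isZero_of_forall_isZero_homology C (fun i => ?_)
    have hb := bass C (min c c' - 1) hCfin (i - 1) (fun m hm k _ => by
      rw [IsLocalRing.eq_maximalIdeal hm]
      exact hC k) ⊥ i (by omega)
    let e : Dual.inD A (A ⧸ (⊥ : Ideal A)) ≅ Dual.inD A A :=
      (DerivedCategory.singleFunctor (ModuleCat.{u} A) 0).mapIso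
        (Submodule.quotEquivOfEqBot (⊥ : Ideal A) rfl).toModuleIso
    have : Subsingleton (Dual.inD A A ⟶ C⟦i⟧) :=
      (Iso.homCongr e (Iso.refl _)).symm.subsingleton
    exact isZero_HD_of_subsingleton_ext C i this
  exact (Triangle.isZero₃_iff_isIso₁ _ hT).1 hCzero

theorem iso_of_normalized_aux' (I W : DRing.Cx A) (a b a' b' : ℤ)
    (hvI : DRing.VanishesOutside I a b) (hvW : DRing.VanishesOutside W a' b')
    (hI : DRing.TermwiseInjective I) (hW : DRing.TermwiseInjective W)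
    (hω : Dual.IsDualizing A (Q.obj I)) (c' : ℤ) [hc' : (Q.obj W : Dual.D A).IsGE c']
    (hω'fin : ∀ i : ℤ, Module.Finite A (Dual.HD A (Q.obj W) i))
    (hn : Dual.IsNormalized A (Q.obj I)) (hn' : Dual.IsNormalized A (Q.obj W))
    (hE' : Nonempty ((Dual.inD A (A ⧸ IsLocalRing.maximalIdeal A) ⟶
      (Q.obj W : Dual.D A)⟦(0 : ℤ)⟧) ≃ₗ[A] (A ⧸ IsLocalRing.maximalIdeal A))) :
    Nonempty ((Q.obj I : Dual.D A) ≅ Q.obj W) := by
  obtain ⟨ε⟩ := Dm_residue_iso_of_normalized A I a b hvI hI hω hn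
  have hκ : ∀ i : ℤ, 0 < i →
      Subsingleton (G I W i (ModuleCat.of A (A ⧸ IsLocalRing.maximalIdeal A))) := fun i hi => by
    have : Subsingleton (Dual.inD A (A ⧸ IsLocalRing.maximalIdeal A) ⟶
      (Q.obj W : Dual.D A)⟦i⟧) := hn' i (by omega)
    exact (Iso.homCongr ε (Iso.refl _)).subsingleton
  have hfin : ∀ i : ℤ, Module.Finite A (G I W i (ModuleCat.of A A)) := fun i => by
    have := finite_hom_of_dualizing_left A (Q.obj I) (Q.obj W) hω c' hω'fin i
    exact Module.Finite.equiv (Linear.homCongr A (Q.mapIso (evOneIso I)).symm (Iso.refl _))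
  have hG := subsingleton_G_pos I W hI hW a b a' b' hvI hvW hκ hfin
  have hS := subSC_shortExact (A := A) (M := A) (IsLocalRing.maximalIdeal A)
  have hfinm : Module.Finite A (ModuleCat.of A (IsLocalRing.maximalIdeal A)) :=
    inferInstanceAs (Module.Finite A (IsLocalRing.maximalIdeal A))
  obtain ⟨E'⟩ := hE'
  have hnt0 : Nontrivial (A ⧸ IsLocalRing.maximalIdeal A) :=
    Ideal.Quotient.nontrivial_iff.2 (IsLocalRing.maximalIdeal.isMaximal A).ne_top
  have hnt : Nontrivial (G I W 0 (ModuleCat.of A (A ⧸ IsLocalRing.maximalIdeal A))) :=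
    ((Iso.homCongr ε (Iso.refl _)).trans E'.toEquiv).nontrivial
  obtain ⟨z, hz⟩ := exists_ne (0 : G I W 0 (ModuleCat.of A (A ⧸ IsLocalRing.maximalIdeal A)))
  obtain ⟨g, hg⟩ := G_surj I W (subSC (A := A) (M := A) (IsLocalRing.maximalIdeal A)) hI hS 0 1
    (by norm_num) (hG 1 one_pos (ModuleCat.of A (IsLocalRing.maximalIdeal A))) z
  obtain ⟨d, g', hg'⟩ : ∃ (d : (Q.obj (Dm I (ModuleCat.of A (A ⧸ IsLocalRing.maximalIdeal A))) :
      Dual.D A) ⟶ (Q.obj (Dm I (ModuleCat.of A A)) : Dual.D A))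
      (g' : (Q.obj (Dm I (ModuleCat.of A A)) : Dual.D A) ⟶
      (Q.obj W : Dual.D A)⟦(0 : ℤ)⟧), z = d ≫ g' :=
    ⟨Q.map (DmMap I (subSC (A := A) (M := A) (IsLocalRing.maximalIdeal A)).g), g, hg⟩
  let f : (Q.obj I : Dual.D A) ⟶ Q.obj W :=
    Q.map (evOneIso I).inv ≫ g' ≫ (shiftFunctorZero (Dual.D A) ℤ).hom.app _
  let s : Dual.inD A (A ⧸ IsLocalRing.maximalIdeal A) ⟶ (Q.obj I : Dual.D A) :=
    ε.inv ≫ d ≫ Q.map (evOneIso I).hom
  have key : Q.map (evOneIso I).hom ≫ Q.map (evOneIso I).inv = 𝟙 _ := by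
    rw [← Functor.map_comp, Iso.hom_inv_id, CategoryTheory.Functor.map_id]
  have hsf : s ≫ f = ε.inv ≫ z ≫ (shiftFunctorZero (Dual.D A) ℤ).hom.app _ := by
    change (ε.inv ≫ d ≫ Q.map (evOneIso I).hom) ≫ (Q.map (evOneIso I).inv ≫ g' ≫
        (shiftFunctorZero (Dual.D A) ℤ).hom.app _) = _
    rw [hg']
    simp only [Category.assoc]
    rw [reassoc_of% key]
  have hs : s ≫ f ≠ 0 := by
    intro h0
    apply hz
    rw [hsf] at h0
    have h1 : z ≫ (shiftFunctorZero (Dual.D A) ℤ).hom.app _ = 0 := by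
      rw [← cancel_epi ε.inv, h0, comp_zero]
    rw [← cancel_mono ((shiftFunctorZero (Dual.D A) ℤ).hom.app (Q.obj W : Dual.D A)), h1, zero_comp]
  obtain ⟨c, hc⟩ := exists_isGE_of_isDualizing _ hω
  have := isIso_of_residue' A _ _ c c' hω.finite_cohomology hω'fin hn hn'
    (ext_residue_normalized A _ hω hn) ⟨E'⟩ f s hs
  exact ⟨asIso f⟩

/-- A bounded below complex with finite cohomology whose `Ext(κ, -)` is that of a normalized
dualizing complex is isomorphic to any normalized dualizing complex. -/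
theorem iso_of_residue (ω K : Dual.D A) (hω : Dual.IsDualizing A ω)
    (hn : Dual.IsNormalized A ω) (c : ℤ) [hc : K.IsGE c]
    (hKfin : ∀ i : ℤ, Module.Finite A (Dual.HD A K i)) (hn' : Dual.IsNormalized A K)
    (hE' : Nonempty ((Dual.inD A (A ⧸ IsLocalRing.maximalIdeal A) ⟶ K⟦(0 : ℤ)⟧) ≃ₗ[A]
      (A ⧸ IsLocalRing.maximalIdeal A))) :
    Nonempty (ω ≅ K) := by
  obtain ⟨a, b, h2⟩ := hω.finite_injective_dimension
  obtain ⟨I, hvI, hI, ⟨e⟩⟩ := hasInjAmplitudeIn_of_quotients ω a b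
    (fun J i hi => h2 (A ⧸ J) i hi)
  obtain ⟨W, hvW, hW, ⟨e'⟩⟩ := hasInjAmplitudeIn_of_maximal K c hKfin 0 (fun m hm i hi => by
    rw [IsLocalRing.eq_maximalIdeal hm]
    exact hn' i (by omega))
  have hGE : (Q.obj W : Dual.D A).IsGE c := by
    rw [DerivedCategory.isGE_iff]
    intro i hi
    exact (K.isZero_of_isGE c i hi).of_iso ((DerivedCategory.homologyFunctor _ i).mapIso e')
  obtain ⟨E'⟩ := hE'
  obtain ⟨ι⟩ := iso_of_normalized_aux' A I W a b c 0 hvI hvW hI hW
    (isDualizing_of_iso e.symm hω) c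
    (fun i => by
      have := hKfin i
      exact Module.Finite.equiv
        ((DerivedCategory.homologyFunctor (ModuleCat.{u} A) i).mapIso e'.symm).toLinearEquiv)
    (isNormalized_of_iso A e.symm hn) (isNormalized_of_iso A e'.symm hn')
    ⟨(Linear.homCongr A (Iso.refl _)
      ((shiftFunctor (Dual.D A) (0 : ℤ)).mapIso e')).trans E'⟩
  exact ⟨e.symm ≪≫ ι ≪≫ e'⟩

end Local

section FlatLocal

variable (A B : Type u) [CommRing A] [CommRing B] [IsLocalRing A] [IsLocalRing B] [Algebra A B]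
  [IsNoetherianRing A] [IsNoetherianRing B] [Module.Flat A B]

/-- `Ext_B^i(B/IB, K ⊗ B) = B ⊗ Ext_A^i(A/I, K)`, linearly. -/
noncomputable def bcHomQuotLinearEquiv (I : Ideal A) (K : Dual.D A) (c : ℤ) [K.IsGE c] (i : ℤ) :
    B ⊗[A] (Dual.inD A (A ⧸ I) ⟶ K⟦i⟧) ≃ₗ[B]
      (Dual.inD B (B ⧸ I.map (algebraMap A B)) ⟶ ((flatBC A B).obj K)⟦i⟧) :=
  (LinearEquiv.ofBijective (bcHomL B (Dual.inD A (A ⧸ I)) (K⟦i⟧))
      (bijective_bcHom_shift B (Dual.inD A (A ⧸ I))
      ((isPseudoCoherentModule'_iff_of_isNoetherianRing (A ⧸ I)).2 inferInstance) K c i)).trans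
    (Linear.homCongr B (inDQuotMapIso A B I).symm (flatBCShiftIso B K i))

lemma finite_HD_flatBC (K : Dual.D A) (hK : ∀ i : ℤ, Module.Finite A (Dual.HD A K i)) (i : ℤ) :
    Module.Finite B (Dual.HD B ((flatBC A B).obj K) i) := by
  have := hK i
  have h1 : Module.Finite B (B ⊗[A] (Dual.HD A K i)) := inferInstance
  have h2 : Module.Finite B ((ModuleCat.extendScalars.{u, u, u} (algebraMap A B)).obj
      ((DerivedCategory.homologyFunctor (ModuleCat.{u} A) i).obj K)) :=
    Module.Finite.equiv (extendScalarsEquiv B _).symm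
  exact Module.Finite.equiv (flatBCHomologyIso A B K i).symm.toLinearEquiv

variable (hm : (IsLocalRing.maximalIdeal A).map (algebraMap A B) = IsLocalRing.maximalIdeal B)

include hm in
/-- The hypotheses on `Ext(κ, -)` ascend along a flat local extension with `m_A B = m_B`. -/
lemma residue_hyp_flatBC (R : Dual.D A) (a : ℤ) [R.IsGE a] (d : ℤ)
    (hvan : ∀ i : ℤ, i ≠ d →
      Subsingleton (Dual.inD A (A ⧸ IsLocalRing.maximalIdeal A) ⟶ R⟦i⟧))
    (hd : Nonempty ((Dual.inD A (A ⧸ IsLocalRing.maximalIdeal A) ⟶ R⟦d⟧) ≃ₗ[A]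
      (A ⧸ IsLocalRing.maximalIdeal A))) :
    Dual.IsNormalized B (((flatBC A B).obj R)⟦d⟧) ∧
      Nonempty ((Dual.inD B (B ⧸ IsLocalRing.maximalIdeal B) ⟶
        (((flatBC A B).obj R)⟦d⟧)⟦(0 : ℤ)⟧) ≃ₗ[B] (B ⧸ IsLocalRing.maximalIdeal B)) := by
  let e2 : (B ⧸ (IsLocalRing.maximalIdeal A).map (algebraMap A B)) ≃ₗ[B]
      (B ⧸ IsLocalRing.maximalIdeal B) := Submodule.quotEquivOfEq _ _ hm
  let e3 : Dual.inD B (B ⧸ (IsLocalRing.maximalIdeal A).map (algebraMap A B)) ≅
      Dual.inD B (B ⧸ IsLocalRing.maximalIdeal B) :=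
    (DerivedCategory.singleFunctor (ModuleCat.{u} B) 0).mapIso e2.toModuleIso
  constructor
  · intro i hi
    have h1 := subsingleton_hom_quot_map A B (IsLocalRing.maximalIdeal A) R a (d + i)
      (hvan (d + i) (by omega))
    exact (Iso.homCongr e3 ((shiftFunctorAdd' (Dual.D B) d i (d + i) rfl).app
      ((flatBC A B).obj R))).symm.subsingleton
  · obtain ⟨E⟩ := hd
    have hd0 : d + 0 = d := add_zero d
    let Φ1 : (Dual.inD B (B ⧸ IsLocalRing.maximalIdeal B) ⟶
        (((flatBC A B).obj R)⟦d⟧)⟦(0 : ℤ)⟧) ≃ₗ[B]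
        (Dual.inD B (B ⧸ (IsLocalRing.maximalIdeal A).map (algebraMap A B)) ⟶
          ((flatBC A B).obj R)⟦d⟧) :=
      Linear.homCongr B e3.symm ((shiftFunctorZero (Dual.D B) ℤ).app _)
    let Φ2 := (bcHomQuotLinearEquiv A B (IsLocalRing.maximalIdeal A) R a d).symm
    let Φ3 : B ⊗[A] (Dual.inD A (A ⧸ IsLocalRing.maximalIdeal A) ⟶ R⟦d⟧) ≃ₗ[B]
        B ⊗[A] (A ⧸ IsLocalRing.maximalIdeal A) := LinearEquiv.baseChange A B _ _ E
    let Φ4 : B ⊗[A] (A ⧸ IsLocalRing.maximalIdeal A) ≃ₗ[B]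
        (B ⧸ (IsLocalRing.maximalIdeal A).map (algebraMap A B)) :=
      (Algebra.TensorProduct.quotIdealMapEquivTensorQuot B
        (IsLocalRing.maximalIdeal A)).toLinearEquiv.symm
    exact ⟨Φ1.trans (Φ2.trans (Φ3.trans (Φ4.trans e2)))⟩

end FlatLocal

section Main

variable (A : Type u) [CommRing A] [IsLocalRing A] [IsNoetherianRing A]

/-- A bounded below complex with finite cohomology over a Noetherian local ring with
`Ext^i(κ, R) = κ` for `i = d` and zero otherwise is dualizing. -/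
theorem isDualizing_of_ext_residue (R : Dual.D A)
    (hfin : ∀ i : ℤ, Module.Finite A (Dual.HD A R i)) (a : ℤ)
    (ha : ∀ i : ℤ, i < a → Subsingleton (Dual.HD A R i)) (d : ℤ)
    (hvan : ∀ i : ℤ, i ≠ d →
      Subsingleton (Dual.inD A (A ⧸ IsLocalRing.maximalIdeal A) ⟶ R⟦i⟧))
    (hd : Nonempty ((Dual.inD A (A ⧸ IsLocalRing.maximalIdeal A) ⟶ R⟦d⟧) ≃ₗ[A]
      (A ⧸ IsLocalRing.maximalIdeal A))) :
    Dual.IsDualizing A R := by
  have hGE : R.IsGE a := isGE_of_subsingleton_HD R a ha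
  have hfg : (IsLocalRing.maximalIdeal A).FG := IsNoetherian.noetherian _
  have hBN : IsNoetherianRing (AdicCompletion (IsLocalRing.maximalIdeal A) A) :=
    Groth.Agent.Lib.Helper21.isNoetherianRing_adicCompletion_of_fg _ hfg
  have hff : Module.FaithfullyFlat A (AdicCompletion (IsLocalRing.maximalIdeal A) A) :=
    Module.FaithfullyFlat.of_flat_of_isLocalHom
  have hm : (IsLocalRing.maximalIdeal A).map
      (algebraMap A (AdicCompletion (IsLocalRing.maximalIdeal A) A)) =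
      IsLocalRing.maximalIdeal (AdicCompletion (IsLocalRing.maximalIdeal A) A) :=
    (AdicCompletion.maximalIdeal_eq_map (R := A)).symm
  obtain ⟨ω, hω⟩ := Groth.Agent.S0376.result (AdicCompletion (IsLocalRing.maximalIdeal A) A)
  obtain ⟨k, hk⟩ := exists_normalized_shift ω hω
  have hωk := isDualizing_shift ω hω k
  obtain ⟨hn', hE'⟩ := residue_hyp_flatBC A (AdicCompletion (IsLocalRing.maximalIdeal A) A) hm
    R a d hvan hd
  have hGEB : ((flatBC A (AdicCompletion (IsLocalRing.maximalIdeal A) A)).obj R).IsGE a :=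
    isGE_flatBC _ R a
  have hGEK : (((flatBC A (AdicCompletion (IsLocalRing.maximalIdeal A) A)).obj R)⟦d⟧).IsGE
      (a - d) := TStructure.t.isGE_shift _ a d (a - d) (by omega)
  have hfinB := finite_HD_flatBC A (AdicCompletion (IsLocalRing.maximalIdeal A) A) R hfin
  obtain ⟨ι⟩ := iso_of_residue (AdicCompletion (IsLocalRing.maximalIdeal A) A) (ω⟦k⟧)
    (((flatBC A (AdicCompletion (IsLocalRing.maximalIdeal A) A)).obj R)⟦d⟧) hωk hk (a - d)
    (fun i => finite_HD_shift _ hfinB d i) hn' hE'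
  have h1 := isDualizing_of_iso ι hωk
  have h2 := isDualizing_shift _ h1 (-d)
  have h3 := isDualizing_of_iso
    ((shiftFunctorCompIsoId (Dual.D (AdicCompletion (IsLocalRing.maximalIdeal A) A)) d (-d)
      (by simp)).app _) h2
  exact isDualizing_of_flatBC A (AdicCompletion (IsLocalRing.maximalIdeal A) A) R h3

end Main

end Groth.Agent.Lib.Helper13.DualBC
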