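import Groth.Agent.Lib.Helper13.DualBC30
import Groth.Agent.S0366
import Mathlib.RingTheory.Ideal.AssociatedPrime.Localization

/-!
# Localization of `Ext(M, ω)` and nonvanishing in the top degree
-/

set_option autoImplicit false
set_option linter.unusedSectionVars false

open CategoryTheory CategoryTheory.Limits Pretriangulated TensorProduct

universe u

namespace Groth.Agent.Lib.Helper13.DualBC

open DerivedCategory Groth.Agent.Lib.Helper13.Coind Groth.Agent.Lib.Helper13.PC
  Groth.Agent.Lib.Helper13.DR Groth.Agent.Lib.Helper13.Shriek Groth.Agent.Lib.Helper13.BD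
  Groth.Agent.Lib.Helper13.HomBC

attribute [local instance] HasDerivedCategory.standard

section LocExt

variable (A : Type u) [CommRing A] [IsNoetherianRing A]

/-- Flat base change of `M[0]` to `A_p` is `M_p[0]`. -/
noncomputable def flatBCLocalizedIso (p : Ideal A) [p.IsPrime] (M : Type u) [AddCommGroup M]
    [Module A M] :
    (flatBC A (Localization.AtPrime p)).obj (Dual.inD A M) ≅
      Dual.inD (Localization.AtPrime p) (LocalizedModule p.primeCompl M) :=
  flatBCSingleIso A (Localization.AtPrime p) M ≪≫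
    (DerivedCategory.singleFunctor (ModuleCat.{u} (Localization.AtPrime p)) 0).mapIso
      (LocalizedModule.equivTensorProduct p.primeCompl M).symm.toModuleIso

/-- Localization of `Ext^i(M, K)` at a prime, linearly. -/
noncomputable def locExtLinearEquiv (p : Ideal A) [p.IsPrime] (M : Type u) [AddCommGroup M]
    [Module A M] [Module.Finite A M] (K : Dual.D A) (c : ℤ) [K.IsGE c] (i : ℤ) :
    LocalizedModule p.primeCompl (Dual.inD A M ⟶ K⟦i⟧) ≃ₗ[Localization.AtPrime p]
      (Dual.inD (Localization.AtPrime p) (LocalizedModule p.primeCompl M) ⟶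
        ((flatBC A (Localization.AtPrime p)).obj K)⟦i⟧) :=
  ((LocalizedModule.equivTensorProduct p.primeCompl _).trans
    (LinearEquiv.ofBijective (bcHomL (Localization.AtPrime p) (Dual.inD A M) (K⟦i⟧))
      (bijective_bcHom_shift (Localization.AtPrime p) (Dual.inD A M)
      ((isPseudoCoherentModule'_iff_of_isNoetherianRing M).2 inferInstance) K c i))).trans
    (Linear.homCongr (Localization.AtPrime p) (flatBCLocalizedIso A p M)
      (flatBCShiftIso (Localization.AtPrime p) K i))

/-- Nonvanishing of `Ext` after localization implies nonvanishing. -/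
lemma nontrivial_ext_of_localized (p : Ideal A) [p.IsPrime] (M : Type u) [AddCommGroup M]
    [Module A M] [Module.Finite A M] (K : Dual.D A) (c : ℤ) [K.IsGE c] (i : ℤ)
    (h : Nontrivial (Dual.inD (Localization.AtPrime p) (LocalizedModule p.primeCompl M) ⟶
        ((flatBC A (Localization.AtPrime p)).obj K)⟦i⟧)) :
    Nontrivial (Dual.inD A M ⟶ K⟦i⟧) := by
  by_contra hcon
  rw [not_nontrivial_iff_subsingleton] at hcon
  have : Subsingleton (LocalizedModule p.primeCompl (Dual.inD A M ⟶ K⟦i⟧)) := inferInstance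
  exact not_subsingleton _ (locExtLinearEquiv A p M K c i).symm.toEquiv.subsingleton

end LocExt

section Top

variable (A : Type u) [CommRing A] [IsNoetherianRing A]

/-- If `p = Ann(x)` for some `x ∈ M`, then `Ext^{T p}(M, ω) ≠ 0`. -/
lemma nontrivial_ext_of_colon (ω : Dual.D A) (hω : Dual.IsDualizing A ω)
    (T : PrimeSpectrum A → ℤ)
    (hT : ∀ p : PrimeSpectrum A,
      p ∈ Module.support A (Dual.inD A (A ⧸ p.asIdeal) ⟶ ω⟦T p⟧) ∧
      ∀ j : ℤ, T p < j → p ∉ Module.support A (Dual.inD A (A ⧸ p.asIdeal) ⟶ ω⟦j⟧))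
    (M : Type u) [AddCommGroup M] [Module A M] [Module.Finite A M] (p : PrimeSpectrum A) (x : M)
    (hx : p.asIdeal = Submodule.colon (⊥ : Submodule A M) {x}) :
    Nontrivial (Dual.inD A M ⟶ ω⟦T p⟧) := by
  obtain ⟨hA, ⟨a, b, h2⟩, h3, h4, h5⟩ := id hω
  have hvan : ∀ i : ℤ, i < a → Subsingleton (Dual.HD A ω i) := fun i hi =>
    ModuleCat.subsingleton_of_isZero (isZero_HD_of_subsingleton_ext ω i (h2 A i (Or.inl hi)))
  have hGE : ω.IsGE a := isGE_of_subsingleton_HD ω a hvan
  have hd := isDualizing_flatBC_localization A p.asIdeal.primeCompl ω hω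
  have hds := isDualizing_shift _ hd (T p)
  have hnorm : Dual.IsNormalized (Localization.AtPrime p.asIdeal)
      (((flatBC A (Localization.AtPrime p.asIdeal)).obj ω)⟦T p⟧) := by
    intro i hi
    have := (nontrivial_localized_ext_iff A ω hω T hT p (T p + i)).1 (by omega)
    change Subsingleton (Dual.inD (Localization.AtPrime p.asIdeal)
      (Localization.AtPrime p.asIdeal ⧸ IsLocalRing.maximalIdeal (Localization.AtPrime p.asIdeal)) ⟶
      (((flatBC A (Localization.AtPrime p.asIdeal)).obj ω)⟦T p⟧)⟦i⟧)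
    exact (Iso.homCongr (Iso.refl _) ((shiftFunctorAdd' (Dual.D (Localization.AtPrime p.asIdeal))
      (T p) i (T p + i) rfl).app _)).symm.subsingleton
  let z : LocalizedModule p.asIdeal.primeCompl M := LocalizedModule.mk x 1
  have hz0 : z ≠ 0 := by
    intro h0
    have h1 : LocalizedModule.mkLinearMap p.asIdeal.primeCompl M x = 0 := h0
    rw [IsLocalizedModule.eq_zero_iff p.asIdeal.primeCompl] at h1
    obtain ⟨s, hs⟩ := h1
    have hs' : (s : A) ∈ Submodule.colon (⊥ : Submodule A M) {x} := by
      rw [Submodule.mem_colon_singleton]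
      exact hs
    rw [← hx] at hs'
    exact s.2 hs'
  have hz : ∀ r ∈ IsLocalRing.maximalIdeal (Localization.AtPrime p.asIdeal), r • z = 0 := by
    intro r hr
    obtain ⟨b', s, rfl⟩ := IsLocalization.exists_mk'_eq p.asIdeal.primeCompl r
    rw [IsLocalization.AtPrime.mk'_mem_maximal_iff (Localization.AtPrime p.asIdeal) p.asIdeal] at hr
    have hb : b' • x = 0 := by
      rw [hx, Submodule.mem_colon_singleton] at hr
      exact hr
    change IsLocalization.mk' (Localization.AtPrime p.asIdeal) b' s • LocalizedModule.mk x 1 = 0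
    rw [← Localization.mk_eq_mk', LocalizedModule.mk_smul_mk, hb, LocalizedModule.zero_mk]
  have h1 := nontrivial_hom_of_socle _ hds hnorm (LocalizedModule p.asIdeal.primeCompl M) z hz0 hz
  have h2 : Nontrivial (Dual.inD (Localization.AtPrime p.asIdeal)
      (LocalizedModule p.asIdeal.primeCompl M) ⟶
      ((flatBC A (Localization.AtPrime p.asIdeal)).obj ω)⟦T p⟧) :=
    (Iso.homCongr (Iso.refl _) ((shiftFunctorZero (Dual.D (Localization.AtPrime p.asIdeal)) ℤ).app
      _)).symm.nontrivial
  exact nontrivial_ext_of_localized A p.asIdeal M ω a (T p) h2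

variable [IsLocalRing A]

/-- For a nonzero finite module `M` with support of dimension `d` over a local ring with a
normalized dualizing complex, `Ext^{-d}(M, ω) ≠ 0`. -/
theorem nontrivial_ext_neg_supportDim (ω : Dual.D A) (hω : Dual.IsDualizing A ω)
    (hn : Dual.IsNormalized A ω) (M : Type u) [AddCommGroup M] [Module A M] [Module.Finite A M]
    [Nontrivial M] (d : ℕ) (hd : Module.supportDim A M = d) :
    Nontrivial (Dual.inD A M ⟶ ω⟦(-(d : ℤ))⟧) := by
  obtain ⟨T, hmono, hT⟩ := exists_strictMono_top A ω hω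
  obtain ⟨l, hl⟩ := Order.le_krullDim_iff.1 (le_of_eq hd.symm)
  let P : Module.support A M := l.head
  -- minimality
  have hmin : ∀ q : PrimeSpectrum A, q ∈ Module.support A M → q ≤ P.1 → P.1 ≤ q := by
    intro q hq hle
    by_contra hnle
    have hlt : (⟨q, hq⟩ : Module.support A M) < l.head := lt_of_le_not_ge hle hnle
    have h1 := Order.LTSeries.length_le_krullDim (l.cons ⟨q, hq⟩ hlt)
    rw [RelSeries.cons_length, hl] at h1
    have h2 : ((d + 1 : ℕ) : WithBot ℕ∞) ≤ (d : WithBot ℕ∞) := h1.trans (le_of_eq hd)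
    have h3 : (d + 1 : ℕ) ≤ d := by exact_mod_cast h2
    omega
  have hmp : P.1.asIdeal ∈ (Module.annihilator A M).minimalPrimes := by
    refine ⟨⟨P.1.isPrime, Module.mem_support_iff_of_finite.1 P.2⟩, ?_⟩
    rintro q ⟨hqp, hqa⟩ hle
    exact hmin ⟨q, hqp⟩ (Module.mem_support_iff_of_finite.2 hqa) hle
  have hass := Module.associatedPrimes.minimalPrimes_annihilator_subset_associatedPrimes (R := A) (M := M) hmp
  obtain ⟨-, x, hx⟩ := (isAssociatedPrime_iff (R := A) (M := M)).1 hass
  have hnt := nontrivial_ext_of_colon A ω hω T hT M P.1 x hx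
  -- `T P = -d`
  have h1 := (Groth.Agent.S0366.result A ω hω hn M d hd (T P.1)).1 hnt
  have h2 := add_length_le_of_strictMono T hmono (l.map Subtype.val (fun _ _ h => h))
  have h3 : T (l.map Subtype.val (fun _ _ h => h)).last ≤ 0 :=
    (top_eq_neg_dim A ω hω hn T hmono hT _).1
  rw [LTSeries.head_map, LTSeries.map_length, hl] at h2
  have h4 : T P.1 = -(d : ℤ) := by
    have : T (l.head : Module.support A M).1 = T P.1 := rfl
    omega
  rw [← h4]
  exact hnt

end Top

end Groth.Agent.Lib.Helper13.DualBC
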