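import Groth.Agent.Lib.Helper13.DualBC31
import Groth.Agent.S0367

/-!
# Supports of `Ext^{-j}(M, ω)` in terms of depth and dimension
-/

set_option autoImplicit false
set_option linter.unusedSectionVars false

open CategoryTheory CategoryTheory.Limits Pretriangulated TensorProduct

universe u

namespace Groth.Agent.Lib.Helper13.DualBC

open DerivedCategory Groth.Agent.Lib.Helper13.Coind Groth.Agent.Lib.Helper13.PC
  Groth.Agent.Lib.Helper13.DR Groth.Agent.Lib.Helper13.Shriek Groth.Agent.Lib.Helper13.BD
  Groth.Agent.Lib.Helper13.HomBC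

attribute [local instance] HasDerivedCategory.standard

section Supp

variable (A : Type u) [CommRing A] [IsLocalRing A] [IsNoetherianRing A]

theorem support_ext_iff_depth_add_dim (ω : Dual.D A) (hω : Dual.IsDualizing A ω)
    (hn : Dual.IsNormalized A ω) (M : Type u) [AddCommGroup M] [Module A M] [Module.Finite A M]
    (i : ℕ) (p : PrimeSpectrum A) :
    (∃ j : ℕ, j ≤ i ∧ p ∈ Module.support A (Dual.inD A M ⟶ ω⟦(-(j : ℤ))⟧)) ↔
      ((LocCoh.depth (Localization.AtPrime p.asIdeal)
        (LocalizedModule p.asIdeal.primeCompl M) : ℕ∞) : WithBot ℕ∞) +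
        ringKrullDim (A ⧸ p.asIdeal) ≤ (i : WithBot ℕ∞) := by
  obtain ⟨hA, ⟨a, b, h2⟩, h3, h4, h5⟩ := id hω
  have hvan : ∀ i : ℤ, i < a → Subsingleton (Dual.HD A ω i) := fun i hi =>
    ModuleCat.subsingleton_of_isZero (isZero_HD_of_subsingleton_ext ω i (h2 A i (Or.inl hi)))
  have hGE : ω.IsGE a := isGE_of_subsingleton_HD ω a hvan
  obtain ⟨T, hmono, hT⟩ := exists_strictMono_top A ω hω
  obtain ⟨hT0, hdim⟩ := top_eq_neg_dim A ω hω hn T hmono hT p
  obtain ⟨e, he⟩ : ∃ e : ℕ, T p = -(e : ℤ) := ⟨(-T p).toNat, by omega⟩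
  have hdim' : ringKrullDim (A ⧸ p.asIdeal) = ((e : ℕ∞) : WithBot ℕ∞) := by
    rw [hdim]
    congr 2
    omega
  have hd := isDualizing_flatBC_localization A p.asIdeal.primeCompl ω hω
  have hds := isDualizing_shift _ hd (T p)
  have hnorm : Dual.IsNormalized (Localization.AtPrime p.asIdeal)
      (((flatBC A (Localization.AtPrime p.asIdeal)).obj ω)⟦T p⟧) := by
    intro i hi
    have := (nontrivial_localized_ext_iff A ω hω T hT p (T p + i)).1 (by omega)
    change Subsingleton (Dual.inD (Localization.AtPrime p.asIdeal)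
      (Localization.AtPrime p.asIdeal ⧸ IsLocalRing.maximalIdeal (Localization.AtPrime p.asIdeal)) ⟶
      (((flatBC A (Localization.AtPrime p.asIdeal)).obj ω)⟦T p⟧)⟦i⟧)
    exact (Iso.homCongr (Iso.refl _) ((shiftFunctorAdd' (Dual.D (Localization.AtPrime p.asIdeal))
      (T p) i (T p + i) rfl).app _)).symm.subsingleton
  -- the key translation
  have key : ∀ (j : ℕ) (k : ℤ), T p + k = -(j : ℤ) →
      (p ∈ Module.support A (Dual.inD A M ⟶ ω⟦(-(j : ℤ))⟧) ↔
        Nontrivial (Dual.inD (Localization.AtPrime p.asIdeal)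
          (LocalizedModule p.asIdeal.primeCompl M) ⟶
          (((flatBC A (Localization.AtPrime p.asIdeal)).obj ω)⟦T p⟧)⟦k⟧)) := by
    intro j k hk
    rw [Module.mem_support_iff]
    let E1 := (locExtLinearEquiv A p.asIdeal M ω a (-(j : ℤ))).toEquiv
    let E2 : (Dual.inD (Localization.AtPrime p.asIdeal)
          (LocalizedModule p.asIdeal.primeCompl M) ⟶
          ((flatBC A (Localization.AtPrime p.asIdeal)).obj ω)⟦(-(j : ℤ))⟧) ≃
        (Dual.inD (Localization.AtPrime p.asIdeal)
          (LocalizedModule p.asIdeal.primeCompl M) ⟶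
          (((flatBC A (Localization.AtPrime p.asIdeal)).obj ω)⟦T p⟧)⟦k⟧) :=
      Iso.homCongr (Iso.refl (Dual.inD (Localization.AtPrime p.asIdeal)
        (LocalizedModule p.asIdeal.primeCompl M)))
      ((shiftFunctorAdd' (Dual.D (Localization.AtPrime p.asIdeal)) (T p) k (-(j : ℤ)) hk).app
        ((flatBC A (Localization.AtPrime p.asIdeal)).obj ω))
    exact ⟨fun h => (E1.trans E2).symm.nontrivial, fun h => (E1.trans E2).nontrivial⟩
  by_cases hM : Subsingleton (LocalizedModule p.asIdeal.primeCompl M)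
  · -- the zero module
    have hz : IsZero (Dual.inD (Localization.AtPrime p.asIdeal)
        (LocalizedModule p.asIdeal.primeCompl M)) :=
      Functor.map_isZero _ (ModuleCat.isZero_of_subsingleton _)
    have hdepth : LocCoh.depth (Localization.AtPrime p.asIdeal)
        (LocalizedModule p.asIdeal.primeCompl M) = ⊤ := by
      unfold LocCoh.depth LocCoh.idealDepth
      rw [if_pos (Subsingleton.elim _ _)]
    constructor
    · rintro ⟨j, -, hj⟩
      exfalso
      have h1 := (key j (-(j : ℤ) - T p) (by ring)).1 hj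
      have : Subsingleton (Dual.inD (Localization.AtPrime p.asIdeal)
          (LocalizedModule p.asIdeal.primeCompl M) ⟶
          (((flatBC A (Localization.AtPrime p.asIdeal)).obj ω)⟦T p⟧)⟦-(j : ℤ) - T p⟧) :=
        ⟨fun f g => hz.eq_of_src f g⟩
      exact not_subsingleton _ this
    · intro h
      exfalso
      rw [hdepth, hdim'] at h
      have : ((⊤ : ℕ∞) : WithBot ℕ∞) + ((e : ℕ∞) : WithBot ℕ∞) = ((⊤ : ℕ∞) : WithBot ℕ∞) := by
        rw [← WithBot.coe_add, top_add]
      rw [this] at h
      have h' : (⊤ : ℕ∞) ≤ (i : ℕ∞) := by exact_mod_cast h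
      exact absurd h' (by simp)
  · rw [not_subsingleton_iff_nontrivial] at hM
    obtain ⟨n, hn'⟩ := ENat.ne_top_iff_exists.mp
      (Groth.Agent.Lib.Helper18.CM.depth_ne_top (R := Localization.AtPrime p.asIdeal)
        (LocalizedModule p.asIdeal.primeCompl M))
    obtain ⟨hlow, hnt⟩ := (Groth.Agent.S0367.result (Localization.AtPrime p.asIdeal) _ hds hnorm
      (LocalizedModule p.asIdeal.primeCompl M) n).1 hn'.symm
    rw [← hn', hdim']
    have hcast : (((n : ℕ∞) : WithBot ℕ∞) + ((e : ℕ∞) : WithBot ℕ∞) ≤ (i : WithBot ℕ∞)) ↔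
        n + e ≤ i := by
      norm_cast
    rw [hcast]
    constructor
    · rintro ⟨j, hji, hj⟩
      have h1 := (key j (-(j : ℤ) - T p) (by ring)).1 hj
      -- `-(j) - T p = -(j - e)`
      by_contra hcon
      push Not at hcon
      by_cases hje : j < e
      · have hpos : 0 < -(j : ℤ) - T p := by omega
        have := subsingleton_ext_pos _ hds hnorm (LocalizedModule p.asIdeal.primeCompl M) _ hpos
        exact not_subsingleton _ this
      · push Not at hje
        have hlt : j - e < n := by omega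
        have := hlow (j - e) hlt
        have heq : -(((j - e : ℕ)) : ℤ) = -(j : ℤ) - T p := by
          rw [he]
          push_cast [hje]
          ring
        rw [heq] at this
        exact not_subsingleton _ this
    · intro h
      refine ⟨n + e, h, ?_⟩
      refine (key (n + e) (-(n : ℤ)) (by rw [he]; push_cast; ring)).2 hnt

end Supp

end Groth.Agent.Lib.Helper13.DualBC
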