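import Groth.Agent.Lib.Helper13.DualBC32
import Groth.Agent.S0368

/-!
# The Cohen–Macaulay locus of a finite module
-/

set_option autoImplicit false
set_option linter.unusedSectionVars false

open CategoryTheory CategoryTheory.Limits Pretriangulated TensorProduct

universe u

namespace Groth.Agent.Lib.Helper13.DualBC

open DerivedCategory Groth.Agent.Lib.Helper13.Coind Groth.Agent.Lib.Helper13.PC
  Groth.Agent.Lib.Helper13.DR Groth.Agent.Lib.Helper13.Shriek Groth.Agent.Lib.Helper13.BD
  Groth.Agent.Lib.Helper13.HomBC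

attribute [local instance] HasDerivedCategory.standard

section ModCM

variable (A : Type u) [CommRing A] [IsNoetherianRing A]

/-- Finiteness of `Ext^i(M, ω)`. -/
lemma finite_ext' (ω : Dual.D A) (hω : Dual.IsDualizing A ω) (M : Type u) [AddCommGroup M]
    [Module A M] [Module.Finite A M] (i : ℤ) : Module.Finite A (Dual.inD A M ⟶ ω⟦i⟧) := by
  obtain ⟨c, hc⟩ := exists_isGE_of_isDualizing ω hω
  have hpcI : DRing.IsPseudoCoherent' A (Dual.inD A M) :=
    (isPseudoCoherentModule'_iff_of_isNoetherianRing M).2 inferInstance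
  have hGE : (ω⟦i⟧).IsGE (c - i) := TStructure.t.isGE_shift ω c i (c - i) (by omega)
  exact FC.finite_hom_of_isGE hpcI 0 (ω⟦i⟧) (c - i) (finite_HD_shift ω hω.finite_cohomology i)

/-- The shift of the localization of a dualizing complex by the dimension function is
normalized. -/
lemma isNormalized_flatBC_shift_top (ω : Dual.D A) (hω : Dual.IsDualizing A ω)
    (T : PrimeSpectrum A → ℤ)
    (hT : ∀ p : PrimeSpectrum A,
      p ∈ Module.support A (Dual.inD A (A ⧸ p.asIdeal) ⟶ ω⟦T p⟧) ∧
      ∀ j : ℤ, T p < j → p ∉ Module.support A (Dual.inD A (A ⧸ p.asIdeal) ⟶ ω⟦j⟧))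
    (p : PrimeSpectrum A) :
    Dual.IsNormalized (Localization.AtPrime p.asIdeal)
      (((flatBC A (Localization.AtPrime p.asIdeal)).obj ω)⟦T p⟧) := by
  intro i hi
  have := (nontrivial_localized_ext_iff A ω hω T hT p (T p + i)).1 (by omega)
  change Subsingleton (Dual.inD (Localization.AtPrime p.asIdeal)
    (Localization.AtPrime p.asIdeal ⧸ IsLocalRing.maximalIdeal (Localization.AtPrime p.asIdeal)) ⟶
    (((flatBC A (Localization.AtPrime p.asIdeal)).obj ω)⟦T p⟧)⟦i⟧)
  exact (Iso.homCongr (Iso.refl _) ((shiftFunctorAdd' (Dual.D (Localization.AtPrime p.asIdeal))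
    (T p) i (T p + i) rfl).app _)).symm.subsingleton

/-- Support of `Ext^j(M, ω)` at `p` in terms of `Ext` over `A_p` into the normalized complex. -/
lemma mem_support_ext_iff_localized (ω : Dual.D A) (hω : Dual.IsDualizing A ω)
    (M : Type u) [AddCommGroup M] [Module A M] [Module.Finite A M] (t : ℤ)
    (p : PrimeSpectrum A) (j k : ℤ) (hk : t + k = j) :
    (p ∈ Module.support A (Dual.inD A M ⟶ ω⟦j⟧) ↔
      Nontrivial (Dual.inD (Localization.AtPrime p.asIdeal)
        (LocalizedModule p.asIdeal.primeCompl M) ⟶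
        (((flatBC A (Localization.AtPrime p.asIdeal)).obj ω)⟦t⟧)⟦k⟧)) := by
  obtain ⟨a, hGE⟩ := exists_isGE_of_isDualizing ω hω
  rw [Module.mem_support_iff]
  let E1 := (locExtLinearEquiv A p.asIdeal M ω a j).toEquiv
  let E2 : (Dual.inD (Localization.AtPrime p.asIdeal)
        (LocalizedModule p.asIdeal.primeCompl M) ⟶
        ((flatBC A (Localization.AtPrime p.asIdeal)).obj ω)⟦j⟧) ≃
      (Dual.inD (Localization.AtPrime p.asIdeal)
        (LocalizedModule p.asIdeal.primeCompl M) ⟶
        (((flatBC A (Localization.AtPrime p.asIdeal)).obj ω)⟦t⟧)⟦k⟧) :=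
    Iso.homCongr (Iso.refl (Dual.inD (Localization.AtPrime p.asIdeal)
      (LocalizedModule p.asIdeal.primeCompl M)))
    ((shiftFunctorAdd' (Dual.D (Localization.AtPrime p.asIdeal)) t k j hk).app
      ((flatBC A (Localization.AtPrime p.asIdeal)).obj ω))
  exact ⟨fun h => (E1.trans E2).symm.nontrivial, fun h => (E1.trans E2).nontrivial⟩

lemma exists_supportDim_eq_nat (R : Type u) [CommRing R] [IsLocalRing R] [IsNoetherianRing R]
    (N : Type u) [AddCommGroup N] [Module R N] [Nontrivial N] :
    ∃ d : ℕ, Module.supportDim R N = d := by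
  have hfin : Module.supportDim R N < ⊤ :=
    lt_of_le_of_lt (Module.supportDim_le_ringKrullDim R N) ringKrullDim_lt_top
  obtain ⟨c, hc⟩ := WithBot.ne_bot_iff_exists.mp (Module.supportDim_ne_bot_of_nontrivial R N)
  rw [← hc] at hfin ⊢
  have hctop : c ≠ ⊤ := by
    rintro rfl
    exact lt_irrefl _ hfin
  obtain ⟨k, rfl⟩ := ENat.ne_top_iff_exists.mp hctop
  exact ⟨k, rfl⟩

/-- `M_p` is zero or Cohen–Macaulay iff `Ext^j(M, ω)_p` is nonzero for at most one `j`. -/
theorem isCM_localizedModule_iff (ω : Dual.D A) (hω : Dual.IsDualizing A ω)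
    (M : Type u) [AddCommGroup M] [Module A M] [Module.Finite A M] (p : PrimeSpectrum A) :
    (Subsingleton (LocalizedModule p.asIdeal.primeCompl M) ∨
      LocCoh.IsCohenMacaulayModule (Localization.AtPrime p.asIdeal)
        (LocalizedModule p.asIdeal.primeCompl M)) ↔
      ∃ j₀ : ℤ, ∀ j : ℤ, j ≠ j₀ → p ∉ Module.support A (Dual.inD A M ⟶ ω⟦j⟧) := by
  obtain ⟨T, hmono, hT⟩ := exists_strictMono_top A ω hω
  have hd := isDualizing_flatBC_localization A p.asIdeal.primeCompl ω hω
  have hds := isDualizing_shift _ hd (T p)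
  have hnorm := isNormalized_flatBC_shift_top A ω hω T hT p
  have key := mem_support_ext_iff_localized A ω hω M (T p) p
  constructor
  · rintro (hsub | hCM)
    · refine ⟨0, fun j _ hmem => ?_⟩
      have hz : IsZero (Dual.inD (Localization.AtPrime p.asIdeal)
          (LocalizedModule p.asIdeal.primeCompl M)) :=
        Functor.map_isZero _ (ModuleCat.isZero_of_subsingleton _)
      have h1 := (key j (j - T p) (by ring)).1 hmem
      have : Subsingleton (Dual.inD (Localization.AtPrime p.asIdeal)
          (LocalizedModule p.asIdeal.primeCompl M) ⟶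
          (((flatBC A (Localization.AtPrime p.asIdeal)).obj ω)⟦T p⟧)⟦j - T p⟧) :=
        ⟨fun f g => hz.eq_of_src f g⟩
      exact not_subsingleton _ this
    · have hnt : Nontrivial (LocalizedModule p.asIdeal.primeCompl M) := by
        by_contra hcon
        rw [not_nontrivial_iff_subsingleton] at hcon
        have h1 : Module.supportDim (Localization.AtPrime p.asIdeal)
            (LocalizedModule p.asIdeal.primeCompl M) = ⊥ :=
          Module.supportDim_eq_bot_of_subsingleton _ _
        have h2 : Module.supportDim (Localization.AtPrime p.asIdeal)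
            (LocalizedModule p.asIdeal.primeCompl M) = _ := hCM
        rw [h1] at h2
        exact WithBot.bot_ne_coe h2
      obtain ⟨d, hdd⟩ := exists_supportDim_eq_nat (Localization.AtPrime p.asIdeal)
        (LocalizedModule p.asIdeal.primeCompl M)
      have h368 := (Groth.Agent.S0368.result (Localization.AtPrime p.asIdeal) _ hds hnorm
        (LocalizedModule p.asIdeal.primeCompl M) d hdd).1 hCM
      refine ⟨T p - d, fun j hj hmem => ?_⟩
      have h1 := (key j (-(-(j - T p))) (by ring)).1 hmem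
      have := h368 (-(j - T p)) (by omega)
      exact not_subsingleton _ this
  · rintro ⟨j₀, hj₀⟩
    by_cases hsub : Subsingleton (LocalizedModule p.asIdeal.primeCompl M)
    · exact Or.inl hsub
    · right
      rw [not_subsingleton_iff_nontrivial] at hsub
      obtain ⟨d, hdd⟩ := exists_supportDim_eq_nat (Localization.AtPrime p.asIdeal)
        (LocalizedModule p.asIdeal.primeCompl M)
      have hntd := nontrivial_ext_neg_supportDim (Localization.AtPrime p.asIdeal) _ hds hnorm
        (LocalizedModule p.asIdeal.primeCompl M) d hdd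
      have hmem := (key (T p - d) (-(d : ℤ)) (by ring)).2 hntd
      have hj₀' : T p - d = j₀ := by
        by_contra hne
        exact hj₀ _ hne hmem
      refine (Groth.Agent.S0368.result (Localization.AtPrime p.asIdeal) _ hds hnorm
        (LocalizedModule p.asIdeal.primeCompl M) d hdd).2 (fun i hi => ?_)
      by_contra hcon
      rw [not_subsingleton_iff_nontrivial] at hcon
      exact hj₀ (T p - i) (by omega) ((key (T p - i) (-i) (by ring)).2 hcon)

theorem isOpen_cmLocus_module (ω : Dual.D A) (hω : Dual.IsDualizing A ω)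
    (M : Type u) [AddCommGroup M] [Module A M] [Module.Finite A M] :
    IsOpen {p : PrimeSpectrum A | Subsingleton (LocalizedModule p.asIdeal.primeCompl M) ∨
      LocCoh.IsCohenMacaulayModule (Localization.AtPrime p.asIdeal)
        (LocalizedModule p.asIdeal.primeCompl M)} := by
  obtain ⟨hA, ⟨a, b, h2⟩, h3, h4, h5⟩ := id hω
  rw [isOpen_iff_forall_mem_open]
  intro p hp
  obtain ⟨i₀, hi₀⟩ := (isCM_localizedModule_iff A ω hω M p).1 hp
  let Z : Set (PrimeSpectrum A) :=
    ⋃ j ∈ (Finset.Icc a b).erase i₀, Module.support A (Dual.inD A M ⟶ ω⟦j⟧)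
  have hZ : IsClosed Z := isClosed_biUnion_finset (fun j _ => by
    have := finite_ext' A ω hω M j
    rw [Module.support_eq_zeroLocus]
    exact PrimeSpectrum.isClosed_zeroLocus _)
  refine ⟨Zᶜ, fun q hq => ?_, hZ.isOpen_compl, ?_⟩
  · refine (isCM_localizedModule_iff A ω hω M q).2 ⟨i₀, fun j hj hmem => ?_⟩
    by_cases hjab : a ≤ j ∧ j ≤ b
    · exact hq (Set.mem_iUnion₂.2 ⟨j, Finset.mem_erase.2 ⟨hj, Finset.mem_Icc.2 hjab⟩, hmem⟩)
    · have := h2 M j (by omega)
      rw [Module.support_eq_empty] at hmem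
      exact hmem
  · intro hpZ
    obtain ⟨j, hj, hmem⟩ := Set.mem_iUnion₂.1 hpZ
    exact hi₀ j (Finset.mem_erase.1 hj).1 hmem

end ModCM

section Dense

variable (A : Type u) [CommRing A] [IsNoetherianRing A]

/-- Supports of `Ext` along short exact sequences. -/
lemma support_ext_subset_of_exact (K : Dual.D A) (i : ℤ) {N₁ N₂ N₃ : Type u} [AddCommGroup N₁]
    [Module A N₁] [AddCommGroup N₂] [Module A N₂] [AddCommGroup N₃] [Module A N₃]
    (f : N₁ →ₗ[A] N₂) (g : N₂ →ₗ[A] N₃) (hf : Function.Injective f)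
    (hg : Function.Surjective g) (hfg : Function.Exact f g) :
    Module.support A (Dual.inD A N₂ ⟶ K⟦i⟧) ⊆
      Module.support A (Dual.inD A N₃ ⟶ K⟦i⟧) ∪ Module.support A (Dual.inD A N₁ ⟶ K⟦i⟧) := by
  let S : ShortComplex (ModuleCat.{u} A) :=
    ShortComplex.mk (ModuleCat.ofHom f : ModuleCat.of A N₁ ⟶ ModuleCat.of A N₂)
      (ModuleCat.ofHom g : ModuleCat.of A N₂ ⟶ ModuleCat.of A N₃)
      (ModuleCat.hom_ext (LinearMap.ext fun x => hfg.apply_apply_eq_zero x))
  have hS : S.ShortExact :=
    { exact := (ShortComplex.ShortExact.moduleCat_exact_iff_function_exact S).2 hfg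
      mono_f := (ModuleCat.mono_iff_injective _).2 hf
      epi_g := (ModuleCat.epi_iff_surjective _).2 hg }
  have hT := hS.singleTriangle_distinguished
  let a₂ : (Dual.inD A N₃ ⟶ K⟦i⟧) →ₗ[A] (Dual.inD A N₂ ⟶ K⟦i⟧) :=
    Linear.leftComp A (K⟦i⟧) hS.singleTriangle.mor₂
  let a₁ : (Dual.inD A N₂ ⟶ K⟦i⟧) →ₗ[A] (Dual.inD A N₁ ⟶ K⟦i⟧) :=
    Linear.leftComp A (K⟦i⟧) hS.singleTriangle.mor₁
  have hex : ∀ y, a₁ y = 0 → ∃ z, a₂ z = y := fun y hy => by
    obtain ⟨z, hz⟩ := Triangle.yoneda_exact₂ _ hT y hy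
    exact ⟨z, hz.symm⟩
  exact support_subset_of_exact_mid a₂ a₁ hex

/-- At a minimal prime of the support, `Ext^j(N, ω)` vanishes for `j ≠ T P`. -/
lemma notMem_support_ext_of_minimal (ω : Dual.D A) (hω : Dual.IsDualizing A ω)
    (T : PrimeSpectrum A → ℤ)
    (hT : ∀ p : PrimeSpectrum A,
      p ∈ Module.support A (Dual.inD A (A ⧸ p.asIdeal) ⟶ ω⟦T p⟧) ∧
      ∀ j : ℤ, T p < j → p ∉ Module.support A (Dual.inD A (A ⧸ p.asIdeal) ⟶ ω⟦j⟧))
    (P : PrimeSpectrum A) (j : ℤ) (hj : j ≠ T P) :
    ∀ (N : Type u) [AddCommGroup N] [Module A N] [Module.Finite A N],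
      (∀ q ∈ Module.support A N, q ≤ P → q = P) →
      P ∉ Module.support A (Dual.inD A N ⟶ ω⟦j⟧) := by
  intro N _ _ hfin
  induction hfin using IsNoetherianRing.induction_on_isQuotientEquivQuotientPrime A with
  | subsingleton N =>
    intro _
    have hz : IsZero (Dual.inD A N) := Functor.map_isZero _ (ModuleCat.isZero_of_subsingleton _)
    have : Subsingleton (Dual.inD A N ⟶ ω⟦j⟧) := ⟨fun f g => hz.eq_of_src f g⟩
    rw [Module.support_eq_empty]
    exact Set.notMem_empty _
  | quotient N q e =>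
    intro h
    let E : (Dual.inD A N ⟶ ω⟦j⟧) ≃ₗ[A] (Dual.inD A (A ⧸ q.asIdeal) ⟶ ω⟦j⟧) :=
      Linear.homCongr A ((DerivedCategory.singleFunctor (ModuleCat.{u} A) 0).mapIso
        e.toModuleIso) (Iso.refl _)
    rw [E.support_eq]
    by_cases hqP : q ≤ P
    · have hqN : q ∈ Module.support A N := by
        rw [e.support_eq, Module.support_eq_zeroLocus, Ideal.annihilator_quotient]
        exact (PrimeSpectrum.mem_zeroLocus _ _).2 (subset_refl (q.asIdeal : Set A))
      obtain rfl := h q hqN hqP
      intro hmem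
      exact hj ((nontrivial_localized_ext_iff A ω hω T hT q j).2.1 (Module.mem_support_iff.1 hmem))
    · rw [Module.notMem_support_iff']
      intro f
      obtain ⟨s, hsq, hsP⟩ := Set.not_subset.1 hqP
      exact ⟨s, hsP, smul_hom_quot_eq_zero A q.asIdeal _ s hsq f⟩
  | exact N₁ N₂ N₃ f g hf hg hfg h₁ h₃ =>
    intro h hmem
    have h1 := h₁ (fun q hq => h q (Module.support_subset_of_injective f hf hq))
    have h3 := h₃ (fun q hq => h q (Module.support_subset_of_surjective g hg hq))
    rcases support_ext_subset_of_exact A ω j f g hf hg hfg hmem with h' | h'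
    · exact h3 h'
    · exact h1 h'

theorem support_subset_closure_cmLocus_module (ω : Dual.D A) (hω : Dual.IsDualizing A ω)
    (M : Type u) [AddCommGroup M] [Module A M] [Module.Finite A M] :
    Module.support A M ⊆ closure ({p : PrimeSpectrum A |
      LocCoh.IsCohenMacaulayModule (Localization.AtPrime p.asIdeal)
        (LocalizedModule p.asIdeal.primeCompl M)} ∩ Module.support A M) := by
  intro q hq
  obtain ⟨T, hmono, hT⟩ := exists_strictMono_top A ω hω
  obtain ⟨p, hp, hpq⟩ := Ideal.exists_minimalPrimes_le (Module.mem_support_iff_of_finite.1 hq)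
  have hpp : p.IsPrime := hp.1.1
  let P : PrimeSpectrum A := ⟨p, hpp⟩
  have hPsupp : P ∈ Module.support A M := Module.mem_support_iff_of_finite.2 hp.1.2
  have hmin : ∀ r ∈ Module.support A M, r ≤ P → r = P := by
    intro r hr hle
    have h1 : r.asIdeal.IsPrime ∧ Module.annihilator A M ≤ r.asIdeal :=
      ⟨r.isPrime, Module.mem_support_iff_of_finite.1 hr⟩
    exact le_antisymm hle (hp.2 h1 hle)
  have hCM : LocCoh.IsCohenMacaulayModule (Localization.AtPrime P.asIdeal)
      (LocalizedModule P.asIdeal.primeCompl M) := by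
    have h1 := (isCM_localizedModule_iff A ω hω M P).2
      ⟨T P, fun j hj => notMem_support_ext_of_minimal A ω hω T hT P j hj M hmin⟩
    rcases h1 with h1 | h1
    · exfalso
      have := Module.mem_support_iff.1 hPsupp
      exact not_subsingleton _ h1
    · exact h1
  have hspec : P ⤳ q := (PrimeSpectrum.le_iff_specializes _ _).1 hpq
  have hPmem : P ∈ ({p : PrimeSpectrum A |
      LocCoh.IsCohenMacaulayModule (Localization.AtPrime p.asIdeal)
        (LocalizedModule p.asIdeal.primeCompl M)} ∩ Module.support A M) := ⟨hCM, hPsupp⟩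
  exact closure_mono (Set.singleton_subset_iff.2 hPmem) (specializes_iff_mem_closure.1 hspec)

end Dense

end Groth.Agent.Lib.Helper13.DualBC
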