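import Groth.Agent.Lib.Helper13.DualBC34
import Groth.Agent.Lib.Helper2.Gor.GK1
import Groth.Agent.Lib.Helper16.GorQuot
import Mathlib.RingTheory.LocalRing.ResidueField.Fiber

/-!
# Flat base change with Gorenstein fibres preserves dualizing complexes
-/

set_option autoImplicit false
set_option linter.unusedSectionVars false

open CategoryTheory CategoryTheory.Limits Pretriangulated TensorProduct

universe u

namespace Groth.Agent.Lib.Helper13.DualBC

open DerivedCategory Groth.Agent.Lib.Helper13.Coind Groth.Agent.Lib.Helper13.PC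
  Groth.Agent.Lib.Helper13.DR Groth.Agent.Lib.Helper13.Shriek Groth.Agent.Lib.Helper13.BD
  Groth.Agent.Lib.Helper13.HomBC

attribute [local instance] HasDerivedCategory.standard

section Comp

variable (A B C : Type u) [CommRing A] [CommRing B] [CommRing C] [Algebra A B] [Algebra B C]
  [Algebra A C] [IsScalarTower A B C] [Module.Flat A B] [Module.Flat B C] [Module.Flat A C]

/-- Extension of scalars along a tower. -/
noncomputable def extendScalarsTowerIso :
    ModuleCat.extendScalars.{u, u, u} (algebraMap A B) ⋙
      ModuleCat.extendScalars.{u, u, u} (algebraMap B C) ≅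
    ModuleCat.extendScalars.{u, u, u} (algebraMap A C) :=
  (ModuleCat.extendScalarsComp (algebraMap A B) (algebraMap B C)).symm ≪≫
    eqToIso (by rw [← IsScalarTower.algebraMap_eq])

/-- Flat base change along a tower. -/
noncomputable def flatBCCompIso : flatBC A B ⋙ flatBC B C ≅ flatBC A C :=
  letI : Localization.Lifting (Q : DRing.Cx A ⥤ Dual.D A)
      (HomologicalComplex.quasiIso (ModuleCat.{u} A) (ComplexShape.up ℤ))
      ((extendCx A B ⋙ extendCx B C) ⋙ Q)
      (flatBC A B ⋙ flatBC B C) :=
    ⟨(Functor.associator _ _ _).symm ≪≫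
      Functor.isoWhiskerRight
        (ModuleCat.extendScalars.{u, u, u} (algebraMap A B)).mapDerivedCategoryFactors _ ≪≫
      Functor.associator _ _ _ ≪≫
      Functor.isoWhiskerLeft _
        (ModuleCat.extendScalars.{u, u, u} (algebraMap B C)).mapDerivedCategoryFactors ≪≫
      (Functor.associator _ _ _).symm⟩
  Localization.liftNatIso (Q : DRing.Cx A ⥤ Dual.D A)
    (HomologicalComplex.quasiIso (ModuleCat.{u} A) (ComplexShape.up ℤ))
    ((extendCx A B ⋙ extendCx B C) ⋙ Q) (extendCx A C ⋙ Q) _ _
    (Functor.isoWhiskerRight (Functor.mapHomologicalComplexCompIso (extendScalarsTowerIso A B C)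
      (ComplexShape.up ℤ)) Q)

end Comp

section Fibre

variable (A B : Type u) [CommRing A] [CommRing B] [Algebra A B]

/-- A Gorenstein fibre ring gives Gorenstein closed fibres of the local homomorphisms. -/
lemma gorenstein_local_fibre_aux (p : Ideal A) [p.IsPrime]
    (hG : LocCoh.IsGorensteinRing (B ⊗[A] p.ResidueField))
    (Q : Ideal B) [Q.IsPrime] (hQ : Q.comap (algebraMap A B) = p) :
    LocCoh.IsGorensteinLocalRing (Localization.AtPrime Q ⧸
      (p.map (algebraMap A B)).map (algebraMap B (Localization.AtPrime Q))) := by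
  let P : PrimeSpectrum A := ⟨p, inferInstance⟩
  let Q' : PrimeSpectrum.comap (algebraMap A B) ⁻¹' {P} := ⟨⟨Q, inferInstance⟩, by
    change PrimeSpectrum.comap (algebraMap A B) ⟨Q, inferInstance⟩ = P
    ext1
    exact hQ⟩
  let q' : PrimeSpectrum (p.Fiber B) := PrimeSpectrum.preimageEquivFiber A B P Q'
  have hq' : q'.asIdeal.comap (Algebra.TensorProduct.includeRight (R := A) (A := p.ResidueField)
      (B := B)) = Q := by
    have := (PrimeSpectrum.preimageEquivFiber A B P).left_inv Q'
    exact congrArg (fun x => x.1.asIdeal) this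
  have key : ∀ (r : Ideal B) [r.IsPrime], r = Q →
      LocCoh.IsGorensteinLocalRing (Localization.AtPrime r ⧸
        (p.map (algebraMap A B)).map (algebraMap B (Localization.AtPrime r))) →
      LocCoh.IsGorensteinLocalRing (Localization.AtPrime Q ⧸
        (p.map (algebraMap A B)).map (algebraMap B (Localization.AtPrime Q))) := by
    intro r _ h
    subst h
    exact id
  refine key _ hq' ?_
  have h1 : LocCoh.IsGorensteinLocalRing (Localization.AtPrime q'.asIdeal) := by
    let e : B ⊗[A] p.ResidueField ≃+* p.ResidueField ⊗[A] B :=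
      (Algebra.TensorProduct.comm A B p.ResidueField).toRingEquiv
    exact Groth.Agent.Lib.Helper2.GK.gor_localization_of_ringEquiv e q'.asIdeal
      (q'.asIdeal.comap (e : B ⊗[A] p.ResidueField →+* p.ResidueField ⊗[A] B)) rfl
      (hG.isGorensteinLocalRing_localization _)
  exact Groth.Agent.Lib.Helper2.GK.gor_of_ringEquiv
    (Ideal.Fiber.algEquivAux₂ p q'.asIdeal).toRingEquiv h1

end Fibre

section Global

variable (A B : Type u) [CommRing A] [CommRing B] [Algebra A B] [IsNoetherianRing A]
  [IsNoetherianRing B] [Module.Flat A B]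

/-- Pointwise: the base change of a dualizing complex along a flat map with Gorenstein fibres is
dualizing at each prime. -/
theorem isDualizing_flatBC_atPrime_of_gorenstein_fibres
    (hG : ∀ p : PrimeSpectrum A, LocCoh.IsGorensteinRing (B ⊗[A] p.asIdeal.ResidueField))
    (K : Dual.D A) (hK : Dual.IsDualizing A K) (Q : Ideal B) [Q.IsPrime] :
    Dual.IsDualizing (Localization.AtPrime Q)
      ((flatBC B (Localization.AtPrime Q)).obj ((flatBC A B).obj K)) := by
  have : Q.LiesOver (Q.under A) := Ideal.over_under ..
  let _ := Localization.AtPrime.algebraOfLiesOver (Q.under A) Q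
  have hd := isDualizing_flatBC_localization A (Q.under A).primeCompl K hK
  have hgor := gorenstein_local_fibre_aux A B (Q.under A) (hG ⟨Q.under A, inferInstance⟩) Q rfl
  have hideal : ((Q.under A).map (algebraMap A B)).map (algebraMap B (Localization.AtPrime Q)) =
      (IsLocalRing.maximalIdeal (Localization.AtPrime (Q.under A))).map
        (algebraMap (Localization.AtPrime (Q.under A)) (Localization.AtPrime Q)) := by
    rw [← Localization.AtPrime.map_eq_maximalIdeal, Ideal.map_map, Ideal.map_map,
      ← IsScalarTower.algebraMap_eq, ← IsScalarTower.algebraMap_eq]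
  have hflat : Module.Flat A (Localization.AtPrime Q) := Module.Flat.trans A B _
  have h1 := isDualizing_flatBC_of_gorenstein_fibre (Localization.AtPrime (Q.under A))
    (Localization.AtPrime Q) _ hd
    (Groth.Agent.Lib.Helper16.GorQuot.gor_congr_ideal hideal hgor)
  exact isDualizing_of_iso (((flatBCCompIso A (Localization.AtPrime (Q.under A))
    (Localization.AtPrime Q)).app K) ≪≫ ((flatBCCompIso A B (Localization.AtPrime Q)).app K).symm) h1

omit [IsNoetherianRing B] [Module.Flat A B] in
/-- A finite type algebra over a finite-dimensional Noetherian ring is finite-dimensional. -/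
lemma ringKrullDim_lt_top_of_finiteType [Algebra.FiniteType A B] (h : ringKrullDim A < ⊤) :
    ringKrullDim B < ⊤ := by
  obtain ⟨n, f, hf⟩ := Algebra.FiniteType.iff_quotient_mvPolynomial''.1
    (inferInstance : Algebra.FiniteType A B)
  refine lt_of_le_of_lt (ringKrullDim_le_of_surjective f.toRingHom hf) ?_
  rw [MvPolynomial.ringKrullDim_of_isNoetherianRing]
  have key : ∀ (x : WithBot ℕ∞) (n : ℕ), x < ⊤ → x + (n : WithBot ℕ∞) < ⊤ := by
    intro x n h
    induction x using WithBot.recBotCoe with
    | bot => simp
    | coe y =>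
      have hy : y < ⊤ := by
        rw [← WithBot.coe_top, WithBot.coe_lt_coe] at h
        exact h
      have h2 : y + (n : ℕ∞) < ⊤ := WithTop.add_lt_top.2 ⟨hy, ENat.natCast_lt_top n⟩
      rw [← WithBot.coe_top]
      have : ((y : WithBot ℕ∞) + (n : WithBot ℕ∞)) = ((y + (n : ℕ∞) : ℕ∞) : WithBot ℕ∞) := by
        push_cast
        rfl
      rw [this, WithBot.coe_lt_coe]
      exact h2
  exact key _ _ h

lemma finite_HD_flatBC' (K : Dual.D A) (hK : ∀ i : ℤ, Module.Finite A (Dual.HD A K i)) (i : ℤ) :
    Module.Finite B (Dual.HD B ((flatBC A B).obj K) i) := by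
  have := hK i
  have h1 : Module.Finite B (B ⊗[A] (Dual.HD A K i)) := inferInstance
  have h2 : Module.Finite B ((ModuleCat.extendScalars.{u, u, u} (algebraMap A B)).obj
      ((DerivedCategory.homologyFunctor (ModuleCat.{u} A) i).obj K)) :=
    Module.Finite.equiv (extendScalarsEquiv B _).symm
  exact Module.Finite.equiv (flatBCHomologyIso A B K i).symm.toLinearEquiv

/-- Flat finite type base change with Gorenstein fibres preserves dualizing complexes. -/
theorem isDualizing_flatBC_of_gorenstein_fibres [Algebra.FiniteType A B]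
    (hG : ∀ p : PrimeSpectrum A, LocCoh.IsGorensteinRing (B ⊗[A] p.asIdeal.ResidueField))
    (K : Dual.D A) (hK : Dual.IsDualizing A K) :
    Dual.IsDualizing B ((flatBC A B).obj K) := by
  obtain ⟨a, hGE⟩ := exists_isGE_of_isDualizing K hK
  have hGEX : ((flatBC A B).obj K).IsGE a := Groth.Agent.Lib.Helper13.HomBC.isGE_flatBC B K a
  exact isDualizing_of_pointwise B
    (ringKrullDim_lt_top_of_finiteType A B (ringKrullDim_lt_top_of_isDualizing A K hK)) _
    (finite_HD_flatBC' A B K hK.finite_cohomology) a
    (fun i hi => ModuleCat.subsingleton_of_isZero (((flatBC A B).obj K).isZero_of_isGE a i hi))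
    (fun q => isDualizing_flatBC_atPrime_of_gorenstein_fibres A B hG K hK q.asIdeal)

end Global

end Groth.Agent.Lib.Helper13.DualBC
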