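import Groth.Agent.Lib.Helper13.DualBC35

/-!
# Formal fibres of a local ring with a dualizing complex are Gorenstein
-/

set_option autoImplicit false
set_option linter.unusedSectionVars false
set_option linter.style.haveILetI false

open CategoryTheory CategoryTheory.Limits Pretriangulated TensorProduct

universe u

namespace Groth.Agent.Lib.Helper13.DualBC

open DerivedCategory Groth.Agent.Lib.Helper13.Coind Groth.Agent.Lib.Helper13.PC
  Groth.Agent.Lib.Helper13.DR Groth.Agent.Lib.Helper13.Shriek Groth.Agent.Lib.Helper13.BD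
  Groth.Agent.Lib.Helper13.HomBC

attribute [local instance] HasDerivedCategory.standard

section Single

variable (F : Type u) [CommRing F]

/-- A complex with cohomology `F` in the single degree `d` is `F[-d]`. -/
lemma nonempty_iso_shift_self_of_HD (Y : Dual.D F) (d : ℤ)
    (hY0 : ∀ j : ℤ, j ≠ d → Subsingleton (Dual.HD F Y j))
    (hYd : Nonempty (F ≃ₗ[F] Dual.HD F Y d)) :
    Nonempty (Y ≅ (Dual.inD F F)⟦-d⟧) := by
  obtain ⟨eYd⟩ := hYd
  have hGEY : Y.IsGE d := isGE_of_subsingleton_HD _ d (fun i hi => hY0 i (by omega))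
  have hLEY : Y.IsLE d := isLE_of_subsingleton_HD _ d (fun i hi => hY0 i (by omega))
  obtain ⟨Y0, ⟨ε⟩⟩ := DerivedCategory.exists_iso_singleFunctor_obj_of_isGE_of_isLE Y d
  let εY : Y0 ≅ ModuleCat.of F F :=
    ((DerivedCategory.singleFunctorCompHomologyFunctorIso _ d).app Y0).symm ≪≫
      (DerivedCategory.homologyFunctor _ d).mapIso ε.symm ≪≫ eYd.symm.toModuleIso
  exact ⟨ε ≪≫ (DerivedCategory.singleFunctor _ d).mapIso εY ≪≫
      (((DerivedCategory.singleFunctors (ModuleCat.{u} F)).shiftIso (-d) d 0 (by simp)).app
        _).symm⟩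

end Single

section LSconv

variable (A C : Type u) [CommRing A] [CommRing C] [IsLocalRing A] [IsLocalRing C] [Algebra A C]
  [IsNoetherianRing A] [IsNoetherianRing C] [Module.Flat A C]

/-- The cohomology of `RHom_C(C/mC, ω ⊗ C)`. -/
lemma HD_Rco_flatBC (ω : Dual.D A) (hω : Dual.IsDualizing A ω) :
    ∃ d : ℤ, (∀ j : ℤ, j ≠ d → Subsingleton
      (Dual.HD (C ⧸ (IsLocalRing.maximalIdeal A).map (algebraMap A C))
        ((Rco (algebraMap C (C ⧸ (IsLocalRing.maximalIdeal A).map (algebraMap A C)))).obj
          ((flatBC A C).obj ω)) j)) ∧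
      Nonempty ((C ⧸ (IsLocalRing.maximalIdeal A).map (algebraMap A C)) ≃ₗ[
        C ⧸ (IsLocalRing.maximalIdeal A).map (algebraMap A C)]
        (Dual.HD (C ⧸ (IsLocalRing.maximalIdeal A).map (algebraMap A C))
          ((Rco (algebraMap C (C ⧸ (IsLocalRing.maximalIdeal A).map (algebraMap A C)))).obj
            ((flatBC A C).obj ω)) d)) := by
  have hs : Function.Surjective
      (algebraMap C (C ⧸ (IsLocalRing.maximalIdeal A).map (algebraMap A C))) :=
    Ideal.Quotient.mk_surjective
  obtain ⟨d, hvan, ⟨E⟩⟩ := ext_residue A ω hω (IsLocalRing.maximalIdeal A)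
  obtain ⟨a, hGE⟩ := exists_isGE_of_isDualizing ω hω
  refine ⟨d, fun j hj => ?_, ?_⟩
  · have h1 := subsingleton_hom_quot_map A C (IsLocalRing.maximalIdeal A) ω a j (hvan j hj)
    exact (HDRcoEquiv C (C ⧸ (IsLocalRing.maximalIdeal A).map (algebraMap A C))
      ((flatBC A C).obj ω) j).subsingleton
  · let Φ2 := (bcHomQuotLinearEquiv A C (IsLocalRing.maximalIdeal A) ω a d).symm
    let Φ3 : C ⊗[A] (Dual.inD A (A ⧸ IsLocalRing.maximalIdeal A) ⟶ ω⟦d⟧) ≃ₗ[C]
        C ⊗[A] (A ⧸ IsLocalRing.maximalIdeal A) := LinearEquiv.baseChange A C _ _ E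
    let Φ4 : C ⊗[A] (A ⧸ IsLocalRing.maximalIdeal A) ≃ₗ[C]
        (C ⧸ (IsLocalRing.maximalIdeal A).map (algebraMap A C)) :=
      (Algebra.TensorProduct.quotIdealMapEquivTensorQuot C
        (IsLocalRing.maximalIdeal A)).toLinearEquiv.symm
    exact nonempty_linearEquiv_self_of_semilinear hs
      (HDRcoEquiv C (C ⧸ (IsLocalRing.maximalIdeal A).map (algebraMap A C))
        ((flatBC A C).obj ω) d)
      (HDRcoEquiv_smul C (C ⧸ (IsLocalRing.maximalIdeal A).map (algebraMap A C))
        ((flatBC A C).obj ω) d)
      (Φ2.trans (Φ3.trans Φ4))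

/-- If the flat local base change of a dualizing complex is dualizing then the closed fibre is
Gorenstein. -/
theorem isGorenstein_fibre_of_isDualizing_flatBC (ω : Dual.D A) (hω : Dual.IsDualizing A ω)
    (hX : Dual.IsDualizing C ((flatBC A C).obj ω))
    (hle : (IsLocalRing.maximalIdeal A).map (algebraMap A C) ≤ IsLocalRing.maximalIdeal C) :
    LocCoh.IsGorensteinLocalRing (C ⧸ (IsLocalRing.maximalIdeal A).map (algebraMap A C)) := by
  have hFloc : IsLocalRing (C ⧸ (IsLocalRing.maximalIdeal A).map (algebraMap A C)) :=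
    Groth.Agent.Lib.Helper16.GorFlat.isLocalRing_quot_of_le _ hle
  obtain ⟨d, hY0, hYd⟩ := HD_Rco_flatBC A C ω hω
  obtain ⟨ε⟩ := nonempty_iso_shift_self_of_HD _ _ d hY0 hYd
  have hYdual := isDualizing_Rco C (C ⧸ (IsLocalRing.maximalIdeal A).map (algebraMap A C)) _ hX
  have h1 := isDualizing_shift _ (isDualizing_of_iso ε hYdual) d
  rw [Groth.Agent.S11179.result]
  exact isDualizing_of_iso ((shiftFunctorCompIsoId _ (-d) d (by simp)).app _) h1

end LSconv

section FibreGor

variable (A B : Type u) [CommRing A] [CommRing B] [Algebra A B] [IsNoetherianRing A]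
  [IsNoetherianRing B] [Module.Flat A B]

omit [IsNoetherianRing A] [Module.Flat A B] in
/-- Fibre rings of a Noetherian algebra are Noetherian. -/
lemma isNoetherianRing_fiber (p : Ideal A) [p.IsPrime] : IsNoetherianRing (p.Fiber B) := by
  letI : Algebra B (p.Fiber B) := Algebra.TensorProduct.rightAlgebra
  have h1 : IsNoetherianRing (Localization (Algebra.algebraMapSubmonoid B p.primeCompl)) :=
    IsLocalization.isNoetherianRing (Algebra.algebraMapSubmonoid B p.primeCompl) _ inferInstance
  exact isNoetherianRing_of_ringEquiv _ (Ideal.Fiber.algEquivQuotient (S := B) p).toRingEquiv.symm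

/-- If the base change of a dualizing complex along a flat map is dualizing, the fibres are
Gorenstein. -/
theorem isGorensteinRing_fiber_of_isDualizing_flatBC (ω : Dual.D A) (hω : Dual.IsDualizing A ω)
    (hB : Dual.IsDualizing B ((flatBC A B).obj ω)) (p : Ideal A) [p.IsPrime] :
    LocCoh.IsGorensteinRing (p.Fiber B) := by
  have hN := isNoetherianRing_fiber A B p
  refine ⟨fun q' _ => ?_⟩
  have hover : (q'.comap (Algebra.TensorProduct.includeRight (R := A) (A := p.ResidueField)
      (B := B))).LiesOver p := by
    refine ⟨?_⟩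
    rw [Ideal.under_def]
    have h1 := Ideal.over_def q' p
    rw [Ideal.under_def] at h1
    refine h1.trans ?_
    change _ = Ideal.comap (algebraMap A B)
      (Ideal.comap (Algebra.TensorProduct.includeRight (R := A) (A := p.ResidueField)
        (B := B)).toRingHom q')
    rw [Ideal.comap_comap]
    congr 1
    exact (AlgHom.comp_algebraMap (Algebra.TensorProduct.includeRight (R := A)
      (A := p.ResidueField) (B := B))).symm
  let _ := Localization.AtPrime.algebraOfLiesOver p
    (q'.comap (Algebra.TensorProduct.includeRight (R := A) (A := p.ResidueField) (B := B)))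
  have hd := isDualizing_flatBC_localization A p.primeCompl ω hω
  have hdB := isDualizing_flatBC_localization B
    (q'.comap (Algebra.TensorProduct.includeRight (R := A) (A := p.ResidueField)
      (B := B))).primeCompl _ hB
  have hflat : Module.Flat A (Localization.AtPrime
      (q'.comap (Algebra.TensorProduct.includeRight (R := A) (A := p.ResidueField) (B := B)))) :=
    Module.Flat.trans A B _
  have hX := isDualizing_of_iso (((flatBCCompIso A B (Localization.AtPrime
      (q'.comap (Algebra.TensorProduct.includeRight (R := A) (A := p.ResidueField)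
        (B := B))))).app ω) ≪≫ ((flatBCCompIso A (Localization.AtPrime p) (Localization.AtPrime
      (q'.comap (Algebra.TensorProduct.includeRight (R := A) (A := p.ResidueField)
        (B := B))))).app ω).symm) hdB
  have hideal : (p.map (algebraMap A B)).map (algebraMap B (Localization.AtPrime
      (q'.comap (Algebra.TensorProduct.includeRight (R := A) (A := p.ResidueField)
        (B := B))))) =
      (IsLocalRing.maximalIdeal (Localization.AtPrime p)).map
        (algebraMap (Localization.AtPrime p) (Localization.AtPrime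
      (q'.comap (Algebra.TensorProduct.includeRight (R := A) (A := p.ResidueField)
        (B := B))))) := by
    rw [← Localization.AtPrime.map_eq_maximalIdeal, Ideal.map_map, Ideal.map_map,
      ← IsScalarTower.algebraMap_eq, ← IsScalarTower.algebraMap_eq]
  have hloc : IsLocalHom (algebraMap (Localization.AtPrime p) (Localization.AtPrime
      (q'.comap (Algebra.TensorProduct.includeRight (R := A) (A := p.ResidueField)
        (B := B))))) := by
    rw [Localization.AtPrime.IsLiesOverAlgebra.algebraMap_eq]
    exact Localization.isLocalHom_localRingHom ..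
  have hle := ((IsLocalRing.local_hom_TFAE _).out 0 2).1 hloc
  have hgor := isGorenstein_fibre_of_isDualizing_flatBC (Localization.AtPrime p)
    (Localization.AtPrime (q'.comap (Algebra.TensorProduct.includeRight (R := A)
      (A := p.ResidueField) (B := B)))) _ hd hX hle
  exact Groth.Agent.Lib.Helper2.GK.gor_of_ringEquiv
    (Ideal.Fiber.algEquivAux₂ p q').toRingEquiv.symm
    (Groth.Agent.Lib.Helper16.GorQuot.gor_congr_ideal hideal.symm hgor)

end FibreGor

end Groth.Agent.Lib.Helper13.DualBC
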