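import Groth.Agent.Lib.Helper13.DualBC36

/-!
# Cohen–Macaulay points and the cohomology of a dualizing complex
-/

set_option autoImplicit false
set_option linter.unusedSectionVars false
set_option linter.style.haveILetI false

open CategoryTheory CategoryTheory.Limits Pretriangulated TensorProduct

universe u

namespace Groth.Agent.Lib.Helper13.DualBC

open DerivedCategory Groth.Agent.Lib.Helper13.Coind Groth.Agent.Lib.Helper13.PC
  Groth.Agent.Lib.Helper13.DR Groth.Agent.Lib.Helper13.Shriek Groth.Agent.Lib.Helper13.BD
  Groth.Agent.Lib.Helper13.HomBC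

attribute [local instance] HasDerivedCategory.standard

section CMpt

variable (A : Type u) [CommRing A]

/-- `Hom(A, K[j]) = H^j(K)`. -/
noncomputable def homSelfHDEquiv (K : Dual.D A) (j : ℤ) :
    (Dual.inD A A ⟶ K⟦j⟧) ≃ₗ[A] Dual.HD A K j :=
  ((shiftHomLinearEquiv (Dual.inD A A) K j).symm.trans
    (Linear.homCongr A
      (((DerivedCategory.singleFunctors (ModuleCat.{u} A)).shiftIso (-j) j 0 (by simp)).app
        (ModuleCat.of A A)) (Iso.refl _))).trans (evHEquiv j K)

variable [IsNoetherianRing A]

/-- Some cohomology module of a dualizing complex is supported at `p`. -/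
lemma exists_mem_support_HD (ω : Dual.D A) (hω : Dual.IsDualizing A ω) (p : PrimeSpectrum A) :
    ∃ i : ℤ, p ∈ Module.support A (Dual.HD A ω i) := by
  by_contra hcon
  push Not at hcon
  have hd := isDualizing_flatBC_localization A p.asIdeal.primeCompl ω hω
  have hz : IsZero ((flatBC A (Localization.AtPrime p.asIdeal)).obj ω) := by
    apply isZero_of_forall_isZero_homology
    intro i
    have := Module.notMem_support_iff.1 (hcon i)
    have h2 : Subsingleton (Dual.HD (Localization.AtPrime p.asIdeal)
        ((flatBC A (Localization.AtPrime p.asIdeal)).obj ω) i) :=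
      (locHDLinearEquiv A p.asIdeal ω i).symm.toEquiv.subsingleton
    exact ModuleCat.isZero_of_subsingleton _
  have h01 : (1 : Localization.AtPrime p.asIdeal) = 0 := by
    apply hd.toEnd_bijective.1
    exact hz.eq_of_src _ _
  exact one_ne_zero h01

/-- `A_p` is Cohen–Macaulay iff exactly one cohomology module of the dualizing complex is
supported at `p`. -/
theorem isCM_localization_iff_existsUnique (ω : Dual.D A) (hω : Dual.IsDualizing A ω)
    (p : PrimeSpectrum A) :
    LocCoh.IsCohenMacaulayLocalRing (Localization.AtPrime p.asIdeal) ↔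
      ∃! i : ℤ, p ∈ Module.support A (Dual.HD A ω i) := by
  rw [isCM_localization_iff A ω hω p]
  constructor
  · rintro ⟨j₀, hj₀⟩
    obtain ⟨i, hi⟩ := exists_mem_support_HD A ω hω p
    have hij : i = j₀ := by
      by_contra hne
      exact hj₀ i hne hi
    subst hij
    refine ⟨i, hi, fun j hj => ?_⟩
    by_contra hne
    exact hj₀ j hne hj
  · rintro ⟨i, hi, huniq⟩
    exact ⟨i, fun j hj hmem => hj (huniq j hmem)⟩

end CMpt

end Groth.Agent.Lib.Helper13.DualBC
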