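import Groth.Agent.Lib.Helper13.DualBC37
import Groth.Agent.Lib.Helper16.GorBC2
import Groth.Agent.Lib.Helper16.GorBC1

/-!
# Base change of dualizing complexes along field extensions
-/

set_option autoImplicit false
set_option linter.unusedSectionVars false
set_option linter.style.haveILetI false

open CategoryTheory CategoryTheory.Limits Pretriangulated TensorProduct

universe u

namespace Groth.Agent.Lib.Helper13.DualBC

open DerivedCategory Groth.Agent.Lib.Helper13.Coind Groth.Agent.Lib.Helper13.PC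
  Groth.Agent.Lib.Helper13.DR Groth.Agent.Lib.Helper13.Shriek Groth.Agent.Lib.Helper13.BD
  Groth.Agent.Lib.Helper13.HomBC

attribute [local instance] HasDerivedCategory.standard

section Global'

variable (A B : Type u) [CommRing A] [CommRing B] [Algebra A B] [IsNoetherianRing A]
  [IsNoetherianRing B] [Module.Flat A B]

/-- Flat base change with Gorenstein fibres to a finite-dimensional ring preserves dualizing
complexes. -/
theorem isDualizing_flatBC_of_gorenstein_fibres' (hdim : ringKrullDim B < ⊤)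
    (hG : ∀ p : PrimeSpectrum A, LocCoh.IsGorensteinRing (B ⊗[A] p.asIdeal.ResidueField))
    (K : Dual.D A) (hK : Dual.IsDualizing A K) :
    Dual.IsDualizing B ((flatBC A B).obj K) := by
  obtain ⟨a, hGE⟩ := exists_isGE_of_isDualizing K hK
  have hGEX : ((flatBC A B).obj K).IsGE a := Groth.Agent.Lib.Helper13.HomBC.isGE_flatBC B K a
  exact isDualizing_of_pointwise B hdim _
    (finite_HD_flatBC' A B K hK.finite_cohomology) a
    (fun i hi => ModuleCat.subsingleton_of_isZero (((flatBC A B).obj K).isZero_of_isGE a i hi))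
    (fun q => isDualizing_flatBC_atPrime_of_gorenstein_fibres A B hG K hK q.asIdeal)

end Global'

section Field

variable (k K : Type u) [Field k] [Field K] [Algebra k K] (A : Type u) [CommRing A] [Algebra k A]
  [Algebra.FiniteType k A]

/-- The fibres of `A → K ⊗ A` are Gorenstein. -/
lemma gorenstein_fibre_field_ext (p : PrimeSpectrum A) :
    letI : Algebra A (K ⊗[k] A) := Algebra.TensorProduct.rightAlgebra
    LocCoh.IsGorensteinRing ((K ⊗[k] A) ⊗[A] p.asIdeal.ResidueField) := by
  letI : Algebra A (K ⊗[k] A) := Algebra.TensorProduct.rightAlgebra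
  have hess : Algebra.EssFiniteType k p.asIdeal.ResidueField := .comp _ A _
  have hfg : ∃ s : Finset p.asIdeal.ResidueField,
      IntermediateField.adjoin k (s : Set p.asIdeal.ResidueField) = ⊤ :=
    IntermediateField.fg_top _ _
  have h1 : LocCoh.IsGorensteinRing (p.asIdeal.ResidueField ⊗[k] K) :=
    Groth.Agent.Lib.Helper16.GorBC.bc_of_fg k p.asIdeal.ResidueField hfg K
      (Groth.Agent.Lib.Helper16.GorBC.gorRing_of_isRegularRing _)
  let commA : (K ⊗[k] A) ≃ₐ[A] (A ⊗[k] K) :=
    AlgEquiv.ofRingEquiv (f := (Algebra.TensorProduct.comm k K A).toRingEquiv) (fun a => by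
      change (Algebra.TensorProduct.comm k K A) ((1 : K) ⊗ₜ[k] a) = a ⊗ₜ[k] (1 : K)
      rfl)
  let e1 : (K ⊗[k] A) ⊗[A] p.asIdeal.ResidueField ≃+*
      p.asIdeal.ResidueField ⊗[A] (K ⊗[k] A) :=
    (Algebra.TensorProduct.comm A (K ⊗[k] A) p.asIdeal.ResidueField).toRingEquiv
  let e2 : p.asIdeal.ResidueField ⊗[A] (K ⊗[k] A) ≃+*
      p.asIdeal.ResidueField ⊗[A] (A ⊗[k] K) :=
    (Algebra.TensorProduct.congr (AlgEquiv.refl (R := A) (A₁ := p.asIdeal.ResidueField))
      commA).toRingEquiv
  let e3 : p.asIdeal.ResidueField ⊗[A] (A ⊗[k] K) ≃+* p.asIdeal.ResidueField ⊗[k] K :=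
    (Algebra.TensorProduct.cancelBaseChange k A A p.asIdeal.ResidueField K).toRingEquiv
  exact Groth.Agent.Lib.Helper16.GorBC.gorRing_of_ringEquiv ((e1.trans (e2.trans e3)).symm) h1

/-- Base change of a dualizing complex along a field extension. -/
theorem isDualizing_flatBC_field_ext (ω : Dual.D A) (hω : Dual.IsDualizing A ω) :
    letI : Algebra A (K ⊗[k] A) := Algebra.TensorProduct.rightAlgebra
    ∀ [Module.Flat A (K ⊗[k] A)], Dual.IsDualizing (K ⊗[k] A) ((flatBC A (K ⊗[k] A)).obj ω) := by
  letI : Algebra A (K ⊗[k] A) := Algebra.TensorProduct.rightAlgebra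
  intro hflat
  have hA := hω.isNoetherianRing
  have hft : Algebra.FiniteType K (K ⊗[k] A) := inferInstance
  have hBN : IsNoetherianRing (K ⊗[k] A) := Algebra.FiniteType.isNoetherianRing K _
  have hdim : ringKrullDim (K ⊗[k] A) < ⊤ := by
    apply ringKrullDim_lt_top_of_finiteType K (K ⊗[k] A)
    rw [ringKrullDim_eq_zero_of_field]
    exact compareOfLessAndEq_eq_lt.1 rfl
  exact isDualizing_flatBC_of_gorenstein_fibres' A (K ⊗[k] A) hdim
    (gorenstein_fibre_field_ext k K A) ω hω

/-- `K ⊗ A` is flat over `A` (right structure). -/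
lemma flat_rightAlgebra :
    letI : Algebra A (K ⊗[k] A) := Algebra.TensorProduct.rightAlgebra
    Module.Flat A (K ⊗[k] A) := by
  letI : Algebra A (K ⊗[k] A) := Algebra.TensorProduct.rightAlgebra
  let commA : (K ⊗[k] A) ≃ₐ[A] (A ⊗[k] K) :=
    AlgEquiv.ofRingEquiv (f := (Algebra.TensorProduct.comm k K A).toRingEquiv) (fun a => by
      change (Algebra.TensorProduct.comm k K A) ((1 : K) ⊗ₜ[k] a) = a ⊗ₜ[k] (1 : K)
      rfl)
  exact Module.Flat.of_linearEquiv commA.toLinearEquiv

end Field

end Groth.Agent.Lib.Helper13.DualBC
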