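import Groth.Agent.Lib.Helper13.DualBC3

/-!
# Descent of dualizing complexes along jointly faithful families of flat ring maps
-/

set_option autoImplicit false
set_option linter.unusedSectionVars false

open CategoryTheory CategoryTheory.Limits CategoryTheory.Functor TensorProduct Pretriangulated

universe u w

namespace Groth.Agent.Lib.Helper13.DualBC

open DerivedCategory Groth.Agent.Lib.Helper13.DR Groth.Agent.Lib.Helper13.Coind
  Groth.Agent.Lib.Helper13.Shriek Groth.Agent.Lib.Helper13.HomBC Groth.Agent.Lib.Helper13.PC

attribute [local instance] HasDerivedCategory.standard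

section JF

variable (A : Type u) [CommRing A] {ι : Type*} (B : ι → Type u) [∀ i, CommRing (B i)]
  [∀ i, Algebra A (B i)]

/-- A jointly faithful family of algebras (on modules in universe `w`). -/
def JF : Prop :=
  ∀ (M : Type w) [AddCommGroup M] [Module A M], (∀ i, Subsingleton (B i ⊗[A] M)) → Subsingleton M

variable {A B}
variable [∀ i, Module.Flat A (B i)]

lemma injective_of_lTensor_injective {M N : Type w} [AddCommGroup M] [AddCommGroup N]
    [Module A M] [Module A N] (hJF : JF.{u, w} A B) (f : M →ₗ[A] N)
    (h : ∀ i, Function.Injective (LinearMap.lTensor (B i) f)) : Function.Injective f := by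
  rw [← LinearMap.ker_eq_bot]
  have : Subsingleton (LinearMap.ker f) := by
    refine hJF _ (fun i => ?_)
    have hinj : Function.Injective (LinearMap.lTensor (B i) (LinearMap.ker f).subtype) :=
      Module.Flat.lTensor_preserves_injective_linearMap _ (Submodule.injective_subtype _)
    have hz : ∀ z, LinearMap.lTensor (B i) (LinearMap.ker f).subtype z = 0 := by
      intro z
      apply h i
      rw [map_zero, ← LinearMap.comp_apply, ← LinearMap.lTensor_comp]
      have : f ∘ₗ (LinearMap.ker f).subtype = 0 := by
        ext x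
        exact x.2
      rw [this, LinearMap.lTensor_zero, LinearMap.zero_apply]
    exact ⟨fun x y => hinj ((hz x).trans (hz y).symm)⟩
  exact Submodule.eq_bot_of_subsingleton

lemma surjective_of_lTensor_surjective {M N : Type w} [AddCommGroup M] [AddCommGroup N]
    [Module A M] [Module A N] (hJF : JF.{u, w} A B) (f : M →ₗ[A] N)
    (h : ∀ i, Function.Surjective (LinearMap.lTensor (B i) f)) : Function.Surjective f := by
  rw [← LinearMap.range_eq_top]
  have : Subsingleton (N ⧸ LinearMap.range f) := by
    refine hJF _ (fun i => ?_)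
    have hq : Function.Surjective (LinearMap.lTensor (B i) (LinearMap.range f).mkQ) :=
      LinearMap.lTensor_surjective _ (Submodule.mkQ_surjective _)
    have hz : ∀ z, LinearMap.lTensor (B i) (LinearMap.range f).mkQ z = 0 := by
      intro z
      obtain ⟨y, rfl⟩ := h i z
      rw [← LinearMap.comp_apply, ← LinearMap.lTensor_comp]
      have : (LinearMap.range f).mkQ ∘ₗ f = 0 := by
        ext x
        simp
      rw [this, LinearMap.lTensor_zero, LinearMap.zero_apply]
    refine ⟨fun x y => ?_⟩
    obtain ⟨x', rfl⟩ := hq x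
    obtain ⟨y', rfl⟩ := hq y
    rw [hz, hz]
  exact Submodule.Quotient.subsingleton_iff.1 this

end JF

section Family

variable {A : Type u} [CommRing A] {ι : Type*} (B : ι → Type u) [∀ i, CommRing (B i)]
  [∀ i, Algebra A (B i)] [∀ i, Module.Flat A (B i)]

/-- Vanishing of `Hom(X, Y[j])` descends along a jointly faithful flat family. -/
lemma subsingleton_hom_of_family (hJF : JF.{u, u + 1} A B) (X : Dual.D A)
    (hX : DRing.IsPseudoCoherent' A X) (Y : Dual.D A) (c : ℤ) [Y.IsGE c] (j : ℤ)
    (h : ∀ i, Subsingleton ((flatBC A (B i)).obj X ⟶ ((flatBC A (B i)).obj Y)⟦j⟧)) :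
    Subsingleton (X ⟶ Y⟦j⟧) := by
  refine hJF _ (fun i => ?_)
  have h1 : Subsingleton ((flatBC A (B i)).obj X ⟶ (flatBC A (B i)).obj (Y⟦j⟧)) :=
    (Iso.homCongr (Iso.refl _) (flatBCShiftIso (B i) Y j)).subsingleton
  exact (bijective_bcHom_shift (B i) X hX Y c j).1.subsingleton

/-- Bijectivity of `A → End(K)` descends along a jointly faithful flat family. -/
lemma bijective_toEnd_of_family (hJF1 : JF.{u, u + 1} A B) (K : Dual.D A)
    (hK : DRing.IsPseudoCoherent' A K) (c : ℤ) [K.IsGE c]
    (h : ∀ i, Function.Bijective (fun b : B i => b • 𝟙 ((flatBC A (B i)).obj K))) :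
    Function.Bijective (fun a : A => a • 𝟙 K) := by
  have key : ∀ i, Function.Bijective (LinearMap.lTensor (B i) (toEndLin K)) := by
    intro i
    have h1 : (fun b : B i => b • 𝟙 ((flatBC A (B i)).obj K)) =
        (bcHom (B i) K K) ∘ (LinearMap.lTensor (B i) (toEndLin K)) ∘
          (TensorProduct.rid A (B i)).symm := funext (toEnd_flatBC_eq (B i) K)
    have h' := h i
    rw [h1] at h'
    have h2 : Function.Bijective ((LinearMap.lTensor (B i) (toEndLin K)) ∘
        (TensorProduct.rid A (B i)).symm) :=
      (Function.Bijective.of_comp_iff' (bijective_bcHom (B i) K hK K c) _).1 h'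
    exact (Function.Bijective.of_comp_iff _ (TensorProduct.rid A (B i)).symm.bijective).1 h2
  have hinj : Function.Injective (toEndLin K) := by
    -- the source `A` lives in universe `u`, the target in `u + 1`: lift the source
    let f' : ULift.{u + 1} A →ₗ[A] (K ⟶ K) := (toEndLin K) ∘ₗ ULift.moduleEquiv.toLinearMap
    have hf' : ∀ i, Function.Injective (LinearMap.lTensor (B i) f') := by
      intro i
      have : LinearMap.lTensor (B i) f' = (LinearMap.lTensor (B i) (toEndLin K)) ∘ₗ
          (LinearMap.lTensor (B i) ULift.moduleEquiv.toLinearMap) := LinearMap.lTensor_comp _ _ _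
      rw [this]
      exact (key i).1.comp (LinearEquiv.lTensor (B i) ULift.moduleEquiv).injective
    have := injective_of_lTensor_injective hJF1 f' hf'
    intro x y hxy
    have := @this (ULift.up x) (ULift.up y) hxy
    exact congrArg ULift.down this
  have hsurj : Function.Surjective (toEndLin K) := by
    let f' : ULift.{u + 1} A →ₗ[A] (K ⟶ K) := (toEndLin K) ∘ₗ ULift.moduleEquiv.toLinearMap
    have hf' : ∀ i, Function.Surjective (LinearMap.lTensor (B i) f') := by
      intro i
      have : LinearMap.lTensor (B i) f' = (LinearMap.lTensor (B i) (toEndLin K)) ∘ₗ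
          (LinearMap.lTensor (B i) ULift.moduleEquiv.toLinearMap) := LinearMap.lTensor_comp _ _ _
      rw [this]
      exact (key i).2.comp (LinearEquiv.lTensor (B i) ULift.moduleEquiv).surjective
    have := surjective_of_lTensor_surjective hJF1 f' hf'
    intro y
    obtain ⟨x, hx⟩ := this y
    exact ⟨x.down, hx⟩
  exact ⟨hinj, hsurj⟩

/-- Vanishing of cohomology descends along a jointly faithful flat family. -/
lemma subsingleton_HD_of_family (hJF0 : JF.{u, u} A B) (K : Dual.D A) (j : ℤ)
    (h : ∀ i, IsZero ((DerivedCategory.homologyFunctor (ModuleCat.{u} (B i)) j).obj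
      ((flatBC A (B i)).obj K))) : Subsingleton (Dual.HD A K j) := by
  refine hJF0 _ (fun i => ?_)
  have hz := (h i).of_iso (flatBCHomologyIso A (B i) K j).symm
  have h1 := ModuleCat.subsingleton_of_isZero hz
  exact (extendScalarsEquiv (B i) _).symm.toEquiv.subsingleton

/-- Descent of the dualizing property along a jointly faithful flat family, given uniform bounds
and finiteness of cohomology. -/
theorem isDualizing_of_family [IsNoetherianRing A] (hJF0 : JF.{u, u} A B)
    (hJF1 : JF.{u, u + 1} A B) (K : Dual.D A) (a b : ℤ)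
    (hfin : ∀ j : ℤ, Module.Finite A (Dual.HD A K j))
    (h : ∀ i, Dual.IsDualizing (B i) ((flatBC A (B i)).obj K))
    (hbound : ∀ (i : ι) (M : Type u) [AddCommGroup M] [Module (B i) M] (j : ℤ), (j < a ∨ b < j) →
      Subsingleton (Dual.inD (B i) M ⟶ ((flatBC A (B i)).obj K)⟦j⟧)) :
    Dual.IsDualizing A K := by
  have hvan : ∀ j : ℤ, (j < a ∨ b < j) → Subsingleton (Dual.HD A K j) := fun j hj =>
    subsingleton_HD_of_family B hJF0 K j (fun i =>
      isZero_HD_of_subsingleton_ext _ j (hbound i (B i) j hj))
  have hpc : DRing.IsPseudoCoherent' A K :=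
    isPseudoCoherent'_of_bdd_finite K b (fun j hj => hvan j (Or.inr hj)) hfin
  have hGE : K.IsGE a := isGE_of_subsingleton_HD K a (fun j hj => hvan j (Or.inl hj))
  have hinj : DRing.HasInjAmplitudeIn A a b K := by
    refine hasInjAmplitudeIn_of_quotients K a b (fun I j hj => ?_)
    have hpcI : DRing.IsPseudoCoherent' A (Dual.inD A (A ⧸ I)) :=
      (isPseudoCoherentModule'_iff_of_isNoetherianRing (A ⧸ I)).2 inferInstance
    refine subsingleton_hom_of_family B hJF1 (Dual.inD A (A ⧸ I)) hpcI K a j (fun i => ?_)
    have := hbound i (B i ⊗[A] (A ⧸ I)) j hj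
    exact (Iso.homCongr (flatBCSingleIso A (B i) (A ⧸ I)) (Iso.refl _)).subsingleton
  refine ⟨inferInstance, ⟨a, b, fun M _ _ j hj => ?_⟩, hfin, ?_, fun j hj => ?_⟩
  · exact ext_subsingleton_of_hasInjAmplitudeIn K a b hinj M j hj
  · exact bijective_toEnd_of_family B hJF1 K hpc a (fun i => (h i).toEnd_bijective)
  · exact subsingleton_hom_of_family B hJF1 K hpc K a j
      (fun i => (h i).ext_self_subsingleton j hj)

end Family

section Instances

variable (A : Type u) [CommRing A]

/-- Localizations at a family of elements spanning the unit ideal are jointly faithful. -/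
lemma jf_away {n : ℕ} (f : Fin n → A) (hf : Ideal.span (Set.range f) = ⊤) :
    JF.{u, w} A (fun i : Fin n => Localization.Away (f i)) := by
  intro M _ _ h
  rw [subsingleton_iff_forall_eq 0]
  intro x
  refine Module.eq_zero_of_isLocalized_span (Set.range f) hf
    (fun r : Set.range f => Localization.Away (r : A) ⊗[A] M)
    (fun r => TensorProduct.mk A (Localization.Away (r : A)) M 1) x (fun r => ?_)
  obtain ⟨r, ⟨i, rfl⟩⟩ := r
  have := h i
  exact Subsingleton.elim _ _

/-- Localizations at all maximal ideals are jointly faithful. -/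
lemma jf_maximal :
    JF.{u, w} A (fun m : {m : Ideal A // m.IsMaximal} =>
      letI := m.2
      Localization.AtPrime m.1) := by
  intro M _ _ h
  refine Module.subsingleton_of_localization_maximal
    (fun P _ => Localization.AtPrime P ⊗[A] M)
    (fun P _ => TensorProduct.mk A (Localization.AtPrime P) M 1) (fun P hP => ?_)
  exact h ⟨P, hP⟩

end Instances

end Groth.Agent.Lib.Helper13.DualBC
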