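import Groth.Agent.Lib.Helper13.RelPerfTri

set_option autoImplicit false
universe u
open CategoryTheory CategoryTheory.Limits MonoidalCategory Pretriangulated

namespace Groth.Agent.Lib.Helper13.DV

open Groth.Agent.Lib.Helper13.DR Groth.Agent.Lib.Helper13.PC Groth.Agent.Lib.Helper13.TB PCoh DTen

attribute [local instance] HasDerivedCategory.standard

section

variable (R A : Type u) [CommRing R] [CommRing A] [Algebra R A]

/-- Restriction of scalars along a flat ring map preserves flatness. -/
lemma flat_restrictScalars [Module.Flat R A] (M : ModuleCat.{u} A) [Module.Flat A M] :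
    Module.Flat R ((ModuleCat.restrictScalars.{u} (algebraMap R A)).obj M) := by
  let _ : Module R M := Module.compHom M (algebraMap R A)
  have : IsScalarTower R A M := ⟨fun r a m => by
    show (r • a) • m = algebraMap R A r • (a • m)
    rw [Algebra.smul_def, mul_smul]⟩
  exact Module.Flat.trans R A M

theorem isRelPerfect_of_isPerfect [Module.Flat R A] (K : Dual.D A) (hK : DRing.IsPerfect A K) :
    Dual2.IsRelPerfect R A K := by
  have hpc := ((Groth.Agent.S6954.result A K).1 hK).1
  obtain ⟨E, a, b, hv, hp, ⟨e⟩⟩ := hK
  refine ⟨hpc, a, b, (resCx (algebraMap R A)).obj E, ?_, ?_,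
    ⟨(restrictDQIso (algebraMap R A) E).symm ≪≫ (DRing.restrictD (algebraMap R A)).mapIso e⟩⟩
  · intro i hi
    exact (ModuleCat.restrictScalars.{u} (algebraMap R A)).map_isZero (hv i hi)
  · intro i
    have := (hp i).2
    exact flat_restrictScalars R A (E.X i)

end

end Groth.Agent.Lib.Helper13.DV
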