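import Groth.Agent.Lib.Helper13.PolySES2
import Groth.Agent.Lib.Helper13.DRingTor4
import Groth.Agent.Lib.Helper13.RelPerf2
import Groth.Agent.Lib.Helper13.DRingRelPC
import Mathlib.Algebra.Homology.DerivedCategory.SingleTriangle

set_option autoImplicit false
universe u
open CategoryTheory CategoryTheory.Limits TensorProduct Polynomial ChangeOfRings

namespace Groth.Agent.Lib.Helper13.PS

open Groth.Agent.Lib.Helper13.DR Groth.Agent.Lib.Helper13.PC DerivedCategory

attribute [local instance] HasDerivedCategory.standard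

section OneVar

variable (R : Type u) [CommRing R] (M : ModuleCat.{u} R[X])

/-- Flat base change of tor amplitude for modules. -/
lemma hasTorAmplitudeIn_extendScalars_single (A B : Type u) [CommRing A] [CommRing B] [Algebra A B]
    [Module.Flat A B] (N : ModuleCat.{u} A) (a b : ℤ)
    (h : DRing.HasTorAmplitudeIn A a b ((DerivedCategory.singleFunctor (ModuleCat.{u} A) 0).obj N)) :
    DRing.HasTorAmplitudeIn B a b ((DerivedCategory.singleFunctor (ModuleCat.{u} B) 0).obj
      ((ModuleCat.extendScalars.{u, u, u} (algebraMap A B)).obj N)) := by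
  obtain ⟨E, hv, hfl, ⟨e⟩⟩ := h
  refine ⟨(extendCx A B).obj E, fun i hi => Functor.map_isZero
    (ModuleCat.extendScalars.{u, u, u} (algebraMap A B)) (hv i hi),
    fun i => Pfl_extendScalars B (hfl i), ⟨(flatBCQIso A B E).symm ≪≫ (flatBC A B).mapIso e ≪≫
      ((ModuleCat.extendScalars.{u, u, u} (algebraMap A B)).mapDerivedCategorySingleFunctor 0).app N⟩⟩

/-- One variable: tor amplitude over `R[X]` from tor amplitude over `R`. -/
theorem hasTorAmplitudeIn_poly_of_restrict (a b : ℤ)
    (h : DRing.HasTorAmplitudeIn R a b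
      ((DerivedCategory.singleFunctor (ModuleCat.{u} R) 0).obj (resN R M))) :
    DRing.HasTorAmplitudeIn R[X] (a - 1) b
      ((DerivedCategory.singleFunctor (ModuleCat.{u} R[X]) 0).obj M) := by
  have h' := hasTorAmplitudeIn_extendScalars_single R R[X] (resN R M) a b h
  have hS := sesP_shortExact R M
  exact hasTorAmplitudeIn_obj₃ hS.singleTriangle hS.singleTriangle_distinguished h' h' (a - 1) b
    le_rfl (by lia) (by lia) le_rfl

end OneVar

section Transport

variable {P P' : Type u} [CommRing P] [CommRing P']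

/-- Transport of tor amplitude of a module along a ring isomorphism. -/
lemma hasTorAmplitudeIn_single_of_ringEquiv (ε : P ≃+* P') (M : ModuleCat.{u} P') (a b : ℤ)
    (h : DRing.HasTorAmplitudeIn P a b ((DerivedCategory.singleFunctor (ModuleCat.{u} P) 0).obj
      ((ModuleCat.restrictScalars.{u} (ε : P →+* P')).obj M))) :
    DRing.HasTorAmplitudeIn P' a b ((DerivedCategory.singleFunctor (ModuleCat.{u} P') 0).obj M) := by
  obtain ⟨E, hv, hfl, ⟨e⟩⟩ := h
  let _ : Algebra P' P := (ε.symm : P' →+* P).toAlgebra
  have hflat : Module.Flat P' P := by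
    let l : P ≃ₗ[P'] P' :=
      { toFun := ε
        invFun := ε.symm
        map_add' := map_add ε
        map_smul' := fun r x => by
          change ε (ε.symm r * x) = r * ε x
          rw [map_mul, RingEquiv.apply_symm_apply]
        left_inv := ε.symm_apply_apply
        right_inv := ε.apply_symm_apply }
    exact Module.Flat.of_linearEquiv l
  refine ⟨(DRing.restrictCx (ε.symm : P' →+* P)).obj E, fun i hi => Functor.map_isZero
    (ModuleCat.restrictScalars.{u} (ε.symm : P' →+* P)) (hv i hi), fun i => ?_, ⟨?_⟩⟩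
  · have := hfl i
    exact Groth.Agent.Lib.Helper13.DV.flat_restrictScalars P' P (E.X i)
  · have hcomp : (ε : P →+* P').comp (ε.symm : P' →+* P) = RingHom.id P' := by
      ext x
      simp
    exact (restrictDQIso (ε.symm : P' →+* P) E).symm ≪≫
      (DRing.restrictD (ε.symm : P' →+* P)).mapIso e ≪≫
      restrictDSingleIso (ε.symm : P' →+* P) _ ≪≫
      (DerivedCategory.singleFunctor (ModuleCat.{u} P') 0).mapIso
        ((ModuleCat.restrictScalarsComp'App (ε.symm : P' →+* P) (ε : P →+* P') (RingHom.id P') hcomp.symm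
          M).symm ≪≫ ModuleCat.restrictScalarsId'App (RingHom.id P') rfl M)

end Transport

section Induction

/-- Tor amplitude over `A[x_1, …, x_n]` from tor amplitude over `A`. -/
theorem hasTorAmplitudeIn_mvPoly_of_restrict : ∀ (n : ℕ) (A : Type u) [CommRing A]
    (M : ModuleCat.{u} (MvPolynomial (Fin n) A)) (a b : ℤ),
    DRing.HasTorAmplitudeIn A a b ((DerivedCategory.singleFunctor (ModuleCat.{u} A) 0).obj
      ((ModuleCat.restrictScalars.{u} (algebraMap A (MvPolynomial (Fin n) A))).obj M)) →
    DRing.HasTorAmplitudeIn (MvPolynomial (Fin n) A) (a - n) b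
      ((DerivedCategory.singleFunctor (ModuleCat.{u} (MvPolynomial (Fin n) A)) 0).obj M)
  | 0, A, _, M, a, b, h => by
    let ε : A ≃+* MvPolynomial (Fin 0) A := (MvPolynomial.isEmptyRingEquiv A (Fin 0)).symm
    have hε : (ε : A →+* MvPolynomial (Fin 0) A) = algebraMap A (MvPolynomial (Fin 0) A) :=
      RingHom.ext (fun r => MvPolynomial.isEmptyRingEquiv_symm_apply (R := A) (σ := Fin 0) r)
    rw [← hε] at h
    rw [Nat.cast_zero, sub_zero]
    exact hasTorAmplitudeIn_single_of_ringEquiv ε M a b h
  | n + 1, A, _, M, a, b, h => by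
    let e := MvPolynomial.finSuccEquiv A n
    let ε : Polynomial (MvPolynomial (Fin n) A) ≃+* MvPolynomial (Fin (n + 1)) A :=
      e.symm.toRingEquiv
    let M' : ModuleCat.{u} (Polynomial (MvPolynomial (Fin n) A)) :=
      (ModuleCat.restrictScalars.{u} (ε : _ →+* MvPolynomial (Fin (n + 1)) A)).obj M
    have hcomp : algebraMap A (MvPolynomial (Fin (n + 1)) A) =
        (ε : Polynomial (MvPolynomial (Fin n) A) →+* MvPolynomial (Fin (n + 1)) A).comp
          ((algebraMap (MvPolynomial (Fin n) A) (Polynomial (MvPolynomial (Fin n) A))).comp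
            (algebraMap A (MvPolynomial (Fin n) A))) := by
      refine RingHom.ext (fun r => ?_)
      change _ = e.symm (algebraMap _ _ (algebraMap A (MvPolynomial (Fin n) A) r))
      rw [← IsScalarTower.algebraMap_apply A (MvPolynomial (Fin n) A)
        (Polynomial (MvPolynomial (Fin n) A)), AlgEquiv.commutes]
    have iso : (ModuleCat.restrictScalars.{u} (algebraMap A (MvPolynomial (Fin (n + 1)) A))).obj M ≅
        (ModuleCat.restrictScalars.{u} (algebraMap A (MvPolynomial (Fin n) A))).obj
          (resN (MvPolynomial (Fin n) A) M') :=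
      ModuleCat.restrictScalarsComp'App _ _ _ hcomp M ≪≫
        ModuleCat.restrictScalarsComp'App _ _ _ rfl M'
    have h1 := hasTorAmplitudeIn_mvPoly_of_restrict n A (resN (MvPolynomial (Fin n) A) M') a b
      (Groth.Agent.Lib.Helper13.DR.hasTorAmplitudeIn_of_iso
        ((DerivedCategory.singleFunctor (ModuleCat.{u} A) 0).mapIso iso) h)
    have h2 := hasTorAmplitudeIn_poly_of_restrict (MvPolynomial (Fin n) A) M' (a - n) b h1
    have h3 := hasTorAmplitudeIn_single_of_ringEquiv ε M (a - n - 1) b h2
    rw [show a - ((n + 1 : ℕ) : ℤ) = a - n - 1 by push_cast; ring]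
    exact h3

end Induction

end Groth.Agent.Lib.Helper13.PS
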