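import Groth.Agent.Lib.Helper13.DualBC4
import Groth.Agent.Lib.Helper13.PolySES3

/-!
# Dualizing complexes and polynomial rings
-/

set_option autoImplicit false
set_option linter.unusedSectionVars false

open CategoryTheory CategoryTheory.Limits CategoryTheory.Functor TensorProduct Pretriangulated
  Polynomial

universe u

namespace Groth.Agent.Lib.Helper13.DualBC

open DerivedCategory Groth.Agent.Lib.Helper13.DR Groth.Agent.Lib.Helper13.Coind
  Groth.Agent.Lib.Helper13.Shriek Groth.Agent.Lib.Helper13.HomBC Groth.Agent.Lib.Helper13.PC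
  Groth.Agent.Lib.Helper13.PS

attribute [local instance] HasDerivedCategory.standard

section Ascent

variable (A B : Type u) [CommRing A] [CommRing B] [Algebra A B] [IsNoetherianRing A]
  [IsNoetherianRing B] [Module.Flat A B]

/-- Flat base change of a dualizing complex is dualizing, provided it has finite injective
dimension. -/
theorem isDualizing_flatBC_of_bound (ω : Dual.D A) (hω : Dual.IsDualizing A ω) (a' b' : ℤ)
    (hinj : ∀ (N : Type u) [AddCommGroup N] [Module B N] (i : ℤ), (i < a' ∨ b' < i) →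
      Subsingleton (Dual.inD B N ⟶ ((flatBC A B).obj ω)⟦i⟧)) :
    Dual.IsDualizing B ((flatBC A B).obj ω) := by
  obtain ⟨hA, ⟨a, b, h2⟩, h3, h4, h5⟩ := hω
  have hvan : ∀ i : ℤ, (i < a ∨ b < i) → Subsingleton (Dual.HD A ω i) := fun i hi =>
    ModuleCat.subsingleton_of_isZero (isZero_HD_of_subsingleton_ext ω i (h2 A i hi))
  have hpc : DRing.IsPseudoCoherent' A ω :=
    isPseudoCoherent'_of_bdd_finite ω b (fun i hi => hvan i (Or.inr hi)) h3
  have hGE : ω.IsGE a := isGE_of_subsingleton_HD ω a (fun i hi => hvan i (Or.inl hi))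
  refine ⟨inferInstance, ⟨a', b', hinj⟩, fun i => ?_, ?_, fun i hi => ?_⟩
  · have h1 : Module.Finite B ((ModuleCat.extendScalars.{u, u, u} (algebraMap A B)).obj
        ((DerivedCategory.homologyFunctor (ModuleCat.{u} A) i).obj ω)) := by
      have := h3 i
      exact Module.Finite.equiv (extendScalarsEquiv B _).symm
    exact Module.Finite.equiv (flatBCHomologyIso A B ω i).symm.toLinearEquiv
  · exact bijective_toEnd_flatBC B ω hpc a h4
  · exact subsingleton_hom_flatBC B ω hpc ω a i (h5 i hi)

/-- The adjunction `flatBC ⊣ restrictD`. -/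
noncomputable def flatBCAdj : flatBC A B ⊣ DRing.restrictD (algebraMap A B) :=
  Frob.derivedAdj _ _ (ModuleCat.extendRestrictScalarsAdj.{u, u, u} (algebraMap A B))

/-- The restriction to `A` of the flat base change of a complex of finite injective amplitude has
the same injective amplitude (Noetherian case). -/
lemma subsingleton_hom_flatBC_of_module (ω : Dual.D A) (a b : ℤ) [ω.IsGE a]
    (h2 : ∀ (M : Type u) [AddCommGroup M] [Module A M] (i : ℤ), (i < a ∨ b < i) →
      Subsingleton (Dual.inD A M ⟶ ω⟦i⟧))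
    (M : Type u) [AddCommGroup M] [Module A M] (i : ℤ) (hi : i < a ∨ b < i) :
    Subsingleton ((flatBC A B).obj (Dual.inD A M) ⟶ ((flatBC A B).obj ω)⟦i⟧) := by
  have hinj : DRing.HasInjAmplitudeIn A a b
      ((DRing.restrictD (algebraMap A B)).obj ((flatBC A B).obj ω)) := by
    refine hasInjAmplitudeIn_of_quotients _ a b (fun I j hj => ?_)
    have hpcI : DRing.IsPseudoCoherent' A (Dual.inD A (A ⧸ I)) :=
      (isPseudoCoherentModule'_iff_of_isNoetherianRing (A ⧸ I)).2 inferInstance
    have h1 := subsingleton_hom_flatBC B (Dual.inD A (A ⧸ I)) hpcI ω a j (h2 (A ⧸ I) j hj)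
    have e1 := ((flatBCAdj A B).homEquiv (Dual.inD A (A ⧸ I)) (((flatBC A B).obj ω)⟦j⟧))
    have e2 := (Iso.homCongr (Iso.refl (Dual.inD A (A ⧸ I)))
      ((DRing.restrictD (algebraMap A B)).commShiftIso j |>.app ((flatBC A B).obj ω)))
    exact (e1.trans e2).symm.subsingleton
  have h3 := ext_subsingleton_of_hasInjAmplitudeIn _ a b hinj M i hi
  have e1 := ((flatBCAdj A B).homEquiv (Dual.inD A M) (((flatBC A B).obj ω)⟦i⟧))
  have e2 := (Iso.homCongr (Iso.refl (Dual.inD A M))
    ((DRing.restrictD (algebraMap A B)).commShiftIso i |>.app ((flatBC A B).obj ω)))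
  exact @Equiv.subsingleton _ _ (e1.trans e2) h3

end Ascent

section Poly

variable (A : Type u) [CommRing A] [IsNoetherianRing A]

/-- Injective dimension bound for the base change to the polynomial ring. -/
lemma subsingleton_hom_flatBC_poly (ω : Dual.D A) (a b : ℤ) [ω.IsGE a]
    (h2 : ∀ (M : Type u) [AddCommGroup M] [Module A M] (i : ℤ), (i < a ∨ b < i) →
      Subsingleton (Dual.inD A M ⟶ ω⟦i⟧))
    (N : ModuleCat.{u} A[X]) (i : ℤ) (hi : i < a ∨ b + 1 < i) :
    Subsingleton ((DerivedCategory.singleFunctor (ModuleCat.{u} A[X]) 0).obj N ⟶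
      ((flatBC A A[X]).obj ω)⟦i⟧) := by
  have hS := sesP_shortExact A N
  -- vanishing for the two outer terms
  have key : ∀ j : ℤ, (j < a ∨ b < j) →
      Subsingleton ((DerivedCategory.singleFunctor (ModuleCat.{u} A[X]) 0).obj
        ((ModuleCat.extendScalars.{u, u, u} (algebraMap A A[X])).obj (resN A N)) ⟶
          ((flatBC A A[X]).obj ω)⟦j⟧) := by
    intro j hj
    have := subsingleton_hom_flatBC_of_module A A[X] ω a b h2 (resN A N) j hj
    exact @Equiv.subsingleton _ _ (Iso.homCongr
      (((ModuleCat.extendScalars.{u, u, u} (algebraMap A A[X])).mapDerivedCategorySingleFunctor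
        0).app (resN A N)) (Iso.refl _)).symm this
  have hi1 : i - 1 < a ∨ b < i - 1 := by
    rcases hi with hi | hi
    · exact Or.inl (by lia)
    · exact Or.inr (by lia)
  have hi2 : i < a ∨ b < i := by
    rcases hi with hi | hi
    · exact Or.inl hi
    · exact Or.inr (by lia)
  have k1 := key (i - 1) hi1
  have k2 := key i hi2
  refine ⟨fun f g => ?_⟩
  suffices H : ∀ f : (DerivedCategory.singleFunctor (ModuleCat.{u} A[X]) 0).obj N ⟶
      ((flatBC A A[X]).obj ω)⟦i⟧, f = 0 by rw [H f, H g]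
  intro f
  obtain ⟨g, hg⟩ := Triangle.yoneda_exact₃ _ hS.singleTriangle_distinguished f
    (@Subsingleton.elim _ k2 _ _)
  let e : (((flatBC A A[X]).obj ω)⟦i - 1⟧)⟦(1 : ℤ)⟧ ≅ ((flatBC A A[X]).obj ω)⟦i⟧ :=
    ((shiftFunctorAdd' (Dual.D A[X]) (i - 1) 1 i (by lia)).app _).symm
  have hg0 : g ≫ e.inv = 0 := by
    have h0 : (shiftFunctor (Dual.D A[X]) (1 : ℤ)).preimage (g ≫ e.inv) = 0 :=
      @Subsingleton.elim _ k1 _ _
    rw [← (shiftFunctor (Dual.D A[X]) (1 : ℤ)).map_preimage (g ≫ e.inv), h0, Functor.map_zero]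
  have hg1 : g = 0 := by
    rw [← cancel_mono e.inv, hg0, Limits.zero_comp]
  rw [hg, hg1]
  exact Limits.comp_zero

/-- **Base change of a dualizing complex to the polynomial ring is dualizing.** -/
theorem isDualizing_flatBC_poly (ω : Dual.D A) (hω : Dual.IsDualizing A ω) :
    Dual.IsDualizing A[X] ((flatBC A A[X]).obj ω) := by
  obtain ⟨a, b, h2⟩ := hω.finite_injective_dimension
  have hvan : ∀ i : ℤ, i < a → Subsingleton (Dual.HD A ω i) := fun i hi =>
    ModuleCat.subsingleton_of_isZero (isZero_HD_of_subsingleton_ext ω i (h2 A i (Or.inl hi)))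
  haveI hGE : ω.IsGE a := isGE_of_subsingleton_HD ω a hvan
  exact isDualizing_flatBC_of_bound A A[X] ω hω a (b + 1) (fun N _ _ i hi =>
    subsingleton_hom_flatBC_poly A ω a b h2 (ModuleCat.of A[X] N) i hi)

end Poly

end Groth.Agent.Lib.Helper13.DualBC
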