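import Groth.Agent.Lib.Helper13.BD5

/-!
# Shifts, polynomial rings in several variables, and upper shriek of dualizing complexes
-/

set_option autoImplicit false
set_option linter.unusedSectionVars false

open CategoryTheory CategoryTheory.Limits Pretriangulated

universe u

namespace Groth.Agent.Lib.Helper13.DualBC

open DerivedCategory Groth.Agent.Lib.Helper13.Coind Groth.Agent.Lib.Helper13.PC
  Groth.Agent.Lib.Helper13.DR Groth.Agent.Lib.Helper13.Shriek

attribute [local instance] HasDerivedCategory.standard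

section Shift

variable {A : Type u} [CommRing A]

/-- A shift of a dualizing complex is dualizing. -/
theorem isDualizing_shift (K : Dual.D A) (h : Dual.IsDualizing A K) (n : ℤ) :
    Dual.IsDualizing A (K⟦n⟧) := by
  obtain ⟨h1, ⟨a, b, h2⟩, h3, h4, h5⟩ := h
  refine ⟨h1, ⟨a - n, b - n, fun M _ _ i hi => ?_⟩, fun i => ?_, ?_, fun i hi => ?_⟩
  · have := h2 M (n + i) (by rcases hi with hi | hi; exacts [Or.inl (by lia), Or.inr (by lia)])
    exact (Iso.homCongr (Iso.refl (Dual.inD A M))
      ((shiftFunctorAdd' (Dual.D A) n i (n + i) rfl).app K).symm).subsingleton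
  · have : Module.Finite A (((DerivedCategory.homologyFunctor (ModuleCat.{u} A) 0).shift
        (n + i)).obj K) := h3 (n + i)
    exact Module.Finite.equiv
      (((DerivedCategory.homologyFunctor (ModuleCat.{u} A) 0).shiftIso n i (n + i) rfl).app
        K).symm.toLinearEquiv
  · have : (fun a : A => a • 𝟙 (K⟦n⟧)) =
        ((shiftFunctor (Dual.D A) n).map : (K ⟶ K) → (K⟦n⟧ ⟶ K⟦n⟧)) ∘ (fun a : A => a • 𝟙 K) := by
      funext a
      change _ = (shiftFunctor (Dual.D A) n).map (a • 𝟙 K)
      rw [Functor.map_smul, CategoryTheory.Functor.map_id]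
    rw [this]
    exact (Functor.FullyFaithful.ofFullyFaithful
      (shiftFunctor (Dual.D A) n)).homEquiv.bijective.comp h4
  · have := h5 i hi
    -- `Hom(K[n], K[n][i]) ≅ Hom(K[n], K[i][n]) ≅ Hom(K, K[i])`
    let e1 : (K⟦n⟧ ⟶ (K⟦n⟧)⟦i⟧) ≃ (K⟦n⟧ ⟶ (K⟦i⟧)⟦n⟧) :=
      Iso.homCongr (Iso.refl _) ((shiftFunctorComm (Dual.D A) n i).app K)
    let e2 : (K ⟶ K⟦i⟧) ≃ (K⟦n⟧ ⟶ (K⟦i⟧)⟦n⟧) :=
      (Functor.FullyFaithful.ofFullyFaithful (shiftFunctor (Dual.D A) n)).homEquiv
    exact (e1.trans e2.symm).subsingleton

end Shift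

section MvPoly

/-- Base change along a bijective ring map preserves dualizing complexes. -/
theorem isDualizing_LBaseChange_of_bijective (A B : Type u) [CommRing A] [CommRing B]
    [IsNoetherianRing A] (φ : A →+* B) (hφ : Function.Bijective φ) (ω : Dual.D A)
    (hω : Dual.IsDualizing A ω) : Dual.IsDualizing B ((DRing.LBaseChange φ).obj ω) := by
  letI := φ.toAlgebra
  haveI : IsNoetherianRing B := isNoetherianRing_of_surjective A B φ hφ.2
  haveI : Module.Flat A B :=
    Module.Flat.of_linearEquiv (LinearEquiv.ofBijective (Algebra.linearMap A B) hφ).symm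
  have h := isDualizing_flatBC_of_extended A B
    (fun J => Ideal.map_comap_of_surjective _ hφ.2 J) ω hω
  exact isDualizing_of_iso ((LBaseChangeFlatIso A B).app ω).symm h

/-- Base change of a dualizing complex to a polynomial ring in finitely many variables. -/
theorem isDualizing_LBaseChange_mvPoly : ∀ (n : ℕ) (R : Type u) [CommRing R] [IsNoetherianRing R]
    (ω : Dual.D R), Dual.IsDualizing R ω →
    Dual.IsDualizing (MvPolynomial (Fin n) R)
      ((DRing.LBaseChange (algebraMap R (MvPolynomial (Fin n) R))).obj ω) := by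
  intro n
  induction n with
  | zero =>
    intro R _ _ ω hω
    exact isDualizing_LBaseChange_of_bijective R _ _
      ⟨MvPolynomial.C_injective _ _, MvPolynomial.C_surjective _⟩ ω hω
  | succ n ih =>
    intro R _ _ ω hω
    let P := MvPolynomial (Fin n) R
    have h1 := ih R ω hω
    have h2 : Dual.IsDualizing (Polynomial P)
        ((DRing.LBaseChange (algebraMap P (Polynomial P))).obj
          ((DRing.LBaseChange (algebraMap R P)).obj ω)) :=
      isDualizing_of_iso ((LBaseChangeFlatIso P (Polynomial P)).app _).symm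
        (isDualizing_flatBC_poly P _ h1)
    let ε : Polynomial P ≃ₐ[R] MvPolynomial (Fin (n + 1)) R := (MvPolynomial.finSuccEquiv R n).symm
    have h3 := isDualizing_LBaseChange_of_bijective (Polynomial P) (MvPolynomial (Fin (n + 1)) R)
      (ε : Polynomial P →+* MvPolynomial (Fin (n + 1)) R) ε.bijective _ h2
    let χ₁ : R →+* Polynomial P := (algebraMap P (Polynomial P)).comp (algebraMap R P)
    have hχ : algebraMap R (MvPolynomial (Fin (n + 1)) R) =
        (ε : Polynomial P →+* MvPolynomial (Fin (n + 1)) R).comp χ₁ := by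
      refine RingHom.ext (fun r => ?_)
      have : χ₁ r = algebraMap R (Polynomial P) r := by
        change algebraMap P (Polynomial P) (algebraMap R P r) = _
        rw [← IsScalarTower.algebraMap_apply]
      change _ = ε (χ₁ r)
      rw [this, AlgEquiv.commutes]
    let i1 := (LComp (algebraMap R P) (algebraMap P (Polynomial P)) χ₁ rfl).app ω
    let i2 := (LComp χ₁ (ε : Polynomial P →+* MvPolynomial (Fin (n + 1)) R)
      (algebraMap R (MvPolynomial (Fin (n + 1)) R)) hχ).app ω
    exact isDualizing_of_iso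
      ((DRing.LBaseChange (ε : Polynomial P →+* MvPolynomial (Fin (n + 1)) R)).mapIso i1 ≪≫ i2) h3

end MvPoly

section ShriekDual

/-- **The upper shriek of a dualizing complex is dualizing.** -/
theorem isDualizing_Sh (R A : Type u) [CommRing R] [CommRing A] [IsNoetherianRing R]
    [IsNoetherianRing A] (n : ℕ) (ψ : MvPolynomial (Fin n) R →+* A)
    (hψ : Function.Surjective ψ) (ω : Dual.D R) (hω : Dual.IsDualizing R ω) (d : ℤ) :
    Dual.IsDualizing A
      (((Rco ψ).obj ((DRing.LBaseChange (algebraMap R (MvPolynomial (Fin n) R))).obj ω))⟦d⟧) := by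
  letI := ψ.toAlgebra
  haveI : Module.Finite (MvPolynomial (Fin n) R) A :=
    Module.Finite.of_surjective (Algebra.linearMap (MvPolynomial (Fin n) R) A) hψ
  have h1 := isDualizing_LBaseChange_mvPoly n R ω hω
  have h2 := Groth.Agent.Lib.Helper13.BD.isDualizing_Rco (MvPolynomial (Fin n) R) A _ h1
  exact isDualizing_shift _ h2 d

end ShriekDual

end Groth.Agent.Lib.Helper13.DualBC
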