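import Groth.Agent.Lib.Helper13.DualBC6

/-!
# Normalized dualizing complexes and finite local homomorphisms
-/

set_option autoImplicit false
set_option linter.unusedSectionVars false

open CategoryTheory CategoryTheory.Limits Pretriangulated

universe u

namespace Groth.Agent.Lib.Helper13.DualBC

open DerivedCategory Groth.Agent.Lib.Helper13.Coind Groth.Agent.Lib.Helper13.PC
  Groth.Agent.Lib.Helper13.DR Groth.Agent.Lib.Helper13.Shriek

attribute [local instance] HasDerivedCategory.standard

section Pow

variable {A : Type u} [CommRing A] (V : Type u) [AddCommGroup V] [Module A V]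

/-- The short exact sequence `0 → V → V^{n+1} → V^n → 0`. -/
noncomputable def powSC (n : ℕ) : ShortComplex (ModuleCat.{u} A) :=
  ShortComplex.mk
    (ModuleCat.ofHom (LinearMap.single A (fun _ : Fin (n + 1) => V) 0) :
      ModuleCat.of A V ⟶ ModuleCat.of A (Fin (n + 1) → V))
    (ModuleCat.ofHom (LinearMap.funLeft A V (Fin.succ : Fin n → Fin (n + 1))) :
      ModuleCat.of A (Fin (n + 1) → V) ⟶ ModuleCat.of A (Fin n → V))
    (by
      refine ModuleCat.hom_ext (LinearMap.ext fun (a : V) => funext fun k => ?_)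
      change (Pi.single (0 : Fin (n + 1)) a : Fin (n + 1) → V) (Fin.succ k) = 0
      rw [Pi.single_apply, if_neg (Fin.succ_ne_zero k)])

lemma powSC_shortExact (n : ℕ) : (powSC (A := A) V n).ShortExact := by
  refine { exact := ?_, mono_f := ?_, epi_g := ?_ }
  · rw [ShortComplex.ShortExact.moduleCat_exact_iff_function_exact]
    intro (v : Fin (n + 1) → V)
    constructor
    · intro hv
      have hv' : ∀ k : Fin n, v (Fin.succ k) = 0 := fun k => congrFun hv k
      refine ⟨v 0, funext fun k => ?_⟩
      change (Pi.single (0 : Fin (n + 1)) (v 0) : Fin (n + 1) → V) k = v k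
      refine Fin.cases ?_ (fun k => ?_) k
      · rw [Pi.single_eq_same]
      · rw [Pi.single_apply, if_neg (Fin.succ_ne_zero k), hv' k]
    · rintro ⟨a, rfl⟩
      exact (ConcreteCategory.congr_hom (powSC (A := A) V n).zero a)
  · rw [ModuleCat.mono_iff_injective]
    intro (a : V) (a' : V) h
    have := congrFun h (0 : Fin (n + 1))
    change (Pi.single (0 : Fin (n + 1)) a : Fin (n + 1) → V) 0 =
      (Pi.single (0 : Fin (n + 1)) a' : Fin (n + 1) → V) 0 at this
    rwa [Pi.single_eq_same, Pi.single_eq_same] at this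
  · rw [ModuleCat.epi_iff_surjective]
    intro (w : Fin n → V)
    refine ⟨(Fin.cons 0 w : Fin (n + 1) → V), funext fun k => ?_⟩
    change (Fin.cons 0 w : Fin (n + 1) → V) (Fin.succ k) = w k
    rw [Fin.cons_succ]

/-- Vanishing of maps from `V` implies vanishing of maps from `V^n`. -/
lemma subsingleton_hom_pow (W : Dual.D A) (h : Subsingleton (Dual.inD A V ⟶ W)) (n : ℕ) :
    Subsingleton (Dual.inD A (Fin n → V) ⟶ W) := by
  induction n with
  | zero =>
    have hz : IsZero (Dual.inD A (Fin 0 → V)) :=
      Functor.map_isZero _ (ModuleCat.isZero_of_subsingleton _)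
    exact ⟨fun x y => hz.eq_of_src x y⟩
  | succ n ih =>
    have hS := powSC_shortExact (A := A) V n
    refine ⟨fun x y => ?_⟩
    suffices H : ∀ x : Dual.inD A (Fin (n + 1) → V) ⟶ W, x = 0 by rw [H x, H y]
    intro x
    obtain ⟨g, hg⟩ := Triangle.yoneda_exact₂ _ hS.singleTriangle_distinguished x
      (h.elim _ _)
    have hg0 : g = 0 := ih.elim g 0
    rw [hg, hg0]
    exact comp_zero

end Pow

section Normalized

variable (A B : Type u) [CommRing A] [CommRing B] [IsLocalRing A] [IsLocalRing B] [Algebra A B]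
  [IsLocalHom (algebraMap A B)] [IsNoetherianRing A] [IsNoetherianRing B] [Module.Finite A B]

/-- `RHom_A(B, ω)` is normalized when `ω` is. -/
theorem isNormalized_Rco (ω : Dual.D A) (hn : Dual.IsNormalized A ω) :
    Dual.IsNormalized B ((Rco (algebraMap A B)).obj ω) := by
  intro i hi
  have h0 := hn i hi
  let κA := IsLocalRing.ResidueField A
  let κB := IsLocalRing.ResidueField B
  let NA : ModuleCat.{u} A :=
    (ModuleCat.restrictScalars.{u} (algebraMap A B)).obj (ModuleCat.of B κB)
  -- `κB ≃ κA^n` as `A`-modules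
  let bas := Module.finBasis κA κB
  let eq1 : κB ≃ₗ[A] (Fin (Module.finrank κA κB) → κA) := bas.equivFun.restrictScalars A
  let eq0 : NA ≃ₗ[A] κB :=
    { toFun := fun x => x
      invFun := fun x => x
      left_inv := fun _ => rfl
      right_inv := fun _ => rfl
      map_add' := fun _ _ => rfl
      map_smul' := fun a x => algebraMap_smul B a (show κB from x) }
  have h1 : Subsingleton (Dual.inD A NA ⟶ ω⟦i⟧) := by
    have := subsingleton_hom_pow (A := A) κA (ω⟦i⟧) h0 (Module.finrank κA κB)
    exact (Iso.homCongr ((DerivedCategory.singleFunctor (ModuleCat.{u} A) 0).mapIso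
      (eq0.trans eq1).toModuleIso) (Iso.refl _)).subsingleton
  let e1 : (Dual.inD B κB ⟶ ((Rco (algebraMap A B)).obj ω)⟦i⟧) ≃
      (Dual.inD B κB ⟶ (Rco (algebraMap A B)).obj (ω⟦i⟧)) :=
    Iso.homCongr (Iso.refl _) (RcoShift (algebraMap A B) i ω).symm
  let e2 := ((Coind.adj (algebraMap A B)).homEquiv (Dual.inD B κB) (ω⟦i⟧)).symm
  let e3 : ((DRing.restrictD (algebraMap A B)).obj (Dual.inD B κB) ⟶ ω⟦i⟧) ≃
      (Dual.inD A NA ⟶ ω⟦i⟧) :=
    Iso.homCongr (((ModuleCat.restrictScalars.{u}
      (algebraMap A B)).mapDerivedCategorySingleFunctor 0).app (ModuleCat.of B κB)) (Iso.refl _)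
  exact ((e1.trans e2).trans e3).subsingleton

end Normalized

end Groth.Agent.Lib.Helper13.DualBC
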