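import Groth.Agent.Lib.Helper13.Frob4

/-!
# The upper shriek of a finite ring map is coinduction
-/

set_option autoImplicit false
set_option linter.unusedSectionVars false

open CategoryTheory CategoryTheory.Limits CategoryTheory.Functor Polynomial

universe u

namespace Groth.Agent.Lib.Helper13.Frob

open DerivedCategory Groth.Agent.Lib.Helper13.DR Groth.Agent.Lib.Helper13.Coind
  Groth.Agent.Lib.Helper13.Shriek

attribute [local instance] HasDerivedCategory.standard

variable {R S S₁ A : Type u} [CommRing R] [CommRing S] [CommRing S₁] [CommRing A]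

/-- Moving a Frobenius map from the base change to the coinduction. -/
theorem Sh_frob (ρ : R →+* S) (ι : S →+* S₁) (hι : IsFrob ι) (π₁ : S₁ →+* A) (d : ℤ)
    (K : Dual.D R) : Nonempty (Sh (ι.comp ρ) π₁ d K ≅ Sh ρ (π₁.comp ι) d K) := by
  obtain ⟨i0⟩ := hι
  let X := (DRing.LBaseChange ρ).obj K
  let i1 : (DRing.LBaseChange (ι.comp ρ)).obj K ≅ (DRing.LBaseChange ι).obj X :=
    ((LComp ρ ι _ rfl).app K).symm
  let i2 : (DRing.LBaseChange ι).obj X ≅ (Rco ι).obj X := (i0.app X).symm
  let i3 : (Rco π₁).obj ((Rco ι).obj X) ≅ (Rco (π₁.comp ι)).obj X := (RComp ι π₁ _ rfl).app X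
  exact ⟨(shiftFunctor (Dual.D A) d).mapIso ((Rco π₁).mapIso (i1 ≪≫ i2) ≪≫ i3)⟩

/-- The one variable step for a finite ring map. -/
theorem Sh_poly_finite (ρ : R →+* S) (φ : S →+* A) (hφ : φ.Finite) (a : A) (d : ℤ)
    (K : Dual.D R) :
    Nonempty (Sh ((algebraMap S S[X]).comp ρ) (Polynomial.eval₂RingHom φ a) (d + 1) K ≅
      Sh ρ φ d K) := by
  obtain ⟨f, hf, hfa⟩ := hφ.to_isIntegral a
  let ι : S →+* AdjoinRoot f := AdjoinRoot.of f
  let φ₁ : AdjoinRoot f →+* A := AdjoinRoot.lift φ a hfa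
  let j : S[X] →+* (AdjoinRoot f)[X] := Polynomial.mapRingHom ι
  have h1 : Polynomial.eval₂RingHom φ a =
      (φ₁.comp (Polynomial.evalRingHom (AdjoinRoot.root f))).comp j := by
    ext <;> simp [φ₁, j, ι]
  have h2 : j.comp ((algebraMap S S[X]).comp ρ) =
      (algebraMap (AdjoinRoot f) (AdjoinRoot f)[X]).comp (ι.comp ρ) := by
    ext r
    simp [j]
  have h3 : φ₁.comp ι = φ := AdjoinRoot.lift_comp_of _
  obtain ⟨s1⟩ := Sh_frob ((algebraMap S S[X]).comp ρ) j (isFrob_mapRingHom f hf)
    (φ₁.comp (Polynomial.evalRingHom (AdjoinRoot.root f))) (d + 1) K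
  obtain ⟨s2⟩ := Sh_poly (ι.comp ρ) φ₁ (AdjoinRoot.root f) d K
  obtain ⟨s3⟩ := Sh_frob ρ ι (isFrob_adjoinRoot f hf) φ₁ d K
  rw [h2, ← h1] at s1
  rw [h3] at s3
  exact ⟨s1.symm ≪≫ s2 ≪≫ s3⟩

end Groth.Agent.Lib.Helper13.Frob

namespace Groth.Agent.Lib.Helper13.Frob

open DerivedCategory Groth.Agent.Lib.Helper13.DR Groth.Agent.Lib.Helper13.Coind
  Groth.Agent.Lib.Helper13.Shriek

attribute [local instance] HasDerivedCategory.standard

variable {R A : Type u} [CommRing R] [CommRing A]

/-- The several variables step for a finite ring map. -/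
theorem Sh_mvPoly_finite : ∀ (k : ℕ) {S : Type u} [CommRing S] (ρ : R →+* S) (φ : S →+* A)
    (_ : φ.Finite) (g : Fin k → A) (d : ℤ) (K : Dual.D R),
    Nonempty (Sh ((algebraMap S (MvPolynomial (Fin k) S)).comp ρ)
      (MvPolynomial.eval₂Hom φ g) (d + k) K ≅ Sh ρ φ d K)
  | 0, S, _, ρ, φ, _, g, d, K => by
    have hC : ∀ s : S, MvPolynomial.isEmptyRingEquiv S (Fin 0) (MvPolynomial.C s) = s := by
      intro s
      rw [← MvPolynomial.isEmptyRingEquiv_symm_apply (R := S) (σ := Fin 0) s,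
        RingEquiv.apply_symm_apply]
    obtain ⟨i1⟩ := Sh_iso (MvPolynomial.isEmptyRingEquiv S (Fin 0))
      ((algebraMap S (MvPolynomial (Fin 0) S)).comp ρ) (MvPolynomial.eval₂Hom φ g) ρ φ
      (by
        refine RingHom.ext fun r => ?_
        change ρ r = MvPolynomial.isEmptyRingEquiv S (Fin 0) (MvPolynomial.C (ρ r))
        rw [hC])
      (by
        apply MvPolynomial.ringHom_ext
        · intro s
          change MvPolynomial.eval₂Hom φ g (MvPolynomial.C s) =
            φ (MvPolynomial.isEmptyRingEquiv S (Fin 0) (MvPolynomial.C s))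
          rw [hC, MvPolynomial.eval₂Hom_C]
        · intro i
          exact i.elim0)
      (d + (0 : ℕ)) K
    have h0 : d + ((0 : ℕ) : ℤ) = d := by simp
    rw [h0] at i1 ⊢
    exact ⟨i1⟩
  | k + 1, S, _, ρ, φ, hφ, g, d, K => by
    let g' : Fin k → A := fun j => g j.succ
    have hfin : (MvPolynomial.eval₂Hom φ g').Finite := by
      have : (MvPolynomial.eval₂Hom φ g').comp (MvPolynomial.C) = φ := by
        ext s
        simp
      exact RingHom.Finite.of_comp_finite (this ▸ hφ)
    obtain ⟨i1⟩ := Sh_iso (MvPolynomial.finSuccEquiv S k).toRingEquiv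
      ((algebraMap S (MvPolynomial (Fin (k + 1)) S)).comp ρ) (MvPolynomial.eval₂Hom φ g)
      ((algebraMap (MvPolynomial (Fin k) S) (MvPolynomial (Fin k) S)[X]).comp
        ((algebraMap S (MvPolynomial (Fin k) S)).comp ρ))
      (Polynomial.eval₂RingHom (MvPolynomial.eval₂Hom φ g') (g 0))
      (by
        refine RingHom.ext fun r => ?_
        change (Polynomial.C (MvPolynomial.C (ρ r)) : (MvPolynomial (Fin k) S)[X]) =
          MvPolynomial.finSuccEquiv S k (MvPolynomial.C (ρ r))
        rw [MvPolynomial.finSuccEquiv_apply]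
        simp)
      (by
        apply MvPolynomial.ringHom_ext
        · intro s
          change MvPolynomial.eval₂Hom φ g (MvPolynomial.C s) =
            Polynomial.eval₂ (MvPolynomial.eval₂Hom φ g') (g 0)
              (MvPolynomial.finSuccEquiv S k (MvPolynomial.C s))
          rw [MvPolynomial.finSuccEquiv_apply]
          simp
        · intro i
          change MvPolynomial.eval₂Hom φ g (MvPolynomial.X i) =
            Polynomial.eval₂ (MvPolynomial.eval₂Hom φ g') (g 0)
              (MvPolynomial.finSuccEquiv S k (MvPolynomial.X i))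
          refine Fin.cases ?_ (fun j => ?_) i
          · rw [MvPolynomial.finSuccEquiv_X_zero]
            simp
          · rw [MvPolynomial.finSuccEquiv_X_succ]
            simp [g'])
      (d + ((k + 1 : ℕ) : ℤ)) K
    obtain ⟨i2⟩ := Sh_poly_finite ((algebraMap S (MvPolynomial (Fin k) S)).comp ρ)
      (MvPolynomial.eval₂Hom φ g') hfin (g 0) (d + k) K
    obtain ⟨i3⟩ := Sh_mvPoly_finite k ρ φ hφ g' d K
    have h1 : d + ((k + 1 : ℕ) : ℤ) = d + k + 1 := by push_cast; ring
    rw [h1] at i1 ⊢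
    exact ⟨i1 ≪≫ i2 ≪≫ i3⟩

/-- Derived base change along the identity. -/
noncomputable def LId : DRing.LBaseChange (RingHom.id R) ≅ 𝟭 (Dual.D R) :=
  (LBaseChangeAdj (RingHom.id R)).leftAdjointUniq (Adjunction.id.ofNatIsoRight restrictDId.symm)

/-- The upper shriek of a finite ring map through any presentation is coinduction. -/
theorem Sh_finite (φ : R →+* A) (hφ : φ.Finite) (n : ℕ) (ψ : MvPolynomial (Fin n) R →+* A)
    (hψ : ψ.comp (MvPolynomial.C) = φ) (K : Dual.D R) :
    Nonempty (Sh (algebraMap R (MvPolynomial (Fin n) R)) ψ n K ≅ (Rco φ).obj K) := by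
  obtain ⟨i1⟩ := Sh_mvPoly_finite n (RingHom.id R) φ hφ (fun i => ψ (MvPolynomial.X i)) 0 K
  have h1 : (algebraMap R (MvPolynomial (Fin n) R)).comp (RingHom.id R) =
      algebraMap R (MvPolynomial (Fin n) R) := RingHom.comp_id _
  have h2 : MvPolynomial.eval₂Hom φ (fun i => ψ (MvPolynomial.X i)) = ψ := by
    apply MvPolynomial.ringHom_ext
    · intro r
      rw [MvPolynomial.eval₂Hom_C, ← hψ]
      rfl
    · intro i
      simp
  have h3 : (0 : ℤ) + n = n := zero_add _
  rw [h1, h2, h3] at i1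
  exact ⟨i1 ≪≫ (shiftFunctorZero (Dual.D A) ℤ).app _ ≪≫ (Rco φ).mapIso (LId.app K)⟩

end Groth.Agent.Lib.Helper13.Frob
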