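import Groth.Agent.Lib.Helper13.HomBC6
import Groth.Agent.Lib.Helper13.Frob5

/-!
# Composition of upper shrieks
-/

set_option autoImplicit false
set_option linter.unusedSectionVars false

open CategoryTheory CategoryTheory.Limits CategoryTheory.Functor

universe u

namespace Groth.Agent.Lib.Helper13.Shriek

open DerivedCategory Groth.Agent.Lib.Helper13.DR Groth.Agent.Lib.Helper13.Coind
  Groth.Agent.Lib.Helper13.HomBC

attribute [local instance] HasDerivedCategory.standard

section LShift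

variable {A B : Type u} [CommRing A] [CommRing B]

/-- Derived base change commutes with shifts. -/
noncomputable def LShift (φ : A →+* B) (n : ℤ) (X : Dual.D A) :
    (DRing.LBaseChange φ).obj (X⟦n⟧) ≅ ((DRing.LBaseChange φ).obj X)⟦n⟧ :=
  letI := (LBaseChangeAdj φ).leftAdjointCommShift ℤ
  ((DRing.LBaseChange φ).commShiftIso n).app X

end LShift

section Comp

attribute [local instance] MvPolynomial.algebraMvPolynomial

variable {A B C : Type u} [CommRing A] [CommRing B] [CommRing C] [IsNoetherianRing A]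

/-- The polynomial-over-finite swap. -/
theorem nonempty_swap (n m : ℕ) (ψ : MvPolynomial (Fin n) A →+* B) (hψ : Function.Surjective ψ)
    (M : Dual.D (MvPolynomial (Fin n) A)) (c : ℤ) [M.IsGE c] :
    Nonempty ((DRing.LBaseChange (algebraMap B (MvPolynomial (Fin m) B))).obj ((Rco ψ).obj M) ≅
      (Rco (MvPolynomial.map (σ := Fin m) ψ)).obj
        ((DRing.LBaseChange (algebraMap (MvPolynomial (Fin n) A)
          (MvPolynomial (Fin m) (MvPolynomial (Fin n) A)))).obj M)) := by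
  let _ : Algebra (MvPolynomial (Fin n) A) B := ψ.toAlgebra
  have : Module.Finite (MvPolynomial (Fin n) A) B :=
    Module.Finite.of_surjective (Algebra.linearMap (MvPolynomial (Fin n) A) B) hψ
  exact nonempty_LBaseChange_Rco_iso (MvPolynomial (Fin n) A) B
    (MvPolynomial (Fin m) (MvPolynomial (Fin n) A)) (MvPolynomial (Fin m) B) M c

/-- Composition, with the presentation `A[x][y] → B[y] → C` of the composite. -/
theorem Sh_comp_poly (n m : ℕ) (ψ : MvPolynomial (Fin n) A →+* B) (hψ : Function.Surjective ψ)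
    (χ : MvPolynomial (Fin m) B →+* C) (K : Dual.D A) (c : ℤ) [K.IsGE c] :
    Nonempty (Sh (algebraMap B (MvPolynomial (Fin m) B)) χ m
        (Sh (algebraMap A (MvPolynomial (Fin n) A)) ψ n K) ≅
      Sh ((algebraMap (MvPolynomial (Fin n) A)
          (MvPolynomial (Fin m) (MvPolynomial (Fin n) A))).comp
            (algebraMap A (MvPolynomial (Fin n) A)))
        (χ.comp (MvPolynomial.map (σ := Fin m) ψ)) ((n : ℤ) + (m : ℤ)) K) := by
  let ρ₁ := algebraMap A (MvPolynomial (Fin n) A)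
  let ρ₂ := algebraMap B (MvPolynomial (Fin m) B)
  let ι := algebraMap (MvPolynomial (Fin n) A) (MvPolynomial (Fin m) (MvPolynomial (Fin n) A))
  let ψ' := MvPolynomial.map (σ := Fin m) ψ
  let M := (DRing.LBaseChange ρ₁).obj K
  have : M.IsGE c := isGE_LBaseChange A (MvPolynomial (Fin n) A) K c
  obtain ⟨sw⟩ := nonempty_swap n m ψ hψ M c
  let X := (Rco ψ).obj M
  let i1 : (DRing.LBaseChange ρ₂).obj (X⟦(n : ℤ)⟧) ≅ ((DRing.LBaseChange ρ₂).obj X)⟦(n : ℤ)⟧ :=
    LShift ρ₂ n X
  let i2 : (Rco χ).obj (((DRing.LBaseChange ρ₂).obj X)⟦(n : ℤ)⟧) ≅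
      ((Rco χ).obj ((DRing.LBaseChange ρ₂).obj X))⟦(n : ℤ)⟧ := RcoShift χ n _
  let i3 : (Rco χ).obj ((DRing.LBaseChange ρ₂).obj X) ≅
      (Rco (χ.comp ψ')).obj ((DRing.LBaseChange (ι.comp ρ₁)).obj K) :=
    (Rco χ).mapIso (sw ≪≫ (Rco ψ').mapIso ((LComp ρ₁ ι (ι.comp ρ₁) rfl).app K)) ≪≫
      (RComp ψ' χ (χ.comp ψ') rfl).app _
  exact ⟨(shiftFunctor (Dual.D C) (m : ℤ)).mapIso ((Rco χ).mapIso i1 ≪≫ i2 ≪≫
      (shiftFunctor (Dual.D C) (n : ℤ)).mapIso i3) ≪≫
    ((shiftFunctorAdd (Dual.D C) (n : ℤ) (m : ℤ)).app _).symm⟩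

end Comp

section Main

variable {A B C : Type u} [CommRing A] [CommRing B] [CommRing C] [IsNoetherianRing A]
  [Algebra A B] [Algebra B C] [Algebra A C] [IsScalarTower A B C]

/-- **Composition of upper shrieks.** -/
theorem Sh_comp (n m k : ℕ) (ψ : MvPolynomial (Fin n) A →ₐ[A] B) (hψ : Function.Surjective ψ)
    (χ : MvPolynomial (Fin m) B →ₐ[B] C) (hχ : Function.Surjective χ)
    (θ : MvPolynomial (Fin k) A →ₐ[A] C) (hθ : Function.Surjective θ)
    (K : Dual.D A) (c : ℤ) [K.IsGE c] :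
    Nonempty (Sh (algebraMap A (MvPolynomial (Fin k) A)) (θ : MvPolynomial (Fin k) A →+* C) k K ≅
      Sh (algebraMap B (MvPolynomial (Fin m) B)) (χ : MvPolynomial (Fin m) B →+* C) m
        (Sh (algebraMap A (MvPolynomial (Fin n) A)) (ψ : MvPolynomial (Fin n) A →+* B) n K)) := by
  obtain ⟨i1⟩ := Sh_comp_poly n m (ψ : MvPolynomial (Fin n) A →+* B) hψ
    (χ : MvPolynomial (Fin m) B →+* C) K c
  let P₂ := MvPolynomial (Fin m) (MvPolynomial (Fin n) A)
  let Q₀ := MvPolynomial (Fin (m + n)) A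
  let e : P₂ ≃ₐ[A] Q₀ :=
    (MvPolynomial.sumAlgEquiv A (Fin m) (Fin n)).symm.trans
      (MvPolynomial.renameEquiv A finSumFinEquiv)
  let π : P₂ →+* C := (χ : MvPolynomial (Fin m) B →+* C).comp
    (MvPolynomial.map (σ := Fin m) (ψ : MvPolynomial (Fin n) A →+* B))
  have hπC : ∀ a : A, π (algebraMap A P₂ a) = algebraMap A C a := by
    intro a
    change χ (MvPolynomial.map (σ := Fin m) (ψ : MvPolynomial (Fin n) A →+* B)
      (MvPolynomial.C (MvPolynomial.C a))) = _
    rw [MvPolynomial.map_C]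
    change χ (algebraMap B _ (ψ (algebraMap A _ a))) = _
    rw [AlgHom.commutes, AlgHom.commutes, ← IsScalarTower.algebraMap_apply]
  let π' : Q₀ →ₐ[A] C :=
    { toRingHom := π.comp (e.symm : Q₀ →+* P₂)
      commutes' := fun a => by
        change π (e.symm (algebraMap A Q₀ a)) = _
        rw [AlgEquiv.commutes, hπC] }
  have hπ' : Function.Surjective π' := by
    have h1 : Function.Surjective π :=
      hχ.comp (MvPolynomial.map_surjective _ hψ)
    exact h1.comp e.symm.surjective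
  obtain ⟨i2⟩ := Sh_iso e.toRingEquiv
    ((algebraMap (MvPolynomial (Fin n) A) P₂).comp (algebraMap A (MvPolynomial (Fin n) A)))
    π (algebraMap A Q₀) (π' : Q₀ →+* C)
    (RingHom.ext fun a => by
      change algebraMap A Q₀ a = e (algebraMap A P₂ a)
      rw [AlgEquiv.commutes])
    (RingHom.ext fun x => by
      change π x = π (e.symm (e x))
      rw [AlgEquiv.symm_apply_apply]) ((n : ℤ) + (m : ℤ)) K
  have h3 := Sh_independent π' hπ' θ hθ K
  have hd : ((m + n : ℕ) : ℤ) = (n : ℤ) + (m : ℤ) := by push_cast; ring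
  rw [hd] at h3
  obtain ⟨i3⟩ := h3
  exact ⟨i3.symm ≪≫ i2.symm ≪≫ i1.symm⟩

end Main

end Groth.Agent.Lib.Helper13.Shriek
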