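import Groth.Agent.Lib.Helper13.DualBC7
import Groth.Agent.Lib.Helper13.ShriekComp
import Groth.Agent.Lib.Helper13.Frob5
import Mathlib.RingTheory.Jacobson.Ring

/-!
# Normalized dualizing complexes and upper shriek
-/

set_option autoImplicit false
set_option linter.unusedSectionVars false

open CategoryTheory CategoryTheory.Limits Pretriangulated TensorProduct

universe u

namespace Groth.Agent.Lib.Helper13.DualBC

open DerivedCategory Groth.Agent.Lib.Helper13.Coind Groth.Agent.Lib.Helper13.PC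
  Groth.Agent.Lib.Helper13.DR Groth.Agent.Lib.Helper13.Shriek Groth.Agent.Lib.Helper13.Frob

attribute [local instance] HasDerivedCategory.standard

section HomRco

variable (A B : Type u) [CommRing A] [CommRing B] [Algebra A B]

/-- `Hom_B(N, RHom_A(B, K)[i]) ≃ Hom_A(N, K[i])`. -/
noncomputable def homRcoEquiv (K : Dual.D A) (N : Type u) [AddCommGroup N] [Module B N] (i : ℤ) :
    (Dual.inD B N ⟶ ((Rco (algebraMap A B)).obj K)⟦i⟧) ≃
      (Dual.inD A ((ModuleCat.restrictScalars.{u} (algebraMap A B)).obj (ModuleCat.of B N)) ⟶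
        K⟦i⟧) :=
  let e1 : (Dual.inD B N ⟶ ((Rco (algebraMap A B)).obj K)⟦i⟧) ≃
      (Dual.inD B N ⟶ (Rco (algebraMap A B)).obj (K⟦i⟧)) :=
    Iso.homCongr (Iso.refl _) (RcoShift (algebraMap A B) i K).symm
  let e2 := ((Coind.adj (algebraMap A B)).homEquiv (Dual.inD B N) (K⟦i⟧)).symm
  let e3 : ((DRing.restrictD (algebraMap A B)).obj (Dual.inD B N) ⟶ K⟦i⟧) ≃
      (Dual.inD A ((ModuleCat.restrictScalars.{u} (algebraMap A B)).obj (ModuleCat.of B N)) ⟶
        K⟦i⟧) :=
    Iso.homCongr (((ModuleCat.restrictScalars.{u}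
      (algebraMap A B)).mapDerivedCategorySingleFunctor 0).app (ModuleCat.of B N)) (Iso.refl _)
  (e1.trans e2).trans e3

end HomRco

section NormShriek

variable (R A : Type u) [CommRing R] [CommRing A] [IsNoetherianRing R] [IsNoetherianRing A]
  [Algebra R A] [IsLocalRing R]

/-- The residue field at a maximal ideal over the closed point is a finite `R`-module, free over
the residue field of `R`. -/
lemma exists_linearEquiv_quot (hft : Algebra.FiniteType R A) (m : Ideal A) [m.IsMaximal]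
    (hm : m.comap (algebraMap R A) = IsLocalRing.maximalIdeal R) :
    Module.Finite R (A ⧸ m) ∧
      ∃ d : ℕ, Nonempty ((A ⧸ m) ≃ₗ[R] (Fin d → IsLocalRing.ResidueField R)) := by
  letI : Field (A ⧸ m) := Ideal.Quotient.field m
  letI : Field (R ⧸ IsLocalRing.maximalIdeal R) := Ideal.Quotient.field _
  haveI : m.LiesOver (IsLocalRing.maximalIdeal R) := ⟨hm.symm⟩
  haveI : Algebra.FiniteType R (A ⧸ m) :=
    Algebra.FiniteType.of_surjective (Ideal.Quotient.mkₐ R m) (Ideal.Quotient.mkₐ_surjective R m)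
  haveI : Algebra.FiniteType (R ⧸ IsLocalRing.maximalIdeal R) (A ⧸ m) :=
    Algebra.FiniteType.of_restrictScalars_finiteType R _ _
  haveI hfin : Module.Finite (R ⧸ IsLocalRing.maximalIdeal R) (A ⧸ m) :=
    finite_of_finite_type_of_isJacobsonRing _ _
  refine ⟨Module.Finite.trans (R ⧸ IsLocalRing.maximalIdeal R) (A ⧸ m), ?_⟩
  let bas := Module.finBasis (R ⧸ IsLocalRing.maximalIdeal R) (A ⧸ m)
  exact ⟨_, ⟨bas.equivFun.restrictScalars R⟩⟩

/-- `Hom_A(A/m, φ^!(ω)[i]) = 0` for `i ≠ 0` when `ω` is a normalized dualizing complex and `m` is a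
maximal ideal over the closed point. -/
theorem subsingleton_hom_quot_Sh (n : ℕ) (ψ : MvPolynomial (Fin n) R →ₐ[R] A)
    (hψ : Function.Surjective ψ) (m : Ideal A) [m.IsMaximal]
    (hm : m.comap (algebraMap R A) = IsLocalRing.maximalIdeal R)
    (ω : Dual.D R) (hω : Dual.IsDualizing R ω) (hn : Dual.IsNormalized R ω) (i : ℤ) (hi : i ≠ 0) :
    Subsingleton (Dual.inD A (A ⧸ m) ⟶
      (Sh (algebraMap R (MvPolynomial (Fin n) R)) (ψ : MvPolynomial (Fin n) R →+* A) n ω)⟦i⟧) := by
  obtain ⟨a, b, h2⟩ := hω.finite_injective_dimension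
  have hvan : ∀ j : ℤ, j < a → Subsingleton (Dual.HD R ω j) := fun j hj =>
    ModuleCat.subsingleton_of_isZero (isZero_HD_of_subsingleton_ext ω j (h2 R j (Or.inl hj)))
  haveI hGE : ω.IsGE a := isGE_of_subsingleton_HD ω a hvan
  have hft : Algebra.FiniteType R A :=
    Algebra.FiniteType.of_surjective ψ hψ
  obtain ⟨hfin, d, ⟨eqd⟩⟩ := exists_linearEquiv_quot R A hft m hm
  let L := A ⧸ m
  haveI : Algebra.FiniteType R L :=
    Algebra.FiniteType.of_surjective (Ideal.Quotient.mkₐ R m) (Ideal.Quotient.mkₐ_surjective R m)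
  obtain ⟨k, θ, hθ⟩ := Algebra.FiniteType.iff_quotient_mvPolynomial''.1
    (inferInstance : Algebra.FiniteType R L)
  let χ : MvPolynomial (Fin 0) A →ₐ[A] L := MvPolynomial.aeval (fun j => j.elim0)
  have hχ : Function.Surjective χ := fun x => by
    obtain ⟨y, rfl⟩ := Ideal.Quotient.mk_surjective x
    exact ⟨MvPolynomial.C y, by
      change MvPolynomial.aeval _ (MvPolynomial.C y) = _
      rw [MvPolynomial.aeval_C]
      rfl⟩
  let X := Sh (algebraMap R (MvPolynomial (Fin n) R)) (ψ : MvPolynomial (Fin n) R →+* A) n ω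
  obtain ⟨i4⟩ := Sh_comp n 0 k ψ hψ χ hχ θ hθ ω a
  obtain ⟨i5⟩ := Sh_finite (algebraMap A L)
    (RingHom.Finite.of_surjective _ Ideal.Quotient.mk_surjective) 0
    (χ : MvPolynomial (Fin 0) A →+* L)
    (RingHom.ext fun y => by
      change MvPolynomial.aeval _ (MvPolynomial.C y) = _
      rw [MvPolynomial.aeval_C]) X
  obtain ⟨i6⟩ := Sh_finite (algebraMap R L) (RingHom.finite_algebraMap.2 hfin) k (θ : MvPolynomial (Fin k) R →+* L)
    (RingHom.ext fun r => by
      change θ (MvPolynomial.C r) = _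
      rw [← MvPolynomial.algebraMap_eq, AlgHom.commutes]) ω
  -- the chain of identifications
  let eA : (ModuleCat.restrictScalars.{u} (algebraMap A L)).obj (ModuleCat.of L L) ≅
      ModuleCat.of A (A ⧸ m) := restrictSelfIso (A := A) (B := L)
  let E1 : (Dual.inD A (A ⧸ m) ⟶ X⟦i⟧) ≃
      (Dual.inD A ((ModuleCat.restrictScalars.{u} (algebraMap A L)).obj (ModuleCat.of L L)) ⟶
        X⟦i⟧) :=
    Iso.homCongr ((DerivedCategory.singleFunctor (ModuleCat.{u} A) 0).mapIso eA.symm) (Iso.refl _)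
  let E2 := (homRcoEquiv A L X L i).symm
  let E3 : (Dual.inD L L ⟶ ((Rco (algebraMap A L)).obj X)⟦i⟧) ≃
      (Dual.inD L L ⟶ ((Rco (algebraMap R L)).obj ω)⟦i⟧) :=
    Iso.homCongr (Iso.refl _) ((shiftFunctor (Dual.D L) i).mapIso (i5.symm ≪≫ i4.symm ≪≫ i6))
  let E4 := homRcoEquiv R L ω L i
  let eR : (ModuleCat.restrictScalars.{u} (algebraMap R L)).obj (ModuleCat.of L L) ≅
      ModuleCat.of R (Fin d → IsLocalRing.ResidueField R) :=
    restrictSelfIso (A := R) (B := L) ≪≫ eqd.toModuleIso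
  let E5 : (Dual.inD R ((ModuleCat.restrictScalars.{u} (algebraMap R L)).obj (ModuleCat.of L L)) ⟶
      ω⟦i⟧) ≃ (Dual.inD R (Fin d → IsLocalRing.ResidueField R) ⟶ ω⟦i⟧) :=
    Iso.homCongr ((DerivedCategory.singleFunctor (ModuleCat.{u} R) 0).mapIso eR) (Iso.refl _)
  have := subsingleton_hom_pow (A := R) (IsLocalRing.ResidueField R) (ω⟦i⟧) (hn i hi) d
  exact ((((E1.trans E2).trans E3).trans E4).trans E5).subsingleton

end NormShriek

section LocNorm

variable (A : Type u) [CommRing A] [IsNoetherianRing A] (m : Ideal A) [m.IsMaximal]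

/-- If `Hom_A(A/m, K[i]) = 0` for `i ≠ 0` then the localization of `K` at `m` is normalized. -/
theorem isNormalized_flatBC_atPrime (K : Dual.D A) (c : ℤ) [K.IsGE c]
    (h : ∀ i : ℤ, i ≠ 0 → Subsingleton (Dual.inD A (A ⧸ m) ⟶ K⟦i⟧)) :
    Dual.IsNormalized (Localization.AtPrime m)
      ((flatBC A (Localization.AtPrime m)).obj K) := by
  intro i hi
  let Am := Localization.AtPrime m
  have hpc : DRing.IsPseudoCoherent' A (Dual.inD A (A ⧸ m)) :=
    (isPseudoCoherentModule'_iff_of_isNoetherianRing (A ⧸ m)).2 inferInstance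
  have h1 := subsingleton_hom_flatBC Am (Dual.inD A (A ⧸ m)) hpc K c i (h i hi)
  let e1 : (Am ⧸ m.map (algebraMap A Am)) ≃ₗ[Am] Am ⊗[A] (A ⧸ m) :=
    (Algebra.TensorProduct.quotIdealMapEquivTensorQuot Am m).toLinearEquiv
  let e2 : (Am ⧸ m.map (algebraMap A Am)) ≃ₗ[Am] IsLocalRing.ResidueField Am :=
    Submodule.quotEquivOfEq _ _ (IsLocalization.AtPrime.map_eq_maximalIdeal m Am)
  let e3 : Dual.inD Am (IsLocalRing.ResidueField Am) ≅
      (flatBC A Am).obj (Dual.inD A (A ⧸ m)) :=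
    (DerivedCategory.singleFunctor (ModuleCat.{u} Am) 0).mapIso (e2.symm.trans e1).toModuleIso ≪≫
      (flatBCSingleIso A Am (A ⧸ m)).symm
  exact (Iso.homCongr e3 (Iso.refl _)).subsingleton

end LocNorm

end Groth.Agent.Lib.Helper13.DualBC
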