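import Mathlib.LinearAlgebra.Contraction
import Mathlib.RingTheory.TensorProduct.Basic

/-!
# Base change of the dual of a finite projective module
-/

set_option autoImplicit false
open TensorProduct

namespace Groth.Agent.Lib.Helper13.DualAlg

variable {A B M : Type*} [CommRing A] [CommRing B] [Algebra A B] [AddCommGroup M] [Module A M]
  [Module.Finite A M] [Module.Projective A M]

/-- The reference additive equivalence `B ⊗ M^∨ ≃ (B ⊗ M)^∨`. -/
noncomputable def refEquiv : B ⊗[A] (M →ₗ[A] A) ≃+ (B ⊗[A] M →ₗ[B] B) :=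
  (lTensorHomEquivHomLTensor A M B A).toAddEquiv.trans
    ((LinearEquiv.congrRight (TensorProduct.rid A B)).toAddEquiv.trans
      (LinearMap.liftBaseChangeEquiv B).toAddEquiv)

lemma refEquiv_tmul (b : B) (f : M →ₗ[A] A) (b' : B) (m : M) :
    refEquiv (A := A) (B := B) (M := M) (b ⊗ₜ f) (b' ⊗ₜ m) = b' * (algebraMap A B (f m) * b) := by
  simp [refEquiv, LinearEquiv.congrRight, Algebra.smul_def]

/-- Any `B`-linear map `B ⊗ M^∨ → (B ⊗ M)^∨` with the expected values on `1 ⊗ f` is bijective
when `M` is finite projective. -/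
lemma bijective_of_apply_one_tmul (β : B ⊗[A] (M →ₗ[A] A) →ₗ[B] (B ⊗[A] M →ₗ[B] B))
    (hβ : ∀ (f : M →ₗ[A] A) (m : M), β (1 ⊗ₜ f) (1 ⊗ₜ m) = algebraMap A B (f m)) :
    Function.Bijective β := by
  have key : ∀ x, β x = refEquiv (A := A) (B := B) (M := M) x := by
    intro x
    induction x using TensorProduct.induction_on with
    | zero => rw [map_zero, map_zero]
    | add x y hx hy => rw [map_add, map_add, hx, hy]
    | tmul b f =>
      apply LinearMap.ext
      intro z
      induction z using TensorProduct.induction_on with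
      | zero => rw [map_zero, map_zero]
      | add x y hx hy => rw [map_add, map_add, hx, hy]
      | tmul b' m =>
        rw [refEquiv_tmul]
        have h1 : (b ⊗ₜ[A] f : B ⊗[A] (M →ₗ[A] A)) = b • ((1 : B) ⊗ₜ[A] f) := by
          rw [TensorProduct.smul_tmul', smul_eq_mul, mul_one]
        have h2 : (b' ⊗ₜ[A] m : B ⊗[A] M) = b' • ((1 : B) ⊗ₜ[A] m) := by
          rw [TensorProduct.smul_tmul', smul_eq_mul, mul_one]
        rw [h1, h2, map_smul, map_smul, LinearMap.smul_apply, hβ, smul_eq_mul, smul_eq_mul]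
        ring
  have : (β : B ⊗[A] (M →ₗ[A] A) → (B ⊗[A] M →ₗ[B] B)) = refEquiv := funext key
  rw [this]
  exact (refEquiv (A := A) (B := B) (M := M)).bijective

end Groth.Agent.Lib.Helper13.DualAlg
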