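import Groth.Agent.Lib.Helper13.PolyZero2
import Groth.Agent.Lib.Helper13.DRingLDerived
import Groth.Agent.Lib.Helper13.DTenKProj
import Groth.Agent.Lib.Helper13.KProjCone
import Groth.Agent.Lib.Helper13.SemiFree4
import Groth.Agent.Lib.Helper13.TorAmpLocal
import Groth.Agent.Lib.Helper13.DRingRestrict
import Mathlib.Algebra.Homology.HomotopyCategory.ShortExact

set_option autoImplicit false
universe u
open CategoryTheory CategoryTheory.Limits TensorProduct Polynomial ChangeOfRings

namespace Groth.Agent.Lib.Helper13.PZ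

open Groth.Agent.Lib.Helper13.DR Groth.Agent.Lib.Helper13.PC DerivedCategory

attribute [local instance] HasDerivedCategory.standard

variable (R : Type u) [CommRing R] (P : DRing.Cx R)

/-- multiplication by `X` on `P[X]`. -/
noncomputable def ξ : (extendCx R R[X]).obj P ⟶ (extendCx R R[X]).obj P :=
  (X : R[X]) • 𝟙 _

/-- the augmentation `P[X] → P`. -/
noncomputable def π : (extendCx R R[X]).obj P ⟶
    (DRing.restrictCx (Polynomial.evalRingHom (0 : R))).obj P :=
  (NatTrans.mapHomologicalComplex (νNat R) (ComplexShape.up ℤ)).app P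

lemma ξ_π : ξ R P ≫ π R P = 0 := by
  ext i : 1
  exact ξM_ν R (P.X i)

/-- The short exact sequence of complexes `0 → P[X] → P[X] → P → 0`. -/
noncomputable def sesC : ShortComplex (DRing.Cx R[X]) :=
  ShortComplex.mk (ξ R P) (π R P) (ξ_π R P)

lemma sesC_shortExact : (sesC R P).ShortExact := by
  apply HomologicalComplex.shortExact_of_degreewise_shortExact
  intro i
  exact sesM_shortExact R (P.X i)

instance : QuasiIso (CochainComplex.mappingCone.descShortComplex (sesC R P)) :=
  CochainComplex.mappingCone.quasiIso_descShortComplex (sesC_shortExact R P)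

section Linear

variable {A B : Type u} [CommRing A] [CommRing B]

set_option backward.isDefEq.respectTransparency false in
lemma extendScalars_map_smul (f : A →+* B) {M M' : ModuleCat.{u} A} (a : A) (g : M ⟶ M') :
    (ModuleCat.extendScalars.{u, u, u} f).map (a • g) =
      f a • (ModuleCat.extendScalars.{u, u, u} f).map g := by
  apply ModuleCat.ExtendScalars.hom_ext
  intro m
  let T' : ModuleCat.{u} B := (ModuleCat.extendScalars.{u, u, u} f).obj M'
  let x0 : (ModuleCat.extendScalars.{u, u, u} f).obj M :=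
    ((1 : B) ⊗ₜ[A, f] m : (ModuleCat.extendScalars.{u, u, u} f).obj M)
  let x1 : T' := ((1 : B) ⊗ₜ[A, f] (g.hom m) : (ModuleCat.extendScalars.{u, u, u} f).obj M')
  let x2 : T' := ((1 : B) ⊗ₜ[A, f] (a • g.hom m) : (ModuleCat.extendScalars.{u, u, u} f).obj M')
  let x3 : T' := ((f a * 1 : B) ⊗ₜ[A, f] (g.hom m) : (ModuleCat.extendScalars.{u, u, u} f).obj M')
  have h1 : ((ModuleCat.extendScalars.{u, u, u} f).map (a • g)).hom x0 = x2 := rfl
  have h2 : (f a • (ModuleCat.extendScalars.{u, u, u} f).map g).hom x0 = f a • x1 := rfl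
  have h3 : x2 = x3 := by
    exact (TensorProduct.tmul_smul a
      (show ((ModuleCat.restrictScalars.{u} f).obj (ModuleCat.of B B)) from (1 : B)) (g.hom m)).trans
      (TensorProduct.smul_tmul' a
        (show ((ModuleCat.restrictScalars.{u} f).obj (ModuleCat.of B B)) from (1 : B)) (g.hom m))
  have h4 : f a • x1 = x3 := ModuleCat.ExtendScalars.smul_tmul (f := f) (f a) (1 : B) (g.hom m)
  exact h1.trans (h3.trans (h4.symm.trans h2.symm))

end Linear

section Main

open CochainComplex Pretriangulated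

lemma extCx_map_ξ : (DTen.extCx (Polynomial.evalRingHom (0 : R))).map (ξ R P) = 0 := by
  ext i : 1
  change (ModuleCat.extendScalars.{u, u, u} (Polynomial.evalRingHom (0 : R))).map
    ((X : R[X]) • 𝟙 _) = 0
  rw [extendScalars_map_smul]
  simp

/-- `R ⊗_{R[X]} (R[X] ⊗_R P) ≅ P`. -/
noncomputable def extExtIso :
    (DTen.extCx (Polynomial.evalRingHom (0 : R))).obj ((extendCx R R[X]).obj P) ≅ P :=
  Groth.Agent.Lib.Helper13.DV.extCxCompIso (algebraMap R R[X]) (Polynomial.evalRingHom (0 : R)) P ≪≫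
    eqToIso (by rw [ev_comp_c]) ≪≫
    (NatIso.mapHomologicalComplex (ModuleCat.extendScalarsId R) (ComplexShape.up ℤ)).app P ≪≫
    (Functor.mapHomologicalComplexIdIso _ _).app P

theorem nonempty_LBaseChange_restrictD_iso [DRing.HasLBaseChange (Polynomial.evalRingHom (0 : R))]
    (K : Dual.D R) [HasBinaryBiproduct K ((CategoryTheory.shiftFunctor (Dual.D R) (1 : ℤ)).obj K)] :
    Nonempty ((DRing.LBaseChange (Polynomial.evalRingHom (0 : R))).obj
        ((DRing.restrictD (Polynomial.evalRingHom (0 : R))).obj K) ≅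
      K ⊞ (CategoryTheory.shiftFunctor (Dual.D R) (1 : ℤ)).obj K) := by
  obtain ⟨P, hP, -, ⟨eK⟩⟩ := Groth.Agent.Lib.Helper13.SF.exists_kprojective_rep K
  have hPx : ((extendCx R R[X]).obj P).IsKProjective :=
    Groth.Agent.Lib.Helper13.DT.isKProjective_extCx (algebraMap R R[X]) P
  let G := mappingCone (ξ R P)
  have hG : G.IsKProjective := Groth.Agent.Lib.Helper13.KP.isKProjective_mappingCone (ξ R P)
  let q : G ⟶ (DRing.restrictCx (Polynomial.evalRingHom (0 : R))).obj P :=
    mappingCone.descShortComplex (sesC R P)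
  have hq : IsIso (Q.map q) := by
    rw [isIso_Q_map_iff_quasiIso]
    exact mappingCone.quasiIso_descShortComplex (sesC_shortExact R P)
  have i1 : (DRing.restrictD (Polynomial.evalRingHom (0 : R))).obj K ≅ Q.obj G :=
    (DRing.restrictD _).mapIso eK.symm ≪≫ restrictDQIso _ P ≪≫ (asIso (Q.map q)).symm
  have i2 := LBaseChangeIso (Polynomial.evalRingHom (0 : R)) G
  have i3 := mappingCone.mapHomologicalComplexIso (ξ R P)
    (ModuleCat.extendScalars.{u, u, u} (Polynomial.evalRingHom (0 : R)))
  -- the triangle of the zero map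
  let Y := (DTen.extCx (Polynomial.evalRingHom (0 : R))).obj ((extendCx R R[X]).obj P)
  let φ0 : Y ⟶ Y := (DTen.extCx (Polynomial.evalRingHom (0 : R))).map (ξ R P)
  have hφ0 : φ0 = 0 := extCx_map_ξ R P
  have hT := mappingCone_triangle_distinguished φ0
  have hT' := rot_of_distTriang _ hT
  obtain ⟨e, -, -⟩ := exists_iso_binaryBiproduct_of_distTriang _ hT' (by
    change -(CategoryTheory.shiftFunctor (Dual.D R) (1 : ℤ)).map (Q.map φ0) = 0
    rw [hφ0, Q.map_zero, Functor.map_zero, neg_zero])
  have eY : Q.obj Y ≅ K := Q.mapIso (extExtIso R P) ≪≫ eK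
  exact ⟨(DRing.LBaseChange _).mapIso i1 ≪≫ i2 ≪≫ Q.mapIso i3 ≪≫ e ≪≫
    biprod.mapIso eY ((CategoryTheory.shiftFunctor (Dual.D R) (1 : ℤ)).mapIso eY)⟩

end Main

end Groth.Agent.Lib.Helper13.PZ
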