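import Groth.Agent.Lib.Helper13.DualBCAlg
import Groth.Agent.Lib.Helper13.BiDual3
import Groth.Agent.Lib.Helper13.DRingAdj
import Groth.Agent.Lib.Helper13.DRingFlatBC
import Groth.Agent.Lib.Helper13.PolyZero3

/-!
# Base change of the dual of a complex of finite projective modules
-/

set_option autoImplicit false
universe u
open CategoryTheory CategoryTheory.Limits TensorProduct
open CochainComplex CochainComplex.HomComplex HomologicalComplex

namespace Groth.Agent.Lib.Helper13.DualExt

open Groth.Agent.Lib.Helper13.BD Groth.Agent.Lib.Helper13.DR Groth.Agent.Lib.Helper13.PC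
  Groth.Agent.Lib.Helper13.PZ

variable {A : Type u} (B : Type u) [CommRing A] [CommRing B] [Algebra A B]

/-- The multiplication map `B ⊗_A A → B`. -/
noncomputable def μ : (ModuleCat.extendScalars.{u, u, u} (algebraMap A B)).obj (ModuleCat.of A A) ⟶
    ModuleCat.of B B :=
  (extendScalarsIso B (ModuleCat.of A A) ≪≫
    (TensorProduct.AlgebraTensorModule.rid A B B).toModuleIso).hom

/-- Base change of a linear form. -/
noncomputable def bcHom {M : ModuleCat.{u} A} (f : M ⟶ ModuleCat.of A A) :
    (ModuleCat.extendScalars.{u, u, u} (algebraMap A B)).obj M ⟶ ModuleCat.of B B :=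
  (ModuleCat.extendScalars.{u, u, u} (algebraMap A B)).map f ≫ μ B

lemma bcHom_add {M : ModuleCat.{u} A} (f g : M ⟶ ModuleCat.of A A) :
    bcHom B (f + g) = bcHom B f + bcHom B g := by
  unfold bcHom
  rw [Functor.map_add, Preadditive.add_comp]

lemma bcHom_smul {M : ModuleCat.{u} A} (a : A) (f : M ⟶ ModuleCat.of A A) :
    bcHom B (a • f) = algebraMap A B a • bcHom B f := by
  unfold bcHom
  rw [extendScalars_map_smul, Linear.smul_comp]

lemma bcHom_comp {M N : ModuleCat.{u} A} (g : N ⟶ M) (f : M ⟶ ModuleCat.of A A) :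
    bcHom B (g ≫ f) = (ModuleCat.extendScalars.{u, u, u} (algebraMap A B)).map g ≫ bcHom B f := by
  unfold bcHom
  rw [Functor.map_comp, Category.assoc]

lemma bcHom_apply {M : ModuleCat.{u} A} (f : M ⟶ ModuleCat.of A A) (b : B) (m : M) :
    (bcHom B f).hom ((extendScalarsEquiv B M).symm (b ⊗ₜ[A] m)) =
      b * algebraMap A B (f.hom m) := by
  change (TensorProduct.AlgebraTensorModule.rid A B B)
    (extendScalarsEquiv B (ModuleCat.of A A)
      (((ModuleCat.extendScalars.{u, u, u} (algebraMap A B)).map f).hom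
        ((extendScalarsEquiv B M).symm (b ⊗ₜ[A] m)))) = _
  rw [extendScalarsEquiv_naturality, LinearEquiv.apply_symm_apply, LinearMap.lTensor_tmul,
    TensorProduct.AlgebraTensorModule.rid_tmul, Algebra.smul_def, mul_comm]

variable (G : DRing.Cx A)

/-- `bcHom` on a term of a complex. -/
noncomputable def bcX (p : ℤ) (f : G.X p ⟶ ModuleCat.of A A) :
    ((extC (algebraMap A B)).obj G).X p ⟶ ModuleCat.of B B := bcHom B f

lemma bcX_add (p : ℤ) (f g : G.X p ⟶ ModuleCat.of A A) :
    bcX B G p (f + g) = bcX B G p f + bcX B G p g := bcHom_add B f g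

lemma bcX_smul (p : ℤ) (a : A) (f : G.X p ⟶ ModuleCat.of A A) :
    bcX B G p (a • f) = algebraMap A B a • bcX B G p f := bcHom_smul B a f

lemma bcX_comp (p' p : ℤ) (f : G.X p ⟶ ModuleCat.of A A) :
    bcX B G p' (G.d p' p ≫ f) = ((extC (algebraMap A B)).obj G).d p' p ≫ bcX B G p f :=
  bcHom_comp B (G.d p' p) f

/-- Base change of a cochain `G → A[0]`. -/
noncomputable def bcCochain (p n : ℤ) (h : p + n = 0) (c : Cochain G (VA A) n) :
    Cochain ((extC (algebraMap A B)).obj G) (VA B) n :=
  Cochain.toSingleMk (K := (extC (algebraMap A B)).obj G) (X := ModuleCat.of B B)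
    (bcX B G p (Cochain.toSingleEquiv (K := G) (X := ModuleCat.of A A) h c)) h

lemma toSingleEquiv_bcCochain (p n : ℤ) (h : p + n = 0) (c : Cochain G (VA A) n) :
    Cochain.toSingleEquiv (K := (extC (algebraMap A B)).obj G) (X := ModuleCat.of B B) h
      (bcCochain B G p n h c) =
      bcX B G p (Cochain.toSingleEquiv (K := G) (X := ModuleCat.of A A) h c) :=
  Cochain.toSingleEquiv_toSingleMk _ _

lemma bcCochain_toSingleMk (p n : ℤ) (h : p + n = 0) (f : G.X p ⟶ ModuleCat.of A A) :
    bcCochain B G p n h (Cochain.toSingleMk (K := G) (X := ModuleCat.of A A) f h) =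
      Cochain.toSingleMk (K := (extC (algebraMap A B)).obj G) (X := ModuleCat.of B B)
        (bcX B G p f) h := by
  unfold bcCochain
  rw [Cochain.toSingleEquiv_toSingleMk]

lemma bcCochain_add (p n : ℤ) (h : p + n = 0) (c c' : Cochain G (VA A) n) :
    bcCochain B G p n h (c + c') = bcCochain B G p n h c + bcCochain B G p n h c' := by
  unfold bcCochain
  rw [map_add, bcX_add, Cochain.toSingleMk_add]

lemma toSingleEquiv_smul (p n : ℤ) (h : p + n = 0) (a : A) (c : Cochain G (VA A) n) :
    Cochain.toSingleEquiv (K := G) (X := ModuleCat.of A A) h (a • c) =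
      a • Cochain.toSingleEquiv (K := G) (X := ModuleCat.of A A) h c := by
  apply ModuleCat.hom_ext
  exact (toDualAt G p n h).map_smul a c

lemma toSingleMk_smul (p n : ℤ) (h : p + n = 0) (a : A) (f : G.X p ⟶ ModuleCat.of A A) :
    Cochain.toSingleMk (K := G) (X := ModuleCat.of A A) (a • f) h =
      a • Cochain.toSingleMk (K := G) (X := ModuleCat.of A A) f h := by
  apply (Cochain.toSingleEquiv (K := G) (X := ModuleCat.of A A) h).injective
  rw [toSingleEquiv_smul, Cochain.toSingleEquiv_toSingleMk, Cochain.toSingleEquiv_toSingleMk]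

lemma bcCochain_smul (p n : ℤ) (h : p + n = 0) (a : A) (c : Cochain G (VA A) n) :
    bcCochain B G p n h (a • c) = algebraMap A B a • bcCochain B G p n h c := by
  unfold bcCochain
  rw [toSingleEquiv_smul, bcX_smul]
  exact toSingleMk_smul ((extC (algebraMap A B)).obj G) p n h _ _

lemma bcCochain_units_smul (p n : ℤ) (h : p + n = 0) (u : ℤˣ) (c : Cochain G (VA A) n) :
    bcCochain B G p n h (u • c) = u • bcCochain B G p n h c := by
  rcases Int.units_eq_one_or u with rfl | rfl
  · rw [one_smul, one_smul]
  · rw [Units.neg_smul, one_smul, Units.neg_smul, one_smul]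
    have := bcCochain_add B G p n h c (-c)
    rw [add_neg_cancel] at this
    have h0 : bcCochain B G p n h (0 : Cochain G (VA A) n) = 0 := by
      have := bcCochain_add B G p n h 0 0
      rw [add_zero] at this
      exact left_eq_add.mp this
    rw [h0] at this
    exact (neg_eq_of_add_eq_zero_right this.symm).symm

lemma δ_bcCochain (p n p' m : ℤ) (h : p + n = 0) (h' : p' + m = 0) (c : Cochain G (VA A) n) :
    δ n m (bcCochain B G p n h c) = bcCochain B G p' m h' (δ n m c) := by
  have hc : c = Cochain.toSingleMk (K := G) (X := ModuleCat.of A A)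
      (Cochain.toSingleEquiv (K := G) (X := ModuleCat.of A A) h c) h :=
    ((Cochain.toSingleEquiv (K := G) (X := ModuleCat.of A A) h).symm_apply_apply c).symm
  set f := Cochain.toSingleEquiv (K := G) (X := ModuleCat.of A A) h c
  rw [hc, bcCochain_toSingleMk,
    Cochain.δ_toSingleMk (K := G) (X := ModuleCat.of A A) f h m p' h',
    Cochain.δ_toSingleMk (K := (extC (algebraMap A B)).obj G) (X := ModuleCat.of B B)
      (bcX B G p f) h m p' h',
    bcCochain_units_smul, bcCochain_toSingleMk, bcX_comp]

end Groth.Agent.Lib.Helper13.DualExt
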