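import Groth.Agent.Lib.Helper13.DualExt1

/-!
# Base change of the dual of a complex of finite projective modules: the isomorphism
-/

set_option autoImplicit false
universe u
open CategoryTheory CategoryTheory.Limits TensorProduct
open CochainComplex CochainComplex.HomComplex HomologicalComplex

namespace Groth.Agent.Lib.Helper13.DualExt

open Groth.Agent.Lib.Helper13.BD Groth.Agent.Lib.Helper13.DR Groth.Agent.Lib.Helper13.PC
  Groth.Agent.Lib.Helper13.PZ

variable {A : Type u} (B : Type u) [CommRing A] [CommRing B] [Algebra A B] (G : DRing.Cx A)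

/-- The base change map on duals, before adjunction. -/
noncomputable def φ₀ : DRing.homCx G (VA A) ⟶
    (resC (algebraMap A B)).obj (DRing.homCx ((extC (algebraMap A B)).obj G) (VA B)) where
  f n := ModuleCat.ofHom (Y := (ModuleCat.restrictScalars.{u} (algebraMap A B)).obj
      (ModuleCat.of B (Cochain ((extC (algebraMap A B)).obj G) (VA B) n)))
    { toFun := fun c => bcCochain B G (-n) n (by omega) c
      map_add' := fun c c' => bcCochain_add B G (-n) n (by omega) c c'
      map_smul' := fun a c => bcCochain_smul B G (-n) n (by omega) a c }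
  comm' i j hij := by
    ext c
    exact δ_bcCochain B G (-i) i (-j) j (by omega) (by omega) c

lemma φ₀_f_apply (n : ℤ) (c : Cochain G (VA A) n) :
    ((φ₀ B G).f n).hom c = bcCochain B G (-n) n (by omega) c := rfl

/-- The base change map `B ⊗ Hom(G, A) → Hom(B ⊗ G, B)`. -/
noncomputable def Φ : (extC (algebraMap A B)).obj (DRing.homCx G (VA A)) ⟶
    DRing.homCx ((extC (algebraMap A B)).obj G) (VA B) :=
  ((adjC (algebraMap A B)).homEquiv _ _).symm (φ₀ B G)

lemma Φ_f (n : ℤ) : (Φ B G).f n =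
    ((ModuleCat.extendRestrictScalarsAdj.{u, u, u} (algebraMap A B)).homEquiv _ _).symm
      ((φ₀ B G).f n) := by
  unfold Φ
  rw [Adjunction.homEquiv_counit, Adjunction.homEquiv_counit]
  rfl

lemma Φ_f_apply_one_tmul (n : ℤ) (c : Cochain G (VA A) n) :
    ((Φ B G).f n).hom ((extendScalarsEquiv B (ModuleCat.of A (Cochain G (VA A) n))).symm
      ((1 : B) ⊗ₜ[A] c)) = bcCochain B G (-n) n (by omega) c := by
  rw [Φ_f, Adjunction.homEquiv_counit]
  change ((ModuleCat.extendRestrictScalarsAdj.{u, u, u} (algebraMap A B)).counit.app _).hom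
    (((ModuleCat.extendScalars.{u, u, u} (algebraMap A B)).map ((φ₀ B G).f n)).hom
      ((extendScalarsEquiv B (ModuleCat.of A (Cochain G (VA A) n))).symm ((1 : B) ⊗ₜ[A] c))) = _
  have h1 : ((ModuleCat.extendScalars.{u, u, u} (algebraMap A B)).map ((φ₀ B G).f n)).hom
      ((extendScalarsEquiv B (ModuleCat.of A (Cochain G (VA A) n))).symm ((1 : B) ⊗ₜ[A] c)) =
      (extendScalarsEquiv B _).symm ((1 : B) ⊗ₜ[A] ((φ₀ B G).f n).hom c) := rfl
  rw [h1]
  exact ModuleCat.extendRestrictScalarsAdj_counit_app_apply_one_tmul _ _ _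

theorem bijective_Φ_f (hfp : DRing.TermwiseFiniteProjective G) (n : ℤ) :
    Function.Bijective ((Φ B G).f n).hom := by
  obtain ⟨h1, h2⟩ := hfp (-n)
  let T := toDualAt G (-n) n (by omega)
  let T' := toDualAt ((extC (algebraMap A B)).obj G) (-n) n (by omega)
  let eM := extendScalarsEquiv B (G.X (-n))
  let eC := extendScalarsEquiv B (ModuleCat.of A (Cochain G (VA A) n))
  let s1 : B ⊗[A] (G.X (-n) →ₗ[A] A) ≃ₗ[B] B ⊗[A] Cochain G (VA A) n :=
    TensorProduct.AlgebraTensorModule.congr (LinearEquiv.refl B B) T.symm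
  let t1 : (((extC (algebraMap A B)).obj G).X (-n) →ₗ[B] B) ≃ₗ[B] (B ⊗[A] G.X (-n) →ₗ[B] B) :=
    LinearEquiv.congrLeft B B eM
  let β : B ⊗[A] (G.X (-n) →ₗ[A] A) →ₗ[B] (B ⊗[A] G.X (-n) →ₗ[B] B) :=
    t1.toLinearMap ∘ₗ T'.toLinearMap ∘ₗ ((Φ B G).f n).hom ∘ₗ eC.symm.toLinearMap ∘ₗ s1.toLinearMap
  have hβ : ∀ (f : G.X (-n) →ₗ[A] A) (m : G.X (-n)),
      β ((1 : B) ⊗ₜ f) ((1 : B) ⊗ₜ m) = algebraMap A B (f m) := by
    intro f m
    change T' (((Φ B G).f n).hom (eC.symm (s1 ((1 : B) ⊗ₜ f)))) (eM.symm ((1 : B) ⊗ₜ m)) = _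
    have hs : s1 ((1 : B) ⊗ₜ f) = (1 : B) ⊗ₜ T.symm f := rfl
    rw [hs, Φ_f_apply_one_tmul]
    change (Cochain.toSingleEquiv (K := (extC (algebraMap A B)).obj G) (X := ModuleCat.of B B)
      (show -n + n = 0 by omega) (bcCochain B G (-n) n (by omega) (T.symm f))).hom
        (eM.symm ((1 : B) ⊗ₜ m)) = _
    rw [toSingleEquiv_bcCochain]
    have hT : Cochain.toSingleEquiv (K := G) (X := ModuleCat.of A A)
        (show -n + n = 0 by omega) (T.symm f) = ModuleCat.ofHom f :=
      Cochain.toSingleEquiv_toSingleMk _ _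
    rw [hT]
    change (bcHom B (ModuleCat.ofHom f)).hom (eM.symm ((1 : B) ⊗ₜ m)) = _
    rw [bcHom_apply, one_mul]
    rfl
  have hb := DualAlg.bijective_of_apply_one_tmul β hβ
  have hfun : (β : B ⊗[A] (G.X (-n) →ₗ[A] A) → (B ⊗[A] G.X (-n) →ₗ[B] B)) =
      (T'.trans t1).toEquiv ∘ (((Φ B G).f n).hom ∘ (s1.trans eC.symm).toEquiv) := rfl
  rw [hfun] at hb
  exact (Equiv.bijective_comp _ _).1 ((Equiv.comp_bijective _ _).1 hb)

lemma isIso_Φ (hfp : DRing.TermwiseFiniteProjective G) : IsIso (Φ B G) := by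
  have : ∀ n, IsIso ((Φ B G).f n) := fun n =>
    (ConcreteCategory.isIso_iff_bijective _).2 (bijective_Φ_f B G hfp n)
  exact HomologicalComplex.Hom.isIso_of_components _

/-- `B ⊗ Hom(G, A) ≅ Hom(B ⊗ G, B)` for `G` termwise finite projective. -/
noncomputable def dualExtIso (hfp : DRing.TermwiseFiniteProjective G) :
    (extC (algebraMap A B)).obj (DRing.homCx G (VA A)) ≅
      DRing.homCx ((extC (algebraMap A B)).obj G) (VA B) :=
  haveI := isIso_Φ B G hfp
  asIso (Φ B G)

lemma termwiseFiniteProjective_ext (hfp : DRing.TermwiseFiniteProjective G) :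
    DRing.TermwiseFiniteProjective ((extC (algebraMap A B)).obj G) := fun i =>
  Pfp_extendScalars B (hfp i)

lemma vanishesOutside_ext (a b : ℤ) (hv : DRing.VanishesOutside G a b) :
    DRing.VanishesOutside ((extC (algebraMap A B)).obj G) a b := fun i hi =>
  Functor.map_isZero (ModuleCat.extendScalars.{u, u, u} (algebraMap A B)) (hv i hi)

end Groth.Agent.Lib.Helper13.DualExt
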