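import Groth.Agent.Lib.Helper13.DualBC33
import Groth.Agent.Lib.Helper13.DualBC31
import Groth.Agent.Lib.Helper13.DualBC17
import Groth.Agent.Lib.Helper18.SkAt

/-!
# Serre's conditions through a dualizing complex
-/

set_option autoImplicit false
set_option linter.unusedSectionVars false
set_option linter.style.haveILetI false

open CategoryTheory CategoryTheory.Limits Pretriangulated TensorProduct

universe u

namespace Groth.Agent.Lib.Helper13.SkDual

open DerivedCategory Groth.Agent.Lib.Helper13.Coind Groth.Agent.Lib.Helper13.PC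
  Groth.Agent.Lib.Helper13.DR Groth.Agent.Lib.Helper13.Shriek Groth.Agent.Lib.Helper13.BD
  Groth.Agent.Lib.Helper13.HomBC Groth.Agent.Lib.Helper13.DualBC

attribute [local instance] HasDerivedCategory.standard

section Range

variable (A : Type u) [CommRing A] [IsNoetherianRing A]

/-- The range of nonvanishing of `Ext^j(M, ω)_p`: from `t - dim M_p` to `t - depth M_p`, with
both ends attained. -/
theorem ext_support_range (ω : Dual.D A) (hω : Dual.IsDualizing A ω)
    (M : Type u) [AddCommGroup M] [Module A M] [Module.Finite A M] (p : PrimeSpectrum A)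
    [Nontrivial (LocalizedModule p.asIdeal.primeCompl M)] :
    ∃ (t : ℤ) (e d : ℕ),
      LocCoh.depth (Localization.AtPrime p.asIdeal) (LocalizedModule p.asIdeal.primeCompl M) = e ∧
      Module.supportDim (Localization.AtPrime p.asIdeal)
        (LocalizedModule p.asIdeal.primeCompl M) = d ∧ e ≤ d ∧
      (∀ j : ℤ, p ∈ Module.support A (Dual.inD A M ⟶ ω⟦j⟧) → t - d ≤ j ∧ j ≤ t - e) ∧
      p ∈ Module.support A (Dual.inD A M ⟶ ω⟦t - e⟧) ∧
      p ∈ Module.support A (Dual.inD A M ⟶ ω⟦t - d⟧) := by
  obtain ⟨T, hmono, hT⟩ := exists_strictMono_top A ω hω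
  have hd := isDualizing_flatBC_localization A p.asIdeal.primeCompl ω hω
  have hds := isDualizing_shift _ hd (T p)
  have hnorm := isNormalized_flatBC_shift_top A ω hω T hT p
  have key := mem_support_ext_iff_localized A ω hω M (T p) p
  obtain ⟨d, hdd⟩ := exists_supportDim_eq_nat (Localization.AtPrime p.asIdeal)
    (LocalizedModule p.asIdeal.primeCompl M)
  obtain ⟨e, he⟩ := ENat.ne_top_iff_exists.mp
    (Groth.Agent.Lib.Helper18.CM.depth_ne_top (R := Localization.AtPrime p.asIdeal)
      (LocalizedModule p.asIdeal.primeCompl M))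
  obtain ⟨F1a, F1b⟩ := depth_ext_aux _ hds hnorm e (LocalizedModule p.asIdeal.primeCompl M) he.symm
  have F2a := fun i => (extClaim _ hds hnorm d (LocalizedModule p.asIdeal.primeCompl M)
    (le_of_eq hdd) i).1
  have F2b := nontrivial_ext_neg_supportDim (Localization.AtPrime p.asIdeal) _ hds hnorm
    (LocalizedModule p.asIdeal.primeCompl M) d hdd
  have F3 := fun i hi => subsingleton_ext_pos _ hds hnorm (LocalizedModule p.asIdeal.primeCompl M)
    i hi
  have hed : e ≤ d := by
    by_contra hcon
    have := F1a d (by omega)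
    exact not_subsingleton _ this
  refine ⟨T p, e, d, he.symm, hdd, hed, fun j hj => ?_, ?_, ?_⟩
  · have h1 := (key j (j - T p) (by ring)).1 hj
    constructor
    · by_contra hcon
      have := F2a (j - T p) (by omega)
      exact not_subsingleton _ this
    · by_contra hcon
      by_cases hpos : 0 < j - T p
      · have := F3 _ hpos
        exact not_subsingleton _ this
      · obtain ⟨δ, hδ⟩ : ∃ δ : ℕ, j - T p = -(δ : ℤ) := ⟨(-(j - T p)).toNat, by omega⟩
        rw [hδ] at h1
        have := F1a δ (by omega)
        exact not_subsingleton _ this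
  · exact (key (T p - e) (-(e : ℤ)) (by ring)).2 F1b
  · exact (key (T p - d) (-(d : ℤ)) (by ring)).2 F2b

/-- The pointwise `(S_k)` inequality in terms of the supports of the `Ext^j(M, ω)`. -/
theorem skIneq_iff (ω : Dual.D A) (hω : Dual.IsDualizing A ω)
    (M : Type u) [AddCommGroup M] [Module A M] [Module.Finite A M] (k : ℕ) (p : PrimeSpectrum A) :
    Groth.Agent.Lib.Helper18.SkAt.SkIneq M k p.asIdeal ↔
      ∀ (i j : ℤ), j < i →
        p ∈ Module.support A (Dual.inD A M ⟶ ω⟦i⟧) → p ∈ Module.support A (Dual.inD A M ⟶ ω⟦j⟧) →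
          (((k : ℤ) + i - j).toNat : WithBot ℕ∞) ≤
            Module.supportDim (Localization.AtPrime p.asIdeal)
              (LocalizedModule p.asIdeal.primeCompl M) := by
  by_cases hsub : Subsingleton (LocalizedModule p.asIdeal.primeCompl M)
  · -- the zero module
    have h1 : Module.supportDim (Localization.AtPrime p.asIdeal)
        (LocalizedModule p.asIdeal.primeCompl M) = ⊥ :=
      Module.supportDim_eq_bot_of_subsingleton _ _
    constructor
    · intro _ i j _ hi _
      exfalso
      obtain ⟨a, hGE⟩ := exists_isGE_of_isDualizing ω hω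
      have hz : IsZero (Dual.inD (Localization.AtPrime p.asIdeal)
          (LocalizedModule p.asIdeal.primeCompl M)) :=
        Functor.map_isZero _ (ModuleCat.isZero_of_subsingleton _)
      have h2 := (mem_support_ext_iff_localized A ω hω M 0 p i i (by ring)).1 hi
      have : Subsingleton (Dual.inD (Localization.AtPrime p.asIdeal)
          (LocalizedModule p.asIdeal.primeCompl M) ⟶
          (((flatBC A (Localization.AtPrime p.asIdeal)).obj ω)⟦(0 : ℤ)⟧)⟦i⟧) :=
        ⟨fun f g => hz.eq_of_src f g⟩
      exact not_subsingleton _ this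
    · intro _
      unfold Groth.Agent.Lib.Helper18.SkAt.SkIneq
      rw [h1]
      simp
  · rw [not_subsingleton_iff_nontrivial] at hsub
    obtain ⟨t, e, d, he, hd, hed, hrange, hmemE, hmemD⟩ := ext_support_range A ω hω M p
    unfold Groth.Agent.Lib.Helper18.SkAt.SkIneq
    rw [he, hd]
    constructor
    · intro h i j hji hi hj
      obtain ⟨hi1, hi2⟩ := hrange i hi
      obtain ⟨hj1, hj2⟩ := hrange j hj
      have hlt : e < d := by omega
      have hke : k ≤ e := by
        have h2 : min (k : WithBot ℕ∞) ((d : ℕ) : WithBot ℕ∞) ≤ (((e : ℕ) : ℕ∞) : WithBot ℕ∞) := h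
        by_contra hcon
        have hmin : min (k : WithBot ℕ∞) ((d : ℕ) : WithBot ℕ∞) = (((min k d : ℕ) : ℕ∞) : WithBot ℕ∞) := by
          push_cast
          rfl
        rw [hmin] at h2
        have h3 : min k d ≤ e := by exact_mod_cast h2
        omega
      have : ((k : ℤ) + i - j).toNat ≤ d := by omega
      exact_mod_cast this
    · intro h
      by_cases hlt : e < d
      · have h2 := h (t - e) (t - d) (by omega) hmemE hmemD
        have h3 : ((k : ℤ) + (t - e) - (t - d)).toNat = k + d - e := by omega
        rw [h3] at h2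
        have h4 : k + d - e ≤ d := by exact_mod_cast h2
        have hke : k ≤ e := by omega
        have : ((k : ℕ) : WithBot ℕ∞) ≤ (((e : ℕ) : ℕ∞) : WithBot ℕ∞) := by exact_mod_cast hke
        exact le_trans (min_le_left _ _) this
      · have hde : d = e := by omega
        subst hde
        exact min_le_right _ _

end Range

end Groth.Agent.Lib.Helper13.SkDual
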