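import Groth.Agent.Lib.Helper13.DRingGlDim
import Groth.Agent.Lib.Helper13.DRingTrunc
import Mathlib.Algebra.Homology.DerivedCategory.Ext.EnoughInjectives
import Mathlib.Algebra.Homology.DerivedCategory.Linear
import Mathlib.Algebra.Category.ModuleCat.Injective
import Mathlib.CategoryTheory.Triangulated.TStructure.TruncLEGT
import Mathlib.Algebra.Homology.DerivedCategory.TStructure

set_option autoImplicit false
universe u
open CategoryTheory CategoryTheory.Limits Pretriangulated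

namespace Groth.Agent.Lib.Helper13.TT

section Abstract

variable {R : Type*} [CommRing R] {D : Type*} [Category D] [Preadditive D] [Linear R D]

lemma smul_id_of_iso {X Y : D} (e : X ≅ Y) (a : R) (h : a • 𝟙 X = 0) : a • 𝟙 Y = 0 := by
  have : a • 𝟙 Y = e.inv ≫ (a • 𝟙 X) ≫ e.hom := by
    rw [Linear.smul_comp, Linear.comp_smul, Category.id_comp, e.inv_hom_id]
  rw [this, h, zero_comp, comp_zero]

lemma smul_id_map {E : Type*} [Category E] [Preadditive E] [Linear R E] (F : D ⥤ E) [F.Additive]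
    [F.Linear R] {X : D} (a : R) (h : a • 𝟙 X = 0) : a • 𝟙 (F.obj X) = 0 := by
  rw [← F.map_id, ← F.map_smul, h, F.map_zero]

lemma smul_id_of_map_faithful {E : Type*} [Category E] [Preadditive E] [Linear R E] (F : D ⥤ E)
    [F.Additive] [F.Linear R] [F.Faithful] {X : D} (a : R) (h : a • 𝟙 (F.obj X) = 0) :
    a • 𝟙 X = 0 :=
  F.map_injective (by rw [F.map_smul, F.map_id, h, F.map_zero])

lemma smul_eq_smul_id_comp {X Y : D} (a : R) (f : X ⟶ Y) : a • f = (a • 𝟙 X) ≫ f := by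
  rw [Linear.smul_comp, Category.id_comp]

variable [HasZeroObject D] [HasShift D ℤ] [∀ n : ℤ, (shiftFunctor D n).Additive] [Pretriangulated D]

/-- Lemma A -/
lemma smul_eq_zero_obj₃ (T : Triangle D) (hT : T ∈ distTriang D) (Z : D)
    (hZ : ∀ f : T.obj₁⟦(1 : ℤ)⟧ ⟶ Z, f = 0) (a : R) (h : ∀ ξ : T.obj₂ ⟶ Z, a • ξ = 0)
    (η : T.obj₃ ⟶ Z) : a • η = 0 := by
  have h1 : T.mor₂ ≫ (a • η) = 0 := by rw [Linear.comp_smul]; exact h _
  obtain ⟨g, hg⟩ := Triangle.yoneda_exact₃ T hT (a • η) h1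
  rw [hg, hZ g, comp_zero]

/-- Lemma B -/
lemma mul_smul_eq_zero_obj₂ (T : Triangle D) (hT : T ∈ distTriang D) (Z : D) (b b' : R)
    (hX : b' • 𝟙 T.obj₁ = 0) (hY : ∀ η : T.obj₃ ⟶ Z, b • η = 0) (ξ : T.obj₂ ⟶ Z) :
    (b * b') • ξ = 0 := by
  have h1 : T.mor₁ ≫ (b' • ξ) = 0 := by
    rw [Linear.comp_smul, ← Linear.smul_comp, smul_eq_smul_id_comp b' T.mor₁, hX, zero_comp,
      zero_comp]
  obtain ⟨η, hη⟩ := Triangle.yoneda_exact₂ T hT (b' • ξ) h1
  rw [mul_smul, hη, ← Linear.comp_smul, hY η, comp_zero]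

/-- Lemma C -/
lemma smul_eq_zero_obj₁ (T : Triangle D) (hT : T ∈ distTriang D) (Z : D) (j : T.obj₁ ⟶ Z)
    (hZ : ∀ f : T.obj₃⟦(-1 : ℤ)⟧ ⟶ Z, f = 0) (a : R) (h : ∀ ξ : T.obj₂ ⟶ Z, a • ξ = 0) :
    a • j = 0 := by
  have hT' := inv_rot_of_distTriang _ hT
  obtain ⟨ξ, hξ⟩ := Triangle.yoneda_exact₂ T.invRotate hT' (X := Z) j (hZ _)
  have : j = T.mor₁ ≫ ξ := hξ
  rw [this, ← Linear.comp_smul, h ξ, comp_zero]

end Abstract

section Concrete

open DerivedCategory Groth.Agent.Lib.Helper13.DR Groth.Agent.Lib.Helper13.PC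

attribute [local instance] HasDerivedCategory.standard

variable {R : Type u} [CommRing R]

/-- A module in degree `0`. -/
noncomputable abbrev S₀ (M : ModuleCat.{u} R) : Dual.D R :=
  (DerivedCategory.singleFunctor (ModuleCat.{u} R) 0).obj M

lemma smul_id_eq_zero_iff (M : ModuleCat.{u} R) (a : R) :
    a • 𝟙 M = 0 ↔ ∀ x : M, a • x = 0 := by
  constructor
  · intro h x
    have := congrArg (fun f => f.hom x) h
    simpa using this
  · intro h
    ext x
    simpa using h x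

/-- `Ext²` into an injective module vanishes. -/
lemma subsingleton_hom_two_of_injective (M J : ModuleCat.{u} R) [Injective J] :
    Subsingleton (S₀ M ⟶ (S₀ J)⟦(2 : ℤ)⟧) := by
  let _ := HasExt.standard (ModuleCat.{u} R)
  have := Abelian.Ext.subsingleton_of_injective M J 1
  exact (Abelian.Ext.homEquiv (X := M) (Y := J) (n := 1 + 1)).symm.subsingleton

lemma hom_shift_neg_one_eq_zero_of_injective (Y : Dual.D R) (M J : ModuleCat.{u} R) [Injective J]
    (eY : Y ≅ S₀ M) (f : Y⟦(-1 : ℤ)⟧ ⟶ (S₀ J)⟦(1 : ℤ)⟧) : f = 0 := by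
  have h1 := subsingleton_hom_two_of_injective M J
  have h2 : Subsingleton (Y ⟶ ((S₀ J)⟦(1 : ℤ)⟧)⟦(1 : ℤ)⟧) := by
    refine ⟨fun φ ψ => ?_⟩
    rw [← cancel_epi eY.inv, ← cancel_mono ((shiftFunctorAdd' (Dual.D R) 1 1 2 (by lia)).inv.app _)]
    exact h1.elim _ _
  have h3 := (subsingleton_hom_shift_iff Y ((S₀ J)⟦(1 : ℤ)⟧) 1).1 h2
  exact h3.elim _ _

theorem twoTerm_iff (I : Ideal R) (K : Dual.D R)
    (hK : ∀ i : ℤ, i ≠ -1 → i ≠ 0 → Subsingleton (Dual.HD R K i)) :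
    (∃ c : ℕ, ∀ (N : Type u) [AddCommGroup N] [Module R N] (a : R), a ∈ I ^ c →
        ∀ ξ : K ⟶ (Dual.inD R N)⟦(1 : ℤ)⟧, a • ξ = 0) ↔
      ∃ c : ℕ, (∀ a : R, a ∈ I ^ c → ∀ x : Dual.HD R K (-1), a • x = 0) ∧
        ∀ (N : Type u) [AddCommGroup N] [Module R N] (a : R), a ∈ I ^ c →
          ∀ ξ : Dual.inD R (Dual.HD R K 0) ⟶ (Dual.inD R N)⟦(1 : ℤ)⟧, a • ξ = 0 := by
  let t := DerivedCategory.TStructure.t (C := ModuleCat.{u} R)
  have hGE : K.IsGE (-1) := by
    rw [isGE_iff]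
    intro i hi
    exact (isZero_iff_subsingleton _).2 (hK i (by lia) (by lia))
  have hLE : K.IsLE 0 := by
    rw [isLE_iff]
    intro i hi
    exact (isZero_iff_subsingleton _).2 (hK i (by lia) (by lia))
  let T := (t.triangleLEGE (-1) 0 (by lia)).obj K
  have hT : T ∈ distTriang _ := t.triangleLEGE_distinguished (-1) 0 (by lia) K
  let X : Dual.D R := (t.truncLE (-1)).obj K
  let Y : Dual.D R := (t.truncGE 0).obj K
  have : t.IsGE K (-1) := hGE
  have : t.IsLE K 0 := hLE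
  have hX1 : X.IsLE (-1) := (inferInstance : t.IsLE ((t.truncLE (-1)).obj K) (-1))
  have hX2 : X.IsGE (-1) := (inferInstance : t.IsGE ((t.truncLE (-1)).obj K) (-1))
  have hY1 : Y.IsGE 0 := (inferInstance : t.IsGE ((t.truncGE 0).obj K) 0)
  have hY2 : Y.IsLE 0 := (inferInstance : t.IsLE ((t.truncGE 0).obj K) 0)
  obtain ⟨M, ⟨eX⟩⟩ := exists_iso_singleFunctor_obj_of_isGE_of_isLE X (-1)
  obtain ⟨M0, ⟨eY⟩⟩ := exists_iso_singleFunctor_obj_of_isGE_of_isLE Y 0
  -- homology isomorphisms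
  have hα : IsIso ((homologyFunctor (ModuleCat.{u} R) (-1)).map T.mor₁) := by
    have h1 : Mono ((homologyFunctor (ModuleCat.{u} R) (-1)).map T.mor₁) := by
      rw [HomologySequence.mono_homologyMap_mor₁_iff T hT (-2) (-1) (by lia)]
      exact (isZero_of_isGE Y 0 (-2) (by lia)).eq_of_src _ _
    have h2 : Epi ((homologyFunctor (ModuleCat.{u} R) (-1)).map T.mor₁) := by
      rw [HomologySequence.epi_homologyMap_mor₁_iff T hT (-1)]
      exact (isZero_of_isGE Y 0 (-1) (by lia)).eq_of_tgt _ _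
    exact isIso_of_mono_of_epi _
  have hβ : IsIso ((homologyFunctor (ModuleCat.{u} R) 0).map T.mor₂) := by
    have h1 : Mono ((homologyFunctor (ModuleCat.{u} R) 0).map T.mor₂) := by
      rw [HomologySequence.mono_homologyMap_mor₂_iff T hT 0]
      exact (isZero_of_isLE X (-1) 0 (by lia)).eq_of_src _ _
    have h2 : Epi ((homologyFunctor (ModuleCat.{u} R) 0).map T.mor₂) := by
      rw [HomologySequence.epi_homologyMap_mor₂_iff T hT 0 1 (by lia)]
      exact (isZero_of_isLE X (-1) 1 (by lia)).eq_of_tgt _ _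
    exact isIso_of_mono_of_epi _
  let eM : M ≅ (homologyFunctor (ModuleCat.{u} R) (-1)).obj K :=
    ((singleFunctorCompHomologyFunctorIso (ModuleCat.{u} R) (-1)).app M).symm ≪≫
      (homologyFunctor (ModuleCat.{u} R) (-1)).mapIso eX.symm ≪≫
      @asIso _ _ _ _ _ hα
  let eM0 : (homologyFunctor (ModuleCat.{u} R) 0).obj K ≅ M0 :=
    @asIso _ _ _ _ _ hβ ≪≫
      (homologyFunctor (ModuleCat.{u} R) 0).mapIso eY ≪≫
      (singleFunctorCompHomologyFunctorIso (ModuleCat.{u} R) 0).app M0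
  let θ : Y ≅ Dual.inD R (Dual.HD R K 0) :=
    eY ≪≫ (DerivedCategory.singleFunctor (ModuleCat.{u} R) 0).mapIso eM0.symm
  have kX : ∀ a : R, a • 𝟙 X = 0 ↔ ∀ x : Dual.HD R K (-1), a • x = 0 := by
    intro a
    rw [← smul_id_eq_zero_iff]
    constructor
    · intro h
      exact smul_id_of_iso eM a (smul_id_of_map_faithful
        (DerivedCategory.singleFunctor (ModuleCat.{u} R) (-1)) a (smul_id_of_iso eX a h))
    · intro h
      exact smul_id_of_iso eX.symm a (smul_id_map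
        (DerivedCategory.singleFunctor (ModuleCat.{u} R) (-1)) a (smul_id_of_iso eM.symm a h))
  have van1 : ∀ (N : ModuleCat.{u} R) (f : X⟦(1 : ℤ)⟧ ⟶ (S₀ N)⟦(1 : ℤ)⟧), f = 0 := by
    intro N f
    have : t.IsLE X (-1) := hX1
    have : t.IsGE (S₀ N) 0 := (inferInstance : (S₀ N).IsGE 0)
    exact t.zero_of_isLE_of_isGE f (-2) (-1) (by lia) (t.isLE_shift X (-1) 1 (-2))
      (t.isGE_shift (S₀ N) 0 1 (-1))
  constructor
  · rintro ⟨c, hc⟩
    refine ⟨c, fun a ha => ?_, fun N _ _ a ha ξ => ?_⟩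
    · rw [← kX]
      obtain ⟨J, ι, hJ, hι⟩ : ∃ (J : ModuleCat.{u} R) (ι : M ⟶ J), Injective J ∧ Mono ι :=
        ⟨_, Injective.ι M, inferInstance, inferInstance⟩
      let σ := shiftSingleNatIso (C := ModuleCat.{u} R) 1 (-1) (by lia)
      let j : X ⟶ (S₀ J)⟦(1 : ℤ)⟧ :=
        eX.hom ≫ (DerivedCategory.singleFunctor (ModuleCat.{u} R) (-1)).map ι ≫ σ.inv.app J
      have hj : a • j = 0 := smul_eq_zero_obj₁ T hT _ j
        (fun f => hom_shift_neg_one_eq_zero_of_injective Y M0 J eY f) a (fun ξ => hc J a ha ξ)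
      have h1 : a • (DerivedCategory.singleFunctor (ModuleCat.{u} R) (-1)).map ι = 0 := by
        have : (DerivedCategory.singleFunctor (ModuleCat.{u} R) (-1)).map ι =
            eX.inv ≫ j ≫ σ.hom.app J := by
          simp only [j, Category.assoc, Iso.inv_hom_id_assoc, Iso.inv_hom_id_app, Category.comp_id]
        rw [this, ← Linear.comp_smul, ← Linear.smul_comp, hj, zero_comp, comp_zero]
      have h2 : a • ι = 0 :=
        (DerivedCategory.singleFunctor (ModuleCat.{u} R) (-1)).map_injective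
          (by rw [Functor.map_smul, h1, Functor.map_zero])
      have h3 : a • 𝟙 M = 0 := by
        rw [← cancel_mono ι, Linear.smul_comp, Category.id_comp, h2, zero_comp]
      exact smul_id_of_iso eX.symm a
        (smul_id_map (DerivedCategory.singleFunctor (ModuleCat.{u} R) (-1)) a h3)
    · have h : a • (θ.hom ≫ ξ) = 0 :=
        smul_eq_zero_obj₃ T hT _ (van1 (ModuleCat.of R N)) a (fun ξ => hc N a ha ξ) (θ.hom ≫ ξ)
      have : a • ξ = θ.inv ≫ (a • (θ.hom ≫ ξ)) := by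
        rw [Linear.comp_smul, θ.inv_hom_id_assoc]
      rw [this, h, comp_zero]
  · rintro ⟨c, hc1, hc2⟩
    refine ⟨c + c, fun N _ _ a ha ξ => ?_⟩
    rw [pow_add] at ha
    refine Submodule.mul_induction_on (C := fun r => r • ξ = 0) ha (fun b hb b' hb' => ?_)
      (fun x y hx hy => ?_)
    · refine mul_smul_eq_zero_obj₂ T hT _ b b' ((kX b').2 (hc1 b' hb')) ?_ ξ
      intro (η : Y ⟶ (Dual.inD R N)⟦(1 : ℤ)⟧)
      show b • η = 0
      have h := hc2 N b hb (θ.inv ≫ η)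
      have : b • η = θ.hom ≫ (b • (θ.inv ≫ η)) := by
        rw [Linear.comp_smul, θ.hom_inv_id_assoc]
      rw [this, h, comp_zero]
    · show (x + y) • ξ = 0
      rw [add_smul, hx, hy, add_zero]

end Concrete

end Groth.Agent.Lib.Helper13.TT
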