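import Mathlib
import Groth.Agent.Lib.Helper13.SkDual1
import Groth.Agent.Lib.Helper13.DualBC20
import Groth.Agent.Lib.Helper13.TwoTerm

set_option autoImplicit false
set_option linter.style.haveILetI false
set_option linter.unusedSectionVars false

universe u

open CategoryTheory CategoryTheory.Limits Pretriangulated

namespace Groth.Agent.Lib.Helper13.DualMod

open DerivedCategory Groth.Agent.Lib.Helper13.DR Groth.Agent.Lib.Helper13.DualBC
  Groth.Agent.Lib.Helper13.PC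

attribute [local instance] HasDerivedCategory.standard

section Trunc

variable {A : Type u} [CommRing A]

/-- The lowest cohomology triangle: for `K ∈ D^{≥ a}` there is a distinguished triangle
`X → K → Y → X[1]` with `X ≅ H^a(K)[-a]` and `Y ∈ D^{≥ a+1}`. -/
lemma exists_lowest_triangle (K : Dual.D A) (a : ℤ) [K.IsGE a] :
    ∃ (T : Triangle (Dual.D A)), T ∈ distTriang (Dual.D A) ∧ T.obj₂ = K ∧
      T.obj₃.IsGE (a + 1) ∧
      Nonempty (T.obj₁ ≅ (DerivedCategory.singleFunctor (ModuleCat.{u} A) a).obj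
        ((DerivedCategory.homologyFunctor (ModuleCat.{u} A) a).obj K)) := by
  let t := DerivedCategory.TStructure.t (C := ModuleCat.{u} A)
  let T := (t.triangleLEGE a (a + 1) rfl).obj K
  have hT : T ∈ distTriang _ := t.triangleLEGE_distinguished a (a + 1) rfl K
  let X : Dual.D A := (t.truncLE a).obj K
  let Y : Dual.D A := (t.truncGE (a + 1)).obj K
  have : t.IsGE K a := (inferInstance : K.IsGE a)
  have hX1 : X.IsLE a := (inferInstance : t.IsLE ((t.truncLE a).obj K) a)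
  have hX2 : X.IsGE a := (inferInstance : t.IsGE ((t.truncLE a).obj K) a)
  have hY1 : Y.IsGE (a + 1) := (inferInstance : t.IsGE ((t.truncGE (a + 1)).obj K) (a + 1))
  obtain ⟨M, ⟨eX⟩⟩ := exists_iso_singleFunctor_obj_of_isGE_of_isLE X a
  have hα : IsIso ((homologyFunctor (ModuleCat.{u} A) a).map T.mor₁) := by
    have h1 : Mono ((homologyFunctor (ModuleCat.{u} A) a).map T.mor₁) := by
      rw [HomologySequence.mono_homologyMap_mor₁_iff T hT (a - 1) a (by lia)]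
      exact (isZero_of_isGE Y (a + 1) (a - 1) (by lia)).eq_of_src _ _
    have h2 : Epi ((homologyFunctor (ModuleCat.{u} A) a).map T.mor₁) := by
      rw [HomologySequence.epi_homologyMap_mor₁_iff T hT a]
      exact (isZero_of_isGE Y (a + 1) a (by lia)).eq_of_tgt _ _
    exact isIso_of_mono_of_epi _
  let eM : M ≅ (homologyFunctor (ModuleCat.{u} A) a).obj K :=
    ((singleFunctorCompHomologyFunctorIso (ModuleCat.{u} A) a).app M).symm ≪≫
      (homologyFunctor (ModuleCat.{u} A) a).mapIso eX.symm ≪≫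
      @asIso _ _ _ _ _ hα
  exact ⟨T, hT, rfl, hY1, ⟨eX ≪≫ (DerivedCategory.singleFunctor (ModuleCat.{u} A) a).mapIso eM⟩⟩

end Trunc

section Local

variable (A : Type u) [CommRing A] [IsLocalRing A] [IsNoetherianRing A]

/-- `Ext^{-δ}(H^{-e}(ω), ω) = 0` for `δ < min(2, e)`, when `ω` is a normalized dualizing complex
with `H^i(ω) = 0` for `i < -e`. -/
theorem subsingleton_hom_lowest (ω : Dual.D A) (hω : Dual.IsDualizing A ω)
    (hn : Dual.IsNormalized A ω) (e : ℕ)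
    (hGE : ∀ i : ℤ, i < -(e : ℤ) → Subsingleton (Dual.HD A ω i)) (δ : ℕ) (hδ2 : δ < 2)
    (hδe : δ < e) :
    Subsingleton (Dual.inD A (Dual.HD A ω (-(e : ℤ))) ⟶ ω⟦(-(δ : ℤ))⟧) := by
  haveI : ω.IsGE (-(e : ℤ)) := isGE_of_subsingleton_HD ω _ hGE
  obtain ⟨T, hT, hT2, hY, ⟨eX⟩⟩ := exists_lowest_triangle ω (-(e : ℤ))
  obtain ⟨c, hinj⟩ := hasInjAmplitudeIn_of_normalized ω hω hn
  let j : ℤ := (e : ℤ) - δ
  have hj0 : j ≠ 0 := by
    change (e : ℤ) - δ ≠ 0
    omega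
  -- `Hom(X, ω[j]) = 0`
  have hX : ∀ φ : T.obj₁ ⟶ ω⟦j⟧, φ = 0 := by
    intro φ
    let T' := T.invRotate
    have hT' : T' ∈ distTriang _ := inv_rot_of_distTriang _ hT
    haveI : T.obj₃.IsGE (-(e : ℤ) + 1) := hY
    haveI : (T.obj₃⟦(-1 : ℤ)⟧).IsGE (-(e : ℤ) + 2) :=
      DerivedCategory.TStructure.t.isGE_shift T.obj₃ (-(e : ℤ) + 1) (-1) (-(e : ℤ) + 2) (by ring)
    have h1 : Subsingleton (T.obj₃⟦(-1 : ℤ)⟧ ⟶ ω⟦j⟧) :=
      subsingleton_hom_of_isGE_of_hasInjAmplitudeIn (T.obj₃⟦(-1 : ℤ)⟧) ω (-(e : ℤ) + 2) c 0 hinj j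
        (by change 0 - (-(e : ℤ) + 2) < (e : ℤ) - δ; omega)
    have h2 : T'.mor₁ ≫ φ = 0 := h1.elim _ _
    obtain ⟨g, hg⟩ := Triangle.yoneda_exact₂ T' hT' φ h2
    have hs : Subsingleton (T.obj₂ ⟶ ω⟦j⟧) := by
      rw [hT2]
      exact hω.ext_self_subsingleton j hj0
    have hg0 : g = 0 := hs.elim _ _
    rw [hg, hg0, comp_zero]
    rfl
  -- translate to the module
  let K : ModuleCat.{u} A := (DerivedCategory.homologyFunctor (ModuleCat.{u} A) (-(e : ℤ))).obj ω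
  let ι : (Dual.inD A K)⟦(e : ℤ)⟧ ≅ T.obj₁ :=
    ((DerivedCategory.singleFunctors (ModuleCat.{u} A)).shiftIso (e : ℤ) (-(e : ℤ)) 0
      (by simp)).app K ≪≫ eX.symm
  refine ⟨fun f g => ?_⟩
  apply (shiftFunctor (Dual.D A) (e : ℤ)).map_injective
  let θ := (shiftFunctorAdd' (Dual.D A) (-(δ : ℤ)) (e : ℤ) j
    (by change -(δ : ℤ) + e = e - δ; ring)).inv.app ω
  have hf := hX (ι.inv ≫ (shiftFunctor (Dual.D A) (e : ℤ)).map f ≫ θ)
  have hg := hX (ι.inv ≫ (shiftFunctor (Dual.D A) (e : ℤ)).map g ≫ θ)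
  have h3 : ι.inv ≫ (shiftFunctor (Dual.D A) (e : ℤ)).map f ≫ θ =
      ι.inv ≫ (shiftFunctor (Dual.D A) (e : ℤ)).map g ≫ θ := hf.trans hg.symm
  have h4 := (cancel_epi ι.inv).mp h3
  exact (cancel_mono θ).mp h4

end Local

end Groth.Agent.Lib.Helper13.DualMod
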