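import Mathlib
import Groth.Agent.Lib.Helper13.DualMod1
import Groth.Agent.Lib.Helper13.DualBC33
import Groth.Agent.S0366

set_option autoImplicit false
set_option linter.style.haveILetI false
set_option linter.unusedSectionVars false

universe u

open CategoryTheory CategoryTheory.Limits Pretriangulated

namespace Groth.Agent.Lib.Helper13.DualMod

open DerivedCategory Groth.Agent.Lib.Helper13.DR Groth.Agent.Lib.Helper13.DualBC
  Groth.Agent.Lib.Helper13.PC

attribute [local instance] HasDerivedCategory.standard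

section Comb

variable {A : Type u} [CommRing A]

/-- A prime with `ht p + dim A/p ≥ dim A` contains a minimal prime of maximal coheight. -/
lemma exists_minimalPrime_of_le_height_add_coheight (d : ℕ) (hd : ringKrullDim A = d)
    (p : PrimeSpectrum A) (h : (d : ℕ∞) ≤ Order.height p + Order.coheight p) :
    ∃ q ∈ minimalPrimes A, q ≤ p.asIdeal ∧ ringKrullDim (A ⧸ q) = d := by
  have hkd : Order.krullDim (PrimeSpectrum A) = d := hd
  have hh : (Order.height p : WithBot ℕ∞) ≤ d := hkd ▸ Order.height_le_krullDim p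
  have hc : (Order.coheight p : WithBot ℕ∞) ≤ d := hkd ▸ Order.coheight_le_krullDim p
  have hh' : Order.height p ≤ (d : ℕ∞) := by exact_mod_cast hh
  have hc' : Order.coheight p ≤ (d : ℕ∞) := by exact_mod_cast hc
  obtain ⟨n, hn⟩ := ENat.ne_top_iff_exists.mp (ne_top_of_le_ne_top (ENat.natCast_ne_top d) hh')
  obtain ⟨m, hm⟩ := ENat.ne_top_iff_exists.mp (ne_top_of_le_ne_top (ENat.natCast_ne_top d) hc')
  obtain ⟨p₁, hlast, hlen₁⟩ := Order.exists_series_of_height_eq_coe p hn.symm
  obtain ⟨p₂, hhead, hlen₂⟩ := Order.exists_series_of_coheight_eq_coe p hm.symm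
  let s := p₁.smash p₂ (by rw [hlast, hhead])
  let q : PrimeSpectrum A := p₁.head
  have hq0 : Order.height q = 0 := by
    have := Order.height_eq_index_of_length_eq_height_last (p := p₁)
      (by rw [hlast, ← hn, hlen₁]) 0
    change Order.height (p₁ 0) = 0
    rw [this]
    rfl
  have hqmin : q.asIdeal ∈ minimalPrimes A :=
    PrimeSpectrum.isMin_iff.1 (Order.height_eq_zero.1 hq0)
  have hqp : q ≤ p := hlast ▸ LTSeries.head_le_last p₁
  have hsl : s.length = n + m := by
    change (p₁.smash p₂ _).length = n + m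
    rw [RelSeries.smash_length, hlen₁, hlen₂]
  have hsh : s.head = q := RelSeries.head_smash _
  have h1 : ((n + m : ℕ) : ℕ∞) ≤ Order.coheight q := by
    have := Order.length_le_coheight_head (p := s)
    rw [hsl, hsh] at this
    exact this
  have h2 : (d : ℕ∞) ≤ Order.coheight q := by
    rw [← hn, ← hm] at h
    exact h.trans (by exact_mod_cast h1)
  have h3 : (Order.coheight q : WithBot ℕ∞) ≤ d := hkd ▸ Order.coheight_le_krullDim q
  refine ⟨q.asIdeal, hqmin, hqp, ?_⟩
  rw [ringKrullDim_quotient_eq_coheight]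
  exact le_antisymm h3 (by exact_mod_cast h2)

lemma height_add_coheight_le (d : ℕ) (hd : ringKrullDim A = d) (p : PrimeSpectrum A) :
    Order.height p + Order.coheight p ≤ (d : ℕ∞) := by
  have hkd : Order.krullDim (PrimeSpectrum A) = d := hd
  haveI : Nonempty (PrimeSpectrum A) := ⟨p⟩
  have h1 : ((Order.height p + Order.coheight p : ℕ∞) : WithBot ℕ∞) ≤
      Order.krullDim (PrimeSpectrum A) := by
    rw [Order.krullDim_eq_iSup_height_add_coheight_of_nonempty]
    exact WithBot.coe_le_coe.2 (le_iSup (fun a : PrimeSpectrum A =>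
      Order.height a + Order.coheight a) p)
  rw [hkd] at h1
  exact_mod_cast h1

end Comb

section Shift

/-- Cohomology of a shift, linearly, with a free index. -/
noncomputable def HDShiftLinearEquiv' {B : Type u} [CommRing B] (K : Dual.D B) (n j k : ℤ)
    (h : n + j = k) : Dual.HD B (K⟦n⟧) j ≃ₗ[B] Dual.HD B K k :=
  (show ((DerivedCategory.homologyFunctor (ModuleCat.{u} B) j).obj (K⟦n⟧)) ≃ₗ[B]
      (((DerivedCategory.homologyFunctor (ModuleCat.{u} B) 0).shift k).obj K) from
    (((DerivedCategory.homologyFunctor (ModuleCat.{u} B) 0).shiftIso n j k h).app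
      K).toLinearEquiv)

end Shift

section Local

variable (A : Type u) [CommRing A] [IsLocalRing A] [IsNoetherianRing A]

/-- A normalized dualizing complex over a local ring of dimension `e` lives in degrees `≥ -e`. -/
lemma subsingleton_HD_of_lt (ω : Dual.D A) (hω : Dual.IsDualizing A ω)
    (hn : Dual.IsNormalized A ω) (e : ℕ) (he : ringKrullDim A = e) (i : ℤ)
    (hi : i < -(e : ℤ)) : Subsingleton (Dual.HD A ω i) := by
  have hsd : Module.supportDim A A = e := by
    rw [Module.supportDim_self_eq_ringKrullDim, he]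
  have h1 := (Groth.Agent.S0366.result A ω hω hn A e hsd i).1
  have h2 : Subsingleton (Dual.inD A A ⟶ ω⟦i⟧) := by
    by_contra hcon
    rw [not_subsingleton_iff_nontrivial] at hcon
    have := (h1 hcon).1
    omega
  exact ModuleCat.subsingleton_of_isZero (isZero_HD_of_subsingleton_ext ω i h2)

/-- The analysis of `H^{-d}(ω)` at a prime `p` where it does not vanish. -/
theorem prime_analysis (ω : Dual.D A) (hω : Dual.IsDualizing A ω)
    (hn : Dual.IsNormalized A ω) (d : ℕ) (hd : ringKrullDim A = d) (p : PrimeSpectrum A)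
    (hnt : Nontrivial (LocalizedModule p.asIdeal.primeCompl (Dual.HD A ω (-(d : ℤ))))) :
    (d : ℕ∞) ≤ Order.height p + Order.coheight p ∧
      ∀ n : ℕ, LocCoh.depth (Localization.AtPrime p.asIdeal)
          (LocalizedModule p.asIdeal.primeCompl (Dual.HD A ω (-(d : ℤ)))) = n →
        min ((2 : ℕ) : WithBot ℕ∞) (Module.supportDim (Localization.AtPrime p.asIdeal)
          (LocalizedModule p.asIdeal.primeCompl (Dual.HD A ω (-(d : ℤ))))) ≤
          ((n : ℕ∞) : WithBot ℕ∞) := by
  obtain ⟨T, hmono, hT⟩ := exists_strictMono_top A ω hω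
  obtain ⟨hT0, hdim⟩ := top_eq_neg_dim A ω hω hn T hmono hT p
  obtain ⟨c, hTc⟩ : ∃ c : ℕ, T p = -(c : ℤ) := ⟨(-T p).toNat, by omega⟩
  have hc' : (-T p).toNat = c := by omega
  rw [hc'] at hdim
  have hd' := isDualizing_flatBC_localization A p.asIdeal.primeCompl ω hω
  have hds := isDualizing_shift _ hd' (T p)
  have hnorm := isNormalized_flatBC_shift_top A ω hω T hT p
  obtain ⟨e, he⟩ : ∃ e : ℕ, ringKrullDim (Localization.AtPrime p.asIdeal) = e := by
    obtain ⟨e, he⟩ := exists_supportDim_eq_nat (Localization.AtPrime p.asIdeal)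
      (Localization.AtPrime p.asIdeal)
    exact ⟨e, by rw [← Module.supportDim_self_eq_ringKrullDim, he]⟩
  have hht : Order.height p = e := by
    have := IsLocalization.AtPrime.ringKrullDim_eq_height p.asIdeal
      (Localization.AtPrime p.asIdeal)
    rw [PrimeSpectrum.height_eq_orderHeight, he] at this
    exact_mod_cast this.symm
  have hco : Order.coheight p = c := by
    have := ringKrullDim_quotient_eq_coheight p
    rw [hdim] at this
    exact_mod_cast this.symm
  have hle : e + c ≤ d := by
    have := height_add_coheight_le d hd p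
    rw [hht, hco] at this
    exact_mod_cast this
  -- the comparison of cohomology modules
  let E : ∀ j k : ℤ, T p + j = k → (LocalizedModule p.asIdeal.primeCompl (Dual.HD A ω k)
      ≃ₗ[Localization.AtPrime p.asIdeal] Dual.HD (Localization.AtPrime p.asIdeal)
        (((flatBC A (Localization.AtPrime p.asIdeal)).obj ω)⟦T p⟧) j) := fun j k h =>
    (locHDLinearEquiv A p.asIdeal ω k).trans (HDShiftLinearEquiv' _ (T p) j k h).symm
  have hge : d ≤ e + c := by
    by_contra hlt
    push Not at hlt
    have := subsingleton_HD_of_lt _ _ hds hnorm e he ((c : ℤ) - d) (by omega)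
    exact not_subsingleton _ (E ((c : ℤ) - d) (-(d : ℤ)) (by omega)).toEquiv.subsingleton
  have hdec : d = e + c := le_antisymm hge hle
  refine ⟨by rw [hht, hco]; exact_mod_cast hge, fun n hdep => ?_⟩
  haveI : Module.Finite A (Dual.HD A ω (-(d : ℤ))) := hω.finite_cohomology _
  haveI : Module.Finite (Localization.AtPrime p.asIdeal)
      (LocalizedModule p.asIdeal.primeCompl (Dual.HD A ω (-(d : ℤ)))) :=
    Module.Finite.of_isLocalizedModule p.asIdeal.primeCompl
      (LocalizedModule.mkLinearMap p.asIdeal.primeCompl _)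
  obtain ⟨h1, h2⟩ := depth_ext_aux _ hds hnorm n
    (LocalizedModule p.asIdeal.primeCompl (Dual.HD A ω (-(d : ℤ)))) hdep
  have hcl : 2 ≤ n ∨ e ≤ n := by
    by_contra hcon
    push Not at hcon
    have hs := subsingleton_hom_lowest _ _ hds hnorm e
      (fun i hi => subsingleton_HD_of_lt _ _ hds hnorm e he i hi) n hcon.1 hcon.2
    let ι := (DerivedCategory.singleFunctor (ModuleCat.{u} (Localization.AtPrime p.asIdeal)) 0).mapIso
      (E (-(e : ℤ)) (-(d : ℤ)) (by omega)).toModuleIso
    have hs' : Subsingleton (Dual.inD (Localization.AtPrime p.asIdeal)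
        (LocalizedModule p.asIdeal.primeCompl (Dual.HD A ω (-(d : ℤ)))) ⟶
        (((flatBC A (Localization.AtPrime p.asIdeal)).obj ω)⟦T p⟧)⟦(-(n : ℤ))⟧) :=
      @Equiv.subsingleton _ _ (Iso.homCongr ι (Iso.refl _)) hs
    exact not_subsingleton _ hs'
  have hsd : Module.supportDim (Localization.AtPrime p.asIdeal)
      (LocalizedModule p.asIdeal.primeCompl (Dual.HD A ω (-(d : ℤ)))) ≤ (e : WithBot ℕ∞) :=
    he ▸ Module.supportDim_le_ringKrullDim _ _
  have hcast : ∀ k : ℕ, k ≤ n → ((k : ℕ) : WithBot ℕ∞) ≤ ((n : ℕ∞) : WithBot ℕ∞) := fun k hk => by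
    have : ((k : ℕ∞) : WithBot ℕ∞) ≤ ((n : ℕ∞) : WithBot ℕ∞) :=
      WithBot.coe_le_coe.2 (by exact_mod_cast hk)
    exact this
  rcases hcl with h | h
  · exact (min_le_left _ _).trans (hcast 2 h)
  · exact (min_le_right _ _).trans (hsd.trans (hcast e h))

end Local

end Groth.Agent.Lib.Helper13.DualMod
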