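import Mathlib
import Groth.Agent.Lib.Helper18.CM2
import Groth.Agent.Lib.Helper18.CM3
import Groth.Agent.Lib.Helper18.SerreNormal

set_option autoImplicit false
set_option linter.style.haveILetI false
set_option linter.unusedSectionVars false

universe u

namespace Groth.Agent.Lib.Helper13.DualMod

open IsLocalRing Groth.Agent.Lib.Helper18.CM
open scoped Pointwise

section Hartshorne

variable {R : Type u} [CommRing R] [IsLocalRing R] [IsNoetherianRing R]

/-- Core of Hartshorne's connectedness theorem: if `IJ = 0`, `I, J ≠ 0` and `I + J` is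
`𝔪`-primary then `depth R ≤ 1`. -/
lemma not_two_le_depth_core (I J : Ideal R) (hIJ : I * J = ⊥) (hI : I ≠ ⊥) (hJ : J ≠ ⊥)
    (N : ℕ) (hN : maximalIdeal R ^ N ≤ I ⊔ J) : ¬ (2 : ℕ∞) ≤ LocCoh.depth R R := by
  intro h2
  have h1 : (1 : ℕ∞) ≤ LocCoh.depth R R := le_trans (by norm_num) h2
  obtain ⟨z, hz, hzreg⟩ := (one_le_depth_iff R).1 h1
  have hpowmem : ∀ t ∈ maximalIdeal R, t ^ (N + 1) ∈ I ⊔ J := fun t ht =>
    hN (Ideal.pow_le_pow_right (Nat.le_succ N) (Ideal.pow_mem_pow ht (N + 1)))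
  set w := z ^ (N + 1) with hw
  have hwm : w ∈ maximalIdeal R := Ideal.pow_mem_of_mem _ hz _ (Nat.succ_pos N)
  have hwIJ : w ∈ I ⊔ J := hpowmem z hz
  have hwreg : IsSMulRegular R w := hzreg.pow (N + 1)
  obtain ⟨x, hx, y, hy, hxy⟩ := Submodule.mem_sup.1 hwIJ
  have hmul0 : ∀ i ∈ I, ∀ j ∈ J, i * j = 0 := fun i hi j hj => by
    have : i * j ∈ I * J := Ideal.mul_mem_mul hi hj
    rw [hIJ] at this
    simpa using this
  have hxkill : ∀ t ∈ I ⊔ J, x * t ∈ Ideal.span {w} := by
    intro t ht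
    obtain ⟨i, hi, j, hj, rfl⟩ := Submodule.mem_sup.1 ht
    have e1 : x * j = 0 := hmul0 x hx j hj
    have e2 : i * y = 0 := hmul0 i hi y hy
    have : x * (i + j) = w * i := by
      rw [← hxy]
      linear_combination e1 - e2
    rw [this]
    exact Ideal.mul_mem_right _ _ (Ideal.mem_span_singleton_self w)
  by_cases hxw : x ∈ Ideal.span {w}
  · obtain ⟨a, ha⟩ := Ideal.mem_span_singleton'.1 hxw
    have hrel : (1 - a) * x = a * y := by
      have : a * (x + y) = x := by rw [hxy]; exact ha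
      linear_combination -this
    by_cases hau : IsUnit a
    · obtain ⟨b, hb⟩ := hau.exists_left_inv
      have hyI : y ∈ I := by
        have : y = b * (1 - a) * x := by
          linear_combination (-(1 : R)) * b * hrel + (-(1 : R)) * y * hb
        rw [this]
        exact Ideal.mul_mem_left _ _ hx
      have hwI : w ∈ I := hxy ▸ I.add_mem hx hyI
      apply hJ
      rw [eq_bot_iff]
      intro j hj
      have h0 : w • j = w • (0 : R) := by
        rw [smul_zero]
        exact hmul0 w hwI j hj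
      exact hwreg h0
    · have hu : IsUnit (1 - a) := by
        have ham : a ∈ maximalIdeal R := (mem_maximalIdeal a).2 hau
        by_contra hcon
        have h1a : 1 - a ∈ maximalIdeal R := (mem_maximalIdeal _).2 hcon
        have : (1 : R) ∈ maximalIdeal R := by
          have := (maximalIdeal R).add_mem h1a ham
          simpa using this
        exact (Ideal.ne_top_iff_one _).1 (maximalIdeal.isMaximal R).ne_top this
      obtain ⟨b, hb⟩ := hu.exists_left_inv
      have hxJ : x ∈ J := by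
        have : x = b * a * y := by
          linear_combination b * hrel + (-(1 : R)) * x * hb
        rw [this]
        exact Ideal.mul_mem_left _ _ hy
      have hwJ : w ∈ J := hxy ▸ J.add_mem hxJ hy
      apply hI
      rw [eq_bot_iff]
      intro i hi
      have h0 : w • i = w • (0 : R) := by
        rw [smul_zero, smul_eq_mul, mul_comm]
        exact hmul0 i hi w hwJ
      exact hwreg h0
  · have hdQ := depth_quotSMulTop R hwm hwreg
    have h1Q : (1 : ℕ∞) ≤ LocCoh.depth R (QuotSMulTop w R) := by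
      by_contra hcon
      push Not at hcon
      have h0 : LocCoh.depth R (QuotSMulTop w R) = 0 := Order.lt_one_iff.1 hcon
      rw [h0, zero_add] at hdQ
      rw [← hdQ] at h2
      norm_num at h2
    haveI := nontrivial_quotSMulTop R hwm
    obtain ⟨z', hz', hz'reg⟩ := (one_le_depth_iff (QuotSMulTop w R)).1 h1Q
    have hmemw : ∀ t : R, t ∈ (w • (⊤ : Submodule R R)) ↔ t ∈ Ideal.span {w} := by
      intro t
      rw [Submodule.mem_smul_pointwise_iff_exists, Ideal.mem_span_singleton']
      constructor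
      · rintro ⟨b, -, rfl⟩
        exact ⟨b, by rw [smul_eq_mul, mul_comm]⟩
      · rintro ⟨b, rfl⟩
        exact ⟨b, Submodule.mem_top, by rw [smul_eq_mul, mul_comm]⟩
    have hx0 : (Submodule.Quotient.mk x : QuotSMulTop w R) ≠ 0 := by
      intro h0
      rw [Submodule.Quotient.mk_eq_zero] at h0
      exact hxw ((hmemw x).1 h0)
    have hk : z' ^ (N + 1) • (Submodule.Quotient.mk x : QuotSMulTop w R) =
        z' ^ (N + 1) • (0 : QuotSMulTop w R) := by
      rw [smul_zero, ← Submodule.Quotient.mk_smul, Submodule.Quotient.mk_eq_zero, hmemw,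
        smul_eq_mul, mul_comm]
      exact hxkill _ (hpowmem z' hz')
    exact hx0 ((hz'reg.pow (N + 1)) hk)

/-- Hartshorne's connectedness theorem: if `Spec R = V(I) ∪ V(J)` with `V(I) ∩ V(J)` the closed
point and neither `V(I)` nor `V(J)` everything, then `depth R ≤ 1`. -/
theorem not_two_le_depth_of_disconnected (I J : Ideal R) (hIJ : I * J ≤ nilradical R)
    (hI : ¬ I ≤ nilradical R) (hJ : ¬ J ≤ nilradical R)
    (hm : maximalIdeal R ≤ (I ⊔ J).radical) : ¬ (2 : ℕ∞) ≤ LocCoh.depth R R := by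
  obtain ⟨n, hn⟩ := IsNoetherianRing.isNilpotent_nilradical R
  rw [Ideal.zero_eq_bot] at hn
  set k := n + 1 with hk
  have hnk : nilradical R ^ k = ⊥ := by
    rw [eq_bot_iff, ← hn]
    exact Ideal.pow_le_pow_right (Nat.le_succ n)
  have h1 : I ^ k * J ^ k = ⊥ := by
    rw [eq_bot_iff, ← hnk, ← mul_pow]
    exact Ideal.pow_right_mono hIJ k
  have hne : ∀ L : Ideal R, ¬ L ≤ nilradical R → L ^ k ≠ ⊥ := by
    intro L hL h0
    apply hL
    intro x hx
    have : x ^ k ∈ L ^ k := Ideal.pow_mem_pow hx k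
    rw [h0] at this
    exact ⟨k, by simpa using this⟩
  obtain ⟨N₁, hN₁⟩ := Ideal.exists_pow_le_of_le_radical_of_fg hm
    (IsNoetherian.noetherian (maximalIdeal R))
  have h2 : maximalIdeal R ^ (N₁ * (k + k)) ≤ I ^ k ⊔ J ^ k := by
    rw [pow_mul]
    exact (Ideal.pow_right_mono hN₁ (k + k)).trans Ideal.sup_pow_add_le_pow_sup_pow
  exact not_two_le_depth_core (I ^ k) (J ^ k) h1 (hne I hI) (hne J hJ) _ h2

end Hartshorne

section Equidim

variable {A : Type u} [CommRing A] [IsLocalRing A] [IsNoetherianRing A]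

open PrimeSpectrum in
/-- In an `(S₂)` Noetherian local ring with a dimension function `T` (e.g. one with a dualizing
complex), `T` takes the same value on all minimal primes. -/
theorem dimFunction_eq_of_isMin_of_hasSk_two (T : PrimeSpectrum A → ℤ)
    (hcov : ∀ p q : PrimeSpectrum A, p ⋖ q → T q = T p + 1) (hS2 : LocCoh.HasSk 2 A A) :
    ∀ q₁ q₂ : PrimeSpectrum A, IsMin q₁ → IsMin q₂ → T q₁ = T q₂ := by
  classical
  by_contra hcon
  push Not at hcon
  let S : Set (PrimeSpectrum A) := {p | ∃ q₁ q₂ : PrimeSpectrum A, IsMin q₁ ∧ IsMin q₂ ∧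
    q₁ ≤ p ∧ q₂ ≤ p ∧ T q₁ ≠ T q₂}
  have hlecl : ∀ q : PrimeSpectrum A, q ≤ IsLocalRing.closedPoint A := fun q =>
    IsLocalRing.le_maximalIdeal q.isPrime.ne_top
  have hSne : S.Nonempty := by
    obtain ⟨q₁, q₂, h1, h2, hne⟩ := hcon
    exact ⟨IsLocalRing.closedPoint A, q₁, q₂, h1, h2, hlecl q₁, hlecl q₂, hne⟩
  obtain ⟨p, hpS, hpmin⟩ := (InvImage.wf (fun p : PrimeSpectrum A => Order.height p)
    wellFounded_lt).has_min S hSne
  have hfinht : ∀ x : PrimeSpectrum A, Order.height x < ⊤ := fun x => by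
    have h1 : (Order.height x : WithBot ℕ∞) ≤ ringKrullDim A := Order.height_le_krullDim x
    have h2 := lt_of_le_of_lt h1 (ringKrullDim_lt_top (R := A))
    have h3 : ((Order.height x : ℕ∞) : WithBot ℕ∞) < ((⊤ : ℕ∞) : WithBot ℕ∞) := h2
    exact WithBot.coe_lt_coe.1 h3
  have hmin' : ∀ x ∈ S, x ≤ p → x = p := fun x hx hxp => by
    by_contra hne'
    exact hpmin x hx (Order.height_strictMono (lt_of_le_of_ne hxp hne') (hfinht x))
  obtain ⟨q₁, q₂, hq₁, hq₂, hq₁p, hq₂p, hne⟩ := id hpS
  have hq₁ne : q₁ ≠ p := by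
    rintro rfl
    exact hne (congrArg T (le_antisymm (hq₁ hq₂p) hq₂p))
  have hq₂ne : q₂ ≠ p := by
    rintro rfl
    exact hne (congrArg T (le_antisymm hq₁p (hq₂ hq₁p)))
  have hq₁lt : q₁ < p := lt_of_le_of_ne hq₁p hq₁ne
  have hq₂lt : q₂ < p := lt_of_le_of_ne hq₂p hq₂ne
  by_cases hc : q₁ ⋖ p ∧ q₂ ⋖ p
  · have h1 := hcov q₁ p hc.1
    have h2 := hcov q₂ p hc.2
    exact hne (by omega)
  · -- height p ≥ 2
    have hht2 : (2 : ℕ∞) ≤ Order.height p := by
      have aux : ∀ q : PrimeSpectrum A, q < p → ¬ q ⋖ p → (2 : ℕ∞) ≤ Order.height p := by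
        intro q hqp hncov
        obtain ⟨r, hqr, hrp⟩ := (not_covBy_iff hqp).1 hncov
        have h1 := Order.height_add_one_le hqr
        have h2 := Order.height_add_one_le hrp
        have h3 : (1 : ℕ∞) ≤ Order.height r := le_trans (by simp) h1
        calc (2 : ℕ∞) = 1 + 1 := by norm_num
          _ ≤ Order.height r + 1 := by gcongr
          _ ≤ Order.height p := h2
      by_cases hc1 : q₁ ⋖ p
      · exact aux q₂ hq₂lt (fun h => hc ⟨hc1, h⟩)
      · exact aux q₁ hq₁lt hc1
    have hdepth : (2 : ℕ∞) ≤ LocCoh.depth (Localization.AtPrime p.asIdeal)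
        (Localization.AtPrime p.asIdeal) := by
      have h1 := (Groth.Agent.Lib.Helper18.Serre.hasSk_self_iff (R := A) 2).1 hS2 p.asIdeal
      rw [PrimeSpectrum.height_eq_orderHeight] at h1
      have h3 : ((2 : ℕ) : WithBot ℕ∞) ≤ ((Order.height p : ℕ∞) : WithBot ℕ∞) := by
        have : (((2 : ℕ) : ℕ∞) : WithBot ℕ∞) ≤ ((Order.height p : ℕ∞) : WithBot ℕ∞) :=
          WithBot.coe_le_coe.2 (by exact_mod_cast hht2)
        exact this
      rw [min_eq_left h3] at h1
      exact WithBot.coe_le_coe.1 (show (((2 : ℕ) : ℕ∞) : WithBot ℕ∞) ≤ _ from h1)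
    -- the two ideals
    let Ms : Finset (PrimeSpectrum A) := (PrimeSpectrum.finite_setOfPred_isMin A).toFinset
    have hMs : ∀ q : PrimeSpectrum A, q ∈ Ms ↔ IsMin q := fun q => by
      simp [Ms]
    let Gs : Finset (PrimeSpectrum A) := Ms.filter (fun q => q ≤ p ∧ T q = T q₁)
    let Bs : Finset (PrimeSpectrum A) := Ms.filter (fun q => q ≤ p ∧ T q ≠ T q₁)
    let I₀ : Ideal A := Gs.inf (fun q => q.asIdeal)
    let J₀ : Ideal A := Bs.inf (fun q => q.asIdeal)
    let f := algebraMap A (Localization.AtPrime p.asIdeal)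
    have hcomap_le : ∀ P : Ideal (Localization.AtPrime p.asIdeal), P.IsPrime →
        P.comap f ≤ p.asIdeal := by
      intro P hP
      have h0 : (IsLocalRing.maximalIdeal (Localization.AtPrime p.asIdeal)).comap f = p.asIdeal :=
        IsLocalization.AtPrime.under_maximalIdeal (Localization.AtPrime p.asIdeal) p.asIdeal
      exact (Ideal.comap_mono (IsLocalRing.le_maximalIdeal hP.ne_top)).trans (le_of_eq h0)
    -- every prime of `A` below `p` contains a good or a bad minimal prime
    have hex : ∀ P₀ : Ideal A, P₀.IsPrime → P₀ ≤ p.asIdeal →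
        ∃ q : PrimeSpectrum A, IsMin q ∧ q ≤ p ∧ q.asIdeal ≤ P₀ := by
      intro P₀ hP₀ hle
      obtain ⟨q, hq, hqP⟩ := Ideal.exists_minimalPrimes_le (bot_le : (⊥ : Ideal A) ≤ P₀)
      exact ⟨⟨q, hq.1.1⟩, PrimeSpectrum.isMin_iff.2 hq, hqP.trans hle, hqP⟩
    have hF1 : I₀.map f * J₀.map f ≤ nilradical (Localization.AtPrime p.asIdeal) := by
      rw [nilradical_eq_sInf]
      refine le_sInf (fun P hP => ?_)
      have hP' : P.IsPrime := hP
      obtain ⟨q, hqmin, hqp, hqP⟩ := hex (P.comap f) (Ideal.comap_isPrime f P) (hcomap_le P hP')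
      by_cases hTq : T q = T q₁
      · have hqG : q ∈ Gs := Finset.mem_filter.2 ⟨(hMs q).2 hqmin, hqp, hTq⟩
        have h1 : I₀ ≤ P.comap f := (Finset.inf_le hqG).trans hqP
        exact Ideal.mul_le_left.trans (Ideal.map_le_iff_le_comap.2 h1)
      · have hqB : q ∈ Bs := Finset.mem_filter.2 ⟨(hMs q).2 hqmin, hqp, hTq⟩
        have h1 : J₀ ≤ P.comap f := (Finset.inf_le hqB).trans hqP
        exact Ideal.mul_le_right.trans (Ideal.map_le_iff_le_comap.2 h1)
    have hdisj : ∀ q : PrimeSpectrum A, q ≤ p →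
        Disjoint (p.asIdeal.primeCompl : Set A) (q.asIdeal : Set A) := fun q hq =>
      Set.disjoint_left.2 (fun x hx hxq => hx (hq hxq))
    have hnil : ∀ (L₀ : Ideal A) (q : PrimeSpectrum A), q ≤ p →
        L₀.map f ≤ nilradical (Localization.AtPrime p.asIdeal) → L₀ ≤ q.asIdeal := by
      intro L₀ q hq hL
      have hprime : (q.asIdeal.map f).IsPrime :=
        IsLocalization.isPrime_of_isPrime_disjoint p.asIdeal.primeCompl _ _ q.isPrime (hdisj q hq)
      have h1 : L₀.map f ≤ q.asIdeal.map f := hL.trans (nilradical_le_prime _)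
      have h2 := Ideal.map_le_iff_le_comap.1 h1
      have h3 : (q.asIdeal.map f).comap f = q.asIdeal :=
        IsLocalization.under_map_of_isPrime_disjoint p.asIdeal.primeCompl _ q.isPrime
          (hdisj q hq)
      rwa [h3] at h2
    have hF2 : ¬ I₀.map f ≤ nilradical (Localization.AtPrime p.asIdeal) := by
      intro hI
      have h1 := hnil I₀ q₂ hq₂p hI
      obtain ⟨q, hqG, hqq₂⟩ := (Ideal.IsPrime.inf_le' q₂.isPrime).1 h1
      have hq := (Finset.mem_filter.1 hqG).2
      have hle : q ≤ q₂ := hqq₂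
      have : q = q₂ := le_antisymm hle (hq₂ hle)
      exact hne (by rw [← hq.2, this])
    have hF3 : ¬ J₀.map f ≤ nilradical (Localization.AtPrime p.asIdeal) := by
      intro hJ
      have h1 := hnil J₀ q₁ hq₁p hJ
      obtain ⟨q, hqB, hqq₁⟩ := (Ideal.IsPrime.inf_le' q₁.isPrime).1 h1
      have hq := (Finset.mem_filter.1 hqB).2
      have hle : q ≤ q₁ := hqq₁
      have : q = q₁ := le_antisymm hle (hq₁ hle)
      exact hq.2 (by rw [this])
    have hF4 : IsLocalRing.maximalIdeal (Localization.AtPrime p.asIdeal) ≤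
        (I₀.map f ⊔ J₀.map f).radical := by
      rw [Ideal.radical_eq_sInf]
      refine le_sInf (fun P hP => ?_)
      obtain ⟨hle, hP'⟩ := hP
      have hI₀ : I₀ ≤ P.comap f := Ideal.map_le_iff_le_comap.1 (le_sup_left.trans hle)
      have hJ₀ : J₀ ≤ P.comap f := Ideal.map_le_iff_le_comap.1 (le_sup_right.trans hle)
      haveI : (P.comap f).IsPrime := Ideal.comap_isPrime f P
      obtain ⟨q, hqG, hq⟩ := (Ideal.IsPrime.inf_le' (inferInstance : (P.comap f).IsPrime)).1 hI₀
      obtain ⟨q', hqB, hq'⟩ := (Ideal.IsPrime.inf_le' (inferInstance : (P.comap f).IsPrime)).1 hJ₀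
      have hqG' := Finset.mem_filter.1 hqG
      have hqB' := Finset.mem_filter.1 hqB
      let P₀ : PrimeSpectrum A := ⟨P.comap f, inferInstance⟩
      have hP₀S : P₀ ∈ S := ⟨q, q', (hMs q).1 hqG'.1, (hMs q').1 hqB'.1, hq, hq', by
        rw [hqG'.2.2]
        exact fun h => hqB'.2.2 h.symm⟩
      have hP₀p : P₀ = p := hmin' P₀ hP₀S (hcomap_le P hP')
      have h1 : P.comap f = p.asIdeal := congrArg PrimeSpectrum.asIdeal hP₀p
      have h2 : (P.comap f).map f = P := IsLocalization.map_under p.asIdeal.primeCompl _ P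
      rw [h1] at h2
      rw [← h2, Localization.AtPrime.map_eq_maximalIdeal]
    exact not_two_le_depth_of_disconnected _ _ hF1 hF2 hF3 hF4 hdepth

end Equidim

end Groth.Agent.Lib.Helper13.DualMod
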