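import Mathlib
import Groth.Agent.Lib.Helper13.DualMod1

set_option autoImplicit false
set_option linter.style.haveILetI false
set_option linter.unusedSectionVars false

universe u

open CategoryTheory CategoryTheory.Limits Pretriangulated

namespace Groth.Agent.Lib.Helper13.DualMod

open DerivedCategory Groth.Agent.Lib.Helper13.DR Groth.Agent.Lib.Helper13.DualBC
  Groth.Agent.Lib.Helper13.PC

attribute [local instance] HasDerivedCategory.standard

section Dev

variable {A : Type u} [CommRing A]

/-- The lowest cohomology triangle, with the comparison of the higher cohomology. -/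
lemma exists_lowest_triangle' (K : Dual.D A) (a : ℤ) [K.IsGE a] :
    ∃ (T : Triangle (Dual.D A)), T ∈ distTriang (Dual.D A) ∧ T.obj₂ = K ∧
      T.obj₃.IsGE (a + 1) ∧
      Nonempty (T.obj₁ ≅ (DerivedCategory.singleFunctor (ModuleCat.{u} A) a).obj
        ((DerivedCategory.homologyFunctor (ModuleCat.{u} A) a).obj K)) ∧
      ∀ j : ℤ, a < j → IsIso ((DerivedCategory.homologyFunctor (ModuleCat.{u} A) j).map T.mor₂) := by
  obtain ⟨T, hT, hT2, hY, ⟨eX⟩⟩ := exists_lowest_triangle K a
  refine ⟨T, hT, hT2, hY, ⟨eX⟩, fun j hj => ?_⟩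
  have hz : ∀ i : ℤ, i ≠ a → IsZero ((DerivedCategory.homologyFunctor (ModuleCat.{u} A) i).obj
      T.obj₁) := fun i hi =>
    (PC.isZero_homology_single a i hi _).of_iso
      ((DerivedCategory.homologyFunctor (ModuleCat.{u} A) i).mapIso eX)
  have h1 : Mono ((homologyFunctor (ModuleCat.{u} A) j).map T.mor₂) := by
    rw [HomologySequence.mono_homologyMap_mor₂_iff T hT j]
    exact (hz j (by omega)).eq_of_src _ _
  have h2 : Epi ((homologyFunctor (ModuleCat.{u} A) j).map T.mor₂) := by
    rw [HomologySequence.epi_homologyMap_mor₂_iff T hT j (j + 1) rfl]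
    exact (hz (j + 1) (by omega)).eq_of_tgt _ _
  exact isIso_of_mono_of_epi _

/-- Dévissage: a bounded complex has no maps to `Z` as soon as its cohomology modules, suitably
shifted, have none. -/
theorem subsingleton_hom_of_forall_homology (Z : Dual.D A) :
    ∀ (n : ℕ) (a : ℤ) (Y : Dual.D A), Y.IsGE a → Y.IsLE (a + n - 1) →
      (∀ j : ℤ, Subsingleton ((DerivedCategory.singleFunctor (ModuleCat.{u} A) j).obj
        ((DerivedCategory.homologyFunctor (ModuleCat.{u} A) j).obj Y) ⟶ Z)) →
      Subsingleton (Y ⟶ Z) := by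
  intro n
  induction n with
  | zero =>
    intro a Y hGE hLE _
    have hz : IsZero Y := by
      apply DualBC.isZero_of_forall_isZero_homology
      intro j
      by_cases hj : j < a
      · exact Y.isZero_of_isGE a j hj
      · exact Y.isZero_of_isLE (a + (0 : ℕ) - 1) j (by push_cast; omega)
    exact ⟨fun f g => hz.eq_of_src f g⟩
  | succ n ih =>
    intro a Y hGE hLE hP
    haveI := hGE
    obtain ⟨T, hT, hT2, hY', ⟨eX⟩, hiso⟩ := exists_lowest_triangle' Y a
    subst hT2
    have hLE' : T.obj₃.IsLE (a + 1 + n - 1) := by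
      rw [DerivedCategory.isLE_iff]
      intro i hi
      haveI := hiso i (by omega)
      exact (T.obj₂.isZero_of_isLE (a + ((n + 1 : ℕ) : ℤ) - 1) i (by push_cast; omega)).of_iso
        (asIso ((homologyFunctor (ModuleCat.{u} A) i).map T.mor₂)).symm
    have hP' : ∀ j : ℤ, Subsingleton ((DerivedCategory.singleFunctor (ModuleCat.{u} A) j).obj
        ((DerivedCategory.homologyFunctor (ModuleCat.{u} A) j).obj T.obj₃) ⟶ Z) := by
      intro j
      by_cases hj : a < j
      · haveI := hiso j hj
        have := hP j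
        exact (Iso.homCongr ((DerivedCategory.singleFunctor (ModuleCat.{u} A) j).mapIso
          (asIso ((homologyFunctor (ModuleCat.{u} A) j).map T.mor₂))) (Iso.refl Z)).symm.subsingleton
      · haveI := hY'
        have hz : IsZero ((DerivedCategory.homologyFunctor (ModuleCat.{u} A) j).obj T.obj₃) :=
          T.obj₃.isZero_of_isGE (a + 1) j (by omega)
        have hz' : IsZero ((DerivedCategory.singleFunctor (ModuleCat.{u} A) j).obj
            ((DerivedCategory.homologyFunctor (ModuleCat.{u} A) j).obj T.obj₃)) :=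
          Functor.map_isZero _ hz
        exact ⟨fun f g => hz'.eq_of_src f g⟩
    have h3 := ih (a + 1) T.obj₃ hY' hLE' hP'
    have h1 : Subsingleton (T.obj₁ ⟶ Z) :=
      @Equiv.subsingleton _ _ (Iso.homCongr eX (Iso.refl Z)) (hP a)
    refine ⟨fun f g => ?_⟩
    suffices H : ∀ f : T.obj₂ ⟶ Z, f = 0 by rw [H f, H g]
    intro f
    obtain ⟨g', hg'⟩ := Triangle.yoneda_exact₂ T hT f (h1.elim _ _)
    rw [hg', h3.elim g' 0, comp_zero]

end Dev

end Groth.Agent.Lib.Helper13.DualMod
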