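import Groth.Agent.Lib.Helper13.SkDual2
import Groth.Agent.Lib.Helper13.DualBC26

/-!
# Serre's conditions through a normalized dualizing complex: the equidimensional local case
-/

set_option autoImplicit false
set_option linter.unusedSectionVars false
set_option linter.style.haveILetI false

open CategoryTheory CategoryTheory.Limits Pretriangulated TensorProduct

universe u

namespace Groth.Agent.Lib.Helper13.SkDual

open DerivedCategory Groth.Agent.Lib.Helper13.Coind Groth.Agent.Lib.Helper13.PC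
  Groth.Agent.Lib.Helper13.DR Groth.Agent.Lib.Helper13.Shriek Groth.Agent.Lib.Helper13.BD
  Groth.Agent.Lib.Helper13.HomBC Groth.Agent.Lib.Helper13.DualBC

attribute [local instance] HasDerivedCategory.standard

section Dim

variable {A : Type u} [CommRing A]

/-- The support dimension is bounded by the dimensions of the `A/p`, `p` in the support. -/
lemma supportDim_le_of_forall (E : Type*) [AddCommGroup E] [Module A E] (n : ℕ)
    (h : ∀ p : PrimeSpectrum A, p ∈ Module.support A E →
      ringKrullDim (A ⧸ p.asIdeal) ≤ (n : WithBot ℕ∞)) :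
    Module.supportDim A E ≤ (n : WithBot ℕ∞) := by
  unfold Module.supportDim
  rw [Order.krullDim]
  refine iSup_le (fun s => ?_)
  have h1 := h s.head.1 s.head.2
  rw [ringKrullDim_quotient_eq_coheight] at h1
  let s' : LTSeries (PrimeSpectrum A) := s.map (fun Q => Q.1) (fun Q₁ Q₂ h12 => h12)
  have h2 : (s'.length : ℕ∞) ≤ Order.coheight s'.head := Order.length_le_coheight_head
  have h3 : s'.head = s.head.1 := rfl
  have h4 : s'.length = s.length := rfl
  rw [h3, h4] at h2
  have h5 : ((s.length : ℕ∞) : WithBot ℕ∞) ≤ (Order.coheight s.head.1 : WithBot ℕ∞) := by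
    exact_mod_cast h2
  exact le_trans h5 h1

/-- `dim A/p ≤ dim Supp E` for `p` in the support. -/
lemma ringKrullDim_quotient_le_supportDim (E : Type*) [AddCommGroup E] [Module A E]
    (p : PrimeSpectrum A) (hp : p ∈ Module.support A E) :
    ringKrullDim (A ⧸ p.asIdeal) ≤ Module.supportDim A E := by
  rw [ringKrullDim_quotient_eq_coheight, Order.coheight_eq_krullDim_Ici]
  unfold Module.supportDim
  let f : Set.Ici p → Module.support A E := fun Q => ⟨Q.1, Module.mem_support_mono Q.2 hp⟩
  exact Order.krullDim_le_of_strictMono f (fun Q₁ Q₂ h12 => h12)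

end Dim

section RangeT

variable (A : Type u) [CommRing A] [IsNoetherianRing A]

/-- The range of nonvanishing of `Ext^j(M, ω)_p`, for a given dimension function. -/
theorem ext_support_range_T (ω : Dual.D A) (hω : Dual.IsDualizing A ω)
    (T : PrimeSpectrum A → ℤ)
    (hT : ∀ p : PrimeSpectrum A,
      p ∈ Module.support A (Dual.inD A (A ⧸ p.asIdeal) ⟶ ω⟦T p⟧) ∧
      ∀ j : ℤ, T p < j → p ∉ Module.support A (Dual.inD A (A ⧸ p.asIdeal) ⟶ ω⟦j⟧))
    (M : Type u) [AddCommGroup M] [Module A M] [Module.Finite A M] (p : PrimeSpectrum A)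
    [Nontrivial (LocalizedModule p.asIdeal.primeCompl M)] :
    ∃ (e d : ℕ),
      LocCoh.depth (Localization.AtPrime p.asIdeal) (LocalizedModule p.asIdeal.primeCompl M) = e ∧
      Module.supportDim (Localization.AtPrime p.asIdeal)
        (LocalizedModule p.asIdeal.primeCompl M) = d ∧ e ≤ d ∧
      (∀ j : ℤ, p ∈ Module.support A (Dual.inD A M ⟶ ω⟦j⟧) → T p - d ≤ j ∧ j ≤ T p - e) ∧
      p ∈ Module.support A (Dual.inD A M ⟶ ω⟦T p - e⟧) ∧
      p ∈ Module.support A (Dual.inD A M ⟶ ω⟦T p - d⟧) := by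
  have hd := isDualizing_flatBC_localization A p.asIdeal.primeCompl ω hω
  have hds := isDualizing_shift _ hd (T p)
  have hnorm := isNormalized_flatBC_shift_top A ω hω T hT p
  have key := mem_support_ext_iff_localized A ω hω M (T p) p
  obtain ⟨d, hdd⟩ := exists_supportDim_eq_nat (Localization.AtPrime p.asIdeal)
    (LocalizedModule p.asIdeal.primeCompl M)
  obtain ⟨e, he⟩ := ENat.ne_top_iff_exists.mp
    (Groth.Agent.Lib.Helper18.CM.depth_ne_top (R := Localization.AtPrime p.asIdeal)
      (LocalizedModule p.asIdeal.primeCompl M))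
  obtain ⟨F1a, F1b⟩ := depth_ext_aux _ hds hnorm e (LocalizedModule p.asIdeal.primeCompl M) he.symm
  have F2a := fun i => (extClaim _ hds hnorm d (LocalizedModule p.asIdeal.primeCompl M)
    (le_of_eq hdd) i).1
  have F2b := nontrivial_ext_neg_supportDim (Localization.AtPrime p.asIdeal) _ hds hnorm
    (LocalizedModule p.asIdeal.primeCompl M) d hdd
  have F3 := fun i hi => subsingleton_ext_pos _ hds hnorm (LocalizedModule p.asIdeal.primeCompl M)
    i hi
  have hed : e ≤ d := by
    by_contra hcon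
    have := F1a d (by omega)
    exact not_subsingleton _ this
  refine ⟨e, d, he.symm, hdd, hed, fun j hj => ?_, ?_, ?_⟩
  · have h1 := (key j (j - T p) (by ring)).1 hj
    constructor
    · by_contra hcon
      have := F2a (j - T p) (by omega)
      exact not_subsingleton _ this
    · by_contra hcon
      by_cases hpos : 0 < j - T p
      · have := F3 _ hpos
        exact not_subsingleton _ this
      · obtain ⟨δ, hδ⟩ : ∃ δ : ℕ, j - T p = -(δ : ℤ) := ⟨(-(j - T p)).toNat, by omega⟩
        rw [hδ] at h1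
        have := F1a δ (by omega)
        exact not_subsingleton _ this
  · exact (key (T p - e) (-(e : ℤ)) (by ring)).2 F1b
  · exact (key (T p - d) (-(d : ℤ)) (by ring)).2 F2b

end RangeT

section Local

variable (A : Type u) [CommRing A] [IsNoetherianRing A] [IsLocalRing A]

/-- In the equidimensional local case, `dim M_p = δ - dim A/p` and the lowest nonvanishing `Ext`
at every point of the support is in degree `-δ`. -/
theorem range_of_equidim (ω : Dual.D A) (hω : Dual.IsDualizing A ω) (hn : Dual.IsNormalized A ω)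
    (T : PrimeSpectrum A → ℤ) (hmono : StrictMono T)
    (hT : ∀ p : PrimeSpectrum A,
      p ∈ Module.support A (Dual.inD A (A ⧸ p.asIdeal) ⟶ ω⟦T p⟧) ∧
      ∀ j : ℤ, T p < j → p ∉ Module.support A (Dual.inD A (A ⧸ p.asIdeal) ⟶ ω⟦j⟧))
    (M : Type u) [AddCommGroup M] [Module A M] [Module.Finite A M]
    (hM : EGA4.IsEquidimModule A M) (δ : ℕ) (hδ : Module.supportDim A M = δ)
    (p : PrimeSpectrum A) [Nontrivial (LocalizedModule p.asIdeal.primeCompl M)] :
    Module.supportDim (Localization.AtPrime p.asIdeal)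
        (LocalizedModule p.asIdeal.primeCompl M) = ((T p + δ).toNat : ℕ) ∧ 0 ≤ T p + δ ∧
      (∀ j : ℤ, p ∈ Module.support A (Dual.inD A M ⟶ ω⟦j⟧) → -(δ : ℤ) ≤ j) ∧
      p ∈ Module.support A (Dual.inD A M ⟶ ω⟦-(δ : ℤ)⟧) := by
  obtain ⟨e, d, he, hd, hed, hrange, hmemE, hmemD⟩ := ext_support_range_T A ω hω T hT M p
  have hpM : p ∈ Module.support A M := Module.mem_support_iff.2 inferInstance
  -- a minimal prime of the support below `p`
  have hann : Module.annihilator A M ≤ p.asIdeal := Module.mem_support_iff_of_finite.1 hpM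
  obtain ⟨q₀, hq₀, hq₀p⟩ := Ideal.exists_minimalPrimes_le hann
  have hq₀prime : q₀.IsPrime := hq₀.1.1
  let Q₀ : PrimeSpectrum A := ⟨q₀, hq₀prime⟩
  have hQ₀M : Q₀ ∈ Module.support A M := Module.mem_support_iff_of_finite.2 hq₀.1.2
  haveI : Nontrivial (LocalizedModule Q₀.asIdeal.primeCompl M) := Module.mem_support_iff.1 hQ₀M
  obtain ⟨e₀, d₀, he₀, hd₀, hed₀, hrange₀, hmemE₀, hmemD₀⟩ :=
    ext_support_range_T A ω hω T hT M Q₀
  have hd₀0 : d₀ = 0 := by
    have h1 : Module.supportDim (Localization.AtPrime q₀) (LocalizedModule q₀.primeCompl M) ≤ 0 := by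
      rw [Groth.Agent.Lib.Helper18.SkAt.supportDim_localizedModule_le_zero_iff M q₀ hQ₀M]
      intro Q hQ
      have hannQ : Module.annihilator A M ≤ Q.1.asIdeal := Module.mem_support_iff_of_finite.1 Q.2
      exact hq₀.2 ⟨Q.1.isPrime, hannQ⟩ hQ
    have h2 : ((d₀ : ℕ) : WithBot ℕ∞) ≤ 0 := hd₀ ▸ h1
    have h3 : d₀ ≤ 0 := by exact_mod_cast h2
    omega
  -- `T Q₀ = -δ`
  obtain ⟨hT0, hTdim⟩ := top_eq_neg_dim A ω hω hn T hmono hT Q₀
  have hTQ₀ : T Q₀ = -(δ : ℤ) := by
    have h1 : ringKrullDim (A ⧸ q₀) = Module.supportDim A M := hM q₀ hq₀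
    rw [hδ] at h1
    have h2 : (((-T Q₀).toNat : ℕ∞) : WithBot ℕ∞) = ((δ : ℕ) : WithBot ℕ∞) := hTdim.symm.trans h1
    have h3 : (-T Q₀).toNat = δ := by exact_mod_cast h2
    omega
  -- the bottom degree at `p`
  have hmem1 : p ∈ Module.support A (Dual.inD A M ⟶ ω⟦-(δ : ℤ)⟧) := by
    have h1 : Q₀ ∈ Module.support A (Dual.inD A M ⟶ ω⟦T Q₀ - (d₀ : ℕ)⟧) := hmemD₀
    have hz : T Q₀ - ((d₀ : ℕ) : ℤ) = -(δ : ℤ) := by
      rw [hd₀0, hTQ₀]
      simp
    rw [hz] at h1
    exact Module.mem_support_mono hq₀p h1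
  have hge : T p - d ≤ -(δ : ℤ) := (hrange _ hmem1).1
  -- the closed point
  let m : PrimeSpectrum A := ⟨IsLocalRing.maximalIdeal A, inferInstance⟩
  have hpm : p ≤ m := IsLocalRing.le_maximalIdeal p.isPrime.ne_top
  have hmM : m ∈ Module.support A M := Module.mem_support_mono hpm hpM
  haveI : Nontrivial (LocalizedModule m.asIdeal.primeCompl M) := Module.mem_support_iff.1 hmM
  obtain ⟨em, dm, hem, hdm, hedm, hrangem, hmemEm, hmemDm⟩ :=
    ext_support_range_T A ω hω T hT M m
  have hdmδ : dm = δ := by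
    have h1 : Module.supportDim (Localization.AtPrime m.asIdeal)
        (LocalizedModule m.asIdeal.primeCompl M) = Module.supportDim A M := by
      rw [Groth.Agent.Lib.Helper18.SkAt.supportDim_localizedModule_eq_krullDim]
      unfold Module.supportDim
      let eo : {Q : Module.support A M // Q.1.asIdeal ≤ m.asIdeal} ≃o Module.support A M :=
        { toFun := fun Q => Q.1
          invFun := fun Q => ⟨Q, IsLocalRing.le_maximalIdeal Q.1.isPrime.ne_top⟩
          left_inv := fun _ => rfl
          right_inv := fun _ => rfl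
          map_rel_iff' := Iff.rfl }
      exact Order.krullDim_eq_of_orderIso eo
    rw [hdm, hδ] at h1
    exact_mod_cast h1
  obtain ⟨hTm0, hTmdim⟩ := top_eq_neg_dim A ω hω hn T hmono hT m
  have hTm : T m = 0 := by
    have h1 : ringKrullDim (A ⧸ IsLocalRing.maximalIdeal A) = 0 :=
      letI : Field (A ⧸ IsLocalRing.maximalIdeal A) := Ideal.Quotient.field _
      ringKrullDim_eq_zero_of_field _
    have h2 : (((-T m).toNat : ℕ∞) : WithBot ℕ∞) = 0 := hTmdim.symm.trans h1
    have h3 : (-T m).toNat = 0 := by exact_mod_cast h2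
    omega
  have hle : -(δ : ℤ) ≤ T p - d := by
    have h1 : m ∈ Module.support A (Dual.inD A M ⟶ ω⟦T p - d⟧) := Module.mem_support_mono hpm hmemD
    have h2 := (hrangem _ h1).1
    rw [hTm, hdmδ] at h2
    omega
  have hdeq : (d : ℤ) = T p + δ := by omega
  refine ⟨?_, by omega, fun j hj => ?_, hmem1⟩
  · rw [hd]
    congr 1
    omega
  · have := (hrange j hj).1
    omega

/-- **`(S_k)` for an equidimensional module over a local ring with a normalized dualizing
complex.** -/
theorem hasSk_iff_of_equidim (ω : Dual.D A) (hω : Dual.IsDualizing A ω)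
    (hn : Dual.IsNormalized A ω)
    (M : Type u) [AddCommGroup M] [Module A M] [Module.Finite A M]
    (hM : EGA4.IsEquidimModule A M) (δ : ℕ) (hδ : Module.supportDim A M = δ) (k : ℕ) :
    LocCoh.HasSk k A M ↔
      ∀ j : ℤ, j ≠ -(δ : ℤ) →
        (-j - (k : ℤ) < 0 → Subsingleton (Dual.inD A M ⟶ ω⟦j⟧)) ∧
        (0 ≤ -j - (k : ℤ) → Module.supportDim A (Dual.inD A M ⟶ ω⟦j⟧) ≤
          ((-j - (k : ℤ)).toNat : WithBot ℕ∞)) := by
  obtain ⟨T, hmono, hT⟩ := exists_strictMono_top A ω hω
  have hTdim := fun p => top_eq_neg_dim A ω hω hn T hmono hT p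
  have hntr : ∀ (p : PrimeSpectrum A) (j : ℤ), p ∈ Module.support A (Dual.inD A M ⟶ ω⟦j⟧) →
      Nontrivial (LocalizedModule p.asIdeal.primeCompl M) := by
    intro p j hj
    by_contra hcon
    rw [not_nontrivial_iff_subsingleton] at hcon
    have hz : IsZero (Dual.inD (Localization.AtPrime p.asIdeal)
        (LocalizedModule p.asIdeal.primeCompl M)) :=
      Functor.map_isZero _ (ModuleCat.isZero_of_subsingleton _)
    have h2 := (mem_support_ext_iff_localized A ω hω M 0 p j j (by ring)).1 hj
    have : Subsingleton (Dual.inD (Localization.AtPrime p.asIdeal)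
        (LocalizedModule p.asIdeal.primeCompl M) ⟶
        (((flatBC A (Localization.AtPrime p.asIdeal)).obj ω)⟦(0 : ℤ)⟧)⟦j⟧) :=
      ⟨fun f g => hz.eq_of_src f g⟩
    exact not_subsingleton _ this
  constructor
  · intro hSk j hj
    -- every point of the support of `E^j` has small dimension
    have hpt : ∀ p : PrimeSpectrum A, p ∈ Module.support A (Dual.inD A M ⟶ ω⟦j⟧) →
        (k : ℤ) + j ≤ T p := by
      intro p hp
      haveI := hntr p j hp
      obtain ⟨hd, h0, hlow, hmem⟩ := range_of_equidim A ω hω hn T hmono hT M hM δ hδ p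
      have hjlow := hlow j hp
      have h1 := (skIneq_iff A ω hω M k p).1 (hSk p.asIdeal) j (-(δ : ℤ)) (by omega) hp hmem
      rw [hd] at h1
      have h2 : ((k : ℤ) + j - -(δ : ℤ)).toNat ≤ (T p + δ).toNat := by exact_mod_cast h1
      omega
    constructor
    · intro hneg
      have hempty : Module.support A (Dual.inD A M ⟶ ω⟦j⟧) = ∅ := by
        ext p
        simp only [Set.mem_empty_iff_false, iff_false]
        intro hp
        have h1 := hpt p hp
        have h2 := (hTdim p).1
        omega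
      exact Module.support_eq_empty_iff.1 hempty
    · intro hpos
      refine supportDim_le_of_forall _ _ (fun p hp => ?_)
      have h1 := hpt p hp
      obtain ⟨h2, h3⟩ := hTdim p
      rw [h3]
      have : (-T p).toNat ≤ (-j - (k : ℤ)).toNat := by omega
      exact_mod_cast this
  · intro h P hP
    refine (skIneq_iff A ω hω M k ⟨P, hP⟩).2 ?_
    intro i j hji hi hj
    haveI := hntr ⟨P, hP⟩ i hi
    obtain ⟨hd, h0, hlow, hmem⟩ := range_of_equidim A ω hω hn T hmono hT M hM δ hδ ⟨P, hP⟩
    have hjlow := hlow j hj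
    have hine : i ≠ -(δ : ℤ) := by omega
    obtain ⟨hA1, hA2⟩ := h i hine
    have hpos : 0 ≤ -i - (k : ℤ) := by
      by_contra hcon
      have := hA1 (by omega)
      rw [Module.mem_support_iff] at hi
      exact not_subsingleton _ (inferInstance : Subsingleton (LocalizedModule
        (⟨P, hP⟩ : PrimeSpectrum A).asIdeal.primeCompl (Dual.inD A M ⟶ ω⟦i⟧)))
    have h1 := le_trans (ringKrullDim_quotient_le_supportDim _ ⟨P, hP⟩ hi) (hA2 hpos)
    obtain ⟨h2, h3⟩ := hTdim ⟨P, hP⟩
    rw [h3] at h1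
    have h4 : (-T ⟨P, hP⟩).toNat ≤ (-i - (k : ℤ)).toNat := by exact_mod_cast h1
    rw [hd]
    have : ((k : ℤ) + i - j).toNat ≤ (T ⟨P, hP⟩ + δ).toNat := by omega
    exact_mod_cast this

end Local

end Groth.Agent.Lib.Helper13.SkDual
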