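import Mathlib
import Groth.Agent.Lib.Helper13.DualMod2
import Groth.Agent.Lib.Helper13.DualMod3
import Groth.Agent.Lib.Helper13.DualMod4
import Groth.Agent.Lib.Helper13.SkDual3
import Groth.Agent.Lib.Helper13.DualBC37

set_option autoImplicit false
set_option linter.style.haveILetI false
set_option linter.unusedSectionVars false

universe u

open CategoryTheory CategoryTheory.Limits Pretriangulated

namespace Groth.Agent.Lib.Helper13.DualMod

open DerivedCategory Groth.Agent.Lib.Helper13.DR Groth.Agent.Lib.Helper13.DualBC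
  Groth.Agent.Lib.Helper13.PC

attribute [local instance] HasDerivedCategory.standard

section Main

variable (A : Type u) [CommRing A] [IsLocalRing A] [IsNoetherianRing A]

/-- `(S₂)` implies equidimensional, for a local ring with a dualizing complex. -/
theorem isEquidimModule_self_of_hasSk_two (ω : Dual.D A) (hω : Dual.IsDualizing A ω)
    (hn : Dual.IsNormalized A ω) (n : ℕ) (hd : ringKrullDim A = n)
    (hS2 : LocCoh.HasSk 2 A A) : EGA4.IsEquidimModule A A := by
  obtain ⟨T, hmono, hT⟩ := exists_strictMono_top A ω hω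
  have hcov := top_covBy A ω hω T hmono hT
  have hTeq := dimFunction_eq_of_isMin_of_hasSk_two T hcov hS2
  have hdim := fun p => (top_eq_neg_dim A ω hω hn T hmono hT p).2
  obtain ⟨q₀, hq₀, -, hq₀d⟩ :=
    exists_minimalPrime_of_le_height_add_coheight n hd (IsLocalRing.closedPoint A) (by
      have h1 := PrimeSpectrum.height_eq_orderHeight (IsLocalRing.closedPoint A)
      have h2 : ((IsLocalRing.closedPoint A).asIdeal.height : WithBot ℕ∞) = n := by
        rw [← hd]
        exact IsLocalRing.maximalIdeal_height_eq_ringKrullDim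
      rw [h1] at h2
      have h3 : Order.height (IsLocalRing.closedPoint A) = (n : ℕ∞) := by exact_mod_cast h2
      rw [h3]
      exact le_self_add)
  intro q hq
  rw [Module.annihilator_eq_bot.2 inferInstance] at hq
  have hq' : q ∈ minimalPrimes A := hq
  rw [Module.supportDim_self_eq_ringKrullDim, hd, ← hq₀d]
  have h1 := hdim ⟨q, hq'.1.1⟩
  have h2 := hdim ⟨q₀, hq₀.1.1⟩
  have h3 := hTeq ⟨q, hq'.1.1⟩ ⟨q₀, hq₀.1.1⟩ (PrimeSpectrum.isMin_iff.2 hq')
    (PrimeSpectrum.isMin_iff.2 hq₀)
  change ringKrullDim (A ⧸ q) = _ at h1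
  change ringKrullDim (A ⧸ q₀) = _ at h2
  rw [h1, h2, h3]

/-- Under `(S_k)`, `Ext^{l+j}(H^j(ω), ω) = 0` for `j ≠ -n` and `l < k`. -/
theorem subsingleton_hom_single_HD (ω : Dual.D A) (hω : Dual.IsDualizing A ω)
    (hn : Dual.IsNormalized A ω) (n : ℕ) (hd : ringKrullDim A = n) (k : ℕ) (hk : 2 ≤ k)
    (hSk : LocCoh.HasSk k A A) (j : ℤ) (hj : j ≠ -(n : ℤ)) (l : ℤ) (hl : l < k) :
    Subsingleton ((DerivedCategory.singleFunctor (ModuleCat.{u} A) j).obj
      ((DerivedCategory.homologyFunctor (ModuleCat.{u} A) j).obj ω) ⟶ ω⟦l⟧) := by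
  have hS2 : LocCoh.HasSk 2 A A := by
    intro p hp
    refine le_trans (min_le_min_right _ ?_) (hSk p)
    exact_mod_cast hk
  have hEq := isEquidimModule_self_of_hasSk_two A ω hω hn n hd hS2
  have hδ : Module.supportDim A A = n := by
    rw [Module.supportDim_self_eq_ringKrullDim, hd]
  have h17 := (Groth.Agent.Lib.Helper13.SkDual.hasSk_iff_of_equidim A ω hω hn A hEq n hδ k).1 hSk j hj
  rw [← subsingleton_ext_iff]
  suffices H : Subsingleton (Dual.inD A (Dual.HD A ω j) ⟶ ω⟦l + j⟧) from
    (Iso.homCongr (Iso.refl (Dual.inD A (Dual.HD A ω j)))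
      ((shiftFunctorAdd' (Dual.D A) l j (l + j) rfl).app ω)).symm.subsingleton
  haveI : Module.Finite A (Dual.HD A ω j) := hω.finite_cohomology j
  rcases subsingleton_or_nontrivial (Dual.HD A ω j) with hsub | hnt
  · have hz : IsZero (Dual.inD A (Dual.HD A ω j)) :=
      Functor.map_isZero _ (ModuleCat.isZero_of_subsingleton _)
    exact ⟨fun f g => hz.eq_of_src f g⟩
  · obtain ⟨d, hdd⟩ := exists_supportDim_eq_nat A (Dual.HD A ω j)
    have E := homSelfHDEquiv A ω j
    have hpos : 0 ≤ -j - (k : ℤ) := by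
      by_contra hneg
      push Not at hneg
      have := h17.1 hneg
      exact not_subsingleton _ E.symm.toEquiv.subsingleton
    have h2 := h17.2 hpos
    rw [Module.supportDim_eq_of_equiv E, hdd] at h2
    have h3 : d ≤ (-j - (k : ℤ)).toNat := by exact_mod_cast h2
    have h4 := (Groth.Agent.S0366.result A ω hω hn (Dual.HD A ω j) d hdd (l + j)).1
    by_contra hcon
    rw [not_subsingleton_iff_nontrivial] at hcon
    have := (h4 hcon).1
    omega

end Main

end Groth.Agent.Lib.Helper13.DualMod
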