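import Mathlib
import Groth.Agent.Lib.Helper13.DualMod5

set_option autoImplicit false
set_option linter.style.haveILetI false
set_option linter.unusedSectionVars false

universe u

open CategoryTheory CategoryTheory.Limits Pretriangulated

namespace Groth.Agent.Lib.Helper13.DualMod

section Abstract

variable {R : Type*} [CommRing R] {D : Type*} [Category D] [Preadditive D] [Linear R D]
  [HasZeroObject D] [HasShift D ℤ] [∀ n : ℤ, (shiftFunctor D n).Additive] [Pretriangulated D]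

/-- Endomorphisms of the first term of a triangle `X → W → Y` from those of `W`. -/
lemma toEnd_bijective_obj₁ (T : Triangle D) (hT : T ∈ distTriang D)
    (h1 : ∀ f : T.obj₃ ⟶ T.obj₂, f = 0) (h2 : ∀ f : T.obj₃⟦(-1 : ℤ)⟧ ⟶ T.obj₂, f = 0)
    (h4 : ∀ f : T.obj₁ ⟶ T.obj₃⟦(-1 : ℤ)⟧, f = 0)
    (h5 : Function.Bijective (fun r : R => r • 𝟙 T.obj₂)) :
    Function.Bijective (fun r : R => r • 𝟙 T.obj₁) := by
  have hT' := inv_rot_of_distTriang _ hT
  have hcomm : ∀ r : R, (r • 𝟙 T.obj₁) ≫ T.mor₁ = T.mor₁ ≫ (r • 𝟙 T.obj₂) := fun r => by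
    rw [Linear.smul_comp, Linear.comp_smul, Category.id_comp, Category.comp_id]
  constructor
  · intro r s hrs
    have hrs' : r • 𝟙 T.obj₁ = s • 𝟙 T.obj₁ := hrs
    apply h5.1
    change r • 𝟙 T.obj₂ = s • 𝟙 T.obj₂
    have h0 : T.mor₁ ≫ (r • 𝟙 T.obj₂ - s • 𝟙 T.obj₂) = 0 := by
      rw [Preadditive.comp_sub, ← hcomm, ← hcomm, hrs', sub_self]
    obtain ⟨g, hg⟩ := Triangle.yoneda_exact₂ T hT _ h0
    rw [h1 g, comp_zero] at hg
    exact sub_eq_zero.1 hg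
  · intro g
    have h0 : T.invRotate.mor₁ ≫ (g ≫ T.mor₁) = 0 := h2 _
    obtain ⟨f, hf⟩ := Triangle.yoneda_exact₂ T.invRotate hT' (g ≫ T.mor₁) h0
    have hf' : g ≫ T.mor₁ = T.mor₁ ≫ f := hf
    obtain ⟨r, hr⟩ := h5.2 f
    have hr' : r • 𝟙 T.obj₂ = f := hr
    refine ⟨r, ?_⟩
    change r • 𝟙 T.obj₁ = g
    have h3 : (g - r • 𝟙 T.obj₁) ≫ T.invRotate.mor₂ = 0 := by
      change (g - r • 𝟙 T.obj₁) ≫ T.mor₁ = 0
      rw [Preadditive.sub_comp, hcomm, hr', hf', sub_self]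
    obtain ⟨h, hh⟩ := Triangle.coyoneda_exact₂ T.invRotate hT' _ h3
    have : h = 0 := h4 h
    rw [this, zero_comp] at hh
    exact (sub_eq_zero.1 hh).symm

/-- Vanishing of `Hom(X, X[1])` for the first term of a triangle `X → W → Y`. -/
lemma hom_shift_one_eq_zero_obj₁ (T : Triangle D) (hT : T ∈ distTriang D)
    (ha : ∀ f : T.obj₃⟦(-1 : ℤ)⟧ ⟶ T.obj₂⟦(1 : ℤ)⟧, f = 0)
    (hb : ∀ f : T.obj₂ ⟶ T.obj₂⟦(1 : ℤ)⟧, f = 0)
    (hc : ∀ f : T.obj₁ ⟶ T.obj₃, f = 0) (g : T.obj₁ ⟶ T.obj₁⟦(1 : ℤ)⟧) : g = 0 := by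
  have hT' := inv_rot_of_distTriang _ hT
  have hT'' := rot_of_distTriang _ (rot_of_distTriang _ hT)
  have hX : ∀ φ : T.obj₁ ⟶ T.obj₂⟦(1 : ℤ)⟧, φ = 0 := by
    intro φ
    have h0 : T.invRotate.mor₁ ≫ φ = 0 := ha _
    obtain ⟨f, hf⟩ := Triangle.yoneda_exact₂ T.invRotate hT' φ h0
    have hf0 : f = 0 := hb f
    rw [hf, hf0]
    exact comp_zero
  have h1 : g ≫ T.rotate.rotate.mor₂ = 0 := by
    change g ≫ (-(T.mor₁⟦(1 : ℤ)⟧')) = 0
    rw [Preadditive.comp_neg, hX (g ≫ T.mor₁⟦(1 : ℤ)⟧'), neg_zero]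
  obtain ⟨h, hh⟩ := Triangle.coyoneda_exact₂ T.rotate.rotate hT'' g h1
  have : h = 0 := hc h
  rw [hh, this]
  exact zero_comp

end Abstract

section Concrete

open DerivedCategory Groth.Agent.Lib.Helper13.DR Groth.Agent.Lib.Helper13.DualBC
  Groth.Agent.Lib.Helper13.PC

attribute [local instance] HasDerivedCategory.standard

variable (A : Type u) [CommRing A] [IsLocalRing A] [IsNoetherianRing A]

/-- The truncation triangle `H^{-n}(ω)[n] → ω → τ_{>-n} ω` and the vanishing of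
`Hom(τ_{>-n} ω, ω[l])` for `l < k` under `(S_k)`. -/
theorem exists_triangle_data (ω : Dual.D A) (hω : Dual.IsDualizing A ω)
    (hn : Dual.IsNormalized A ω) (n : ℕ) (hd : ringKrullDim A = n) (k : ℕ) (hk : 2 ≤ k)
    (hSk : LocCoh.HasSk k A A) :
    ∃ (T : Triangle (Dual.D A)), T ∈ distTriang (Dual.D A) ∧ T.obj₂ = ω ∧
      T.obj₃.IsGE (-(n : ℤ) + 1) ∧
      Nonempty (T.obj₁ ≅ (DerivedCategory.singleFunctor (ModuleCat.{u} A) (-(n : ℤ))).obj
        ((DerivedCategory.homologyFunctor (ModuleCat.{u} A) (-(n : ℤ))).obj ω)) ∧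
      ∀ l : ℤ, l < k → Subsingleton (T.obj₃ ⟶ ω⟦l⟧) := by
  haveI : ω.IsGE (-(n : ℤ)) := isGE_of_subsingleton_HD ω _
    (fun i hi => subsingleton_HD_of_lt A ω hω hn n hd i hi)
  obtain ⟨T, hT, hT2, hY, ⟨eX⟩, hiso⟩ := exists_lowest_triangle' ω (-(n : ℤ))
  refine ⟨T, hT, hT2, hY, ⟨eX⟩, fun l hl => ?_⟩
  have hsd : Module.supportDim A A = n := by
    rw [Module.supportDim_self_eq_ringKrullDim, hd]
  have hωLE : ∀ i : ℤ, 0 < i →
      IsZero ((DerivedCategory.homologyFunctor (ModuleCat.{u} A) i).obj ω) := by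
    intro i hi
    apply isZero_HD_of_subsingleton_ext
    by_contra hcon
    rw [not_subsingleton_iff_nontrivial] at hcon
    have := ((Groth.Agent.S0366.result A ω hω hn A n hsd i).1 hcon).2
    omega
  have hmap : ∀ j : ℤ, -(n : ℤ) < j →
      ((DerivedCategory.homologyFunctor (ModuleCat.{u} A) j).obj ω ≅
        (DerivedCategory.homologyFunctor (ModuleCat.{u} A) j).obj T.obj₃) := by
    intro j hj
    haveI := hiso j hj
    exact (eqToIso (by rw [hT2])) ≪≫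
      asIso ((homologyFunctor (ModuleCat.{u} A) j).map T.mor₂)
  have hLE : T.obj₃.IsLE (-(n : ℤ) + 1 + n - 1) := by
    rw [DerivedCategory.isLE_iff]
    intro i hi
    exact (hωLE i (by omega)).of_iso (hmap i (by omega)).symm
  refine subsingleton_hom_of_forall_homology (ω⟦l⟧) n (-(n : ℤ) + 1) T.obj₃ hY hLE (fun j => ?_)
  by_cases hj : -(n : ℤ) < j
  · have := subsingleton_hom_single_HD A ω hω hn n hd k hk hSk j (by omega) l hl
    exact (Iso.homCongr ((DerivedCategory.singleFunctor (ModuleCat.{u} A) j).mapIso (hmap j hj))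
      (Iso.refl (ω⟦l⟧))).symm.subsingleton
  · haveI := hY
    have hz : IsZero ((DerivedCategory.homologyFunctor (ModuleCat.{u} A) j).obj T.obj₃) :=
      T.obj₃.isZero_of_isGE (-(n : ℤ) + 1) j (by omega)
    have hz' : IsZero ((DerivedCategory.singleFunctor (ModuleCat.{u} A) j).obj
        ((DerivedCategory.homologyFunctor (ModuleCat.{u} A) j).obj T.obj₃)) :=
      Functor.map_isZero _ hz
    exact ⟨fun f g => hz'.eq_of_src f g⟩

/-- `(S₂)` implies `A → End(ω_A)` is bijective. -/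
theorem toEnd_bijective_of_hasSk_two (ω : Dual.D A) (hω : Dual.IsDualizing A ω)
    (hn : Dual.IsNormalized A ω) (n : ℕ) (hd : ringKrullDim A = n) (hS2 : LocCoh.HasSk 2 A A) :
    Function.Bijective (fun r : A =>
      r • (LinearMap.id : Dual.HD A ω (-(n : ℤ)) →ₗ[A] Dual.HD A ω (-(n : ℤ)))) := by
  obtain ⟨T, hT, hT2, hY, ⟨eX⟩, hvan⟩ := exists_triangle_data A ω hω hn n hd 2 le_rfl hS2
  subst hT2
  haveI := hY
  have hXLE : T.obj₁.IsLE (-(n : ℤ)) := TStructure.t.isLE_of_iso eX.symm (-(n : ℤ))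
  have h1 : ∀ f : T.obj₃ ⟶ T.obj₂, f = 0 := by
    intro f
    have hs := hvan 0 (by norm_num)
    have : Subsingleton (T.obj₃ ⟶ T.obj₂) :=
      (Iso.homCongr (Iso.refl T.obj₃)
        ((shiftFunctorZero (Dual.D A) ℤ).app T.obj₂)).symm.subsingleton
    exact this.elim _ _
  have h2 : ∀ f : T.obj₃⟦(-1 : ℤ)⟧ ⟶ T.obj₂, f = 0 := by
    intro f
    have hs := hvan 1 (by norm_num)
    have := (subsingleton_hom_shift_iff T.obj₃ T.obj₂ 1).1 hs
    exact this.elim _ _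
  have h4 : ∀ f : T.obj₁ ⟶ T.obj₃⟦(-1 : ℤ)⟧, f = 0 := by
    intro f
    have hGE : (T.obj₃⟦(-1 : ℤ)⟧).IsGE (-(n : ℤ) + 2) :=
      TStructure.t.isGE_shift T.obj₃ (-(n : ℤ) + 1) (-1) (-(n : ℤ) + 2) (by ring)
    exact TStructure.t.zero_of_isLE_of_isGE f (-(n : ℤ)) (-(n : ℤ) + 2) (by omega) hXLE hGE
  have hbX := toEnd_bijective_obj₁ (R := A) T hT h1 h2 h4 hω.toEnd_bijective
  let K' : ModuleCat.{u} A := (DerivedCategory.homologyFunctor (ModuleCat.{u} A) (-(n : ℤ))).obj T.obj₂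
  let S := DerivedCategory.singleFunctor (ModuleCat.{u} A) (-(n : ℤ))
  have hbS : Function.Bijective (fun r : A => r • 𝟙 (S.obj K')) := by
    have hc : (fun r : A => r • 𝟙 (S.obj K')) =
        (Iso.homCongr eX eX) ∘ (fun r : A => r • 𝟙 T.obj₁) := by
      funext r
      change r • 𝟙 (S.obj K') = (Iso.homCongr eX eX) (r • 𝟙 T.obj₁)
      rw [Iso.homCongr_apply, Linear.smul_comp, Linear.comp_smul, Category.id_comp, eX.inv_hom_id]
    rw [hc]
    exact (Iso.homCongr eX eX).bijective.comp hbX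
  constructor
  · intro r s hrs
    apply hbS.1
    change r • 𝟙 (S.obj K') = s • 𝟙 (S.obj K')
    have h0 : r • 𝟙 K' = s • 𝟙 K' := by
      apply ModuleCat.hom_ext
      simpa using hrs
    rw [← S.map_id, ← S.map_smul, h0, S.map_smul]
  · intro φ
    obtain ⟨r, hr⟩ := hbS.2 (S.map (ModuleCat.ofHom φ : K' ⟶ K'))
    refine ⟨r, ?_⟩
    have hr' : r • 𝟙 (S.obj K') = S.map (ModuleCat.ofHom φ : K' ⟶ K') := hr
    rw [← S.map_id, ← S.map_smul] at hr'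
    have h3 := S.map_injective hr'
    have h4 := congrArg ModuleCat.Hom.hom h3
    simpa using h4

/-- `(S₃)` implies `Ext¹(ω_A, ω_A) = 0`. -/
theorem subsingleton_ext_one_of_hasSk_three (ω : Dual.D A) (hω : Dual.IsDualizing A ω)
    (hn : Dual.IsNormalized A ω) (n : ℕ) (hd : ringKrullDim A = n) (hS3 : LocCoh.HasSk 3 A A) :
    Subsingleton (Dual.inD A (Dual.HD A ω (-(n : ℤ))) ⟶
      (Dual.inD A (Dual.HD A ω (-(n : ℤ))))⟦(1 : ℤ)⟧) := by
  obtain ⟨T, hT, hT2, hY, ⟨eX⟩, hvan⟩ :=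
    exists_triangle_data A ω hω hn n hd 3 (by norm_num) hS3
  subst hT2
  haveI := hY
  have hXLE : T.obj₁.IsLE (-(n : ℤ)) := TStructure.t.isLE_of_iso eX.symm (-(n : ℤ))
  have ha : ∀ f : T.obj₃⟦(-1 : ℤ)⟧ ⟶ T.obj₂⟦(1 : ℤ)⟧, f = 0 := by
    intro f
    have hs := hvan 2 (by norm_num)
    have hs' : Subsingleton (T.obj₃ ⟶ (T.obj₂⟦(1 : ℤ)⟧)⟦(1 : ℤ)⟧) :=
      (Iso.homCongr (Iso.refl T.obj₃)
        ((shiftFunctorAdd' (Dual.D A) (1 : ℤ) 1 2 (by norm_num)).app T.obj₂)).symm.subsingleton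
    have := (subsingleton_hom_shift_iff T.obj₃ (T.obj₂⟦(1 : ℤ)⟧) 1).1 hs'
    exact this.elim _ _
  have hb : ∀ f : T.obj₂ ⟶ T.obj₂⟦(1 : ℤ)⟧, f = 0 := fun f =>
    (hω.ext_self_subsingleton 1 (by norm_num)).elim _ _
  have hc : ∀ f : T.obj₁ ⟶ T.obj₃, f = 0 := fun f =>
    TStructure.t.zero_of_isLE_of_isGE f (-(n : ℤ)) (-(n : ℤ) + 1) (by omega) hXLE hY
  have hX := hom_shift_one_eq_zero_obj₁ T hT ha hb hc
  let K' : ModuleCat.{u} A := (DerivedCategory.homologyFunctor (ModuleCat.{u} A) (-(n : ℤ))).obj T.obj₂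
  let e : (Dual.inD A K')⟦(n : ℤ)⟧ ≅ T.obj₁ :=
    ((DerivedCategory.singleFunctors (ModuleCat.{u} A)).shiftIso (n : ℤ) (-(n : ℤ)) 0
      (by simp)).app K' ≪≫ eX.symm
  refine ⟨fun f g => ?_⟩
  apply (shiftFunctor (Dual.D A) (n : ℤ)).map_injective
  let θ : ((Dual.inD A K')⟦(1 : ℤ)⟧)⟦(n : ℤ)⟧ ≅ T.obj₁⟦(1 : ℤ)⟧ :=
    (shiftFunctorComm (Dual.D A) (1 : ℤ) (n : ℤ)).app (Dual.inD A K') ≪≫
      (shiftFunctor (Dual.D A) (1 : ℤ)).mapIso e
  have hf := hX (e.inv ≫ (shiftFunctor (Dual.D A) (n : ℤ)).map f ≫ θ.hom)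
  have hg := hX (e.inv ≫ (shiftFunctor (Dual.D A) (n : ℤ)).map g ≫ θ.hom)
  have h3 : e.inv ≫ (shiftFunctor (Dual.D A) (n : ℤ)).map f ≫ θ.hom =
      e.inv ≫ (shiftFunctor (Dual.D A) (n : ℤ)).map g ≫ θ.hom := hf.trans hg.symm
  exact (cancel_mono θ.hom).mp ((cancel_epi e.inv).mp h3)

end Concrete

end Groth.Agent.Lib.Helper13.DualMod
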