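import Mathlib
import Groth.Agent.Lib.Helper18.QGor11
import Groth.Agent.Lib.Helper18.QGor10

set_option autoImplicit false
set_option linter.style.haveILetI false
set_option linter.unusedSectionVars false

universe u

namespace Groth.Agent.Lib.Helper13.DualMod

open Groth.Agent.Lib.Helper18.QGor Groth.Agent.Lib.Helper18.CM

section DualDepth

variable {A : Type u} [CommRing A] [IsNoetherianRing A]
  (N : Type u) [AddCommGroup N] [Module A N] [Module.Finite A N]

/-- The dual of a finite module is the kernel of a map between finite free modules. -/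
theorem exists_ker_repr_dual :
    ∃ (n m : ℕ) (u : Module.Dual A (Fin n → A) →ₗ[A] Module.Dual A (Fin (m + 1) → A)),
      Nonempty (Module.Dual A N ≃ₗ[A] LinearMap.ker u) := by
  obtain ⟨n, m, h, π, hπ, hex⟩ := exists_presentation_succ (A := A) N
  refine ⟨n, m, h.dualMap, ⟨?_⟩⟩
  have hinj : Function.Injective π.dualMap := LinearMap.dualMap_injective_of_surjective hπ
  have hrange : LinearMap.range π.dualMap = LinearMap.ker h.dualMap :=
    ((LinearMap.exact_iff).mp (dualMap_exact h π hex hπ)).symm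
  exact (LinearEquiv.ofInjective π.dualMap hinj) ≪≫ₗ (LinearEquiv.ofEq _ _ hrange)

theorem hasSk_two_dual (h : LocCoh.HasSk 2 A A) : LocCoh.HasSk 2 A (Module.Dual A N) := by
  obtain ⟨n, m, u, ⟨e⟩⟩ := exists_ker_repr_dual (A := A) N
  apply hasSk_of_linearEquiv (M := LinearMap.ker u) (N := Module.Dual A N) 2 e.symm
  refine hasSk_two_ker u ?_ (hasSk_of_free 1 (Groth.Agent.Lib.Helper18.Serre.hasSk_mono (by norm_num) h) _)
    (hasSk_of_free 2 h _)
  rw [support_dual_pi_succ]
  exact Set.subset_univ _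

theorem two_le_idealDepth_dual (I : Ideal A) (h : 2 ≤ LocCoh.idealDepth I A) :
    2 ≤ LocCoh.idealDepth I (Module.Dual A N) := by
  obtain ⟨n, m, u, ⟨e⟩⟩ := exists_ker_repr_dual (A := A) N
  rw [idealDepth_congr (M := Module.Dual A N) (M' := LinearMap.ker u) e I]
  apply two_le_idealDepth_ker I u
  · have := le_idealDepth_of_free I 2 (by simpa using h) (Module.Dual A (Fin n → A))
    simpa using this
  · have h1 : ((1 : ℕ) : ℕ∞) ≤ LocCoh.idealDepth I A := le_trans (by norm_num) h
    have := le_idealDepth_of_free I 1 h1 (Module.Dual A (Fin (m + 1) → A))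
    simpa using this

/-- `(S₁)` and `ht I ≥ 1` give `depth_I A ≥ 1`. -/
theorem one_le_idealDepth_self_of_hasSk (hA : LocCoh.HasSk 1 A A) (I : Ideal A)
    (hI : 1 ≤ I.height) : 1 ≤ LocCoh.idealDepth I A := by
  have := le_idealDepth_of_forall_le_depth I 1 A ?_
  · simpa using this
  intro p hp hIp
  have h := hA p
  rw [Groth.Agent.Lib.Helper18.Serre.supportDim_localizedModule_self] at h
  have hht : (1 : ℕ∞) ≤ p.height := hI.trans (Ideal.height_mono hIp)
  have h3 : ((1 : ℕ) : WithBot ℕ∞) ≤ (p.height : WithBot ℕ∞) := by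
    have : (((1 : ℕ) : ℕ∞) : WithBot ℕ∞) ≤ (p.height : WithBot ℕ∞) :=
      WithBot.coe_le_coe.2 (by exact_mod_cast hht)
    exact this
  rw [min_eq_left h3] at h
  exact WithBot.coe_le_coe.1 (show (((1 : ℕ) : ℕ∞) : WithBot ℕ∞) ≤ _ from h)

end DualDepth

end Groth.Agent.Lib.Helper13.DualMod
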