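import Groth.Agent.Lib.Helper13.DualBC36
import Groth.Prelude.Def_DualSch
import Mathlib.AlgebraicGeometry.OpenImmersion
import Mathlib.AlgebraicGeometry.Noetherian

/-!
# Dualizing complexes on schemes: loci
-/

set_option autoImplicit false
set_option linter.unusedSectionVars false

open CategoryTheory CategoryTheory.Limits AlgebraicGeometry

universe u

namespace Groth.Agent.Lib.Helper13.DualSch

attribute [local instance] HasDerivedCategory.standard

/-- The local ring of `X` at a point of an affine chart is the localization. -/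
lemma nonempty_stalk_ringEquiv {A : Type u} [CommRing A] {X : Scheme.{u}}
    (j : Spec (CommRingCat.of A) ⟶ X) [IsOpenImmersion j] (p : PrimeSpectrum A) :
    Nonempty (Localization.AtPrime p.asIdeal ≃+* X.presheaf.stalk (j.base p)) := by
  let e1 : Localization.AtPrime p.asIdeal ≃+* (Spec (CommRingCat.of A)).presheaf.stalk p :=
    (StructureSheaf.stalkIso A p).toRingEquiv
  let e2 : X.presheaf.stalk (j.base p) ≃+* (Spec (CommRingCat.of A)).presheaf.stalk p :=
    (asIso (j.stalkMap p)).commRingCatIsoToRingEquiv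
  exact ⟨e1.trans e2.symm⟩

/-- Openness of a locus defined by a property of local rings, from affine charts. -/
theorem isOpen_of_affine_local {X : Scheme.{u}} (P : ∀ (R : Type u) [CommRing R], Prop)
    (hP : ∀ (R S : Type u) [CommRing R] [CommRing S], (R ≃+* S) → P R → P S)
    (h : ∀ (A : Type u) [CommRing A] (j : Spec (CommRingCat.of A) ⟶ X) [IsOpenImmersion j],
      IsOpen {p : PrimeSpectrum A | P (Localization.AtPrime p.asIdeal)}) :
    IsOpen {x : X | P (X.presheaf.stalk x)} := by
  rw [isOpen_iff_forall_mem_open]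
  intro x hx
  obtain ⟨U, hU, hxU, -⟩ := exists_isAffineOpen_mem_and_subset (x := x) (U := ⊤) trivial
  let j : Spec (CommRingCat.of Γ(X, U)) ⟶ X := hU.fromSpec
  have hj : IsOpenImmersion j := inferInstanceAs (IsOpenImmersion hU.fromSpec)
  have hopen := h Γ(X, U) j
  have hrange : Set.range j.base = U := hU.range_fromSpec
  obtain ⟨p, rfl⟩ : x ∈ Set.range j.base := by rw [hrange]; exact hxU
  refine ⟨j.base '' {p : PrimeSpectrum Γ(X, U) | P (Localization.AtPrime p.asIdeal)}, ?_,
    j.isOpenEmbedding.isOpenMap _ hopen, ⟨p, ?_, rfl⟩⟩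
  · rintro _ ⟨q, hq, rfl⟩
    obtain ⟨e⟩ := nonempty_stalk_ringEquiv j q
    exact hP _ _ e hq
  · obtain ⟨e⟩ := nonempty_stalk_ringEquiv j p
    exact hP _ _ e.symm hx

end Groth.Agent.Lib.Helper13.DualSch
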