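import Groth.Agent.Lib.Helper13.DualSch1
import Groth.Agent.Lib.Helper13.DualBC37
import Groth.Agent.Lib.Helper18.FibQuot
import Groth.Agent.Lib.Helper28.DCohRes1
import Groth.Prelude.Def_DCoh3
import Mathlib.AlgebraicGeometry.Modules.Tilde

/-!
# Dualizing complexes on schemes: stalks of cohomology sheaves
-/

set_option autoImplicit false
set_option linter.unusedSectionVars false

open CategoryTheory CategoryTheory.Limits AlgebraicGeometry

universe u

namespace Groth.Agent.Lib.Helper13.DualSch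

attribute [local instance] HasDerivedCategory.standard

open Groth.Agent.Lib.Helper28.DCohRes

lemma nontrivial_congr_of_iso {G H : Ab.{u}} (e : G ≅ H) : Nontrivial G ↔ Nontrivial H :=
  e.addCommGroupIsoToAddEquiv.toEquiv.nontrivial_congr

variable {X : Scheme.{u}}
  [∀ (U : Scheme.{u}) (j : U ⟶ X) [IsOpenImmersion j],
    PreservesFiniteLimits (Scheme.Modules.restrictFunctor j)]
  [∀ (R : CommRingCat.{u}), PreservesFiniteLimits (tilde.functor R)]

/-- The stalk of `H^i(K)` at a point of an affine chart on which `K` is `ω~`. -/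
lemma nontrivial_stalk_HD_iff (R : CommRingCat.{u}) (j : Spec (CommRingCat.of R) ⟶ X)
    [IsOpenImmersion j] (K : DCoh.D X) (ω : Dual.D R)
    (e : (DCoh.restrictD j).obj K ≅ (DCoh.tildeD R).obj ω) (i : ℤ)
    (p : PrimeSpectrum R) :
    Nontrivial ((DCoh.HD K i).presheaf.stalk (j.base p)) ↔
      p ∈ Module.support R (Dual.HD R ω i) := by
  let iso1 := (Scheme.Modules.restrictStalkNatIso j p).app (DCoh.HD K i)
  let iso2 : DCoh.HD ((DCoh.restrictD j).obj K) i ≅
      (Scheme.Modules.restrictFunctor j).obj (DCoh.HD K i) :=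
    (mapDHomologyIso (Scheme.Modules.restrictFunctor j) i).app K
  let iso3 : DCoh.HD ((DCoh.restrictD j).obj K) i ≅
      DCoh.HD ((DCoh.tildeD R).obj ω) i :=
    (DerivedCategory.homologyFunctor _ i).mapIso e
  let iso4 : DCoh.HD ((DCoh.tildeD R).obj ω) i ≅
      (tilde.functor R).obj
        ((DerivedCategory.homologyFunctor (ModuleCat.{u} R) i).obj ω) :=
    (mapDHomologyIso (tilde.functor R) i).app ω
  let iso5 := (Scheme.Modules.toPresheaf _ ⋙ TopCat.Presheaf.stalkFunctor Ab.{u} p).mapIso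
    (iso2.symm ≪≫ iso3 ≪≫ iso4)
  have h1 : Nontrivial ((DCoh.HD K i).presheaf.stalk (j.base p)) ↔
      Nontrivial (((Scheme.Modules.restrictFunctor j).obj (DCoh.HD K i)).presheaf.stalk p) :=
    (nontrivial_congr_of_iso iso1).symm
  have h2 : Nontrivial (((Scheme.Modules.restrictFunctor j).obj (DCoh.HD K i)).presheaf.stalk p) ↔
      Nontrivial ((tilde ((DerivedCategory.homologyFunctor (ModuleCat.{u} R) i).obj
        ω)).presheaf.stalk p) :=
    nontrivial_congr_of_iso iso5
  rw [h1, h2, Module.mem_support_iff]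
  exact (IsLocalizedModule.iso p.asIdeal.primeCompl
    (tilde.toStalk ((DerivedCategory.homologyFunctor (ModuleCat.{u} R) i).obj ω)
      p).hom).toEquiv.nontrivial_congr.symm

/-- Cohen–Macaulay points of a scheme with a dualizing complex. -/
theorem isCM_stalk_iff (K : DCoh.D X) (hK : Dual2.IsDualizingSch X K) (x : X) :
    LocCoh.IsCohenMacaulayLocalRing (X.presheaf.stalk x) ↔
      ∃! i : ℤ, Nontrivial ((DCoh.HD K i).presheaf.stalk x) := by
  obtain ⟨U, hU, hxU, -⟩ := exists_isAffineOpen_mem_and_subset (x := x) (U := ⊤) trivial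
  let j : Spec (CommRingCat.of Γ(X, U)) ⟶ X := hU.fromSpec
  have hj : IsOpenImmersion j := inferInstanceAs (IsOpenImmersion hU.fromSpec)
  have hrange : Set.range j.base = U := hU.range_fromSpec
  obtain ⟨p, rfl⟩ : x ∈ Set.range j.base := by rw [hrange]; exact hxU
  obtain ⟨ω, hω, ⟨e⟩⟩ := hK Γ(X, U) j
  have := hω.isNoetherianRing
  obtain ⟨er⟩ := nonempty_stalk_ringEquiv j p
  have h1 : LocCoh.IsCohenMacaulayLocalRing (X.presheaf.stalk (j.base p)) ↔
      LocCoh.IsCohenMacaulayLocalRing (Localization.AtPrime p.asIdeal) :=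
    ⟨fun h => Groth.Agent.Lib.Helper18.FibQuot.isCohenMacaulayLocalRing_of_ringEquiv er.symm,
      fun h => Groth.Agent.Lib.Helper18.FibQuot.isCohenMacaulayLocalRing_of_ringEquiv er⟩
  rw [h1, Groth.Agent.Lib.Helper13.DualBC.isCM_localization_iff_existsUnique Γ(X, U) ω hω p]
  have h2 : ∀ i : ℤ, Nontrivial ((DCoh.HD K i).presheaf.stalk (j.base p)) ↔
      p ∈ Module.support Γ(X, U) (Dual.HD Γ(X, U) ω i) := fun i =>
    nontrivial_stalk_HD_iff (CommRingCat.of Γ(X, U)) j K ω e i p
  simp only [h2]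
  exact Iff.rfl

end Groth.Agent.Lib.Helper13.DualSch
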