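import Groth.Agent.Lib.Helper13.DualSch2
import Groth.Agent.Lib.Helper28.DCohRes16

/-!
# Dualizing complexes on schemes: dualizing modules
-/

set_option autoImplicit false
set_option linter.unusedSectionVars false

open CategoryTheory CategoryTheory.Limits AlgebraicGeometry

universe u

namespace Groth.Agent.Lib.Helper13.DualSch

attribute [local instance] HasDerivedCategory.standard

open Groth.Agent.Lib.Helper28.DCohRes

variable {X : Scheme.{u}}
  [∀ (U : Scheme.{u}) (j : U ⟶ X) [IsOpenImmersion j],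
    PreservesFiniteLimits (Scheme.Modules.restrictFunctor j)]
  [∀ (R : CommRingCat.{u}), PreservesFiniteLimits (tilde.functor R)]

/-- Some cohomology sheaf of a dualizing complex has nonzero stalk at `x`. -/
theorem exists_nontrivial_stalk_HD (K : DCoh.D X) (hK : Dual2.IsDualizingSch X K) (x : X) :
    ∃ i : ℤ, Nontrivial ((DCoh.HD K i).presheaf.stalk x) := by
  obtain ⟨U, hU, hxU, -⟩ := exists_isAffineOpen_mem_and_subset (x := x) (U := ⊤) trivial
  let j : Spec (CommRingCat.of Γ(X, U)) ⟶ X := hU.fromSpec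
  have hj : IsOpenImmersion j := inferInstanceAs (IsOpenImmersion hU.fromSpec)
  have hrange : Set.range j.base = U := hU.range_fromSpec
  obtain ⟨p, rfl⟩ : x ∈ Set.range j.base := by rw [hrange]; exact hxU
  obtain ⟨ω, hω, ⟨e⟩⟩ := hK Γ(X, U) j
  have := hω.isNoetherianRing
  obtain ⟨i, hi⟩ := Groth.Agent.Lib.Helper13.DualBC.exists_mem_support_HD Γ(X, U) ω hω p
  exact ⟨i, (nontrivial_stalk_HD_iff (CommRingCat.of Γ(X, U)) j K ω e i p).2 hi⟩

/-- A scheme with a dualizing module is Cohen–Macaulay. -/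
theorem isCM_of_dualizing_module (ω : X.Modules) (hD : Dual2.IsDualizingSch X (DCoh.inD X ω))
    (x : X) : LocCoh.IsCohenMacaulayLocalRing (X.presheaf.stalk x) := by
  rw [isCM_stalk_iff (DCoh.inD X ω) hD x]
  obtain ⟨i, hi⟩ := exists_nontrivial_stalk_HD (DCoh.inD X ω) hD x
  have hz : ∀ k : ℤ, k ≠ 0 → ¬ Nontrivial ((DCoh.HD (DCoh.inD X ω) k).presheaf.stalk x) := by
    intro k hk
    rw [not_nontrivial_iff_subsingleton]
    exact ((Groth.Agent.Lib.Helper29.QCoh.isZero_iff_stalk_subsingleton _).1 (isZero_HD_inD ω k hk)) x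
  have hi0 : i = 0 := by
    by_contra hne
    exact hz i hne hi
  subst hi0
  exact ⟨0, hi, fun k hk => by
    by_contra hne
    exact hz k hne hk⟩

end Groth.Agent.Lib.Helper13.DualSch
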