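import Groth.Agent.Lib.Helper13.LiftCx2
import Groth.Prelude.Def_DRing2
import Mathlib.LinearAlgebra.TensorProduct.Quotient

set_option autoImplicit false
set_option linter.style.haveILetI false
universe u
open CategoryTheory

namespace Groth.Agent.Lib.Helper13.LC

variable {R : Type u} [CommRing R] (I : Ideal R)

open ModuleCat ChangeOfRings TensorProduct

section Std

variable (M : ModuleCat.{u} R) (N : ModuleCat.{u} (R ⧸ I))
  (e : TensorProduct R (R ⧸ I) M ≃ₗ[R ⧸ I] N)

/-- The reduction map `M → N` attached to an isomorphism `R/I ⊗ M ≃ N`. -/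
noncomputable def redLin : M →ₗ[R] ((restrictScalars (Ideal.Quotient.mk I)).obj N) where
  toFun := fun x => e ((1 : R ⧸ I) ⊗ₜ[R] x)
  map_add' := fun x y => by
    rw [TensorProduct.tmul_add, map_add]
    rfl
  map_smul' := fun r x => by
    have h1 : e ((1 : R ⧸ I) ⊗ₜ[R] (r • x)) = Ideal.Quotient.mk I r • e ((1 : R ⧸ I) ⊗ₜ[R] x) := by
      rw [TensorProduct.tmul_smul, ← algebraMap_smul (R ⧸ I) r ((1 : R ⧸ I) ⊗ₜ[R] x), map_smul]
      rfl
    exact h1

/-- The reduction map `M → N` attached to an isomorphism `R/I ⊗ M ≃ N`. -/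
noncomputable def redMap : M ⟶ (restrictScalars (Ideal.Quotient.mk I)).obj N :=
  ConcreteCategory.ofHom (C := ModuleCat R) (redLin I M N e)

lemma redMap_apply (x : M) : (redMap I M N e).hom x = e ((1 : R ⧸ I) ⊗ₜ[R] x) := rfl

lemma redMap_surjective : Function.Surjective (redMap I M N e).hom := by
  intro n
  obtain ⟨z, rfl⟩ := e.surjective n
  obtain ⟨x, hx⟩ := Submodule.Quotient.mk_surjective _ (quotTensorEquivQuotSMul M I z)
  refine ⟨x, ?_⟩
  rw [redMap_apply]
  congr 1
  rw [← quotTensorEquivQuotSMul_symm_mk, hx, LinearEquiv.symm_apply_apply]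

lemma redMap_eq_zero_iff (x : M) :
    (redMap I M N e).hom x = 0 ↔ x ∈ I • (⊤ : Submodule R M) := by
  rw [redMap_apply]
  change e ((1 : R ⧸ I) ⊗ₜ[R] x) = (0 : N) ↔ _
  rw [LinearEquiv.map_eq_zero_iff, ← Submodule.Quotient.mk_eq_zero,
    ← quotTensorEquivQuotSMul_mk_one_tmul, LinearEquiv.map_eq_zero_iff]

end Std

section Main

/-- The zero complex with `PUnit` terms. -/
noncomputable def zeroCx : CochainComplex (ModuleCat.{u} R) ℤ where
  X _ := ModuleCat.of R PUnit
  d _ _ := 0
  shape _ _ _ := rfl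
  d_comp_d' _ _ _ _ _ := by simp

omit I in
lemma mem_smul_top_punit_prod (I : Ideal R) (M : Type u) [AddCommGroup M] [Module R M]
    (x : PUnit.{u + 1} × M) :
    x ∈ I • (⊤ : Submodule R (PUnit.{u + 1} × M)) ↔ x.2 ∈ I • (⊤ : Submodule R M) := by
  constructor
  · intro hx
    have h1 : LinearMap.snd R PUnit.{u + 1} M x ∈ Submodule.map (LinearMap.snd R PUnit.{u + 1} M)
        (I • ⊤) := Submodule.mem_map_of_mem hx
    rw [Submodule.map_smul''] at h1
    exact Submodule.smul_mono le_rfl le_top h1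
  · intro hx
    have h1 : LinearMap.inr R PUnit.{u + 1} M x.2 ∈ Submodule.map (LinearMap.inr R PUnit.{u + 1} M)
        (I • ⊤) := Submodule.mem_map_of_mem hx
    rw [Submodule.map_smul''] at h1
    have h2 : LinearMap.inr R PUnit.{u + 1} M x.2 = x := Prod.ext rfl rfl
    rw [h2] at h1
    exact Submodule.smul_mono le_rfl le_top h1

theorem exists_acyclic_lift (Pc : ObjectProperty (ModuleCat.{u} R)) [Pc.IsClosedUnderIsomorphisms]
    (h1 : ∀ X : ModuleCat.{u} R, Pc X → Module.Projective R X)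
    (h2 : ∀ X Y : ModuleCat.{u} R, Pc X → Pc (ModuleCat.of R (X × Y)) → Pc Y)
    (h3 : ∀ (X Y : ModuleCat.{u} R) (f : X ⟶ Y), Pc X → Pc Y →
      LinearMap.range f.hom ⊔ I • (⊤ : Submodule R Y) = ⊤ → Function.Surjective f.hom)
    (E : DRing.Cx (R ⧸ I)) (b : ℤ) (hEb : DRing.VanishesAbove E b) (hEa : E.Acyclic)
    (hEt : ∀ i : ℤ, ∃ X : ModuleCat.{u} R, Pc X ∧
      Nonempty (TensorProduct R (R ⧸ I) X ≃ₗ[R ⧸ I] E.X i)) :
    ∃ (P : DRing.Cx R) (b' : ℤ), DRing.VanishesAbove P b' ∧ P.Acyclic ∧ (∀ i : ℤ, Pc (P.X i)) ∧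
      Nonempty ((((ModuleCat.extendScalars (Ideal.Quotient.mk I)).mapHomologicalComplex
        (ComplexShape.up ℤ)).obj P) ≅ E) := by
  choose X hX e using hEt
  let e' := fun i => (e i).some
  let C : CochainComplex (ModuleCat.{u} R) ℤ :=
    ((restrictScalars (Ideal.Quotient.mk I)).mapHomologicalComplex (ComplexShape.up ℤ)).obj E
  let ψ : ∀ n, X n ⟶ (restrictScalars (Ideal.Quotient.mk I)).obj (E.X n) :=
    fun n => redMap I (X n) (E.X n) (e' n)
  let φ : ∀ n, ((zeroCx (R := R)).X n × X n) →ₗ[R] C.X n :=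
    fun n => (ψ n).hom.comp (LinearMap.snd R _ _)
  have H : LiftHyp I Pc zeroCx C X φ b :=
    { iso := inferInstance
      h1 := h1
      h2 := h2
      h3 := h3
      hP := fun n => (Pc.prop_iff_of_iso (LinearEquiv.toModuleIso
        (LinearEquiv.uniqueProd (R := R) (M := X n) (M₂ := PUnit.{u + 1})))).2 (hX n)
      hY := fun n => h1 _ (hX n)
      φ_surj := fun n => (redMap_surjective I (X n) (E.X n) (e' n)).comp
        (fun y => ⟨(PUnit.unit, y), rfl⟩)
      φ_ker := fun n x => by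
        change (ψ n).hom x.2 = 0 ↔ _
        rw [redMap_eq_zero_iff]
        exact (mem_smul_top_punit_prod I (X n) x).symm
      φ_Q := fun i j q => by
        change (ψ j).hom 0 = (C.d i j).hom ((ψ i).hom 0)
        rw [map_zero, map_zero]
        exact (map_zero (C.d i j).hom).symm
      C_exact := fun i j k hij hjk c hc =>
        elementwise_of_exactAt E i j k hij hjk (hEa j) c hc
      C_bdd := fun n hn =>
        (ModuleCat.subsingleton_of_isZero (hEb n hn) : Subsingleton (E.X n)) }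
  obtain ⟨d, hshape, hcomp, hexact, -, hφd⟩ := exists_differential H
  let T : CochainComplex (ModuleCat.{u} R) ℤ :=
    mkCx (fun n => ModuleCat.of R ((zeroCx (R := R)).X n × X n)) d hshape hcomp
  refine ⟨T, b, ?_, ?_, fun i => H.hP i, ?_⟩
  · intro i hi
    haveI : Subsingleton (T.X i) := subsingleton_P H i hi
    exact ModuleCat.isZero_of_subsingleton _
  · intro j
    exact exactAt_of_elementwise T (j - 1) j (j + 1) (by omega) rfl
      (hexact (j - 1) j (j + 1) (by omega) rfl)
  · let ψT : ∀ n, T.X n ⟶ (restrictScalars (Ideal.Quotient.mk I)).obj (E.X n) :=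
      fun n => ConcreteCategory.ofHom (C := ModuleCat R) (φ n)
    have hiso : ∀ n, IsIso (((extendRestrictScalarsAdj (Ideal.Quotient.mk I)).homEquiv (T.X n)
        (E.X n)).symm (ψT n)) := fun n =>
      isIso_adjunct I (T.X n) (E.X n) (ψT n) (H.φ_surj n) (fun m hm => (H.φ_ker n m).1 hm)
    refine ⟨HomologicalComplex.Hom.isoOfComponents (fun n => @asIso _ _ _ _ _ (hiso n)) ?_⟩
    intro i j _
    refine (adjunct_naturality I (ψT i) (ψT j) (T.d i j) (E.d i j) ?_).symm
    ext x
    exact hφd i j x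

end Main

end Groth.Agent.Lib.Helper13.LC
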