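import Groth.Agent.Lib.Helper13.LiftCx1
import Mathlib.RingTheory.Nakayama
import Mathlib.Algebra.Module.StablyFree.Basic
import Mathlib.LinearAlgebra.TensorProduct.Quotient
import Mathlib.LinearAlgebra.FreeModule.Finite.Basic
import Mathlib.LinearAlgebra.Dimension.Free
import Mathlib.RingTheory.Finiteness.Prod
import Mathlib.RingTheory.TensorProduct.Finite

set_option autoImplicit false
set_option linter.style.haveILetI false
universe u
open CategoryTheory TensorProduct

namespace Groth.Agent.Lib.Helper13.LC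

variable {R : Type u} [CommRing R] {I : Ideal R}

/-- Nakayama: a map into a finite module which is surjective modulo `I ⊆ rad R` is surjective. -/
lemma surjective_of_range_sup_smul_top (hI : I ≤ Ideal.jacobson (⊥ : Ideal R))
    {X Y : Type u} [AddCommGroup X] [Module R X] [AddCommGroup Y] [Module R Y] [Module.Finite R Y]
    (f : X →ₗ[R] Y) (h : LinearMap.range f ⊔ I • (⊤ : Submodule R Y) = ⊤) :
    Function.Surjective f := by
  rw [← LinearMap.range_eq_top, eq_top_iff]
  exact Submodule.le_of_le_smul_of_le_jacobson_bot Module.Finite.fg_top hI (h.ge)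

/-- A submodule which is a direct summand: `I M ∩ ker g = I ker g` for a split surjection. -/
lemma mem_smul_ker_of_split {M N : Type u} [AddCommGroup M] [Module R M] [AddCommGroup N]
    [Module R N] [Module.Projective R N] (g : M →ₗ[R] N) (hg : Function.Surjective g)
    (x : M) (hx : g x = 0) (hxI : x ∈ I • (⊤ : Submodule R M)) :
    (⟨x, hx⟩ : LinearMap.ker g) ∈ I • (⊤ : Submodule R (LinearMap.ker g)) := by
  obtain ⟨-, π, hπ⟩ := exists_equiv_prod_ker g hg
  have h2 : π x ∈ Submodule.map π (I • ⊤) := Submodule.mem_map_of_mem hxI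
  rw [Submodule.map_smul''] at h2
  have h3 : π x ∈ I • (⊤ : Submodule R (LinearMap.ker g)) :=
    Submodule.smul_mono le_rfl le_top h2
  have h4 : π x = ⟨x, hx⟩ := hπ ⟨x, hx⟩
  rwa [h4] at h3

section StdTensor

variable (I)

/-- From a surjection `X → N` with kernel `I X` (`N` an `R/I`-module) to `R/I ⊗ X ≃ N`. -/
lemma nonempty_tensor_equiv {X N : Type u} [AddCommGroup X] [Module R X] [AddCommGroup N]
    [Module (R ⧸ I) N] [Module R N] [IsScalarTower R (R ⧸ I) N]
    (ρ : X →ₗ[R] N) (hs : Function.Surjective ρ)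
    (hk : ∀ x, ρ x = 0 ↔ x ∈ I • (⊤ : Submodule R X)) :
    Nonempty (TensorProduct R (R ⧸ I) X ≃ₗ[R ⧸ I] N) := by
  have hker : LinearMap.ker ρ = I • (⊤ : Submodule R X) := by
    ext x
    rw [LinearMap.mem_ker, hk]
  let e1 : (R ⧸ I) ⊗[R] X ≃ₗ[R] X ⧸ (I • ⊤ : Submodule R X) := quotTensorEquivQuotSMul X I
  let e2 : (X ⧸ (I • ⊤ : Submodule R X)) ≃ₗ[R] N :=
    (Submodule.quotEquivOfEq _ _ hker.symm).trans (ρ.quotKerEquivOfSurjective hs)
  exact ⟨(e1.trans e2).extendScalarsOfSurjective Ideal.Quotient.mk_surjective⟩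

end StdTensor

section Pi

variable (I)

/-- Componentwise reduction `R^n → (R/I)^n`. -/
noncomputable def piMk (n : ℕ) : (Fin n → R) →ₗ[R] (Fin n → R ⧸ I) :=
  (Algebra.linearMap R (R ⧸ I)).compLeft (Fin n)

lemma piMk_apply (n : ℕ) (v : Fin n → R) (i : Fin n) : piMk I n v i = Ideal.Quotient.mk I (v i) :=
  rfl

lemma piMk_surjective (n : ℕ) : Function.Surjective (piMk I n) := fun w =>
  ⟨fun i => (Ideal.Quotient.mk_surjective (w i)).choose, funext fun i =>
    (Ideal.Quotient.mk_surjective (w i)).choose_spec⟩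

lemma piMk_eq_zero_iff (n : ℕ) (v : Fin n → R) :
    piMk I n v = 0 ↔ v ∈ I • (⊤ : Submodule R (Fin n → R)) := by
  constructor
  · intro h
    have hv : ∀ i, v i ∈ I := fun i => by
      have := congrFun h i
      rwa [piMk_apply, Pi.zero_apply, Ideal.Quotient.eq_zero_iff_mem] at this
    rw [pi_eq_sum_univ v]
    refine Submodule.sum_mem _ (fun i _ => ?_)
    exact Submodule.smul_mem_smul (hv i) Submodule.mem_top
  · intro h
    refine Submodule.smul_induction_on h ?_ ?_
    · intro r hr w _
      funext i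
      rw [piMk_apply, Pi.smul_apply, smul_eq_mul, map_mul,
        Ideal.Quotient.eq_zero_iff_mem.2 hr, zero_mul]
      rfl
    · intro x y hx hy
      rw [map_add, hx, hy, add_zero]

end Pi

/-- Finite stably free modules lift along an ideal contained in the Jacobson radical. -/
theorem exists_lift_stablyFree (hI : I ≤ Ideal.jacobson (⊥ : Ideal R)) (N : Type u)
    [AddCommGroup N] [Module (R ⧸ I) N] [Module.Finite (R ⧸ I) N]
    [Module.IsStablyFree (R ⧸ I) N] :
    ∃ X : ModuleCat.{u} R, (Module.Finite R X ∧ Module.IsStablyFree R X) ∧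
      Nonempty (TensorProduct R (R ⧸ I) X ≃ₗ[R ⧸ I] N) := by
  by_cases htriv : Subsingleton (R ⧸ I)
  · haveI : Subsingleton N := Module.subsingleton (R ⧸ I) N
    haveI : Subsingleton (TensorProduct R (R ⧸ I) PUnit.{u + 1}) :=
      Module.subsingleton (R ⧸ I) _
    exact ⟨ModuleCat.of R PUnit.{u + 1}, ⟨inferInstance, inferInstance⟩,
      ⟨LinearEquiv.ofSubsingleton _ _⟩⟩
  haveI : Nontrivial (R ⧸ I) := not_subsingleton_iff_nontrivial.1 htriv
  obtain ⟨N', _, _, _, _, _⟩ := Module.IsStablyFree.exist_free_prod (R ⧸ I) N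
  let m := Module.finrank (R ⧸ I) N'
  let n := Module.finrank (R ⧸ I) (N × N')
  let b' : Module.Basis (Fin m) (R ⧸ I) N' := Module.finBasis (R ⧸ I) N'
  let b : Module.Basis (Fin n) (R ⧸ I) (N × N') := Module.finBasis (R ⧸ I) (N × N')
  let πb : (Fin n → R ⧸ I) →ₗ[R ⧸ I] (Fin m → R ⧸ I) :=
    b'.equivFun.toLinearMap ∘ₗ LinearMap.snd (R ⧸ I) N N' ∘ₗ b.equivFun.symm.toLinearMap
  have hπb : Function.Surjective πb := by
    intro w
    refine ⟨b.equivFun (0, b'.equivFun.symm w), ?_⟩
    change b'.equivFun (b.equivFun.symm (b.equivFun (0, b'.equivFun.symm w))).2 = w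
    rw [LinearEquiv.symm_apply_apply, LinearEquiv.apply_symm_apply]
  obtain ⟨π, hπ⟩ := Module.projective_lifting_property (piMk I m)
    ((πb.restrictScalars R) ∘ₗ piMk I n) (piMk_surjective I m)
  have hπ' : ∀ a, piMk I m (π a) = πb (piMk I n a) := fun a => congr($hπ a)
  have hπs : Function.Surjective π := by
    apply surjective_of_range_sup_smul_top hI
    rw [eq_top_iff]
    intro v _
    obtain ⟨ab, hab⟩ := hπb (piMk I m v)
    obtain ⟨a, rfl⟩ := piMk_surjective I n ab
    have h0 : piMk I m (v - π a) = 0 := by rw [map_sub, hπ', hab, sub_self]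
    have : v = π a + (v - π a) := by abel
    rw [this]
    exact Submodule.add_mem_sup ⟨a, rfl⟩ ((piMk_eq_zero_iff I m _).1 h0)
  obtain ⟨e, -, -⟩ := exists_equiv_prod_ker π hπs
  haveI : Module.Finite R (LinearMap.ker π) :=
    Module.Finite.of_surjective ((LinearMap.snd R (Fin m → R) (LinearMap.ker π)).comp e.toLinearMap)
      ((LinearMap.snd_surjective (R := R) (M := Fin m → R) (M₂ := LinearMap.ker π)).comp
        e.surjective)
  haveI : Module.Free R (LinearMap.ker π × (Fin m → R)) :=
    Module.Free.of_equiv (e.trans (LinearEquiv.prodComm R _ _))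
  haveI : Module.IsStablyFree R (LinearMap.ker π) :=
    Module.IsStablyFree.of_free_prod R (LinearMap.ker π) (Fin m → R)
  letI : Module R N := Module.compHom N (Ideal.Quotient.mk I)
  haveI : IsScalarTower R (R ⧸ I) N := ⟨fun r s x => by
    change (r • s) • x = Ideal.Quotient.mk I r • (s • x)
    rw [Algebra.smul_def, mul_smul]
    rfl⟩
  let θ : (Fin n → R ⧸ I) →ₗ[R ⧸ I] N :=
    LinearMap.fst (R ⧸ I) N N' ∘ₗ b.equivFun.symm.toLinearMap
  let ρ : LinearMap.ker π →ₗ[R] N :=
    (θ.restrictScalars R) ∘ₗ piMk I n ∘ₗ (LinearMap.ker π).subtype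
  have hρ_apply : ∀ x : LinearMap.ker π, ρ x = (b.equivFun.symm (piMk I n x)).1 := fun x => rfl
  have hsnd : ∀ a : Fin n → R, b'.equivFun (b.equivFun.symm (piMk I n a)).2 = piMk I m (π a) :=
    fun a => (hπ' a).symm
  refine ⟨ModuleCat.of R (LinearMap.ker π), ⟨inferInstance, inferInstance⟩, ?_⟩
  refine nonempty_tensor_equiv I ρ ?_ ?_
  · intro y
    obtain ⟨a, ha⟩ := piMk_surjective I n (b.equivFun (y, 0))
    have h1 : piMk I m (π a) = 0 := by
      rw [← hsnd, ha, LinearEquiv.symm_apply_apply]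
      exact map_zero _
    have h2 : π a ∈ I • (⊤ : Submodule R (Fin m → R)) := (piMk_eq_zero_iff I m _).1 h1
    have h3 : Submodule.map π (I • ⊤) = I • ⊤ := by
      rw [Submodule.map_smul'', Submodule.map_top, LinearMap.range_eq_top.2 hπs]
    rw [← h3] at h2
    obtain ⟨w, hw, hπw⟩ := h2
    refine ⟨⟨a - w, by rw [LinearMap.mem_ker, map_sub, hπw, sub_self]⟩, ?_⟩
    rw [hρ_apply]
    change (b.equivFun.symm (piMk I n (a - w))).1 = y
    rw [map_sub, (piMk_eq_zero_iff I n w).2 hw, sub_zero, ha, LinearEquiv.symm_apply_apply]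
  · intro x
    constructor
    · intro hx
      rw [hρ_apply] at hx
      have h1 : (b.equivFun.symm (piMk I n x)).2 = 0 := by
        apply b'.equivFun.injective
        rw [hsnd, x.2, map_zero, map_zero]
      have h2 : b.equivFun.symm (piMk I n x) = 0 := Prod.ext hx h1
      have h3 : piMk I n x = 0 := by
        have := congrArg b.equivFun h2
        rwa [LinearEquiv.apply_symm_apply, map_zero] at this
      have h4 : (x : Fin n → R) ∈ I • (⊤ : Submodule R (Fin n → R)) :=
        (piMk_eq_zero_iff I n _).1 h3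
      exact mem_smul_ker_of_split π hπs x.1 x.2 h4
    · intro hx
      have h1 : (x : Fin n → R) ∈ Submodule.map (LinearMap.ker π).subtype (I • ⊤) :=
        Submodule.mem_map_of_mem hx
      rw [Submodule.map_smul''] at h1
      have h2 : (x : Fin n → R) ∈ I • (⊤ : Submodule R (Fin n → R)) :=
        Submodule.smul_mono le_rfl le_top h1
      rw [hρ_apply, (piMk_eq_zero_iff I n _).2 h2, map_zero]
      rfl

/-- A finite projective module which is free modulo `I ⊆ rad R` is free. -/
theorem free_of_free_quotient (hI : I ≤ Ideal.jacobson (⊥ : Ideal R)) (X : Type u)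
    [AddCommGroup X] [Module R X] [Module.Finite R X] [Module.Projective R X]
    (N : Type u) [AddCommGroup N] [Module (R ⧸ I) N] [Module R N] [IsScalarTower R (R ⧸ I) N]
    [Module.Free (R ⧸ I) N] (ρ : X →ₗ[R] N) (hρs : Function.Surjective ρ)
    (hρk : ∀ x, ρ x = 0 ↔ x ∈ I • (⊤ : Submodule R X)) : Module.Free R X := by
  by_cases htriv : Subsingleton (R ⧸ I)
  · have h1 : I = ⊤ := Ideal.Quotient.subsingleton_iff.1 htriv
    have h2 : Ideal.jacobson (⊥ : Ideal R) = ⊤ := top_le_iff.1 (h1 ▸ hI)
    have h3 : (⊥ : Ideal R) = ⊤ := Ideal.jacobson_eq_top_iff.1 h2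
    have h4 : (1 : R) ∈ (⊥ : Ideal R) := h3 ▸ Submodule.mem_top
    haveI : Subsingleton R := subsingleton_of_zero_eq_one ((Submodule.mem_bot R).1 h4).symm
    haveI : Subsingleton X := Module.subsingleton R X
    infer_instance
  haveI : Nontrivial (R ⧸ I) := not_subsingleton_iff_nontrivial.1 htriv
  haveI : Module.Finite R N := Module.Finite.of_surjective ρ hρs
  haveI : Module.Finite (R ⧸ I) N := Module.Finite.of_restrictScalars_finite R (R ⧸ I) N
  let r := Module.finrank (R ⧸ I) N
  let c : Module.Basis (Fin r) (R ⧸ I) N := Module.finBasis (R ⧸ I) N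
  choose x hx using fun j => hρs (c j)
  let θ : (Fin r → R) →ₗ[R] X := Fintype.linearCombination R x
  have hθ : ∀ a : Fin r → R, ρ (θ a) = c.equivFun.symm (piMk I r a) := by
    intro a
    rw [Fintype.linearCombination_apply, map_sum, Module.Basis.equivFun_symm_apply]
    refine Finset.sum_congr rfl (fun j _ => ?_)
    rw [map_smul, hx, piMk_apply, ← algebraMap_smul (R ⧸ I) (a j) (c j)]
    rfl
  have hθs : Function.Surjective θ := by
    apply surjective_of_range_sup_smul_top hI
    rw [eq_top_iff]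
    intro y _
    obtain ⟨a, ha⟩ := piMk_surjective I r (c.equivFun (ρ y))
    have h0 : ρ (y - θ a) = 0 := by
      rw [map_sub, hθ, ha, LinearEquiv.symm_apply_apply, sub_self]
    have : y = θ a + (y - θ a) := by abel
    rw [this]
    exact Submodule.add_mem_sup ⟨a, rfl⟩ ((hρk _).1 h0)
  obtain ⟨e, -, -⟩ := exists_equiv_prod_ker θ hθs
  haveI : Module.Finite R (LinearMap.ker θ) :=
    Module.Finite.of_surjective ((LinearMap.snd R X (LinearMap.ker θ)).comp e.toLinearMap)
      ((LinearMap.snd_surjective (R := R) (M := X) (M₂ := LinearMap.ker θ)).comp e.surjective)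
  have hle : (⊤ : Submodule R (LinearMap.ker θ)) ≤ I • ⊤ := by
    intro k _
    have h1 : ρ (θ k) = 0 := by rw [k.2, map_zero]
    rw [hθ] at h1
    have h2 : piMk I r k = 0 := by
      have := congrArg c.equivFun h1
      rwa [LinearEquiv.apply_symm_apply, map_zero] at this
    exact mem_smul_ker_of_split θ hθs k.1 k.2 ((piMk_eq_zero_iff I r _).1 h2)
  have hbot : (⊤ : Submodule R (LinearMap.ker θ)) = ⊥ :=
    Submodule.eq_bot_of_le_smul_of_le_jacobson_bot I ⊤ Module.Finite.fg_top hle hI
  have hinj : Function.Injective θ := by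
    rw [← LinearMap.ker_eq_bot, eq_bot_iff]
    intro k hk
    have : (⟨k, hk⟩ : LinearMap.ker θ) ∈ (⊥ : Submodule R (LinearMap.ker θ)) :=
      hbot ▸ Submodule.mem_top
    rw [Submodule.mem_bot] at this
    exact congrArg Subtype.val this
  exact Module.Free.of_equiv (LinearEquiv.ofBijective θ ⟨hinj, hθs⟩)

end Groth.Agent.Lib.Helper13.LC
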