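import Groth.Agent.Lib.Helper13.RelDual6
import Groth.Agent.Lib.Helper13.DualBC28
import Mathlib.RingTheory.LocalRing.ResidueField.Fiber

/-!
# Gorenstein fibres and invertibility of the relative dualizing complex
-/

set_option autoImplicit false
set_option linter.style.haveILetI false
universe u
open CategoryTheory CategoryTheory.Limits TensorProduct

namespace Groth.Agent.Lib.Helper13.RelDual

open Groth.Agent.Lib.Helper13.BD Groth.Agent.Lib.Helper13.DR Groth.Agent.Lib.Helper13.PC
  Groth.Agent.Lib.Helper13.Coind Groth.Agent.Lib.Helper13.Shriek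
open DerivedCategory

attribute [local instance] HasDerivedCategory.standard

section Backward

variable (A F : Type u) [CommRing A] [CommRing F] [Algebra A F] [IsNoetherianRing F]

/-- If `K ⊗^L_A F` is dualizing on `F` and `K` is locally on `A` a shift of the structure sheaf,
then `F` is Gorenstein. -/
theorem isGorensteinRing_of_locally_shift (K : Dual.D A)
    (hD : Dual.IsDualizing F ((DRing.LBaseChange (algebraMap A F)).obj K))
    (h : ∀ q : PrimeSpectrum A, ∃ (f : A) (_ : f ∉ q.asIdeal) (m : ℤ),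
      Nonempty ((DRing.LBaseChange (algebraMap A (Localization.Away f))).obj K ≅
        (Dual.inD (Localization.Away f) (Localization.Away f))⟦m⟧)) :
    LocCoh.IsGorensteinRing F := by
  refine { isGorensteinLocalRing_localization := ?_ }
  intro Q hQ
  let C := Localization.AtPrime Q
  obtain ⟨f, hf, m, ⟨ι⟩⟩ := h ⟨Q.comap (algebraMap A F), inferInstance⟩
  let g : A →+* C := (algebraMap F C).comp (algebraMap A F)
  have hu : IsUnit (g f) := by
    have : algebraMap A F f ∈ Q.primeCompl := hf
    exact IsLocalization.map_units C ⟨_, this⟩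
  let χ : Localization.Away f →+* C := IsLocalization.Away.lift f hu
  have hχ : g = χ.comp (algebraMap A (Localization.Away f)) :=
    (IsLocalization.Away.lift_comp f hu).symm
  let D := (DRing.LBaseChange (algebraMap A F)).obj K
  have e : (flatBC F C).obj D ≅ (Dual.inD C C)⟦m⟧ :=
    ((LBaseChangeFlatIso F C).app D).symm ≪≫
    (LComp (algebraMap A F) (algebraMap F C) g rfl).app K ≪≫
    (LComp (algebraMap A (Localization.Away f)) χ g hχ).symm.app K ≪≫
    (DRing.LBaseChange χ).mapIso ι ≪≫ LShiftSelfIso χ m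
  have hd := Groth.Agent.Lib.Helper13.DualBC.isDualizing_flatBC_localization F Q.primeCompl D hD
  have h1 := Groth.Agent.Lib.Helper13.DualBC.isDualizing_of_iso e hd
  have h2 := Groth.Agent.Lib.Helper13.DualBC.isDualizing_shift _ h1 (-m)
  have h3 := Groth.Agent.Lib.Helper13.DualBC.isDualizing_of_iso
    ((shiftFunctorCompIsoId (Dual.D C) m (-m) (by simp)).app _) h2
  exact (Groth.Agent.S11179.result C).2 h3

end Backward

section PrimeOver

variable (R A : Type u) [CommRing R] [CommRing A] [Algebra R A]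

/-- Every prime of `A` comes from a prime of the fibre over its image. -/
lemma exists_prime_fibre (p : PrimeSpectrum R) (q : PrimeSpectrum A)
    (hq : PrimeSpectrum.comap (algebraMap R A) q = p) :
    ∃ Q : PrimeSpectrum (A ⊗[R] p.asIdeal.ResidueField),
      Q.asIdeal.comap (algebraMap A (A ⊗[R] p.asIdeal.ResidueField)) = q.asIdeal := by
  let q' : (PrimeSpectrum.comap (algebraMap R A)) ⁻¹' {p} := ⟨q, hq⟩
  let Q' := PrimeSpectrum.preimageEquivFiber R A p q'
  have h1 : (PrimeSpectrum.preimageEquivFiber R A p).symm Q' = q' := Equiv.symm_apply_apply _ _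
  have h2 : Q'.asIdeal.comap Algebra.TensorProduct.includeRight.toRingHom = q.asIdeal := by
    have := congrArg (fun x => x.1.asIdeal) h1
    simpa using this
  let c : A ⊗[R] p.asIdeal.ResidueField →+* p.asIdeal.ResidueField ⊗[R] A :=
    (Algebra.TensorProduct.comm R A p.asIdeal.ResidueField).toAlgHom.toRingHom
  refine ⟨⟨Q'.asIdeal.comap c, inferInstance⟩, ?_⟩
  rw [← h2]
  change (Q'.asIdeal.comap c).comap _ = _
  rw [Ideal.comap_comap]
  congr 1

end PrimeOver

section Main

variable (R A : Type u) [CommRing R] [CommRing A] [IsNoetherianRing R] [IsNoetherianRing A]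
  [Algebra R A] [Module.Flat R A]

/-- Fibres of the relative dualizing complex, for any object isomorphic to `RHom_P(A, P)[n]`. -/
theorem isDualizing_fibre_of_iso (n : ℕ) (ψ : MvPolynomial (Fin n) R →ₐ[R] A)
    (hψ : Function.Surjective ψ) (K : Dual.D A)
    (e : K ≅ ((Rco ψ.toRingHom).obj
      (Dual.inD (MvPolynomial (Fin n) R) (MvPolynomial (Fin n) R)))⟦(n : ℤ)⟧)
    (k : Type u) [Field k] [Algebra R k] :
    IsNoetherianRing (A ⊗[R] k) ∧ Dual.IsDualizing (A ⊗[R] k)
      ((DRing.LBaseChange (algebraMap A (A ⊗[R] k))).obj K) := by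
  obtain ⟨h1, h2⟩ := isDualizing_fibre' R A n ψ hψ k
  exact ⟨h1, Groth.Agent.Lib.Helper13.DualBC.isDualizing_of_iso
    ((DRing.LBaseChange (algebraMap A (A ⊗[R] k))).mapIso e.symm) h2⟩

/-- **Gorenstein fibres ⇒ invertible relative dualizing complex.** -/
theorem exists_away_iso_of_gorenstein_fibres (n : ℕ) (ψ : MvPolynomial (Fin n) R →ₐ[R] A)
    (hψ : Function.Surjective ψ) (K : Dual.D A)
    (e : K ≅ ((Rco ψ.toRingHom).obj
      (Dual.inD (MvPolynomial (Fin n) R) (MvPolynomial (Fin n) R)))⟦(n : ℤ)⟧)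
    (hG : ∀ p : PrimeSpectrum R, LocCoh.IsGorensteinRing (A ⊗[R] p.asIdeal.ResidueField))
    (q : PrimeSpectrum A) :
    ∃ (f : A) (_ : f ∉ q.asIdeal) (m : ℤ),
      Nonempty ((DRing.LBaseChange (algebraMap A (Localization.Away f))).obj K ≅
        (Dual.inD (Localization.Away f) (Localization.Away f))⟦m⟧) := by
  let p := PrimeSpectrum.comap (algebraMap R A) q
  let κ := p.asIdeal.ResidueField
  let F := A ⊗[R] κ
  obtain ⟨hN, hD⟩ := isDualizing_fibre_of_iso R A n ψ hψ K e κ
  haveI := hN
  obtain ⟨Q, hQ⟩ := exists_prime_fibre R A p q rfl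
  haveI := hG p
  let C := Localization.AtPrime Q.asIdeal
  let B := Localization.AtPrime q.asIdeal
  have hGQ : LocCoh.IsGorensteinLocalRing C :=
    LocCoh.IsGorensteinRing.isGorensteinLocalRing_localization Q.asIdeal
  let D := (DRing.LBaseChange (algebraMap A F)).obj K
  have hd1 : Dual.IsDualizing C (Dual.inD C C) := (Groth.Agent.S11179.result C).1 hGQ
  have hd2 : Dual.IsDualizing C ((flatBC F C).obj D) :=
    Groth.Agent.Lib.Helper13.DualBC.isDualizing_flatBC_localization F Q.asIdeal.primeCompl D hD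
  obtain ⟨k, ⟨ε⟩⟩ :=
    Groth.Agent.Lib.Helper13.DualBC.dualizing_unique_up_to_shift C _ _ hd1 hd2
  obtain ⟨c, rfl⟩ : ∃ c : ℤ, k = -c := ⟨-k, by omega⟩
  let lam : B →+* C := Localization.localRingHom q.asIdeal Q.asIdeal (algebraMap A F) hQ.symm
  haveI : IsLocalHom lam := Localization.isLocalHom_localRingHom _ _ _ _
  have hlam : (algebraMap F C).comp (algebraMap A F) = lam.comp (algebraMap A B) := by
    ext a
    exact (Localization.localRingHom_to_map q.asIdeal Q.asIdeal (algebraMap A F) hQ.symm a).symm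
  let X := (flatBC A B).obj K
  obtain ⟨⟨a, b, hab⟩, hfin, -, -⟩ := properties_of_iso R A n ψ hψ K e
  have hpc : DRing.IsPseudoCoherent' B X := by
    refine Groth.Agent.Lib.Helper13.DualBC.isPseudoCoherent'_of_bdd_finite X b (fun i hi => ?_)
      (fun i => ?_)
    · have := hab i (Or.inr hi)
      exact (Groth.Agent.Lib.Helper13.LciInv.HDLocEquiv A q.asIdeal.primeCompl K
        i).toEquiv.subsingleton
    · have := hfin i
      exact Module.Finite.equiv (Groth.Agent.Lib.Helper13.LciInv.HDLocEquiv A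
        q.asIdeal.primeCompl K i).symm
  have e1 : (DRing.LBaseChange lam).obj X ≅ (Dual.inD C C)⟦-c⟧ :=
    (DRing.LBaseChange lam).mapIso ((LBaseChangeFlatIso A B).app K).symm ≪≫
    (LComp (algebraMap A B) lam _ rfl).app K ≪≫
    (LComp (algebraMap A F) (algebraMap F C) (lam.comp (algebraMap A B)) hlam.symm).symm.app K ≪≫
    (LBaseChangeFlatIso F C).app D ≪≫ ε
  obtain ⟨ξ⟩ := nonempty_iso_shift_of_local B C lam X hpc c ⟨e1⟩
  obtain ⟨f, hf, ⟨ζ⟩⟩ := Groth.Agent.Lib.Helper13.LciInv.exists_away_iso_shift A q.asIdeal K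
    hfin ⟨a, b, hab⟩ c ⟨ξ⟩
  exact ⟨f, hf, -c, ⟨(LBaseChangeFlatIso A (Localization.Away f)).app K ≪≫ ζ⟩⟩

/-- **Gorenstein fibres ⇔ invertible relative dualizing complex.** -/
theorem gorenstein_fibres_iff (n : ℕ) (ψ : MvPolynomial (Fin n) R →ₐ[R] A)
    (hψ : Function.Surjective ψ) (K : Dual.D A)
    (e : K ≅ ((Rco ψ.toRingHom).obj
      (Dual.inD (MvPolynomial (Fin n) R) (MvPolynomial (Fin n) R)))⟦(n : ℤ)⟧) :
    (∀ p : PrimeSpectrum R, LocCoh.IsGorensteinRing (A ⊗[R] p.asIdeal.ResidueField)) ↔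
    (∀ q : PrimeSpectrum A, ∃ (f : A) (_ : f ∉ q.asIdeal) (m : ℤ),
      Nonempty ((DRing.LBaseChange (algebraMap A (Localization.Away f))).obj K ≅
        (Dual.inD (Localization.Away f) (Localization.Away f))⟦m⟧)) := by
  constructor
  · intro hG q
    exact exists_away_iso_of_gorenstein_fibres R A n ψ hψ K e hG q
  · intro h p
    obtain ⟨hN, hD⟩ := isDualizing_fibre_of_iso R A n ψ hψ K e p.asIdeal.ResidueField
    haveI := hN
    exact isGorensteinRing_of_locally_shift A (A ⊗[R] p.asIdeal.ResidueField) K hD h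

end Main

end Groth.Agent.Lib.Helper13.RelDual
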