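import Mathlib
import Groth.Agent.Lib.Helper13.ExtBridge1
import Groth.Agent.Lib.Helper13.RelDual7
import Groth.Agent.Lib.Helper13.FibReg5
import Groth.Agent.Lib.Helper21.InvertibleLocal

set_option autoImplicit false
set_option linter.style.haveILetI false
set_option linter.unusedSectionVars false

universe u

open CategoryTheory CategoryTheory.Limits TensorProduct

namespace Groth.Agent.Lib.Helper13.ExtBridge

open DerivedCategory Groth.Agent.Lib.Helper13.Coind Groth.Agent.Lib.Helper13.DR
  Groth.Agent.Lib.Helper13.DualBC Groth.Agent.Lib.Helper13.Shriek Groth.Agent.Lib.Helper13.RelDual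

attribute [local instance] HasDerivedCategory.standard

section Struct

variable {B : Type u} [CommRing B]

/-- An object of `D(B)` with cohomology concentrated in one degree is a shifted module. -/
lemma exists_iso_single_shift (K₀ : Dual.D B) (c : ℤ)
    (h : ∀ j : ℤ, j ≠ c → Subsingleton (Dual.HD B K₀ j)) :
    ∃ M : ModuleCat.{u} B, Nonempty (K₀ ≅ (Dual.inD B M)⟦-c⟧) ∧
      Nonempty (M ≃ₗ[B] Dual.HD B K₀ c) := by
  have hz : ∀ i : ℤ, i ≠ 0 →
      IsZero ((DerivedCategory.homologyFunctor (ModuleCat.{u} B) i).obj (K₀⟦c⟧)) := by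
    intro i hi
    rw [isZero_iff_subsingleton]
    have := h (c + i) (by lia)
    exact (HDShiftLinearEquiv K₀ c i).toEquiv.subsingleton
  haveI : (K₀⟦c⟧).IsGE 0 := by
    rw [DerivedCategory.isGE_iff]
    exact fun i hi => hz i (by lia)
  haveI : (K₀⟦c⟧).IsLE 0 := by
    rw [DerivedCategory.isLE_iff]
    exact fun i hi => hz i (by lia)
  obtain ⟨M, ⟨e⟩⟩ := DerivedCategory.exists_iso_singleFunctor_obj_of_isGE_of_isLE (K₀⟦c⟧) 0
  refine ⟨M, ⟨(shiftFunctorCompIsoId (Dual.D B) c (-c) (by simp)).symm.app K₀ ≪≫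
    (shiftFunctor (Dual.D B) (-c)).mapIso e⟩, ⟨?_⟩⟩
  let e1 : M ≃ₗ[B] Dual.HD B ((DerivedCategory.singleFunctor (ModuleCat.{u} B) 0).obj M) 0 :=
    ((DerivedCategory.singleFunctorCompHomologyFunctorIso (ModuleCat.{u} B) 0).app
      M).toLinearEquiv.symm
  let e2 : Dual.HD B ((DerivedCategory.singleFunctor (ModuleCat.{u} B) 0).obj M) 0 ≃ₗ[B]
      Dual.HD B (K₀⟦c⟧) 0 :=
    ((DerivedCategory.homologyFunctor (ModuleCat.{u} B) 0).mapIso e.symm).toLinearEquiv
  let e3 : Dual.HD B (K₀⟦c⟧) 0 ≃ₗ[B] Dual.HD B K₀ c :=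
    (show ((DerivedCategory.homologyFunctor (ModuleCat.{u} B) 0).obj (K₀⟦c⟧)) ≃ₗ[B]
      (((DerivedCategory.homologyFunctor (ModuleCat.{u} B) 0).shift c).obj K₀) from
    (((DerivedCategory.homologyFunctor (ModuleCat.{u} B) 0).shiftIso c 0 c (add_zero c)).app
      K₀).toLinearEquiv)
  exact e1 ≪≫ₗ e2 ≪≫ₗ e3

end Struct

section Surj

variable {C F : Type u} [CommRing C] [CommRing F] [Algebra C F]

/-- A `C`-linear equivalence between `F`-modules is `F`-linear when `C → F` is surjective. -/
noncomputable def linearEquivOfSurjective (hs : Function.Surjective (algebraMap C F))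
    {M L : Type u} [AddCommGroup M] [Module F M] [AddCommGroup L] [Module F L]
    (e : RestrictScalars C F M ≃ₗ[C] RestrictScalars C F L) : M ≃ₗ[F] L where
  toFun m := RestrictScalars.addEquiv C F L (e ((RestrictScalars.addEquiv C F M).symm m))
  invFun l := RestrictScalars.addEquiv C F M (e.symm ((RestrictScalars.addEquiv C F L).symm l))
  left_inv m := by simp
  right_inv l := by simp
  map_add' x y := by simp
  map_smul' b m := by
    obtain ⟨c, rfl⟩ := hs b
    rw [RingHom.id_apply, RestrictScalars.addEquiv_symm_map_algebraMap_smul, map_smul,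
      RestrictScalars.addEquiv_map_smul]

/-- restriction of scalars of an `F`-linear equivalence -/
noncomputable def restrictLinearEquiv
    {M L : Type u} [AddCommGroup M] [Module F M] [AddCommGroup L] [Module F L]
    (e : M ≃ₗ[F] L) : RestrictScalars C F M ≃ₗ[C] RestrictScalars C F L where
  toFun m := (RestrictScalars.addEquiv C F L).symm (e (RestrictScalars.addEquiv C F M m))
  invFun l := (RestrictScalars.addEquiv C F M).symm (e.symm (RestrictScalars.addEquiv C F L l))
  left_inv m := by simp
  right_inv l := by simp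
  map_add' x y := by simp
  map_smul' c m := by
    rw [RingHom.id_apply, RestrictScalars.addEquiv_map_smul, map_smul,
      RestrictScalars.addEquiv_symm_map_algebraMap_smul]

end Surj

end Groth.Agent.Lib.Helper13.ExtBridge
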