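import Mathlib
import Groth.Agent.Lib.Helper13.ExtBridge2

set_option autoImplicit false
set_option linter.style.haveILetI false
set_option linter.unusedSectionVars false

universe u

open CategoryTheory CategoryTheory.Limits TensorProduct

namespace Groth.Agent.Lib.Helper13.ExtBridge

open DerivedCategory Groth.Agent.Lib.Helper13.Coind Groth.Agent.Lib.Helper13.DR
  Groth.Agent.Lib.Helper13.DualBC Groth.Agent.Lib.Helper13.Shriek Groth.Agent.Lib.Helper13.RelDual

attribute [local instance] HasDerivedCategory.standard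

section BC

variable (B : Type u) [CommRing B]

/-- base change of a shifted module to a localization -/
noncomputable def LBaseChangeAwayShiftIso (f : B) (M : Type u) [AddCommGroup M] [Module B M]
    (n : ℤ) :
    (DRing.LBaseChange (algebraMap B (Localization.Away f))).obj ((Dual.inD B M)⟦n⟧) ≅
      (Dual.inD (Localization.Away f) (Localization.Away f ⊗[B] M))⟦n⟧ :=
  (LBaseChangeFlatIso B (Localization.Away f)).app _ ≪≫
    flatBCShiftIso (Localization.Away f) (Dual.inD B M) n ≪≫
    (shiftFunctor (Dual.D (Localization.Away f)) n).mapIso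
      (flatBCSingleIso B (Localization.Away f) M)

end BC

section Main

variable (A : Type u) [CommRing A] [IsNoetherianRing A] (N n : ℕ)
  (B : Type u) [CommRing B] [Algebra A B] [Algebra (MvPolynomial (Fin N) A) B]
  [IsScalarTower A (MvPolynomial (Fin N) A) B] [Module.Flat A B]

theorem ext_invertible_iff_gorenstein (hnN : n ≤ N)
    (hsurj : Function.Surjective (algebraMap (MvPolynomial (Fin N) A) B))
    (hvan : ∀ j : ℕ, j ≠ N - n →
      Subsingleton (Abelian.Ext (ModuleCat.of (MvPolynomial (Fin N) A) B)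
        (ModuleCat.of (MvPolynomial (Fin N) A) (MvPolynomial (Fin N) A)) j)) :
    (∃ (L : Type u) (_ : AddCommGroup L) (_ : Module B L), Module.Invertible B L ∧
      Nonempty (RestrictScalars (MvPolynomial (Fin N) A) B L ≃ₗ[MvPolynomial (Fin N) A]
        Abelian.Ext (ModuleCat.of (MvPolynomial (Fin N) A) B)
          (ModuleCat.of (MvPolynomial (Fin N) A) (MvPolynomial (Fin N) A)) (N - n))) ↔
    ∀ p : PrimeSpectrum A, LocCoh.IsGorensteinRing (B ⊗[A] p.asIdeal.ResidueField) := by
  classical
  let P := MvPolynomial (Fin N) A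
  haveI : IsNoetherianRing B := isNoetherianRing_of_surjective P B (algebraMap P B) hsurj
  let ψ : P →ₐ[A] B := IsScalarTower.toAlgHom A P B
  have hψ : Function.Surjective ψ := hsurj
  let K₀ : Dual.D B := (Rco (algebraMap P B)).obj (Dual.inD P P)
  let c : ℤ := ((N - n : ℕ) : ℤ)
  have hc : -c + (N : ℤ) = n := by
    change -((N - n : ℕ) : ℤ) + (N : ℤ) = n
    omega
  -- vanishing
  have hK₀ : ∀ j : ℤ, j ≠ c → Subsingleton (Dual.HD B K₀ j) := by
    intro j hj
    rcases lt_or_ge j 0 with hj0 | hj0
    · have := FibReg.subsingleton_hom_inD_neg P B P j hj0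
      exact (HDRcoEquiv P B (Dual.inD P P) j).subsingleton
    · obtain ⟨k, rfl⟩ := Int.eq_ofNat_of_zero_le hj0
      have hk : k ≠ N - n := fun h => hj (by rw [h])
      have := hvan k hk
      exact (HDRcoExtEquiv P B P k).subsingleton
  obtain ⟨M, ⟨e₀⟩, ⟨ε⟩⟩ := exists_iso_single_shift K₀ c hK₀
  -- `K = K₀[N] ≅ M[n]`
  let K : Dual.D B := K₀⟦(N : ℤ)⟧
  let eK : K ≅ (Dual.inD B M)⟦(n : ℤ)⟧ :=
    (shiftFunctor (Dual.D B) (N : ℤ)).mapIso e₀ ≪≫
      ((shiftFunctorAdd' (Dual.D B) (-c) (N : ℤ) (n : ℤ) hc).app (Dual.inD B M)).symm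
  have hiff := gorenstein_fibres_iff A B N ψ hψ K (Iso.refl _)
  -- `M` restricted to `P` is the Ext module
  let Φ : RestrictScalars P B M ≃ₗ[P]
      Abelian.Ext (ModuleCat.of P B) (ModuleCat.of P P) (N - n) :=
    (restrictLinearEquiv (C := P) ε) ≪≫ₗ HDRcoExtLinearEquiv P B P (N - n)
  -- local base change
  have hloc : ∀ f : B, Nonempty
      ((DRing.LBaseChange (algebraMap B (Localization.Away f))).obj K ≅
        (Dual.inD (Localization.Away f) (Localization.Away f ⊗[B] M))⟦(n : ℤ)⟧) := fun f =>
    ⟨(DRing.LBaseChange (algebraMap B (Localization.Away f))).mapIso eK ≪≫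
      LBaseChangeAwayShiftIso B f M n⟩
  rw [hiff]
  constructor
  · rintro ⟨L, _, _, hL, ⟨eL⟩⟩ q
    haveI := hL
    have eML : M ≃ₗ[B] L := linearEquivOfSurjective hsurj (Φ ≪≫ₗ eL.symm)
    haveI : Module.Invertible B M := Module.Invertible.congr eML.symm
    obtain ⟨s, hs, hfree⟩ := Module.Invertible.exists_finset_free_localization B M
    have : ∃ r ∈ s, r ∉ q.asIdeal := by
      by_contra hcon
      push Not at hcon
      have : Ideal.span (s : Set B) ≤ q.asIdeal := Ideal.span_le.2 (fun r hr => hcon r hr)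
      rw [hs] at this
      exact q.isPrime.ne_top (top_le_iff.mp this)
    obtain ⟨r, hrs, hrq⟩ := this
    haveI := hfree r hrs
    obtain ⟨κ⟩ := (Module.Invertible.free_iff_linearEquiv (R := Localization.Away r)
      (M := LocalizedModule.Away r M)).1 inferInstance
    obtain ⟨ι⟩ := hloc r
    let τ : (Localization.Away r ⊗[B] M) ≃ₗ[Localization.Away r] Localization.Away r :=
      (LocalizedModule.equivTensorProduct (Submonoid.powers r) M).symm ≪≫ₗ κ
    exact ⟨r, hrq, n, ⟨ι ≪≫ (shiftFunctor _ (n : ℤ)).mapIso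
      ((DerivedCategory.singleFunctor (ModuleCat.{u} (Localization.Away r)) 0).mapIso
        τ.toModuleIso)⟩⟩
  · intro h
    refine ⟨M, inferInstance, inferInstance, ?_, ⟨Φ⟩⟩
    let s : Set B := {f | Nonempty
      (LocalizedModule.Away f M ≃ₗ[Localization.Away f] Localization.Away f)}
    refine Groth.Agent.Lib.Helper21.invertible_of_localizationSpan s ?_ (fun f hf => hf)
    by_contra hne
    obtain ⟨𝔪, h𝔪, hle⟩ := Ideal.exists_le_maximal _ hne
    obtain ⟨f, hf, m, ⟨ζ⟩⟩ := h ⟨𝔪, h𝔪.isPrime⟩
    apply hf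
    apply hle
    apply Ideal.subset_span
    -- `f ∈ s`
    obtain ⟨ι⟩ := hloc f
    let ξ : (Dual.inD (Localization.Away f) (Localization.Away f ⊗[B] M))⟦(n : ℤ)⟧ ≅
        (Dual.inD (Localization.Away f) (Localization.Away f))⟦m⟧ := ι.symm ≪≫ ζ
    haveI : Nontrivial (Localization.Away f) := by
      rw [← not_subsingleton_iff_nontrivial,
        IsLocalization.subsingleton_iff (M := Submonoid.powers f)]
      rintro ⟨k, hk⟩
      apply hf
      change f ∈ 𝔪
      have hk' : f ^ k = 0 := hk
      exact h𝔪.isPrime.mem_of_pow_mem k (by rw [hk']; exact zero_mem _)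
    have hmn : m = n := by
      by_contra hmn
      have h1 : Subsingleton (Dual.HD (Localization.Away f)
          ((Dual.inD (Localization.Away f) (Localization.Away f ⊗[B] M))⟦(n : ℤ)⟧) (-m)) := by
        have hz : IsZero ((DerivedCategory.homologyFunctor
            (ModuleCat.{u} (Localization.Away f)) ((n : ℤ) + -m)).obj
            (Dual.inD (Localization.Away f) (Localization.Away f ⊗[B] M))) :=
          PC.isZero_homology_single 0 ((n : ℤ) + -m) (by omega) _
        have := ModuleCat.subsingleton_of_isZero hz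
        exact (HDShiftLinearEquiv _ (n : ℤ) (-m)).toEquiv.subsingleton
      obtain ⟨e2⟩ := (HD_inD_self (B := Localization.Away f) (m + -m)).2 (by simp)
      have h3 : Subsingleton (Localization.Away f) :=
        ((e2.symm.toEquiv.trans (HDShiftLinearEquiv _ m (-m)).symm.toEquiv).trans
          ((DerivedCategory.homologyFunctor (ModuleCat.{u} (Localization.Away f)) (-m)).mapIso
            ξ.symm).toLinearEquiv.toEquiv).subsingleton
      exact not_subsingleton _ h3
    subst hmn
    let ξ' : Dual.inD (Localization.Away f) (Localization.Away f ⊗[B] M) ≅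
        Dual.inD (Localization.Away f) (Localization.Away f) :=
      (shiftFunctor (Dual.D (Localization.Away f)) (n : ℤ)).preimageIso ξ
    let ξ'' : ModuleCat.of (Localization.Away f) (Localization.Away f ⊗[B] M) ≅
        ModuleCat.of (Localization.Away f) (Localization.Away f) :=
      (DerivedCategory.singleFunctor (ModuleCat.{u} (Localization.Away f)) 0).preimageIso ξ'
    exact ⟨LocalizedModule.equivTensorProduct (Submonoid.powers f) M ≪≫ₗ ξ''.toLinearEquiv⟩

end Main

end Groth.Agent.Lib.Helper13.ExtBridge
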