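import Groth.Agent.Lib.Helper13.TorAmpLocal
import Groth.Agent.Lib.Helper13.DRingLDerived
import Groth.Agent.Lib.Helper13.SemiFree4
import Mathlib.RingTheory.Flat.FaithfullyFlat.Basic

set_option autoImplicit false
universe u
open CategoryTheory CategoryTheory.Limits MonoidalCategory Pretriangulated Opposite

namespace Groth.Agent.Lib.Helper13.DV

open DTen Groth.Agent.Lib.Helper13.SF Groth.Agent.Lib.Helper13.DT Groth.Agent.Lib.Helper13.DR
  Groth.Agent.Lib.Helper13.HT Groth.Agent.Lib.Helper13.RE Groth.Agent.Lib.Helper13.PC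

attribute [local instance] HasDerivedCategory.standard

section FF

variable (A B : Type u) [CommRing A] [CommRing B] [Algebra A B] [Module.FaithfullyFlat A B]

open TensorProduct in
lemma isZero_extendScalars_iff (H : ModuleCat.{u} A) :
    IsZero ((ModuleCat.extendScalars.{u, u, u} (algebraMap A B)).obj H) ↔ IsZero H := by
  rw [ModuleCat.isZero_iff_subsingleton, ModuleCat.isZero_iff_subsingleton]
  rw [← Module.FaithfullyFlat.subsingleton_tensorProduct_iff_right A B (N := H)]
  exact (extendScalarsEquiv B H).toEquiv.subsingleton_congr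

end FF

section Main

variable {R A B : Type u} [CommRing R] [CommRing A] [CommRing B] [Algebra R A] [Algebra A B]
  [Algebra R B] [IsScalarTower R A B] [Module.FaithfullyFlat A B]

/-- The key comparison: `H^i(res(ext E) ⊗_R Z) = 0 ↔ H^i(res E ⊗_R Z) = 0`. -/
lemma isZero_homology_res_ext_iff (E : DRing.Cx A) (Z : DRing.Cx R) (i : ℤ) :
    IsZero (((resCx (algebraMap R B)).obj ((extCx (algebraMap A B)).obj E) ⊗ Z).homology i) ↔
      IsZero (((resCx (algebraMap R A)).obj E ⊗ Z).homology i) := by
  rw [← isZero_homology_mix_iff (algebraMap R B), ← isZero_homology_mix_iff (algebraMap R A)]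
  have hcomp : algebraMap R B = (algebraMap A B).comp (algebraMap R A) :=
    IsScalarTower.algebraMap_eq R A B
  let W : DRing.Cx A := E ⊗ (extCx (algebraMap R A)).obj Z
  let e2 : (extCx (algebraMap R B)).obj Z ≅
      (extCx (algebraMap A B)).obj ((extCx (algebraMap R A)).obj Z) :=
    eqToIso (by rw [hcomp]) ≪≫ (extCxCompIso (algebraMap R A) (algebraMap A B) Z).symm
  let e : (extCx (algebraMap A B)).obj E ⊗ (extCx (algebraMap R B)).obj Z ≅
      (extCx (algebraMap A B)).obj W :=
    whiskerLeftIso _ e2 ≪≫ (Groth.Agent.Lib.Helper13.ET.extTenIso (algebraMap A B) E _).symm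
  have : Module.Flat A B := inferInstance
  have h1 : IsZero (((extCx (algebraMap A B)).obj E ⊗ (extCx (algebraMap R B)).obj Z).homology i) ↔
      IsZero (((extCx (algebraMap A B)).obj W).homology i) :=
    ((HomologicalComplex.homologyFunctor _ _ i).mapIso e).isZero_iff
  have h2 : IsZero (((extCx (algebraMap A B)).obj W).homology i) ↔
      IsZero ((ModuleCat.extendScalars.{u, u, u} (algebraMap A B)).obj (W.homology i)) :=
    (extendCxHomologyIso A B W i).isZero_iff
  rw [h1, h2, isZero_extendScalars_iff]

theorem hasTorAmplitudeIn_restrict_iff_of_faithfullyFlat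
    [DRing.HasLBaseChange (algebraMap A B)] (K : Dual.D A) (a b : ℤ) :
    DRing.HasTorAmplitudeIn R a b ((DRing.restrictD (algebraMap R A)).obj K) ↔
      DRing.HasTorAmplitudeIn R a b ((DRing.restrictD (algebraMap R B)).obj
        ((DRing.LBaseChange (algebraMap A B)).obj K)) := by
  obtain ⟨E, hE, -, ⟨eE⟩⟩ := exists_kprojective_rep (R := A) K
  let X : DRing.Cx R := (resCx (algebraMap R A)).obj E
  let X' : DRing.Cx R := (resCx (algebraMap R B)).obj ((extCx (algebraMap A B)).obj E)
  let e1 : DerivedCategory.Q.obj X ≅ (DRing.restrictD (algebraMap R A)).obj K :=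
    (restrictDQIso (algebraMap R A) E).symm ≪≫ (DRing.restrictD (algebraMap R A)).mapIso eE
  let e2 : DerivedCategory.Q.obj X' ≅ (DRing.restrictD (algebraMap R B)).obj
      ((DRing.LBaseChange (algebraMap A B)).obj K) :=
    (restrictDQIso (algebraMap R B) _).symm ≪≫ (DRing.restrictD (algebraMap R B)).mapIso
      ((LBaseChangeIso (algebraMap A B) E).symm ≪≫ (DRing.LBaseChange (algebraMap A B)).mapIso eE)
  constructor
  · intro h
    refine hasTorAmplitudeIn_of_iso e2 (hasTorAmplitudeIn_of_key X' a b
      (fun Z S hZ π _ hS i hi => ?_))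
    rw [isZero_homology_res_ext_iff]
    exact isZero_homology_tensor_of_torAmp X a b (hasTorAmplitudeIn_of_iso e1.symm h) Z S hZ π hS
      i hi
  · intro h
    refine hasTorAmplitudeIn_of_iso e1 (hasTorAmplitudeIn_of_key X a b
      (fun Z S hZ π _ hS i hi => ?_))
    rw [← isZero_homology_res_ext_iff (B := B)]
    exact isZero_homology_tensor_of_torAmp X' a b (hasTorAmplitudeIn_of_iso e2.symm h) Z S hZ π hS
      i hi

end Main

end Groth.Agent.Lib.Helper13.DV
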