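import Groth.Agent.Lib.Helper13.DRingTensorSES
import Groth.Agent.Lib.Helper13.DRingTorBC
import Groth.Agent.Lib.Helper13.DRingTor3
import Groth.Agent.Lib.Helper13.DualBC13

/-!
# Vanishing classes for `H^i(P ⊗ N)`, `i < 0` (helper13)
-/

set_option autoImplicit false
set_option linter.unusedSectionVars false
set_option linter.style.haveILetI false

open CategoryTheory CategoryTheory.Limits TensorProduct MonoidalCategory

universe u

namespace Groth.Agent.Lib.Helper13.FG

open DerivedCategory Groth.Agent.Lib.Helper13.DR Groth.Agent.Lib.Helper13.PC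
  Groth.Agent.Lib.Helper13.DualBC

attribute [local instance] HasDerivedCategory.standard

section Mod

variable {R : Type u} [CommRing R]

/-- Exactness of `- ⊗ N` from exactness of `- ⊗ S n` for an exhaustive increasing family of
submodules. -/
lemma rTensor_exact_of_directed {M₁ M₂ M₃ N : Type u} [AddCommGroup M₁] [AddCommGroup M₂]
    [AddCommGroup M₃] [AddCommGroup N] [Module R M₁] [Module R M₂] [Module R M₃] [Module R N]
    (d₁ : M₁ →ₗ[R] M₂) (d₂ : M₂ →ₗ[R] M₃) (hd : d₂ ∘ₗ d₁ = 0) [Module.Flat R M₃]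
    (S : ℕ → Submodule R N) (hmono : Monotone S) (hex : ∀ x : N, ∃ n, x ∈ S n)
    (h : ∀ n, Function.Exact (d₁.rTensor (S n)) (d₂.rTensor (S n))) :
    Function.Exact (d₁.rTensor N) (d₂.rTensor N) := by
  intro z
  constructor
  · intro hz
    have step1 : ∀ z : M₂ ⊗[R] N, ∃ (n : ℕ) (z' : M₂ ⊗[R] (S n)),
        (S n).subtype.lTensor M₂ z' = z := by
      intro z
      induction z using TensorProduct.induction_on with
      | zero => exact ⟨0, 0, map_zero _⟩
      | tmul m x =>
        obtain ⟨n, hn⟩ := hex x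
        exact ⟨n, m ⊗ₜ ⟨x, hn⟩, rfl⟩
      | add z₁ z₂ h₁ h₂ =>
        obtain ⟨n₁, z₁', hz₁⟩ := h₁
        obtain ⟨n₂, z₂', hz₂⟩ := h₂
        refine ⟨max n₁ n₂,
          (Submodule.inclusion (hmono (le_max_left n₁ n₂))).lTensor M₂ z₁' +
            (Submodule.inclusion (hmono (le_max_right n₁ n₂))).lTensor M₂ z₂', ?_⟩
        rw [map_add, ← LinearMap.comp_apply, ← LinearMap.comp_apply, ← LinearMap.lTensor_comp,
          ← LinearMap.lTensor_comp, Submodule.subtype_comp_inclusion,
          Submodule.subtype_comp_inclusion, hz₁, hz₂]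
    obtain ⟨n, z', rfl⟩ := step1 z
    have hcomm : ∀ y : M₂ ⊗[R] (S n), (S n).subtype.lTensor M₃ (d₂.rTensor (S n) y) =
        d₂.rTensor N ((S n).subtype.lTensor M₂ y) := by
      intro y
      rw [← LinearMap.comp_apply, ← LinearMap.comp_apply, LinearMap.lTensor_comp_rTensor,
        LinearMap.rTensor_comp_lTensor]
    have hinj : Function.Injective ((S n).subtype.lTensor M₃) :=
      Module.Flat.lTensor_preserves_injective_linearMap _ (S n).injective_subtype
    have hz' : d₂.rTensor (S n) z' = 0 := by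
      apply hinj
      rw [hcomm, hz, map_zero]
    obtain ⟨w, hw⟩ := (h n z').1 hz'
    refine ⟨(S n).subtype.lTensor M₁ w, ?_⟩
    rw [← hw, ← LinearMap.comp_apply, ← LinearMap.comp_apply, LinearMap.rTensor_comp_lTensor,
      LinearMap.lTensor_comp_rTensor]
  · rintro ⟨w, rfl⟩
    rw [← LinearMap.comp_apply, ← LinearMap.rTensor_comp, hd, LinearMap.rTensor_zero,
      LinearMap.zero_apply]

end Mod

section V

variable {R : Type u} [CommRing R] (P : DRing.Cx R)

/-- The class of modules `N` with `H^i(P ⊗ N) = 0` for `i < 0`. -/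
def V (N : ModuleCat.{u} R) : Prop :=
  ∀ i : ℤ, i < 0 → IsZero (((tensorCx N).obj P).homology i)

variable {P}

lemma V_of_iso {N N' : ModuleCat.{u} R} (e : N ≅ N') (h : V P N) : V P N' := fun i hi =>
  (h i hi).of_iso ((HomologicalComplex.homologyFunctor _ _ i).mapIso (tensorCxMapIso P e).symm)

lemma V_of_subsingleton (N : ModuleCat.{u} R) [Subsingleton N] : V P N := fun i _ =>
  isZero_homology_tensorCx_of_subsingleton P N i

lemma V_mid (hfl : ∀ i : ℤ, Module.Flat R (P.X i)) (S : ShortComplex (ModuleCat.{u} R))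
    (hS : S.ShortExact) (h₁ : V P S.X₁) (h₃ : V P S.X₃) : V P S.X₂ := fun i hi =>
  isZero_homology_tensorCx_of_shortExact P hfl S hS i (h₁ i hi) (h₃ i hi)

lemma V_left (hfl : ∀ i : ℤ, Module.Flat R (P.X i)) (S : ShortComplex (ModuleCat.{u} R))
    (hS : S.ShortExact) (h₂ : V P S.X₂) (h₃ : V P S.X₃) : V P S.X₁ := by
  intro j hj
  have hSE := tensorCxSC_shortExact P hfl S hS
  have hex := hSE.homology_exact₁ (j - 1) j (by simp)
  exact hex.isZero_of_both_zeros ((h₃ (j - 1) (by lia)).eq_of_src _ _)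
    ((h₂ j hj).eq_of_tgt _ _)

lemma V_of_sub (hfl : ∀ i : ℤ, Module.Flat R (P.X i)) {N : Type u} [AddCommGroup N] [Module R N]
    (T : Submodule R N) (h₁ : V P (ModuleCat.of R T)) (h₃ : V P (ModuleCat.of R (N ⧸ T))) :
    V P (ModuleCat.of R N) :=
  V_mid hfl (subSC T) (subSC_shortExact T) h₁ h₃

lemma V_sub_of (hfl : ∀ i : ℤ, Module.Flat R (P.X i)) {N : Type u} [AddCommGroup N] [Module R N]
    (T : Submodule R N) (h₂ : V P (ModuleCat.of R N)) (h₃ : V P (ModuleCat.of R (N ⧸ T))) :
    V P (ModuleCat.of R T) :=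
  V_left hfl (subSC T) (subSC_shortExact T) h₂ h₃

lemma V_of_linearEquiv {N N' : Type u} [AddCommGroup N] [Module R N] [AddCommGroup N']
    [Module R N'] (e : N ≃ₗ[R] N') (h : V P (ModuleCat.of R N)) : V P (ModuleCat.of R N') :=
  V_of_iso e.toModuleIso h

/-- Exhaustive increasing unions. -/
lemma V_of_directed (hfl : ∀ i : ℤ, Module.Flat R (P.X i)) {N : Type u} [AddCommGroup N]
    [Module R N] (S : ℕ → Submodule R N) (hmono : Monotone S) (hex : ∀ x : N, ∃ n, x ∈ S n)
    (h : ∀ n, V P (ModuleCat.of R (S n))) : V P (ModuleCat.of R N) := by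
  intro i hi
  rw [← HomologicalComplex.exactAt_iff_isZero_homology,
    exactAt_iff_function_exact _ (i - 1) i (i + 1) (by ring) rfl]
  have := hfl (i + 1)
  refine rTensor_exact_of_directed (P.d (i - 1) i).hom (P.d i (i + 1)).hom ?_ S hmono hex
    (fun n => ?_)
  · rw [← ModuleCat.hom_comp, P.d_comp_d]
    rfl
  · have hn := h n i hi
    rw [← HomologicalComplex.exactAt_iff_isZero_homology,
      exactAt_iff_function_exact _ (i - 1) i (i + 1) (by ring) rfl] at hn
    exact hn

/-- Modules over an `R`-algebra `B` over which the base change of `P` has tor amplitude `[0,0]`. -/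
lemma V_of_restrict (B : Type u) [CommRing B] [Algebra R B] (c : ℤ)
    (hc : ∀ i : ℤ, c < i → IsZero (P.X i)) (hfl : ∀ i : ℤ, Module.Flat R (P.X i))
    (hB : DRing.HasTorAmplitudeIn B 0 0 (Q.obj ((extendCx R B).obj P)))
    (N₁ : Type u) [AddCommGroup N₁] [Module B N₁] [Module R N₁] [IsScalarTower R B N₁] :
    V P (ModuleCat.of R N₁) := by
  intro i hi
  have h := tensor_vanishing_of_hasTorAmplitudeIn hB ((extendCx R B).obj P) c
    (fun j hj => Functor.map_isZero (ModuleCat.extendScalars.{u, u, u} (algebraMap R B)) (hc j hj))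
    (fun j => Pfl_extendScalars B (hfl j)) (Iso.refl _) (ModuleCat.of B N₁) i (Or.inl hi)
  have h' : IsZero (((DRing.restrictCx (algebraMap R B)).obj
      ((tensorCx (ModuleCat.of B N₁)).obj ((extendCx R B).obj P))).homology i) :=
    ((ModuleCat.restrictScalars.{u} (algebraMap R B)).map_isZero h).of_iso
      (restrictCxHomologyIso (algebraMap R B) _ i)
  exact h'.of_iso ((HomologicalComplex.homologyFunctor _ _ i).mapIso (projCxIso R B N₁ P).symm)

end V

end Groth.Agent.Lib.Helper13.FG
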