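import Groth.Agent.Lib.Helper13.Shriek1
import Groth.Agent.Lib.Helper13.SemiFree4
import Groth.Agent.Lib.Helper13.DRingAdj
import Groth.Prelude.Def_DDual2

/-!
# Existence of derived base change for every ring map
-/

set_option autoImplicit false
set_option linter.unusedSectionVars false

open CategoryTheory CategoryTheory.Limits CategoryTheory.Functor

universe u

namespace Groth.Agent.Lib.Helper13.Shriek

open Groth.Agent.Lib.Helper13.DerAbsL DerivedCategory

attribute [local instance] HasDerivedCategory.standard

variable {A : Type u} [CommRing A] {H : Type*} [Category H]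

/-- the K-projective predicate in the homotopy category -/
def PKh : HomotopyCategory (ModuleCat.{u} A) (ComplexShape.up ℤ) → Prop :=
  fun X => ∃ I : CochainComplex (ModuleCat.{u} A) ℤ,
    I.IsKProjective ∧ X = (HomotopyCategory.quotient _ _).obj I

lemma isColocalObj_Qh (I : CochainComplex (ModuleCat.{u} A) ℤ) [I.IsKProjective] :
    IsColocalObj (DerivedCategory.Qh (C := ModuleCat.{u} A))
      ((HomotopyCategory.quotient _ _).obj I) :=
  fun K φ => (CochainComplex.IsKProjective.Qh_map_bijective I K).surjective φ

lemma enoughColocal_Qh :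
    EnoughColocal (DerivedCategory.Qh (C := ModuleCat.{u} A))
      (HomotopyCategory.quasiIso (ModuleCat.{u} A) (ComplexShape.up ℤ)) PKh := by
  intro X
  obtain ⟨K, rfl⟩ := HomotopyCategory.quotient_obj_surjective X
  obtain ⟨I, f, hI, -, hf⟩ := Groth.Agent.Lib.Helper13.SF.exists_kprojective_resolution K
  exact ⟨_, (HomotopyCategory.quotient _ _).map f,
    (HomotopyCategory.quotient_map_mem_quasiIso_iff f).2 hf, ⟨I, hI, rfl⟩, isColocalObj_Qh I⟩

lemma compat_Qh (Φ : HomotopyCategory (ModuleCat.{u} A) (ComplexShape.up ℤ) ⥤ H) :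
    Compat (DerivedCategory.Qh (C := ModuleCat.{u} A)) PKh Φ := by
  rintro _ K f f' ⟨I, hI, rfl⟩ h
  rw [(CochainComplex.IsKProjective.Qh_map_bijective I K).injective h]

/-- Every functor on the homotopy category of complexes of modules has a total left derived
functor. -/
theorem hasLeftDerivedFunctor_Kh (Φ : HomotopyCategory (ModuleCat.{u} A) (ComplexShape.up ℤ) ⥤ H) :
    Φ.HasLeftDerivedFunctor (HomotopyCategory.quasiIso (ModuleCat.{u} A) (ComplexShape.up ℤ)) :=
  DerAbsL.hasLeftDerivedFunctor enoughColocal_Qh (compat_Qh Φ)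

/-- Derived base change exists along every ring map. -/
instance hasLBaseChange {B : Type u} [CommRing B] (φ : A →+* B) : DRing.HasLBaseChange φ :=
  hasLeftDerivedFunctor_Kh _

end Groth.Agent.Lib.Helper13.Shriek
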