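import Mathlib
import Groth.Agent.Lib.Helper2.TorBalance
import Groth.Agent.Lib.Helper9.TorSymm
import Groth.Agent.Lib.Helper13.DRingTor3

set_option autoImplicit false
universe u
open CategoryTheory CategoryTheory.Limits MonoidalCategory

namespace Groth.Agent.Lib.Helper13.TB

section General

variable {C D : Type*} [Category C] [Category D] [Preadditive C] [Preadditive D]
  [HasZeroObject C] [HasZeroObject D]
  {ι ι' : Type*} {c : ComplexShape ι} {c' : ComplexShape ι'}
  (F : C ⥤ D) [F.Additive] (K : HomologicalComplex C c) (e : c.Embedding c')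

open HomologicalComplex

/-- Auxiliary: the termwise isomorphism. -/
noncomputable def XMapIso (o : Option ι) :
    F.obj (extend.X K o) ≅ extend.X ((F.mapHomologicalComplex c).obj K) o :=
  match o with
  | some _ => Iso.refl _
  | none => IsZero.iso (F.map_isZero (extend.isZero_X K rfl)) (extend.isZero_X _ rfl)

lemma XMapIso_hom_d (i j : Option ι) :
    (XMapIso F K i).hom ≫ extend.d ((F.mapHomologicalComplex c).obj K) i j =
      F.map (extend.d K i j) ≫ (XMapIso F K j).hom :=
  match i, j with
  | none, _ => by
      simp only [extend.d_none_eq_zero, comp_zero, Functor.map_zero, zero_comp]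
  | some i, some j => by
      dsimp [XMapIso, extend.d, extend.X]
      exact (Category.id_comp _).trans (Category.comp_id _).symm
  | some _, none => by
      simp only [extend.d_none_eq_zero', comp_zero, Functor.map_zero, zero_comp]

/-- Applying an additive functor termwise commutes with extension by zero. -/
noncomputable def mapExtendIso :
    (F.mapHomologicalComplex c').obj (K.extend e) ≅
      ((F.mapHomologicalComplex c).obj K).extend e :=
  Hom.isoOfComponents (fun i' => XMapIso F K (e.r i'))
    (fun i' j' _ => XMapIso_hom_d F K (e.r i') (e.r j'))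

end General

section Tor

open Groth.Agent.Lib.Helper13.DR DerivedCategory

attribute [local instance] HasDerivedCategory.standard

variable {R : Type u} [CommRing R] {M : ModuleCat.{u} R} (P : ProjectiveResolution M)
  (N : ModuleCat.{u} R)

/-- `Tor_p(M, N) ≅ H^{-p}(P ⊗ N)` for the cochain complex version of a projective resolution. -/
theorem nonempty_tor_iso_homology_cochain (p : ℕ) (n : ℤ) (h : -(p : ℤ) = n) :
    Nonempty (((Tor (ModuleCat.{u} R) p).obj M).obj N ≅
      ((tensorCx N).obj P.cochainComplex).homology n) := by
  obtain ⟨e1⟩ := Groth.Agent.Lib.Helper2.TorBalance.nonempty_tor_iso_homology P N p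
  let e2 := (((tensorRight N).mapHomologicalComplex (ComplexShape.down ℕ)).obj
    P.complex).extendHomologyIso ComplexShape.embeddingDownNat (j := p) (j' := n) (by simpa using h)
  let e3 := (HomologicalComplex.homologyFunctor _ _ n).mapIso
    (mapExtendIso (tensorRight N) P.complex ComplexShape.embeddingDownNat)
  exact ⟨e1 ≪≫ e2.symm ≪≫ e3.symm⟩

/-- The cochain version of a projective resolution of `M` represents `M[0]` in `D(R)`. -/
noncomputable def cochainComplexIso :
    Q.obj P.cochainComplex ≅ (DerivedCategory.singleFunctor (ModuleCat.{u} R) 0).obj M :=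
  have : IsIso (Q.map P.π') := by rw [isIso_Q_map_iff_quasiIso]; infer_instance
  asIso (Q.map P.π') ≪≫ ((DerivedCategory.singleFunctorIsoCompQ (ModuleCat.{u} R) 0).app M).symm

lemma isZero_cochainComplex_X (i : ℤ) (hi : 0 < i) : IsZero (P.cochainComplex.X i) :=
  CochainComplex.isZero_of_isStrictlyLE _ 0 i hi

lemma flat_cochainComplex_X (i : ℤ) : Module.Flat R (P.cochainComplex.X i) :=
  flat_of_projective' _ inferInstance

end Tor

section Main

open Groth.Agent.Lib.Helper13.DR DerivedCategory

attribute [local instance] HasDerivedCategory.standard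

variable (R : Type u) [CommRing R] (M : Type u) [AddCommGroup M] [Module R M]

theorem hasTorDimLE_iff_hasTorAmplitudeIn (d : ℕ) :
    DRing.HasTorDimLE R d M ↔ DRing.HasTorAmplitudeIn R (-(d : ℤ)) 0 (Dual.inD R M) := by
  let P := projectiveResolution (ModuleCat.of R M)
  constructor
  · intro h
    refine hasTorAmplitudeIn_of_iso (cochainComplexIso P)
      (hasTorAmplitudeIn_of_tensor_vanishing P.cochainComplex 0 (isZero_cochainComplex_X P)
        (flat_cochainComplex_X P) _ _ ?_)
    intro N i hi
    rcases hi with hi | hi
    · obtain ⟨p, rfl⟩ : ∃ p : ℕ, i = -(p : ℤ) := ⟨(-i).toNat, by lia⟩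
      obtain ⟨e⟩ := nonempty_tor_iso_homology_cochain P N p _ rfl
      have := h N p (by lia)
      exact (ModuleCat.isZero_of_subsingleton _).of_iso e.symm
    · exact ShortComplex.isZero_homology_of_isZero_X₂ _
        (Functor.map_isZero (tensorRight N) (isZero_cochainComplex_X P i hi))
  · intro hK N _ _ p hp
    have h0 := tensor_vanishing_of_hasTorAmplitudeIn hK P.cochainComplex 0
      (isZero_cochainComplex_X P) (flat_cochainComplex_X P) (cochainComplexIso P)
      (ModuleCat.of R N) (-(p : ℤ)) (Or.inl (by lia))
    obtain ⟨e⟩ := nonempty_tor_iso_homology_cochain P (ModuleCat.of R N) p _ rfl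
    exact ModuleCat.subsingleton_of_isZero (h0.of_iso e)

theorem hasTorDimLE_zero_iff_flat : DRing.HasTorDimLE R 0 M ↔ Module.Flat R M := by
  constructor
  · intro h
    apply Groth.Agent.Lib.Helper9.TorSymm.flat_of_isZero_tor_one_quotient
    intro I
    apply Groth.Agent.Lib.Helper9.TorSymm.isZero_tor_swap
    have := h (R ⧸ I) 1 (by lia)
    exact ModuleCat.isZero_of_subsingleton _
  · intro h N _ _ p hp
    exact ModuleCat.subsingleton_of_isZero
      (Groth.Agent.Lib.Helper4.isZero_tor_of_flat (ModuleCat.of R M) (ModuleCat.of R N) p hp)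

end Main

end Groth.Agent.Lib.Helper13.TB
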