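import Groth.Agent.Lib.Helper13.FG1
import Groth.Agent.Lib.Helper13.DualBC14
import Groth.Agent.Lib.Helper13.TorBridge1
import Groth.Agent.Lib.Helper13.Shriek2

/-!
# Gluing flatness of an object of `D(R)` along `R_f` and `R/f` (helper13)
-/

set_option autoImplicit false
set_option linter.unusedSectionVars false
set_option linter.style.haveILetI false

open CategoryTheory CategoryTheory.Limits TensorProduct MonoidalCategory

universe u

namespace Groth.Agent.Lib.Helper13.FG

open DerivedCategory Groth.Agent.Lib.Helper13.DR Groth.Agent.Lib.Helper13.PC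
  Groth.Agent.Lib.Helper13.DualBC

attribute [local instance] HasDerivedCategory.standard

section Dev

variable {R : Type u} [CommRing R] (f : R) {P : DRing.Cx R} (c : ℤ)
  (hc : ∀ i : ℤ, c < i → IsZero (P.X i)) (hfl : ∀ i : ℤ, Module.Flat R (P.X i))
  (hloc : DRing.HasTorAmplitudeIn (Localization.Away f) 0 0
    (Q.obj ((extendCx R (Localization.Away f)).obj P)))
  (hquo : DRing.HasTorAmplitudeIn (R ⧸ Ideal.span ({f} : Set R)) 0 0
    (Q.obj ((extendCx R (R ⧸ Ideal.span ({f} : Set R))).obj P)))

include hc hfl hquo in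
lemma V_of_torsionBy (N : Type u) [AddCommGroup N] [Module R N]
    (h : Module.IsTorsionBy R N f) : V P (ModuleCat.of R N) := by
  letI := h.module
  haveI : IsScalarTower R (R ⧸ Ideal.span ({f} : Set R)) N := ⟨fun r q x => by
    induction q using Quotient.inductionOn' with
    | h q =>
      change (Ideal.Quotient.mk _ (r • q)) • x = r • ((Ideal.Quotient.mk _ q) • x)
      change (r • q) • x = r • (q • x)
      rw [smul_assoc]⟩
  exact V_of_restrict (R ⧸ Ideal.span ({f} : Set R)) c hc hfl hquo N

include hc hfl hquo in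
lemma V_of_torsionBy_pow : ∀ (n : ℕ) (N : Type u) [AddCommGroup N] [Module R N],
    Module.IsTorsionBy R N (f ^ n) → V P (ModuleCat.of R N)
  | 0, N, _, _, h => by
    haveI : Subsingleton N := ⟨fun x y => by
      have hx := h (x := x)
      have hy := h (x := y)
      rw [pow_zero, one_smul] at hx hy
      rw [hx, hy]⟩
    exact V_of_subsingleton _
  | n + 1, N, _, _, h => by
    refine V_of_sub hfl (Submodule.torsionBy R N f)
      (V_of_torsionBy f c hc hfl hquo _ (Submodule.torsionBy_isTorsionBy f))
      (V_of_torsionBy_pow n (N ⧸ Submodule.torsionBy R N f) ?_)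
    intro x
    induction x using Submodule.Quotient.induction_on with
    | _ x =>
      rw [← Submodule.Quotient.mk_smul, Submodule.Quotient.mk_eq_zero,
        Submodule.mem_torsionBy_iff, smul_smul, ← pow_succ']
      exact h (x := x)

include hc hfl hquo in
lemma V_of_pow_torsion (N : Type u) [AddCommGroup N] [Module R N]
    (h : ∀ x : N, ∃ n : ℕ, f ^ n • x = 0) : V P (ModuleCat.of R N) := by
  refine V_of_directed hfl (fun n => Submodule.torsionBy R N (f ^ n)) ?_ (fun x => ?_)
    (fun n => ?_)
  · intro n m hnm x hx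
    rw [Submodule.mem_torsionBy_iff] at hx ⊢
    obtain ⟨k, rfl⟩ := Nat.exists_eq_add_of_le hnm
    rw [pow_add, mul_comm, mul_smul, hx, smul_zero]
  · obtain ⟨n, hn⟩ := h x
    exact ⟨n, (Submodule.mem_torsionBy_iff _ _).2 hn⟩
  · exact V_of_torsionBy_pow f c hc hfl hquo n _ (Submodule.torsionBy_isTorsionBy (f ^ n))

include hc hfl hloc in
lemma V_of_localized (N : Type u) [AddCommGroup N] [Module R N] :
    V P (ModuleCat.of R (LocalizedModule (Submonoid.powers f) N)) :=
  V_of_restrict (Localization.Away f) c hc hfl hloc (LocalizedModule (Submonoid.powers f) N)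

include hc hfl hloc hquo in
theorem V_all (N : Type u) [AddCommGroup N] [Module R N] : V P (ModuleCat.of R N) := by
  let ℓ := LocalizedModule.mkLinearMap (Submonoid.powers f) N
  have hcoker : V P (ModuleCat.of R
      (LocalizedModule (Submonoid.powers f) N ⧸ LinearMap.range ℓ)) := by
    refine V_of_pow_torsion f c hc hfl hquo _ (fun y => ?_)
    induction y using Submodule.Quotient.induction_on with
    | _ y =>
      obtain ⟨⟨x, s⟩, hs⟩ := IsLocalizedModule.surj (Submonoid.powers f) ℓ y
      obtain ⟨n, hn⟩ := s.2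
      refine ⟨n, ?_⟩
      rw [← Submodule.Quotient.mk_smul, Submodule.Quotient.mk_eq_zero]
      refine ⟨x, ?_⟩
      have hn' : f ^ n = (s : R) := hn
      rw [hn']
      exact hs.symm
  have hrange : V P (ModuleCat.of R (LinearMap.range ℓ)) :=
    V_sub_of hfl (LinearMap.range ℓ) (V_of_localized f c hc hfl hloc N) hcoker
  have hker : V P (ModuleCat.of R (LinearMap.ker ℓ)) := by
    refine V_of_pow_torsion f c hc hfl hquo _ (fun x => ?_)
    have hx : ℓ x.1 = 0 := x.2
    obtain ⟨s, hs⟩ := (IsLocalizedModule.eq_zero_iff (Submonoid.powers f) ℓ).1 hx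
    obtain ⟨n, hn⟩ := s.2
    refine ⟨n, Subtype.ext ?_⟩
    have hn' : f ^ n = (s : R) := hn
    rw [Submodule.coe_smul, hn']
    exact hs
  exact V_of_sub hfl (LinearMap.ker ℓ) hker (V_of_linearEquiv ℓ.quotKerEquivRange.symm hrange)

include hloc hquo in
/-- If the base changes of a bounded above flat complex `P` (zero in positive degrees) to `R_f` and
`R/f` have tor amplitude in `[0, 0]`, so does `P`. -/
theorem hasTorAmplitudeIn_zero_of_away_and_quotient (hc0 : ∀ i : ℤ, 0 < i → IsZero (P.X i))
    (hfl : ∀ i : ℤ, Module.Flat R (P.X i)) : DRing.HasTorAmplitudeIn R 0 0 (Q.obj P) :=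
  hasTorAmplitudeIn_of_tensor_vanishing P 0 hc0 hfl 0 0 (fun N i hi => by
    rcases hi with hi | hi
    · exact V_all f 0 hc0 hfl hloc hquo N i hi
    · exact ShortComplex.isZero_homology_of_isZero_X₂ _
        (Functor.map_isZero (tensorRight N) (hc0 i hi)))

end Dev

end Groth.Agent.Lib.Helper13.FG
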