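import Mathlib
import Groth.Agent.Lib.Helper13.FibReg3
import Groth.Agent.Lib.Helper13.FibReg6

set_option autoImplicit false
set_option linter.style.haveILetI false
set_option linter.unusedSectionVars false

universe u

open RingTheory.Sequence IsLocalRing TensorProduct

namespace Groth.Agent.Lib.Helper13.FibReg

variable (R P : Type u) [CommRing R] [CommRing P] [Algebra R P] [IsNoetherianRing P]
  [Module.Flat R P]

theorem exists_isWeaklyRegular_tensor (𝔪' : Ideal P) [𝔪'.IsPrime]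
    (𝔞 : Ideal (Localization.AtPrime 𝔪')) (h𝔞 : 𝔞 ≤ maximalIdeal (Localization.AtPrime 𝔪'))
    (c : ℕ)
    (hc : (c : ℕ∞) ≤ LocCoh.idealDepth
      (𝔞.map (Ideal.Quotient.mk ((𝔪'.comap (algebraMap R P)).map
          (algebraMap R (Localization.AtPrime 𝔪')))))
      (EGA4.FibLocRing R P 𝔪')) :
    ∃ rs : List (Localization.AtPrime 𝔪'), rs.length = c ∧ (∀ r ∈ rs, r ∈ 𝔞) ∧
      ∀ (N : Type u) [AddCommGroup N] [Module R N],
        IsWeaklyRegular (Localization.AtPrime 𝔪' ⊗[R] N) rs := by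
  let S := Localization.AtPrime 𝔪'
  let p' : Ideal R := 𝔪'.under R
  let C := Localization.AtPrime p'
  letI : Algebra C S := Localization.AtPrime.algebraOfLiesOver p' 𝔪'
  haveI : IsNoetherianRing S := IsLocalization.isNoetherianRing 𝔪'.primeCompl _ inferInstance
  haveI : IsLocalHom (algebraMap C S) := by
    change IsLocalHom (Localization.localRingHom p' 𝔪' (algebraMap R P) Ideal.LiesOver.over)
    infer_instance
  let pS : Ideal S := (𝔪'.comap (algebraMap R P)).map (algebraMap R S)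
  have hpS : (maximalIdeal C).map (algebraMap C S) = pS := by
    rw [← Localization.AtPrime.map_eq_maximalIdeal, Ideal.map_map,
      ← IsScalarTower.algebraMap_eq R C S]
  have hpSle : pS ≤ maximalIdeal S := by
    rw [← hpS]
    exact IsLocalRing.map_maximalIdeal_le (algebraMap C S)
  let J : Ideal (S ⧸ pS) := 𝔞.map (Ideal.Quotient.mk pS)
  have hJ : J • (⊤ : Submodule (S ⧸ pS) (S ⧸ pS)) ≠ ⊤ := by
    rw [smul_eq_mul, Ideal.mul_top]
    intro hJ
    have h1 : Ideal.comap (Ideal.Quotient.mk pS) J = ⊤ := by rw [hJ]; rfl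
    rw [Ideal.comap_map_of_surjective _ Ideal.Quotient.mk_surjective,
      ← RingHom.ker_eq_comap_bot, Ideal.mk_ker] at h1
    have h2 : 𝔞 ⊔ pS ≤ maximalIdeal S := sup_le h𝔞 hpSle
    rw [h1] at h2
    exact (IsLocalRing.maximalIdeal.isMaximal S).ne_top (top_le_iff.mp h2)
  rcases (Groth.Agent.Lib.Helper16.Depth.le_idealDepth_iff J (S ⧸ pS) c).1 hc with h | h
  · exact absurd h hJ
  obtain ⟨rsb, hlen, hreg, hmem⟩ := h
  obtain ⟨rs, hrs, hrsmem⟩ := exists_list_lift (Ideal.Quotient.mk pS) 𝔞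
    Ideal.Quotient.mk_surjective rsb hmem
  refine ⟨rs, by rw [← hlen, ← hrs, List.length_map], hrsmem, ?_⟩
  have hreg' : IsWeaklyRegular (S ⧸ pS) rs := by
    rw [← isWeaklyRegular_map_algebraMap_iff (S ⧸ pS) (S ⧸ pS) rs]
    change IsWeaklyRegular (S ⧸ pS) (rs.map (Ideal.Quotient.mk pS))
    rw [hrs]
    exact hreg
  have hker : ∀ x : S, (Submodule.mkQ pS) x = 0 ↔
      x ∈ Groth.Agent.Lib.Helper1.RegLift.mM (C := C) (A := S) S := by
    intro x
    rw [Submodule.mkQ_apply, Submodule.Quotient.mk_eq_zero]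
    unfold Groth.Agent.Lib.Helper1.RegLift.mM
    rw [hpS, smul_eq_mul, Ideal.mul_top]
  intro N _ _
  have h1 := isWeaklyRegular_tensor (C := C) (A := S) (C ⊗[R] N) rs S (S ⧸ pS)
    (Submodule.mkQ pS) (Submodule.mkQ_surjective _) hker hreg'
  exact ((TensorProduct.AlgebraTensorModule.cancelBaseChange R C S S N).isWeaklyRegular_congr rs).1 h1

end Groth.Agent.Lib.Helper13.FibReg
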