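import Mathlib
import Groth.Agent.Lib.Helper13.FibReg5
import Groth.Agent.Lib.Helper13.FibReg7
import Groth.Agent.Lib.Helper18.CM12

set_option autoImplicit false
set_option linter.style.haveILetI false
set_option linter.unusedSectionVars false

universe u

open TensorProduct AlgebraicGeometry CategoryTheory RingTheory.Sequence IsLocalRing

namespace Groth.Agent.Lib.Helper13.FibReg

open Groth.Agent.Lib.Helper18.FibBridge DerivedCategory Groth.Agent.Lib.Helper13.Coind
  Groth.Agent.Lib.Helper13.DR Groth.Agent.Lib.Helper13.DualBC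

attribute [local instance] HasDerivedCategory.standard

/-- weak Rees in `D(S)`, no finiteness -/
theorem subsingleton_hom_of_isWeaklyRegular' (S : Type u) [CommRing S]
    (N M : Type u) [AddCommGroup N] [Module S N] [AddCommGroup M] [Module S M]
    (rs : List S) (hmem : ∀ r ∈ rs, r ∈ Module.annihilator S N) (hreg : IsWeaklyRegular M rs)
    (j : ℕ) (hj : j < rs.length) :
    Subsingleton (Dual.inD S N ⟶ (Dual.inD S M)⟦(j : ℤ)⟧) := by
  have h1 := Groth.Agent.Lib.Helper18.CM.subsingleton_ext_of_isWeaklyRegular (ModuleCat.of S N) rs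
    hmem M hreg j hj
  exact (Abelian.Ext.homEquiv (X := ModuleCat.of S N) (Y := ModuleCat.of S M) (n := j)).symm.subsingleton

/-- Vanishing of the cohomology of `RHom_P(A, P ⊗_R N)` below degree `n - d` at a point where the
fibre has local dimension at most `d`. -/
theorem main' (R A : Type u) [CommRing R] [CommRing A] [IsNoetherianRing R] [IsNoetherianRing A]
    [Algebra R A] (n : ℕ) (ψ : MvPolynomial (Fin n) R →ₐ[R] A) (hψ : Function.Surjective ψ)
    (N : Type u) [AddCommGroup N] [Module R N]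
    (q : PrimeSpectrum A) (d : ℕ)
    (hd : FlatMor.fibreDimAt (Spec.map (CommRingCat.ofHom (algebraMap R A))) q ≤
      (d : WithBot ℕ∞)) (j : ℤ)
    (h : Nontrivial (LocalizedModule q.asIdeal.primeCompl
      (Dual.HD A ((Rco ψ.toRingHom).obj
        (Dual.inD (MvPolynomial (Fin n) R) (MvPolynomial (Fin n) R ⊗[R] N))) j))) :
    (n : ℤ) - d ≤ j := by
  classical
  let P := MvPolynomial (Fin n) R
  letI : Algebra P A := ψ.toRingHom.toAlgebra
  haveI : Algebra.FiniteType R A := Algebra.FiniteType.of_surjective ψ hψ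
  haveI : Module.Finite P A := Module.Finite.of_surjective (Algebra.linearMap P A) hψ
  obtain ⟨𝔐₀, h𝔐₀, hq𝔪, hdim⟩ := exists_closed_point R A q d hd
  let p := q.asIdeal.under R
  let 𝔪 := ctr p 𝔐₀
  let 𝔪' : Ideal P := 𝔪.comap ψ
  let S := Localization.AtPrime 𝔪'
  let 𝔞 : Ideal S := (RingHom.ker (ψ : P →+* A)).map (algebraMap P S)
  have hdepth := natCast_le_idealDepth R n ψ hψ p 𝔐₀ d hdim 𝔪' rfl
  have h𝔞 : 𝔞 ≤ maximalIdeal S := by
    rw [← Localization.AtPrime.map_eq_maximalIdeal]
    apply Ideal.map_mono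
    intro x hx
    change ψ x ∈ 𝔪
    have hx' : ψ x = 0 := RingHom.mem_ker.mp hx
    rw [hx']
    exact zero_mem _
  obtain ⟨rs, hlen, hmem, hreg⟩ := exists_isWeaklyRegular_tensor R P 𝔪' 𝔞 h𝔞 (n - d) hdepth
  by_contra hcon
  push Not at hcon
  -- transfer nontriviality to `Ext_P(A, P ⊗ N)` localized at `𝔪'`
  have hN1 : Nontrivial (LocalizedModule 𝔪'.primeCompl
      (Dual.inD P A ⟶ (Dual.inD P (P ⊗[R] N))⟦j⟧)) :=
    nontrivial_localized_of_semilinear (algebraMap P A) (HDRcoEquiv P A (Dual.inD P (P ⊗[R] N)) j)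
      (HDRcoEquiv_smul P A (Dual.inD P (P ⊗[R] N)) j) q.asIdeal.primeCompl 𝔪'.primeCompl
      (fun s hs hsq => hs (hq𝔪 hsq)) h
  haveI : (Dual.inD P (P ⊗[R] N)).IsGE 0 := by unfold Dual.inD; infer_instance
  have hN2 : Nontrivial (Dual.inD S (LocalizedModule 𝔪'.primeCompl A) ⟶
      ((flatBC P S).obj (Dual.inD P (P ⊗[R] N)))⟦j⟧) :=
    (locExtLinearEquiv P 𝔪' A (Dual.inD P (P ⊗[R] N)) 0 j).toEquiv.symm.nontrivial
  let ι : (flatBC P S).obj (Dual.inD P (P ⊗[R] N)) ≅ Dual.inD S (S ⊗[R] N) :=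
    flatBCSingleIso P S (P ⊗[R] N) ≪≫ (DerivedCategory.singleFunctor (ModuleCat.{u} S) 0).mapIso
      (TensorProduct.AlgebraTensorModule.cancelBaseChange R P S S N).toModuleIso
  have hN3 : Nontrivial (Dual.inD S (LocalizedModule 𝔪'.primeCompl A) ⟶
      (Dual.inD S (S ⊗[R] N))⟦j⟧) :=
    (Iso.homCongr (Iso.refl _) ((shiftFunctor (Dual.D S) j).mapIso ι)).symm.nontrivial
  -- the annihilator
  have hann : 𝔞 ≤ Module.annihilator S (LocalizedModule 𝔪'.primeCompl A) := by
    change Ideal.map _ _ ≤ _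
    rw [Ideal.map_le_iff_le_comap]
    intro x hx
    rw [Ideal.mem_comap, Module.mem_annihilator]
    intro y
    induction y using LocalizedModule.induction_on with
    | h a s =>
      rw [algebraMap_smul, LocalizedModule.smul'_mk]
      have : x • a = 0 := by
        change algebraMap P A x * a = 0
        have hx' : (ψ : P →+* A) x = 0 := RingHom.mem_ker.mp hx
        change (ψ : P →+* A) x * a = 0
        rw [hx', zero_mul]
      rw [this, LocalizedModule.zero_mk]
  have hsub : Subsingleton (Dual.inD S (LocalizedModule 𝔪'.primeCompl A) ⟶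
      (Dual.inD S (S ⊗[R] N))⟦j⟧) := by
    rcases lt_or_ge j 0 with hj | hj
    · exact subsingleton_hom_inD_neg S _ _ j hj
    · obtain ⟨k, rfl⟩ := Int.eq_ofNat_of_zero_le hj
      have hk : k < rs.length := by
        rw [hlen]
        omega
      exact subsingleton_hom_of_isWeaklyRegular' S _ _ rs (fun r hr => hann (hmem r hr))
        (hreg N) k hk
  exact not_subsingleton _ hsub

end Groth.Agent.Lib.Helper13.FibReg
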