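import Groth.Agent.Lib.Helper13.PolySES3
import Groth.Agent.Lib.Helper13.TorBridge1
import Groth.Agent.Lib.Helper13.TorAmpRes
import Groth.Agent.Lib.Helper13.DRingDescent3

set_option autoImplicit false
universe u
open CategoryTheory CategoryTheory.Limits TensorProduct

namespace Groth.Agent.Lib.Helper13.PS

open Groth.Agent.Lib.Helper13.DR Groth.Agent.Lib.Helper13.PC Groth.Agent.Lib.Helper13.TB
  DerivedCategory

attribute [local instance] HasDerivedCategory.standard

theorem hasTorDimLE_of_hasTorAmplitudeIn (R : Type u) [CommRing R] (M : Type u) [AddCommGroup M]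
    [Module R M] (a b : ℤ) (d : ℕ) (hd : -(d : ℤ) ≤ a)
    (hK : DRing.HasTorAmplitudeIn R a b (Dual.inD R M)) : DRing.HasTorDimLE R d M := by
  let P := projectiveResolution (ModuleCat.of R M)
  intro N _ _ p hp
  have h0 := tensor_vanishing_of_hasTorAmplitudeIn hK P.cochainComplex 0
      (isZero_cochainComplex_X P) (flat_cochainComplex_X P) (cochainComplexIso P)
      (ModuleCat.of R N) (-(p : ℤ)) (Or.inl (by lia))
  obtain ⟨e⟩ := nonempty_tor_iso_homology_cochain P (ModuleCat.of R N) p _ rfl
  exact ModuleCat.subsingleton_of_isZero (h0.of_iso e)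

section

variable (A P B : Type u) [CommRing A] [CommRing P] [CommRing B] [Algebra A B] [Algebra A P]
  [Algebra P B] [IsScalarTower A P B]

/-- `B` as an `A`-module is the restriction of `B` as a `P`-module. -/
noncomputable def towerRestrictIso :
    ModuleCat.of A B ≅ (ModuleCat.restrictScalars.{u} (algebraMap A P)).obj (ModuleCat.of P B) :=
  isoOfAddEquiv (ModuleCat.of A B)
    ((ModuleCat.restrictScalars.{u} (algebraMap A P)).obj (ModuleCat.of P B)) (AddEquiv.refl B)
    (fun a b => (algebraMap_smul P a b).symm)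

theorem hasFiniteTorDim_of_isPerfectModule [Module.Flat A P]
    (h : DRing.IsPerfectModule P B) : DRing.HasFiniteTorDim A B := by
  obtain ⟨a, b, hab⟩ := exists_hasTorAmplitudeIn_of_isPerfect h
  have hP : DRing.HasTorAmplitudeIn A (-((0 : ℕ) : ℤ)) 0 (Dual.inD A P) :=
    (hasTorDimLE_iff_hasTorAmplitudeIn A P 0).1 ((hasTorDimLE_zero_iff_flat A P).2 inferInstance)
  have h1 := Groth.Agent.Lib.Helper13.DV.hasTorAmplitudeIn_restrictD (A := A) (B := P) 0 hP _ a b hab
  have h2 : DRing.HasTorAmplitudeIn A (a - (0 : ℕ)) b (Dual.inD A B) :=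
    hasTorAmplitudeIn_of_iso (restrictDSingleIso (algebraMap A P) (ModuleCat.of P B) ≪≫
      (DerivedCategory.singleFunctor (ModuleCat.{u} A) 0).mapIso (towerRestrictIso A P B).symm) h1
  exact ⟨(-a).toNat, hasTorDimLE_of_hasTorAmplitudeIn A B _ b _ (by lia) h2⟩

end

section

variable (A B : Type u) [CommRing A] [CommRing B] [Algebra A B] (n : ℕ)
  [Algebra (MvPolynomial (Fin n) A) B] [IsScalarTower A (MvPolynomial (Fin n) A) B]

theorem isPerfectModule_of_hasFiniteTorDim
    (hpc : DRing.IsPseudoCoherentModule' (MvPolynomial (Fin n) A) B)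
    (hd : DRing.HasFiniteTorDim A B) : DRing.IsPerfectModule (MvPolynomial (Fin n) A) B := by
  obtain ⟨d, hd⟩ := hd
  have h1 := (hasTorDimLE_iff_hasTorAmplitudeIn A B d).1 hd
  have h2 := hasTorAmplitudeIn_of_iso ((DerivedCategory.singleFunctor (ModuleCat.{u} A) 0).mapIso
    (towerRestrictIso A (MvPolynomial (Fin n) A) B)) h1
  have h3 := hasTorAmplitudeIn_mvPoly_of_restrict n A (ModuleCat.of (MvPolynomial (Fin n) A) B)
    _ _ h2
  exact isPerfect_of_isNPC_of_hasTorAmplitudeIn ((isPseudoCoherent'_iff _).1 hpc _) h3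

end

end Groth.Agent.Lib.Helper13.PS
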