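import Mathlib
import Groth.Agent.Lib.Helper13.FibReg8
import Groth.Agent.Lib.Helper13.PerfHom1
import Groth.Agent.Lib.Helper13.DRingProj

set_option autoImplicit false
set_option linter.style.haveILetI false
set_option linter.unusedSectionVars false

universe u

open TensorProduct AlgebraicGeometry CategoryTheory RingTheory.Sequence IsLocalRing

namespace Groth.Agent.Lib.Helper13.FibReg

open Groth.Agent.Lib.Helper18.FibBridge DerivedCategory Groth.Agent.Lib.Helper13.Coind
  Groth.Agent.Lib.Helper13.DR Groth.Agent.Lib.Helper13.DualBC Groth.Agent.Lib.Helper13.PS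
  Groth.Agent.Lib.Helper13.PC Groth.Agent.Lib.Helper13.TB

attribute [local instance] HasDerivedCategory.standard

/-- `Ext^j_P(A, M) = 0` for `j > n` when `A` is `R`-flat and `P = R[x_1..x_n] → A` surjective. -/
theorem subsingleton_ext_of_flat (R A : Type u) [CommRing R] [CommRing A] [IsNoetherianRing R]
    [Algebra R A] [Module.Flat R A] (n : ℕ) (ψ : MvPolynomial (Fin n) R →ₐ[R] A)
    (hψ : Function.Surjective ψ) (M : Type u) [AddCommGroup M]
    [Module (MvPolynomial (Fin n) R) M] (j : ℤ) (hj : (n : ℤ) < j) :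
    letI : Algebra (MvPolynomial (Fin n) R) A := ψ.toRingHom.toAlgebra
    Subsingleton (Dual.inD (MvPolynomial (Fin n) R) A ⟶
      (Dual.inD (MvPolynomial (Fin n) R) M)⟦j⟧) := by
  classical
  let P := MvPolynomial (Fin n) R
  letI : Algebra P A := ψ.toRingHom.toAlgebra
  haveI : IsScalarTower R P A := IsScalarTower.of_algebraMap_eq (fun r => (ψ.commutes r).symm)
  haveI : Module.Finite P A := Module.Finite.of_surjective (Algebra.linearMap P A) hψ
  have h0 : DRing.HasTorAmplitudeIn R (-((0 : ℕ) : ℤ)) 0 (Dual.inD R A) :=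
    (hasTorDimLE_iff_hasTorAmplitudeIn R A 0).1 ((hasTorDimLE_zero_iff_flat R A).2 inferInstance)
  have h2 := hasTorAmplitudeIn_of_iso ((DerivedCategory.singleFunctor (ModuleCat.{u} R) 0).mapIso
    (towerRestrictIso R P A)) h0
  have h3 := hasTorAmplitudeIn_mvPoly_of_restrict n R (ModuleCat.of P A) _ _ h2
  have hpc : DRing.IsPseudoCoherentModule' P A :=
    (isPseudoCoherentModule'_iff_of_isNoetherianRing (A := P) A).2 inferInstance
  obtain ⟨F, hv, hfl, ⟨e⟩⟩ := h3
  obtain ⟨E, hEv, hE, ⟨e'⟩⟩ := exists_perfect_of_isNPC_of_flat _ _ _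
    ((isPseudoCoherent'_iff _).1 hpc _) F hv hfl e
  have hPA : HasProjAmp (Dual.inD P A) (-((0 : ℕ) : ℤ) - n) 0 :=
    ⟨E, hEv, fun i => (hE i).2, ⟨e'⟩⟩
  exact ext_subsingleton_of_hasProjAmp hPA M j (Or.inr (by lia))

/-- `H^j(RHom_P(A, M)) = 0` for `j > n`. -/
theorem subsingleton_HD_Rco_of_flat (R A : Type u) [CommRing R] [CommRing A] [IsNoetherianRing R]
    [Algebra R A] [Module.Flat R A] (n : ℕ) (ψ : MvPolynomial (Fin n) R →ₐ[R] A)
    (hψ : Function.Surjective ψ) (M : Type u) [AddCommGroup M]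
    [Module (MvPolynomial (Fin n) R) M] (j : ℤ) (hj : (n : ℤ) < j) :
    Subsingleton (Dual.HD A ((Rco ψ.toRingHom).obj
      (Dual.inD (MvPolynomial (Fin n) R) M)) j) := by
  let P := MvPolynomial (Fin n) R
  letI : Algebra P A := ψ.toRingHom.toAlgebra
  have h := subsingleton_ext_of_flat R A n ψ hψ M j hj
  exact (HDRcoEquiv P A (Dual.inD P M) j).subsingleton

/-- `H^j(RHom_P(A, P ⊗_R N)) = 0` for `j < n - d` when all fibres have dimension `≤ d`. -/
theorem subsingleton_HD_Rco_of_fibreDim_le (R A : Type u) [CommRing R] [CommRing A]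
    [IsNoetherianRing R] [IsNoetherianRing A]
    [Algebra R A] (n : ℕ) (ψ : MvPolynomial (Fin n) R →ₐ[R] A) (hψ : Function.Surjective ψ)
    (N : Type u) [AddCommGroup N] [Module R N] (d : ℕ)
    (hd : ∀ q : PrimeSpectrum A,
      FlatMor.fibreDimAt (Spec.map (CommRingCat.ofHom (algebraMap R A))) q ≤ (d : WithBot ℕ∞))
    (j : ℤ) (hj : j < (n : ℤ) - d) :
    Subsingleton (Dual.HD A ((Rco ψ.toRingHom).obj
      (Dual.inD (MvPolynomial (Fin n) R) (MvPolynomial (Fin n) R ⊗[R] N))) j) := by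
  rw [← Module.support_eq_empty_iff (R := A)]
  by_contra hne
  obtain ⟨q, hq⟩ := Set.nonempty_iff_ne_empty.2 hne
  rw [Module.mem_support_iff] at hq
  have := main' R A n ψ hψ N q d (hd q) j hq
  lia

end Groth.Agent.Lib.Helper13.FibReg
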