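import Groth.Agent.Lib.Helper13.FibreGlDim
import Groth.Agent.Lib.Helper13.KFlat7
import Groth.Agent.S6901
import Groth.Agent.Lib.Helper4.RegularGlobalDim
import Mathlib.RingTheory.TensorProduct.Quotient

set_option autoImplicit false
universe u
open CategoryTheory CategoryTheory.Limits CategoryTheory.Pretriangulated TensorProduct

namespace Groth.Agent.Lib.Helper13.FG

open Groth.Agent.Lib.Helper13.DR Groth.Agent.Lib.Helper13.PC Groth.Agent.Lib.Helper13.DV
  Groth.Agent.Lib.Helper13.BS Groth.Agent.Lib.Helper13.HT DerivedCategory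

attribute [local instance] HasDerivedCategory.standard

section PD

variable {R : Type u} [CommRing R]

/-- Objects with cohomology in `[a, b]`, each of projective dimension `≤ d`, have no maps to
`N[s]` for `s > d - a`. -/
theorem subsingleton_hom_of_homology_pd (d : ℕ) (K : Dual.D R) (a b : ℤ)
    (hK : ∀ i : ℤ, (i < a ∨ b < i) → IsZero ((DerivedCategory.homologyFunctor _ i).obj K))
    (hpd : ∀ i : ℤ, HasProjectiveDimensionLT
      ((DerivedCategory.homologyFunctor (ModuleCat.{u} R) i).obj K) (d + 1))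
    (N : ModuleCat.{u} R) (s : ℤ) (hs : d - a < s) :
    Subsingleton (K ⟶ ((DerivedCategory.singleFunctor (ModuleCat.{u} R) 0).obj N)⟦s⟧) := by
  let L := ((DerivedCategory.singleFunctor (ModuleCat.{u} R) 0).obj N)⟦s⟧
  let W : ObjectProperty (Dual.D R) := fun K' => Subsingleton (K' ⟶ L)
  have hW : W.IsClosedUnderIsomorphisms :=
    ⟨fun e h => subsingleton_hom_of_iso e (Iso.refl L) h⟩
  have hext : ∀ T : Triangle (Dual.D R), T ∈ distTriang _ → W T.obj₁ → W T.obj₃ → W T.obj₂ := by
    intro T hT h1 h3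
    refine ⟨fun f g => ?_⟩
    have key : ∀ f : T.obj₂ ⟶ L, f = 0 := by
      intro f
      obtain ⟨g, hg⟩ := Triangle.yoneda_exact₂ _ hT f (h1.elim _ _)
      have hg0 : g = 0 := h3.elim g 0
      rw [hg, hg0]
      exact comp_zero
    rw [key f, key g]
  have hzero : ∀ Z : Dual.D R, IsZero Z → W Z := fun Z hZ => ⟨fun f g => hZ.eq_of_src f g⟩
  refine devissage_homology W hext hzero K a b hK (fun i => ?_)
  by_cases hi : i < a ∨ b < i
  · exact hzero _ (Functor.map_isZero _ (hK i hi))
  · change Subsingleton (_ ⟶ L)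
    rw [← subsingleton_ext_iff]
    have e : L⟦i⟧ ≅ ((DerivedCategory.singleFunctor (ModuleCat.{u} R) 0).obj N)⟦s + i⟧ :=
      ((shiftFunctorAdd (Dual.D R) s i).app _).symm
    have := hpd i
    exact subsingleton_hom_of_iso (Iso.refl _) e.symm
      (subsingleton_hom_of_hasProjectiveDimensionLT _ N (d + 1) (s + i) (by push_cast; lia))

theorem hasProjAmp_of_homology_pd (d : ℕ) (K : Dual.D R) (a b : ℤ)
    (hK : ∀ i : ℤ, (i < a ∨ b < i) → Subsingleton (Dual.HD R K i))
    (hpd : ∀ i : ℤ, HasProjectiveDimensionLT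
      ((DerivedCategory.homologyFunctor (ModuleCat.{u} R) i).obj K) (d + 1)) :
    HasProjAmp K (a - d) b := by
  refine hasProjAmp_of_four K (a - d) b (fun n hn => hK n ?_) (fun N _ _ => ?_)
  · rcases hn with h | h
    · exact Or.inl (by lia)
    · exact Or.inr h
  · exact subsingleton_hom_of_homology_pd d K a b
      (fun i hi => (isZero_iff_subsingleton _).2 (hK i hi)) hpd (ModuleCat.of R N) _ (by lia)

end PD

section Regular

variable (R : Type u) [CommRing R]

lemma finite_homology_of_noetherian [IsNoetherianRing R] (F : DRing.Cx R)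
    (hfin : ∀ i : ℤ, Module.Finite R (F.X i)) (i : ℤ) : Module.Finite R (F.homology i) := by
  have h2 : Module.Finite R ((F.sc i).X₂) := hfin i
  have : IsNoetherian R ((F.sc i).X₂) := isNoetherian_of_isNoetherianRing_of_finite R _
  have h3 : Module.Finite R
      (LinearMap.ker (F.sc i).g.hom ⧸ LinearMap.range (F.sc i).moduleCatToCycles) :=
    inferInstance
  exact @Module.Finite.equiv _ _ _ _ _ _ _ _ h3 (F.sc i).moduleCatHomologyIso.toLinearEquiv.symm

theorem hasTorAmplitudeIn_of_regular [IsRegularLocalRing R] (d : ℕ) (hd : ringKrullDim R = d)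
    (F : DRing.Cx R) (hfin : ∀ i : ℤ, Module.Finite R (F.X i)) (a b : ℤ)
    (hF : ∀ i : ℤ, (i < a ∨ b < i) → IsZero (F.homology i)) :
    DRing.HasTorAmplitudeIn R (a - d) b (Q.obj F) := by
  have hK : ∀ i : ℤ, (i < a ∨ b < i) → Subsingleton (Dual.HD R (Q.obj F) i) := fun i hi =>
    ModuleCat.subsingleton_of_isZero ((hF i hi).of_iso (homologyQIso F i))
  refine hasTorAmplitudeIn_of_hasProjAmp (hasProjAmp_of_homology_pd d (Q.obj F) a b hK (fun i => ?_))
  have := finite_homology_of_noetherian R F hfin i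
  have h1 : HasProjectiveDimensionLT (ModuleCat.of R (F.homology i)) (d + 1) :=
    Groth.Agent.Lib.Helper4.hasProjectiveDimensionLT_of_isRegularLocalRing_of_finite R d hd
      (F.homology i)
  exact hasProjectiveDimensionLT_of_iso (homologyQIso F i).symm (d + 1)

end Regular

section KF

open Groth.Agent.Lib.Helper13.RE Groth.Agent.Lib.Helper13.SF Groth.Agent.Lib.Helper13.DT

variable {A B : Type u} [CommRing A] [CommRing B]

/-- Derived base change (the total left derived functor) is computed termwise on K-flat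
complexes. -/
theorem nonempty_LBaseChange_iso_of_kflat (φ : A →+* B) [DRing.HasLBaseChange φ]
    (P : DRing.Cx A) (hP : KFlat P) :
    Nonempty ((DRing.LBaseChange φ).obj (Q.obj P) ≅ Q.obj ((DTen.extCx φ).obj P)) := by
  have h1 : IsIso (Q.map (resMap P)) := by rw [isIso_Q_map_iff_quasiIso]; infer_instance
  have h2 : QuasiIso ((DTen.extCx φ).map (resMap P)) :=
    quasiIso_extCx_map_of_kflat φ (resMap P) (isKFlat_of_isKProjective (res P)) hP
  have h3 : IsIso (Q.map ((DTen.extCx φ).map (resMap P))) := by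
    rw [isIso_Q_map_iff_quasiIso]; exact h2
  exact ⟨(DRing.LBaseChange φ).mapIso (asIso (Q.map (resMap P))).symm ≪≫
    LBaseChangeIso φ (res P) ≪≫ asIso (Q.map ((DTen.extCx φ).map (resMap P)))⟩

/-- Extension of scalars along a bijective ring homomorphism preserves vanishing of homology. -/
lemma isZero_homology_extCx_of_bijective (σ : A →+* B) (hσ : Function.Bijective σ)
    (F : DRing.Cx A) (i : ℤ) (h : IsZero (F.homology i)) :
    IsZero (((DTen.extCx σ).obj F).homology i) := by
  let _ : Algebra A B := σ.toAlgebra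
  have : Module.Flat A B :=
    Module.Flat.of_linearEquiv (LinearEquiv.ofBijective (Algebra.linearMap A B) hσ).symm
  exact IsZero.of_iso (Functor.map_isZero _ h) (DR.extendCxHomologyIso A B F i)

end KF

section Sq

attribute [local instance] Algebra.TensorProduct.rightAlgebra

variable (R A R' : Type u) [CommRing R] [CommRing A] [Algebra R A] [CommRing R'] [Algebra R R']

lemma isZero_homology_extendCx_of_restrict (E : DRing.Cx A) (i : ℤ)
    (h1 : IsZero (((extendCx R R').obj ((DRing.restrictCx (algebraMap R A)).obj E)).homology i)) :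
    IsZero (((extendCx A (R' ⊗[R] A)).obj E).homology i) := by
  have h2 : IsZero (((DRing.restrictCx (algebraMap R' (R' ⊗[R] A))).obj
      ((extendCx A (R' ⊗[R] A)).obj E)).homology i) :=
    h1.of_iso ((HomologicalComplex.homologyFunctor _ _ i).mapIso (bcCxIso R A R' E).symm)
  apply isZero_of_isZero_restrictScalars (algebraMap R' (R' ⊗[R] A))
  exact h2.of_iso (restrictCxHomologyIso (algebraMap R' (R' ⊗[R] A)) _ i).symm

end Sq

section Main

attribute [local instance] Algebra.TensorProduct.rightAlgebra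

variable {A B : Type u} [CommRing A] [CommRing B] [IsLocalRing A] [IsLocalRing B] [Algebra A B]
  [IsLocalHom (algebraMap A B)] [Module.Flat A B]

theorem isZero_homology_extCx_quotient_of_regular_fibre (d : ℕ)
    [IsRegularLocalRing (B ⧸ (IsLocalRing.maximalIdeal A).map (algebraMap A B))]
    (hd : ringKrullDim (B ⧸ (IsLocalRing.maximalIdeal A).map (algebraMap A B)) = d)
    [DRing.HasLBaseChange (IsLocalRing.residue A)] (a b : ℤ)
    (E : DRing.Cx B) (c : ℤ) (hEv : ∀ i : ℤ, c < i → IsZero (E.X i))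
    (hEff : ∀ i : ℤ, Pff B (E.X i))
    (h : ∀ i : ℤ, (i < a ∨ b < i) →
      IsZero ((DerivedCategory.homologyFunctor (ModuleCat.{u} (IsLocalRing.ResidueField A)) i).obj
        ((DRing.LBaseChange (IsLocalRing.residue A)).obj
          (Q.obj ((DRing.restrictCx (algebraMap A B)).obj E)))))
    (m : Ideal B) (hm : m.IsMaximal) (i : ℤ) (hi : i < a - d ∨ b < i) :
    IsZero (((DTen.extCx (Ideal.Quotient.mk m)).obj E).homology i) := by
  let I := IsLocalRing.maximalIdeal A
  let J := I.map (algebraMap A B)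
  let κ := IsLocalRing.ResidueField A
  let C := κ ⊗[A] B
  have hEfl : ∀ i : ℤ, Module.Flat B (E.X i) := fun i => by
    have := (hEff i).1
    have := (hEff i).2
    infer_instance
  let P := (DRing.restrictCx (algebraMap A B)).obj E
  have hz : ∀ i : ℤ, c < i → IsZero (P.X i) := fun i hi =>
    Functor.map_isZero (ModuleCat.restrictScalars.{u} (algebraMap A B)) (hEv i hi)
  have hfl : ∀ i : ℤ, Module.Flat A (P.X i) := fun i => by
    have := hEfl i
    exact flat_restrictScalars A B (E.X i)
  have hP : KFlat P := Groth.Agent.S6901.result A P c hz hfl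
  obtain ⟨e0⟩ := nonempty_LBaseChange_iso_of_kflat (IsLocalRing.residue A) P hP
  have h' : ∀ i : ℤ, (i < a ∨ b < i) → IsZero (((extendCx A κ).obj P).homology i) := fun i hi =>
    (h i hi).of_iso ((homologyQIso _ i).symm ≪≫
      (DerivedCategory.homologyFunctor (ModuleCat.{u} κ) i).mapIso e0.symm)
  have h1 : ∀ i : ℤ, (i < a ∨ b < i) → IsZero (((extendCx B C).obj E).homology i) := fun i hi =>
    isZero_homology_extendCx_of_restrict A B κ E i (h' i hi)
  let e : (B ⧸ J) ≃ₐ[A ⧸ I] (A ⧸ I) ⊗[A] B := Algebra.TensorProduct.quotIdealMapEquivQuotTensor B I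
  let σ : C →+* B ⧸ J := (e.symm : (A ⧸ I) ⊗[A] B →+* B ⧸ J)
  have hσ : Function.Bijective σ := e.symm.bijective
  have hcompσ : σ.comp (algebraMap B C) = Ideal.Quotient.mk J := by
    ext x
    change e.symm ((1 : A ⧸ I) ⊗ₜ[A] x) = _
    rw [AlgEquiv.symm_apply_eq]
    exact (Algebra.TensorProduct.quotIdealMapEquivQuotTensor_mk B I x).symm
  let F' := (DTen.extCx (Ideal.Quotient.mk J)).obj E
  let e1 : (DTen.extCx σ).obj ((extendCx B C).obj E) ≅ F' :=
    extCxCompIso (algebraMap B C) σ E ≪≫ eqToIso (by rw [hcompσ])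
  have h2 : ∀ i : ℤ, (i < a ∨ b < i) → IsZero (F'.homology i) := fun i hi =>
    (isZero_homology_extCx_of_bijective σ hσ _ i (h1 i hi)).of_iso
      ((HomologicalComplex.homologyFunctor _ _ i).mapIso e1.symm)
  have hF'ff : ∀ i : ℤ, Pff (B ⧸ J) (F'.X i) := fun i => Pff_extendScalars (B ⧸ J) (hEff i)
  have hF'fin : ∀ i : ℤ, Module.Finite (B ⧸ J) (F'.X i) := fun i => (hF'ff i).1
  have hF'fl : ∀ i : ℤ, Module.Flat (B ⧸ J) (F'.X i) := fun i => by
    have := (hF'ff i).1
    have := (hF'ff i).2
    infer_instance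
  have hF'z : ∀ i : ℤ, c < i → IsZero (F'.X i) := fun i hi =>
    Functor.map_isZero (ModuleCat.extendScalars.{u, u, u} (Ideal.Quotient.mk J)) (hEv i hi)
  have h3 := hasTorAmplitudeIn_of_regular (B ⧸ J) d hd F' hF'fin a b h2
  have hJm : J ≤ m := by
    rw [IsLocalRing.eq_maximalIdeal hm]
    exact IsLocalRing.map_maximalIdeal_le (algebraMap A B)
  let τ : B ⧸ J →+* B ⧸ m := Ideal.Quotient.factor hJm
  let _ : Algebra (B ⧸ J) (B ⧸ m) := τ.toAlgebra
  have h4 := hasTorAmplitudeIn_extendCx (B ⧸ J) (B ⧸ m) F' c hF'z hF'fl (a - d) b h3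
  have h5 : IsZero (((DTen.extCx τ).obj F').homology i) :=
    (isZero_HD_of_hasTorAmplitudeIn h4 i hi).of_iso (homologyQIso _ i).symm
  let e2 : (DTen.extCx τ).obj F' ≅ (DTen.extCx (Ideal.Quotient.mk m)).obj E :=
    extCxCompIso (Ideal.Quotient.mk J) τ E ≪≫ eqToIso (by rw [Ideal.Quotient.factor_comp_mk])
  exact h5.of_iso ((HomologicalComplex.homologyFunctor _ _ i).mapIso e2.symm)

end Main

end Groth.Agent.Lib.Helper13.FG
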