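import Groth.Agent.Lib.Helper13.KFlat4

/-!
# K-flatness: two-out-of-three on short exact sequences with termwise flat cokernel
-/

set_option autoImplicit false
universe u
open CategoryTheory CategoryTheory.Limits MonoidalCategory Pretriangulated
open CochainComplex CochainComplex.HomComplex HomologicalComplex

namespace Groth.Agent.Lib.Helper13.HT

open Groth.Agent.Lib.Helper13.PC Groth.Agent.Lib.Helper13.DR Groth.Agent.Lib.Helper13.SF
open Groth.Agent.Lib.Helper28 Groth.Agent.Lib.Helper13.DT

attribute [local instance] HasDerivedCategory.standard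

variable {A : Type u} [CommRing A]

/-- Tensoring a short exact sequence of modules with flat cokernel stays short exact. -/
lemma shortExact_tensorLeft_of_flat (S : ShortComplex (ModuleCat.{u} A)) (hS : S.ShortExact)
    (h3 : Module.Flat A S.X₃) (X : ModuleCat.{u} A) :
    (S.map ((curriedTensor (ModuleCat.{u} A)).obj X)).ShortExact := by
  have hinj := hS.moduleCat_injective_f
  have hsurj := hS.moduleCat_surjective_g
  have hex := (ShortComplex.ShortExact.moduleCat_exact_iff_function_exact S).1 hS.exact
  refine ModuleCat.shortComplex_shortExact _ ?_ ?_ ?_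
  · exact lTensor_exact X hex hsurj
  · exact LinearMap.lTensor_injective_of_exact_of_flat S.g.hom hsurj S.f.hom hinj hex X
  · exact LinearMap.lTensor_surjective X hsurj

/-- Two-out-of-three for K-flatness on short exact sequences of complexes with termwise flat
cokernel. -/
theorem kflat_two_of_three_shortExact (S : ShortComplex (DRing.Cx A)) (hS : S.ShortExact)
    (h3 : DRing.TermwiseFlat S.X₃) :
    (KFlat S.X₁ → KFlat S.X₂ → KFlat S.X₃) ∧
    (KFlat S.X₁ → KFlat S.X₃ → KFlat S.X₂) ∧
    (KFlat S.X₂ → KFlat S.X₃ → KFlat S.X₁) := by
  have := KFlatAbs.isKFlat_two_of_three (T := curriedTensor (ModuleCat.{u} A)) S (fun X q =>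
    shortExact_tensorLeft_of_flat _ (hS.map_of_exact (HomologicalComplex.eval _ _ q)) (h3 q) X)
  simpa only [← kflat_iff_abs] using this

end Groth.Agent.Lib.Helper13.HT
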