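import Groth.Agent.Lib.Helper13.LTensorCxV
import Groth.Agent.S6902
import Groth.Agent.S6905

set_option autoImplicit false
universe u
open CategoryTheory CategoryTheory.Limits MonoidalCategory Pretriangulated Opposite

namespace Groth.Agent.Lib.Helper13.DV

open DTen Groth.Agent.Lib.Helper13.SF Groth.Agent.Lib.Helper13.DT Groth.Agent.Lib.Helper13.DR
  Groth.Agent.Lib.Helper13.HT Groth.Agent.Lib.Helper13.RE Groth.Agent.Lib.Helper13.PC

attribute [local instance] HasDerivedCategory.standard

section Trunc

variable {C : Type*} [Category C] [Abelian C]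

set_option backward.isDefEq.respectTransparency false in
lemma isIso_πTruncGE_f_of_not_boundary {ι ι' : Type*} {c : ComplexShape ι} {c' : ComplexShape ι'}
    (K : HomologicalComplex C c') (e : c.Embedding c') [e.IsTruncGE]
    [∀ i', K.HasHomology i'] (i : ι) (i' : ι') (hi : e.f i = i') (hb : ¬ e.BoundaryGE i) :
    IsIso ((K.πTruncGE e).f i') := by
  dsimp [HomologicalComplex.πTruncGE]
  rw [e.isIso_liftExtend_f_iff _ _ hi]
  exact K.isIso_restrictionToTruncGE' e i hb

lemma isIso_πTruncGE_f (K : CochainComplex C ℤ) (a i : ℤ) (h : a < i) :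
    IsIso ((K.πTruncGE a).f i) := by
  have hk : (ComplexShape.embeddingUpIntGE a).f (i - a).toNat = i := by
    simp only [ComplexShape.embeddingUpIntGE_f]
    omega
  refine isIso_πTruncGE_f_of_not_boundary K (ComplexShape.embeddingUpIntGE a) _ i hk ?_
  rw [ComplexShape.boundaryGE_embeddingUpIntGE_iff]
  omega

end Trunc

section V

variable {A : Type u} [CommRing A]

/-- `QX ⊗^L K ≅ Q(X ⊗ G)` for any K-flat representative `G` of `K`. -/
lemma nonempty_LTensorCx_iso_of_rep (K G : DRing.Cx A) [DRing.HasLTensorCx A K] (hG : KFlat G)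
    (e : DerivedCategory.Q.obj G ≅ DerivedCategory.Q.obj K) (X : DRing.Cx A) :
    Nonempty ((DRing.LTensorCx A K).obj (DerivedCategory.Q.obj X) ≅
      DerivedCategory.Q.obj (X ⊗ G)) := by
  have h1 : IsIso (DerivedCategory.Q.map (resMap X)) := by
    rw [DerivedCategory.isIso_Q_map_iff_quasiIso]; infer_instance
  have q := quasiIso_whiskerRight_of_kflat G hG (resMap X)
  have h2 : IsIso (DerivedCategory.Q.map (resMap X ▷ G)) := by
    rw [DerivedCategory.isIso_Q_map_iff_quasiIso]; exact q
  obtain ⟨e'⟩ := nonempty_iso_Q_tensor_of_iso_right (res X) (isKFlat_of_isKProjective (res X))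
    K G e.symm
  exact ⟨((DRing.LTensorCx A K).mapIso (asIso (DerivedCategory.Q.map (resMap X)))).symm ≪≫
    LTensorCxIso K (res X) ≪≫ e' ≪≫ asIso (DerivedCategory.Q.map (resMap X ▷ G))⟩

end V

section Main

variable {A : Type u} [CommRing A]

lemma truncGE_termwiseFlat (F : DRing.Cx A) (a : ℤ) (hF : DRing.TermwiseFlat F)
    (hop : Pfl A (F.opcycles a)) : DRing.TermwiseFlat (F.truncGE a) := by
  intro i
  show Pfl A ((F.truncGE a).X i)
  by_cases h : a < i
  · exact (Pfl A).prop_of_iso (F.truncGEXIso a i h).symm (hF i)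
  · by_cases h' : i = a
    · subst h'
      exact (Pfl A).prop_of_iso (F.truncGEXIsoOpcycles i).symm hop
    · exact (Pfl A).prop_of_isZero (CochainComplex.isZero_of_isStrictlyGE _ a i (by lia))

lemma kflat_truncGE (F : DRing.Cx A) (a : ℤ) (hF : KFlat F) (hfl : DRing.TermwiseFlat F)
    (hop : Pfl A (F.opcycles a)) : KFlat (F.truncGE a) := by
  let π := F.πTruncGE a
  let S : ShortComplex (DRing.Cx A) := ShortComplex.mk (kernel.ι π) π (kernel.condition π)
  have hS : S.ShortExact :=
    { exact := S.exact_of_f_is_kernel (kernelIsKernel π)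
      mono_f := inferInstanceAs (Mono (kernel.ι π))
      epi_g := inferInstanceAs
        (Epi (HomologicalComplex.πTruncGE F (ComplexShape.embeddingUpIntGE a))) }
  have h3 : DRing.TermwiseFlat S.X₃ := truncGE_termwiseFlat F a hfl hop
  have hSi : ∀ i : ℤ, (S.map (HomologicalComplex.eval _ _ i)).ShortExact :=
    fun i => hS.map_of_exact _
  have h1fl : DRing.TermwiseFlat S.X₁ := by
    intro i
    have h2 : Module.Flat A (F.X i) := hfl i
    have h3' : Module.Flat A ((F.truncGE a).X i) := h3 i
    exact flat_of_exact ((kernel.ι π).f i).hom (hSi i).moduleCat_injective_f (π.f i).hom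
      (hSi i).moduleCat_surjective_g
      ((ShortComplex.ShortExact.moduleCat_exact_iff_function_exact _).1 (hSi i).exact)
  have h1v : DRing.VanishesAbove S.X₁ a := by
    intro i hi
    have : IsIso (π.f i) := isIso_πTruncGE_f F a i hi
    have hz : (kernel.ι π).f i = 0 := by
      rw [← cancel_mono (π.f i), zero_comp, ← HomologicalComplex.comp_f, kernel.condition,
        HomologicalComplex.zero_f]
    have : Mono ((kernel.ι π).f i) := (hSi i).mono_f
    exact IsZero.of_mono_eq_zero _ hz
  have h1 : KFlat S.X₁ := Groth.Agent.S6901.result A _ a h1v h1fl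
  exact (Groth.Agent.S6902.result A S hS h3).1 h1 hF

theorem torAmp_ge_iff (a : ℤ) (K : DRing.Cx A) [DRing.HasLTensorCx A K] :
    (∀ (M : ModuleCat.{u} A) (i : ℤ), i < a →
        Subsingleton (Dual.HD A ((DRing.LTensorCx A K).obj
          (DRing.toD ((CochainComplex.singleFunctor (ModuleCat.{u} A) 0).obj M))) i)) ↔
      ∃ E : DRing.Cx A, KFlat E ∧ DRing.TermwiseFlat E ∧ (∀ i : ℤ, i < a → IsZero (E.X i)) ∧
        Nonempty (DRing.toD E ≅ DRing.toD K) := by
  constructor
  · intro h
    obtain ⟨F, f, hF, hFfl, hq, -⟩ := Groth.Agent.S6905.result A K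
    have hi1 : IsIso (DerivedCategory.Q.map f) := by
      rw [DerivedCategory.isIso_Q_map_iff_quasiIso]; exact hq
    let eF : DerivedCategory.Q.obj F ≅ DerivedCategory.Q.obj K := asIso (DerivedCategory.Q.map f)
    have hten : ∀ (N : ModuleCat.{u} A) (i : ℤ), i < a →
        IsZero (((tensorCx N).obj F).homology i) := by
      intro N i hi
      obtain ⟨e1⟩ := nonempty_LTensorCx_iso_of_rep K F hF eF
        ((CochainComplex.singleFunctor (ModuleCat.{u} A) 0).obj N)
      have h0 := (subsingleton_HD_iff _ _ e1.symm i).1 (h N i hi)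
      exact h0.of_iso ((HomologicalComplex.homologyFunctor _ _ i).mapIso
        (tensorSingleIso F N ≪≫ DTen.braidCx _ _))
    have hH : ∀ i : ℤ, i < a → IsZero (F.homology i) := fun i hi =>
      (hten (𝟙_ _) i hi).of_iso
        ((HomologicalComplex.homologyFunctor _ _ i).mapIso (tensorCxUnitIso F).symm)
    have hop : Pfl A (F.opcycles a) := flat_opcycles_of_tensor_exact F a (hFfl a)
      (by rw [HomologicalComplex.exactAt_iff_isZero_homology]; exact hH _ (by lia))
      (fun N => by rw [HomologicalComplex.exactAt_iff_isZero_homology]; exact hten N _ (by lia))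
    have : F.IsGE a := by
      rw [CochainComplex.isGE_iff]
      intro i hi
      rw [HomologicalComplex.exactAt_iff_isZero_homology]
      exact hH i hi
    have hq2 : QuasiIso (F.πTruncGE a) := inferInstance
    have hi2 : IsIso (DerivedCategory.Q.map (F.πTruncGE a)) := by
      rw [DerivedCategory.isIso_Q_map_iff_quasiIso]; exact hq2
    exact ⟨F.truncGE a, kflat_truncGE F a hF hFfl hop, truncGE_termwiseFlat F a hFfl hop,
      fun i hi => CochainComplex.isZero_of_isStrictlyGE _ a i hi,
      ⟨(asIso (DerivedCategory.Q.map (F.πTruncGE a))).symm ≪≫ eF⟩⟩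
  · rintro ⟨E, hE, hEfl, hEv, ⟨e⟩⟩ M i hi
    obtain ⟨e1⟩ := nonempty_LTensorCx_iso_of_rep K E hE e
      ((CochainComplex.singleFunctor (ModuleCat.{u} A) 0).obj M)
    rw [subsingleton_HD_iff _ _ e1.symm i]
    refine ShortComplex.isZero_homology_of_isZero_X₂ _ (isZero_tensor_X _ E i (fun p q hpq => ?_))
    by_cases hp : p = 0
    · subst hp
      exact Or.inr (hEv q (by lia))
    · exact Or.inl (HomologicalComplex.isZero_single_obj_X _ _ _ _ hp)

end Main

end Groth.Agent.Lib.Helper13.DV
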