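import Groth.Agent.Lib.Helper13.GlobalMix2

/-!
# Global instance: the derived tensor product with a complex exists
-/

set_option autoImplicit false
set_option linter.unusedSectionVars false
set_option linter.style.haveILetI false

universe u
open CategoryTheory CategoryTheory.Limits MonoidalCategory

namespace Groth.Agent.Lib.Helper13.GM

open DTen Groth.Agent.Lib.Helper13.DT Groth.Agent.Lib.Helper13.DR Groth.Agent.Lib.Helper13.SF
open Groth.Agent.Lib.Helper13.Coind Groth.Agent.Lib.Helper13.DerAbsL
open DerivedCategory

attribute [local instance] HasDerivedCategory.standard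

variable {A : Type u} [CommRing A]

/-- K-projective complexes -/
def PK : DRing.Cx A → Prop := fun X => CochainComplex.IsKProjective X

lemma enoughColocal_Q :
    EnoughColocal (DerivedCategory.Q : DRing.Cx A ⥤ Dual.D A)
      (HomologicalComplex.quasiIso (ModuleCat.{u} A) (ComplexShape.up ℤ)) (PK (A := A)) := by
  intro K
  obtain ⟨P, f, hP, -, hf⟩ := exists_kprojective_resolution K
  refine ⟨P, f, hf, hP, ?_⟩
  intro L g
  exact Groth.Agent.Lib.Helper13.KP.exists_Q_map_eq (K := P) (L := L) g

lemma compat_tensorCxQ (E : DRing.Cx A) :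
    Compat (DerivedCategory.Q : DRing.Cx A ⥤ Dual.D A) (PK (A := A)) (DRing.tensorCxQ A E) := by
  intro I K f g hI h
  haveI : CochainComplex.IsKProjective I := hI
  have e := Q_map_tensorHom_eq (Groth.Agent.Lib.Helper13.PC.exists_homotopy_of_Q_map_eq f g h)
    (⟨Homotopy.refl (𝟙 E)⟩ : Nonempty (Homotopy (𝟙 E) (𝟙 E)))
  rw [tensorHom_id, tensorHom_id] at e
  exact e

/-- The derived tensor product with a complex exists. -/
instance hasLTensorCx (E : DRing.Cx A) : DRing.HasLTensorCx A E :=
  DerAbsL.hasLeftDerivedFunctor (L := (DerivedCategory.Q : DRing.Cx A ⥤ Dual.D A))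
    (W := HomologicalComplex.quasiIso (ModuleCat.{u} A) (ComplexShape.up ℤ))
    enoughColocal_Q (compat_tensorCxQ E)

end Groth.Agent.Lib.Helper13.GM
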