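import Groth.Agent.Lib.Helper13.RHomLoc1

/-!
# `RHom_A(B[0], -) ≅ res ∘ RHom_A(B, -)` objectwise
-/

set_option autoImplicit false
universe u
open CategoryTheory CategoryTheory.Limits
open CochainComplex CochainComplex.HomComplex

namespace Groth.Agent.Lib.Helper13.Coind

open Groth.Agent.Lib.Helper17 Groth.Agent.Lib.Helper17.DerKInj Groth.Agent.Lib.Helper17.DerAbs

attribute [local instance] HasDerivedCategory.standard

variable (A B : Type u) [CommRing A] [CommRing B] [Algebra A B]

lemma compat_homCxQ_singleB :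
    Compat (DerivedCategory.Q (C := ModuleCat.{u} A)) PK (DRing.homCxQ (singleB A B)) := by
  apply compat_Q
  intro K L f g h
  have h1 : DerivedCategory.Q.map ((resCoextCx A B).map f) =
      DerivedCategory.Q.map ((resCoextCx A B).map g) :=
    DerivedCategory.Q_map_eq_of_homotopy _
      ((ModuleCat.restrictScalars.{u} (algebraMap A B)).mapHomotopy
        ((ModuleCat.coextendScalars.{u, u, u} (algebraMap A B)).mapHomotopy h))
  have e1 : DRing.homCxMap (singleB A B) f =
      (homSingleIso (A := A) (B := B) K).inv ≫ (resCoextCx A B).map f ≫ (homSingleIso L).hom := by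
    rw [homSingleIso_naturality, Iso.inv_hom_id_assoc]
  have e2 : DRing.homCxMap (singleB A B) g =
      (homSingleIso (A := A) (B := B) K).inv ≫ (resCoextCx A B).map g ≫ (homSingleIso L).hom := by
    rw [homSingleIso_naturality, Iso.inv_hom_id_assoc]
  change DerivedCategory.Q.map (DRing.homCxMap (singleB A B) f) =
    DerivedCategory.Q.map (DRing.homCxMap (singleB A B) g)
  rw [e1, e2, Functor.map_comp, Functor.map_comp, Functor.map_comp, Functor.map_comp, h1]

variable [DRing.HasRHomCx (singleB A B)]

/-- `RHom_A(B[0], Y) ≅ res (RHom_A(B, Y))`. -/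
theorem nonempty_RHomCx_singleB_iso (Y : Dual.D A) :
    Nonempty ((DRing.RHomCx (singleB A B)).obj Y ≅
      (DRing.restrictD (algebraMap A B)).obj ((Rco (algebraMap A B)).obj Y)) := by
  obtain ⟨J, f, hJ, hf⟩ := (hasKInjRes (A := A)) (DerivedCategory.Q.objPreimage Y)
  have hf' : IsIso (DerivedCategory.Q.map f) := by
    rw [DerivedCategory.isIso_Q_map_iff_quasiIso]; exact hf
  let e : Y ≅ DerivedCategory.Q.obj J :=
    (DerivedCategory.Q.objObjPreimageIso Y).symm ≪≫ asIso (DerivedCategory.Q.map f)
  have hu : IsIso (((DRing.homCxQ (singleB A B)).totalRightDerivedUnit DerivedCategory.Q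
      (HomologicalComplex.quasiIso (ModuleCat.{u} A) (ComplexShape.up ℤ))).app J) :=
    DerAbs.isIso_app (enoughLocal_Q hasKInjRes) (compat_homCxQ_singleB A B)
      (DRing.RHomCx (singleB A B)) _ (show PK J from hJ) (isLocalObj_Q J)
  refine ⟨(DRing.RHomCx (singleB A B)).mapIso e ≪≫ (asIso (((DRing.homCxQ (singleB A B)).totalRightDerivedUnit
      DerivedCategory.Q (HomologicalComplex.quasiIso (ModuleCat.{u} A) (ComplexShape.up ℤ))).app J)).symm ≪≫
    DerivedCategory.Q.mapIso (homSingleIso (A := A) (B := B) J).symm ≪≫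
    ((ModuleCat.restrictScalars.{u} (algebraMap A B)).mapDerivedCategoryFactors.app _).symm ≪≫
    (DRing.restrictD (algebraMap A B)).mapIso (RcoIso (algebraMap A B) J) ≪≫
    (DRing.restrictD (algebraMap A B)).mapIso ((Rco (algebraMap A B)).mapIso e.symm)⟩

end Groth.Agent.Lib.Helper13.Coind
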