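import Groth.Agent.Lib.Helper13.ShriekBC
import Groth.Agent.Lib.Helper13.RHomLoc2
import Groth.Agent.Lib.Helper13.BiDual3
import Groth.Agent.Lib.Helper13.PerfHom1
import Groth.Agent.Lib.Helper13.RelPerf2

/-!
# The relative dualizing complex of a flat finite type ring map: relative perfectness
-/

set_option autoImplicit false
set_option linter.unusedSectionVars false

open CategoryTheory CategoryTheory.Limits CategoryTheory.Functor TensorProduct

universe u

namespace Groth.Agent.Lib.Helper13.RelDual

open DerivedCategory Groth.Agent.Lib.Helper13.DR Groth.Agent.Lib.Helper13.Coind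
  Groth.Agent.Lib.Helper13.Shriek Groth.Agent.Lib.Helper13.BD
open Groth.Agent.Lib.Helper17 Groth.Agent.Lib.Helper17.DerKInj Groth.Agent.Lib.Helper17.DerAbs

attribute [local instance] HasDerivedCategory.standard

section Perf

variable (P A : Type u) [CommRing P] [CommRing A] [Algebra P A]

instance hasRHomCx (E : DRing.Cx P) : DRing.HasRHomCx E :=
  DerAbs.hasRightDerivedFunctor (enoughLocal_Q RG.hasKInjRes) (compat_homCxQ E)

/-- If `A` is a perfect `P`-module then `RHom_P(A, P)` is perfect over `P`. -/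
theorem isPerfect_res_Rco (h : DRing.IsPerfectModule P A) :
    DRing.IsPerfect P ((DRing.restrictD (algebraMap P A)).obj
      ((Rco (algebraMap P A)).obj (Dual.inD P P))) := by
  obtain ⟨E, a, b, hv, hfp, ⟨e⟩⟩ := h
  have : E.IsKProjective := isKProjective_of_perfect E a b hv hfp
  let e' : DRing.toD (singleB P A) ≅ DRing.toD E :=
    ((DerivedCategory.singleFunctorIsoCompQ (ModuleCat.{u} P) 0).app (ModuleCat.of P A)).symm ≪≫
      e.symm
  obtain ⟨i1⟩ := nonempty_RHomCx_iso_homCx_of_iso (singleB P A) E e' (VA P)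
  obtain ⟨i2⟩ := nonempty_RHomCx_singleB_iso P A (DRing.toD (VA P))
  let i3 : DRing.toD (VA P) ≅ Dual.inD P P :=
    ((DerivedCategory.singleFunctorIsoCompQ (ModuleCat.{u} P) 0).app (ModuleCat.of P P)).symm
  exact ⟨DRing.homCx E (VA P), -b, -a, vanishesOutside_dual E a b hv,
    termwiseFiniteProjective_dual E hfp,
    ⟨i1.symm ≪≫ i2 ≪≫ (DRing.restrictD (algebraMap P A)).mapIso
      ((Rco (algebraMap P A)).mapIso i3)⟩⟩

end Perf

section RelPerf

open Groth.Agent.Lib.Helper13.DV Groth.Agent.Lib.Helper13.PS Groth.Agent.Lib.Helper13.FC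
  Groth.Agent.Lib.Helper13.TB Groth.Agent.Lib.Helper13.PC

variable (R A : Type u) [CommRing R] [CommRing A] [IsNoetherianRing R] [IsNoetherianRing A]
  [Algebra R A] [Module.Flat R A]

/-- `L_{R → P}(R[0]) ≅ P[0]` for `P` flat over `R`. -/
noncomputable def LBaseChangeSelfIso (P : Type u) [CommRing P] [Algebra R P] [Module.Flat R P] :
    (DRing.LBaseChange (algebraMap R P)).obj (Dual.inD R R) ≅ Dual.inD P P :=
  (LBaseChangeFlatIso R P).app _ ≪≫ flatBCSingleIso R P R ≪≫
    (DerivedCategory.singleFunctor (ModuleCat.{u} P) 0).mapIso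
      (TensorProduct.AlgebraTensorModule.rid R P P).toModuleIso

/-- The relative dualizing complex `φ^!(R)` is `R`-perfect. -/
theorem isRelPerfect_Sh (n : ℕ) (ψ : MvPolynomial (Fin n) R →ₐ[R] A)
    (hψ : Function.Surjective ψ) :
    Dual2.IsRelPerfect R A (Sh (algebraMap R (MvPolynomial (Fin n) R))
      (ψ : MvPolynomial (Fin n) R →+* A) n (Dual.inD R R)) := by
  let P := MvPolynomial (Fin n) R
  let _ : Algebra P A := ψ.toRingHom.toAlgebra
  have : IsScalarTower R P A := IsScalarTower.of_algebraMap_eq fun r => (ψ.commutes r).symm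
  have hfinA : Module.Finite P A := Module.Finite.of_surjective (Algebra.linearMap P A) hψ
  -- `A` is perfect over `P`
  have hperfA : DRing.IsPerfectModule P A :=
    isPerfectModule_of_hasFiniteTorDim R A n
      ((isPseudoCoherentModule'_iff_of_isNoetherianRing (A := P) A).2 hfinA)
      ⟨0, (hasTorDimLE_zero_iff_flat R A).2 inferInstance⟩
  let X := (Rco (algebraMap P A)).obj (Dual.inD P P)
  have hX : DRing.IsPerfect P ((DRing.restrictD (algebraMap P A)).obj X) :=
    isPerfect_res_Rco P A hperfA
  -- the shriek is `X[n]`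
  let eω : Sh (algebraMap R P) (ψ : P →+* A) n (Dual.inD R R) ≅ X⟦(n : ℤ)⟧ :=
    (shiftFunctor (Dual.D A) (n : ℤ)).mapIso
      ((Rco (algebraMap P A)).mapIso (LBaseChangeSelfIso R P))
  -- restriction to `P` of the shriek is `R`-perfect
  have h2 : Dual2.IsRelPerfect R P (((DRing.restrictD (algebraMap P A)).obj X)⟦(n : ℤ)⟧) :=
    isRelPerfect_shift R P (isRelPerfect_of_isPerfect R P _ hX) n
  obtain ⟨a, b, hab⟩ := h2.2
  let e1 : (DRing.restrictD (algebraMap R A)).obj (X⟦(n : ℤ)⟧) ≅
      (DRing.restrictD (algebraMap R P)).obj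
        (((DRing.restrictD (algebraMap P A)).obj X)⟦(n : ℤ)⟧) :=
    ((restrictDComp (algebraMap R P) (algebraMap P A) (algebraMap R A)
      (IsScalarTower.algebraMap_eq R P A)).app _).symm ≪≫
    (DRing.restrictD (algebraMap R P)).mapIso
      (((DRing.restrictD (algebraMap P A)).commShiftIso (n : ℤ)).app X)
  have htor : DRing.HasTorAmplitudeIn R a b ((DRing.restrictD (algebraMap R A)).obj
      (Sh (algebraMap R P) (ψ : P →+* A) n (Dual.inD R R))) :=
    hasTorAmplitudeIn_of_iso ((DRing.restrictD (algebraMap R A)).mapIso eω ≪≫ e1).symm hab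
  refine ⟨?_, a, b, htor⟩
  -- pseudo-coherence over `A`
  rw [isPseudoCoherent'_iff_forall]
  intro m
  rw [isPseudoCoherent_iff_of_isNoetherianRing]
  refine ⟨⟨b, fun i hi => ?_⟩, fun i _ => ?_⟩
  · have hz := isZero_HD_of_hasTorAmplitudeIn htor i (Or.inr hi)
    obtain ⟨e⟩ := nonempty_homology_restrictD_iso (algebraMap R A)
      (Sh (algebraMap R P) (ψ : P →+* A) n (Dual.inD R R)) i
    exact ModuleCat.subsingleton_of_isZero
      (isZero_of_isZero_restrictScalars (algebraMap R A) _ (hz.of_iso e.symm))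
  · have hGE : (Dual.inD P P).IsGE 0 := inferInstance
    have hfin : ∀ j : ℤ, Module.Finite P
        ((DerivedCategory.homologyFunctor (ModuleCat.{u} P) j).obj (Dual.inD P P)) := by
      intro j
      by_cases hj : j = 0
      · subst hj
        exact Module.Finite.equiv
          (homologySingleIso 0 (ModuleCat.of P P)).symm.toLinearEquiv
      · have hz : IsZero ((DerivedCategory.homologyFunctor (ModuleCat.{u} P) j).obj
            (Dual.inD P P)) := PC.isZero_homology_single 0 j hj _
        have := ModuleCat.subsingleton_of_isZero hz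
        infer_instance
    have h := finite_homology_Rco (B := A) (Dual.inD P P) 0 hfin ((n : ℤ) + i)
    let ι : (DerivedCategory.homologyFunctor (ModuleCat.{u} A) i).obj
        (Sh (algebraMap R P) (ψ : P →+* A) n (Dual.inD R R)) ≅
        (DerivedCategory.homologyFunctor (ModuleCat.{u} A) ((n : ℤ) + i)).obj X :=
      (DerivedCategory.homologyFunctor (ModuleCat.{u} A) i).mapIso eω ≪≫
      ((DerivedCategory.homologyFunctor (ModuleCat.{u} A) 0).shiftIso (n : ℤ) i ((n : ℤ) + i)
        rfl).app X
    exact Module.Finite.equiv ι.symm.toLinearEquiv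

end RelPerf

end Groth.Agent.Lib.Helper13.RelDual
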