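import Mathlib
import Groth.Agent.Lib.Helper13.FibReg9
import Groth.Agent.Lib.Helper13.TorAmpLocal
import Groth.Agent.Lib.Helper13.TorAmpGE
import Groth.Agent.Lib.Helper13.FibreGlDim2
import Groth.Agent.S1820

set_option autoImplicit false
set_option linter.style.haveILetI false
set_option linter.unusedSectionVars false

universe u

open TensorProduct AlgebraicGeometry CategoryTheory CategoryTheory.Limits MonoidalCategory

namespace Groth.Agent.Lib.Helper13.FibReg

open DerivedCategory Groth.Agent.Lib.Helper13.Coind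
  Groth.Agent.Lib.Helper13.DR Groth.Agent.Lib.Helper13.DualBC Groth.Agent.Lib.Helper13.PS
  Groth.Agent.Lib.Helper13.PC Groth.Agent.Lib.Helper13.TB Groth.Agent.Lib.Helper13.Shriek
  DTen Groth.Agent.Lib.Helper13.SF Groth.Agent.Lib.Helper13.DT Groth.Agent.Lib.Helper13.RE
  Groth.Agent.Lib.Helper13.DV Groth.Agent.Lib.Helper13.FG Groth.Agent.Lib.Helper13.HT

attribute [local instance] HasDerivedCategory.standard

section

variable (R A : Type u) [CommRing R] [CommRing A] [IsNoetherianRing R] [IsNoetherianRing A]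
  [Algebra R A] (n : ℕ) (ψ : MvPolynomial (Fin n) R →ₐ[R] A) (hψ : Function.Surjective ψ)
  [DRing.HasLBaseChange (algebraMap R (MvPolynomial (Fin n) R))]
  (Rψ : Dual.D (MvPolynomial (Fin n) R) ⥤ Dual.D A) (adj : DRing.restrictD ψ.toRingHom ⊣ Rψ)

/-- `φ^!(N[0]) ≅ RHom_P(A, P ⊗_R N)[n]`. -/
noncomputable def shriekViaSingleIso (N : Type u) [AddCommGroup N] [Module R N] :
    Dual2.shriekVia n Rψ (Dual.inD R N) ≅
      ((Rco ψ.toRingHom).obj (Dual.inD (MvPolynomial (Fin n) R)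
        (MvPolynomial (Fin n) R ⊗[R] N)))⟦(n : ℤ)⟧ :=
  (shiftFunctor (Dual.D A) (n : ℤ)).mapIso
    ((Groth.Agent.Lib.Helper13.Coind.uniq ψ.toRingHom Rψ adj).app _ ≪≫
      (Rco ψ.toRingHom).mapIso
        ((LBaseChangeFlatIso R (MvPolynomial (Fin n) R)).app _ ≪≫
          flatBCSingleIso R (MvPolynomial (Fin n) R) N))

include hψ in
include adj in
theorem subsingleton_HD_shriekVia_single [Module.Flat R A] (N : Type u) [AddCommGroup N]
    [Module R N] (d : ℕ)
    (hd : ∀ q : PrimeSpectrum A,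
      FlatMor.fibreDimAt (Spec.map (CommRingCat.ofHom (algebraMap R A))) q ≤ (d : WithBot ℕ∞))
    (i : ℤ) (hi : i < -(d : ℤ) ∨ 0 < i) :
    Subsingleton (Dual.HD A (Dual2.shriekVia n Rψ (Dual.inD R N)) i) := by
  let P := MvPolynomial (Fin n) R
  let E : Dual.HD A (Dual2.shriekVia n Rψ (Dual.inD R N)) i ≃ₗ[A]
      Dual.HD A ((Rco ψ.toRingHom).obj (Dual.inD P (P ⊗[R] N))) ((n : ℤ) + i) :=
    ((DerivedCategory.homologyFunctor (ModuleCat.{u} A) i).mapIso
      (shriekViaSingleIso R A n ψ Rψ adj N)).toLinearEquiv ≪≫ₗ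
      HDShiftLinearEquiv _ (n : ℤ) i
  rcases hi with hi | hi
  · have := subsingleton_HD_Rco_of_fibreDim_le R A n ψ hψ N d hd ((n : ℤ) + i) (by lia)
    exact E.toEquiv.subsingleton
  · have := subsingleton_HD_Rco_of_flat R A n ψ hψ (P ⊗[R] N) ((n : ℤ) + i) (by lia)
    exact E.toEquiv.subsingleton

include hψ in
include adj in
theorem hasTorAmplitudeIn_shriekVia [Module.Flat R A] (d : ℕ)
    (hd : ∀ q : PrimeSpectrum A,
      FlatMor.fibreDimAt (Spec.map (CommRingCat.ofHom (algebraMap R A))) q ≤ (d : WithBot ℕ∞)) :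
    DRing.HasTorAmplitudeIn R (-(d : ℤ)) 0
      ((DRing.restrictD (algebraMap R A)).obj (Dual2.shriekVia n Rψ (Dual.inD R R))) := by
  let φ := algebraMap R A
  let ω := Dual2.shriekVia n Rψ (Dual.inD R R)
  let W : DRing.Cx A := Q.objPreimage ω
  let eW : Q.obj W ≅ ω := Q.objObjPreimageIso ω
  let G := res W
  have hG : KFlat G := isKFlat_of_isKProjective (res W)
  have hq : IsIso (Q.map (resMap W)) := by rw [isIso_Q_map_iff_quasiIso]; infer_instance
  let eG : Q.obj G ≅ Q.obj W := asIso (Q.map (resMap W))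
  let X := (resCx φ).obj G
  have key : ∀ (Z S : DRing.Cx R) (_ : KFlat Z) (π : Z ⟶ S) [QuasiIso π]
      (_ : ∀ q : ℤ, q ≠ 0 → IsZero (S.X q)) (i : ℤ), (i < -(d : ℤ) ∨ 0 < i) →
      IsZero ((X ⊗ Z).homology i) := by
    intro Z S hZ π _ hS i hi
    rw [← isZero_homology_mix_iff φ G Z i]
    refine IsZero.of_iso ?_ ((HomologicalComplex.homologyFunctor _ _ i).mapIso
      (DTen.braidCx G ((extCx φ).obj Z)))
    refine IsZero.of_iso ?_ (homologyQIso _ i).symm
    obtain ⟨e1⟩ := nonempty_LTensorCx_iso_of_rep W G hG eG ((extCx φ).obj Z)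
    obtain ⟨e2⟩ := nonempty_LBaseChange_iso_of_kflat φ Z hZ
    have hπ : IsIso (Q.map π) := by rw [isIso_Q_map_iff_quasiIso]; infer_instance
    haveI : S.IsStrictlyGE 0 := by
      rw [CochainComplex.isStrictlyGE_iff]; exact fun i hi => hS i (by lia)
    haveI : S.IsStrictlyLE 0 := by
      rw [CochainComplex.isStrictlyLE_iff]; exact fun i hi => hS i (by lia)
    obtain ⟨N, ⟨e3⟩⟩ := exists_iso_singleFunctor_obj_of_isGE_of_isLE (Q.obj S) 0
    obtain ⟨e4⟩ := Groth.Agent.S1820.result R A n ψ hψ Rψ adj W ⟨eW⟩ (Dual.inD R N)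
    let e : Q.obj ((extCx φ).obj Z ⊗ G) ≅ Dual2.shriekVia n Rψ (Dual.inD R N) :=
      e1.symm ≪≫ (DRing.LTensorCx A W).mapIso
        (e2.symm ≪≫ (DRing.LBaseChange φ).mapIso (asIso (Q.map π) ≪≫ e3)) ≪≫ e4.symm
    refine IsZero.of_iso ?_ ((DerivedCategory.homologyFunctor _ i).mapIso e)
    rw [isZero_iff_subsingleton]
    exact subsingleton_HD_shriekVia_single R A n ψ hψ Rψ adj N d hd i hi
  have h := hasTorAmplitudeIn_of_key X (-(d : ℤ)) 0 key
  exact hasTorAmplitudeIn_of_iso ((restrictDQIso φ G).symm ≪≫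
    (DRing.restrictD φ).mapIso (eG ≪≫ eW)) h

end

end Groth.Agent.Lib.Helper13.FibReg
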