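import Groth.Agent.S6974
import Groth.Agent.Lib.Helper13.BaseChangeSq
import Groth.Agent.Lib.Helper13.TorAmpLocal
import Groth.Agent.Lib.Helper13.DRingGlDim
import Groth.Agent.Lib.Helper13.DRingRestrict

set_option autoImplicit false
universe u
open CategoryTheory CategoryTheory.Limits TensorProduct

namespace Groth.Agent.Lib.Helper13.FG

open Groth.Agent.Lib.Helper13.DR Groth.Agent.Lib.Helper13.PC Groth.Agent.Lib.Helper13.DV
  Groth.Agent.Lib.Helper13.BS DerivedCategory

attribute [local instance] HasDerivedCategory.standard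
attribute [local instance] Algebra.TensorProduct.rightAlgebra

section L1

variable (R A R' : Type u) [CommRing R] [CommRing A] [Algebra R A] [CommRing R'] [Algebra R R']
  [Module.Flat R A]

/-- Fibre cohomology of a bounded above flat complex over `A` whose restriction to `R` has tor
amplitude in `[a, b]`. -/
theorem isZero_homology_extendCx_fibre (E : DRing.Cx A) (c : ℤ)
    (hEv : ∀ i : ℤ, c < i → IsZero (E.X i)) (hEfl : ∀ i : ℤ, Module.Flat A (E.X i)) (a b : ℤ)
    (htor : DRing.HasTorAmplitudeIn R a b (Q.obj ((DRing.restrictCx (algebraMap R A)).obj E)))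
    (i : ℤ) (hi : i < a ∨ b < i) :
    IsZero (((extendCx A (R' ⊗[R] A)).obj E).homology i) := by
  let P := (DRing.restrictCx (algebraMap R A)).obj E
  have hz : ∀ i : ℤ, c < i → IsZero (P.X i) := fun i hi =>
    Functor.map_isZero (ModuleCat.restrictScalars.{u} (algebraMap R A)) (hEv i hi)
  have hfl : ∀ i : ℤ, Module.Flat R (P.X i) := fun i => by
    have := hEfl i
    exact flat_restrictScalars R A (E.X i)
  have h' := hasTorAmplitudeIn_extendCx R R' P c hz hfl a b htor
  have h1 : IsZero (((extendCx R R').obj P).homology i) :=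
    (isZero_HD_of_hasTorAmplitudeIn h' i hi).of_iso (homologyQIso _ i).symm
  have h2 : IsZero (((DRing.restrictCx (algebraMap R' (R' ⊗[R] A))).obj
      ((extendCx A (R' ⊗[R] A)).obj E)).homology i) :=
    h1.of_iso ((HomologicalComplex.homologyFunctor _ _ i).mapIso (bcCxIso R A R' E).symm)
  apply isZero_of_isZero_restrictScalars (algebraMap R' (R' ⊗[R] A))
  exact h2.of_iso (restrictCxHomologyIso (algebraMap R' (R' ⊗[R] A)) _ i).symm

end L1

section L2

variable {C L : Type u} [CommRing C] [CommRing L] (χ : C →+* L)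

/-- Over a ring of global dimension `≤ d`, base change of a bounded above flat complex with
cohomology in `[a, b]` has cohomology in `[a - d, b]`. -/
theorem isZero_homology_extCx_of_globalDim (d : ℕ)
    (hgl : ∀ M : ModuleCat.{u} C, HasProjectiveDimensionLT M (d + 1))
    (F : DRing.Cx C) (c : ℤ) (hz : ∀ i : ℤ, c < i → IsZero (F.X i))
    (hfl : ∀ i : ℤ, Module.Flat C (F.X i)) (a b : ℤ)
    (hF : ∀ i : ℤ, (i < a ∨ b < i) → IsZero (F.homology i))
    (i : ℤ) (hi : i < a - d ∨ b < i) :
    IsZero (((DTen.extCx χ).obj F).homology i) := by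
  let _ : Algebra C L := χ.toAlgebra
  have hK : ∀ i : ℤ, (i < a ∨ b < i) → Subsingleton (Dual.HD C (Q.obj F) i) := fun i hi =>
    ModuleCat.subsingleton_of_isZero ((hF i hi).of_iso (homologyQIso F i))
  have h1 := hasTorAmplitudeIn_of_hasProjAmp (hasProjAmp_of_globalDim d hgl (Q.obj F) a b hK)
  have h2 := hasTorAmplitudeIn_extendCx C L F c hz hfl (a - d) b h1
  exact (isZero_HD_of_hasTorAmplitudeIn h2 i hi).of_iso (homologyQIso _ i).symm

end L2

section Main

variable {A B : Type u} [CommRing A] [CommRing B] [Algebra A B] [Module.Flat A B]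

theorem isZero_homology_extCx_quotient_of_fibres (d : ℕ)
    (hgl : ∀ (p : PrimeSpectrum A) (M : ModuleCat.{u} (p.asIdeal.ResidueField ⊗[A] B)),
      HasProjectiveDimensionLT M (d + 1))
    (E : DRing.Cx B) (c : ℤ)
    (hEv : ∀ i : ℤ, c < i → IsZero (E.X i)) (hEfl : ∀ i : ℤ, Module.Flat B (E.X i)) (a b : ℤ)
    (htor : DRing.HasTorAmplitudeIn A a b (Q.obj ((DRing.restrictCx (algebraMap A B)).obj E)))
    (m : Ideal B) [hm : m.IsMaximal] (i : ℤ) (hi : i < a - d ∨ b < i) :
    IsZero (((DTen.extCx (Ideal.Quotient.mk m)).obj E).homology i) := by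
  let p : Ideal A := m.comap (algebraMap A B)
  have hp : p.IsPrime := Ideal.comap_isPrime _ _
  let p' : PrimeSpectrum A := ⟨p, hp⟩
  let κ := p.ResidueField
  let C := κ ⊗[A] B
  let _ : Field (B ⧸ m) := Ideal.Quotient.field m
  have hf₁ : p ≤ RingHom.ker (Algebra.ofId A (B ⧸ m)) := fun x hx => by
    rw [RingHom.mem_ker]
    change algebraMap A (B ⧸ m) x = 0
    rw [IsScalarTower.algebraMap_apply A B (B ⧸ m), Ideal.Quotient.algebraMap_eq,
      Ideal.Quotient.eq_zero_iff_mem]
    exact hx
  have hf₂ : p.primeCompl ≤ (IsUnit.submonoid (B ⧸ m)).comap (Algebra.ofId A (B ⧸ m)) :=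
    fun x hx => by
      change IsUnit (algebraMap A (B ⧸ m) x)
      rw [isUnit_iff_ne_zero, IsScalarTower.algebraMap_apply A B (B ⧸ m),
        Ideal.Quotient.algebraMap_eq, Ne, Ideal.Quotient.eq_zero_iff_mem]
      exact hx
  let χ : C →ₐ[A] B ⧸ m := Algebra.TensorProduct.lift
    (Ideal.ResidueField.liftₐ p (Algebra.ofId A (B ⧸ m)) hf₁ hf₂)
    (IsScalarTower.toAlgHom A B (B ⧸ m)) (fun _ _ => Commute.all _ _)
  have hcomp : χ.toRingHom.comp (algebraMap B C) = Ideal.Quotient.mk m := by
    ext x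
    change χ ((1 : κ) ⊗ₜ[A] x) = _
    simp only [χ]
    rw [Algebra.TensorProduct.lift_tmul, map_one, one_mul]
    rfl
  let F := (extendCx B C).obj E
  have hF : ∀ i : ℤ, (i < a ∨ b < i) → IsZero (F.homology i) := fun i hi =>
    isZero_homology_extendCx_fibre A B κ E c hEv hEfl a b htor i hi
  have hFz : ∀ i : ℤ, c < i → IsZero (F.X i) := fun i hi =>
    Functor.map_isZero (ModuleCat.extendScalars.{u, u, u} (algebraMap B C)) (hEv i hi)
  have hFfl : ∀ i : ℤ, Module.Flat C (F.X i) := fun i => Pfl_extendScalars C (hEfl i)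
  have h1 := isZero_homology_extCx_of_globalDim χ.toRingHom d (hgl p') F c hFz hFfl a b hF i hi
  let e2 : (DTen.extCx χ.toRingHom).obj F ≅ (DTen.extCx (Ideal.Quotient.mk m)).obj E :=
    extCxCompIso (algebraMap B C) χ.toRingHom E ≪≫ eqToIso (by rw [hcomp])
  exact h1.of_iso ((HomologicalComplex.homologyFunctor _ _ i).mapIso e2.symm)

end Main

end Groth.Agent.Lib.Helper13.FG
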