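import Groth.Agent.Lib.Helper13.HomBC5
import Groth.Agent.Lib.Helper13.BaseChangeSq2
import Groth.Agent.Lib.Helper13.Shriek3

/-!
# Flat base change for derived coinduction
-/

set_option autoImplicit false
set_option linter.unusedSectionVars false

open CategoryTheory CategoryTheory.Limits CategoryTheory.Functor TensorProduct Pretriangulated

universe u

namespace Groth.Agent.Lib.Helper13.HomBC

open DerivedCategory Groth.Agent.Lib.Helper13.DR Groth.Agent.Lib.Helper13.Coind
  Groth.Agent.Lib.Helper13.Shriek Groth.Agent.Lib.Helper13.DV Groth.Agent.Lib.Helper13.FC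
  Groth.Agent.Lib.Helper13.PC

attribute [local instance] HasDerivedCategory.standard

section Sq

variable (P B P' B' : Type u) [CommRing P] [CommRing B] [Algebra P B] [CommRing P'] [Algebra P P']
  [CommRing B'] [Algebra P B'] [Algebra B B'] [Algebra P' B'] [IsScalarTower P B B']
  [IsScalarTower P P' B'] [Algebra.IsPushout P P' B B'] [Module.Flat P P'] [Module.Flat B B']

/-- The base change isomorphism on complexes, as a natural isomorphism. -/
noncomputable def gammaCx :
    resC (algebraMap P B) ⋙ extendCx P P' ≅ extendCx B B' ⋙ resC (algebraMap P' B') :=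
  Functor.mapHomologicalComplexCompIso (BS.pbcNatIso P B P' B') (ComplexShape.up ℤ) ≪≫
    (Functor.mapHomologicalComplexCompIso (Iso.refl _) (ComplexShape.up ℤ)).symm

/-- The base change isomorphism on derived categories. -/
noncomputable def gamma :
    DRing.restrictD (algebraMap P B) ⋙ flatBC P P' ≅
      flatBC B B' ⋙ DRing.restrictD (algebraMap P' B') :=
  letI : Localization.Lifting (Q : DRing.Cx B ⥤ Dual.D B)
      (HomologicalComplex.quasiIso (ModuleCat.{u} B) (ComplexShape.up ℤ))
      ((resC (algebraMap P B) ⋙ extendCx P P') ⋙ Q)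
      (DRing.restrictD (algebraMap P B) ⋙ flatBC P P') :=
    ⟨(Functor.associator _ _ _).symm ≪≫
      isoWhiskerRight (ModuleCat.restrictScalars.{u} (algebraMap P B)).mapDerivedCategoryFactors
        (flatBC P P') ≪≫
      Functor.associator _ _ _ ≪≫
      isoWhiskerLeft (resC (algebraMap P B))
        (ModuleCat.extendScalars.{u, u, u} (algebraMap P P')).mapDerivedCategoryFactors ≪≫
      (Functor.associator _ _ _).symm⟩
  letI : Localization.Lifting (Q : DRing.Cx B ⥤ Dual.D B)
      (HomologicalComplex.quasiIso (ModuleCat.{u} B) (ComplexShape.up ℤ))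
      ((extendCx B B' ⋙ resC (algebraMap P' B')) ⋙ Q)
      (flatBC B B' ⋙ DRing.restrictD (algebraMap P' B')) :=
    ⟨(Functor.associator _ _ _).symm ≪≫
      isoWhiskerRight (ModuleCat.extendScalars.{u, u, u} (algebraMap B B')).mapDerivedCategoryFactors
        (DRing.restrictD (algebraMap P' B')) ≪≫
      Functor.associator _ _ _ ≪≫
      isoWhiskerLeft (extendCx B B')
        (ModuleCat.restrictScalars.{u} (algebraMap P' B')).mapDerivedCategoryFactors ≪≫
      (Functor.associator _ _ _).symm⟩
  Localization.liftNatIso (Q : DRing.Cx B ⥤ Dual.D B)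
    (HomologicalComplex.quasiIso (ModuleCat.{u} B) (ComplexShape.up ℤ))
    ((resC (algebraMap P B) ⋙ extendCx P P') ⋙ Q)
    ((extendCx B B' ⋙ resC (algebraMap P' B')) ⋙ Q) _ _
    (isoWhiskerRight (gammaCx P B P' B') Q)

/-- The comparison map `B' ⊗_B RHom_P(B, M) → RHom_{P'}(B', P' ⊗_P M)`. -/
noncomputable def alpha (M : Dual.D P) :
    (flatBC B B').obj ((Rco (algebraMap P B)).obj M) ⟶
      (Rco (algebraMap P' B')).obj ((flatBC P P').obj M) :=
  (Coind.adj (algebraMap P' B')).homEquiv _ _
    ((gamma P B P' B').inv.app ((Rco (algebraMap P B)).obj M) ≫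
      (flatBC P P').map ((Coind.adj (algebraMap P B)).counit.app M))

end Sq

section Semi

variable {P B : Type u} [CommRing P] [CommRing B] [Algebra P B]

lemma adj_homEquiv_smul (Y : Dual.D B) (M : Dual.D P) (p : P)
    (g : (DRing.restrictD (algebraMap P B)).obj Y ⟶ M) :
    (Coind.adj (algebraMap P B)).homEquiv Y M (p • g) =
      algebraMap P B p • (Coind.adj (algebraMap P B)).homEquiv Y M g := by
  apply ((Coind.adj (algebraMap P B)).homEquiv Y M).symm.injective
  rw [Equiv.symm_apply_apply, Adjunction.homEquiv_counit, restrictD_map_smul,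
    Linear.smul_comp, ← Adjunction.homEquiv_counit, Equiv.symm_apply_apply]

lemma adj_homEquiv_add (Y : Dual.D B) (M : Dual.D P)
    (g g' : (DRing.restrictD (algebraMap P B)).obj Y ⟶ M) :
    (Coind.adj (algebraMap P B)).homEquiv Y M (g + g') =
      (Coind.adj (algebraMap P B)).homEquiv Y M g + (Coind.adj (algebraMap P B)).homEquiv Y M g' :=
  ((Coind.adj (algebraMap P B)).homAddEquiv Y M).map_add g g'

lemma adj_homEquiv_zero (Y : Dual.D B) (M : Dual.D P) :
    (Coind.adj (algebraMap P B)).homEquiv Y M 0 = 0 :=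
  ((Coind.adj (algebraMap P B)).homAddEquiv Y M).map_zero

end Semi

section Psi

variable (P B P' B' : Type u) [CommRing P] [CommRing B] [Algebra P B] [CommRing P'] [Algebra P P']
  [CommRing B'] [Algebra P B'] [Algebra B B'] [Algebra P' B'] [IsScalarTower P B B']
  [IsScalarTower P P' B'] [Algebra.IsPushout P P' B B'] [Module.Flat P P'] [Module.Flat B B']

lemma algebraMap_comm (p : P) :
    algebraMap P' B' (algebraMap P P' p) = algebraMap B B' (algebraMap P B p) := by
  rw [← IsScalarTower.algebraMap_apply, ← IsScalarTower.algebraMap_apply]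

/-- The auxiliary map `P' ⊗_P Hom_P(res S, M) → Hom_{B'}(B' ⊗ S, B' ⊗ RHom_P(B, M))`. -/
noncomputable def Psi (S : Dual.D B) (M : Dual.D P) :
    P' ⊗[P] ((DRing.restrictD (algebraMap P B)).obj S ⟶ M) →+
      ((flatBC B B').obj S ⟶ (flatBC B B').obj ((Rco (algebraMap P B)).obj M)) :=
  TensorProduct.liftAddHom
    { toFun := fun p' =>
        { toFun := fun g => algebraMap P' B' p' •
            (flatBC B B').map ((Coind.adj (algebraMap P B)).homEquiv S M g)
          map_zero' := by rw [adj_homEquiv_zero, Functor.map_zero, smul_zero]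
          map_add' := fun g g' => by rw [adj_homEquiv_add, Functor.map_add, smul_add] }
      map_zero' := by ext g; simp
      map_add' := fun b b' => by ext g; simp [add_smul] }
    (by
      intro p p' g
      change algebraMap P' B' (p • p') • (flatBC B B').map _ =
        algebraMap P' B' p' • (flatBC B B').map _
      rw [adj_homEquiv_smul, flatBC_map_smul, smul_smul, Algebra.smul_def, map_mul,
        algebraMap_comm P B P' B', mul_comm])

@[simp]
lemma Psi_tmul (S : Dual.D B) (M : Dual.D P) (p' : P')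
    (g : (DRing.restrictD (algebraMap P B)).obj S ⟶ M) :
    Psi P B P' B' S M (p' ⊗ₜ g) = algebraMap P' B' p' •
      (flatBC B B').map ((Coind.adj (algebraMap P B)).homEquiv S M g) := rfl

lemma Psi_smul (S : Dual.D B) (M : Dual.D P) (p' : P')
    (z : P' ⊗[P] ((DRing.restrictD (algebraMap P B)).obj S ⟶ M)) :
    Psi P B P' B' S M (p' • z) = algebraMap P' B' p' • Psi P B P' B' S M z := by
  induction z using TensorProduct.induction_on with
  | zero => rw [smul_zero, map_zero, smul_zero]
  | tmul q g =>
    rw [TensorProduct.smul_tmul', Psi_tmul, Psi_tmul, smul_eq_mul, map_mul, smul_smul]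
  | add x y hx hy => rw [smul_add, _root_.map_add, _root_.map_add, hx, hy, smul_add]

/-- The key identity. -/
lemma Psi_comp_alpha (S : Dual.D B) (M : Dual.D P)
    (z : P' ⊗[P] ((DRing.restrictD (algebraMap P B)).obj S ⟶ M)) :
    Psi P B P' B' S M z ≫ alpha P B P' B' M =
      (Coind.adj (algebraMap P' B')).homEquiv _ _
        ((gamma P B P' B').inv.app S ≫ bcHom P' _ M z) := by
  induction z using TensorProduct.induction_on with
  | zero =>
    rw [map_zero, map_zero, zero_comp, comp_zero, adj_homEquiv_zero]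
  | tmul p' g =>
    rw [Psi_tmul, bcHom_tmul, Linear.smul_comp, Linear.comp_smul, adj_homEquiv_smul]
    congr 1
    rw [alpha, ← Adjunction.homEquiv_naturality_left]
    congr 1
    have nat := (gamma P B P' B').inv.naturality ((Coind.adj (algebraMap P B)).homEquiv S M g)
    dsimp at nat
    rw [← Category.assoc, nat, Category.assoc, ← Functor.map_comp, ← Adjunction.homEquiv_counit,
      Equiv.symm_apply_apply]
  | add x y hx hy =>
    rw [_root_.map_add, _root_.map_add, Preadditive.add_comp, Preadditive.comp_add,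
      adj_homEquiv_add, hx, hy]

/-- Every morphism `B' ⊗ S → B' ⊗ RHom_P(B, M)` (with `S = B[-j]`) is in the image of `Psi`. -/
lemma exists_Psi_eq (j : ℤ) (M : Dual.D P)
    (v : (flatBC B B').obj (Sj B j) ⟶ (flatBC B B').obj ((Rco (algebraMap P B)).obj M)) :
    ∃ z, Psi P B P' B' (Sj B j) M z = v := by
  obtain ⟨y, rfl⟩ := (bijective_bcHom_Sj B' j ((Rco (algebraMap P B)).obj M)).2 v
  induction y using TensorProduct.induction_on with
  | zero => exact ⟨0, by rw [map_zero, map_zero]⟩
  | tmul b' u =>
    rw [bcHom_tmul]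
    revert u
    refine (Algebra.IsPushout.out (R := P) (S := P') (R' := B) (S' := B')).inductionOn b'
      (motive := fun b' => ∀ u : Sj B j ⟶ (Rco (algebraMap P B)).obj M,
        ∃ z, Psi P B P' B' (Sj B j) M z = b' • (flatBC B B').map u) ?_ ?_ ?_ ?_
    · intro u
      exact ⟨0, by rw [map_zero, zero_smul]⟩
    · intro b u
      refine ⟨(1 : P') ⊗ₜ ((Coind.adj (algebraMap P B)).homEquiv _ _).symm (b • u), ?_⟩
      rw [Psi_tmul, Equiv.apply_symm_apply, map_one, one_smul, flatBC_map_smul]
      rfl
    · intro p' b' h u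
      obtain ⟨z, hz⟩ := h u
      refine ⟨p' • z, ?_⟩
      rw [Psi_smul, hz, smul_smul, Algebra.smul_def]
    · intro b₁ b₂ h₁ h₂ u
      obtain ⟨z₁, hz₁⟩ := h₁ u
      obtain ⟨z₂, hz₂⟩ := h₂ u
      exact ⟨z₁ + z₂, by rw [_root_.map_add, hz₁, hz₂, add_smul]⟩
  | add x y hx hy =>
    obtain ⟨z₁, hz₁⟩ := hx
    obtain ⟨z₂, hz₂⟩ := hy
    exact ⟨z₁ + z₂, by rw [_root_.map_add, _root_.map_add, hz₁, hz₂]⟩

variable [IsNoetherianRing P] [Module.Finite P B]

/-- Composition with `alpha` is bijective on morphisms out of `B' ⊗ B[-j]`. -/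
lemma bijective_comp_alpha (j : ℤ) (M : Dual.D P) (c : ℤ) [M.IsGE c] :
    Function.Bijective (fun v : (flatBC B B').obj (Sj B j) ⟶
      (flatBC B B').obj ((Rco (algebraMap P B)).obj M) => v ≫ alpha P B P' B' M) := by
  have hbc := bijective_bcHom P' ((DRing.restrictD (algebraMap P B)).obj (Sj B j))
    (isPseudoCoherent'_res_Sj j) M c
  constructor
  · intro v v' hvv'
    obtain ⟨z, rfl⟩ := exists_Psi_eq P B P' B' j M v
    obtain ⟨z', rfl⟩ := exists_Psi_eq P B P' B' j M v'
    dsimp only at hvv'
    rw [Psi_comp_alpha, Psi_comp_alpha] at hvv'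
    have h1 := ((Coind.adj (algebraMap P' B')).homEquiv _ _).injective hvv'
    have h2 : bcHom P' _ M z = bcHom P' _ M z' := (cancel_epi _).1 h1
    rw [hbc.1 h2]
  · intro v
    obtain ⟨z, hz⟩ := hbc.2 ((gamma P B P' B').hom.app (Sj B j) ≫
      ((Coind.adj (algebraMap P' B')).homEquiv _ _).symm v)
    refine ⟨Psi P B P' B' (Sj B j) M z, ?_⟩
    dsimp only
    rw [Psi_comp_alpha, hz, Iso.inv_hom_id_app_assoc, Equiv.apply_symm_apply]

end Psi

section EvIso

variable {R : Type u} [CommRing R]

/-- For `X ≅ R[-j]` there is a class in `H^j(X)` evaluation at which is bijective. -/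
lemma exists_bijective_evAt {X : Dual.D R} (j : ℤ) (σ : Sj R j ≅ X) :
    ∃ w : (DerivedCategory.homologyFunctor (ModuleCat.{u} R) j).obj X,
      ∀ Z : Dual.D R, Function.Bijective (evAt j w Z) := by
  refine ⟨evH j X σ.hom, fun Z => bijective_evAt j σ _ ?_ Z⟩
  intro x
  obtain ⟨r, hr⟩ := genH_generates j
    (((DerivedCategory.homologyFunctor (ModuleCat.{u} R) j).map σ.inv).hom x)
  refine ⟨r, ?_⟩
  have h1 : x = ((DerivedCategory.homologyFunctor (ModuleCat.{u} R) j).map σ.hom).hom
      (((DerivedCategory.homologyFunctor (ModuleCat.{u} R) j).map σ.inv).hom x) := by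
    rw [← ModuleCat.comp_apply, ← Functor.map_comp, Iso.inv_hom_id,
      CategoryTheory.Functor.map_id]
    rfl
  rw [h1, hr, _root_.map_smul]
  rfl

/-- A morphism inducing bijections on `Hom(X_j, -)` with `X_j ≅ R[-j]` for all `j` is an
isomorphism. -/
lemma isIso_of_bijective_comp {Z Z' : Dual.D R} (a : Z ⟶ Z') (X : ℤ → Dual.D R)
    (σ : ∀ j, Sj R j ≅ X j)
    (h : ∀ j, Function.Bijective (fun v : X j ⟶ Z => v ≫ a)) : IsIso a := by
  rw [DerivedCategory.isIso_iff]
  intro j
  obtain ⟨w, hw⟩ := exists_bijective_evAt j (σ j)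
  rw [ConcreteCategory.isIso_iff_bijective]
  have hcomm : ∀ v : X j ⟶ Z,
      ((DerivedCategory.homologyFunctor (ModuleCat.{u} R) j).map a).hom (evAt j w Z v) =
        evAt j w Z' (v ≫ a) := by
    intro v
    rw [evAt_apply, evAt_apply, Functor.map_comp]
    rfl
  have h1 : Function.Bijective
      (fun v : X j ⟶ Z => ((DerivedCategory.homologyFunctor (ModuleCat.{u} R) j).map a).hom
        (evAt j w Z v)) := by
    have : (fun v : X j ⟶ Z => ((DerivedCategory.homologyFunctor (ModuleCat.{u} R) j).map a).hom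
        (evAt j w Z v)) = (evAt j w Z') ∘ (fun v : X j ⟶ Z => v ≫ a) := funext hcomm
    rw [this]
    exact (hw Z').comp (h j)
  exact (Function.Bijective.of_comp_iff _ (hw Z)).1 h1

end EvIso

section Main

variable (P B P' B' : Type u) [CommRing P] [CommRing B] [Algebra P B] [CommRing P'] [Algebra P P']
  [CommRing B'] [Algebra P B'] [Algebra B B'] [Algebra P' B'] [IsScalarTower P B B']
  [IsScalarTower P P' B'] [Algebra.IsPushout P P' B B'] [Module.Flat P P'] [Module.Flat B B']
  [IsNoetherianRing P] [Module.Finite P B]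

/-- **Flat base change for derived coinduction**. -/
theorem isIso_alpha (M : Dual.D P) (c : ℤ) [M.IsGE c] : IsIso (alpha P B P' B' M) :=
  isIso_of_bijective_comp _ (fun j => (flatBC B B').obj (Sj B j)) (fun j => flatBCSjIso B' j)
    (fun j => bijective_comp_alpha P B P' B' j M c)

/-- Flat base change for derived coinduction, in terms of derived base change. -/
theorem nonempty_LBaseChange_Rco_iso (M : Dual.D P) (c : ℤ) [M.IsGE c] :
    Nonempty ((DRing.LBaseChange (algebraMap B B')).obj ((Rco (algebraMap P B)).obj M) ≅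
      (Rco (algebraMap P' B')).obj ((DRing.LBaseChange (algebraMap P P')).obj M)) := by
  have := isIso_alpha P B P' B' M c
  exact ⟨(LBaseChangeFlatIso B B').app _ ≪≫ asIso (alpha P B P' B' M) ≪≫
    (Rco (algebraMap P' B')).mapIso ((LBaseChangeFlatIso P P').app M).symm⟩

end Main

end Groth.Agent.Lib.Helper13.HomBC
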