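import Groth.Agent.Lib.Helper13.BD5
import Groth.Agent.Lib.Helper13.DualBC14
import Groth.Agent.Lib.Helper13.HomBC6
import Groth.Agent.Lib.Helper25.CoextHull

/-!
# `Hom_{D(A)}(N, ω) ≅ Hom_A(N, E)` for modules over a finite local Artinian `A`-algebra
-/

set_option autoImplicit false
set_option linter.unusedSectionVars false
set_option linter.style.haveILetI false

open CategoryTheory CategoryTheory.Limits Pretriangulated

universe u

namespace Groth.Agent.Lib.Helper13.FLD

open DerivedCategory Groth.Agent.Lib.Helper13.Coind Groth.Agent.Lib.Helper13.PC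
  Groth.Agent.Lib.Helper13.DR Groth.Agent.Lib.Helper13.Shriek Groth.Agent.Lib.Helper13.DualBC
  Groth.Agent.Lib.Helper13.FC Groth.Agent.Lib.Helper13.BD Groth.Agent.Lib.Helper13.HomBC
  Groth.Agent.Lib.Helper25

attribute [local instance] HasDerivedCategory.standard

section

variable (A B : Type u) [CommRing A] [CommRing B] [Algebra A B] [IsLocalRing A]
  [IsNoetherianRing A] [IsLocalRing B] [IsArtinianRing B] [Module.Finite A B]

/-- `RHom_A(B, ω)` is normalized. -/
lemma isNormalized_Rco (hB : IsFiniteLength A B) (ω : Dual.D A) (hn : Dual.IsNormalized A ω) :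
    Dual.IsNormalized B ((Rco (algebraMap A B)).obj ω) := by
  intro i hi
  let NA : ModuleCat.{u} A := (ModuleCat.restrictScalars.{u} (algebraMap A B)).obj
    (ModuleCat.of B (IsLocalRing.ResidueField B))
  have hfl : IsFiniteLength A NA := by
    rw [isFiniteLength_iff_isNoetherian_isArtinian] at hB ⊢
    obtain ⟨h1, h2⟩ := hB
    let π : B →ₗ[A] NA :=
      { toFun := fun b => (IsLocalRing.residue B b : IsLocalRing.ResidueField B)
        map_add' := fun x y => map_add _ x y
        map_smul' := fun a x => by
          change IsLocalRing.residue B (a • x) = (algebraMap A B a) • IsLocalRing.residue B x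
          rw [Algebra.smul_def, map_mul]
          rfl }
    have hπ : Function.Surjective π := IsLocalRing.residue_surjective
    exact ⟨isNoetherian_of_surjective π (LinearMap.range_eq_top.2 hπ),
      isArtinian_of_surjective _ π hπ⟩
  have h := subsingleton_hom_of_isFiniteLength (ω⟦i⟧) (fun m hm => by
    rw [IsLocalRing.eq_maximalIdeal hm]
    exact hn i hi) NA hfl
  let e1 : (Dual.inD B (IsLocalRing.ResidueField B) ⟶ ((Rco (algebraMap A B)).obj ω)⟦i⟧) ≃
      (Dual.inD B (IsLocalRing.ResidueField B) ⟶ (Rco (algebraMap A B)).obj (ω⟦i⟧)) :=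
    Iso.homCongr (Iso.refl _) (RcoShift (algebraMap A B) i ω).symm
  let e2 := ((Coind.adj (algebraMap A B)).homEquiv
    (Dual.inD B (IsLocalRing.ResidueField B)) (ω⟦i⟧)).symm
  let e3 : ((DRing.restrictD (algebraMap A B)).obj (Dual.inD B (IsLocalRing.ResidueField B)) ⟶
        ω⟦i⟧) ≃ (Dual.inD A NA ⟶ ω⟦i⟧) :=
    Iso.homCongr (((ModuleCat.restrictScalars.{u}
      (algebraMap A B)).mapDerivedCategorySingleFunctor 0).app
        (ModuleCat.of B (IsLocalRing.ResidueField B))) (Iso.refl _)
  exact ((e1.trans e2).trans e3).subsingleton

/-- `Hom_B(N, Hom_A(B, E)) = Hom_A(N, E)`. -/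
noncomputable def coextHomEquiv (E : Type u) [AddCommGroup E] [Module A E]
    (N : Type u) [AddCommGroup N] [Module A N] [Module B N] [IsScalarTower A B N] :
    (N →ₗ[B] ((ModuleCat.coextendScalars (algebraMap A B)).obj (ModuleCat.of A E))) ≃+
      (N →ₗ[A] E) where
  toFun φ :=
    { toFun := fun n => coextToHom (φ n) 1
      map_add' := fun x y => by rw [map_add]; rfl
      map_smul' := fun a x => by
        rw [← algebraMap_smul B a x, map_smul, coextToHom_smul, one_mul, RingHom.id_apply,
          Algebra.algebraMap_eq_smul_one, map_smul] }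
  invFun ψ :=
    { toFun := fun n => coextOfHom
        { toFun := fun b => ψ (b • n)
          map_add' := fun b b' => by rw [add_smul, map_add]
          map_smul' := fun a b => by rw [smul_assoc, map_smul, RingHom.id_apply] }
      map_add' := fun x y => by
        apply coextToHom_injective
        apply LinearMap.ext
        intro b
        change ψ (b • (x + y)) = ψ (b • x) + ψ (b • y)
        rw [smul_add, map_add]
      map_smul' := fun b' x => by
        apply coextToHom_injective
        apply LinearMap.ext
        intro b
        rw [RingHom.id_apply, coextToHom_smul]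
        change ψ (b • b' • x) = ψ ((b * b') • x)
        rw [mul_smul] }
  left_inv φ := by
    apply LinearMap.ext
    intro n
    apply coextToHom_injective
    apply LinearMap.ext
    intro b
    change coextToHom (φ (b • n)) 1 = coextToHom (φ n) b
    rw [map_smul, coextToHom_smul, one_mul]
  right_inv ψ := by
    apply LinearMap.ext
    intro n
    change ψ ((1 : B) • n) = ψ n
    rw [one_smul]
  map_add' φ φ' := by
    apply LinearMap.ext
    intro n
    rfl

lemma coextHomEquiv_smul (E : Type u) [AddCommGroup E] [Module A E]
    (N : Type u) [AddCommGroup N] [Module A N] [Module B N] [IsScalarTower A B N] (a : A)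
    (φ : N →ₗ[B] ((ModuleCat.coextendScalars (algebraMap A B)).obj (ModuleCat.of A E))) :
    coextHomEquiv A B E N (algebraMap A B a • φ) = a • coextHomEquiv A B E N φ := by
  apply LinearMap.ext
  intro n
  change coextToHom ((algebraMap A B a • φ) n) 1 = a • coextToHom (φ n) 1
  rw [LinearMap.smul_apply, coextToHom_smul, one_mul, Algebra.algebraMap_eq_smul_one, map_smul]

end

end Groth.Agent.Lib.Helper13.FLD
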