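import Groth.Agent.Lib.Helper13.FinLenDual1

/-!
# `Hom_{D(A)}(N, ω) ≅ Hom_A(N, E)` for modules over a finite local Artinian `A`-algebra
-/

set_option autoImplicit false
set_option linter.unusedSectionVars false
set_option linter.style.haveILetI false

open CategoryTheory CategoryTheory.Limits Pretriangulated

universe u

namespace Groth.Agent.Lib.Helper13.FLD

open DerivedCategory Groth.Agent.Lib.Helper13.Coind Groth.Agent.Lib.Helper13.PC
  Groth.Agent.Lib.Helper13.DR Groth.Agent.Lib.Helper13.Shriek Groth.Agent.Lib.Helper13.DualBC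
  Groth.Agent.Lib.Helper13.FC Groth.Agent.Lib.Helper13.BD Groth.Agent.Lib.Helper13.HomBC
  Groth.Agent.Lib.Helper25

attribute [local instance] HasDerivedCategory.standard

section

variable (A B : Type u) [CommRing A] [CommRing B] [Algebra A B] [IsLocalRing A]
  [IsNoetherianRing A] [IsLocalRing B] [IsArtinianRing B] [Module.Finite A B]

theorem nonempty_hom_linearEquiv (hB : IsFiniteLength A B) (ω : Dual.D A)
    (hω : Dual.IsDualizing A ω) (hn : Dual.IsNormalized A ω)
    (E : Type u) [AddCommGroup E] [Module A E] (f : IsLocalRing.ResidueField A →ₗ[A] E)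
    (hf : InjHull.IsInjectiveHull f)
    (N : Type u) [AddCommGroup N] [Module A N] [Module B N] [IsScalarTower A B N] :
    Nonempty ((Dual.inD A N ⟶ ω) ≃ₗ[A] (N →ₗ[A] E)) := by
  let ωB := (Rco (algebraMap A B)).obj ω
  have hωB : Dual.IsDualizing B ωB := isDualizing_Rco A B ω hω
  have hnB : Dual.IsNormalized B ωB := isNormalized_Rco A B hB ω hn
  obtain ⟨g, hg⟩ := exists_hull_coext (B := B) f hf
  let EB : ModuleCat.{u} B := (ModuleCat.coextendScalars (algebraMap A B)).obj (ModuleCat.of A E)
  obtain ⟨ι⟩ := iso_inD_hull_of_artinian B ωB hωB hnB EB g hg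
  -- the comparison `res (N[0]) ≅ N[0]`
  let eN : ((ModuleCat.restrictScalars.{u} (algebraMap A B)).obj (ModuleCat.of B N)) ≃ₗ[A] N :=
    { toFun := fun x => x
      invFun := fun x => x
      left_inv := fun _ => rfl
      right_inv := fun _ => rfl
      map_add' := fun _ _ => rfl
      map_smul' := fun a x => algebraMap_smul B a (show N from x) }
  let r : (DRing.restrictD (algebraMap A B)).obj (Dual.inD B N) ≅ Dual.inD A N :=
    ((ModuleCat.restrictScalars.{u} (algebraMap A B)).mapDerivedCategorySingleFunctor 0).app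
      (ModuleCat.of B N) ≪≫
    (DerivedCategory.singleFunctor (ModuleCat.{u} A) 0).mapIso eN.toModuleIso
  let SF := DerivedCategory.singleFunctor (ModuleCat.{u} B) 0
  -- the forward map
  let Φ : (Dual.inD A N ⟶ ω) → (N →ₗ[A] E) := fun x =>
    coextHomEquiv A B E N
      (SF.preimage (((Coind.adj (algebraMap A B)).homEquiv (Dual.inD B N) ω (r.hom ≫ x)) ≫
        ι.hom : SF.obj (ModuleCat.of B N) ⟶ SF.obj EB)).hom
  have hadd : ∀ x y, Φ (x + y) = Φ x + Φ y := by
    intro x y
    change coextHomEquiv A B E N _ = coextHomEquiv A B E N _ + coextHomEquiv A B E N _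
    rw [← map_add]
    congr 1
    rw [Preadditive.comp_add, adj_homEquiv_add, Preadditive.add_comp]
    have : SF.preimage (((Coind.adj (algebraMap A B)).homEquiv (Dual.inD B N) ω (r.hom ≫ x)) ≫
        ι.hom + ((Coind.adj (algebraMap A B)).homEquiv (Dual.inD B N) ω (r.hom ≫ y)) ≫
        ι.hom : SF.obj (ModuleCat.of B N) ⟶ SF.obj EB) =
        SF.preimage (((Coind.adj (algebraMap A B)).homEquiv (Dual.inD B N) ω (r.hom ≫ x)) ≫
          ι.hom : SF.obj (ModuleCat.of B N) ⟶ SF.obj EB) +
        SF.preimage (((Coind.adj (algebraMap A B)).homEquiv (Dual.inD B N) ω (r.hom ≫ y)) ≫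
          ι.hom : SF.obj (ModuleCat.of B N) ⟶ SF.obj EB) := by
      apply SF.map_injective
      rw [Functor.map_add, Functor.map_preimage, Functor.map_preimage, Functor.map_preimage]
    rw [this]
    rfl
  have hsmul : ∀ (a : A) x, Φ (a • x) = a • Φ x := by
    intro a x
    change coextHomEquiv A B E N _ = a • coextHomEquiv A B E N _
    rw [← coextHomEquiv_smul]
    congr 1
    rw [Linear.comp_smul, adj_homEquiv_smul, Linear.smul_comp]
    have : SF.preimage (algebraMap A B a •
        (((Coind.adj (algebraMap A B)).homEquiv (Dual.inD B N) ω (r.hom ≫ x)) ≫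
        ι.hom) : SF.obj (ModuleCat.of B N) ⟶ SF.obj EB) =
        algebraMap A B a •
        SF.preimage (((Coind.adj (algebraMap A B)).homEquiv (Dual.inD B N) ω (r.hom ≫ x)) ≫
          ι.hom : SF.obj (ModuleCat.of B N) ⟶ SF.obj EB) := by
      apply SF.map_injective
      rw [Functor.map_smul, Functor.map_preimage, Functor.map_preimage]
    rw [this]
    rfl
  have hbij : Function.Bijective Φ := by
    have h1 : Function.Bijective (fun x : Dual.inD A N ⟶ ω => r.hom ≫ x) :=
      ⟨fun x y h => (cancel_epi r.hom).1 h, fun y => ⟨r.inv ≫ y, by simp⟩⟩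
    have h2 := ((Coind.adj (algebraMap A B)).homEquiv (Dual.inD B N) ω).bijective
    have h3 : Function.Bijective (fun y : Dual.inD B N ⟶ ωB => y ≫ ι.hom) := by
      constructor
      · intro x y h
        exact (cancel_mono ι.hom).1 h
      · intro y
        exact ⟨y ≫ ι.inv, by simp⟩
    have h4 : Function.Bijective (fun z : SF.obj (ModuleCat.of B N) ⟶ SF.obj EB =>
        SF.preimage z) := by
      constructor
      · intro x y h
        have := congrArg SF.map h
        simpa using this
      · intro y
        exact ⟨SF.map y, by simp⟩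
    have h5 : Function.Bijective (fun φ : ModuleCat.of B N ⟶ EB => φ.hom) :=
      ⟨fun x y h => ModuleCat.hom_ext h, fun y => ⟨ModuleCat.ofHom y, rfl⟩⟩
    have h6 := (coextHomEquiv A B E N).bijective
    exact h6.comp (h5.comp (h4.comp (h3.comp (h2.comp h1))))
  exact ⟨LinearEquiv.ofBijective
    { toFun := Φ
      map_add' := hadd
      map_smul' := hsmul } hbij⟩

end

end Groth.Agent.Lib.Helper13.FLD
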