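import Mathlib.AlgebraicGeometry.Morphisms.RingHomProperties
import Mathlib.AlgebraicGeometry.Morphisms.Flat

set_option autoImplicit false
universe u
open CategoryTheory CategoryTheory.Limits TensorProduct AlgebraicGeometry Opposite

namespace Groth.Agent.Lib.Helper13.PM

/-- `Q` is stable under flat base change. -/
def StableUnderFlatBaseChange
    (Q : ∀ {R S : Type u} [CommRing R] [CommRing S], (R →+* S) → Prop) : Prop :=
  ∀ (R S R' S' : Type u) [CommRing R] [CommRing S] [CommRing R'] [CommRing S']
    [Algebra R S] [Algebra R R'] [Algebra R S'] [Algebra S S'] [Algebra R' S']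
    [IsScalarTower R S S'] [IsScalarTower R R' S'] [Algebra.IsPushout R S R' S'],
    Module.Flat R R' → Q (algebraMap R S) → Q (algebraMap R' S')

variable {Q : ∀ {R S : Type u} [CommRing R] [CommRing S], (R →+* S) → Prop}

attribute [local instance] Algebra.TensorProduct.rightAlgebra

set_option backward.isDefEq.respectTransparency false in
theorem pushout_inl_of_flat (hQ : StableUnderFlatBaseChange Q) (hQ' : RingHom.RespectsIso Q)
    {R S T : CommRingCat.{u}} (f : R ⟶ S) (g : R ⟶ T) (hf : f.hom.Flat) (H : Q g.hom) :
    Q (pushout.inl f g).hom := by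
  let := f.hom.toAlgebra
  let := g.hom.toAlgebra
  rw [← show _ = pushout.inl f g from
      colimit.isoColimitCocone_ι_inv ⟨_, CommRingCat.pushoutCoconeIsColimit R S T⟩ WalkingSpan.left,
    CommRingCat.hom_comp, hQ'.cancel_right_isIso]
  dsimp only [CommRingCat.pushoutCocone_inl, PushoutCocone.ι_app_left]
  exact hQ R T S (S ⊗[R] T) hf H

set_option backward.defeqAttrib.useBackward true in
set_option backward.isDefEq.respectTransparency false in
theorem pullback_fst_appTop_of_flat (hQ : StableUnderFlatBaseChange Q)
    (hQ' : RingHom.RespectsIso Q)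
    {X Y S : Scheme.{u}} [IsAffine X] [IsAffine Y] [IsAffine S] (f : X ⟶ S) (g : Y ⟶ S)
    (hf : f.appTop.hom.Flat) (H : Q g.appTop.hom) : Q (pullback.fst f g).appTop.hom := by
  erw [← PreservesPullback.iso_inv_fst AffineScheme.forgetToScheme (AffineScheme.ofHom f)
      (AffineScheme.ofHom g)]
  rw [Scheme.Hom.comp_appTop, CommRingCat.hom_comp, hQ'.cancel_right_isIso,
    AffineScheme.forgetToScheme_map]
  have := congr_arg Quiver.Hom.unop
      (PreservesPullback.iso_hom_fst AffineScheme.Γ.rightOp (AffineScheme.ofHom f)
        (AffineScheme.ofHom g))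
  simp only [AffineScheme.Γ, Functor.rightOp_obj, Functor.comp_obj, Functor.op_obj, unop_comp,
    AffineScheme.forgetToScheme_obj, Scheme.Γ_obj, Functor.rightOp_map, Functor.comp_map,
    Functor.op_map, Quiver.Hom.unop_op, AffineScheme.forgetToScheme_map, Scheme.Γ_map] at this
  rw [← this, CommRingCat.hom_comp, hQ'.cancel_right_isIso, ← pushoutIsoUnopPullback_inl_hom,
    CommRingCat.hom_comp, hQ'.cancel_right_isIso]
  exact pushout_inl_of_flat hQ hQ' _ _ hf H

variable {P : MorphismProperty Scheme.{u}} [HasRingHomProperty P Q]

set_option backward.isDefEq.respectTransparency false in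
theorem pullback_fst_of_flat (hQ : StableUnderFlatBaseChange Q) {X Y S : Scheme.{u}} (f : X ⟶ S)
    (g : Y ⟶ S) [Flat f] (H : P g) : P (pullback.fst f g) := by
  have hQ' : RingHom.RespectsIso Q := (HasRingHomProperty.isLocal_ringHomProperty P).respectsIso
  -- Step 1: reduce to `S` affine
  wlog hS : IsAffine S generalizing X Y S
  · rw [IsZariskiLocalAtTarget.iff_of_openCover (P := P) (S.affineCover.pullback₁ f)]
    intro i
    let e : pullback (pullback.fst f g) ((S.affineCover.pullback₁ f).f i) ≅ _ := by
      refine pullbackSymmetry _ _ ≪≫ pullbackRightPullbackFstIso f g _ ≪≫ ?_ ≪≫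
        (pullbackRightPullbackFstIso (S.affineCover.f i) g
          (pullback.snd f (S.affineCover.f i))).symm
      exact asIso
        (pullback.map _ _ _ _ (𝟙 _) (𝟙 _) (𝟙 _) (by simpa using! pullback.condition) (by simp))
    have he : e.hom ≫ pullback.fst _ _ =
        pullback.snd (pullback.fst f g) ((S.affineCover.pullback₁ f).f i) := by
      simp [e]
    change P (pullback.snd _ _)
    rw [← he, P.cancel_left_of_respectsIso]
    exact this (pullback.snd f (S.affineCover.f i)) (pullback.fst (S.affineCover.f i) g)
      (IsZariskiLocalAtTarget.of_isPullback (IsPullback.of_hasPullback _ _).flip H) inferInstance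
  -- Step 2: reduce to `X` affine
  wlog hX : IsAffine X generalizing X
  · rw [IsZariskiLocalAtTarget.iff_of_openCover (P := P) X.affineCover]
    intro i
    let e := pullbackSymmetry _ _ ≪≫ pullbackRightPullbackFstIso f g (X.affineCover.f i)
    have he : e.hom ≫ pullback.fst _ _ = X.affineCover.pullbackHom (pullback.fst _ _) i := by
      simp [e, Scheme.Cover.pullbackHom]
    rw [← he, P.cancel_left_of_respectsIso]
    exact this (X.affineCover.f i ≫ f) inferInstance
  -- Step 3: reduce to `Y` affine
  wlog hY : IsAffine Y generalizing Y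
  · rw [IsZariskiLocalAtSource.iff_of_openCover (P := P)
      (Scheme.Pullback.openCoverOfRight Y.affineCover f g)]
    intro i
    simp only [Scheme.Pullback.openCoverOfRight_f, limit.lift_π, PullbackCone.mk_π_app,
      Category.comp_id]
    exact this _ (HasRingHomProperty.comp_of_isOpenImmersion _ _ _ H) inferInstance
  rw [HasRingHomProperty.iff_of_isAffine (P := P)] at H ⊢
  exact pullback_fst_appTop_of_flat hQ hQ' f g
    (HasRingHomProperty.appTop (P := @Flat) f inferInstance) H

end Groth.Agent.Lib.Helper13.PM
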