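import Groth.Agent.Lib.Helper13.PCMor1
import Mathlib.RingTheory.RingHom.FiniteType
import Mathlib.RingTheory.RingHom.FinitePresentation
import Mathlib.RingTheory.LocalProperties.Basic

set_option autoImplicit false
universe u
open CategoryTheory CategoryTheory.Limits TensorProduct

namespace Groth.Agent.Lib.Helper13.PM

open Groth.Agent.Lib.Helper13.DR

attribute [local instance] HasDerivedCategory.standard

/-- Pseudo-coherence as a property of ring homomorphisms. -/
def QPC : ∀ {R S : Type u} [CommRing R] [CommRing S], (R →+* S) → Prop :=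
  fun {R S} _ _ f => @MoreMor.IsPseudoCoherentHom R S _ _ f.toAlgebra

lemma qpc_iff_of_algebraMap_eq {R S : Type u} [CommRing R] [CommRing S] [Algebra R S] (f : R →+* S)
    (hf : ∀ x, f x = algebraMap R S x) : QPC f ↔ MoreMor.IsPseudoCoherentHom R S := by
  have : f.toAlgebra = ‹Algebra R S› := Algebra.algebra_ext _ _ (fun r => hf r)
  unfold QPC
  rw [this]

lemma qpc_algebraMap_iff {R S : Type u} [CommRing R] [CommRing S] [Algebra R S] :
    QPC (algebraMap R S) ↔ MoreMor.IsPseudoCoherentHom R S :=
  qpc_iff_of_algebraMap_eq _ (fun _ => rfl)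

lemma qpc_finiteType {R S : Type u} [CommRing R] [CommRing S] (f : R →+* S) (h : QPC f) :
    f.FiniteType := by
  letI := f.toAlgebra
  have : Algebra.FinitePresentation R S := finitePresentation_of_isPseudoCoherentHom R S h
  exact (inferInstance : Algebra.FiniteType R S)

lemma qpc_finitePresentation {R S : Type u} [CommRing R] [CommRing S] (f : R →+* S) (h : QPC f) :
    f.FinitePresentation := by
  letI := f.toAlgebra
  exact finitePresentation_of_isPseudoCoherentHom R S h

lemma qpc_stableUnderComposition : RingHom.StableUnderComposition QPC := by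
  intro R S T _ _ _ f g hf hg
  letI := f.toAlgebra
  letI := g.toAlgebra
  letI := (g.comp f).toAlgebra
  haveI : IsScalarTower R S T := IsScalarTower.of_algebraMap_eq (fun x => rfl)
  exact isPseudoCoherentHom_trans R S T hf hg

lemma qpc_of_ringEquiv {R S : Type u} [CommRing R] [CommRing S] (e : R ≃+* S) :
    QPC e.toRingHom := by
  letI := e.toRingHom.toAlgebra
  exact isPseudoCoherentHom_of_bijective R S e.bijective

lemma qpc_respectsIso : RingHom.RespectsIso QPC :=
  qpc_stableUnderComposition.respectsIso qpc_of_ringEquiv

lemma qpc_holdsForLocalizationAway : RingHom.HoldsForLocalizationAway QPC := by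
  intro R S _ _ _ r _
  have h0 : MoreMor.IsPseudoCoherentHom R R :=
    isPseudoCoherentHom_of_bijective R R Function.bijective_id
  have h1 : MoreMor.IsPseudoCoherentHom R (Localization.Away r) :=
    isPseudoCoherentHom_away R R r h0
  let e : Localization.Away r ≃ₐ[R] S := IsLocalization.algEquiv (Submonoid.powers r) _ _
  have h2 : QPC ((e.toRingEquiv.toRingHom).comp (algebraMap R (Localization.Away r))) :=
    qpc_stableUnderComposition _ _ (qpc_algebraMap_iff.2 h1) (qpc_of_ringEquiv e.toRingEquiv)
  have : (e.toRingEquiv.toRingHom).comp (algebraMap R (Localization.Away r)) = algebraMap R S :=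
    RingHom.ext (fun x => e.commutes x)
  rwa [this] at h2

lemma qpc_stableUnderCompositionWithLocalizationAway :
    RingHom.StableUnderCompositionWithLocalizationAway QPC :=
  qpc_stableUnderComposition.stableUnderCompositionWithLocalizationAway qpc_holdsForLocalizationAway

lemma qpc_ofLocalizationSpanTarget : RingHom.OfLocalizationSpanTarget QPC := by
  rw [RingHom.ofLocalizationSpanTarget_iff_finite]
  intro R S _ _ f s hs h
  have hft : f.FiniteType :=
    RingHom.finiteType_ofLocalizationSpanTarget f (s : Set S) hs (fun r => qpc_finiteType _ (h r))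
  letI := f.toAlgebra
  haveI : Algebra.FiniteType R S := hft
  let g : Fin s.card → S := fun i => (s.equivFin.symm i : S)
  have hg : Set.range g = (s : Set S) := by
    ext x
    constructor
    · rintro ⟨i, rfl⟩
      exact (s.equivFin.symm i).2
    · intro hx
      exact ⟨s.equivFin ⟨x, hx⟩, by simp [g]⟩
  refine isPseudoCoherentHom_of_away_span R S g (hg ▸ hs) (fun i => ?_)
  have hi := h ⟨g i, (s.equivFin.symm i).2⟩
  exact (qpc_iff_of_algebraMap_eq _ (fun x => by
    rw [IsScalarTower.algebraMap_apply R S (Localization.Away (g i))]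
    rfl)).1 hi

lemma qpc_localizationAwayPreserves : RingHom.LocalizationAwayPreserves QPC := by
  intro R S _ _ f r R' S' _ _ _ _ _ _ hf
  letI := f.toAlgebra
  letI : Algebra R' S' := (IsLocalization.Away.map R' S' f r).toAlgebra
  letI : Algebra R S' := ((algebraMap S S').comp f).toAlgebra
  haveI : IsScalarTower R S S' := IsScalarTower.of_algebraMap_eq (fun x => rfl)
  haveI : IsScalarTower R R' S' := IsScalarTower.of_algebraMap_eq (fun x => by
    change algebraMap S S' (f x) = IsLocalization.Away.map R' S' f r (algebraMap R R' x)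
    rw [IsLocalization.Away.map, IsLocalization.map_eq])
  have h1 : MoreMor.IsPseudoCoherentHom R R' :=
    qpc_algebraMap_iff.1 (qpc_holdsForLocalizationAway R' r)
  have h2 : MoreMor.IsPseudoCoherentHom S S' :=
    qpc_algebraMap_iff.1 (qpc_holdsForLocalizationAway S' (f r))
  have h3 : MoreMor.IsPseudoCoherentHom R S' := isPseudoCoherentHom_trans R S S' hf h2
  exact isPseudoCoherentHom_of_trans R R' S' h1 h3

theorem qpc_isLocal : RingHom.PropertyIsLocal QPC :=
  ⟨qpc_localizationAwayPreserves, qpc_ofLocalizationSpanTarget,
    qpc_ofLocalizationSpanTarget.ofLocalizationSpan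
      qpc_stableUnderCompositionWithLocalizationAway.left,
    qpc_stableUnderCompositionWithLocalizationAway.right⟩

end Groth.Agent.Lib.Helper13.PM
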