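import Groth.Agent.Lib.Helper13.TorAmpLocal
import Groth.Agent.Lib.Helper13.DRingDescent2

set_option autoImplicit false
universe u
open CategoryTheory CategoryTheory.Limits MonoidalCategory Pretriangulated Opposite

namespace Groth.Agent.Lib.Helper13.DV

open DTen Groth.Agent.Lib.Helper13.SF Groth.Agent.Lib.Helper13.DT Groth.Agent.Lib.Helper13.DR
  Groth.Agent.Lib.Helper13.HT Groth.Agent.Lib.Helper13.RE Groth.Agent.Lib.Helper13.PC

attribute [local instance] HasDerivedCategory.standard

variable (A B : Type u) [CommRing A] [CommRing B] [Algebra A B]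

/-- Tor amplitude over `A` of a complex of `B`-modules is local for principal covers of `B`. -/
theorem hasTorAmplitudeIn_restrict_of_away_span (K : DRing.Cx B) (a b : ℤ) {r : ℕ} (g : Fin r → B)
    (hg : Ideal.span (Set.range g) = ⊤)
    (h3 : ∀ j, DRing.HasTorAmplitudeIn A a b
      (DRing.toD ((DRing.restrictCx ((algebraMap B (Localization.Away (g j))).comp
        (algebraMap A B))).obj
        (((ModuleCat.extendScalars (algebraMap B (Localization.Away (g j)))).mapHomologicalComplex
          (ComplexShape.up ℤ)).obj K)))) :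
    DRing.HasTorAmplitudeIn A a b (DRing.toD ((DRing.restrictCx (algebraMap A B)).obj K)) := by
  refine hasTorAmplitudeIn_of_key _ a b (fun Z S hZ π _ hS i hi => ?_)
  let φ : A →+* B := algebraMap A B
  show IsZero (((resCx φ).obj K ⊗ Z).homology i)
  rw [← isZero_homology_mix_iff φ K Z i]
  apply jointlyFaithful_of_span_eq_top g hg
  intro j
  let Bj := Localization.Away (g j)
  let lB : B →+* Bj := algebraMap B Bj
  let φ' : A →+* Bj := lB.comp φ
  let W : DRing.Cx B := K ⊗ (extCx φ).obj Z
  refine IsZero.of_iso ?_ (extendCxHomologyIso B Bj W i).symm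
  let Kj : DRing.Cx Bj := (extCx lB).obj K
  let e1 : (extCx lB).obj W ≅ Kj ⊗ (extCx lB).obj ((extCx φ).obj Z) :=
    Groth.Agent.Lib.Helper13.ET.extTenIso lB K _
  let e2 : (extCx lB).obj ((extCx φ).obj Z) ≅ (extCx φ').obj Z := extCxCompIso φ lB Z
  let e : (extCx lB).obj W ≅ Kj ⊗ (extCx φ').obj Z := e1 ≪≫ whiskerLeftIso Kj e2
  refine IsZero.of_iso ?_ ((HomologicalComplex.homologyFunctor _ _ i).mapIso e)
  rw [HomologicalComplex.homologyFunctor_obj, isZero_homology_mix_iff φ' Kj Z i]
  exact isZero_homology_tensor_of_torAmp ((resCx φ').obj Kj) a b (h3 j) Z S hZ π hS i hi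

end Groth.Agent.Lib.Helper13.DV
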