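import Groth.Agent.Lib.Helper13.PerfHom1
import Groth.Agent.Lib.Helper13.TorAmpCover
import Groth.Agent.Lib.Helper13.PCMor2

set_option autoImplicit false
universe u
open CategoryTheory CategoryTheory.Limits TensorProduct

namespace Groth.Agent.Lib.Helper13.PM

open Groth.Agent.Lib.Helper13.DR Groth.Agent.Lib.Helper13.PC Groth.Agent.Lib.Helper13.TB
  Groth.Agent.Lib.Helper13.PS Groth.Agent.Lib.Helper13.BS
open DerivedCategory

attribute [local instance] HasDerivedCategory.standard

section Basic

variable (A : Type u) [CommRing A] (M : Type u) [AddCommGroup M] [Module A M]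

lemma hasFiniteTorDim_iff : DRing.HasFiniteTorDim A M ↔
    ∃ a b : ℤ, DRing.HasTorAmplitudeIn A a b (Dual.inD A M) :=
  ⟨fun ⟨d, hd⟩ => ⟨-(d : ℤ), 0, (hasTorDimLE_iff_hasTorAmplitudeIn A M d).1 hd⟩,
    fun ⟨a, b, h⟩ => ⟨(-a).toNat, hasTorDimLE_of_hasTorAmplitudeIn A M a b _ (by lia) h⟩⟩

lemma hasFiniteTorDim_of_flat [Module.Flat A M] : DRing.HasFiniteTorDim A M :=
  ⟨0, (hasTorDimLE_zero_iff_flat A M).2 inferInstance⟩

end Basic

section Trans

variable (A P B : Type u) [CommRing A] [CommRing P] [CommRing B] [Algebra A B] [Algebra A P]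
  [Algebra P B] [IsScalarTower A P B]

theorem hasFiniteTorDim_trans (h1 : DRing.HasFiniteTorDim A P) (h2 : DRing.HasFiniteTorDim P B) :
    DRing.HasFiniteTorDim A B := by
  obtain ⟨d, hd⟩ := h1
  obtain ⟨a, b, hab⟩ := (hasFiniteTorDim_iff P B).1 h2
  have hP := (hasTorDimLE_iff_hasTorAmplitudeIn A P d).1 hd
  have h1 := Groth.Agent.Lib.Helper13.DV.hasTorAmplitudeIn_restrictD (A := A) (B := P) d hP _ a b hab
  rw [hasFiniteTorDim_iff]
  exact ⟨_, _, hasTorAmplitudeIn_of_iso (restrictDSingleIso (algebraMap A P) (ModuleCat.of P B) ≪≫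
      (DerivedCategory.singleFunctor (ModuleCat.{u} A) 0).mapIso (towerRestrictIso A P B).symm) h1⟩

end Trans

section Pushout

variable (R A R' A' : Type u) [CommRing R] [CommRing A] [Algebra R A] [CommRing R'] [Algebra R R']
  [CommRing A'] [Algebra R A'] [Algebra A A'] [Algebra R' A'] [IsScalarTower R A A']
  [IsScalarTower R R' A'] [Algebra.IsPushout R R' A A']

theorem hasFiniteTorDim_of_isPushout_flat [Module.Flat R R'] (h : DRing.HasFiniteTorDim R A) :
    DRing.HasFiniteTorDim R' A' := by
  obtain ⟨a, b, hab⟩ := (hasFiniteTorDim_iff R A).1 h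
  have h1 := hasTorAmplitudeIn_extendScalars_single R R' (ModuleCat.of R A) a b hab
  rw [hasFiniteTorDim_iff]
  have e : (ModuleCat.extendScalars.{u, u, u} (algebraMap R R')).obj (ModuleCat.of R A) ≅
      ModuleCat.of R' A' :=
    (ModuleCat.extendScalars.{u, u, u} (algebraMap R R')).mapIso (algebraRestrictIso R A) ≪≫
      pbcIso R A R' A' (ModuleCat.of A A) ≪≫
      (ModuleCat.restrictScalars.{u} (algebraMap R' A')).mapIso (extendSelfIso A A') ≪≫
      (algebraRestrictIso R' A').symm
  exact ⟨a, b, hasTorAmplitudeIn_of_iso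
    ((DerivedCategory.singleFunctor (ModuleCat.{u} R') 0).mapIso e) h1⟩

end Pushout

section Cover

variable (A B : Type u) [CommRing A] [CommRing B] [Algebra A B]

/-- `B_g` as an `A`-module is the restriction of `B_g` along `A → B → B_g`. -/
noncomputable def awayRestrictIso (g : B) :
    ModuleCat.of A (Localization.Away g) ≅
      (ModuleCat.restrictScalars.{u} ((algebraMap B (Localization.Away g)).comp (algebraMap A B))).obj
        (ModuleCat.of (Localization.Away g) (Localization.Away g)) :=
  isoOfAddEquiv (ModuleCat.of A (Localization.Away g))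
    ((ModuleCat.restrictScalars.{u} ((algebraMap B (Localization.Away g)).comp (algebraMap A B))).obj
      (ModuleCat.of (Localization.Away g) (Localization.Away g))) (AddEquiv.refl _)
    (fun a x => by
      change a • x = algebraMap B (Localization.Away g) (algebraMap A B a) * x
      rw [Algebra.smul_def, IsScalarTower.algebraMap_apply A B (Localization.Away g)])

theorem hasFiniteTorDim_of_away_span {r : ℕ} (g : Fin r → B)
    (hg : Ideal.span (Set.range g) = ⊤)
    (h : ∀ j, DRing.HasFiniteTorDim A (Localization.Away (g j))) : DRing.HasFiniteTorDim A B := by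
  choose a₀ b₀ hab using fun j => (hasFiniteTorDim_iff A (Localization.Away (g j))).1 (h j)
  obtain ⟨a, ha⟩ := (Set.finite_range a₀).bddBelow
  obtain ⟨b, hb⟩ := (Set.finite_range b₀).bddAbove
  let K : DRing.Cx B :=
    (HomologicalComplex.single (ModuleCat.{u} B) (ComplexShape.up ℤ) 0).obj (ModuleCat.of B B)
  let eK : Dual.inD B B ≅ Q.obj K :=
    (DerivedCategory.singleFunctorIsoCompQ (ModuleCat.{u} B) 0).app (ModuleCat.of B B)
  have key := Groth.Agent.Lib.Helper13.DV.hasTorAmplitudeIn_restrict_of_away_span A B K a b g hg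
    (fun j => by
      have hj := hasTorAmplitudeIn_mono (ha ⟨j, rfl⟩) (hb ⟨j, rfl⟩) (hab j)
      let ψ : A →+* Localization.Away (g j) :=
        (algebraMap B (Localization.Away (g j))).comp (algebraMap A B)
      refine hasTorAmplitudeIn_of_iso ?_ hj
      exact (DerivedCategory.singleFunctor (ModuleCat.{u} A) 0).mapIso (awayRestrictIso A B (g j)) ≪≫
        (restrictDSingleIso ψ _).symm ≪≫
        (DRing.restrictD ψ).mapIso (awaySelfIso B (g j)).symm ≪≫ restrictDQIso ψ _)
  rw [hasFiniteTorDim_iff]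
  refine ⟨a, b, hasTorAmplitudeIn_of_iso ?_ key⟩
  exact (restrictDQIso (algebraMap A B) K).symm ≪≫ (DRing.restrictD (algebraMap A B)).mapIso eK.symm ≪≫
    restrictDSingleIso (algebraMap A B) _ ≪≫
    (DerivedCategory.singleFunctor (ModuleCat.{u} A) 0).mapIso (algebraRestrictIso A B).symm

end Cover

end Groth.Agent.Lib.Helper13.PM
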