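import Groth.Agent.Lib.Helper13.PCMor2
import Groth.Agent.Lib.Helper13.PerfMor1
import Mathlib.RingTheory.TensorProduct.MvPolynomial
import Mathlib.RingTheory.Flat.Stability

set_option autoImplicit false
universe u
open CategoryTheory CategoryTheory.Limits TensorProduct

namespace Groth.Agent.Lib.Helper13.PM

open Groth.Agent.Lib.Helper13.DR

attribute [local instance] HasDerivedCategory.standard

section

attribute [local instance] MvPolynomial.algebraMvPolynomial

variable (A B A' B' : Type u) [CommRing A] [CommRing B] [CommRing A'] [CommRing B'] [Algebra A B]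
  [Algebra A A'] [Algebra A B'] [Algebra B B'] [Algebra A' B'] [IsScalarTower A B B']
  [IsScalarTower A A' B'] [Algebra.IsPushout A A' B B'] [Module.Flat A A']

theorem isPseudoCoherentHom_of_isPushout_flat (h : MoreMor.IsPseudoCoherentHom A B) :
    MoreMor.IsPseudoCoherentHom A' B' := by
  obtain ⟨n, φ, hφ, hpc⟩ := (isPseudoCoherentHom_iff_exists_isPCHom A B).1 h
  rw [isPseudoCoherentHom_iff_exists_isPCHom]
  let φ' : MvPolynomial (Fin n) A' →ₐ[A'] B' :=
    MvPolynomial.aeval (fun i => algebraMap B B' (φ (MvPolynomial.X i)))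
  letI : Algebra (MvPolynomial (Fin n) A) B := (φ : MvPolynomial (Fin n) A →+* B).toAlgebra
  letI : Algebra (MvPolynomial (Fin n) A') B' := (φ' : MvPolynomial (Fin n) A' →+* B').toAlgebra
  letI : Algebra (MvPolynomial (Fin n) A) B' :=
    ((algebraMap B B').comp (φ : MvPolynomial (Fin n) A →+* B)).toAlgebra
  haveI : IsScalarTower A (MvPolynomial (Fin n) A) B :=
    IsScalarTower.of_algebraMap_eq (fun a => (φ.commutes a).symm)
  haveI : IsScalarTower A' (MvPolynomial (Fin n) A') B' :=
    IsScalarTower.of_algebraMap_eq (fun a => (φ'.commutes a).symm)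
  haveI : IsScalarTower (MvPolynomial (Fin n) A) B B' :=
    IsScalarTower.of_algebraMap_eq (fun x => rfl)
  have hcomp : ((φ' : MvPolynomial (Fin n) A' →+* B').comp
      (MvPolynomial.map (algebraMap A A'))) =
      (algebraMap B B').comp (φ : MvPolynomial (Fin n) A →+* B) := by
    apply MvPolynomial.ringHom_ext
    · intro a
      simp only [RingHom.comp_apply, MvPolynomial.map_C]
      change φ' (MvPolynomial.C (algebraMap A A' a)) = algebraMap B B' (φ (MvPolynomial.C a))
      rw [← MvPolynomial.algebraMap_eq, ← MvPolynomial.algebraMap_eq, φ'.commutes, φ.commutes,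
        ← IsScalarTower.algebraMap_apply, ← IsScalarTower.algebraMap_apply]
    · intro i
      simp only [RingHom.comp_apply, MvPolynomial.map_X]
      change φ' (MvPolynomial.X i) = _
      simp [φ']
  haveI : IsScalarTower (MvPolynomial (Fin n) A) (MvPolynomial (Fin n) A') B' :=
    IsScalarTower.of_algebraMap_eq (fun x => (RingHom.congr_fun hcomp x).symm)
  haveI : IsScalarTower A (MvPolynomial (Fin n) A) B' :=
    IsScalarTower.of_algebraMap_eq (fun a => by
      change algebraMap A B' a = algebraMap B B' (φ (algebraMap A _ a))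
      rw [φ.commutes, ← IsScalarTower.algebraMap_apply])
  haveI : IsScalarTower A (MvPolynomial (Fin n) A') B' :=
    IsScalarTower.of_algebraMap_eq (fun a => by
      rw [IsScalarTower.algebraMap_apply A A' (MvPolynomial (Fin n) A'),
        ← IsScalarTower.algebraMap_apply A' (MvPolynomial (Fin n) A') B',
        ← IsScalarTower.algebraMap_apply A A' B'])
  have hAB : Algebra.IsPushout A B A' B' := Algebra.IsPushout.symm inferInstance
  have hpush : Algebra.IsPushout (MvPolynomial (Fin n) A) B (MvPolynomial (Fin n) A') B' :=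
    (Algebra.IsPushout.comp_iff (R := A) (S := MvPolynomial (Fin n) A) (T := B) (R' := A')
      (S' := MvPolynomial (Fin n) A') (T' := B')).1 hAB
  haveI : Algebra.IsPushout (MvPolynomial (Fin n) A) (MvPolynomial (Fin n) A') B B' := hpush.symm
  haveI : Module.Flat (MvPolynomial (Fin n) A) (MvPolynomial (Fin n) A') :=
    Module.Flat.isBaseChange (R := A) (S := MvPolynomial (Fin n) A) (M := A')
      (MvPolynomial (Fin n) A')
      (Algebra.IsPushout.out (R := A) (S := MvPolynomial (Fin n) A) (R' := A')
        (S' := MvPolynomial (Fin n) A'))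
  have hpc' : IsPCHom (algebraMap (MvPolynomial (Fin n) A') B') :=
    isPCHom_of_isPushout_flat (MvPolynomial (Fin n) A) B (MvPolynomial (Fin n) A') B' hpc
  refine ⟨n, φ', ?_, hpc'⟩
  -- surjectivity
  intro z
  have hz : z ∈ (φ'.range : Subalgebra A' B') := by
    refine (Algebra.IsPushout.out (R := A) (S := A') (R' := B) (S' := B')).inductionOn z
      (fun z => z ∈ (φ'.range : Subalgebra A' B')) (zero_mem _) ?_ ?_ ?_
    · intro b
      obtain ⟨p, rfl⟩ := hφ b
      exact ⟨MvPolynomial.map (algebraMap A A') p, RingHom.congr_fun hcomp p⟩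
    · intro a' y hy
      exact Subalgebra.smul_mem _ hy a'
    · intro y₁ y₂ h₁ h₂
      exact add_mem h₁ h₂
  exact hz

end

end Groth.Agent.Lib.Helper13.PM
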