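import Groth.Agent.Lib.Helper13.PCMor2
import Mathlib.AlgebraicGeometry.Morphisms.RingHomProperties
import Mathlib.AlgebraicGeometry.Morphisms.FiniteType

set_option autoImplicit false
universe u
open CategoryTheory CategoryTheory.Limits AlgebraicGeometry

namespace Groth.Agent.Lib.Helper13.PM

attribute [local instance] HasDerivedCategory.standard

/-- Pseudo-coherent morphisms as a morphism property. -/
def PCMor : MorphismProperty Scheme.{u} := fun _ _ f => MoreMor.IsPseudoCoherentMor f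

instance : HasRingHomProperty PCMor.{u} QPC.{u} where
  isLocal_ringHomProperty := qpc_isLocal
  eq_affineLocally' := by
    ext X Y f
    rw [affineLocally_iff_affineOpens_le]
    constructor
    · intro h U V e
      exact h V.1 U.1 V.2 U.2 e
    · intro h U V hU hV e
      exact h ⟨V, hV⟩ ⟨U, hU⟩ e

theorem isPseudoCoherentMor_comp {X Y Z : Scheme.{u}} (f : X ⟶ Y) (g : Y ⟶ Z)
    (hf : MoreMor.IsPseudoCoherentMor f) (hg : MoreMor.IsPseudoCoherentMor g) :
    MoreMor.IsPseudoCoherentMor (f ≫ g) := by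
  have := HasRingHomProperty.stableUnderComposition (P := PCMor.{u}) qpc_stableUnderComposition
  exact PCMor.comp_mem f g hf hg

theorem isPseudoCoherentMor_iff_exists {X S : Scheme.{u}} (f : X ⟶ S) :
    MoreMor.IsPseudoCoherentMor f ↔ ∀ x : X, ∃ (U : X.Opens) (V : S.Opens) (hUV : U ≤ f ⁻¹ᵁ V),
      IsAffineOpen U ∧ IsAffineOpen V ∧ x ∈ U ∧
      (letI := (f.appLE V U hUV).hom.toAlgebra
       MoreMor.IsPseudoCoherentHom Γ(S, V) Γ(X, U)) := by
  have := HasRingHomProperty.iff_exists_appLE (P := PCMor.{u}) (f := f)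
    qpc_stableUnderCompositionWithLocalizationAway.left
  change PCMor f ↔ _
  rw [this]
  constructor
  · intro h x
    obtain ⟨U, V, hx, e, hQ⟩ := h x
    exact ⟨V.1, U.1, e, V.2, U.2, hx, hQ⟩
  · intro h x
    obtain ⟨U, V, hUV, hU, hV, hx, hQ⟩ := h x
    exact ⟨⟨V, hV⟩, ⟨U, hU⟩, hx, hUV, hQ⟩

end Groth.Agent.Lib.Helper13.PM
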