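import Groth.Agent.Lib.Helper13.PerfMor1
import Groth.Agent.Lib.Helper13.PCMor3
import Mathlib.RingTheory.Localization.BaseChange

set_option autoImplicit false
universe u
open CategoryTheory CategoryTheory.Limits TensorProduct AlgebraicGeometry

namespace Groth.Agent.Lib.Helper13.PM

attribute [local instance] HasDerivedCategory.standard

/-- Finite tor dimension as a property of ring homomorphisms. -/
def QFTD : ∀ {R S : Type u} [CommRing R] [CommRing S], (R →+* S) → Prop :=
  fun {R S} _ _ f => letI := f.toAlgebra; DRing.HasFiniteTorDim R S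

lemma qftd_iff_of_algebraMap_eq {R S : Type u} [CommRing R] [CommRing S] [Algebra R S] (f : R →+* S)
    (hf : ∀ x, f x = algebraMap R S x) : QFTD f ↔ DRing.HasFiniteTorDim R S := by
  have : f.toAlgebra = ‹Algebra R S› := Algebra.algebra_ext _ _ (fun r => hf r)
  unfold QFTD
  rw [this]

lemma qftd_algebraMap_iff {R S : Type u} [CommRing R] [CommRing S] [Algebra R S] :
    QFTD (algebraMap R S) ↔ DRing.HasFiniteTorDim R S :=
  qftd_iff_of_algebraMap_eq _ (fun _ => rfl)

lemma qftd_stableUnderComposition : RingHom.StableUnderComposition QFTD := by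
  intro R S T _ _ _ f g hf hg
  letI := f.toAlgebra
  letI := g.toAlgebra
  letI := (g.comp f).toAlgebra
  haveI : IsScalarTower R S T := IsScalarTower.of_algebraMap_eq (fun x => rfl)
  exact hasFiniteTorDim_trans R S T hf hg

lemma qftd_holdsForLocalizationAway : RingHom.HoldsForLocalizationAway QFTD := by
  intro R S _ _ _ r _
  rw [qftd_algebraMap_iff]
  haveI : Module.Flat R S := IsLocalization.flat S (Submonoid.powers r)
  exact hasFiniteTorDim_of_flat R S

lemma qftd_stableUnderCompositionWithLocalizationAway :
    RingHom.StableUnderCompositionWithLocalizationAway QFTD :=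
  qftd_stableUnderComposition.stableUnderCompositionWithLocalizationAway
    qftd_holdsForLocalizationAway

lemma qftd_ofLocalizationSpanTarget : RingHom.OfLocalizationSpanTarget QFTD := by
  rw [RingHom.ofLocalizationSpanTarget_iff_finite]
  intro R S _ _ f s hs h
  letI := f.toAlgebra
  let g : Fin s.card → S := fun i => (s.equivFin.symm i : S)
  have hg : Set.range g = (s : Set S) := by
    ext x
    constructor
    · rintro ⟨i, rfl⟩
      exact (s.equivFin.symm i).2
    · intro hx
      exact ⟨s.equivFin ⟨x, hx⟩, by simp [g]⟩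
  refine hasFiniteTorDim_of_away_span R S g (hg ▸ hs) (fun i => ?_)
  have hi := h ⟨g i, (s.equivFin.symm i).2⟩
  exact (qftd_iff_of_algebraMap_eq _ (fun x => by
    rw [IsScalarTower.algebraMap_apply R S (Localization.Away (g i))]
    rfl)).1 hi

lemma qftd_localizationAwayPreserves : RingHom.LocalizationAwayPreserves QFTD := by
  intro R S _ _ f r R' S' _ _ _ _ _ _ hf
  letI := f.toAlgebra
  letI : Algebra R' S' := (IsLocalization.Away.map R' S' f r).toAlgebra
  letI : Algebra R S' := ((algebraMap S S').comp f).toAlgebra
  haveI : IsScalarTower R S S' := IsScalarTower.of_algebraMap_eq (fun x => rfl)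
  haveI : IsScalarTower R R' S' := IsScalarTower.of_algebraMap_eq (fun x => by
    change algebraMap S S' (f x) = IsLocalization.Away.map R' S' f r (algebraMap R R' x)
    rw [IsLocalization.Away.map, IsLocalization.map_eq])
  haveI : IsLocalization (Algebra.algebraMapSubmonoid S (Submonoid.powers r)) S' := by
    have : Algebra.algebraMapSubmonoid S (Submonoid.powers r) = Submonoid.powers (f r) :=
      Submonoid.map_powers _ _
    rw [this]
    infer_instance
  haveI : Algebra.IsPushout R R' S S' :=
    (Algebra.isPushout_of_isLocalization (Submonoid.powers r) R' S S').symm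
  haveI : Module.Flat R R' := IsLocalization.flat R' (Submonoid.powers r)
  exact hasFiniteTorDim_of_isPushout_flat R S R' S' hf

theorem qftd_isLocal : RingHom.PropertyIsLocal QFTD :=
  ⟨qftd_localizationAwayPreserves, qftd_ofLocalizationSpanTarget,
    qftd_ofLocalizationSpanTarget.ofLocalizationSpan
      qftd_stableUnderCompositionWithLocalizationAway.left,
    qftd_stableUnderCompositionWithLocalizationAway.right⟩

/-- Perfect ring maps as a ring hom property. -/
def QPerf : ∀ {R S : Type u} [CommRing R] [CommRing S], (R →+* S) → Prop :=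
  fun f => QPC f ∧ QFTD f

theorem qperf_isLocal : RingHom.PropertyIsLocal QPerf := qpc_isLocal.and qftd_isLocal

lemma qperf_stableUnderComposition : RingHom.StableUnderComposition QPerf :=
  qpc_stableUnderComposition.and qftd_stableUnderComposition

lemma qperf_stableUnderCompositionWithLocalizationAway :
    RingHom.StableUnderCompositionWithLocalizationAway QPerf :=
  qperf_stableUnderComposition.stableUnderCompositionWithLocalizationAway
    (fun _ S _ _ _ r _ => ⟨qpc_holdsForLocalizationAway S r, qftd_holdsForLocalizationAway S r⟩)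

/-- Perfect morphisms as a morphism property. -/
def PerfMor : MorphismProperty Scheme.{u} := fun _ _ f => MoreMor.IsPerfectMor f

instance : HasRingHomProperty PerfMor.{u} QPerf.{u} where
  isLocal_ringHomProperty := qperf_isLocal
  eq_affineLocally' := by
    ext X Y f
    rw [affineLocally_iff_affineOpens_le]
    constructor
    · intro h U V e
      exact h V.1 U.1 V.2 U.2 e
    · intro h U V hU hV e
      exact h ⟨V, hV⟩ ⟨U, hU⟩ e

theorem isPerfectMor_comp {X Y Z : Scheme.{u}} (f : X ⟶ Y) (g : Y ⟶ Z)
    (hf : MoreMor.IsPerfectMor f) (hg : MoreMor.IsPerfectMor g) :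
    MoreMor.IsPerfectMor (f ≫ g) := by
  have := HasRingHomProperty.stableUnderComposition (P := PerfMor.{u}) qperf_stableUnderComposition
  exact PerfMor.comp_mem f g hf hg

theorem isPerfectMor_iff_exists {X S : Scheme.{u}} (f : X ⟶ S) :
    MoreMor.IsPerfectMor f ↔ ∀ x : X, ∃ (U : X.Opens) (V : S.Opens) (hUV : U ≤ f ⁻¹ᵁ V),
      IsAffineOpen U ∧ IsAffineOpen V ∧ x ∈ U ∧
      (letI := (f.appLE V U hUV).hom.toAlgebra
       MoreMor.IsPerfectHom Γ(S, V) Γ(X, U)) := by
  have := HasRingHomProperty.iff_exists_appLE (P := PerfMor.{u}) (f := f)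
    qperf_stableUnderCompositionWithLocalizationAway.left
  change PerfMor f ↔ _
  rw [this]
  constructor
  · intro h x
    obtain ⟨U, V, hx, e, hQ⟩ := h x
    exact ⟨V.1, U.1, e, V.2, U.2, hx, hQ⟩
  · intro h x
    obtain ⟨U, V, hUV, hU, hV, hx, hQ⟩ := h x
    exact ⟨⟨V, hV⟩, ⟨U, hU⟩, hx, hUV, hQ⟩

end Groth.Agent.Lib.Helper13.PM
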