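import Groth.Agent.Lib.Helper13.FlatBC1
import Groth.Agent.Lib.Helper13.PCBase1
import Groth.Agent.Lib.Helper13.PerfMor2

set_option autoImplicit false
universe u
open CategoryTheory CategoryTheory.Limits TensorProduct AlgebraicGeometry Opposite

namespace Groth.Agent.Lib.Helper13.PM

attribute [local instance] HasDerivedCategory.standard

theorem of_isPullback_flat {Q : ∀ {R S : Type u} [CommRing R] [CommRing S], (R →+* S) → Prop}
    {P : MorphismProperty Scheme.{u}} [HasRingHomProperty P Q]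
    (hQ : StableUnderFlatBaseChange Q) {X S X' S' : Scheme.{u}} (f : X ⟶ S) (f' : X' ⟶ S')
    (g' : X' ⟶ X) (g : S' ⟶ S) [Flat g] (hc : IsPullback g' f' f g) (hf : P f) : P f' := by
  rw [← hc.flip.isoPullback_hom_fst, P.cancel_left_of_respectsIso]
  exact pullback_fst_of_flat hQ g f hf

lemma qpc_stableUnderFlatBaseChange : StableUnderFlatBaseChange QPC := by
  intro R S R' S' _ _ _ _ _ _ _ _ _ _ _ hpush hfl h
  rw [qpc_algebraMap_iff] at h ⊢
  haveI : Algebra.IsPushout R R' S S' := hpush.symm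
  exact isPseudoCoherentHom_of_isPushout_flat R S R' S' h

lemma qftd_stableUnderFlatBaseChange : StableUnderFlatBaseChange QFTD := by
  intro R S R' S' _ _ _ _ _ _ _ _ _ _ _ hpush hfl h
  rw [qftd_algebraMap_iff] at h ⊢
  haveI : Algebra.IsPushout R R' S S' := hpush.symm
  exact hasFiniteTorDim_of_isPushout_flat R S R' S' h

lemma qperf_stableUnderFlatBaseChange : StableUnderFlatBaseChange QPerf := by
  intro R S R' S' _ _ _ _ _ _ _ _ _ _ _ hpush hfl h
  exact ⟨qpc_stableUnderFlatBaseChange R S R' S' hfl h.1,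
    qftd_stableUnderFlatBaseChange R S R' S' hfl h.2⟩

theorem isPseudoCoherentMor_flat_baseChange {X S X' S' : Scheme.{u}} (f : X ⟶ S) (f' : X' ⟶ S')
    (g' : X' ⟶ X) (g : S' ⟶ S) [Flat g] (hc : IsPullback g' f' f g)
    (hf : MoreMor.IsPseudoCoherentMor f) : MoreMor.IsPseudoCoherentMor f' :=
  of_isPullback_flat (P := PCMor.{u}) qpc_stableUnderFlatBaseChange f f' g' g hc hf

theorem isPerfectMor_flat_baseChange {X S X' S' : Scheme.{u}} (f : X ⟶ S) (f' : X' ⟶ S')
    (g' : X' ⟶ X) (g : S' ⟶ S) [Flat g] (hc : IsPullback g' f' f g)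
    (hf : MoreMor.IsPerfectMor f) : MoreMor.IsPerfectMor f' :=
  of_isPullback_flat (P := PerfMor.{u}) qperf_stableUnderFlatBaseChange f f' g' g hc hf

end Groth.Agent.Lib.Helper13.PM
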