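import Groth.Agent.Lib.Helper13.Shriek5
import Groth.Agent.Lib.Helper13.AdjCx
import Mathlib.CategoryTheory.Localization.Adjunction

/-!
# Frobenius extensions: `RHom_S(S', -) ≅ - ⊗_S^L S'`
-/

set_option autoImplicit false
set_option linter.unusedSectionVars false

open CategoryTheory CategoryTheory.Limits CategoryTheory.Functor

universe u

namespace Groth.Agent.Lib.Helper13.Frob

open DerivedCategory Groth.Agent.Lib.Helper13.DR Groth.Agent.Lib.Helper13.Coind
  Groth.Agent.Lib.Helper13.Kan

section General

universe v₁ v₂ u₁ u₂ w₁ w₂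

variable {C₁ : Type u₁} {C₂ : Type u₂} [Category.{v₁} C₁] [Category.{v₂} C₂] [Abelian C₁] [Abelian C₂]
  [HasDerivedCategory.{w₁} C₁] [HasDerivedCategory.{w₂} C₂]
  (F : C₁ ⥤ C₂) (G : C₂ ⥤ C₁) [F.Additive] [G.Additive]
  [PreservesFiniteLimits F] [PreservesFiniteColimits F]
  [PreservesFiniteLimits G] [PreservesFiniteColimits G]

/-- An adjunction between exact functors induces an adjunction on derived categories. -/
noncomputable def derivedAdj (adj : F ⊣ G) : F.mapDerivedCategory ⊣ G.mapDerivedCategory :=
  letI : CatCommSq (F.mapHomologicalComplex (ComplexShape.up ℤ)) DerivedCategory.Q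
      DerivedCategory.Q F.mapDerivedCategory := ⟨F.mapDerivedCategoryFactors.symm⟩
  letI : CatCommSq (G.mapHomologicalComplex (ComplexShape.up ℤ)) DerivedCategory.Q
      DerivedCategory.Q G.mapDerivedCategory := ⟨G.mapDerivedCategoryFactors.symm⟩
  (adjCx adj (ComplexShape.up ℤ)).localization DerivedCategory.Q
    (HomologicalComplex.quasiIso C₁ (ComplexShape.up ℤ)) DerivedCategory.Q
    (HomologicalComplex.quasiIso C₂ (ComplexShape.up ℤ)) F.mapDerivedCategory G.mapDerivedCategory

end General

attribute [local instance] HasDerivedCategory.standard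

variable {S S' : Type u} [CommRing S] [CommRing S'] (φ : S →+* S')

/-- For a flat ring map with a module-level adjunction "restriction ⊣ extension" (a Frobenius
extension), coinduction and derived base change agree. -/
theorem nonempty_Rco_iso_LBaseChange (hφ : φ.Flat)
    (a : ModuleCat.restrictScalars.{u} φ ⊣ ModuleCat.extendScalars.{u, u, u} φ) :
    Nonempty (Rco φ ≅ DRing.LBaseChange φ) := by
  have : PreservesFiniteLimits (ModuleCat.extendScalars.{u, u, u} φ) :=
    ModuleCat.preservesFiniteLimits_extendScalars_of_flat hφ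
  have : PreservesFiniteColimits (ModuleCat.extendScalars.{u, u, u} φ) := by
    have : PreservesColimitsOfSize.{0, 0} (ModuleCat.extendScalars.{u, u, u} φ) :=
      (ModuleCat.extendRestrictScalarsAdj φ).leftAdjoint_preservesColimits
    exact ⟨fun _ _ _ => inferInstance⟩
  let a1 : (ModuleCat.extendScalars.{u, u, u} φ).mapDerivedCategory ⊣ DRing.restrictD φ :=
    derivedAdj _ _ (ModuleCat.extendRestrictScalarsAdj.{u, u, u} φ)
  let a2 : DRing.restrictD φ ⊣ (ModuleCat.extendScalars.{u, u, u} φ).mapDerivedCategory :=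
    derivedAdj _ _ a
  exact ⟨(Coind.uniq φ _ a2).symm ≪≫ a1.leftAdjointUniq (LBaseChangeAdj φ)⟩

end Groth.Agent.Lib.Helper13.Frob
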