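import Groth.Agent.Lib.Helper13.DRingFlatBC
import Mathlib.LinearAlgebra.Contraction

/-!
# Frobenius forms: extension of scalars is coextension of scalars
-/

set_option autoImplicit false
set_option linter.unusedSectionVars false

open CategoryTheory CategoryTheory.Limits TensorProduct

universe u

namespace Groth.Agent.Lib.Helper13.Frob

open Groth.Agent.Lib.Helper13.DR

variable {S S' : Type u} [CommRing S] [CommRing S'] [Algebra S S']

/-- `b ↦ τ (b * ·)`. -/
noncomputable def theta (τ : S' →ₗ[S] S) : S' →ₗ[S] Module.Dual S S' :=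
  (LinearMap.mul S S').compr₂ τ

lemma theta_apply (τ : S' →ₗ[S] S) (b x : S') : theta τ b x = τ (b * x) := rfl

/-- A Frobenius form on a finite projective algebra. -/
def IsFrobForm (τ : S' →ₗ[S] S) : Prop := Function.Bijective (theta τ)

variable [Module.Finite S S'] [Module.Projective S S'] (τ : S' →ₗ[S] S) (hτ : IsFrobForm τ)

/-- `S' ⊗ M ≃ Hom_S(S', M)`, `b ⊗ m ↦ (x ↦ τ(bx) m)`. -/
noncomputable def TS (M : Type u) [AddCommGroup M] [Module S M] :
    S' ⊗[S] M ≃ₗ[S] (S' →ₗ[S] M) :=
  (TensorProduct.congr (LinearEquiv.ofBijective (theta τ) hτ) (LinearEquiv.refl S M)) ≪≫ₗ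
    dualTensorHomEquiv S S' M

lemma TS_tmul (M : Type u) [AddCommGroup M] [Module S M] (b : S') (m : M) (x : S') :
    TS τ hτ M (b ⊗ₜ m) x = τ (b * x) • m := by
  simp [TS, theta_apply]

end Groth.Agent.Lib.Helper13.Frob

namespace Groth.Agent.Lib.Helper13.Frob

open Groth.Agent.Lib.Helper13.DR

variable {S S' : Type u} [CommRing S] [CommRing S'] [Algebra S S']
  [Module.Finite S S'] [Module.Projective S S'] (τ : S' →ₗ[S] S) (hτ : IsFrobForm τ)

lemma TS_smul (M : Type u) [AddCommGroup M] [Module S M] (s : S') (w : S' ⊗[S] M) (x : S') :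
    TS τ hτ M (s • w) x = TS τ hτ M w (x * s) := by
  induction w using TensorProduct.induction_on with
  | zero => simp
  | tmul b m =>
    rw [TensorProduct.smul_tmul', TS_tmul, TS_tmul, smul_eq_mul]
    congr 2
    ring
  | add w w' h h' => rw [smul_add, map_add, map_add, LinearMap.add_apply, LinearMap.add_apply, h, h']

/-- The additive equivalence underlying `extendScalars ≅ coextendScalars`. -/
noncomputable def EAdd (M : ModuleCat.{u} S) :
    (ModuleCat.extendScalars.{u, u, u} (algebraMap S S')).obj M ≃+
      (ModuleCat.coextendScalars.{u, u, u} (algebraMap S S')).obj M :=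
  (extendScalarsEquiv S' M).toAddEquiv.trans
    ((TS τ hτ M).toAddEquiv.trans
      ((LinearEquiv.arrowCongr (restrEquiv (A := S) S').symm (LinearEquiv.refl S M)).toAddEquiv.trans
        (ModuleCat.CoextendScalars.equiv (algebraMap S S') M).symm.toAddEquiv))

lemma EAdd_apply (M : ModuleCat.{u} S)
    (z : (ModuleCat.extendScalars.{u, u, u} (algebraMap S S')).obj M) (x : S') :
    ModuleCat.CoextendScalars.equiv (algebraMap S S') M (EAdd τ hτ M z) x =
      TS τ hτ M (extendScalarsEquiv S' M z) x := rfl

/-- The `S'`-linear equivalence `extendScalars ≅ coextendScalars`. -/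
noncomputable def ELin (M : ModuleCat.{u} S) :
    (ModuleCat.extendScalars.{u, u, u} (algebraMap S S')).obj M ≃ₗ[S']
      (ModuleCat.coextendScalars.{u, u, u} (algebraMap S S')).obj M :=
  { EAdd τ hτ M with
    map_smul' := fun s z => by
      apply ModuleCat.CoextendScalars.ext
      refine LinearMap.ext fun x' => ?_
      let x : S' := x'
      change ModuleCat.CoextendScalars.equiv (algebraMap S S') M (EAdd τ hτ M (s • z)) x =
        ModuleCat.CoextendScalars.equiv (algebraMap S S') M (EAdd τ hτ M z) (x * s)
      rw [EAdd_apply, EAdd_apply, map_smul, TS_smul] }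

end Groth.Agent.Lib.Helper13.Frob

namespace Groth.Agent.Lib.Helper13.Frob

open Groth.Agent.Lib.Helper13.DR

variable {S S' : Type u} [CommRing S] [CommRing S'] [Algebra S S']
  [Module.Finite S S'] [Module.Projective S S'] (τ : S' →ₗ[S] S) (hτ : IsFrobForm τ)

lemma TS_naturality {M N : Type u} [AddCommGroup M] [Module S M] [AddCommGroup N] [Module S N]
    (h : M →ₗ[S] N) (w : S' ⊗[S] M) (x : S') :
    TS τ hτ N (h.lTensor S' w) x = h (TS τ hτ M w x) := by
  induction w using TensorProduct.induction_on with
  | zero => simp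
  | tmul b m => rw [LinearMap.lTensor_tmul, TS_tmul, TS_tmul, map_smul]
  | add w w' hw hw' =>
    rw [map_add, map_add, map_add, LinearMap.add_apply, LinearMap.add_apply, map_add, hw, hw']

set_option backward.isDefEq.respectTransparency false in
lemma extendScalarsEquiv_nat {M N : ModuleCat.{u} S} (l : M ⟶ N)
    (z : (ModuleCat.extendScalars.{u, u, u} (algebraMap S S')).obj M) :
    extendScalarsEquiv S' N (((ModuleCat.extendScalars.{u, u, u} (algebraMap S S')).map l).hom z) =
      (l.hom.lTensor S') (extendScalarsEquiv S' M z) := by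
  induction z using TensorProduct.induction_on with
  | zero => simp
  | tmul s m => rfl
  | add x y hx hy => rw [map_add, map_add, map_add, map_add, hx, hy]

lemma ELin_naturality {M N : ModuleCat.{u} S} (h : M ⟶ N)
    (z : (ModuleCat.extendScalars.{u, u, u} (algebraMap S S')).obj M) :
    ELin τ hτ N (((ModuleCat.extendScalars.{u, u, u} (algebraMap S S')).map h).hom z) =
      ((ModuleCat.coextendScalars.{u, u, u} (algebraMap S S')).map h).hom (ELin τ hτ M z) := by
  apply ModuleCat.CoextendScalars.ext
  refine LinearMap.ext fun x' => ?_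
  let x : S' := x'
  change TS τ hτ N (extendScalarsEquiv S' N
      (((ModuleCat.extendScalars.{u, u, u} (algebraMap S S')).map h).hom z)) x =
    h.hom (TS τ hτ M (extendScalarsEquiv S' M z) x)
  rw [extendScalarsEquiv_nat, TS_naturality]

/-- For a Frobenius form, extension and coextension of scalars agree. -/
noncomputable def extCoextIso :
    ModuleCat.extendScalars.{u, u, u} (algebraMap S S') ≅
      ModuleCat.coextendScalars.{u, u, u} (algebraMap S S') :=
  NatIso.ofComponents (fun M => (ELin τ hτ M).toModuleIso) (by
    intro M N h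
    refine ModuleCat.hom_ext (LinearMap.ext fun z => ?_)
    exact ELin_naturality τ hτ h z)

/-- For a Frobenius form, restriction of scalars is left adjoint to extension of scalars. -/
noncomputable def restrictExtendAdj :
    ModuleCat.restrictScalars.{u} (algebraMap S S') ⊣
      ModuleCat.extendScalars.{u, u, u} (algebraMap S S') :=
  (ModuleCat.restrictCoextendScalarsAdj.{u, u, u} (algebraMap S S')).ofNatIsoRight
    (extCoextIso τ hτ).symm

end Groth.Agent.Lib.Helper13.Frob
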