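import Groth.Agent.Lib.Helper13.Frob2
import Mathlib.RingTheory.AdjoinRoot
import Mathlib.LinearAlgebra.Matrix.Block
import Mathlib.LinearAlgebra.Determinant
import Mathlib.LinearAlgebra.Dual.Basis

/-!
# The Frobenius form on `S[X]/(f)`, `f` monic
-/

set_option autoImplicit false
set_option linter.unusedSectionVars false

open Polynomial

universe u

namespace Groth.Agent.Lib.Helper13.Frob

variable {S : Type u} [CommRing S] (f : S[X]) (hf : f.Monic)

/-- The coefficient of `x ^ (deg f - 1)`. -/
noncomputable def tau : AdjoinRoot f →ₗ[S] S :=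
  (Polynomial.lcoeff S (f.natDegree - 1)) ∘ₗ AdjoinRoot.modByMonicHom hf

lemma tau_root_pow (k : ℕ) (hk : k < f.natDegree) :
    tau f hf (AdjoinRoot.root f ^ k) = if f.natDegree - 1 = k then 1 else 0 := by
  have hnt : Nontrivial S := by
    by_contra h
    rw [not_nontrivial_iff_subsingleton] at h
    have : f.natDegree = 0 := by
      rw [Subsingleton.elim f 0]; simp
    omega
  have hdeg : (X ^ k : S[X]).degree < f.degree := by
    rw [degree_X_pow, degree_eq_natDegree hf.ne_zero]
    exact_mod_cast hk
  rw [tau, LinearMap.comp_apply, ← AdjoinRoot.mk_X, ← map_pow, AdjoinRoot.modByMonicHom_mk,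
    (Polynomial.modByMonic_eq_self_iff hf).2 hdeg, lcoeff_apply, coeff_X_pow]

lemma basis_apply (i : Fin f.natDegree) :
    AdjoinRoot.powerBasisAux' hf i = AdjoinRoot.root f ^ (i : ℕ) :=
  (AdjoinRoot.powerBasis' hf).basis_eq_pow i

theorem isFrobForm_tau : IsFrobForm (tau f hf) := by
  classical
  let b := AdjoinRoot.powerBasisAux' hf
  let b' := b.reindex Fin.revPerm
  have key : ∀ i j : Fin f.natDegree,
      LinearMap.toMatrix b' b.dualBasis (theta (tau f hf)) i j =
        tau f hf (AdjoinRoot.root f ^ ((f.natDegree - 1 - (j : ℕ)) + (i : ℕ))) := by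
    intro i j
    rw [LinearMap.toMatrix_apply, Module.Basis.dualBasis_repr, theta_apply,
      Module.Basis.reindex_apply, basis_apply, basis_apply, ← pow_add]
    congr 2
    simp [Fin.val_rev]
    omega
  have hdet : (LinearMap.toMatrix b' b.dualBasis (theta (tau f hf))).det = 1 := by
    rw [Matrix.det_of_isLowerTriangular]
    · apply Finset.prod_eq_one
      intro i _
      rw [key, tau_root_pow f hf _ (by omega), if_pos (by omega)]
    · intro i j hij
      have hij' : i < j := hij
      have : (i : ℕ) < (j : ℕ) := hij'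
      rw [key, tau_root_pow f hf _ (by omega), if_neg (by omega)]
  have hu : IsUnit (LinearMap.toMatrix b' b.dualBasis (theta (tau f hf))).det := by
    rw [hdet]; exact isUnit_one
  exact (LinearEquiv.ofIsUnitDet hu).bijective

end Groth.Agent.Lib.Helper13.Frob
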