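import Groth.Agent.Lib.Helper13.Frob1
import Groth.Agent.Lib.Helper13.Frob3

/-!
# Frobenius ring maps: `RHom_S(S', -) ≅ - ⊗_S^L S'`
-/

set_option autoImplicit false
set_option linter.unusedSectionVars false

open CategoryTheory CategoryTheory.Limits CategoryTheory.Functor Polynomial

universe u

namespace Groth.Agent.Lib.Helper13.Frob

open DerivedCategory Groth.Agent.Lib.Helper13.DR Groth.Agent.Lib.Helper13.Coind
  Groth.Agent.Lib.Helper13.Shriek

attribute [local instance] HasDerivedCategory.standard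

variable {S S' S'' : Type u} [CommRing S] [CommRing S'] [CommRing S'']

/-- A ring map along which coinduction and derived base change agree. -/
def IsFrob (φ : S →+* S') : Prop := Nonempty (Rco φ ≅ DRing.LBaseChange φ)

theorem isFrob_of_frobForm [Algebra S S'] [Module.Finite S S'] [Module.Projective S S']
    (τ : S' →ₗ[S] S) (hτ : IsFrobForm τ) : IsFrob (algebraMap S S') :=
  nonempty_Rco_iso_LBaseChange (algebraMap S S') (RingHom.flat_algebraMap_iff.2 inferInstance)
    (restrictExtendAdj τ hτ)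

theorem isFrob_adjoinRoot (f : S[X]) (hf : f.Monic) : IsFrob (AdjoinRoot.of f) := by
  have := hf.free_adjoinRoot
  have := hf.finite_adjoinRoot
  exact isFrob_of_frobForm (tau f hf) (isFrobForm_tau f hf)

theorem isFrob_ringEquiv (e : S ≃+* S') : IsFrob (e : S →+* S') :=
  ⟨RIso e ≪≫ (LIso e).symm⟩

theorem IsFrob.comp {φ : S →+* S'} {ψ : S' →+* S''} (hφ : IsFrob φ) (hψ : IsFrob ψ)
    (χ : S →+* S'') (h : χ = ψ.comp φ) : IsFrob χ := by
  obtain ⟨i1⟩ := hφ
  obtain ⟨i2⟩ := hψ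
  exact ⟨(RComp φ ψ χ h).symm ≪≫ isoWhiskerRight i1 _ ≪≫ isoWhiskerLeft _ i2 ≪≫ LComp φ ψ χ h⟩

end Groth.Agent.Lib.Helper13.Frob

namespace Groth.Agent.Lib.Helper13.Frob

open DerivedCategory Groth.Agent.Lib.Helper13.DR Groth.Agent.Lib.Helper13.Coind
  Groth.Agent.Lib.Helper13.Shriek

attribute [local instance] HasDerivedCategory.standard

section PolyIso

variable {S : Type u} [CommRing S] (f : S[X])

/-- `f` viewed as a polynomial with coefficients in `S[X]`. -/
noncomputable abbrev liftPoly : S[X][X] := f.map (C : S →+* S[X])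

lemma liftPoly_monic (hf : f.Monic) : (liftPoly f).Monic := hf.map _

lemma fwd_aux :
    (liftPoly f).eval₂ (Polynomial.mapRingHom (AdjoinRoot.of f)) (C (AdjoinRoot.root f)) = 0 := by
  rw [liftPoly, Polynomial.eval₂_map, Polynomial.mapRingHom_comp_C,
    ← Polynomial.hom_eval₂, AdjoinRoot.eval₂_root, map_zero]

/-- `S[X][Y]/(f(Y)) → (S[Y]/(f(Y)))[X]`. -/
noncomputable def fwd : AdjoinRoot (liftPoly f) →+* (AdjoinRoot f)[X] :=
  AdjoinRoot.lift (Polynomial.mapRingHom (AdjoinRoot.of f)) (C (AdjoinRoot.root f)) (fwd_aux f)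

lemma bwd_aux :
    f.eval₂ ((AdjoinRoot.of (liftPoly f)).comp (C : S →+* S[X])) (AdjoinRoot.root (liftPoly f)) =
      0 := by
  rw [← Polynomial.eval₂_map, AdjoinRoot.eval₂_root]

/-- `(S[Y]/(f(Y)))[X] → S[X][Y]/(f(Y))`. -/
noncomputable def bwd : (AdjoinRoot f)[X] →+* AdjoinRoot (liftPoly f) :=
  Polynomial.eval₂RingHom
    (AdjoinRoot.lift ((AdjoinRoot.of (liftPoly f)).comp (C : S →+* S[X]))
      (AdjoinRoot.root (liftPoly f)) (bwd_aux f))
    (AdjoinRoot.of (liftPoly f) X)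

lemma fwd_comp_of : (fwd f).comp (AdjoinRoot.of (liftPoly f)) =
    Polynomial.mapRingHom (AdjoinRoot.of f) := by
  ext <;> simp [fwd]

lemma fwd_comp_bwd : (fwd f).comp (bwd f) = RingHom.id _ := by
  apply Polynomial.ringHom_ext'
  · apply AdjoinRoot.ringHom_ext
    · ext s
      simp [fwd, bwd]
    · simp [fwd, bwd]
  · simp [fwd, bwd]

lemma bwd_comp_fwd : (bwd f).comp (fwd f) = RingHom.id _ := by
  apply AdjoinRoot.ringHom_ext
  · apply Polynomial.ringHom_ext'
    · ext s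
      simp [fwd, bwd]
    · simp [fwd, bwd]
  · simp [fwd, bwd]

/-- `S[X][Y]/(f(Y)) ≃ (S[Y]/(f(Y)))[X]`. -/
noncomputable def polyIso : AdjoinRoot (liftPoly f) ≃+* (AdjoinRoot f)[X] :=
  RingEquiv.ofRingHom (fwd f) (bwd f) (fwd_comp_bwd f) (bwd_comp_fwd f)

theorem isFrob_mapRingHom (hf : f.Monic) :
    IsFrob (Polynomial.mapRingHom (AdjoinRoot.of f)) :=
  (isFrob_adjoinRoot (liftPoly f) (liftPoly_monic f hf)).comp (isFrob_ringEquiv (polyIso f)) _
    (fwd_comp_of f).symm

end PolyIso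

end Groth.Agent.Lib.Helper13.Frob
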