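import Groth.Agent.Lib.Helper13.MixPerf3
import Groth.Agent.Lib.Helper13.Coind2

/-!
# `RHom(A, -) ≅ - ⊗^L_R RHom(A, R)` for `A` perfect over `R`
-/

set_option autoImplicit false
universe u
open CategoryTheory CategoryTheory.Limits MonoidalCategory

namespace Groth.Agent.Lib.Helper13.MP

open DTen Groth.Agent.Lib.Helper13.DT Groth.Agent.Lib.Helper13.DR Groth.Agent.Lib.Helper13.SF
open Groth.Agent.Lib.Helper13.HOp Groth.Agent.Lib.Helper13.PF Groth.Agent.Lib.Helper13.HT
open Groth.Agent.Lib.Helper13.Coind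
open DerivedCategory

attribute [local instance] HasDerivedCategory.standard

variable (R A : Type u) [CommRing R] [CommRing A] [Algebra R A]

/-- `res (A[0]) ≅ Q(A[0])` in `D(R)`. -/
noncomputable def restrictUnitIso :
    (DRing.restrictD (algebraMap R A)).obj (DTen.unit A) ≅ Q.obj (singleB R A) :=
  (resFactors (algebraMap R A)).app (𝟙_ (DRing.Cx A)) ≪≫
    Q.mapIso ((HomologicalComplex.singleMapHomologicalComplex
      (ModuleCat.restrictScalars.{u} (algebraMap R A)) (ComplexShape.up ℤ) 0).app (ModuleCat.of A A) ≪≫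
      (HomologicalComplex.single (ModuleCat.{u} R) (ComplexShape.up ℤ) 0).mapIso
        (restrictSelfIso (A := R) (B := A)))

theorem nonempty_RHomRel_iso [HasRHomRel (algebraMap R A)] [HasLTenMix (algebraMap R A)]
    (hA : DRing.IsPerfect R ((DRing.restrictD (algebraMap R A)).obj (DTen.unit A))) :
    Nonempty (RHomRel (algebraMap R A) ≅
      (Functor.curry.obj (LTenMix (algebraMap R A))).flip.obj
        ((RHomRel (algebraMap R A)).obj (DTen.unit R))) := by
  obtain ⟨J, i, hJ, hi⟩ := hasKInjRes (A := R) (𝟙_ (DRing.Cx R))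
  have hperf : DRing.IsPerfect R (Q.obj (singleB R A)) := by
    obtain ⟨E, a, b, h1, h2, ⟨e⟩⟩ := hA
    exact ⟨E, a, b, h1, h2, ⟨e ≪≫ restrictUnitIso R A⟩⟩
  have := isIso_τ (algebraMap R A) J i (fun P _ => isIso_γ_app (A := A) hperf J P)
  let e1 : G₁ (algebraMap R A) ((coextCx (algebraMap R A)).obj J) ≅ Rco (algebraMap R A) :=
    asIso (τ (algebraMap R A) J i)
  let e2 : RHomRel (algebraMap R A) ≅ Rco (algebraMap R A) :=
    uniq (algebraMap R A) (RHomRel (algebraMap R A)) (relAdj (algebraMap R A))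
  have : IsIso (Q.map i) := by
    rw [isIso_Q_map_iff_quasiIso]
    exact hi
  let e3 : (RHomRel (algebraMap R A)).obj (DTen.unit R) ≅
      Q.obj ((coextCx (algebraMap R A)).obj J) :=
    e2.app (DTen.unit R) ≪≫ (Rco (algebraMap R A)).mapIso (asIso (Q.map i)) ≪≫
      (RcoIso (algebraMap R A) J).symm
  exact ⟨e2 ≪≫ e1.symm ≪≫
    ((Functor.curry.obj (LTenMix (algebraMap R A))).flip.mapIso e3).symm⟩

end Groth.Agent.Lib.Helper13.MP
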