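import Groth.Agent.Lib.Helper13.Shriek2
import Groth.Agent.Lib.Helper13.MixPerf4
import Groth.Agent.Lib.Helper13.PCProj
import Groth.Agent.Lib.Helper13.KProjCone

/-!
# Global instances for the binders of the mixed derived tensor product
-/

set_option autoImplicit false
set_option linter.unusedSectionVars false
set_option linter.style.haveILetI false

universe u
open CategoryTheory CategoryTheory.Limits MonoidalCategory

namespace Groth.Agent.Lib.Helper13.GM

open DTen Groth.Agent.Lib.Helper13.DT Groth.Agent.Lib.Helper13.DR Groth.Agent.Lib.Helper13.SF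
open Groth.Agent.Lib.Helper13.Coind Groth.Agent.Lib.Helper13.DerAbsL
open DerivedCategory

attribute [local instance] HasDerivedCategory.standard

variable {R A : Type u} [CommRing R] [CommRing A] (φ : R →+* A)

/-- pairs of K-projective complexes -/
def PMix : DRing.Cx R × DRing.Cx A → Prop :=
  fun X => CochainComplex.IsKProjective X.1 ∧ CochainComplex.IsKProjective X.2

lemma isColocalObj_QMix (X : DRing.Cx R × DRing.Cx A) (hX : PMix X) :
    IsColocalObj (QMix R A) X := by
  obtain ⟨h1, h2⟩ := hX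
  rintro ⟨K, N⟩ ⟨f, g⟩
  obtain ⟨f', hf'⟩ := Groth.Agent.Lib.Helper13.KP.exists_Q_map_eq (K := X.1) (L := K) f
  obtain ⟨g', hg'⟩ := Groth.Agent.Lib.Helper13.KP.exists_Q_map_eq (K := X.2) (L := N) g
  refine ⟨(Prod.mkHom f' g' : X ⟶ (K, N)), ?_⟩
  change (Prod.mkHom (Q.map f') (Q.map g') : ((QMix R A).obj X ⟶ (QMix R A).obj (K, N))) = _
  rw [hf', hg']

lemma enoughColocal_QMix : EnoughColocal (QMix R A) (qisMix R A) (PMix (R := R) (A := A)) := by
  rintro ⟨K, N⟩
  obtain ⟨P, f, hP, -, hf⟩ := exists_kprojective_resolution K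
  obtain ⟨P', f', hP', -, hf'⟩ := exists_kprojective_resolution N
  refine ⟨(P, P'), (Prod.mkHom f f' : (P, P') ⟶ (K, N)), ⟨?_, ?_⟩, ⟨hP, hP'⟩,
    isColocalObj_QMix _ ⟨hP, hP'⟩⟩
  · exact hf
  · exact hf'

lemma compat_QMix : Compat (QMix R A) (PMix (R := R) (A := A)) (mix₂ φ) := by
  rintro ⟨I, I'⟩ ⟨K, N⟩ ⟨f, g⟩ ⟨f', g'⟩ ⟨hI, hI'⟩ h
  have h1 : Q.map f = Q.map f' := congrArg Prod.fst h
  have h2 : Q.map g = Q.map g' := congrArg Prod.snd h
  haveI : CochainComplex.IsKProjective I := hI
  haveI : CochainComplex.IsKProjective I' := hI'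
  have e1 := Groth.Agent.Lib.Helper13.PC.exists_homotopy_of_Q_map_eq f f' h1
  have e2 := Groth.Agent.Lib.Helper13.PC.exists_homotopy_of_Q_map_eq g g' h2
  obtain ⟨H⟩ := nonempty_homotopy_mixT_map φ e1 e2
  dsimp only [mix₂, Functor.comp_map]
  exact DerivedCategory.Q_map_eq_of_homotopy _ H

/-- The mixed derived tensor product exists along every ring map. -/
instance hasLTenMix : HasLTenMix φ :=
  DerAbsL.hasLeftDerivedFunctor (L := QMix R A) (W := qisMix R A) enoughColocal_QMix
    (compat_QMix φ)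

/-- Restriction of scalars on derived categories has a right adjoint. -/
instance hasRHomRel : HasRHomRel φ := ⟨(Coind.adj φ).isLeftAdjoint⟩

/-- Restriction of scalars on derived categories has a left adjoint. -/
instance hasLBase : HasLBase φ := ⟨(LBaseChangeAdj φ).isRightAdjoint⟩

end Groth.Agent.Lib.Helper13.GM
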