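import Groth.Agent.Lib.Helper13.TorAmpRes

set_option autoImplicit false
universe u
open CategoryTheory CategoryTheory.Limits MonoidalCategory Pretriangulated Opposite

namespace Groth.Agent.Lib.Helper13.DV

open DTen Groth.Agent.Lib.Helper13.SF Groth.Agent.Lib.Helper13.DT Groth.Agent.Lib.Helper13.DR
  Groth.Agent.Lib.Helper13.HT Groth.Agent.Lib.Helper13.RE Groth.Agent.Lib.Helper13.PC

attribute [local instance] HasDerivedCategory.standard

section V

variable {A : Type u} [CommRing A] (E : DRing.Cx A)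

/-- A quasi-isomorphism between K-flat complexes stays one after tensoring on the right. -/
lemma quasiIso_whiskerRight_of_kflat_kflat {P P' : DRing.Cx A} (α : P ⟶ P') (hP : KFlat P)
    (hP' : KFlat P') [QuasiIso α] (L : DRing.Cx A) : QuasiIso (α ▷ L) := by
  have h := quasiIso_whiskerLeft_of_kflat α hP hP' L
  have e : α ▷ L = (DTen.braidCx L P).inv ≫ (L ◁ α) ≫ (DTen.braidCx L P').hom := by
    rw [whiskerLeft_eq_braid]
    simp
  rw [e]
  infer_instance

variable [DRing.HasLTensorCx A E]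

/-- The counit of the derived tensor product with a complex. -/
noncomputable abbrev LTensorCxCounit : DerivedCategory.Q ⋙ DRing.LTensorCx A E ⟶ DRing.tensorCxQ A E :=
  (DRing.tensorCxQ A E).totalLeftDerivedCounit DerivedCategory.Q
    (HomologicalComplex.quasiIso (ModuleCat.{u} A) (ComplexShape.up ℤ))

/-- **Theorem V** for `- ⊗^L E`. -/
theorem isIso_LTensorCxCounit_app_of_isKProjective (P : DRing.Cx A) [P.IsKProjective] :
    IsIso ((LTensorCxCounit E).app P) := by
  have : (DRing.LTensorCx A E).IsRightKanExtension (LTensorCxCounit E) :=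
    Functor.IsLeftDerivedFunctor.isRightKanExtension _ _
      (W := HomologicalComplex.quasiIso (ModuleCat.{u} A) (ComplexShape.up ℤ))
  refine isIso_counit_app_of_lifting DerivedCategory.Q (DRing.tensorCxQ A E)
    (DRing.LTensorCx A E) (LTensorCxCounit E) P ?_ ?_
  · intro X f
    exact KP.exists_Q_map_eq (K := P) (L := X) f
  · intro X f g h
    have e := Q_map_tensorHom_eq (exists_homotopy_of_Q_map_eq f g h)
      (⟨Homotopy.refl (𝟙 E)⟩ : Nonempty (Homotopy (𝟙 E) (𝟙 E)))
    rw [tensorHom_id, tensorHom_id] at e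
    exact e

/-- `QP ⊗^L E ≅ Q(P ⊗ E)` for K-projective `P`. -/
noncomputable def LTensorCxIso (P : DRing.Cx A) [P.IsKProjective] :
    (DRing.LTensorCx A E).obj (DerivedCategory.Q.obj P) ≅ DerivedCategory.Q.obj (P ⊗ E) :=
  @asIso _ _ _ _ ((LTensorCxCounit E).app P) (isIso_LTensorCxCounit_app_of_isKProjective E P)

/-- `QF ⊗^L E ≅ Q(F ⊗ E)` for K-flat `F`. -/
lemma nonempty_LTensorCx_iso_of_kflat (F : DRing.Cx A) (hF : KFlat F) :
    Nonempty ((DRing.LTensorCx A E).obj (DerivedCategory.Q.obj F) ≅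
      DerivedCategory.Q.obj (F ⊗ E)) := by
  have h1 : IsIso (DerivedCategory.Q.map (resMap F)) := by
    rw [DerivedCategory.isIso_Q_map_iff_quasiIso]; infer_instance
  have q := quasiIso_whiskerRight_of_kflat_kflat (resMap F) (isKFlat_of_isKProjective (res F)) hF E
  have h2 : IsIso (DerivedCategory.Q.map (resMap F ▷ E)) := by
    rw [DerivedCategory.isIso_Q_map_iff_quasiIso]; exact q
  exact ⟨((DRing.LTensorCx A E).mapIso (asIso (DerivedCategory.Q.map (resMap F)))).symm ≪≫
    LTensorCxIso E (res F) ≪≫ asIso (DerivedCategory.Q.map (resMap F ▷ E))⟩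

/-- For K-flat `F`, the class of `F ⊗ X` only depends on the class of `X`. -/
lemma nonempty_iso_Q_tensor_of_iso_right (F : DRing.Cx A) (hF : KFlat F) (X X' : DRing.Cx A)
    (e : DerivedCategory.Q.obj X ≅ DerivedCategory.Q.obj X') :
    Nonempty (DerivedCategory.Q.obj (F ⊗ X) ≅ DerivedCategory.Q.obj (F ⊗ X')) := by
  obtain ⟨ψ, hψ⟩ := KP.exists_Q_map_eq (DerivedCategory.Q.map (resMap X) ≫ e.hom)
  have h1 : IsIso (DerivedCategory.Q.map (resMap X)) := by
    rw [DerivedCategory.isIso_Q_map_iff_quasiIso]; infer_instance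
  have h2 : IsIso (DerivedCategory.Q.map ψ) := by rw [hψ]; infer_instance
  rw [DerivedCategory.isIso_Q_map_iff_quasiIso] at h2
  have q1 := quasiIso_whiskerLeft_of_kflat_left F hF (resMap X)
  have q2 := quasiIso_whiskerLeft_of_kflat_left F hF ψ
  have i1 : IsIso (DerivedCategory.Q.map (F ◁ resMap X)) := by
    rw [DerivedCategory.isIso_Q_map_iff_quasiIso]; exact q1
  have i2 : IsIso (DerivedCategory.Q.map (F ◁ ψ)) := by
    rw [DerivedCategory.isIso_Q_map_iff_quasiIso]; exact q2
  exact ⟨(asIso (DerivedCategory.Q.map (F ◁ resMap X))).symm ≪≫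
    asIso (DerivedCategory.Q.map (F ◁ ψ))⟩

end V

section S6953

variable {A B : Type u} [CommRing A] [CommRing B] [Algebra A B]

theorem hasTorAmplitudeIn_restrict_LTensorCx
    (K : Dual.D B) (a b c d : ℤ) (hK : DRing.HasTorAmplitudeIn B a b K) (L : DRing.Cx B)
    (hL : DRing.HasTorAmplitudeIn A c d (DRing.toD ((DRing.restrictCx (algebraMap A B)).obj L)))
    [DRing.HasLTensorCx B L] :
    DRing.HasTorAmplitudeIn A (a + c) (b + d)
      ((DRing.restrictD (algebraMap A B)).obj ((DRing.LTensorCx B L).obj K)) := by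
  obtain ⟨F, hFv, hFfl, ⟨eF⟩⟩ := hK
  have hF : KFlat F := Groth.Agent.S6901.result B F b (fun i hi => hFv i (Or.inr hi)) hFfl
  obtain ⟨e₁⟩ := nonempty_LTensorCx_iso_of_kflat L F hF
  have h := hasTorAmplitudeIn_res_tensor (algebraMap A B) F L a b c d hFv hFfl hL
  let e : DerivedCategory.Q.obj ((resCx (algebraMap A B)).obj (F ⊗ L)) ≅
      (DRing.restrictD (algebraMap A B)).obj ((DRing.LTensorCx B L).obj K) :=
    (restrictDQIso (algebraMap A B) (F ⊗ L)).symm ≪≫
      (DRing.restrictD (algebraMap A B)).mapIso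
        (e₁.symm ≪≫ (DRing.LTensorCx B L).mapIso eF)
  exact hasTorAmplitudeIn_of_iso e h

end S6953

end Groth.Agent.Lib.Helper13.DV
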