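import Groth.Agent.Lib.Helper13.GlobalMix1
import Groth.Agent.Lib.Helper13.LTensorCxV
import Groth.Agent.Lib.Helper13.Shriek3

/-!
# `RHom_P(A, M) ≅ (M ⊗^L_P A) ⊗^L_A RHom_P(A, P)` for `A` perfect over `P`
-/

set_option autoImplicit false
set_option linter.unusedSectionVars false
set_option linter.style.haveILetI false

universe u
open CategoryTheory CategoryTheory.Limits MonoidalCategory

namespace Groth.Agent.Lib.Helper13.GM

open DTen Groth.Agent.Lib.Helper13.DT Groth.Agent.Lib.Helper13.DR Groth.Agent.Lib.Helper13.SF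
open Groth.Agent.Lib.Helper13.Coind Groth.Agent.Lib.Helper13.DV Groth.Agent.Lib.Helper13.MP Groth.Agent.Lib.Helper13.HT
open DerivedCategory

attribute [local instance] HasDerivedCategory.standard

section B

variable {P A : Type u} [CommRing P] [CommRing A] (ψ : P →+* A)

/-- The mixed derived tensor product through derived base change and the derived tensor product
with a complex. -/
theorem nonempty_LTenMix_iso_LTensorCx (W₀ : DRing.Cx A) [DRing.HasLTensorCx A W₀] (M : Dual.D P) :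
    Nonempty ((LTenMix ψ).obj (M, Q.obj W₀) ≅
      (DRing.LTensorCx A W₀).obj ((DRing.LBaseChange ψ).obj M)) := by
  obtain ⟨P₀, hP₀, -, ⟨e⟩⟩ := exists_kprojective_rep M
  have h1 : IsIso ((εMix ψ).app (P₀, W₀)) := isIso_εMix_app_left ψ P₀ W₀
  have hK : ((extCx ψ).obj P₀).IsKProjective := isKProjective_extCx ψ P₀
  let i1 : (LTenMix ψ).obj (Q.obj P₀, Q.obj W₀) ≅ Q.obj ((extCx ψ).obj P₀ ⊗ W₀) :=
    asIso ((εMix ψ).app (P₀, W₀))
  let i2 : (DRing.LTensorCx A W₀).obj (Q.obj ((extCx ψ).obj P₀)) ≅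
      Q.obj ((extCx ψ).obj P₀ ⊗ W₀) := LTensorCxIso W₀ ((extCx ψ).obj P₀)
  let i3 : (DRing.LBaseChange ψ).obj (Q.obj P₀) ≅ Q.obj ((extCx ψ).obj P₀) :=
    LBaseChangeIso ψ P₀
  let i0 : (LTenMix ψ).obj (M, Q.obj W₀) ≅ (LTenMix ψ).obj (Q.obj P₀, Q.obj W₀) :=
    (LTenMix ψ).mapIso (Iso.prod e.symm (Iso.refl _))
  exact ⟨i0 ≪≫ i1 ≪≫ i2.symm ≪≫ (DRing.LTensorCx A W₀).mapIso
    (i3.symm ≪≫ (DRing.LBaseChange ψ).mapIso e)⟩

end B

section C

variable {A : Type u} [CommRing A]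

/-- The derived tensor product with a complex only depends on its class, and commutes with shifts
in the fixed variable. -/
theorem nonempty_LTensorCx_shift_iso (W₀ W : DRing.Cx A) [DRing.HasLTensorCx A W₀]
    [DRing.HasLTensorCx A W] (n : ℤ) (e : Q.obj W ≅ (Q.obj W₀)⟦n⟧) (X : Dual.D A) :
    Nonempty (((DRing.LTensorCx A W₀).obj X)⟦n⟧ ≅ (DRing.LTensorCx A W).obj X) := by
  obtain ⟨F, hF, -, ⟨eF⟩⟩ := exists_kprojective_rep X
  have hFl : KFlat F := isKFlat_of_isKProjective F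
  let i1 : (DRing.LTensorCx A W₀).obj (Q.obj F) ≅ Q.obj (F ⊗ W₀) := LTensorCxIso W₀ F
  let i2 : (DRing.LTensorCx A W).obj (Q.obj F) ≅ Q.obj (F ⊗ W) := LTensorCxIso W F
  let c : F ⊗ (W₀⟦n⟧) ≅ (F ⊗ W₀)⟦n⟧ :=
    CochainComplex.mapBifunctorShift₂Iso F W₀ (curriedTensor (ModuleCat.{u} A)) n
  let e' : Q.obj (W₀⟦n⟧) ≅ Q.obj W := (Q.commShiftIso n).app W₀ ≪≫ e.symm
  obtain ⟨i3⟩ := nonempty_iso_Q_tensor_of_iso_right F hFl (W₀⟦n⟧) W e'
  exact ⟨(shiftFunctor (Dual.D A) n).mapIso ((DRing.LTensorCx A W₀).mapIso eF.symm ≪≫ i1) ≪≫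
    ((Q.commShiftIso n).app (F ⊗ W₀)).symm ≪≫ Q.mapIso c.symm ≪≫ i3 ≪≫ i2.symm ≪≫
    (DRing.LTensorCx A W).mapIso eF⟩

end C

section A

variable (P A : Type u) [CommRing P] [CommRing A] [Algebra P A]

/-- **`RHom_P(A, M) ≅ (M ⊗^L_P A) ⊗^L_A RHom_P(A, P)`** for `A` perfect over `P`. -/
theorem nonempty_Rco_iso_LTensorCx (hperf : DRing.IsPerfectModule P A) (W₀ : DRing.Cx A)
    [DRing.HasLTensorCx A W₀]
    (e₀ : Q.obj W₀ ≅ (Rco (algebraMap P A)).obj (Dual.inD P P)) (M : Dual.D P) :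
    Nonempty ((Rco (algebraMap P A)).obj M ≅
      (DRing.LTensorCx A W₀).obj ((DRing.LBaseChange (algebraMap P A)).obj M)) := by
  have hA : DRing.IsPerfect P ((DRing.restrictD (algebraMap P A)).obj (DTen.unit A)) := by
    obtain ⟨E, a, b, h1, h2, ⟨e⟩⟩ := hperf
    exact ⟨E, a, b, h1, h2, ⟨e ≪≫
      ((DerivedCategory.singleFunctorIsoCompQ (ModuleCat.{u} P) 0).app (ModuleCat.of P A)) ≪≫
      (restrictUnitIso P A).symm⟩⟩
  obtain ⟨i⟩ := nonempty_RHomRel_iso P A hA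
  let e2 : RHomRel (algebraMap P A) ≅ Rco (algebraMap P A) :=
    uniq (algebraMap P A) (RHomRel (algebraMap P A)) (relAdj (algebraMap P A))
  let u : DTen.unit P ≅ Dual.inD P P :=
    ((DerivedCategory.singleFunctorIsoCompQ (ModuleCat.{u} P) 0).app (ModuleCat.of P P)).symm
  let j : (RHomRel (algebraMap P A)).obj (DTen.unit P) ≅ Q.obj W₀ :=
    e2.app _ ≪≫ (Rco (algebraMap P A)).mapIso u ≪≫ e₀.symm
  obtain ⟨k⟩ := nonempty_LTenMix_iso_LTensorCx (algebraMap P A) W₀ M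
  exact ⟨(e2.symm.app M) ≪≫ i.app M ≪≫
    (LTenMix (algebraMap P A)).mapIso (Iso.prod (Iso.refl M) j) ≪≫ k⟩

end A

end Groth.Agent.Lib.Helper13.GM
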