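import Groth.Agent.Lib.Helper13.PCSingleHom
import Groth.Agent.Lib.Helper13.PCInj
import Groth.Agent.Lib.Helper13.KProjCone
import Groth.Agent.Lib.Helper13.BD1

/-!
# Maps in the derived category out of a module placed in one degree, via cocycles

For a module `M`, a complex `Y` and a degree `n`, the map from `n`-cocycles of `Hom(M, Y)` to
`Hom_{D(A)}(M[-n], Y)` is linear, and it is surjective with kernel the coboundaries when
`M[-n]` is K-projective or `Y` is K-injective.  As a consequence
`Hom_D(A[-n], Hom(N, J)) ≃ Hom_D(N[-n], J)` for `J` K-injective.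
-/

set_option autoImplicit false
set_option linter.style.haveILetI false
set_option linter.unusedSectionVars false

universe u

open CategoryTheory CategoryTheory.Limits HomologicalComplex DerivedCategory

namespace Groth.Agent.Lib.Helper13.HS

open Groth.Agent.Lib.Helper13.PC Groth.Agent.Lib.Helper13.BD

attribute [local instance] HasDerivedCategory.standard

section Chain

variable {C : Type*} [Category C] [Abelian C] (M : C) (Y : CochainComplex C ℤ) (n : ℤ)

/-- A chain map `M[-n] ⟶ Y` whose component factors through the differential is null-homotopic. -/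
noncomputable def homotopyOfFactor
    (g : (HomologicalComplex.single C (ComplexShape.up ℤ) n).obj M ⟶ Y) (h : M ⟶ Y.X (n - 1))
    (hh : h ≫ Y.d (n - 1) n = (singleObjXSelf (ComplexShape.up ℤ) n M).inv ≫ g.f n) :
    Homotopy g 0 := by
  let hom : ∀ i j, (ComplexShape.up ℤ).Rel j i →
      (((HomologicalComplex.single C (ComplexShape.up ℤ) n).obj M).X i ⟶ Y.X j) := fun i j hij =>
    if hi : i = n then (singleObjXIsoOfEq (ComplexShape.up ℤ) n M i hi).hom ≫ h ≫
        eqToHom (by congr 1; simp at hij; lia) else 0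
  have e : g = Homotopy.nullHomotopicMap' hom := by
    apply from_single_hom_ext
    rw [Homotopy.nullHomotopicMap'_f (show (ComplexShape.up ℤ).Rel (n - 1) n by simp)
      (show (ComplexShape.up ℤ).Rel n (n + 1) by simp)]
    simp only [single_obj_d, zero_comp, zero_add, hom, dif_pos rfl, eqToHom_refl, Category.comp_id,
      Category.assoc]
    rw [hh]
    simp [singleObjXIsoOfEq, singleObjXSelf]
  rw [e]
  exact Homotopy.nullHomotopy' hom

/-- A null-homotopic chain map `M[-n] ⟶ Y` has its component factoring through the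
differential. -/
lemma exists_factor_of_homotopy
    (g : (HomologicalComplex.single C (ComplexShape.up ℤ) n).obj M ⟶ Y) (hh : Homotopy g 0) :
    ∃ h : M ⟶ Y.X (n - 1),
      h ≫ Y.d (n - 1) n = (singleObjXSelf (ComplexShape.up ℤ) n M).inv ≫ g.f n := by
  have h1 := hh.comm n
  rw [dNext_eq hh.hom (show (ComplexShape.up ℤ).Rel n (n + 1) from rfl),
    prevD_eq hh.hom (show (ComplexShape.up ℤ).Rel (n - 1) n by simp), single_obj_d, zero_comp,
    HomologicalComplex.zero_f, add_zero, zero_add] at h1
  exact ⟨(singleObjXSelf (ComplexShape.up ℤ) n M).inv ≫ hh.hom n (n - 1), by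
    rw [Category.assoc, ← h1]⟩

end Chain

section Mod

variable {A : Type u} [CommRing A] (M : ModuleCat.{u} A) (Y : DRing.Cx A) (n : ℤ)

/-- The cocycles of degree `n` of `Hom(M, Y)`. -/
def Zc : Submodule A (M ⟶ Y.X n) := LinearMap.ker (Linear.rightComp A M (Y.d n (n + 1)))

/-- The coboundaries of degree `n` of `Hom(M, Y)`. -/
def Bc : Submodule A (M ⟶ Y.X n) := LinearMap.range (Linear.rightComp A M (Y.d (n - 1) n))

lemma mem_Zc (f : M ⟶ Y.X n) : f ∈ Zc M Y n ↔ f ≫ Y.d n (n + 1) = 0 := Iff.rfl

lemma mem_Bc (f : M ⟶ Y.X n) : f ∈ Bc M Y n ↔ ∃ g : M ⟶ Y.X (n - 1), g ≫ Y.d (n - 1) n = f :=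
  Iff.rfl

/-- The chain map attached to a cocycle. -/
noncomputable def toCx (f : Zc M Y n) :
    (HomologicalComplex.single (ModuleCat.{u} A) (ComplexShape.up ℤ) n).obj M ⟶ Y :=
  mkHomFromSingle f.1 (fun k hk => by
    have hk' : n + 1 = k := hk
    subst hk'
    exact f.2)

lemma toCx_f (f : Zc M Y n) :
    (toCx M Y n f).f n = (singleObjXSelf (ComplexShape.up ℤ) n M).hom ≫ f.1 :=
  mkHomFromSingle_f _ _

lemma toCx_add (f g : Zc M Y n) : toCx M Y n (f + g) = toCx M Y n f + toCx M Y n g := by
  apply from_single_hom_ext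
  rw [HomologicalComplex.add_f_apply, toCx_f, toCx_f, toCx_f, Submodule.coe_add,
    Preadditive.comp_add]

lemma toCx_smul (a : A) (f : Zc M Y n) : toCx M Y n (a • f) = a • toCx M Y n f := by
  apply from_single_hom_ext
  rw [HomologicalComplex.smul_f_apply, toCx_f, toCx_f, Submodule.coe_smul, Linear.comp_smul]

lemma eq_toCx (g : (HomologicalComplex.single (ModuleCat.{u} A) (ComplexShape.up ℤ) n).obj M ⟶ Y) :
    ∃ f : Zc M Y n, toCx M Y n f = g := by
  refine ⟨⟨(singleObjXSelf (ComplexShape.up ℤ) n M).inv ≫ g.f n, ?_⟩, ?_⟩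
  · rw [mem_Zc, Category.assoc, g.comm, single_obj_d, zero_comp, comp_zero]
  · apply from_single_hom_ext
    rw [toCx_f, Iso.hom_inv_id_assoc]

/-- The class of a cocycle in the derived category. -/
noncomputable def cl : Zc M Y n →ₗ[A]
    ((DerivedCategory.singleFunctor (ModuleCat.{u} A) n).obj M ⟶ (Q.obj Y : Dual.D A)) where
  toFun f := (singleIsoQ n M).hom ≫ Q.map (toCx M Y n f)
  map_add' f g := by rw [toCx_add, Functor.map_add, Preadditive.comp_add]
  map_smul' a f := by
    rw [toCx_smul, Functor.map_smul, Linear.comp_smul]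
    rfl

lemma cl_apply (f : Zc M Y n) : cl M Y n f = (singleIsoQ n M).hom ≫ Q.map (toCx M Y n f) := rfl

lemma cl_surjective
    (h : CochainComplex.IsKProjective
        ((HomologicalComplex.single (ModuleCat.{u} A) (ComplexShape.up ℤ) n).obj M) ∨
      CochainComplex.IsKInjective Y) : Function.Surjective (cl M Y n) := by
  intro ψ
  have : ∃ g, Q.map g = (singleIsoQ n M).inv ≫ ψ := by
    rcases h with h | h
    · haveI := h
      exact KP.exists_Q_map_eq _
    · haveI := h
      exact exists_Q_map_eq_of_isKInjective _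
  obtain ⟨g, hg⟩ := this
  obtain ⟨f, rfl⟩ := eq_toCx M Y n g
  exact ⟨f, by rw [cl_apply, hg, Iso.hom_inv_id_assoc]⟩

lemma cl_eq_zero_iff
    (h : CochainComplex.IsKProjective
        ((HomologicalComplex.single (ModuleCat.{u} A) (ComplexShape.up ℤ) n).obj M) ∨
      CochainComplex.IsKInjective Y) (f : Zc M Y n) : cl M Y n f = 0 ↔ f.1 ∈ Bc M Y n := by
  rw [mem_Bc]
  constructor
  · intro h0
    have h1 : Q.map (toCx M Y n f) = Q.map 0 := by
      rw [Functor.map_zero, ← cancel_epi (singleIsoQ n M).hom, ← cl_apply, h0, comp_zero]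
    have : Nonempty (Homotopy (toCx M Y n f) 0) := by
      rcases h with h | h
      · haveI := h
        exact KP.nonempty_homotopy_of_Q_map_eq h1
      · haveI := h
        exact exists_homotopy_of_Q_map_eq_of_isKInjective _ _ h1
    obtain ⟨hh⟩ := this
    obtain ⟨g, hg⟩ := exists_factor_of_homotopy M Y n _ hh
    exact ⟨g, by rw [hg, toCx_f, Iso.inv_hom_id_assoc]⟩
  · rintro ⟨g, hg⟩
    have hh : Homotopy (toCx M Y n f) 0 := homotopyOfFactor M Y n _ g (by
      rw [hg, toCx_f, Iso.inv_hom_id_assoc])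
    rw [cl_apply, KP.Q_map_eq_of_homotopy hh, Functor.map_zero, comp_zero]

end Mod

end Groth.Agent.Lib.Helper13.HS
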