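import Groth.Agent.Lib.Helper13.HS1
import Groth.Agent.Lib.Helper13.DualBC37

/-!
# The cohomology of the dual complex `Hom(N, J)` for `J` K-injective
-/

set_option autoImplicit false
set_option linter.style.haveILetI false
set_option linter.unusedSectionVars false

universe u

open CategoryTheory CategoryTheory.Limits HomologicalComplex DerivedCategory

namespace Groth.Agent.Lib.Helper13.HS

open Groth.Agent.Lib.Helper13.PC Groth.Agent.Lib.Helper13.BD Groth.Agent.Lib.Helper13.DualBC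
  Groth.Agent.Lib.Helper13.HomBC

attribute [local instance] HasDerivedCategory.standard

section Abstract

variable {A : Type*} [CommRing A] {V H₁ H₂ : Type*} [AddCommGroup V] [Module A V]
  [AddCommGroup H₁] [Module A H₁] [AddCommGroup H₂] [Module A H₂]

lemma nonempty_equiv_of_ker_eq (c₁ : V →ₗ[A] H₁) (c₂ : V →ₗ[A] H₂)
    (h₁ : Function.Surjective c₁) (h₂ : Function.Surjective c₂)
    (hk : LinearMap.ker c₁ = LinearMap.ker c₂) : Nonempty (H₁ ≃ₗ[A] H₂) :=
  ⟨(c₁.quotKerEquivOfSurjective h₁).symm ≪≫ₗ Submodule.quotEquivOfEq _ _ hk ≪≫ₗ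
    c₂.quotKerEquivOfSurjective h₂⟩

end Abstract

section DmCompare

variable {A : Type u} [CommRing A] (J : DRing.Cx A) (N : ModuleCat.{u} A)

/-- `Hom(N, J^p) → Hom(A, Hom(N, J^p))`. -/
noncomputable def Θ (p : ℤ) : (N ⟶ J.X p) →ₗ[A] (ModuleCat.of A A ⟶ (Dm J N).X p) where
  toFun f := (ModuleCat.ofHom (LinearMap.toSpanSingleton A (N →ₗ[A] J.X p) f.hom) :
    ModuleCat.of A A ⟶ ModuleCat.of A (N →ₗ[A] J.X p))
  map_add' f g := by
    refine ModuleCat.hom_ext (LinearMap.ext fun a => ?_)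
    change a • (f + g).hom = a • f.hom + a • g.hom
    rw [ModuleCat.hom_add, smul_add]
  map_smul' c f := by
    refine ModuleCat.hom_ext (LinearMap.ext fun a => ?_)
    change a • (c • f).hom = c • (a • f.hom)
    rw [ModuleCat.hom_smul, smul_comm]

lemma Θ_hom_apply (p : ℤ) (f : N ⟶ J.X p) (a : A) :
    toLin J ((Θ J N p f).hom a) = a • f.hom := rfl

lemma Θ_injective (p : ℤ) : Function.Injective (Θ J N p) := by
  intro f g h
  have h1 := Θ_hom_apply J N p f 1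
  have h2 := Θ_hom_apply J N p g 1
  rw [h, h2, one_smul, one_smul] at h1
  exact ModuleCat.hom_ext h1.symm

lemma Θ_surjective (p : ℤ) : Function.Surjective (Θ J N p) := by
  intro F
  refine ⟨ModuleCat.ofHom (toLin J (F.hom (1 : A))), ?_⟩
  refine ModuleCat.hom_ext (LinearMap.ext fun a => ?_)
  change a • toLin J (F.hom (1 : A)) = F.hom a
  have : F.hom a = a • F.hom (1 : A) := by
    rw [← map_smul, smul_eq_mul, mul_one]
  rw [this]
  rfl

lemma Θ_comp_d (p q : ℤ) (f : N ⟶ J.X p) :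
    Θ J N p f ≫ (Dm J N).d p q = Θ J N q (f ≫ J.d p q) := by
  refine ModuleCat.hom_ext (LinearMap.ext fun a => ?_)
  refine Dm_ext J _ _ (fun x => ?_)
  change (J.d p q).hom ((a • f.hom) x) = (a • (f ≫ J.d p q).hom) x
  rw [LinearMap.smul_apply, LinearMap.smul_apply, map_smul]
  rfl

variable (n : ℤ)

/-- `Θ` on cocycles. -/
noncomputable def ΘZ : Zc N J n →ₗ[A] Zc (ModuleCat.of A A) (Dm J N) n :=
  LinearMap.codRestrict _ (Θ J N n ∘ₗ (Zc N J n).subtype) (fun f => by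
    rw [mem_Zc]
    change Θ J N n f.1 ≫ _ = 0
    rw [Θ_comp_d, (mem_Zc N J n f.1).1 f.2, map_zero])

lemma ΘZ_coe (f : Zc N J n) : (ΘZ J N n f).1 = Θ J N n f.1 := rfl

lemma ΘZ_surjective : Function.Surjective (ΘZ J N n) := by
  intro F
  obtain ⟨f, hf⟩ := Θ_surjective J N n F.1
  have hfZ : f ∈ Zc N J n := by
    rw [mem_Zc]
    apply Θ_injective J N (n + 1)
    rw [← Θ_comp_d, hf, map_zero]
    exact (mem_Zc _ _ n F.1).1 F.2
  exact ⟨⟨f, hfZ⟩, Subtype.ext hf⟩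

/-- The class map to `Hom_D(A[-n], Hom(N, J))`. -/
noncomputable def c₁ : Zc N J n →ₗ[A]
    ((DerivedCategory.singleFunctor (ModuleCat.{u} A) n).obj (ModuleCat.of A A) ⟶
      (Q.obj (Dm J N) : Dual.D A)) :=
  cl (ModuleCat.of A A) (Dm J N) n ∘ₗ ΘZ J N n

instance : Projective (ModuleCat.of A A) := (DR.projective_iff _).2 inferInstance

lemma c₁_surjective : Function.Surjective (c₁ J N n) :=
  (cl_surjective _ _ n (Or.inl inferInstance)).comp (ΘZ_surjective J N n)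

lemma c₁_eq_zero_iff (f : Zc N J n) : c₁ J N n f = 0 ↔ f.1 ∈ Bc N J n := by
  change cl _ _ n (ΘZ J N n f) = 0 ↔ _
  rw [cl_eq_zero_iff _ _ n (Or.inl inferInstance), mem_Bc, mem_Bc, ΘZ_coe]
  constructor
  · rintro ⟨G, hG⟩
    obtain ⟨g, rfl⟩ := Θ_surjective J N (n - 1) G
    rw [Θ_comp_d] at hG
    exact ⟨g, Θ_injective J N n hG⟩
  · rintro ⟨g, hg⟩
    exact ⟨Θ J N (n - 1) g, by rw [Θ_comp_d, hg]⟩

/-- `Hom_D(A[-n], Hom(N, J)) ≃ Hom_D(N[-n], J)` for `J` K-injective. -/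
theorem nonempty_equiv [J.IsKInjective] :
    Nonempty (((DerivedCategory.singleFunctor (ModuleCat.{u} A) n).obj (ModuleCat.of A A) ⟶
      (Q.obj (Dm J N) : Dual.D A)) ≃ₗ[A]
      ((DerivedCategory.singleFunctor (ModuleCat.{u} A) n).obj N ⟶ (Q.obj J : Dual.D A))) := by
  refine nonempty_equiv_of_ker_eq (c₁ J N n) (cl N J n) (c₁_surjective J N n)
    (cl_surjective _ _ n (Or.inr inferInstance)) ?_
  ext f
  rw [LinearMap.mem_ker, LinearMap.mem_ker, c₁_eq_zero_iff,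
    cl_eq_zero_iff _ _ n (Or.inr inferInstance)]

/-- `H^j(Hom(N, J)) ≃ Hom_D(N, J[j])` for `J` K-injective. -/
theorem nonempty_HD_equiv [J.IsKInjective] (M : Type u) [AddCommGroup M] [Module A M] (j : ℤ) :
    Nonempty (Dual.HD A (Q.obj (Dm J (ModuleCat.of A M))) j ≃ₗ[A]
      (Dual.inD A M ⟶ (Q.obj J : Dual.D A)⟦j⟧)) := by
  obtain ⟨e⟩ := nonempty_equiv J (ModuleCat.of A M) j
  exact ⟨(evHEquiv j (Q.obj (Dm J (ModuleCat.of A M)))).symm ≪≫ₗ e ≪≫ₗ
    ((shiftHomLinearEquiv (Dual.inD A M) (Q.obj J) j).symm.trans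
    (Linear.homCongr A
      (((DerivedCategory.singleFunctors (ModuleCat.{u} A)).shiftIso (-j) j 0 (by simp)).app
        (ModuleCat.of A M)) (Iso.refl _))).symm⟩

end DmCompare

end Groth.Agent.Lib.Helper13.HS
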