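import Groth.Agent.Lib.Helper13.LD1
import Groth.Agent.Lib.Helper13.FinLenDual2
import Groth.Agent.Lib.Helper25.Matlis
import Groth.Agent.Lib.Helper25.MatlisArtin
import Groth.Agent.Lib.Helper25.MatlisDual

/-!
# Local cohomology of a normalized dualizing complex: `colim_n Hom_D(A/m^n, ω) ≅ E`
-/

set_option autoImplicit false
set_option linter.style.haveILetI false
set_option linter.unusedSectionVars false
universe u
open CategoryTheory CategoryTheory.Limits Opposite Pretriangulated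

namespace Groth.Agent.Lib.Helper13.LD

open Groth.Agent.Lib.Helper2.RGColim Groth.Agent.Lib.Helper25
open DerivedCategory InjHull IsLocalRing

attribute [local instance] HasDerivedCategory.standard

section Generic

variable {D : Type*} [Category D] [Preadditive D] [HasZeroObject D] [HasShift D ℤ]
  [∀ n : ℤ, (shiftFunctor D n).Additive] [Pretriangulated D]

lemma eq_zero_of_subsingleton_neg_one (Z W : D) (h : Subsingleton (Z ⟶ W⟦(-1 : ℤ)⟧))
    (g : Z⟦(1 : ℤ)⟧ ⟶ W) : g = 0 := by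
  have h1 : (shiftShiftNeg Z (1 : ℤ)).inv ≫ g⟦(-1 : ℤ)⟧' = 0 := Subsingleton.elim _ _
  have h2 : g⟦(-1 : ℤ)⟧' = 0 := by
    rw [← cancel_epi (shiftShiftNeg Z (1 : ℤ)).inv, h1, comp_zero]
  exact (shiftFunctor D (-1 : ℤ)).map_injective (h2.trans (Functor.map_zero _ _ _).symm)

end Generic

variable (A : Type u) [CommRing A] [IsLocalRing A] [IsNoetherianRing A]
  (ω : Dual.D A)

lemma subsingleton_hom_finLen (hn : Dual.IsNormalized A ω)
    (M : Type u) [AddCommGroup M] [Module A M] (hM : IsFiniteLength A M) (j : ℤ) (hj : j ≠ 0) :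
    Subsingleton (Dual.inD A M ⟶ ω⟦j⟧) :=
  DualBC.subsingleton_hom_of_isFiniteLength (ω⟦j⟧) (fun m hm => by
    rw [IsLocalRing.eq_maximalIdeal hm]
    exact hn j hj) M hM

/-- The local cohomology of a normalized dualizing complex vanishes in nonzero degrees. -/
theorem subsingleton_HDI (hn : Dual.IsNormalized A ω) (i : ℤ) (hi : i ≠ 0) :
    Subsingleton (Dual2.HDI A (maximalIdeal A) ω i) := by
  have key : ∀ x : Colim (maximalIdeal A) (ω⟦i⟧), x = 0 := by
    intro x
    obtain ⟨n, φ, rfl⟩ := ιn_jointly_surjective (maximalIdeal A) (ω⟦i⟧) x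
    have h1 : Subsingleton (Dual.inD A (A ⧸ maximalIdeal A ^ n) ⟶ ω⟦i⟧) :=
      subsingleton_hom_finLen A ω hn (A ⧸ maximalIdeal A ^ n) (isFiniteLength_quotient_pow n) i hi
    have h2 : φ = 0 := h1.elim _ _
    rw [h2, map_zero]
  exact ⟨fun x y => (key x).trans (key y).symm⟩

/-- The transition maps `Hom_D(A/m^n, ω) → Hom_D(A/m^m, ω)` are injective. -/
lemma tr_injective (hn : Dual.IsNormalized A ω) {n m : ℕ} (h : n ≤ m) :
    Function.Injective (tr (maximalIdeal A) ω h) := by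
  rw [injective_iff_map_eq_zero]
  intro φ hφ
  let K : Submodule A (N (maximalIdeal A) m) := LinearMap.ker (proj (maximalIdeal A) h).hom
  let S : ShortComplex (ModuleCat.{u} A) :=
    ShortComplex.mk (ModuleCat.ofHom K.subtype : ModuleCat.of A K ⟶ N (maximalIdeal A) m)
      (proj (maximalIdeal A) h) (by
        refine ModuleCat.hom_ext (LinearMap.ext fun x => ?_)
        exact x.2)
  have hS : S.ShortExact := by
    refine { exact := ?_, mono_f := ?_, epi_g := ?_ }
    · rw [ShortComplex.ShortExact.moduleCat_exact_iff_function_exact]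
      exact LinearMap.exact_subtype_ker_map _
    · rw [ModuleCat.mono_iff_injective]
      exact K.injective_subtype
    · rw [ModuleCat.epi_iff_surjective]
      intro y
      obtain ⟨a, rfl⟩ := Submodule.Quotient.mk_surjective _ y
      exact ⟨Submodule.Quotient.mk a, rfl⟩
  obtain ⟨g, hg⟩ := Triangle.yoneda_exact₃ _ hS.singleTriangle_distinguished φ hφ
  have hK : IsFiniteLength A K := by
    have hm : IsFiniteLength A (A ⧸ maximalIdeal A ^ m) := isFiniteLength_quotient_pow m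
    rw [isFiniteLength_iff_isNoetherian_isArtinian] at hm ⊢
    obtain ⟨h1, h2⟩ := hm
    have h1' : IsNoetherian A (N (maximalIdeal A) m) := h1
    have h2' : IsArtinian A (N (maximalIdeal A) m) := h2
    exact ⟨inferInstance, inferInstance⟩
  have h0 : g = 0 := eq_zero_of_subsingleton_neg_one _ _
    (subsingleton_hom_finLen A ω hn K hK (-1) (by decide)) g
  rw [hg, h0]
  exact comp_zero

lemma ιn_injective (hn : Dual.IsNormalized A ω) (n : ℕ) :
    Function.Injective (ιn (maximalIdeal A) ω n) := by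
  rw [injective_iff_map_eq_zero]
  intro φ hφ
  obtain ⟨m, h, h0⟩ := (ιn_eq_zero_iff (maximalIdeal A) ω n φ).1 hφ
  exact (injective_iff_map_eq_zero _).1 (tr_injective A ω hn h) φ h0

/-- `Hom_D(A/m^n, ω)` is killed by `m^n`. -/
lemma smul_Dn_eq_zero (n : ℕ) (a : A) (ha : a ∈ maximalIdeal A ^ n)
    (φ : Dn (maximalIdeal A) ω n) : a • φ = 0 := by
  have h1 : a • 𝟙 (N (maximalIdeal A) n) = 0 := by
    apply hom_ext_N
    change a • one (maximalIdeal A) n = (0 : N (maximalIdeal A) n ⟶ N (maximalIdeal A) n).hom _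
    rw [smul_one_eq_zero _ n a ha]
    rfl
  have h2 : a • φ = (DerivedCategory.singleFunctor (ModuleCat.{u} A) 0).map
      (a • 𝟙 (N (maximalIdeal A) n)) ≫ φ := by
    rw [Functor.map_smul, CategoryTheory.Functor.map_id, Linear.smul_comp, Category.id_comp]
  rw [h2, h1, Functor.map_zero, zero_comp]

variable (hω : Dual.IsDualizing A ω) (hn : Dual.IsNormalized A ω)
  (E : Type u) [AddCommGroup E] [Module A E] (f : ResidueField A →ₗ[A] E)
  (hf : IsInjectiveHull f)

include hω hn hf in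
/-- The abstract isomorphism `Hom_D(A/m^n, ω) ≅ E[m^n]`. -/
lemma nonempty_Dn_equiv (n : ℕ) (hn0 : n ≠ 0) :
    Nonempty (Dn (maximalIdeal A) ω n ≃ₗ[A] LocCoh.torsionBy (maximalIdeal A ^ n) E) := by
  have hne : maximalIdeal A ^ n ≠ ⊤ := by
    intro h
    have : maximalIdeal A ^ n ≤ maximalIdeal A := Ideal.pow_le_self hn0
    rw [h, top_le_iff] at this
    exact Ideal.IsPrime.ne_top inferInstance this
  have : Nontrivial (A ⧸ maximalIdeal A ^ n) := Ideal.Quotient.nontrivial_iff.mpr hne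
  have hloc : IsLocalRing (A ⧸ maximalIdeal A ^ n) :=
    .of_surjective' (Ideal.Quotient.mk _) Ideal.Quotient.mk_surjective
  have hart : IsArtinianRing (A ⧸ maximalIdeal A ^ n) := by
    apply IsLocalRing.quotient_artinian_of_mem_minimalPrimes_of_isLocalRing
    refine ⟨⟨inferInstance, Ideal.pow_le_self hn0⟩, fun q hq _ => ?_⟩
    have := hq.1
    exact Ideal.IsPrime.le_of_pow_le hq.2
  have hfin : Module.Finite A (A ⧸ maximalIdeal A ^ n) := inferInstance
  obtain ⟨e⟩ := FLD.nonempty_hom_linearEquiv A (A ⧸ maximalIdeal A ^ n)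
    (isFiniteLength_quotient_pow n) ω hω hn E f hf (A ⧸ maximalIdeal A ^ n)
  exact ⟨e.trans (homQuotEquivTorsion (maximalIdeal A ^ n) E)⟩


include hω hn hf in
/-- `colim_n Hom_D(A/m^n, ω) ≅ E`. -/
theorem nonempty_colim_equiv : Nonempty (Colim (maximalIdeal A) ω ≃ₗ[A] E) := by
  classical
  have hinj := hf.isInjective
  obtain ⟨α₁⟩ := nonempty_Dn_equiv A ω hω hn E f hf 1 one_ne_zero
  let ψ₁ : Dn (maximalIdeal A) ω 1 →ₗ[A] E :=
    (LocCoh.torsionBy (maximalIdeal A ^ 1) E).subtype ∘ₗ α₁.toLinearMap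
  have hψ₁ : Function.Injective ψ₁ := (Submodule.injective_subtype _).comp α₁.injective
  obtain ⟨ψ, hψ⟩ := Module.Injective.extension_property A E (Dn (maximalIdeal A) ω 1)
    (Colim (maximalIdeal A) ω) (ιn (maximalIdeal A) ω 1) (ιn_injective A ω hn 1) ψ₁
  have hψ' : ∀ φ₁, ψ (ιn (maximalIdeal A) ω 1 φ₁) = ψ₁ φ₁ := fun φ₁ => LinearMap.congr_fun hψ φ₁
  have hf1 : f 1 ∈ LocCoh.torsionBy (maximalIdeal A ^ 1) E := by
    rw [pow_one, torsionBy_maximalIdeal_eq_range f hf.toIsEssentialInj]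
    exact ⟨1, rfl⟩
  -- the socle of `D_n` is `D_1`
  have claimS : ∀ (n : ℕ) (h1 : 1 ≤ n) (φ : Dn (maximalIdeal A) ω n),
      (∀ a ∈ maximalIdeal A, a • φ = 0) →
      ∃ φ₁ : Dn (maximalIdeal A) ω 1, tr (maximalIdeal A) ω h1 φ₁ = φ := by
    intro n h1 φ hφ
    obtain ⟨α⟩ := nonempty_Dn_equiv A ω hω hn E f hf n (by omega)
    have hmem : ∀ χ : Dn (maximalIdeal A) ω n, (∀ a ∈ maximalIdeal A, a • χ = 0) →
        ∃ k, f k = (α χ : E) := by
      intro χ hχ
      have h2 : (α χ : E) ∈ LocCoh.torsionBy (maximalIdeal A) E := by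
        rw [Submodule.mem_torsionBySet_iff]
        rintro ⟨a, ha⟩
        have h3 : α (a • χ) = 0 := by rw [hχ a ha, map_zero]
        rw [map_smul] at h3
        exact congrArg Subtype.val h3
      rw [torsionBy_maximalIdeal_eq_range f hf.toIsEssentialInj] at h2
      exact h2
    let χ₁ : Dn (maximalIdeal A) ω 1 := α₁.symm ⟨f 1, hf1⟩
    have hχ₁ : χ₁ ≠ 0 := by
      intro h0
      have h2 : (⟨f 1, hf1⟩ : LocCoh.torsionBy (maximalIdeal A ^ 1) E) = 0 :=
        (LinearEquiv.map_eq_zero_iff α₁.symm).1 h0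
      have h3 : f 1 = 0 := congrArg Subtype.val h2
      exact one_ne_zero (hf.injective (h3.trans (map_zero f).symm))
    have hχ0 : tr (maximalIdeal A) ω h1 χ₁ ≠ 0 := fun h0 =>
      hχ₁ ((injective_iff_map_eq_zero _).1 (tr_injective A ω hn h1) _ h0)
    have hχm : ∀ a ∈ maximalIdeal A, a • tr (maximalIdeal A) ω h1 χ₁ = 0 := by
      intro a ha
      rw [← map_smul, smul_Dn_eq_zero A ω 1 a (by simpa using ha), map_zero]
    obtain ⟨k, hk⟩ := hmem φ hφ
    obtain ⟨k₀, hk₀⟩ := hmem _ hχm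
    have hk₀0 : k₀ ≠ 0 := by
      intro h0
      apply hχ0
      have h2 : (α (tr (maximalIdeal A) ω h1 χ₁) : E) = 0 := by rw [← hk₀, h0, map_zero]
      have h3 : α (tr (maximalIdeal A) ω h1 χ₁) = 0 := Subtype.ext h2
      exact (LinearEquiv.map_eq_zero_iff α).1 h3
    obtain ⟨c, hc⟩ := IsLocalRing.residue_surjective (k * k₀⁻¹)
    refine ⟨c • χ₁, ?_⟩
    rw [map_smul]
    apply α.injective
    apply Subtype.ext
    rw [map_smul]
    change c • (α (tr (maximalIdeal A) ω h1 χ₁) : E) = (α φ : E)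
    rw [← hk, ← hk₀, ← map_smul]
    congr 1
    rw [Algebra.smul_def, ResidueField.algebraMap_eq, hc, mul_assoc, inv_mul_cancel₀ hk₀0,
      mul_one]
  -- injectivity
  have hψinj : Function.Injective ψ := by
    rw [injective_iff_map_eq_zero]
    intro x hx
    by_contra hx0
    obtain ⟨n₀, φ₀, rfl⟩ := ιn_jointly_surjective (maximalIdeal A) ω x
    have hxφ : ιn (maximalIdeal A) ω (n₀ + 1) (tr (maximalIdeal A) ω (Nat.le_succ n₀) φ₀) =
        ιn (maximalIdeal A) ω n₀ φ₀ := ιn_tr (maximalIdeal A) ω _ φ₀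
    generalize tr (maximalIdeal A) ω (Nat.le_succ n₀) φ₀ = φ at hxφ
    have hφ0 : φ ≠ 0 := by
      intro h0
      apply hx0
      rw [← hxφ, h0, map_zero]
    have hex : ∃ k : ℕ, ∀ a ∈ maximalIdeal A ^ k, a • φ = 0 :=
      ⟨n₀ + 1, fun a ha => smul_Dn_eq_zero A ω (n₀ + 1) a ha φ⟩
    have hN0 : Nat.find hex ≠ 0 := by
      intro h0
      have := Nat.find_spec hex
      rw [h0, pow_zero] at this
      exact hφ0 (by simpa using this 1 (by simp))
    obtain ⟨N', hN'⟩ := Nat.exists_eq_succ_of_ne_zero hN0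
    have hmin : ¬ ∀ a ∈ maximalIdeal A ^ N', a • φ = 0 :=
      Nat.find_min hex (by rw [hN']; exact Nat.lt_succ_self N')
    push Not at hmin
    obtain ⟨b, hb, hbφ⟩ := hmin
    have hy : ∀ a ∈ maximalIdeal A, a • (b • φ) = 0 := by
      intro a ha
      rw [smul_smul]
      have := Nat.find_spec hex
      rw [hN', pow_succ'] at this
      exact this _ (Ideal.mul_mem_mul ha hb)
    obtain ⟨φ₁, hφ₁⟩ := claimS (n₀ + 1) (by omega) (b • φ) hy
    have h1 : ψ (ιn (maximalIdeal A) ω (n₀ + 1) (b • φ)) = 0 := by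
      rw [map_smul, map_smul, hxφ, hx, smul_zero]
    rw [← hφ₁, ιn_tr, hψ'] at h1
    have h2 : φ₁ = 0 := (injective_iff_map_eq_zero _).1 hψ₁ _ h1
    apply hbφ
    rw [← hφ₁, h2, map_zero]
  -- surjectivity
  have hψsurj : Function.Surjective ψ := by
    intro e
    obtain ⟨n₀, hn₀⟩ := isPowerTorsion_of_isInjectiveHull f hf e
    have he : e ∈ LocCoh.torsionBy (maximalIdeal A ^ (n₀ + 1)) E := by
      rw [Submodule.mem_torsionBySet_iff]
      rintro ⟨a, ha⟩
      exact hn₀ a (Ideal.pow_le_pow_right (Nat.le_succ n₀) ha)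
    obtain ⟨α⟩ := nonempty_Dn_equiv A ω hω hn E f hf (n₀ + 1) (by omega)
    let β : Dn (maximalIdeal A) ω (n₀ + 1) →ₗ[A]
        LocCoh.torsionBy (maximalIdeal A ^ (n₀ + 1)) E :=
      (ψ ∘ₗ ιn (maximalIdeal A) ω (n₀ + 1)).codRestrict _ (fun φ => by
        rw [Submodule.mem_torsionBySet_iff]
        rintro ⟨a, ha⟩
        change a • ψ (ιn (maximalIdeal A) ω (n₀ + 1) φ) = 0
        rw [← map_smul, ← map_smul, smul_Dn_eq_zero A ω (n₀ + 1) a ha, map_zero, map_zero])
    have hβ : Function.Injective β := by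
      intro x y hxy
      exact ιn_injective A ω hn (n₀ + 1) (hψinj (congrArg Subtype.val hxy))
    have hart : IsArtinian A E := isArtinian_of_isInjectiveHull f hf
    have hsurj : Function.Surjective (β ∘ₗ α.symm.toLinearMap) :=
      IsArtinian.surjective_of_injective_endomorphism _ (hβ.comp α.symm.injective)
    obtain ⟨z, hz⟩ := hsurj ⟨e, he⟩
    exact ⟨ιn (maximalIdeal A) ω (n₀ + 1) (α.symm z), congrArg Subtype.val hz⟩
  exact ⟨LinearEquiv.ofBijective ψ ⟨hψinj, hψsurj⟩⟩

include hω hn hf in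
/-- The degree-zero local cohomology of a normalized dualizing complex is the injective hull
of the residue field. -/
theorem nonempty_HDI_zero_equiv :
    Nonempty (Dual2.HDI A (maximalIdeal A) ω 0 ≃ₗ[A] E) := by
  obtain ⟨e⟩ := nonempty_colim_equiv A ω hω hn E f hf
  exact ⟨(colimIso (maximalIdeal A)
    ((shiftFunctorZero (Dual.D A) ℤ).app ω)).toLinearEquiv ≪≫ₗ e⟩

end Groth.Agent.Lib.Helper13.LD
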