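import Groth.Agent.Lib.Helper13.HS2
import Groth.Agent.Lib.Helper13.LD2
import Groth.Agent.Lib.Helper7.QuasiFiniteLocal

/-!
# The dual complex of a module of finite length, for a normalized dualizing complex
-/

set_option autoImplicit false
set_option linter.style.haveILetI false
set_option linter.unusedSectionVars false

universe u

open CategoryTheory CategoryTheory.Limits HomologicalComplex DerivedCategory Pretriangulated

namespace Groth.Agent.Lib.Helper13.HS

open Groth.Agent.Lib.Helper13.PC Groth.Agent.Lib.Helper13.BD Groth.Agent.Lib.Helper13.DualBC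
  Groth.Agent.Lib.Helper13.HomBC Groth.Agent.Lib.Helper25 InjHull IsLocalRing

attribute [local instance] HasDerivedCategory.standard

section Heart

variable {A : Type u} [CommRing A]

/-- An object whose cohomology is concentrated in degree `0` is its `H^0` placed in degree `0`. -/
lemma nonempty_iso_inD_of_HD (X : Dual.D A) (h : ∀ j : ℤ, j ≠ 0 → Subsingleton (Dual.HD A X j))
    (M : Type u) [AddCommGroup M] [Module A M] (eM : Dual.HD A X 0 ≃ₗ[A] M) :
    Nonempty (X ≅ Dual.inD A M) := by
  have hz : ∀ i : ℤ, i ≠ 0 →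
      IsZero ((DerivedCategory.homologyFunctor (ModuleCat.{u} A) i).obj X) := fun i hi => by
    have := h i hi
    exact ModuleCat.isZero_of_subsingleton _
  haveI : X.IsGE 0 := (DerivedCategory.isGE_iff X 0).2 (fun i hi => hz i (by lia))
  haveI : X.IsLE 0 := (DerivedCategory.isLE_iff X 0).2 (fun i hi => hz i (by lia))
  obtain ⟨M', ⟨e⟩⟩ := DerivedCategory.exists_iso_singleFunctor_obj_of_isGE_of_isLE X 0
  let e0 : M' ≅ ModuleCat.of A M :=
    ((DerivedCategory.singleFunctorCompHomologyFunctorIso (ModuleCat.{u} A) 0).app M').symm ≪≫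
      (DerivedCategory.homologyFunctor (ModuleCat.{u} A) 0).mapIso e.symm ≪≫ eM.toModuleIso
  exact ⟨e ≪≫ (DerivedCategory.singleFunctor (ModuleCat.{u} A) 0).mapIso e0⟩

end Heart

section Local

variable (A : Type u) [CommRing A] [IsLocalRing A] [IsNoetherianRing A]
  (ω : Dual.D A) (hω : Dual.IsDualizing A ω) (hn : Dual.IsNormalized A ω)
  (E : Type u) [AddCommGroup E] [Module A E] (f : ResidueField A →ₗ[A] E)
  (hf : IsInjectiveHull f)

include hω hn hf in
/-- `Hom_D(M, ω) ≃ Hom_A(M, E)` for `M` of finite length. -/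
theorem nonempty_hom_equiv_of_finLen (M : Type u) [AddCommGroup M] [Module A M]
    (hM : IsFiniteLength A M) : Nonempty ((Dual.inD A M ⟶ ω) ≃ₗ[A] (M →ₗ[A] E)) := by
  obtain ⟨hN, hAr⟩ := isFiniteLength_iff_isNoetherian_isArtinian.1 hM
  haveI : Module.Finite A M := inferInstance
  obtain ⟨k, hk⟩ := Groth.Agent.Lib.Helper7.exists_pow_maximalIdeal_smul_top_eq_bot A M
  have hT : Module.IsTorsionBySet A M (maximalIdeal A ^ (k + 1) : Ideal A) := by
    intro x a
    have h1 : (a : A) • x ∈ (maximalIdeal A ^ k • ⊤ : Submodule A M) :=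
      Submodule.smul_mem_smul (Ideal.pow_le_pow_right (Nat.le_succ k) a.2) trivial
    rw [hk] at h1
    exact h1
  set n := k + 1 with hn'
  have hn0 : n ≠ 0 := by omega
  have hne : maximalIdeal A ^ n ≠ ⊤ := by
    intro h
    have : maximalIdeal A ^ n ≤ maximalIdeal A := Ideal.pow_le_self hn0
    rw [h, top_le_iff] at this
    exact Ideal.IsPrime.ne_top inferInstance this
  have : Nontrivial (A ⧸ maximalIdeal A ^ n) := Ideal.Quotient.nontrivial_iff.mpr hne
  have hloc : IsLocalRing (A ⧸ maximalIdeal A ^ n) :=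
    .of_surjective' (Ideal.Quotient.mk _) Ideal.Quotient.mk_surjective
  have hart : IsArtinianRing (A ⧸ maximalIdeal A ^ n) := by
    apply IsLocalRing.quotient_artinian_of_mem_minimalPrimes_of_isLocalRing
    refine ⟨⟨inferInstance, Ideal.pow_le_self hn0⟩, fun q hq _ => ?_⟩
    have := hq.1
    exact Ideal.IsPrime.le_of_pow_le hq.2
  have hfin : Module.Finite A (A ⧸ maximalIdeal A ^ n) := inferInstance
  letI : Module (A ⧸ maximalIdeal A ^ n) M := hT.module
  haveI : IsScalarTower A (A ⧸ maximalIdeal A ^ n) M := hT.isScalarTower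
  exact FLD.nonempty_hom_linearEquiv A (A ⧸ maximalIdeal A ^ n)
    (isFiniteLength_quotient_pow n) ω hω hn E f hf M

include hω hn hf in
/-- The dual complex `Hom(M, J)` of a module of finite length is `Hom_A(M, E)` in degree `0`. -/
theorem nonempty_Dm_iso_of_finLen (J : DRing.Cx A) [J.IsKInjective] (e : ω ≅ Q.obj J)
    (M : Type u) [AddCommGroup M] [Module A M] (hM : IsFiniteLength A M) :
    Nonempty ((Q.obj (Dm J (ModuleCat.of A M)) : Dual.D A) ≅ Dual.inD A (M →ₗ[A] E)) := by
  have hvan : ∀ j : ℤ, j ≠ 0 → Subsingleton (Dual.HD A (Q.obj (Dm J (ModuleCat.of A M))) j) := by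
    intro j hj
    obtain ⟨ε⟩ := nonempty_HD_equiv J M j
    have h1 := LD.subsingleton_hom_finLen A ω hn M hM j hj
    have h2 : Subsingleton (Dual.inD A M ⟶ (Q.obj J : Dual.D A)⟦j⟧) :=
      (Linear.homCongr A (Iso.refl (Dual.inD A M))
        ((shiftFunctor (Dual.D A) j).mapIso e)).symm.toEquiv.subsingleton
    exact ε.toEquiv.subsingleton
  obtain ⟨ε⟩ := nonempty_HD_equiv J M 0
  obtain ⟨δ⟩ := nonempty_hom_equiv_of_finLen A ω hω hn E f hf M hM
  exact nonempty_iso_inD_of_HD _ hvan (M →ₗ[A] E)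
    (ε ≪≫ₗ Linear.homCongr A (Iso.refl (Dual.inD A M))
      ((shiftFunctorZero (Dual.D A) ℤ).app _ ≪≫ e.symm) ≪≫ₗ δ)

end Local

end Groth.Agent.Lib.Helper13.HS
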