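import Groth.Agent.Lib.Helper13.HS3
import Groth.Agent.Lib.Helper13.DualBC24

set_option autoImplicit false
set_option linter.style.haveILetI false
set_option linter.unusedSectionVars false

universe u

open CategoryTheory CategoryTheory.Limits HomologicalComplex DerivedCategory Pretriangulated

namespace Groth.Agent.Lib.Helper13.HS

open Groth.Agent.Lib.Helper13.PC Groth.Agent.Lib.Helper13.BD Groth.Agent.Lib.Helper13.DualBC
  Groth.Agent.Lib.Helper13.HomBC Groth.Agent.Lib.Helper25 InjHull IsLocalRing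
  Groth.Agent.Lib.Helper13.Coind Groth.Agent.Lib.Helper13.DR

attribute [local instance] HasDerivedCategory.standard

theorem exists_triangle_quotient_finLen (A : Type u) [CommRing A] [IsLocalRing A]
    [IsNoetherianRing A] (ω : Dual.D A) (hω : Dual.IsDualizing A ω) (hn : Dual.IsNormalized A ω)
    (I : Ideal A) (hIl : IsFiniteLength A I)
    (E : Type u) [AddCommGroup E] [Module A E] (f : IsLocalRing.ResidueField A →ₗ[A] E)
    (hf : InjHull.IsInjectiveHull f) (R : Dual.D A ⥤ Dual.D (A ⧸ I))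
    (adj : DRing.restrictD (Ideal.Quotient.mk I) ⊣ R) :
    ∃ (u : (DRing.restrictD (Ideal.Quotient.mk I)).obj (R.obj ω) ⟶ ω)
      (v : ω ⟶ Dual.inD A (I →ₗ[A] E))
      (w : Dual.inD A (I →ₗ[A] E) ⟶
        ((DRing.restrictD (Ideal.Quotient.mk I)).obj (R.obj ω))⟦(1 : ℤ)⟧),
      Triangle.mk u v w ∈ distinguishedTriangles := by
  obtain ⟨a, b, h2⟩ := hω.finite_injective_dimension
  have hinj : DRing.HasInjAmplitudeIn A a b ω :=
    hasInjAmplitudeIn_of_quotients ω a b (fun J i hi => h2 (A ⧸ J) i hi)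
  obtain ⟨J, hv, hJ, ⟨e'⟩⟩ := hinj
  let e : ω ≅ (Q.obj J : Dual.D A) := e'.symm
  haveI hK : J.IsKInjective := isKInjective_of_forall_injective J a
    (fun i hi => hv i (Or.inl hi)) (fun i => (injective_iff _).2 (hJ i))
  have hS := subSC_shortExact (A := A) (M := A) I
  have hT := tri_dist J hJ (subSC (A := A) (M := A) I) hS
  obtain ⟨e₃⟩ := nonempty_Dm_iso_of_finLen A ω hω hn E f hf J e I hIl
  let e₂ : ω ≅ (Q.obj (Dm J (ModuleCat.of A A)) : Dual.D A) := e ≪≫ Q.mapIso (evOneIso J).symm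
  let r : BA A (A ⧸ I) ≅ (subSC (A := A) (M := A) I).X₃ := restrictSelfIso (A := A) (B := A ⧸ I)
  let e₁ : (DRing.restrictD (Ideal.Quotient.mk I)).obj (R.obj ω) ≅
      (Q.obj (Dm J (subSC (A := A) (M := A) I).X₃) : Dual.D A) :=
    (DRing.restrictD (Ideal.Quotient.mk I)).mapIso
      ((Coind.uniq (Ideal.Quotient.mk I) R adj).app ω ≪≫
        (Rco (Ideal.Quotient.mk I)).mapIso e) ≪≫ theta (A ⧸ I) J ≪≫
      Q.mapIso (DmIso J r).symm
  let T := tri J hJ (subSC (A := A) (M := A) I) hS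
  refine ⟨e₁.hom ≫ T.mor₁ ≫ e₂.inv, e₂.hom ≫ T.mor₂ ≫ e₃.hom, e₃.inv ≫ T.mor₃ ≫ e₁.inv⟦(1 : ℤ)⟧', ?_⟩
  refine isomorphic_distinguished _ hT _ (Triangle.isoMk _ _ e₁ e₂ e₃.symm ?_ ?_ ?_)
  · change (e₁.hom ≫ T.mor₁ ≫ e₂.inv) ≫ e₂.hom = e₁.hom ≫ T.mor₁
    rw [Category.assoc, Category.assoc]
    erw [e₂.inv_hom_id, Category.comp_id]
    rfl
  · change (e₂.hom ≫ T.mor₂ ≫ e₃.hom) ≫ e₃.inv = e₂.hom ≫ T.mor₂
    rw [Category.assoc, Category.assoc]
    erw [e₃.hom_inv_id, Category.comp_id]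
    rfl
  · change (e₃.inv ≫ T.mor₃ ≫ (shiftFunctor (Dual.D A) (1 : ℤ)).map e₁.inv) ≫
      (shiftFunctor (Dual.D A) (1 : ℤ)).map e₁.hom = e₃.inv ≫ T.mor₃
    rw [Category.assoc, Category.assoc, ← Functor.map_comp]
    erw [e₁.inv_hom_id, CategoryTheory.Functor.map_id, Category.comp_id]
    rfl

end Groth.Agent.Lib.Helper13.HS
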