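import Groth.Agent.Lib.Helper13.HS2

/-!
# Maps in the derived category to an injective module placed in one degree
-/

set_option autoImplicit false
set_option linter.style.haveILetI false
set_option linter.unusedSectionVars false

universe u

open CategoryTheory CategoryTheory.Limits HomologicalComplex DerivedCategory

namespace Groth.Agent.Lib.Helper13.HS

open Groth.Agent.Lib.Helper13.PC Groth.Agent.Lib.Helper13.BD

attribute [local instance] HasDerivedCategory.standard

section Chain

variable {C : Type*} [Category C] [Abelian C] (Y : CochainComplex C ℤ) (E : C) (n : ℤ)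

/-- A chain map `Y ⟶ E[-n]` whose component factors through the differential is
null-homotopic. -/
noncomputable def homotopyOfFactor'
    (g : Y ⟶ (HomologicalComplex.single C (ComplexShape.up ℤ) n).obj E) (ψ : Y.X (n + 1) ⟶ E)
    (hh : Y.d n (n + 1) ≫ ψ = g.f n ≫ (singleObjXSelf (ComplexShape.up ℤ) n E).hom) :
    Homotopy g 0 := by
  let hom : ∀ i j, (ComplexShape.up ℤ).Rel j i →
      (Y.X i ⟶ ((HomologicalComplex.single C (ComplexShape.up ℤ) n).obj E).X j) := fun i j hij =>
    if hj : j = n then eqToHom (by congr 1; simp at hij; lia) ≫ ψ ≫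
      (singleObjXIsoOfEq (ComplexShape.up ℤ) n E j hj).inv else 0
  have e : g = Homotopy.nullHomotopicMap' hom := by
    apply to_single_hom_ext
    rw [Homotopy.nullHomotopicMap'_f (show (ComplexShape.up ℤ).Rel (n - 1) n by simp)
      (show (ComplexShape.up ℤ).Rel n (n + 1) by simp)]
    simp only [single_obj_d, comp_zero, hom, dif_pos rfl, eqToHom_refl, Category.id_comp]
    rw [reassoc_of% hh]
    simp [singleObjXIsoOfEq, singleObjXSelf]
  rw [e]
  exact Homotopy.nullHomotopy' hom

/-- A null-homotopic chain map `Y ⟶ E[-n]` has its component factoring through the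
differential. -/
lemma exists_factor_of_homotopy'
    (g : Y ⟶ (HomologicalComplex.single C (ComplexShape.up ℤ) n).obj E) (hh : Homotopy g 0) :
    ∃ ψ : Y.X (n + 1) ⟶ E,
      Y.d n (n + 1) ≫ ψ = g.f n ≫ (singleObjXSelf (ComplexShape.up ℤ) n E).hom := by
  have h1 := hh.comm n
  rw [dNext_eq hh.hom (show (ComplexShape.up ℤ).Rel n (n + 1) from rfl),
    prevD_eq hh.hom (show (ComplexShape.up ℤ).Rel (n - 1) n by simp), single_obj_d, comp_zero,
    HomologicalComplex.zero_f, add_zero, add_zero] at h1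
  exact ⟨hh.hom (n + 1) n ≫ (singleObjXSelf (ComplexShape.up ℤ) n E).hom, by
    rw [← Category.assoc, ← h1]⟩

lemma isKInjective_single [Injective E] :
    CochainComplex.IsKInjective ((HomologicalComplex.single C (ComplexShape.up ℤ) n).obj E) :=
  isKInjective_of_forall_injective _ n (fun i hi => isZero_single_obj_X _ n E i (by lia))
    (fun i => by
      by_cases h : i = n
      · subst h
        exact Injective.of_iso (singleObjXSelf _ i E).symm inferInstance
      · exact (isZero_single_obj_X _ n E i h).injective)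

end Chain

section Mod

variable {A : Type u} [CommRing A] (Y : DRing.Cx A) (E : ModuleCat.{u} A) (n : ℤ)

/-- The cocycles of degree `n` of `Hom(Y, E)`. -/
def Zc' : Submodule A (Y.X n ⟶ E) := LinearMap.ker (Linear.leftComp A E (Y.d (n - 1) n))

lemma mem_Zc' (φ : Y.X n ⟶ E) : φ ∈ Zc' Y E n ↔ Y.d (n - 1) n ≫ φ = 0 := Iff.rfl

/-- The chain map attached to a cocycle. -/
noncomputable def toCx' (φ : Zc' Y E n) :
    Y ⟶ (HomologicalComplex.single (ModuleCat.{u} A) (ComplexShape.up ℤ) n).obj E :=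
  mkHomToSingle φ.1 (fun k hk => by
    have hk' : k + 1 = n := hk
    have : k = n - 1 := by lia
    subst this
    exact φ.2)

lemma toCx'_f (φ : Zc' Y E n) :
    (toCx' Y E n φ).f n = φ.1 ≫ (singleObjXSelf (ComplexShape.up ℤ) n E).inv :=
  mkHomToSingle_f _ _

lemma toCx'_add (φ ψ : Zc' Y E n) : toCx' Y E n (φ + ψ) = toCx' Y E n φ + toCx' Y E n ψ := by
  apply to_single_hom_ext
  rw [HomologicalComplex.add_f_apply, toCx'_f, toCx'_f, toCx'_f, Submodule.coe_add,
    Preadditive.add_comp]

lemma toCx'_smul (a : A) (φ : Zc' Y E n) : toCx' Y E n (a • φ) = a • toCx' Y E n φ := by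
  apply to_single_hom_ext
  rw [HomologicalComplex.smul_f_apply, toCx'_f, toCx'_f, Submodule.coe_smul, Linear.smul_comp]

lemma eq_toCx' (g : Y ⟶ (HomologicalComplex.single (ModuleCat.{u} A) (ComplexShape.up ℤ) n).obj E) :
    ∃ φ : Zc' Y E n, toCx' Y E n φ = g := by
  refine ⟨⟨g.f n ≫ (singleObjXSelf (ComplexShape.up ℤ) n E).hom, ?_⟩, ?_⟩
  · rw [mem_Zc', ← Category.assoc, ← g.comm, single_obj_d, comp_zero, zero_comp]
  · apply to_single_hom_ext
    rw [toCx'_f, Category.assoc, Iso.hom_inv_id, Category.comp_id]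

/-- The class of a cocycle in the derived category. -/
noncomputable def cl' : Zc' Y E n →ₗ[A]
    ((Q.obj Y : Dual.D A) ⟶ (DerivedCategory.singleFunctor (ModuleCat.{u} A) n).obj E) where
  toFun φ := Q.map (toCx' Y E n φ) ≫ (singleIsoQ n E).inv
  map_add' φ ψ := by rw [toCx'_add, Functor.map_add, Preadditive.add_comp]
  map_smul' a φ := by
    rw [toCx'_smul, Functor.map_smul, Linear.smul_comp]
    rfl

lemma cl'_apply (φ : Zc' Y E n) : cl' Y E n φ = Q.map (toCx' Y E n φ) ≫ (singleIsoQ n E).inv := rfl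

variable [Injective E]

lemma cl'_surjective : Function.Surjective (cl' Y E n) := by
  haveI := isKInjective_single E n
  intro ψ
  obtain ⟨g, hg⟩ := exists_Q_map_eq_of_isKInjective (ψ ≫ (singleIsoQ n E).hom)
  obtain ⟨φ, rfl⟩ := eq_toCx' Y E n g
  exact ⟨φ, by rw [cl'_apply, hg, Category.assoc, Iso.hom_inv_id, Category.comp_id]⟩

lemma cl'_eq_zero_iff (φ : Zc' Y E n) :
    cl' Y E n φ = 0 ↔ ∃ ψ : Y.X (n + 1) ⟶ E, Y.d n (n + 1) ≫ ψ = φ.1 := by
  haveI := isKInjective_single E n
  constructor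
  · intro h0
    have h1 : Q.map (toCx' Y E n φ) = Q.map 0 := by
      rw [Functor.map_zero, ← cancel_mono (singleIsoQ n E).inv, ← cl'_apply, h0, zero_comp]
    obtain ⟨hh⟩ := exists_homotopy_of_Q_map_eq_of_isKInjective _ _ h1
    obtain ⟨ψ, hψ⟩ := exists_factor_of_homotopy' Y E n _ hh
    exact ⟨ψ, by rw [hψ, toCx'_f, Category.assoc, Iso.inv_hom_id, Category.comp_id]⟩
  · rintro ⟨ψ, hψ⟩
    have hh : Homotopy (toCx' Y E n φ) 0 := homotopyOfFactor' Y E n _ ψ (by
      rw [hψ, toCx'_f, Category.assoc, Iso.inv_hom_id, Category.comp_id])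
    rw [cl'_apply, KP.Q_map_eq_of_homotopy hh, Functor.map_zero, zero_comp]

/-- Restriction of a cocycle to the cohomology. -/
noncomputable def res : Zc' Y E n →ₗ[A] (Y.homology n ⟶ E) where
  toFun φ := Y.homologyι n ≫ Y.descOpcycles φ.1 (n - 1) (by simp) φ.2
  map_add' φ ψ := by
    rw [← Preadditive.comp_add]
    congr 1
    rw [← cancel_epi (Y.pOpcycles n), Preadditive.comp_add, p_descOpcycles, p_descOpcycles,
      p_descOpcycles]
    rfl
  map_smul' a φ := by
    rw [RingHom.id_apply, ← Linear.comp_smul]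
    congr 1
    rw [← cancel_epi (Y.pOpcycles n), Linear.comp_smul, p_descOpcycles, p_descOpcycles]
    rfl

lemma res_apply (φ : Zc' Y E n) :
    res Y E n φ = Y.homologyι n ≫ Y.descOpcycles φ.1 (n - 1) (by simp) φ.2 := rfl

lemma res_surjective : Function.Surjective (res Y E n) := by
  intro h
  let h' : Y.opcycles n ⟶ E := Injective.factorThru h (Y.homologyι n)
  have hh' : Y.homologyι n ≫ h' = h := Injective.comp_factorThru h (Y.homologyι n)
  refine ⟨⟨Y.pOpcycles n ≫ h', ?_⟩, ?_⟩
  · rw [mem_Zc', d_pOpcycles_assoc, zero_comp]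
  · rw [res_apply, ← hh']
    congr 1
    rw [← cancel_epi (Y.pOpcycles n), p_descOpcycles]

lemma res_eq_zero_iff (φ : Zc' Y E n) :
    res Y E n φ = 0 ↔ ∃ ψ : Y.X (n + 1) ⟶ E, Y.d n (n + 1) ≫ ψ = φ.1 := by
  constructor
  · intro h0
    have hS : (ShortComplex.mk (Y.homologyι n) (Y.fromOpcycles n (n + 1))
        (Y.homologyι_comp_fromOpcycles n (n + 1))).Exact :=
      ShortComplex.exact_of_f_is_kernel _ (Y.homologyIsKernel n (n + 1) (by simp))
    refine ⟨hS.descToInjective (Y.descOpcycles φ.1 (n - 1) (by simp) φ.2) h0, ?_⟩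
    have := hS.comp_descToInjective (Y.descOpcycles φ.1 (n - 1) (by simp) φ.2) h0
    dsimp at this
    rw [← Y.p_fromOpcycles n (n + 1), Category.assoc, this, p_descOpcycles]
  · rintro ⟨ψ, hψ⟩
    have : Y.descOpcycles φ.1 (n - 1) (by simp) φ.2 = Y.fromOpcycles n (n + 1) ≫ ψ := by
      rw [← cancel_epi (Y.pOpcycles n), p_descOpcycles, p_fromOpcycles_assoc, hψ]
    rw [res_apply, this, homologyι_comp_fromOpcycles_assoc, zero_comp]

/-- `Hom_D(Y, E[-n]) ≃ Hom(H^n(Y), E)` for `E` injective. -/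
theorem nonempty_equiv_homology :
    Nonempty (((Q.obj Y : Dual.D A) ⟶ (DerivedCategory.singleFunctor (ModuleCat.{u} A) n).obj E)
      ≃ₗ[A] (Y.homology n ⟶ E)) := by
  refine nonempty_equiv_of_ker_eq (cl' Y E n) (res Y E n) (cl'_surjective Y E n)
    (res_surjective Y E n) ?_
  ext φ
  rw [LinearMap.mem_ker, LinearMap.mem_ker, cl'_eq_zero_iff, res_eq_zero_iff]

end Mod

section Final

variable {A : Type u} [CommRing A]

/-- `Hom_D(X, E[0]) ≃ Hom_A(H^0(X), E)` for an injective module `E`. -/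
theorem nonempty_hom_inD_equiv (X : Dual.D A) (E : Type u) [AddCommGroup E] [Module A E]
    [Module.Injective A E] :
    Nonempty ((X ⟶ Dual.inD A E) ≃ₗ[A] (Dual.HD A X 0 →ₗ[A] E)) := by
  let Y := Q.objPreimage X
  let e : Q.obj Y ≅ X := Q.objObjPreimageIso X
  haveI : Injective (ModuleCat.of A E) := (DR.injective_iff _).2 inferInstance
  obtain ⟨ε⟩ := nonempty_equiv_homology Y (ModuleCat.of A E) 0
  let e2 : Y.homology 0 ≅ (DerivedCategory.homologyFunctor (ModuleCat.{u} A) 0).obj X :=
    ((DerivedCategory.homologyFunctorFactors (ModuleCat.{u} A) 0).app Y).symm ≪≫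
      (DerivedCategory.homologyFunctor (ModuleCat.{u} A) 0).mapIso e
  exact ⟨Linear.homCongr A e.symm (Iso.refl _) ≪≫ₗ ε ≪≫ₗ
    Linear.homCongr A e2 (Iso.refl _) ≪≫ₗ ModuleCat.homLinearEquiv⟩

end Final

end Groth.Agent.Lib.Helper13.HS
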