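import Mathlib.Algebra.Exact.Basic
import Mathlib.Algebra.Module.LinearMap.End

/-!
# A dévissage lemma: multiplication by a locally nilpotent element
-/

set_option autoImplicit false
universe u

namespace Groth.Agent.Lib.Helper13.LD

section XTrick

variable {R : Type*} [CommRing R]
variable {L' S' L S T' U' T U : Type*}
  [AddCommGroup L'] [AddCommGroup S'] [AddCommGroup L] [AddCommGroup S]
  [AddCommGroup T'] [AddCommGroup U'] [AddCommGroup T] [AddCommGroup U]
  [Module R L'] [Module R S'] [Module R L] [Module R S]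
  [Module R T'] [Module R U'] [Module R T] [Module R U]
  (p' : L' →ₗ[R] S') (d : S' →ₗ[R] L) (a : L →ₗ[R] L) (p : L →ₗ[R] S)
  (q' : T' →ₗ[R] U') (e : U' →ₗ[R] T) (b : T →ₗ[R] T) (q : T →ₗ[R] U)
  (v₁ : L' →ₗ[R] T') (v₂ : S' →ₗ[R] U') (v : L →ₗ[R] T) (v₄ : S →ₗ[R] U)

include p' d a p q' e b q v₁ v₂ v₄ in
/-- The "multiplication by `x`" dévissage: in the commutative diagram with exact rows
```
L' → S' → L →a L → S
T' → U' → T →b T → U
```
with `a`, `b` locally nilpotent, `v₁` surjective, `v₂` bijective and `v₄` injective,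
the middle map `v` is bijective. -/
theorem bijective_of_locallyNilpotent
    (hc₁ : ∀ x, q' (v₁ x) = v₂ (p' x)) (hc₂ : ∀ x, e (v₂ x) = v (d x))
    (hc₃ : ∀ x, b (v x) = v (a x)) (hc₄ : ∀ x, q (v x) = v₄ (p x))
    (hF₁ : Function.Exact p' d) (hF₂ : Function.Exact d a) (hF₃ : Function.Exact a p)
    (hG₁ : Function.Exact q' e) (hG₂ : Function.Exact e b) (hG₃ : Function.Exact b q)
    (h₁ : Function.Surjective v₁) (h₂ : Function.Bijective v₂) (h₄ : Function.Injective v₄)
    (ha : ∀ k : L, ∃ N : ℕ, (a ^ N) k = 0) (hb : ∀ t : T, ∃ N : ℕ, (b ^ N) t = 0) :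
    Function.Bijective v := by
  constructor
  · rw [injective_iff_map_eq_zero]
    have key : ∀ (N : ℕ) (k : L), (a ^ N) k = 0 → v k = 0 → k = 0 := by
      intro N
      induction N with
      | zero =>
        intro k hk _
        simpa using hk
      | succ N ih =>
        intro k hk hvk
        have h1 : a k = 0 := by
          apply ih (a k)
          · rw [← Module.End.mul_apply, ← pow_succ]
            exact hk
          · rw [← hc₃, hvk, map_zero]
        obtain ⟨s, rfl⟩ := (hF₂ k).1 h1
        have h2 : e (v₂ s) = 0 := by rw [hc₂, hvk]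
        obtain ⟨t', ht'⟩ := (hG₁ (v₂ s)).1 h2
        obtain ⟨l', rfl⟩ := h₁ t'
        rw [hc₁] at ht'
        have h3 : p' l' = s := h₂.1 ht'
        rw [← h3]
        exact (hF₁ (p' l')).2 ⟨l', rfl⟩
    intro k hk
    obtain ⟨N, hN⟩ := ha k
    exact key N k hN hk
  · have key : ∀ (N : ℕ) (t : T), (b ^ N) t = 0 → ∃ l, v l = t := by
      intro N
      induction N with
      | zero =>
        intro t ht
        refine ⟨0, ?_⟩
        rw [map_zero]
        simpa using ht.symm
      | succ N ih =>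
        intro t ht
        obtain ⟨l₁, hl₁⟩ := ih (b t) (by
          rw [← Module.End.mul_apply, ← pow_succ]
          exact ht)
        have h1 : v₄ (p l₁) = 0 := by
          rw [← hc₄, hl₁]
          exact (hG₃ (b t)).2 ⟨t, rfl⟩
        have h2 : p l₁ = 0 := (injective_iff_map_eq_zero v₄).1 h₄ _ h1
        obtain ⟨l₂, rfl⟩ := (hF₃ l₁).1 h2
        have h3 : b (t - v l₂) = 0 := by
          rw [map_sub, hc₃, hl₁, sub_self]
        obtain ⟨u, hu⟩ := (hG₂ (t - v l₂)).1 h3
        obtain ⟨s, rfl⟩ := h₂.2 u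
        rw [hc₂] at hu
        refine ⟨l₂ + d s, ?_⟩
        rw [map_add, hu, add_sub_cancel]
    intro t
    obtain ⟨N, hN⟩ := hb t
    exact key N t hN

end XTrick

end Groth.Agent.Lib.Helper13.LD
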