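import Groth.Agent.Lib.Helper13.LD4
import Groth.Agent.Lib.Helper13.LD5
import Mathlib.Algebra.FiveLemma

/-!
# Closure properties of the class of objects on which the duality pairing is bijective
-/

set_option autoImplicit false
set_option linter.style.haveILetI false
set_option linter.unusedSectionVars false
universe u
open CategoryTheory CategoryTheory.Limits Opposite Pretriangulated

namespace Groth.Agent.Lib.Helper13.LD

open Groth.Agent.Lib.Helper2.RGColim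
open DerivedCategory

attribute [local instance] HasDerivedCategory.standard

variable {A : Type u} [CommRing A] (I : Ideal A) (ω : Dual.D A)
  (E : Type u) [AddCommGroup E] [Module A E] (τ : Colim I ω →ₗ[A] E)

/-- The pairing is bijective on all shifts of `K`. -/
def PP (K : Dual.D A) : Prop := ∀ i : ℤ, Function.Bijective (Ψ I ω E τ (K⟦i⟧))

lemma PP_of_iso {K K' : Dual.D A} (e : K ≅ K') (h : PP I ω E τ K) : PP I ω E τ K' :=
  fun i => Ψ_bijective_of_iso I ω E τ ((shiftFunctor (Dual.D A) i).mapIso e) (h i)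

lemma PP_shift {K : Dual.D A} (h : PP I ω E τ K) (j : ℤ) : PP I ω E τ (K⟦j⟧) :=
  fun i => Ψ_bijective_of_iso I ω E τ
    ((shiftFunctorAdd' (Dual.D A) j i (j + i) rfl).app K) (h (j + i))

lemma PP_zero {K : Dual.D A} (h : PP I ω E τ K) : Function.Bijective (Ψ I ω E τ K) :=
  Ψ_bijective_of_iso I ω E τ ((shiftFunctorZero (Dual.D A) ℤ).app K) (h 0)

variable [Module.Injective A E]

/-- The five lemma for the pairing along a distinguished triangle. -/
lemma Ψ_bijective_obj₂ (T : Triangle (Dual.D A)) (hT : T ∈ distTriang (Dual.D A))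
    (h₁ : Function.Bijective (Ψ I ω E τ T.obj₁)) (h₃ : Function.Bijective (Ψ I ω E τ T.obj₃))
    (h₀ : Function.Surjective (Ψ I ω E τ (T.obj₃⟦(-1 : ℤ)⟧)))
    (h₅ : Function.Injective (Ψ I ω E τ (T.obj₁⟦(1 : ℤ)⟧))) :
    Function.Bijective (Ψ I ω E τ T.obj₂) := by
  have hTi := inv_rot_of_distTriang _ hT
  have hTr := rot_of_distTriang _ hT
  exact LinearMap.bijective_of_surjective_of_bijective_of_bijective_of_injective
    (Fmap I T.invRotate.mor₁) (Fmap I T.mor₁) (Fmap I T.mor₂) (Fmap I T.mor₃)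
    (Gmap ω E T.invRotate.mor₁) (Gmap ω E T.mor₁) (Gmap ω E T.mor₂) (Gmap ω E T.mor₃)
    (Ψ I ω E τ _) (Ψ I ω E τ _) (Ψ I ω E τ _) (Ψ I ω E τ _) (Ψ I ω E τ _)
    (Ψ_naturality' I ω E τ _).symm (Ψ_naturality' I ω E τ _).symm
    (Ψ_naturality' I ω E τ _).symm (Ψ_naturality' I ω E τ _).symm
    (Fmap_exact I T.invRotate hTi) (Fmap_exact I T hT) (Fmap_exact I T.rotate hTr)
    (Gmap_exact ω E T.invRotate hTi) (Gmap_exact ω E T hT) (Gmap_exact ω E T.rotate hTr)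
    h₀ h₁ h₃ h₅

/-- Two-out-of-three for `PP`. -/
lemma PP_obj₂ (T : Triangle (Dual.D A)) (hT : T ∈ distTriang (Dual.D A))
    (h₁ : PP I ω E τ T.obj₁) (h₃ : PP I ω E τ T.obj₃) : PP I ω E τ T.obj₂ := by
  intro i
  have hT' := Triangle.shift_distinguished T hT i
  exact Ψ_bijective_obj₂ I ω E τ _ hT' (h₁ i) (h₃ i)
    ((PP_shift I ω E τ h₃ i) (-1)).2 ((PP_shift I ω E τ h₁ i) 1).1

/-- The "multiplication by `c`" dévissage for the pairing. -/
lemma Ψ_bijective_of_smul (Y Z : Dual.D A) (c : A) (b : Y ⟶ Z) (δ : Z ⟶ Y⟦(1 : ℤ)⟧)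
    (hT : Triangle.mk (c • 𝟙 Y) b δ ∈ distTriang (Dual.D A))
    (hF : ∀ x : Colim I Y, ∃ N : ℕ, c ^ N • x = 0)
    (hG : ∀ l : G ω E Y, ∃ N : ℕ, c ^ N • l = 0)
    (h₁ : Function.Surjective (Ψ I ω E τ (Y⟦(-1 : ℤ)⟧)))
    (h₂ : Function.Bijective (Ψ I ω E τ (Z⟦(-1 : ℤ)⟧)))
    (h₄ : Function.Injective (Ψ I ω E τ Z)) :
    Function.Bijective (Ψ I ω E τ Y) := by
  have hTi := inv_rot_of_distTriang _ hT
  have hTii := inv_rot_of_distTriang _ hTi
  have hpow : ∀ {M : Type (u + 1)} [AddCommGroup M] [Module A M] (N : ℕ) (x : M),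
      ((c • (LinearMap.id : M →ₗ[A] M)) ^ N) x = c ^ N • x := by
    intro M _ _ N x
    have : (c • (LinearMap.id : M →ₗ[A] M)) ^ N = c ^ N • (LinearMap.id : M →ₗ[A] M) := by
      change (c • (1 : Module.End A M)) ^ N = c ^ N • (1 : Module.End A M)
      rw [smul_pow, one_pow]
    rw [this]
    rfl
  have haF : ∀ (N : ℕ) (k : Colim I Y), ((Fmap I (c • 𝟙 Y)) ^ N) k = c ^ N • k := by
    intro N k
    have ha : Fmap I (c • 𝟙 Y) = c • (LinearMap.id : Colim I Y →ₗ[A] Colim I Y) := by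
      apply LinearMap.ext
      intro x
      rw [Fmap_smul, Fmap_id]
      rfl
    rw [ha]
    exact hpow N k
  have hbG : ∀ (N : ℕ) (l : G ω E Y), ((Gmap ω E (c • 𝟙 Y)) ^ N) l = c ^ N • l := by
    intro N l
    have hb : Gmap ω E (c • 𝟙 Y) = c • (LinearMap.id : G ω E Y →ₗ[A] G ω E Y) := by
      apply LinearMap.ext
      intro x
      rw [Gmap_smul, Gmap_id]
      rfl
    rw [hb]
    exact hpow N l
  exact bijective_of_locallyNilpotent
    (Fmap I (Triangle.mk (c • 𝟙 Y) b δ).invRotate.invRotate.mor₁)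
    (Fmap I (Triangle.mk (c • 𝟙 Y) b δ).invRotate.mor₁) (Fmap I (c • 𝟙 Y)) (Fmap I b)
    (Gmap ω E (Triangle.mk (c • 𝟙 Y) b δ).invRotate.invRotate.mor₁)
    (Gmap ω E (Triangle.mk (c • 𝟙 Y) b δ).invRotate.mor₁) (Gmap ω E (c • 𝟙 Y))
    (Gmap ω E b)
    (Ψ I ω E τ _) (Ψ I ω E τ _) (Ψ I ω E τ _) (Ψ I ω E τ _)
    (fun x => (Ψ_naturality I ω E τ _ x).symm) (fun x => (Ψ_naturality I ω E τ _ x).symm)
    (fun x => (Ψ_naturality I ω E τ _ x).symm) (fun x => (Ψ_naturality I ω E τ _ x).symm)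
    (Fmap_exact I _ hTii) (Fmap_exact I _ hTi) (Fmap_exact I _ hT)
    (Gmap_exact ω E _ hTii) (Gmap_exact ω E _ hTi)
    (Gmap_exact ω E _ hT)
    h₁ h₂ h₄
    (fun k => by
      obtain ⟨N, hN⟩ := hF k
      exact ⟨N, (haF N k).trans hN⟩)
    (fun t => by
      obtain ⟨N, hN⟩ := hG t
      exact ⟨N, (hbG N t).trans hN⟩)

end Groth.Agent.Lib.Helper13.LD
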