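import Groth.Agent.Lib.Helper13.LD2
import Groth.Agent.Lib.Helper13.LD6
import Groth.Agent.Lib.Helper13.DualBC16
import Groth.Agent.Lib.Helper2.RGTors.HasR
import Groth.Agent.Lib.Helper2.RGTors.Resol

/-!
# Local duality: base case and vanishing
-/

set_option autoImplicit false
set_option linter.style.haveILetI false
set_option linter.unusedSectionVars false
universe u
open CategoryTheory CategoryTheory.Limits Opposite Pretriangulated

namespace Groth.Agent.Lib.Helper13.LD

open Groth.Agent.Lib.Helper2.RGColim Groth.Agent.Lib.Helper25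
open DerivedCategory InjHull IsLocalRing

attribute [local instance] HasDerivedCategory.standard

section ShiftHom

variable {A : Type u} [CommRing A]

/-- `Hom(Y⟦i⟧, W) ≃ Hom(Y, W⟦-i⟧)`, linearly. -/
noncomputable def shiftHomLinearMap (Y W : Dual.D A) (i : ℤ) :
    (Y⟦i⟧ ⟶ W) →ₗ[A] (Y ⟶ W⟦-i⟧) where
  toFun g := (shiftShiftNeg Y i).inv ≫ g⟦-i⟧'
  map_add' g h := by rw [Functor.map_add, Preadditive.comp_add]
  map_smul' a g := by rw [Functor.map_smul, Linear.comp_smul]; rfl

lemma shiftHomLinearMap_bijective (Y W : Dual.D A) (i : ℤ) :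
    Function.Bijective (shiftHomLinearMap Y W i) := by
  constructor
  · intro g h hgh
    have h1 : g⟦-i⟧' = h⟦-i⟧' := (cancel_epi (shiftShiftNeg Y i).inv).1 hgh
    exact (shiftFunctor (Dual.D A) (-i)).map_injective h1
  · intro k
    obtain ⟨g, hg⟩ := (shiftFunctor (Dual.D A) (-i)).map_surjective ((shiftShiftNeg Y i).hom ≫ k)
    refine ⟨g, ?_⟩
    change (shiftShiftNeg Y i).inv ≫ g⟦-i⟧' = k
    rw [hg, Iso.inv_hom_id_assoc]

noncomputable def shiftHomEquiv (Y W : Dual.D A) (i : ℤ) :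
    (Y⟦i⟧ ⟶ W) ≃ₗ[A] (Y ⟶ W⟦-i⟧) :=
  LinearEquiv.ofBijective _ (shiftHomLinearMap_bijective Y W i)

end ShiftHom

section Zero

variable {A : Type u} [CommRing A] (I : Ideal A) (ω : Dual.D A)
  (E : Type u) [AddCommGroup E] [Module A E] (τ : Colim I ω →ₗ[A] E)

lemma subsingleton_colim_of_forall (K : Dual.D A)
    (h : ∀ n : ℕ, Subsingleton (Dn I K n)) : Subsingleton (Colim I K) := by
  have key : ∀ x : Colim I K, x = 0 := by
    intro x
    obtain ⟨n, φ, rfl⟩ := ιn_jointly_surjective I K x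
    rw [(h n).elim φ 0, map_zero]
  exact ⟨fun x y => (key x).trans (key y).symm⟩

lemma subsingleton_G_of_subsingleton (K : Dual.D A) (h : Subsingleton (K ⟶ ω)) :
    Subsingleton (G ω E K) :=
  ⟨fun l l' => LinearMap.ext fun φ => by rw [h.elim φ 0, map_zero, map_zero]⟩

lemma Ψ_bijective_of_subsingleton (K : Dual.D A) (h1 : Subsingleton (Colim I K))
    (h2 : Subsingleton (G ω E K)) : Function.Bijective (Ψ I ω E τ K) :=
  ⟨fun x y _ => h1.elim x y, fun l => ⟨0, h2.elim _ _⟩⟩

lemma PP_of_isZero (K : Dual.D A) (hK : IsZero K) : PP I ω E τ K := by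
  intro i
  have hz : IsZero (K⟦i⟧) := Functor.map_isZero _ hK
  exact Ψ_bijective_of_subsingleton I ω E τ _
    (subsingleton_colim_of_forall I _ (fun n => ⟨fun x y => hz.eq_of_tgt x y⟩))
    (subsingleton_G_of_subsingleton ω E _ ⟨fun x y => hz.eq_of_src x y⟩)

end Zero

section Local

variable (A : Type u) [CommRing A] [IsLocalRing A] [IsNoetherianRing A]
  (ω : Dual.D A) (hω : Dual.IsDualizing A ω) (hn : Dual.IsNormalized A ω)
  (E : Type u) [AddCommGroup E] [Module A E] (f : ResidueField A →ₗ[A] E)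
  (hf : IsInjectiveHull f) (τ : Colim (maximalIdeal A) ω ≃ₗ[A] E)

/-- `colim_n Hom_D(A/I^n, K⟦q⟧) ≅ H^q(K)` for `K` with torsion cohomology. -/
lemma nonempty_HDI_equiv_HD_of_torsion (I : Ideal A) (K : Dual.D A)
    (hK : ∀ i : ℤ, LocCoh.IsPowerTorsion I (Dual.HD A K i)) (q : ℤ) :
    Nonempty (Colim I (K⟦q⟧) ≃ₗ[A] Dual.HD A K q) := by
  haveI : DRing.HasRgammaI I := Groth.Agent.Lib.Helper2.RGTors.hasRgammaI I
  obtain ⟨e⟩ := Groth.Agent.Lib.Helper2.RGColim.nonempty_equiv I K q
  haveI := Groth.Agent.Lib.Helper2.RGTors.isIso_ε_of_torsion I K hK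
  let e2 : Dual.HD A ((DRing.RgammaI I).obj K) q ≃ₗ[A] Dual.HD A K q :=
    ((DerivedCategory.homologyFunctor (ModuleCat.{u} A) q).mapIso
      (asIso ((DRing.RgammaIε I).app K))).toLinearEquiv
  exact ⟨e.symm.trans e2⟩

include hω hn in
/-- Vanishing of both sides for negative shifts of a module. -/
lemma Ψ_bijective_of_neg (M : Type u) [AddCommGroup M] [Module A M] (i : ℤ) (hi : i < 0) :
    Function.Bijective (Ψ (maximalIdeal A) ω E τ.toLinearMap ((Dual.inD A M)⟦i⟧)) := by
  apply Ψ_bijective_of_subsingleton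
  · apply subsingleton_colim_of_forall
    intro n
    refine ⟨fun x y => ?_⟩
    suffices H : ∀ x : Dn (maximalIdeal A) ((Dual.inD A M)⟦i⟧) n, x = 0 by rw [H x, H y]
    intro x
    have h1 : ((DerivedCategory.singleFunctor (ModuleCat.{u} A) 0).obj
        (N (maximalIdeal A) n)).IsLE 0 := inferInstance
    have h2 : ((Dual.inD A M)⟦i⟧).IsGE (0 - i) :=
      TStructure.t.isGE_shift (Dual.inD A M) 0 i (0 - i) (by omega)
    exact TStructure.t.zero_of_isLE_of_isGE x 0 (0 - i) (by omega) h1 h2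
  · apply subsingleton_G_of_subsingleton
    have h1 : Subsingleton (Dual.inD A M ⟶ ω⟦-i⟧) :=
      DualBC.subsingleton_ext_pos ω hω hn M (-i) (by omega)
    exact (shiftHomEquiv (Dual.inD A M) ω i).toEquiv.subsingleton

include hω hn hf in
/-- The base case: the residue field. -/
lemma PP_residue :
    PP (maximalIdeal A) ω E τ.toLinearMap (Dual.inD A (A ⧸ maximalIdeal A)) := by
  intro i
  -- torsion cohomology
  have htors : ∀ j : ℤ, LocCoh.IsPowerTorsion (maximalIdeal A)
      (Dual.HD A (Dual.inD A (A ⧸ maximalIdeal A)) j) := by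
    intro j
    by_cases hj : j = 0
    · subst hj
      let e : Dual.HD A (Dual.inD A (A ⧸ maximalIdeal A)) 0 ≃ₗ[A] (A ⧸ maximalIdeal A) :=
        (PC.homologySingleIso 0 (ModuleCat.of A (A ⧸ maximalIdeal A))).toLinearEquiv
      intro x
      refine ⟨1, fun a ha => ?_⟩
      apply e.injective
      rw [map_smul, map_zero]
      rw [pow_one] at ha
      exact smul_residueField_eq_zero ha (e x)
    · have hz := PC.isZero_homology_single 0 j hj (ModuleCat.of A (A ⧸ maximalIdeal A))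
      have : Subsingleton (Dual.HD A (Dual.inD A (A ⧸ maximalIdeal A)) j) :=
        ModuleCat.subsingleton_of_isZero hz
      intro x
      exact ⟨0, fun a _ => Subsingleton.elim _ _⟩
  obtain ⟨eF⟩ := nonempty_HDI_equiv_HD_of_torsion A (maximalIdeal A)
    (Dual.inD A (A ⧸ maximalIdeal A)) htors i
  by_cases hi : i = 0
  · subst hi
    apply Ψ_bijective_of_iso _ _ _ _
      ((shiftFunctorZero (Dual.D A) ℤ).app (Dual.inD A (A ⧸ maximalIdeal A))).symm
    change Function.Bijective (Ψ (maximalIdeal A) ω E τ.toLinearMap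
      (Dual.inD A (A ⧸ maximalIdeal A)))
    -- the `F` side is simple
    let e1 : Colim (maximalIdeal A) (Dual.inD A (A ⧸ maximalIdeal A)) ≃ₗ[A]
        Colim (maximalIdeal A) ((Dual.inD A (A ⧸ maximalIdeal A))⟦(0 : ℤ)⟧) :=
      LinearEquiv.ofBijective (Fmap (maximalIdeal A)
        ((shiftFunctorZero (Dual.D A) ℤ).app (Dual.inD A (A ⧸ maximalIdeal A))).inv)
        (Fmap_bijective_of_isIso _ _)
    let e2 : Dual.HD A (Dual.inD A (A ⧸ maximalIdeal A)) 0 ≃ₗ[A] ResidueField A :=
      (PC.homologySingleIso 0 (ModuleCat.of A (A ⧸ maximalIdeal A))).toLinearEquiv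
    haveI hsF : IsSimpleModule A (Colim (maximalIdeal A) (Dual.inD A (A ⧸ maximalIdeal A))) :=
      IsSimpleModule.congr (e1.trans (eF.trans e2))
    -- the `G` side is simple
    obtain ⟨ε⟩ := DualBC.ext_residue_normalized A ω hω hn
    let e3 : (Dual.inD A (A ⧸ maximalIdeal A) ⟶ ω) ≃ₗ[A] ResidueField A :=
      (Linear.homCongr A (Iso.refl _) ((shiftFunctorZero (Dual.D A) ℤ).app ω).symm).trans ε
    let e4 : G ω E (Dual.inD A (A ⧸ maximalIdeal A)) ≃ₗ[A] ResidueField A :=
      (LinearEquiv.congrLeft E A e3).trans (homResidueEquiv f hf.toIsEssentialInj)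
    haveI hsG : IsSimpleModule A (G ω E (Dual.inD A (A ⧸ maximalIdeal A))) :=
      IsSimpleModule.congr e4
    -- the pairing is nonzero
    apply LinearMap.bijective_of_ne_zero
    intro h0
    obtain ⟨φ, hφ⟩ : ∃ φ : Dual.inD A (A ⧸ maximalIdeal A) ⟶ ω, φ ≠ 0 := by
      refine ⟨e3.symm 1, fun h => ?_⟩
      have h1 : (1 : ResidueField A) = 0 := (LinearEquiv.map_eq_zero_iff e3.symm).1 h
      exact one_ne_zero h1
    let g₀ : N (maximalIdeal A) 1 ≅ ModuleCat.of A (A ⧸ maximalIdeal A) :=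
      (Submodule.quotEquivOfEq _ _ (pow_one (maximalIdeal A))).toModuleIso
    let γ := (DerivedCategory.singleFunctor (ModuleCat.{u} A) 0).mapIso g₀
    have h1 : Ψ (maximalIdeal A) ω E τ.toLinearMap (Dual.inD A (A ⧸ maximalIdeal A))
        (ιn (maximalIdeal A) _ 1 γ.hom) φ = 0 := by
      rw [h0]
      rfl
    rw [Ψ_apply, Fmap_ιn] at h1
    have h2 : ιn (maximalIdeal A) ω 1 (γ.hom ≫ φ) = 0 :=
      (LinearEquiv.map_eq_zero_iff τ).1 h1
    have h3 : γ.hom ≫ φ = 0 := (injective_iff_map_eq_zero _).1 (ιn_injective A ω hn 1) _ h2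
    apply hφ
    rw [← cancel_epi γ.hom, h3, comp_zero]
  · apply Ψ_bijective_of_subsingleton
    · have hz := PC.isZero_homology_single 0 i hi (ModuleCat.of A (A ⧸ maximalIdeal A))
      have : Subsingleton (Dual.HD A (Dual.inD A (A ⧸ maximalIdeal A)) i) :=
        ModuleCat.subsingleton_of_isZero hz
      exact eF.toEquiv.subsingleton
    · apply subsingleton_G_of_subsingleton
      have h1 : Subsingleton (Dual.inD A (A ⧸ maximalIdeal A) ⟶ ω⟦-i⟧) := hn (-i) (by omega)
      exact (shiftHomEquiv (Dual.inD A (A ⧸ maximalIdeal A)) ω i).toEquiv.subsingleton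

end Local

end Groth.Agent.Lib.Helper13.LD
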