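import Groth.Agent.Lib.Helper13.LocFF5
import Mathlib.CategoryTheory.Triangulated.Subcategory

set_option autoImplicit false
universe u
open CategoryTheory CategoryTheory.Limits Pretriangulated ZeroObject

namespace Groth.Agent.Lib.Helper13.Coind

open Groth.Agent.Lib.Helper7.DerivedComplete Groth.Agent.Lib.Helper7.DerivedCompleteMT
  Groth.Agent.Lib.Helper7.FComplete

attribute [local instance] HasDerivedCategory.standard

variable {A : Type u} [CommRing A] (I : Ideal A)

instance : (DRing.IsDerivedComplete I).IsClosedUnderIsomorphisms :=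
  ⟨fun e h => of_iso I e h⟩

instance isTriangulated_isDerivedComplete : (DRing.IsDerivedComplete I).IsTriangulated where
  exists_zero := ⟨0, isZero_zero _, of_isZero I (isZero_zero _)⟩
  isStableUnderShiftBy n := { le_shift := fun _ hK => shift I hK n }
  toIsTriangulatedClosed₂ := .mk' (fun T hT h₁ h₃ => of_distTriang₂ I T hT h₁ h₃)

variable [DRing.HasDerivedCompletion I]

noncomputable instance : (DRing.derivedCompletion I).CommShift ℤ :=
  (DRing.derivedCompletionAdj I).leftAdjointCommShift ℤ

instance : (DRing.derivedCompletionAdj I).CommShift ℤ :=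
  (DRing.derivedCompletionAdj I).commShift_of_rightAdjoint ℤ

instance : (DRing.derivedCompletion I).IsTriangulated :=
  (DRing.derivedCompletionAdj I).isTriangulated_leftAdjoint

/-- Derived completion carries distinguished triangles to distinguished triangles. -/
theorem exists_completion_triangle {K L : Dual.D A} (φ : K ⟶ L) :
    ∃ (M : Dual.D A) (ψ : L ⟶ M) (δ : M ⟶ K⟦(1 : ℤ)⟧)
      (ψ' : ((DRing.derivedCompletion I).obj L).obj ⟶ ((DRing.derivedCompletion I).obj M).obj)
      (δ' : ((DRing.derivedCompletion I).obj M).obj ⟶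
        (((DRing.derivedCompletion I).obj K).obj)⟦(1 : ℤ)⟧),
      Triangle.mk φ ψ δ ∈ distTriang (Dual.D A) ∧
      Triangle.mk ((DRing.derivedCompletion I).map φ).hom ψ' δ' ∈ distTriang (Dual.D A) := by
  obtain ⟨M, ψ, δ, hT⟩ := distinguished_cocone_triangle φ
  have hT' := (DRing.derivedCompletion I ⋙
    ObjectProperty.ι (DRing.IsDerivedComplete I)).map_distinguished _ hT
  exact ⟨M, ψ, δ, _, _, hT, hT'⟩

/-- Cohomological bound for the derived completion. -/
theorem isZero_homology_derivedCompletion (s : Finset A) (hs : Ideal.span (s : Set A) = I)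
    (K : Dual.D A) (i : ℤ)
    (h : ∀ j : ℤ, i ≤ j → j ≤ i + s.card → IsZero ((Hh j).obj K)) :
    IsZero ((Hh i).obj ((DRing.derivedCompletion I).obj K).obj) := by
  classical
  obtain ⟨C, u, hC, huniv, hbd⟩ := exists_completion_list_bound s.toList K
  have key := isDerivedComplete_iff_of_span I s hs
  obtain ⟨e⟩ := nonempty_iso_derivedCompletion I K C u
    ((key C).2 hC) (fun C₀ h0 => huniv C₀ ((key C₀).1 h0))
  have hz : IsZero ((Hh i).obj C) := by
    apply hbd i
    intro j hj1 hj2
    rw [Finset.length_toList] at hj2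
    exact h j hj1 hj2
  exact hz.of_iso ((Hh i).mapIso e.symm)

/-- Vanishing of the cohomology of the cone in terms of the map. -/
lemma isZero_homology_cone (T : Triangle (Dual.D A)) (hT : T ∈ distTriang (Dual.D A)) (i : ℤ)
    (h1 : Epi ((Hh i).map T.mor₁)) (h2 : Mono ((Hh (i + 1)).map T.mor₁)) :
    IsZero ((Hh i).obj T.obj₃) :=
  (DerivedCategory.HomologySequence.exact₃ T hT i (i + 1) rfl).isZero_of_both_zeros
    ((DerivedCategory.HomologySequence.epi_homologyMap_mor₁_iff T hT i).1 h1)
    ((DerivedCategory.HomologySequence.mono_homologyMap_mor₁_iff T hT i (i + 1) rfl).1 h2)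

lemma epi_homology_of_isZero (T : Triangle (Dual.D A)) (hT : T ∈ distTriang (Dual.D A)) (i : ℤ)
    (h : IsZero ((Hh i).obj T.obj₃)) : Epi ((Hh i).map T.mor₁) :=
  (DerivedCategory.HomologySequence.epi_homologyMap_mor₁_iff T hT i).2 (h.eq_of_tgt _ _)

lemma mono_homology_of_isZero (T : Triangle (Dual.D A)) (hT : T ∈ distTriang (Dual.D A)) (i : ℤ)
    (h : IsZero ((Hh (i - 1)).obj T.obj₃)) : Mono ((Hh i).map T.mor₁) :=
  (DerivedCategory.HomologySequence.mono_homologyMap_mor₁_iff T hT (i - 1) i (by lia)).2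
    (h.eq_of_src _ _)

/-- Right t-exactness type statement (S7091). -/
theorem completion_map_homology_of_pos (hI : I.FG) {K L : Dual.D A} (φ : K ⟶ L)
    (hiso : ∀ i : ℤ, 1 ≤ i → IsIso ((Hh i).map φ)) (hepi : Epi ((Hh 0).map φ)) :
    (∀ i : ℤ, 1 ≤ i → IsIso ((Hh i).map ((DRing.derivedCompletion I).map φ).hom)) ∧
      Epi ((Hh 0).map ((DRing.derivedCompletion I).map φ).hom) := by
  obtain ⟨s, hs⟩ := hI
  obtain ⟨M, ψ, δ, ψ', δ', hT, hT'⟩ := exists_completion_triangle I φ
  have hM : ∀ i : ℤ, 0 ≤ i → IsZero ((Hh i).obj M) := by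
    intro i hi
    apply isZero_homology_cone _ hT i
    · rcases eq_or_lt_of_le hi with rfl | hi'
      · exact hepi
      · have := hiso i (by lia)
        change Epi ((Hh i).map φ)
        infer_instance
    · have := hiso (i + 1) (by lia)
      change Mono ((Hh (i + 1)).map φ)
      infer_instance
  have hM' : ∀ i : ℤ, 0 ≤ i → IsZero ((Hh i).obj ((DRing.derivedCompletion I).obj M).obj) :=
    fun i hi => isZero_homology_derivedCompletion I s hs M i (fun j hj _ => hM j (by lia))
  refine ⟨fun i hi => ?_, epi_homology_of_isZero _ hT' 0 (hM' 0 le_rfl)⟩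
  have h1 : Epi ((Hh i).map ((DRing.derivedCompletion I).map φ).hom) :=
    epi_homology_of_isZero _ hT' i (hM' i (by lia))
  have h2 : Mono ((Hh i).map ((DRing.derivedCompletion I).map φ).hom) :=
    mono_homology_of_isZero _ hT' i (hM' (i - 1) (by lia))
  exact isIso_of_mono_of_epi _

/-- Left t-exactness up to a shift by the number of generators (S7092). -/
theorem completion_map_homology_of_neg (s : Finset A) (hs : Ideal.span (s : Set A) = I)
    {K L : Dual.D A} (φ : K ⟶ L)
    (hiso : ∀ i : ℤ, i ≤ -1 → IsIso ((Hh i).map φ)) (hmono : Mono ((Hh 0).map φ)) :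
    (∀ i : ℤ, i ≤ -(s.card : ℤ) - 1 →
        IsIso ((Hh i).map ((DRing.derivedCompletion I).map φ).hom)) ∧
      Mono ((Hh (-(s.card : ℤ))).map ((DRing.derivedCompletion I).map φ).hom) := by
  obtain ⟨M, ψ, δ, ψ', δ', hT, hT'⟩ := exists_completion_triangle I φ
  have hM : ∀ i : ℤ, i ≤ -1 → IsZero ((Hh i).obj M) := by
    intro i hi
    apply isZero_homology_cone _ hT i
    · have := hiso i hi
      change Epi ((Hh i).map φ)
      infer_instance
    · rcases eq_or_lt_of_le hi with rfl | hi'
      · exact hmono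
      · have := hiso (i + 1) (by lia)
        change Mono ((Hh (i + 1)).map φ)
        infer_instance
  have hM' : ∀ i : ℤ, i ≤ -(s.card : ℤ) - 1 →
      IsZero ((Hh i).obj ((DRing.derivedCompletion I).obj M).obj) :=
    fun i hi => isZero_homology_derivedCompletion I s hs M i (fun j _ hj => hM j (by lia))
  refine ⟨fun i hi => ?_, mono_homology_of_isZero _ hT' _ (hM' _ (by lia))⟩
  have h1 : Epi ((Hh i).map ((DRing.derivedCompletion I).map φ).hom) :=
    epi_homology_of_isZero _ hT' i (hM' i hi)
  have h2 : Mono ((Hh i).map ((DRing.derivedCompletion I).map φ).hom) :=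
    mono_homology_of_isZero _ hT' i (hM' (i - 1) (by lia))
  exact isIso_of_mono_of_epi _

end Groth.Agent.Lib.Helper13.Coind
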