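import Groth.Agent.Lib.Helper13.HS5
import Groth.Agent.Lib.Helper13.HS3
import Groth.Agent.Lib.Helper13.LD7
import Groth.Agent.Lib.Helper2.RGTors.GM
import Groth.Agent.Lib.Helper7.DerivedCompleteMT
import Groth.Agent.Lib.Helper7.FCompleteAdic

/-!
# Local duality over a complete local ring, for arbitrary complexes
-/

set_option autoImplicit false
set_option linter.style.haveILetI false
set_option linter.unusedSectionVars false

universe u

open CategoryTheory CategoryTheory.Limits HomologicalComplex DerivedCategory Pretriangulated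

namespace Groth.Agent.Lib.Helper13.HS

open Groth.Agent.Lib.Helper13.PC Groth.Agent.Lib.Helper13.BD Groth.Agent.Lib.Helper13.DualBC
  Groth.Agent.Lib.Helper25 InjHull IsLocalRing
  Groth.Agent.Lib.Helper7.FComplete Groth.Agent.Lib.Helper2.RGTors Groth.Agent.Lib.Helper2.RGColim

attribute [local instance] HasDerivedCategory.standard

section Complete

variable {A : Type u} [CommRing A] [IsNoetherianRing A]

lemma isFComplete_of_finite {f : A} (hA : IsFComplete f A) (M : Type u) [AddCommGroup M]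
    [Module A M] [Module.Finite A M] : IsFComplete f M := by
  obtain ⟨n, π, hπ⟩ := Module.Finite.exists_fin' A M
  haveI : Module.Finite A (LinearMap.ker π) := inferInstance
  obtain ⟨k, ρ₀, hρ₀⟩ := Module.Finite.exists_fin' A (LinearMap.ker π)
  let ρ : (Fin k → A) →ₗ[A] (Fin n → A) := (LinearMap.ker π).subtype ∘ₗ ρ₀
  have hρ : LinearMap.range ρ = LinearMap.ker π := by
    rw [LinearMap.range_comp, LinearMap.range_eq_top.2 hρ₀, Submodule.map_top,
      Submodule.range_subtype]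
  have hk : IsFComplete f (Fin k → A) := IsFComplete.pi fun _ => hA
  have hn : IsFComplete f (Fin n → A) := IsFComplete.pi fun _ => hA
  have h2 := IsFComplete.coker ρ hk hn
  exact h2.of_linearEquiv ((Submodule.quotEquivOfEq _ _ hρ).trans
    (π.quotKerEquivOfSurjective hπ))

/-- Over an `I`-adically complete Noetherian ring, a complex with finite cohomology modules is
derived complete. -/
theorem isDerivedComplete_of_finite_HD (I : Ideal A) [IsAdicComplete I A] (K : Dual.D A)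
    (hK : ∀ i : ℤ, Module.Finite A (Dual.HD A K i)) : DRing.IsDerivedComplete I K := by
  rw [Groth.Agent.Lib.Helper7.DerivedCompleteMT.isDerivedComplete_iff]
  intro f hf i
  haveI := hK i
  exact isFComplete_of_finite (isFComplete_of_isAdicComplete hf A) _

end Complete

section Local

variable (A : Type u) [CommRing A] [IsLocalRing A] [IsNoetherianRing A]
  (ω : Dual.D A) (hω : Dual.IsDualizing A ω) (hn : Dual.IsNormalized A ω)
  (E : Type u) [AddCommGroup E] [Module A E] (f : ResidueField A →ₗ[A] E)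
  (hf : IsInjectiveHull f)

include hω hn hf in
/-- `RΓ_m(ω) ≅ E[0]` for a normalized dualizing complex. -/
theorem nonempty_RgammaI_iso [DRing.HasRgammaI (maximalIdeal A)] :
    Nonempty ((DRing.RgammaI (maximalIdeal A)).obj ω ≅ Dual.inD A E) := by
  obtain ⟨e0⟩ := Groth.Agent.Lib.Helper2.RGColim.nonempty_equiv (maximalIdeal A) ω 0
  obtain ⟨e1⟩ := LD.nonempty_HDI_zero_equiv A ω hω hn E f hf
  refine nonempty_iso_inD_of_HD _ (fun j hj => ?_) E (e0 ≪≫ₗ e1)
  obtain ⟨ej⟩ := Groth.Agent.Lib.Helper2.RGColim.nonempty_equiv (maximalIdeal A) ω j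
  have := LD.subsingleton_HDI A ω hn j hj
  exact ej.toEquiv.subsingleton

include hω hn hf in
/-- **Local duality over a complete local ring** for arbitrary complexes:
`Hom_D(K, ω[-i]) ≃ Hom_A(H^i_m(K), E)`. -/
theorem nonempty_hom_equiv_dual_HDI [IsAdicComplete (maximalIdeal A) A] (K : Dual.D A) (i : ℤ) :
    Nonempty ((K ⟶ ω⟦(-i)⟧) ≃ₗ[A] (Dual2.HDI A (maximalIdeal A) K i →ₗ[A] E)) := by
  haveI : DRing.HasRgammaI (maximalIdeal A) := hasRgammaI (maximalIdeal A)
  haveI : Module.Injective A E := hf.isInjective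
  have hωc : DRing.IsDerivedComplete (maximalIdeal A) ω :=
    isDerivedComplete_of_finite_HD (maximalIdeal A) ω hω.finite_cohomology
  obtain ⟨ι⟩ := nonempty_RgammaI_iso A ω hω hn E f hf
  let K' := K⟦i⟧
  let RK := (DRing.RgammaI (maximalIdeal A)).obj K'
  let Φ₁ : (K ⟶ ω⟦(-i)⟧) ≃ₗ[A] (K' ⟶ ω) := (LD.shiftHomEquiv K ω i).symm
  let Φ₂ : (K' ⟶ ω) ≃ₗ[A] (RK ⟶ ω) :=
    LinearEquiv.ofBijective (Linear.leftComp A ω ((DRing.RgammaIε (maximalIdeal A)).app K'))
      (bijective_precomp_ε (maximalIdeal A) K' ω hωc)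
  let Φ₃ : (RK ⟶ (DRing.RgammaI (maximalIdeal A)).obj ω) ≃ₗ[A] (RK ⟶ ω) :=
    LinearEquiv.ofBijective (Linear.rightComp A RK ((DRing.RgammaIε (maximalIdeal A)).app ω))
      (bijective_comp_ε (maximalIdeal A) RK ω (PT_RgammaI (maximalIdeal A) K'))
  let Φ₄ : (RK ⟶ (DRing.RgammaI (maximalIdeal A)).obj ω) ≃ₗ[A] (RK ⟶ Dual.inD A E) :=
    Linear.homCongr A (Iso.refl RK) ι
  obtain ⟨Φ₅⟩ := nonempty_hom_inD_equiv RK E
  obtain ⟨e6⟩ := Groth.Agent.Lib.Helper2.RGColim.nonempty_equiv (maximalIdeal A) K' 0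
  let e7 : Dual2.HDI A (maximalIdeal A) K' 0 ≃ₗ[A] Dual2.HDI A (maximalIdeal A) K i :=
    (colimIso (maximalIdeal A) ((shiftFunctorZero (Dual.D A) ℤ).app K')).toLinearEquiv
  exact ⟨Φ₁ ≪≫ₗ Φ₂ ≪≫ₗ Φ₃.symm ≪≫ₗ Φ₄ ≪≫ₗ Φ₅ ≪≫ₗ LinearEquiv.congrLeft E A (e6 ≪≫ₗ e7)⟩

end Local

end Groth.Agent.Lib.Helper13.HS
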