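import Groth.Agent.Lib.Helper13.ShriekCoh
import Groth.Agent.Lib.Helper13.LocFF3

/-!
# Flat base change for `Hom` in the derived category: the comparison map
-/

set_option autoImplicit false
set_option linter.unusedSectionVars false

open CategoryTheory CategoryTheory.Limits CategoryTheory.Functor TensorProduct

universe u

namespace Groth.Agent.Lib.Helper13.HomBC

open DerivedCategory Groth.Agent.Lib.Helper13.DR Groth.Agent.Lib.Helper13.Coind

attribute [local instance] HasDerivedCategory.standard

variable (A B : Type u) [CommRing A] [CommRing B] [Algebra A B] [Module.Flat A B]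

lemma extendCx_map_smul_id (a : A) (E : DRing.Cx A) :
    (extendCx A B).map (a • 𝟙 E) = (algebraMap A B a) • 𝟙 _ := by
  ext i : 1
  exact extendScalars_map_smul_id (B := B) a (E.X i)

lemma flatBC_map_smul_id (a : A) (X : Dual.D A) :
    (flatBC A B).map (a • 𝟙 X) = (algebraMap A B a) • 𝟙 _ := by
  let E := Q.objPreimage X
  let e : Q.obj E ≅ X := Q.objObjPreimageIso X
  have h1 : a • 𝟙 X = e.inv ≫ Q.map (a • 𝟙 E) ≫ e.hom := by
    rw [Functor.map_smul, CategoryTheory.Functor.map_id, Linear.smul_comp, Linear.comp_smul,
      Category.id_comp, Iso.inv_hom_id]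
  have h2 := (ModuleCat.extendScalars.{u, u, u} (algebraMap A B)).mapDerivedCategoryFactors.hom.naturality
    (a • 𝟙 E)
  dsimp at h2
  have h3 : (flatBC A B).map (Q.map (a • 𝟙 E)) = (algebraMap A B a) • 𝟙 _ := by
    have h4 : (flatBC A B).map (Q.map (a • 𝟙 E)) =
        ((ModuleCat.extendScalars.{u, u, u} (algebraMap A B)).mapDerivedCategoryFactors.hom.app E) ≫
          Q.map ((extendCx A B).map (a • 𝟙 E)) ≫
          ((ModuleCat.extendScalars.{u, u, u} (algebraMap A B)).mapDerivedCategoryFactors.inv.app E) := by
      rw [← Category.assoc, ← h2, Category.assoc, Iso.hom_inv_id_app]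
      exact (Category.comp_id _).symm
    rw [h4, extendCx_map_smul_id, Functor.map_smul, CategoryTheory.Functor.map_id,
      Linear.smul_comp, Linear.comp_smul]
    erw [Category.id_comp]
    rw [Iso.hom_inv_id_app]
    rfl
  rw [h1, Functor.map_comp, Functor.map_comp, h3, Linear.smul_comp, Linear.comp_smul,
    Category.id_comp, ← Functor.map_comp, Iso.inv_hom_id, CategoryTheory.Functor.map_id]

lemma flatBC_map_smul (a : A) {X Y : Dual.D A} (f : X ⟶ Y) :
    (flatBC A B).map (a • f) = (algebraMap A B a) • (flatBC A B).map f := by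
  have : a • f = (a • 𝟙 X) ≫ f := by rw [Linear.smul_comp, Category.id_comp]
  rw [this, Functor.map_comp, flatBC_map_smul_id, Linear.smul_comp, Category.id_comp]

variable {A}

/-- The comparison map `B ⊗_A Hom(X, Y) → Hom(B ⊗ X, B ⊗ Y)`. -/
noncomputable def bcHom (X Y : Dual.D A) :
    B ⊗[A] (X ⟶ Y) →+ ((flatBC A B).obj X ⟶ (flatBC A B).obj Y) :=
  TensorProduct.liftAddHom
    { toFun := fun b =>
        { toFun := fun f => b • (flatBC A B).map f
          map_zero' := by rw [Functor.map_zero, smul_zero]
          map_add' := fun f g => by rw [Functor.map_add, smul_add] }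
      map_zero' := by ext f; simp
      map_add' := fun b b' => by ext f; simp [add_smul] }
    (by
      intro a b f
      change (a • b) • (flatBC A B).map f = b • (flatBC A B).map (a • f)
      rw [flatBC_map_smul, smul_smul, Algebra.smul_def, mul_comm])

@[simp]
lemma bcHom_tmul (X Y : Dual.D A) (b : B) (f : X ⟶ Y) :
    bcHom B X Y (b ⊗ₜ f) = b • (flatBC A B).map f := rfl

end Groth.Agent.Lib.Helper13.HomBC
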