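import Groth.Agent.Lib.Helper13.HomBC1
import Mathlib.Algebra.FiveLemma

/-!
# Flat base change for `Hom`: naturality and the five lemma
-/

set_option autoImplicit false
set_option linter.unusedSectionVars false

open CategoryTheory CategoryTheory.Limits CategoryTheory.Functor TensorProduct Pretriangulated

universe u

namespace Groth.Agent.Lib.Helper13.HomBC

open DerivedCategory Groth.Agent.Lib.Helper13.DR Groth.Agent.Lib.Helper13.Coind

attribute [local instance] HasDerivedCategory.standard

section Exact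

variable {R : Type*} [CommRing R] {C : Type*} [Category C] [Preadditive C] [HasZeroObject C]
  [HasShift C ℤ] [∀ n : ℤ, (shiftFunctor C n).Additive] [Pretriangulated C] [Linear R C]

lemma exact_leftComp (T : Triangle C) (hT : T ∈ distTriang C) (Y : C) :
    Function.Exact (Linear.leftComp R Y T.mor₂) (Linear.leftComp R Y T.mor₁) := by
  intro u
  constructor
  · intro hu
    obtain ⟨v, hv⟩ := Triangle.yoneda_exact₂ T hT u hu
    exact ⟨v, hv.symm⟩
  · rintro ⟨v, rfl⟩
    change T.mor₁ ≫ T.mor₂ ≫ v = 0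
    rw [← Category.assoc, comp_distTriang_mor_zero₁₂ _ hT, zero_comp]

end Exact

variable {A : Type u} (B : Type u) [CommRing A] [CommRing B] [Algebra A B] [Module.Flat A B]

/-- Precomposition, tensored with `B`. -/
noncomputable def topMap {X X' : Dual.D A} (g : X' ⟶ X) (Y : Dual.D A) :
    B ⊗[A] (X ⟶ Y) →+ B ⊗[A] (X' ⟶ Y) :=
  (LinearMap.lTensor B (Linear.leftComp A Y g)).toAddMonoidHom

/-- Precomposition after base change. -/
noncomputable def botMap {X X' : Dual.D A} (g : X' ⟶ X) (Y : Dual.D A) :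
    ((flatBC A B).obj X ⟶ (flatBC A B).obj Y) →+ ((flatBC A B).obj X' ⟶ (flatBC A B).obj Y) :=
  (Linear.leftComp B ((flatBC A B).obj Y) ((flatBC A B).map g)).toAddMonoidHom

lemma bcHom_comm {X X' : Dual.D A} (g : X' ⟶ X) (Y : Dual.D A) :
    (botMap B g Y).comp (bcHom B X Y) = (bcHom B X' Y).comp (topMap B g Y) := by
  refine AddMonoidHom.ext fun z => ?_
  induction z using TensorProduct.induction_on with
  | zero => rw [_root_.map_zero, _root_.map_zero]
  | tmul b f =>
    change (flatBC A B).map g ≫ (b • (flatBC A B).map f) = b • (flatBC A B).map (g ≫ f)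
    rw [Functor.map_comp, Linear.comp_smul]
  | add x y hx hy => rw [_root_.map_add, _root_.map_add, hx, hy]

lemma exact_topMap (T : Triangle (Dual.D A)) (hT : T ∈ distTriang (Dual.D A)) (Y : Dual.D A) :
    Function.Exact (topMap B T.mor₂ Y) (topMap B T.mor₁ Y) :=
  Module.Flat.lTensor_exact B (exact_leftComp (R := A) T hT Y)

lemma exact_botMap (T : Triangle (Dual.D A)) (hT : T ∈ distTriang (Dual.D A)) (Y : Dual.D A) :
    Function.Exact (botMap B T.mor₂ Y) (botMap B T.mor₁ Y) :=
  exact_leftComp (R := B) ((flatBC A B).mapTriangle.obj T) ((flatBC A B).map_distinguished T hT)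
    ((flatBC A B).obj Y)

/-- The five lemma for the comparison map. -/
theorem bijective_bcHom_of_distTriang (T : Triangle (Dual.D A)) (hT : T ∈ distTriang (Dual.D A))
    (Y : Dual.D A)
    (h₁' : Function.Bijective (bcHom B (T.obj₁⟦(1 : ℤ)⟧) Y))
    (h₃ : Function.Bijective (bcHom B T.obj₃ Y))
    (h₁ : Function.Bijective (bcHom B T.obj₁ Y))
    (h₃' : Function.Bijective (bcHom B (T.obj₃⟦(-1 : ℤ)⟧) Y)) :
    Function.Bijective (bcHom B T.obj₂ Y) := by
  have hrot := rot_of_distTriang _ hT
  have hinv := inv_rot_of_distTriang _ hT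
  exact AddMonoidHom.bijective_of_surjective_of_bijective_of_bijective_of_injective
    (topMap B T.mor₃ Y) (topMap B T.mor₂ Y) (topMap B T.mor₁ Y) (topMap B T.invRotate.mor₁ Y)
    (botMap B T.mor₃ Y) (botMap B T.mor₂ Y) (botMap B T.mor₁ Y) (botMap B T.invRotate.mor₁ Y)
    (bcHom B _ Y) (bcHom B _ Y) (bcHom B _ Y) (bcHom B _ Y) (bcHom B _ Y)
    (bcHom_comm B _ Y) (bcHom_comm B _ Y) (bcHom_comm B _ Y) (bcHom_comm B _ Y)
    (exact_topMap B T.rotate hrot Y) (exact_topMap B T hT Y) (exact_topMap B T.invRotate hinv Y)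
    (exact_botMap B T.rotate hrot Y) (exact_botMap B T hT Y) (exact_botMap B T.invRotate hinv Y)
    h₁'.2 h₃ h₁ h₃'.1

end Groth.Agent.Lib.Helper13.HomBC
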