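import Groth.Agent.Lib.Helper13.HomBC2

/-!
# Flat base change for `Hom`: the thick subcategory argument
-/

set_option autoImplicit false
set_option linter.unusedSectionVars false

open CategoryTheory CategoryTheory.Limits CategoryTheory.Functor TensorProduct Pretriangulated

universe u

namespace Groth.Agent.Lib.Helper13.HomBC

open DerivedCategory Groth.Agent.Lib.Helper13.DR Groth.Agent.Lib.Helper13.Coind

attribute [local instance] HasDerivedCategory.standard

variable {A : Type u} (B : Type u) [CommRing A] [CommRing B] [Algebra A B] [Module.Flat A B]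

lemma topMap_comp {X X' X'' : Dual.D A} (g : X' ⟶ X) (g' : X'' ⟶ X') (Y : Dual.D A)
    (z : B ⊗[A] (X ⟶ Y)) : topMap B (g' ≫ g) Y z = topMap B g' Y (topMap B g Y z) := by
  induction z using TensorProduct.induction_on with
  | zero => rw [_root_.map_zero, _root_.map_zero, _root_.map_zero]
  | tmul b f =>
    change b ⊗ₜ[A] ((g' ≫ g) ≫ f) = b ⊗ₜ[A] (g' ≫ g ≫ f)
    rw [Category.assoc]
  | add x y hx hy => rw [_root_.map_add, _root_.map_add, _root_.map_add, hx, hy]

lemma topMap_id (X Y : Dual.D A) (z : B ⊗[A] (X ⟶ Y)) : topMap B (𝟙 X) Y z = z := by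
  induction z using TensorProduct.induction_on with
  | zero => rw [_root_.map_zero]
  | tmul b f =>
    change b ⊗ₜ[A] (𝟙 X ≫ f) = b ⊗ₜ[A] f
    rw [Category.id_comp]
  | add x y hx hy => rw [_root_.map_add, hx, hy]

lemma botMap_apply {X X' : Dual.D A} (g : X' ⟶ X) (Y : Dual.D A)
    (w : (flatBC A B).obj X ⟶ (flatBC A B).obj Y) :
    botMap B g Y w = (flatBC A B).map g ≫ w := rfl

lemma bcHom_comm_apply {X X' : Dual.D A} (g : X' ⟶ X) (Y : Dual.D A) (z : B ⊗[A] (X ⟶ Y)) :
    (flatBC A B).map g ≫ bcHom B X Y z = bcHom B X' Y (topMap B g Y z) :=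
  DFunLike.congr_fun (bcHom_comm B g Y) z

/-- Bijectivity passes to retracts. -/
lemma bijective_bcHom_of_retract {X Z : Dual.D A} (i : X ⟶ Z) (p : Z ⟶ X) (hip : i ≫ p = 𝟙 X)
    (Y : Dual.D A) (h : Function.Bijective (bcHom B Z Y)) : Function.Bijective (bcHom B X Y) := by
  constructor
  · intro z z' hz
    have h1 : bcHom B Z Y (topMap B p Y z) = bcHom B Z Y (topMap B p Y z') := by
      rw [← bcHom_comm_apply, ← bcHom_comm_apply, hz]
    have h2 := congrArg (topMap B i Y) (h.1 h1)
    rwa [← topMap_comp, ← topMap_comp, hip, topMap_id, topMap_id] at h2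
  · intro w
    obtain ⟨z₀, hz₀⟩ := h.2 ((flatBC A B).map p ≫ w)
    refine ⟨topMap B i Y z₀, ?_⟩
    rw [← bcHom_comm_apply, hz₀, ← Category.assoc, ← Functor.map_comp, hip,
      CategoryTheory.Functor.map_id, Category.id_comp]

lemma bijective_bcHom_of_iso {X X' : Dual.D A} (e : X' ≅ X) (Y : Dual.D A)
    (h : Function.Bijective (bcHom B X Y)) : Function.Bijective (bcHom B X' Y) :=
  bijective_bcHom_of_retract B e.hom e.inv e.hom_inv_id Y h

/-- The property defining the thick subcategory. -/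
def W : ObjectProperty (Dual.D A) :=
  fun X => ∀ (n : ℤ) (Y : Dual.D A), Function.Bijective (bcHom B (X⟦n⟧) Y)

instance : (W (A := A) B).IsClosedUnderIsomorphisms :=
  ⟨fun {_ _} e hX n Y =>
    bijective_bcHom_of_iso B ((shiftFunctor (Dual.D A) n).mapIso e.symm) Y (hX n Y)⟩

lemma W_shift (K : Dual.D A) (n : ℤ) (hK : W B K) : W B (K⟦n⟧) := fun m Y =>
  bijective_bcHom_of_iso B ((shiftFunctorAdd (Dual.D A) n m).app K).symm Y (hK (n + m) Y)

lemma W_ext (T : Triangle (Dual.D A)) (hT : T ∈ distTriang (Dual.D A))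
    (h₁ : W B T.obj₁) (h₃ : W B T.obj₃) : W B T.obj₂ := by
  intro n Y
  let T' := (Triangle.shiftFunctor (Dual.D A) n).obj T
  have hT' : T' ∈ distTriang (Dual.D A) := Triangle.shift_distinguished T hT n
  exact bijective_bcHom_of_distTriang B T' hT' Y (W_shift B _ n h₁ 1 Y) (h₃ n Y) (h₁ n Y)
    (W_shift B _ n h₃ (-1) Y)

lemma W_summand (X X' : Dual.D A) [HasBinaryBiproduct X X'] (h : W B (X ⊞ X')) : W B X :=
  fun n Y => bijective_bcHom_of_retract B
    ((shiftFunctor (Dual.D A) n).map (biprod.inl : X ⟶ X ⊞ X'))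
    ((shiftFunctor (Dual.D A) n).map (biprod.fst : X ⊞ X' ⟶ X))
    (by rw [← Functor.map_comp, biprod.inl_fst, CategoryTheory.Functor.map_id]) Y (h n Y)

/-- Base change for `Hom` out of a perfect complex, given the case of the ring. -/
theorem W_of_isPerfect
    (hbase : W B ((DerivedCategory.singleFunctor (ModuleCat.{u} A) 0).obj (ModuleCat.of A A)))
    (K : Dual.D A) (hK : DRing.IsPerfect A K) : W B K :=
  Groth.Agent.Lib.Helper13.DR.prop_of_isPerfect_of_thick (W B) hbase (W_shift B)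
    (fun T hT h₁ h₃ => W_ext B T hT h₁ h₃) (fun X X' _ h => W_summand B X X' h) K hK

end Groth.Agent.Lib.Helper13.HomBC
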