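import Groth.Agent.Lib.Helper13.HomBC3
import Groth.Agent.Lib.Helper13.WayOut3

/-!
# Flat base change for `Hom`: pseudo-coherent source, bounded below target
-/

set_option autoImplicit false
set_option linter.unusedSectionVars false

open CategoryTheory CategoryTheory.Limits CategoryTheory.Functor TensorProduct Pretriangulated

universe u

namespace Groth.Agent.Lib.Helper13.HomBC

open DerivedCategory Groth.Agent.Lib.Helper13.DR Groth.Agent.Lib.Helper13.Coind
  Groth.Agent.Lib.Helper13.Shriek Groth.Agent.Lib.Helper13.DV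

attribute [local instance] HasDerivedCategory.standard

variable {A : Type u} (B : Type u) [CommRing A] [CommRing B] [Algebra A B] [Module.Flat A B]

lemma isGE_flatBC (X : Dual.D A) (a : ℤ) [X.IsGE a] : ((flatBC A B).obj X).IsGE a := by
  rw [DerivedCategory.isGE_iff]
  intro j hj
  refine IsZero.of_iso ?_ (flatBCHomologyIso A B X j)
  exact Functor.map_isZero _ ((DerivedCategory.isGE_iff X a).1 inferInstance j hj)

lemma isLE_flatBC (X : Dual.D A) (a : ℤ) [X.IsLE a] : ((flatBC A B).obj X).IsLE a := by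
  rw [DerivedCategory.isLE_iff]
  intro j hj
  refine IsZero.of_iso ?_ (flatBCHomologyIso A B X j)
  exact Functor.map_isZero _ ((DerivedCategory.isLE_iff X a).1 inferInstance j hj)

/-- Both sides vanish. -/
lemma bijective_bcHom_of_isLE_of_isGE (X Y : Dual.D A) (a c : ℤ) (h : a < c) [X.IsLE a]
    [Y.IsGE c] : Function.Bijective (bcHom B X Y) := by
  have h1 : Subsingleton (X ⟶ Y) :=
    ⟨fun f g => by
      rw [TStructure.t.zero_of_isLE_of_isGE f a c h inferInstance inferInstance,
        TStructure.t.zero_of_isLE_of_isGE g a c h inferInstance inferInstance]⟩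
  have := isLE_flatBC B X a
  have := isGE_flatBC B Y c
  have h2 : Subsingleton ((flatBC A B).obj X ⟶ (flatBC A B).obj Y) :=
    ⟨fun f g => by
      rw [TStructure.t.zero_of_isLE_of_isGE f a c h inferInstance inferInstance,
        TStructure.t.zero_of_isLE_of_isGE g a c h inferInstance inferInstance]⟩
  have h3 : Subsingleton (B ⊗[A] (X ⟶ Y)) := inferInstance
  exact ⟨fun z z' _ => Subsingleton.elim _ _, fun w => ⟨0, Subsingleton.elim _ _⟩⟩

lemma isLE_Q_of_isZero (E : DRing.Cx A) (a : ℤ) (h : ∀ k : ℤ, a < k → IsZero (E.X k)) :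
    (Q.obj E).IsLE a := by
  rw [DerivedCategory.isLE_iff]
  intro j hj
  exact isZero_homology_Q_obj E j (h j hj)

/-- Flat base change for `Hom(X, Y)`, `X` pseudo-coherent, `Y` bounded below. -/
theorem bijective_bcHom_of_isPseudoCoherent
    (hbase : W B ((DerivedCategory.singleFunctor (ModuleCat.{u} A) 0).obj (ModuleCat.of A A)))
    (X : Dual.D A) (hX : DRing.IsPseudoCoherent' A X) (Y : Dual.D A) (c : ℤ) [Y.IsGE c] :
    Function.Bijective (bcHom B X Y) := by
  obtain ⟨E, b₀, hE, hE', ⟨eX⟩⟩ := hX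
  refine bijective_bcHom_of_iso B eX.symm Y ?_
  let m : ℤ := c - 1
  have hSE := shortExact_truncShortComplex E m
  let T₀ := DerivedCategory.triangleOfSES hSE
  have hT₀ : T₀ ∈ distTriang (Dual.D A) := DerivedCategory.triangleOfSES_distinguished hSE
  have hperf : W B T₀.obj₁ :=
    W_of_isPerfect B hbase _ (isPerfect_truncShortComplex_X₁ E b₀ hE hE' m)
  have hLE : (T₀.obj₃).IsLE (c - 2) :=
    isLE_Q_of_isZero _ _ (fun k hk => isZero_truncShortComplex_X₃_X E m k (by omega))
  have hLE' : (T₀.obj₃⟦(-1 : ℤ)⟧).IsLE (c - 1) :=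
    TStructure.t.isLE_shift T₀.obj₃ (c - 2) (-1) (c - 1) (by omega)
  have h1 := hperf 1 Y
  have h0 := hperf 0 Y
  have h0' : Function.Bijective (bcHom B T₀.obj₁ Y) :=
    bijective_bcHom_of_iso B ((shiftFunctorZero (Dual.D A) ℤ).app T₀.obj₁).symm Y h0
  exact bijective_bcHom_of_distTriang B T₀ hT₀ Y h1
    (bijective_bcHom_of_isLE_of_isGE B _ Y (c - 2) c (by omega)) h0'
    (bijective_bcHom_of_isLE_of_isGE B _ Y (c - 1) c (by omega))

end Groth.Agent.Lib.Helper13.HomBC
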