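import Groth.Agent.Lib.Helper13.HomBC4

/-!
# Flat base change for `Hom`: the base case `A[n]`
-/

set_option autoImplicit false
set_option linter.unusedSectionVars false

open CategoryTheory CategoryTheory.Limits CategoryTheory.Functor TensorProduct Pretriangulated

universe u

namespace Groth.Agent.Lib.Helper13.HomBC

open DerivedCategory Groth.Agent.Lib.Helper13.DR Groth.Agent.Lib.Helper13.Coind
  Groth.Agent.Lib.Helper13.Shriek Groth.Agent.Lib.Helper13.DV Groth.Agent.Lib.Helper13.FC
  Groth.Agent.Lib.Helper13.PC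

attribute [local instance] HasDerivedCategory.standard

section Ev

variable {R : Type u} [CommRing R]

/-- Evaluation at a cohomology class. -/
noncomputable def evAt {X : Dual.D R} (j : ℤ)
    (w : (DerivedCategory.homologyFunctor (ModuleCat.{u} R) j).obj X) (Z : Dual.D R) :
    (X ⟶ Z) →+ (DerivedCategory.homologyFunctor (ModuleCat.{u} R) j).obj Z where
  toFun g := ((DerivedCategory.homologyFunctor (ModuleCat.{u} R) j).map g).hom w
  map_zero' := by simp
  map_add' g g' := by simp [Functor.map_add]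

lemma evAt_apply {X : Dual.D R} (j : ℤ)
    (w : (DerivedCategory.homologyFunctor (ModuleCat.{u} R) j).obj X) (Z : Dual.D R) (g : X ⟶ Z) :
    evAt j w Z g = ((DerivedCategory.homologyFunctor (ModuleCat.{u} R) j).map g).hom w := rfl

lemma evAt_smul {X : Dual.D R} (j : ℤ)
    (w : (DerivedCategory.homologyFunctor (ModuleCat.{u} R) j).obj X) (Z : Dual.D R) (b : R)
    (g : X ⟶ Z) : evAt j w Z (b • g) = b • evAt j w Z g := by
  have h1 : b • g = g ≫ (b • 𝟙 Z) := by rw [Linear.comp_smul, Category.comp_id]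
  rw [evAt_apply, h1, Functor.map_comp]
  exact Groth.Agent.Lib.Helper13.DCN.Hi_map_smul_id_apply b Z j _

lemma evAt_smul_left {X : Dual.D R} (j : ℤ)
    (w : (DerivedCategory.homologyFunctor (ModuleCat.{u} R) j).obj X) (Z : Dual.D R) (b : R)
    (g : X ⟶ Z) : evAt j (b • w) Z g = b • evAt j w Z g := by
  rw [evAt_apply, evAt_apply, _root_.map_smul]

/-- The canonical generator of `H^j(R[-j])`. -/
noncomputable def genH (R : Type u) [CommRing R] (j : ℤ) :
    (DerivedCategory.homologyFunctor (ModuleCat.{u} R) j).obj (Sj R j) :=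
  (homologySingleIso j (ModuleCat.of R R)).inv.hom (1 : R)

lemma evH_eq_evAt (j : ℤ) (Y : Dual.D R) (u : Sj R j ⟶ Y) :
    evH j Y u = evAt j (genH R j) Y u := rfl

lemma evH_injective (j : ℤ) (Y : Dual.D R) : Function.Injective (evH j Y) := by
  intro u u' h
  apply (bijective_fromSingleHomologyMap (ModuleCat.of R R) j Y).1
  apply ModuleCat.hom_ext
  apply LinearMap.ext_ring
  exact h

lemma evH_bijective (j : ℤ) (Y : Dual.D R) : Function.Bijective (evH j Y) :=
  ⟨evH_injective j Y, evH_surjective j Y⟩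

lemma genH_generates (j : ℤ) (x : (DerivedCategory.homologyFunctor (ModuleCat.{u} R) j).obj (Sj R j)) :
    ∃ r : R, x = r • genH R j := by
  refine ⟨(homologySingleIso j (ModuleCat.of R R)).hom.hom x, ?_⟩
  have h1 : x = (homologySingleIso j (ModuleCat.of R R)).inv.hom
      ((homologySingleIso j (ModuleCat.of R R)).hom.hom x) := by
    rw [← ModuleCat.comp_apply, Iso.hom_inv_id]
    rfl
  conv_lhs => rw [h1]
  rw [genH, ← _root_.map_smul]
  congr 1
  change _ = _ * (1 : R)
  rw [mul_one]

/-- Evaluation at a generator of `H^j` of an object isomorphic to `R[-j]` is bijective. -/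
lemma bijective_evAt {X : Dual.D R} (j : ℤ) (σ : Sj R j ≅ X)
    (w : (DerivedCategory.homologyFunctor (ModuleCat.{u} R) j).obj X)
    (hw : ∀ x : (DerivedCategory.homologyFunctor (ModuleCat.{u} R) j).obj X, ∃ r : R, x = r • w)
    (Z : Dual.D R) : Function.Bijective (evAt j w Z) := by
  obtain ⟨r, hr⟩ := hw (evH j X σ.hom)
  have key : ∀ g : X ⟶ Z, evH j Z (σ.hom ≫ g) = r • evAt j w Z g := by
    intro g
    rw [← evAt_smul_left, ← hr, evAt_apply, evH_eq_evAt, evAt_apply, evH_eq_evAt, evAt_apply,
      Functor.map_comp]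
    rfl
  constructor
  · rw [injective_iff_map_eq_zero]
    intro g hg
    have h1 : evH j Z (σ.hom ≫ g) = 0 := by rw [key, hg, smul_zero]
    have h2 : σ.hom ≫ g = 0 := evH_injective j Z (h1.trans (map_zero _).symm)
    rw [← cancel_epi σ.hom, h2, comp_zero]
  · intro y
    obtain ⟨u, hu⟩ := evH_surjective j Z y
    refine ⟨r • (σ.inv ≫ u), ?_⟩
    rw [evAt_smul, ← key, Iso.hom_inv_id_assoc, hu]

end Ev

section Kappa

variable (A B : Type u) [CommRing A] [CommRing B] [Algebra A B] [Module.Flat A B]

/-- Complex-level: flat base change commutes with homology, naturally. -/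
noncomputable def cxHomologyNatIso (j : ℤ) :
    extendCx A B ⋙ HomologicalComplex.homologyFunctor (ModuleCat.{u} B) (ComplexShape.up ℤ) j ≅
      HomologicalComplex.homologyFunctor (ModuleCat.{u} A) (ComplexShape.up ℤ) j ⋙
        ModuleCat.extendScalars.{u, u, u} (algebraMap A B) :=
  NatIso.ofComponents (fun E => DR.extendCxHomologyIso A B E j)
    (fun {_ _} f => ShortComplex.mapHomologyIso_hom_naturality
      ((HomologicalComplex.shortComplexFunctor (ModuleCat.{u} A) (ComplexShape.up ℤ) j).map f)
      (ModuleCat.extendScalars.{u, u, u} (algebraMap A B)))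

/-- Flat base change commutes with cohomology, naturally. -/
noncomputable def kappa (j : ℤ) :
    flatBC A B ⋙ DerivedCategory.homologyFunctor (ModuleCat.{u} B) j ≅
      DerivedCategory.homologyFunctor (ModuleCat.{u} A) j ⋙
        ModuleCat.extendScalars.{u, u, u} (algebraMap A B) :=
  letI : Localization.Lifting (Q : DRing.Cx A ⥤ Dual.D A)
      (HomologicalComplex.quasiIso (ModuleCat.{u} A) (ComplexShape.up ℤ))
      (extendCx A B ⋙ HomologicalComplex.homologyFunctor (ModuleCat.{u} B) (ComplexShape.up ℤ) j)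
      (flatBC A B ⋙ DerivedCategory.homologyFunctor (ModuleCat.{u} B) j) :=
    ⟨(Functor.associator _ _ _).symm ≪≫
      isoWhiskerRight (ModuleCat.extendScalars.{u, u, u} (algebraMap A B)).mapDerivedCategoryFactors _ ≪≫
      Functor.associator _ _ _ ≪≫
      isoWhiskerLeft _ (DerivedCategory.homologyFunctorFactors (ModuleCat.{u} B) j)⟩
  letI : Localization.Lifting (Q : DRing.Cx A ⥤ Dual.D A)
      (HomologicalComplex.quasiIso (ModuleCat.{u} A) (ComplexShape.up ℤ))
      (HomologicalComplex.homologyFunctor (ModuleCat.{u} A) (ComplexShape.up ℤ) j ⋙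
        ModuleCat.extendScalars.{u, u, u} (algebraMap A B))
      (DerivedCategory.homologyFunctor (ModuleCat.{u} A) j ⋙
        ModuleCat.extendScalars.{u, u, u} (algebraMap A B)) :=
    ⟨(Functor.associator _ _ _).symm ≪≫
      isoWhiskerRight (DerivedCategory.homologyFunctorFactors (ModuleCat.{u} A) j) _⟩
  Localization.liftNatIso (Q : DRing.Cx A ⥤ Dual.D A)
    (HomologicalComplex.quasiIso (ModuleCat.{u} A) (ComplexShape.up ℤ)) _ _ _ _
    (cxHomologyNatIso A B j)

end Kappa

section Base

variable {A : Type u} (B : Type u) [CommRing A] [CommRing B] [Algebra A B] [Module.Flat A B]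

lemma extendScalars_map_equiv_symm_tmul {M N : ModuleCat.{u} A} (φ : M ⟶ N) (b : B) (m : M) :
    ((ModuleCat.extendScalars.{u, u, u} (algebraMap A B)).map φ).hom
      ((extendScalarsEquiv B M).symm (b ⊗ₜ[A] m)) =
    (extendScalarsEquiv B N).symm (b ⊗ₜ[A] φ.hom m) := rfl

/-- `B[-j] ≅ B ⊗ A[-j]`. -/
noncomputable def flatBCSjIso (j : ℤ) : Sj B j ≅ (flatBC A B).obj (Sj A j) :=
  (DerivedCategory.singleFunctor (ModuleCat.{u} B) j).mapIso
    ((TensorProduct.AlgebraTensorModule.rid A B B).symm.toModuleIso ≪≫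
      (extendScalarsIso B (ModuleCat.of A A)).symm) ≪≫
  (((ModuleCat.extendScalars.{u, u, u} (algebraMap A B)).mapDerivedCategorySingleFunctor j).app
    (ModuleCat.of A A)).symm

/-- Evaluation as a linear equivalence. -/
noncomputable def evHEquiv {R : Type u} [CommRing R] (j : ℤ) (Y : Dual.D R) :
    (Sj R j ⟶ Y) ≃ₗ[R] (DerivedCategory.homologyFunctor (ModuleCat.{u} R) j).obj Y :=
  LinearEquiv.ofBijective
    { toFun := evH j Y
      map_add' := map_add _
      map_smul' := evH_smul j Y } (evH_bijective j Y)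

lemma evHEquiv_apply {R : Type u} [CommRing R] (j : ℤ) (Y : Dual.D R) (u : Sj R j ⟶ Y) :
    evHEquiv j Y u = evH j Y u := rfl

lemma tensor_generates {M : Type u} [AddCommGroup M] [Module A M] (g : M)
    (hg : ∀ x : M, ∃ a : A, x = a • g) (z : B ⊗[A] M) : ∃ r : B, z = r • ((1 : B) ⊗ₜ[A] g) := by
  induction z using TensorProduct.induction_on with
  | zero => exact ⟨0, by rw [zero_smul]⟩
  | tmul b x =>
    obtain ⟨a, rfl⟩ := hg x
    refine ⟨a • b, ?_⟩
    rw [TensorProduct.tmul_smul, TensorProduct.smul_tmul', TensorProduct.smul_tmul', smul_eq_mul,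
      mul_one]
  | add x y hx hy =>
    obtain ⟨r, rfl⟩ := hx
    obtain ⟨r', rfl⟩ := hy
    exact ⟨r + r', by rw [add_smul]⟩

/-- The base case: flat base change for `Hom(A[-j], Y)`. -/
theorem bijective_bcHom_Sj (j : ℤ) (Y : Dual.D A) :
    Function.Bijective (bcHom B (Sj A j) Y) := by
  let E := ModuleCat.extendScalars.{u, u, u} (algebraMap A B)
  let hA := DerivedCategory.homologyFunctor (ModuleCat.{u} A) j
  let hB := DerivedCategory.homologyFunctor (ModuleCat.{u} B) j
  let κ := kappa A B j
  let w₁ : E.obj (hA.obj (Sj A j)) :=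
    (extendScalarsEquiv B (hA.obj (Sj A j))).symm ((1 : B) ⊗ₜ[A] genH A j)
  let w : hB.obj ((flatBC A B).obj (Sj A j)) := (κ.inv.app (Sj A j)).hom w₁
  have hκw : (κ.hom.app (Sj A j)).hom w = w₁ := by
    change ((κ.inv.app (Sj A j)) ≫ (κ.hom.app (Sj A j))).hom w₁ = w₁
    rw [Iso.inv_hom_id_app]
    rfl
  have hw : ∀ x : hB.obj ((flatBC A B).obj (Sj A j)), ∃ r : B, x = r • w := by
    intro x
    obtain ⟨r, hr⟩ := tensor_generates B (genH A j) (genH_generates j)
      (extendScalarsEquiv B (hA.obj (Sj A j)) ((κ.hom.app (Sj A j)).hom x))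
    refine ⟨r, ?_⟩
    have h1 : x = (κ.inv.app (Sj A j)).hom ((κ.hom.app (Sj A j)).hom x) := by
      change x = ((κ.hom.app (Sj A j)) ≫ (κ.inv.app (Sj A j))).hom x
      rw [Iso.hom_inv_id_app]
      rfl
    have h2 : (κ.hom.app (Sj A j)).hom x = r • w₁ := by
      rw [← _root_.map_smul, ← hr, LinearEquiv.symm_apply_apply]
    rw [h1, h2, _root_.map_smul]
  have hev := bijective_evAt j (flatBCSjIso B j) w hw ((flatBC A B).obj Y)
  let F : ((flatBC A B).obj (Sj A j) ⟶ (flatBC A B).obj Y) →+ B ⊗[A] (hA.obj Y) :=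
    ((extendScalarsEquiv B (hA.obj Y)).toLinearMap.toAddMonoidHom.comp
      (κ.hom.app Y).hom.toAddMonoidHom).comp (evAt j w ((flatBC A B).obj Y))
  have hF : Function.Bijective F :=
    ((extendScalarsEquiv B (hA.obj Y)).bijective.comp
      (ConcreteCategory.bijective_of_isIso (κ.hom.app Y))).comp hev
  have hcomp : ∀ z, F (bcHom B (Sj A j) Y z) =
      LinearMap.lTensor B (evHEquiv j Y).toLinearMap z := by
    intro z
    induction z using TensorProduct.induction_on with
    | zero => rw [map_zero, map_zero, map_zero]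
    | tmul b f =>
      rw [bcHom_tmul, LinearMap.lTensor_tmul]
      change extendScalarsEquiv B (hA.obj Y) ((κ.hom.app Y).hom (evAt j w _ (b • (flatBC A B).map f))) = _
      rw [evAt_smul, _root_.map_smul, _root_.map_smul, evAt_apply]
      have nat := κ.hom.naturality f
      have h3 : (κ.hom.app Y).hom ((hB.map ((flatBC A B).map f)).hom w) =
          (E.map (hA.map f)).hom ((κ.hom.app (Sj A j)).hom w) := by
        change (((flatBC A B ⋙ hB).map f) ≫ κ.hom.app Y).hom w = _
        rw [nat]
        rfl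
      rw [h3, hκw, extendScalars_map_equiv_symm_tmul, LinearEquiv.apply_symm_apply,
        TensorProduct.smul_tmul', smul_eq_mul, mul_one]
      rfl
    | add x y hx hy => rw [_root_.map_add, _root_.map_add, _root_.map_add, hx, hy]
  have h2 : Function.Bijective (F ∘ (bcHom B (Sj A j) Y)) := by
    have : F ∘ (bcHom B (Sj A j) Y) = LinearEquiv.lTensor B (evHEquiv j Y) := funext hcomp
    rw [this]
    exact (LinearEquiv.lTensor B (evHEquiv j Y)).bijective
  exact (Function.Bijective.of_comp_iff' hF _).1 h2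

/-- The base case in the form needed for dévissage. -/
theorem W_single : W B ((DerivedCategory.singleFunctor (ModuleCat.{u} A) 0).obj (ModuleCat.of A A)) := by
  intro n Y
  refine bijective_bcHom_of_iso B
    (((DerivedCategory.singleFunctors (ModuleCat.{u} A)).shiftIso n (-n) 0 (by omega)).app
      (ModuleCat.of A A)) Y ?_
  exact bijective_bcHom_Sj B (-n) Y

/-- **Flat base change for `Hom`** in the derived category: `X` pseudo-coherent, `Y` bounded
below. -/
theorem bijective_bcHom (X : Dual.D A) (hX : DRing.IsPseudoCoherent' A X) (Y : Dual.D A) (c : ℤ)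
    [Y.IsGE c] : Function.Bijective (bcHom B X Y) :=
  bijective_bcHom_of_isPseudoCoherent B (W_single B) X hX Y c

end Base

end Groth.Agent.Lib.Helper13.HomBC
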