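import Groth.Agent.Lib.Helper13.HomTensor
import Mathlib.Algebra.Homology.HomotopyCategory.MappingCone

/-!
# Tensoring cochains on the right with a complex, and the mapping cone of `f ▷ K`
-/

set_option autoImplicit false
universe u
open CategoryTheory CategoryTheory.Limits MonoidalCategory
open CochainComplex CochainComplex.HomComplex HomologicalComplex

namespace Groth.Agent.Lib.Helper13.HT

variable {A : Type u} [CommRing A] {X Y Z : DRing.Cx A}

/-- The cochain `z ⊗ K : X ⊗ K ⟶ Y ⊗ K` attached to a cochain `z : X ⟶ Y`. -/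
noncomputable def whisk {n : ℤ} (z : Cochain X Y n) (K : DRing.Cx A) :
    Cochain (X ⊗ K) (Y ⊗ K) n :=
  Cochain.mk (fun p' q' h => HomologicalComplex.mapBifunctorDesc
    (fun p a (hpa : p + a = p') => (z.v p (p + n) rfl ▷ K.X a) ≫
      ιTensorObj Y K (p + n) a q' (by omega)))

lemma ι_whisk_v {n : ℤ} (z : Cochain X Y n) (K : DRing.Cx A) (p a p' q q' : ℤ) (hpa : p + a = p')
    (hq : p + n = q) (h : p' + n = q') :
    ιTensorObj X K p a p' hpa ≫ (whisk z K).v p' q' h =
      (z.v p q hq ▷ K.X a) ≫ ιTensorObj Y K q a q' (by omega) := by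
  subst hq
  dsimp [whisk]
  exact HomologicalComplex.ι_mapBifunctorDesc _ _ _ _

lemma ι_whiskerRight_f (g : X ⟶ Y) (K : DRing.Cx A) (p a p' : ℤ) (hpa : p + a = p') :
    ιTensorObj X K p a p' hpa ≫ (g ▷ K).f p' = (g.f p ▷ K.X a) ≫ ιTensorObj Y K p a p' hpa := by
  have := HomologicalComplex.ι_mapBifunctorMap g (𝟙 K) (curriedTensor (ModuleCat.{u} A))
    (ComplexShape.up ℤ) p a p' hpa
  refine this.trans ?_
  dsimp
  rw [MonoidalCategory.whiskerLeft_id, Category.id_comp]

lemma whisk_ofHom (g : X ⟶ Y) (K : DRing.Cx A) :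
    whisk (Cochain.ofHom g) K = Cochain.ofHom (g ▷ K) := by
  refine Cochain.ext₀ _ _ (fun p' => ?_)
  apply HomologicalComplex.mapBifunctor.hom_ext
  intro p a hpa
  have hpa' : p + a = p' := hpa
  refine (ι_whisk_v (Cochain.ofHom g) K p a p' p p' hpa' (add_zero p) (add_zero p')).trans ?_
  rw [Cochain.ofHom_v, Cochain.ofHom_v]
  exact (ι_whiskerRight_f g K p a p' hpa').symm

lemma whisk_comp {n₁ n₂ n₁₂ : ℤ} (z₁ : Cochain X Y n₁) (z₂ : Cochain Y Z n₂)
    (h : n₁ + n₂ = n₁₂) (K : DRing.Cx A) :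
    whisk (z₁.comp z₂ h) K = (whisk z₁ K).comp (whisk z₂ K) h := by
  refine Cochain.ext _ _ (fun p' q' hpq => ?_)
  apply HomologicalComplex.mapBifunctor.hom_ext
  intro p a hpa
  have hpa' : p + a = p' := hpa
  rw [Cochain.comp_v (whisk z₁ K) (whisk z₂ K) h p' (p' + n₁) q' rfl (by omega)]
  refine (ι_whisk_v (z₁.comp z₂ h) K p a p' (p + n₁₂) q' hpa' rfl hpq).trans ?_
  have e1 := ι_whisk_v z₁ K p a p' (p + n₁) (p' + n₁) hpa' rfl rfl
  have e2 := ι_whisk_v z₂ K (p + n₁) a (p' + n₁) (p + n₁₂) q' (by omega) (by omega) (by omega)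
  rw [Cochain.comp_v z₁ z₂ h p (p + n₁) (p + n₁₂) rfl (by omega), comp_whiskerRight,
    Category.assoc]
  erw [reassoc_of% e1, e2]

lemma whisk_zero {n : ℤ} (K : DRing.Cx A) : whisk (0 : Cochain X Y n) K = 0 := by
  refine Cochain.ext _ _ (fun p' q' hpq => ?_)
  apply HomologicalComplex.mapBifunctor.hom_ext
  intro p a hpa
  have hpa' : p + a = p' := hpa
  refine (ι_whisk_v 0 K p a p' (p + n) q' hpa' rfl hpq).trans ?_
  simp

lemma whisk_add {n : ℤ} (z z' : Cochain X Y n) (K : DRing.Cx A) :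
    whisk (z + z') K = whisk z K + whisk z' K := by
  refine Cochain.ext _ _ (fun p' q' hpq => ?_)
  apply HomologicalComplex.mapBifunctor.hom_ext
  intro p a hpa
  have hpa' : p + a = p' := hpa
  refine (ι_whisk_v (z + z') K p a p' (p + n) q' hpa' rfl hpq).trans ?_
  rw [Cochain.add_v (whisk z K) (whisk z' K), Preadditive.comp_add]
  erw [ι_whisk_v z K p a p' (p + n) q' hpa' rfl hpq, ι_whisk_v z' K p a p' (p + n) q' hpa' rfl hpq]
  rw [Cochain.add_v, MonoidalPreadditive.add_whiskerRight, Preadditive.add_comp]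

lemma whisk_neg {n : ℤ} (z : Cochain X Y n) (K : DRing.Cx A) :
    whisk (-z) K = -whisk z K := by
  have h := whisk_add z (-z) K
  rw [add_neg_cancel, whisk_zero] at h
  exact (neg_eq_of_add_eq_zero_right h.symm).symm


section Delta

lemma ι_tensor_d' (X K : DRing.Cx A) (p q n n' p₂ q₂ : ℤ) (h : p + q = n) (hn : n + 1 = n')
    (hp : p + 1 = p₂) (hq : q + 1 = q₂) :
    ιTensorObj X K p q n h ≫ (X ⊗ K).d n n' =
      (X.d p p₂ ▷ K.X q) ≫ ιTensorObj X K p₂ q n' (by omega) +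
        p.negOnePow • ((X.X p ◁ K.d q q₂) ≫ ιTensorObj X K p q₂ n' (by omega)) := by
  subst hp hq
  exact ι_tensor_d X K p q n n' h hn

lemma δ_whisk (n m : ℤ) (z : Cochain X Y n) (K : DRing.Cx A) :
    δ n m (whisk z K) = whisk (δ n m z) K := by
  by_cases hnm : n + 1 = m
  swap
  · rw [δ_shape _ _ hnm, δ_shape _ _ hnm, whisk_zero]
  subst hnm
  refine Cochain.ext _ _ (fun p' q' hpq => ?_)
  apply HomologicalComplex.mapBifunctor.hom_ext
  intro p a hpa
  have hpa' : p + a = p' := hpa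
  subst hpa'
  refine Eq.trans ?_ (ι_whisk_v (δ n (n + 1) z) K p a (p + a) (p + (n + 1)) q' rfl rfl hpq).symm
  rw [δ_v n (n + 1) rfl (whisk z K) (p + a) q' hpq (q' - 1) (p + a + 1) rfl rfl,
    δ_v n (n + 1) rfl z p (p + (n + 1)) rfl (p + n) (p + 1) (by omega) rfl]
  have e1 : ιTensorObj X K p a (p + a) rfl ≫ (whisk z K).v (p + a) (q' - 1) (by omega) ≫
      (Y ⊗ K).d (q' - 1) q' =
      (z.v p (p + n) rfl ▷ K.X a) ≫ ((Y.d (p + n) (p + (n + 1)) ▷ K.X a) ≫
        ιTensorObj Y K (p + (n + 1)) a q' (by omega) +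
        (p + n).negOnePow • ((Y.X (p + n) ◁ K.d a (a + 1)) ≫
          ιTensorObj Y K (p + n) (a + 1) q' (by omega))) := by
    rw [← Category.assoc, ι_whisk_v z K p a (p + a) (p + n) (q' - 1) rfl rfl (by omega),
      Category.assoc, ι_tensor_d' Y K (p + n) a (q' - 1) q' (p + (n + 1)) (a + 1) (by omega)
        (by omega) (by omega) rfl]
  have e2 : ιTensorObj X K p a (p + a) rfl ≫ (X ⊗ K).d (p + a) (p + a + 1) ≫
      (whisk z K).v (p + a + 1) q' (by omega) =
      (X.d p (p + 1) ▷ K.X a) ≫ (z.v (p + 1) (p + (n + 1)) (by omega) ▷ K.X a) ≫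
        ιTensorObj Y K (p + (n + 1)) a q' (by omega) +
      p.negOnePow • ((X.X p ◁ K.d a (a + 1)) ≫ (z.v p (p + n) rfl ▷ K.X (a + 1)) ≫
        ιTensorObj Y K (p + n) (a + 1) q' (by omega)) := by
    rw [← Category.assoc, ι_tensor_d' X K p a (p + a) (p + a + 1) (p + 1) (a + 1) rfl rfl rfl rfl,
      Preadditive.add_comp, Category.assoc, Linear.units_smul_comp, Category.assoc,
      ι_whisk_v z K (p + 1) a (p + a + 1) (p + (n + 1)) q' (by omega) (by omega) (by omega),
      ι_whisk_v z K p (a + 1) (p + a + 1) (p + n) q' (by omega) rfl (by omega)]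
  rw [Preadditive.comp_add, Linear.comp_units_smul]
  erw [e1, e2]
  rw [MonoidalPreadditive.add_whiskerRight, Preadditive.add_comp, comp_whiskerRight,
    Category.assoc, Preadditive.comp_add, Linear.comp_units_smul, smul_add, smul_smul,
    ← whisker_exchange_assoc]
  have e3 : ((n + 1).negOnePow • X.d p (p + 1) ≫ z.v (p + 1) (p + (n + 1)) (by omega)) ▷ K.X a =
      (n + 1).negOnePow • ((X.d p (p + 1) ▷ K.X a) ≫
        (z.v (p + 1) (p + (n + 1)) (by omega) ▷ K.X a)) := by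
    rw [← comp_whiskerRight, Units.smul_def, Units.smul_def]
    exact (tensorRight (K.X a)).map_zsmul
  rw [e3, Linear.units_smul_comp, Category.assoc]
  have e4 : (n + 1).negOnePow * p.negOnePow = -(p + n).negOnePow := by
    rw [Int.negOnePow_add, Int.negOnePow_add, Int.negOnePow_one]
    simp [mul_comm]
  rw [e4]
  simp only [Units.neg_smul]
  abel

end Delta


section Cone

variable (f : X ⟶ Y) (K : DRing.Cx A)

/-- The canonical map `cone (f ▷ K) ⟶ cone f ⊗ K`. -/
noncomputable def coneWhiskHom : mappingCone (f ▷ K) ⟶ mappingCone f ⊗ K :=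
  mappingCone.desc (f ▷ K) (whisk (mappingCone.inl f) K) (mappingCone.inr f ▷ K) (by
    rw [δ_whisk, mappingCone.δ_inl, whisk_ofHom, comp_whiskerRight])

/-- The canonical map `cone f ⊗ K ⟶ cone (f ▷ K)`. -/
noncomputable def coneWhiskInv : mappingCone f ⊗ K ⟶ mappingCone (f ▷ K) :=
  mappingCone.lift (f ▷ K)
    (Cocycle.mk (whisk (mappingCone.fst f).1 K) 2 rfl (by
      rw [δ_whisk, Cocycle.δ_eq_zero, whisk_zero]))
    (whisk (mappingCone.snd f) K) (by
      rw [δ_whisk, mappingCone.δ_snd, whisk_neg, Cocycle.mk_coe, ← whisk_ofHom, ← whisk_comp,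
        neg_add_cancel])

lemma whisk_v_comp {n₁ n₂ n₁₂ : ℤ} (z₁ : Cochain X Y n₁) (z₂ : Cochain Y Z n₂)
    (h : n₁ + n₂ = n₁₂) (p q r : ℤ) (hpq : p + n₁ = q) (hqr : q + n₂ = r) :
    (whisk z₁ K).v p q hpq ≫ (whisk z₂ K).v q r hqr =
      (whisk (z₁.comp z₂ h) K).v p r (by omega) := by
  rw [whisk_comp, Cochain.comp_v _ _ h p q r hpq hqr]

lemma whisk_ofHom_id_v (p : ℤ) :
    (whisk (Cochain.ofHom (𝟙 X)) K).v p p (add_zero p) = 𝟙 _ := by
  rw [whisk_ofHom, id_whiskerRight, Cochain.ofHom_v, HomologicalComplex.id_f]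

lemma coneWhiskHom_inv : coneWhiskHom f K ≫ coneWhiskInv f K = 𝟙 _ := by
  ext n : 1
  rw [HomologicalComplex.comp_f, HomologicalComplex.id_f]
  apply mappingCone.ext_from (f ▷ K) (n + 1) n rfl
  · rw [← Category.assoc]
    erw [mappingCone.inl_v_desc_f]
    rw [Category.comp_id]
    apply mappingCone.ext_to (f ▷ K) n (n + 1) rfl
    · rw [Category.assoc]
      erw [mappingCone.lift_f_fst_v]
      rw [Cocycle.mk_coe, whisk_v_comp K _ _ (neg_add_cancel 1), mappingCone.inl_fst,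
        mappingCone.inl_v_fst_v, whisk_ofHom_id_v]
    · rw [Category.assoc]
      erw [mappingCone.lift_f_snd_v]
      rw [whisk_v_comp K _ _ (add_zero (-1)), mappingCone.inl_snd, mappingCone.inl_v_snd_v,
        whisk_zero, Cochain.zero_v]
  · rw [← Category.assoc]
    erw [mappingCone.inr_f_desc_f]
    rw [Category.comp_id]
    apply mappingCone.ext_to (f ▷ K) n (n + 1) rfl
    · rw [Category.assoc]
      erw [mappingCone.lift_f_fst_v]
      rw [Cocycle.mk_coe, ← Cochain.ofHom_v, ← whisk_ofHom,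
        whisk_v_comp K _ _ (zero_add 1), mappingCone.inr_fst, mappingCone.inr_f_fst_v,
        whisk_zero, Cochain.zero_v]
    · rw [Category.assoc]
      erw [mappingCone.lift_f_snd_v]
      rw [← Cochain.ofHom_v, ← whisk_ofHom,
        whisk_v_comp K _ _ (zero_add 0), mappingCone.inr_snd, mappingCone.inr_f_snd_v,
        whisk_ofHom_id_v]

lemma coneWhiskInv_hom : coneWhiskInv f K ≫ coneWhiskHom f K = 𝟙 _ := by
  ext n : 1
  rw [HomologicalComplex.comp_f, HomologicalComplex.id_f]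
  have h1 : (coneWhiskInv f K).f n =
      (whisk (mappingCone.fst f).1 K).v n (n + 1) rfl ≫
        (mappingCone.inl (f ▷ K)).v (n + 1) n (by omega) +
      (whisk (mappingCone.snd f) K).v n n (add_zero n) ≫ (mappingCone.inr (f ▷ K)).f n :=
    mappingCone.lift_f (f ▷ K) _ _ _ n (n + 1) rfl
  have h2 : (mappingCone.inl (f ▷ K)).v (n + 1) n (by omega) ≫ (coneWhiskHom f K).f n =
      (whisk (mappingCone.inl f) K).v (n + 1) n (by omega) :=
    mappingCone.inl_v_desc_f (f ▷ K) _ _ _ (n + 1) n (by omega)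
  have h3 : (mappingCone.inr (f ▷ K)).f n ≫ (coneWhiskHom f K).f n =
      (whisk (Cochain.ofHom (mappingCone.inr f)) K).v n n (add_zero n) := by
    rw [whisk_ofHom, Cochain.ofHom_v]
    exact mappingCone.inr_f_desc_f (f ▷ K) _ _ _ n
  rw [h1, Preadditive.add_comp, Category.assoc, Category.assoc, h2, h3,
    whisk_v_comp K _ _ (add_neg_cancel 1), whisk_v_comp K _ _ (add_zero 0), ← Cochain.add_v,
    ← whisk_add, mappingCone.id, whisk_ofHom_id_v]

/-- `cone (f ▷ K) ≅ cone f ⊗ K`. -/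
noncomputable def coneWhiskIso : mappingCone (f ▷ K) ≅ mappingCone f ⊗ K where
  hom := coneWhiskHom f K
  inv := coneWhiskInv f K
  hom_inv_id := coneWhiskHom_inv f K
  inv_hom_id := coneWhiskInv_hom f K

end Cone

end Groth.Agent.Lib.Helper13.HT
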