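import Groth.Agent.Lib.Helper13.HomTensorKProj
import Groth.Agent.Lib.Helper13.WhiskerCochain

/-!
# Chain-level currying of morphisms, evaluation, and functoriality of `Hom•(-, L)`
-/

set_option autoImplicit false
universe u
open CategoryTheory CategoryTheory.Limits MonoidalCategory
open CochainComplex CochainComplex.HomComplex HomologicalComplex

namespace Groth.Agent.Lib.Helper13.HT

variable {A : Type u} [CommRing A]

lemma ι_whiskerLeft_f' (X : DRing.Cx A) {K K' : DRing.Cx A} (g : K ⟶ K') (p q n : ℤ)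
    (h : p + q = n) :
    ιTensorObj X K p q n h ≫ (X ◁ g).f n = (X.X p ◁ g.f q) ≫ ιTensorObj X K' p q n h := by
  have := HomologicalComplex.ι_mapBifunctorMap (𝟙 X) g (curriedTensor (ModuleCat.{u} A))
    (ComplexShape.up ℤ) p q n h
  refine this.trans ?_
  dsimp
  rw [MonoidalCategory.id_whiskerRight, Category.id_comp]

section CurryHom

variable {X P L : DRing.Cx A}

lemma δ_curry_ofHom (v : X ⊗ P ⟶ L) : δ 0 1 (curry (Cochain.ofHom v)) = 0 := by
  rw [← curry_δ X P L 0 1 rfl, δ_ofHom]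
  exact (curryEquiv (K := X) (L := P) (M := L) 1).map_zero

lemma δ_uncurry_ofHom (u : X ⟶ DRing.homCx P L) : δ 0 1 (uncurry (Cochain.ofHom u)) = 0 := by
  rw [← uncurry_δ 0 1 rfl, δ_ofHom]
  exact (curryEquiv (K := X) (L := P) (M := L) 1).symm.map_zero

/-- Currying of chain maps. -/
noncomputable def curryHom (v : X ⊗ P ⟶ L) : X ⟶ DRing.homCx P L :=
  Cocycle.homOf (Cocycle.mk (curry (Cochain.ofHom v)) 1 rfl (δ_curry_ofHom v))

/-- Uncurrying of chain maps. -/
noncomputable def uncurryHom (u : X ⟶ DRing.homCx P L) : X ⊗ P ⟶ L :=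
  Cocycle.homOf (Cocycle.mk (uncurry (Cochain.ofHom u)) 1 rfl (δ_uncurry_ofHom u))

lemma ofHom_curryHom (v : X ⊗ P ⟶ L) :
    Cochain.ofHom (curryHom v) = curry (Cochain.ofHom v) :=
  Cocycle.cochain_ofHom_homOf_eq_coe _

lemma ofHom_uncurryHom (u : X ⟶ DRing.homCx P L) :
    Cochain.ofHom (uncurryHom u) = uncurry (Cochain.ofHom u) :=
  Cocycle.cochain_ofHom_homOf_eq_coe _

lemma ofHom_injective {X Y : DRing.Cx A} {f g : X ⟶ Y} (h : Cochain.ofHom f = Cochain.ofHom g) :
    f = g := by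
  refine HomologicalComplex.hom_ext _ _ (fun n => ?_)
  have := congrArg (fun z => Cochain.v z n n (add_zero n)) h
  simpa using this

@[simp]
lemma uncurryHom_curryHom (v : X ⊗ P ⟶ L) : uncurryHom (curryHom v) = v :=
  ofHom_injective (by rw [ofHom_uncurryHom, ofHom_curryHom, uncurry_curry])

@[simp]
lemma curryHom_uncurryHom (u : X ⟶ DRing.homCx P L) : curryHom (uncurryHom u) = u :=
  ofHom_injective (by rw [ofHom_curryHom, ofHom_uncurryHom, curry_uncurry])

/-- The value of `uncurryHom u` on a pure tensor. -/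
lemma ι_uncurryHom_f_apply (u : X ⟶ DRing.homCx P L) (p a n : ℤ) (h : p + a = n) (x : X.X p)
    (y : P.X a) :
    (ιTensorObj X P p a n h ≫ (uncurryHom u).f n).hom (x ⊗ₜ y) =
      (Cochain.v (F := P) (G := L) ((u.f p).hom x) a n (by omega)).hom y := by
  have h1 : (uncurryHom u).f n = (uncurry (Cochain.ofHom u)).v n n (add_zero n) := by
    rw [← ofHom_uncurryHom, Cochain.ofHom_v]
  rw [h1, ι_uncurry_v (Cochain.ofHom u) p a n n h (add_zero n),
    unc_tmul' (Cochain.ofHom u) p a n (by omega) p (add_zero p)]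
  unfold ev
  rw [Cochain.ofHom_v]

/-- Homotopic maps have homotopic curryings. -/
lemma nonempty_homotopy_of_uncurryHom {u u' : X ⟶ DRing.homCx P L}
    (h : Homotopy (uncurryHom u) (uncurryHom u')) : Nonempty (Homotopy u u') := by
  obtain ⟨w, hw⟩ := Cochain.equivHomotopy _ _ h
  rw [ofHom_uncurryHom, ofHom_uncurryHom] at hw
  refine ⟨(Cochain.equivHomotopy u u').symm ⟨curry w, ?_⟩⟩
  have := congrArg (curry (K := X) (L := P) (M := L)) hw
  rw [curry_uncurry, curry_add, curry_uncurry, curry_δ _ _ _ (-1) 0 (by omega)] at this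
  exact this

end CurryHom

section Eval

/-- The evaluation map `Hom•(P, L) ⊗ P ⟶ L`. -/
noncomputable def evCx (P L : DRing.Cx A) : DRing.homCx P L ⊗ P ⟶ L := uncurryHom (𝟙 _)

lemma ι_evCx_f_apply (P L : DRing.Cx A) (p a n : ℤ) (h : p + a = n) (z : Cochain P L p)
    (y : P.X a) :
    (ιTensorObj (DRing.homCx P L) P p a n h ≫ (evCx P L).f n).hom (z ⊗ₜ y) =
      (z.v a n (by omega)).hom y :=
  ι_uncurryHom_f_apply (𝟙 _) p a n h z y

lemma whiskerRight_evCx {X P L : DRing.Cx A} (u : X ⟶ DRing.homCx P L) :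
    u ▷ P ≫ evCx P L = uncurryHom u := by
  refine HomologicalComplex.hom_ext _ _ (fun n => ?_)
  apply HomologicalComplex.mapBifunctor.hom_ext
  intro p a hpa
  have hpa' : p + a = n := hpa
  change ιTensorObj X P p a n hpa' ≫ (u ▷ P ≫ evCx P L).f n =
    ιTensorObj X P p a n hpa' ≫ (uncurryHom u).f n
  rw [HomologicalComplex.comp_f, ← Category.assoc, ι_whiskerRight_f, Category.assoc]
  apply ModuleCat.hom_ext
  apply TensorProduct.ext'
  intro x y
  rw [ι_uncurryHom_f_apply]
  exact ι_evCx_f_apply P L p a n hpa' ((u.f p).hom x) y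

/-- Precomposition `Hom•(P, L) ⟶ Hom•(P', L)` with `f : P' ⟶ P`. -/
noncomputable def preMap {P P' : DRing.Cx A} (f : P' ⟶ P) (L : DRing.Cx A) :
    DRing.homCx P L ⟶ DRing.homCx P' L where
  f i := ModuleCat.ofHom
    { toFun := fun z => (Cochain.ofHom f).comp z (zero_add i)
      map_add' := fun z z' => by simp
      map_smul' := fun a z => by simp }
  comm' i j _ := by
    ext z
    change δ i j ((Cochain.ofHom f).comp z (zero_add i)) =
      (Cochain.ofHom f).comp (δ i j z) (zero_add j)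
    exact δ_ofHom_comp f z j

lemma preMap_f_apply {P P' : DRing.Cx A} (f : P' ⟶ P) (L : DRing.Cx A) (i : ℤ)
    (z : Cochain P L i) :
    ((preMap f L).f i).hom z = (Cochain.ofHom f).comp z (zero_add i) := rfl

/-- Dinaturality of evaluation. -/
lemma whiskerLeft_evCx {P P' : DRing.Cx A} (f : P' ⟶ P) (L : DRing.Cx A) :
    DRing.homCx P L ◁ f ≫ evCx P L = preMap f L ▷ P' ≫ evCx P' L := by
  refine HomologicalComplex.hom_ext _ _ (fun n => ?_)
  apply HomologicalComplex.mapBifunctor.hom_ext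
  intro p a hpa
  have hpa' : p + a = n := hpa
  change ιTensorObj (DRing.homCx P L) P' p a n hpa' ≫ (DRing.homCx P L ◁ f ≫ evCx P L).f n =
    ιTensorObj (DRing.homCx P L) P' p a n hpa' ≫ (preMap f L ▷ P' ≫ evCx P' L).f n
  rw [HomologicalComplex.comp_f, ← Category.assoc, ι_whiskerLeft_f', Category.assoc,
    HomologicalComplex.comp_f]
  conv_rhs => rw [← Category.assoc, ι_whiskerRight_f, Category.assoc]
  apply ModuleCat.hom_ext
  apply TensorProduct.ext'
  intro z y
  have h1 := ι_evCx_f_apply P L p a n hpa' z ((f.f a).hom y)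
  have h2 := ι_evCx_f_apply P' L p a n hpa' (((preMap f L).f p).hom z) y
  refine h1.trans (Eq.trans ?_ h2.symm)
  rw [preMap_f_apply, Cochain.comp_v _ _ (zero_add p) a a n (add_zero a) (by omega),
    Cochain.ofHom_v]
  rfl

end Eval

end Groth.Agent.Lib.Helper13.HT
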