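import Groth.Agent.Lib.Helper13.BiDual3
import Groth.Agent.Lib.Helper13.DRingColimHom
import Mathlib.Algebra.Homology.ShortComplex.ModuleCat

/-!
# `Hom_{D(A)}(Q Y, A⟦n⟧)` for K-projective `Y` is the cohomology of the dual complex
-/

set_option autoImplicit false
universe u
open CategoryTheory CategoryTheory.Limits
open CochainComplex CochainComplex.HomComplex HomologicalComplex

namespace Groth.Agent.Lib.Helper13.HDual

open Groth.Agent.Lib.Helper13.BD Groth.Agent.Lib.Helper13.DR Groth.Agent.Lib.Helper13.PC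
open DerivedCategory

attribute [local instance] HasDerivedCategory.standard

variable {A : Type u} [CommRing A] (Y : DRing.Cx A) (n : ℤ)

/-- Degree `n` cocycles of the dual complex. -/
noncomputable abbrev Zc : Submodule A (Cochain Y (VA A) n) :=
  LinearMap.ker (δ_hom A Y (VA A) n (n + 1))

/-- The linear form on `Y^{-n}` attached to a cochain, as a morphism. -/
noncomputable def toHomLin :
    Cochain Y (VA A) n →ₗ[A] (Y.X (-n) ⟶ ModuleCat.of A A) :=
  (ModuleCat.homLinearEquiv (S := A)).symm.toLinearMap ∘ₗ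
    (toDualAt Y (-n) n (by omega)).toLinearMap

lemma toHomLin_apply (c : Cochain Y (VA A) n) :
    toHomLin Y n c = Cochain.toSingleEquiv (K := Y) (X := ModuleCat.of A A)
      (show (-n) + n = 0 by omega) c := rfl

lemma toSingleMk_toHomLin (c : Cochain Y (VA A) n) :
    Cochain.toSingleMk (K := Y) (X := ModuleCat.of A A) (toHomLin Y n c)
      (show (-n) + n = 0 by omega) = c :=
  (Cochain.toSingleEquiv (K := Y) (X := ModuleCat.of A A)
    (show (-n) + n = 0 by omega)).symm_apply_apply c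

lemma toHomLin_toSingleMk (f : Y.X (-n) ⟶ ModuleCat.of A A) :
    toHomLin Y n (Cochain.toSingleMk (K := Y) (X := ModuleCat.of A A) f
      (show (-n) + n = 0 by omega)) = f := by
  rw [toHomLin_apply, Cochain.toSingleEquiv_toSingleMk]

lemma d_comp_toHomLin_of_mem (c : Cochain Y (VA A) n) (hc : c ∈ Zc Y n) :
    Y.d (-n - 1) (-n) ≫ toHomLin Y n c = 0 := by
  have h1 : δ n (n + 1) c = 0 := by
    have := LinearMap.mem_ker.1 hc
    rwa [δ_hom_apply] at this
  rw [← toSingleMk_toHomLin Y n c,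
    Cochain.δ_toSingleMk (K := Y) (X := ModuleCat.of A A) (toHomLin Y n c)
      (show (-n) + n = 0 by omega) (n + 1) (-n - 1) (by omega)] at h1
  have h2 : Cochain.toSingleMk (K := Y) (X := ModuleCat.of A A)
      (Y.d (-n - 1) (-n) ≫ toHomLin Y n c) (show (-n - 1) + (n + 1) = 0 by omega) = 0 := by
    have := congrArg (fun z => ((n + 1).negOnePow : ℤˣ) • z) h1
    simpa [smul_smul] using this
  have h3 := congrArg (Cochain.toSingleEquiv (K := Y) (X := ModuleCat.of A A)
    (show (-n - 1) + (n + 1) = 0 by omega)) h2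
  rwa [Cochain.toSingleEquiv_toSingleMk, map_zero] at h3

/-- Cocycles of the dual complex give cocycles `Y^{-n} → A`. -/
noncomputable def toCoc : Zc Y n →ₗ[A] cocycleSubmodule (R := A) Y (-n) (ModuleCat.of A A) :=
  LinearMap.codRestrict _ ((toHomLin Y n) ∘ₗ (Zc Y n).subtype)
    (fun c => d_comp_toHomLin_of_mem Y n c.1 c.2)

lemma toCoc_coe (c : Zc Y n) : ((toCoc Y n c : cocycleSubmodule (R := A) Y (-n) (ModuleCat.of A A)) :
    Y.X (-n) ⟶ ModuleCat.of A A) = toHomLin Y n c.1 := rfl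

lemma toSingleMk_mem_Zc (f : Y.X (-n) ⟶ ModuleCat.of A A) (hf : Y.d (-n - 1) (-n) ≫ f = 0) :
    Cochain.toSingleMk (K := Y) (X := ModuleCat.of A A) f (show (-n) + n = 0 by omega) ∈
      Zc Y n := by
  rw [LinearMap.mem_ker, δ_hom_apply,
    Cochain.δ_toSingleMk (K := Y) (X := ModuleCat.of A A) f
      (show (-n) + n = 0 by omega) (n + 1) (-n - 1) (by omega), hf]
  simp

lemma toCoc_surjective : Function.Surjective (toCoc Y n) := by
  rintro ⟨f, hf⟩
  refine ⟨⟨Cochain.toSingleMk (K := Y) (X := ModuleCat.of A A) f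
    (show (-n) + n = 0 by omega), toSingleMk_mem_Zc Y n f hf⟩, ?_⟩
  apply Subtype.ext
  rw [toCoc_coe]
  exact toHomLin_toSingleMk Y n f

/-- The class map from cocycles of the dual complex to `Hom_D(Q Y, A⟦n⟧)`. -/
noncomputable def Ψ : Zc Y n →ₗ[A] (Q.obj Y ⟶ (Dual.inD A A)⟦n⟧) :=
  extCls Y (Iso.refl _) n (ModuleCat.of A A) ∘ₗ toCoc Y n

lemma Ψ_surjective [Y.IsKProjective] : Function.Surjective (Ψ Y n) :=
  (extCls_surjective Y (Iso.refl _) n (ModuleCat.of A A)).comp (toCoc_surjective Y n)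

/-- Coboundaries, as a submodule of cocycles. -/
noncomputable abbrev Bc : Submodule A (Zc Y n) :=
  (LinearMap.range (δ_hom A Y (VA A) (n - 1) n)).comap (Zc Y n).subtype

lemma ker_Ψ [Y.IsKProjective] : LinearMap.ker (Ψ Y n) = Bc Y n := by
  ext c
  rw [LinearMap.mem_ker, Submodule.mem_comap, LinearMap.mem_range]
  change extCls Y (Iso.refl _) n (ModuleCat.of A A) (toCoc Y n c) = 0 ↔ _
  rw [extCls_eq_zero_iff]
  constructor
  · intro h0
    obtain ⟨g, hg⟩ := exists_coboundary_of_cls_eq_zero Y (-n) _ _ h0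
    refine ⟨(n.negOnePow : ℤˣ) • Cochain.toSingleMk (K := Y) (X := ModuleCat.of A A) g
      (show (-n + 1) + (n - 1) = 0 by omega), ?_⟩
    rw [δ_hom_apply, δ_units_smul,
      Cochain.δ_toSingleMk (K := Y) (X := ModuleCat.of A A) g
        (show (-n + 1) + (n - 1) = 0 by omega) n (-n) (by omega), smul_smul,
      Int.units_mul_self, one_smul]
    have : (toCoc Y n c : cocycleSubmodule (R := A) Y (-n) (ModuleCat.of A A)).1 =
        Y.d (-n) (-n + 1) ≫ g := hg
    rw [← this, toCoc_coe, toSingleMk_toHomLin]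
    rfl
  · rintro ⟨c', hc'⟩
    rw [δ_hom_apply] at hc'
    have h1 : c' = Cochain.toSingleMk (K := Y) (X := ModuleCat.of A A)
        (Cochain.toSingleEquiv (K := Y) (X := ModuleCat.of A A)
          (show (-n + 1) + (n - 1) = 0 by omega) c') (show (-n + 1) + (n - 1) = 0 by omega) :=
      ((Cochain.toSingleEquiv (K := Y) (X := ModuleCat.of A A)
        (show (-n + 1) + (n - 1) = 0 by omega)).symm_apply_apply c').symm
    set g := Cochain.toSingleEquiv (K := Y) (X := ModuleCat.of A A)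
      (show (-n + 1) + (n - 1) = 0 by omega) c' with hgdef
    rw [h1, Cochain.δ_toSingleMk (K := Y) (X := ModuleCat.of A A) g
        (show (-n + 1) + (n - 1) = 0 by omega) n (-n) (by omega)] at hc'
    have h2 : (toCoc Y n c : cocycleSubmodule (R := A) Y (-n) (ModuleCat.of A A)).1 =
        Y.d (-n) (-n + 1) ≫ ((n.negOnePow : ℤˣ) • g) := by
      rw [toCoc_coe]
      have : (c : Cochain Y (VA A) n) = Cochain.toSingleMk (K := Y) (X := ModuleCat.of A A)
          (Y.d (-n) (-n + 1) ≫ ((n.negOnePow : ℤˣ) • g)) (show (-n) + n = 0 by omega) := by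
        rw [show (c : Cochain Y (VA A) n) = (Zc Y n).subtype c from rfl, ← hc',
          Units.smul_def, Units.smul_def, Preadditive.comp_zsmul]
        exact (map_zsmul (Cochain.toSingleEquiv (K := Y) (X := ModuleCat.of A A)
          (show (-n) + n = 0 by omega)).symm _ _).symm
      rw [this, toHomLin_toSingleMk]
    have h3 := cls_eq_zero_of_coboundary Y (-n) ((n.negOnePow : ℤˣ) • g)
      (by rw [← h2]; exact (toCoc Y n c).2)
    exact (cls_congr h2 _ _).trans h3

/-- The differential, corestricted to cocycles. -/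
noncomputable def toCyc : Cochain Y (VA A) (n - 1) →ₗ[A] Zc Y n :=
  LinearMap.codRestrict (Zc Y n) (δ_hom A Y (VA A) (n - 1) n) (fun c => by
    rw [LinearMap.mem_ker, δ_hom_apply, δ_hom_apply, δ_δ])

lemma range_toCyc : LinearMap.range (toCyc Y n) = Bc Y n := by
  ext c
  rw [Submodule.mem_comap, LinearMap.mem_range, LinearMap.mem_range]
  constructor
  · rintro ⟨y, hy⟩
    exact ⟨y, congrArg Subtype.val hy⟩
  · rintro ⟨y, hy⟩
    exact ⟨y, Subtype.ext hy⟩

/-- `H^n` of the dual complex is cocycles modulo coboundaries. -/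
noncomputable def homologyEquiv :
    (DRing.homCx Y (VA A)).homology n ≃ₗ[A] (Zc Y n ⧸ LinearMap.range (toCyc Y n)) :=
  ((DRing.homCx Y (VA A)).homologyIsoSc' (n - 1) n (n + 1) (by simp) (by simp) ≪≫
    ((DRing.homCx Y (VA A)).sc' (n - 1) n (n + 1)).moduleCatHomologyIso).toLinearEquiv

/-- For `Y` K-projective, `H^n(Hom(Y, A)) ≃ Hom_{D(A)}(Q Y, A⟦n⟧)`, linearly. -/
noncomputable def homEquiv [Y.IsKProjective] :
    (DRing.homCx Y (VA A)).homology n ≃ₗ[A] (Q.obj Y ⟶ (Dual.inD A A)⟦n⟧) :=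
  homologyEquiv Y n ≪≫ₗ
    Submodule.quotEquivOfEq _ _ ((range_toCyc Y n).trans (ker_Ψ Y n).symm) ≪≫ₗ
    (Ψ Y n).quotKerEquivOfSurjective (Ψ_surjective Y n)

end Groth.Agent.Lib.Helper13.HDual
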