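import Groth.Agent.Lib.Helper13.HomDual1
import Groth.Agent.Lib.Helper2.CptD.Mod
import Groth.Agent.Lib.Helper13.PCDevissage

/-!
# Duality for perfect complexes: detecting zero objects and isomorphisms by maps to `A⟦i⟧`
-/

set_option autoImplicit false
universe u
open CategoryTheory CategoryTheory.Limits
open CochainComplex CochainComplex.HomComplex HomologicalComplex

namespace Groth.Agent.Lib.Helper13.HDual

open Groth.Agent.Lib.Helper13.BD Groth.Agent.Lib.Helper13.DR Groth.Agent.Lib.Helper13.PC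
open DerivedCategory Pretriangulated

attribute [local instance] HasDerivedCategory.standard

variable {A : Type u} [CommRing A]

/-- Perfect duality: `Hom_D(F^∨, A⟦i⟧) ≃ H^i(F)`. -/
noncomputable def dualHomEquiv (F : DRing.Cx A) (hfp : DRing.TermwiseFiniteProjective F)
    [(DRing.homCx F (VA A)).IsKProjective] (i : ℤ) :
    (Q.obj (DRing.homCx F (VA A)) ⟶ (Dual.inD A A)⟦i⟧) ≃ₗ[A] F.homology i :=
  (homEquiv (DRing.homCx F (VA A)) i).symm ≪≫ₗ
    (haveI := isIso_bid F hfp
     ((HomologicalComplex.homologyFunctor (ModuleCat.{u} A) (ComplexShape.up ℤ) i).mapIso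
      (asIso (bid F (VA A)))).symm.toLinearEquiv)

lemma isZero_Q_of_homology (G : DRing.Cx A) (h : ∀ i : ℤ, IsZero (G.homology i)) :
    IsZero (Q.obj G) := by
  apply isZero_of_forall_isZero_homology
  intro i
  exact (h i).of_iso (homologyQIso G i)

/-- A perfect object with no maps to any `A⟦i⟧` is zero. -/
theorem isZero_of_subsingleton_hom (K : Dual.D A) (hK : DRing.IsPerfect A K)
    (h : ∀ i : ℤ, Subsingleton (K ⟶ (Dual.inD A A)⟦i⟧)) : IsZero K := by
  obtain ⟨G, a, b, hv, hfp, ⟨e⟩⟩ := hK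
  have hG : G.IsKProjective := isKProjective_of_perfect G a b hv hfp
  have hG' : (DRing.homCx G (VA A)).IsKProjective :=
    isKProjective_of_perfect _ (-b) (-a) (vanishesOutside_dual G a b hv)
      (termwiseFiniteProjective_dual G hfp)
  have h1 : ∀ i, IsZero ((DRing.homCx G (VA A)).homology i) := fun i => by
    have s1 : Subsingleton (Q.obj G ⟶ (Dual.inD A A)⟦i⟧) :=
      (Iso.homCongr e (Iso.refl ((Dual.inD A A)⟦i⟧))).subsingleton
    have s2 := (homEquiv G i).toEquiv.subsingleton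
    exact ModuleCat.isZero_of_subsingleton _
  have h2 : IsZero (Q.obj (DRing.homCx G (VA A))) := isZero_Q_of_homology _ h1
  have h3 : ∀ i, IsZero (G.homology i) := fun i => by
    have s1 : Subsingleton (Q.obj (DRing.homCx G (VA A)) ⟶ (Dual.inD A A)⟦i⟧) :=
      ⟨fun f g => h2.eq_of_src f g⟩
    have s2 := (dualHomEquiv G hfp i).symm.toEquiv.subsingleton
    exact ModuleCat.isZero_of_subsingleton _
  exact (isZero_Q_of_homology G h3).of_iso e.symm

/-- The cone of a map of perfect objects is perfect. -/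
theorem isPerfect_obj₃ (T : Triangle (Dual.D A)) (hT : T ∈ distTriang _)
    (h₁ : DRing.IsPerfect A T.obj₁) (h₂ : DRing.IsPerfect A T.obj₂) :
    DRing.IsPerfect A T.obj₃ := by
  apply Groth.Agent.Lib.Helper2.CptD.isPerfect_of_cptU
  have hT' := rot_of_distTriang _ hT
  exact Groth.Agent.Lib.Helper2.CptD.CptU.obj₂ T.rotate hT'
    (Groth.Agent.Lib.Helper2.CptD.cptU_of_isPerfect A _ h₂)
    (Groth.Agent.Lib.Helper2.CptD.CptU.shift
      (Groth.Agent.Lib.Helper2.CptD.cptU_of_isPerfect A _ h₁) 1)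

/-- A map of perfect objects inducing bijections on maps to all `A⟦i⟧` is an isomorphism. -/
theorem isIso_of_bijective_precomp {M N : Dual.D A} (u : M ⟶ N) (hM : DRing.IsPerfect A M)
    (hN : DRing.IsPerfect A N)
    (h : ∀ i : ℤ, Function.Bijective (fun t : N ⟶ (Dual.inD A A)⟦i⟧ => u ≫ t)) : IsIso u := by
  obtain ⟨C, v, w, hT⟩ := distinguished_cocone_triangle u
  have hC : DRing.IsPerfect A C := isPerfect_obj₃ _ hT hM hN
  have hz : IsZero C := by
    apply isZero_of_subsingleton_hom C hC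
    intro i
    refine ⟨fun x x' => ?_⟩
    suffices hx : ∀ x : C ⟶ (Dual.inD A A)⟦i⟧, x = 0 by rw [hx x, hx x']
    intro x
    have h0 : v ≫ x = 0 := by
      apply (h i).1
      change u ≫ v ≫ x = u ≫ 0
      have h12 : u ≫ v = 0 := comp_distTriang_mor_zero₁₂ _ hT
      rw [← Category.assoc, h12, zero_comp, comp_zero]
    obtain ⟨y, hy⟩ : ∃ y : (CategoryTheory.shiftFunctor (Dual.D A) (1 : ℤ)).obj M ⟶
        (CategoryTheory.shiftFunctor (Dual.D A) i).obj (Dual.inD A A), x = w ≫ y :=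
      Triangle.yoneda_exact₃ _ hT x h0
    -- `y : M⟦1⟧ ⟶ A⟦i⟧`
    let ι : (Dual.inD A A)⟦i⟧ ≅ ((Dual.inD A A)⟦i - 1⟧)⟦(1 : ℤ)⟧ :=
      (CategoryTheory.shiftFunctorAdd' (Dual.D A) (i - 1) 1 i (by omega)).app _
    obtain ⟨y₀, hy₀⟩ := (CategoryTheory.shiftFunctor (Dual.D A) (1 : ℤ)).map_surjective (y ≫ ι.hom)
    obtain ⟨y₁, hy₁⟩ := (h (i - 1)).2 y₀
    have hy₁' : u ≫ y₁ = y₀ := hy₁
    have hw : w ≫ (CategoryTheory.shiftFunctor (Dual.D A) (1 : ℤ)).map u = 0 :=
      comp_distTriang_mor_zero₃₁ _ hT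
    have : y = (CategoryTheory.shiftFunctor (Dual.D A) (1 : ℤ)).map u ≫
        (CategoryTheory.shiftFunctor (Dual.D A) (1 : ℤ)).map y₁ ≫ ι.inv := by
      rw [← Category.assoc, ← Functor.map_comp, hy₁', hy₀, Category.assoc, Iso.hom_inv_id,
        Category.comp_id]
    rw [hy, this, ← Category.assoc, hw, zero_comp]
  exact (Triangle.isZero₃_iff_isIso₁ _ hT).1 hz

end Groth.Agent.Lib.Helper13.HDual
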