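import Groth.Agent.Lib.Helper13.KFlat2
import Groth.Agent.Lib.Helper13.HomCx2
import Groth.Agent.Lib.Helper13.QIsoElem

/-!
# `Hom•(-, J)` inverts quasi-isomorphisms for `J` K-injective
-/

set_option autoImplicit false
universe u
open CategoryTheory CategoryTheory.Limits MonoidalCategory
open CochainComplex CochainComplex.HomComplex HomologicalComplex

namespace Groth.Agent.Lib.Helper13.HOp

open Groth.Agent.Lib.Helper13.HT Groth.Agent.Lib.Helper13.PC

attribute [local instance] HasDerivedCategory.standard

variable {A : Type u} [CommRing A]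

lemma homCx_d_apply (K L : DRing.Cx A) (i j : ℤ) (z : Cochain K L i) :
    ((DRing.homCx K L).d i j).hom z = δ i j z := rfl

/-- Precomposition with a quasi-isomorphism is a quasi-isomorphism on `Hom•(-, J)` for
K-injective `J`. -/
theorem quasiIso_preMap_of_isKInjective {X Y : DRing.Cx A} (φ : X ⟶ Y) [QuasiIso φ]
    (J : DRing.Cx A) [CochainComplex.IsKInjective J] : QuasiIso (preMap φ J) := by
  have hC : (mappingCone φ).Acyclic := fun i =>
    Groth.Agent.Lib.Helper13.QE.acyclic_mappingCone_of_quasiIso φ i
  apply Groth.Agent.Lib.Helper13.QE.quasiIso_of_elementwise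
  · intro j k hjk p hp q hq
    have hp' : δ k (k + 1) (show Cochain Y J k from p) = 0 := hp (k + 1)
    have hq' : (Cochain.ofHom φ).comp (show Cochain Y J k from p) (zero_add k) =
        δ j k (show Cochain X J j from q) := hq
    let α : Cochain X J j := (-((k + 1).negOnePow : ℤˣ)) • (show Cochain X J j from q)
    let c : Cochain (mappingCone φ) J k := mappingCone.descCochain φ α p hjk
    have hc : δ k (k + 1) c = 0 := by
      rw [mappingCone.δ_descCochain φ α p hjk (k + 1) rfl, hp', hq']
      simp [α]
    obtain ⟨c', hc'⟩ := exists_δ_eq_of_isKInjective (mappingCone φ) J hC k j hjk c hc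
    refine ⟨(Cochain.ofHom (mappingCone.inr φ)).comp c' (zero_add j), ?_⟩
    rw [homCx_d_apply, δ_ofHom_comp, hc']
    exact mappingCone.inr_descCochain φ α p hjk
  · intro i j hij y hy
    have hy' : δ j (j + 1) (show Cochain X J j from y) = 0 := hy (j + 1)
    let c : Cochain (mappingCone φ) J (j + 1) :=
      mappingCone.descCochain φ (show Cochain X J j from y) (0 : Cochain Y J (j + 1)) rfl
    have hc : δ (j + 1) (j + 1 + 1) c = 0 := by
      rw [mappingCone.δ_descCochain φ _ _ rfl (j + 1 + 1) rfl, hy']
      simp
    obtain ⟨c', hc'⟩ := exists_δ_eq_of_isKInjective (mappingCone φ) J hC (j + 1) j rfl c hc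
    let α' : Cochain X J i := (mappingCone.inl φ).comp c' (by omega)
    let β' : Cochain Y J j := (Cochain.ofHom (mappingCone.inr φ)).comp c' (zero_add j)
    have hdec : c' = mappingCone.descCochain φ α' β' hij := by
      rw [mappingCone.ext_cochain_from_iff φ i j hij]
      exact ⟨(mappingCone.inl_descCochain φ α' β' hij).symm,
        (mappingCone.inr_descCochain φ α' β' hij).symm⟩
    have h1 := hc'
    rw [hdec, mappingCone.δ_descCochain φ α' β' hij (j + 1) rfl] at h1
    have h1' : mappingCone.descCochain φ
        (δ i j α' + (j + 1).negOnePow • (Cochain.ofHom φ).comp β' (zero_add j))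
        (δ j (j + 1) β') rfl = c := h1
    have h2 := congrArg (fun t => (Cochain.ofHom (mappingCone.inr φ)).comp t (zero_add (j + 1))) h1'
    have h3 := congrArg (fun t => (mappingCone.inl φ).comp t
      (show (-1 : ℤ) + (j + 1) = j by omega)) h1'
    simp only [c, mappingCone.inr_descCochain, mappingCone.inl_descCochain] at h2 h3
    refine ⟨((j + 1).negOnePow : ℤˣ) • β', -α', ?_, ?_⟩
    · intro l
      rw [homCx_d_apply]
      by_cases hl : j + 1 = l
      · subst hl
        rw [δ_units_smul, h2, smul_zero]
        rfl
      · exact δ_shape _ _ hl _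
    · rw [homCx_d_apply, preMap_f_apply, δ_neg]
      change (Cochain.ofHom φ).comp (((j + 1).negOnePow : ℤˣ) • β') (zero_add j) =
        (show Cochain X J j from y) + -δ i j α'
      rw [← h3, Cochain.comp_units_smul, add_comm (δ i j α'), add_neg_cancel_right]

end Groth.Agent.Lib.Helper13.HOp
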