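import Groth.Agent.Lib.Helper13.HomOp1
import Groth.Agent.Lib.Helper13.DTenDev2

/-!
# The contravariant functor `RHom(-, J)` on the derived category
-/

set_option autoImplicit false
universe u
open CategoryTheory CategoryTheory.Limits MonoidalCategory Pretriangulated Opposite
open CochainComplex CochainComplex.HomComplex HomologicalComplex

namespace Groth.Agent.Lib.Helper13.HOp

open Groth.Agent.Lib.Helper13.HT Groth.Agent.Lib.Helper13.PC Groth.Agent.Lib.Helper13.DV

attribute [local instance] HasDerivedCategory.standard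

variable {A : Type u} [CommRing A]

/-- `Hom•(-, J)` as a contravariant functor on complexes. -/
noncomputable def homOp (J : DRing.Cx A) : (DRing.Cx A)ᵒᵖ ⥤ DRing.Cx A where
  obj X := DRing.homCx X.unop J
  map f := preMap f.unop J
  map_id _ := preMap_id _ _
  map_comp f g := preMap_comp f.unop g.unop J

@[simp] lemma homOp_obj (J : DRing.Cx A) (X : (DRing.Cx A)ᵒᵖ) :
    (homOp J).obj X = DRing.homCx X.unop J := rfl

@[simp] lemma homOp_map (J : DRing.Cx A) {X Y : (DRing.Cx A)ᵒᵖ} (f : X ⟶ Y) :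
    (homOp J).map f = preMap f.unop J := rfl

/-- Transport of mid-exactness along a localisation of the opposite category: a functor on
`(Cx A)ᵒᵖ` which takes degreewise split short exact sequences to mid-exact pairs induces a functor
on `D(A)ᵒᵖ` which takes distinguished triangles to mid-exact pairs. -/
theorem midExact_of_lifting {D : Type*} [Category D] [Preadditive D]
    (F : (DRing.Cx A)ᵒᵖ ⥤ D) (F' : (Dual.D A)ᵒᵖ ⥤ D)
    (e : (DerivedCategory.Q (C := ModuleCat.{u} A)).op ⋙ F' ≅ F)
    (hF : ∀ (S : ShortComplex (DRing.Cx A))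
      (_ : ∀ n, (S.map (HomologicalComplex.eval _ _ n)).Splitting),
      MidExact (F.map S.g.op) (F.map S.f.op))
    (T : Triangle (Dual.D A)) (hT : T ∈ distTriang (Dual.D A)) :
    MidExact (F'.map T.mor₂.op) (F'.map T.mor₁.op) := by
  obtain ⟨S, σ, e₁, e₂, e₃, c₁, c₂⟩ := exists_split_shortComplex_of_distTriang T hT
  refine MidExact.of_iso (hF S σ)
    (e.symm.app (op S.X₃) ≪≫ F'.mapIso e₃.op)
    (e.symm.app (op S.X₂) ≪≫ F'.mapIso e₂.op)
    (e.symm.app (op S.X₁) ≪≫ F'.mapIso e₁.op) ?_ ?_
  · have h1 := e.inv.naturality S.g.op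
    dsimp at h1 ⊢
    rw [reassoc_of% h1, Category.assoc, ← F'.map_comp, ← F'.map_comp]
    change _ ≫ F'.map ((DerivedCategory.Q.map S.g).op ≫ e₂.hom.op) =
      _ ≫ F'.map (e₃.hom.op ≫ T.mor₂.op)
    rw [← op_comp, ← op_comp, c₂]
  · have h1 := e.inv.naturality S.f.op
    dsimp at h1 ⊢
    rw [reassoc_of% h1, Category.assoc, ← F'.map_comp, ← F'.map_comp]
    change _ ≫ F'.map ((DerivedCategory.Q.map S.f).op ≫ e₁.hom.op) =
      _ ≫ F'.map (e₂.hom.op ≫ T.mor₁.op)
    rw [← op_comp, ← op_comp, c₁]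

section DJ

variable (J : DRing.Cx A) [CochainComplex.IsKInjective J]

lemma homOp_inverts :
    (HomologicalComplex.quasiIso (ModuleCat.{u} A) (ComplexShape.up ℤ)).op.IsInvertedBy
      (homOp J ⋙ DerivedCategory.Q) := by
  intro X Y f hf
  have : QuasiIso f.unop := hf
  have := quasiIso_preMap_of_isKInjective f.unop J
  dsimp
  rw [DerivedCategory.isIso_Q_map_iff_quasiIso]
  infer_instance

/-- `RHom(-, J) : D(A)ᵒᵖ ⥤ D(A)` for `J` K-injective. -/
noncomputable def DJ : (Dual.D A)ᵒᵖ ⥤ Dual.D A :=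
  Localization.lift (homOp J ⋙ DerivedCategory.Q) (homOp_inverts J)
    (DerivedCategory.Q (C := ModuleCat.{u} A)).op

noncomputable instance : Localization.Lifting (DerivedCategory.Q (C := ModuleCat.{u} A)).op
    (HomologicalComplex.quasiIso (ModuleCat.{u} A) (ComplexShape.up ℤ)).op
    (homOp J ⋙ DerivedCategory.Q) (DJ J) := by
  unfold DJ
  infer_instance

/-- The defining isomorphism of `DJ`. -/
noncomputable def DJIso : (DerivedCategory.Q (C := ModuleCat.{u} A)).op ⋙ DJ J ≅
    homOp J ⋙ DerivedCategory.Q :=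
  Localization.Lifting.iso (DerivedCategory.Q (C := ModuleCat.{u} A)).op
    (HomologicalComplex.quasiIso (ModuleCat.{u} A) (ComplexShape.up ℤ)).op _ _

end DJ

/-- `Hom•(-, L)` takes degreewise split short exact sequences to mid-exact pairs in `D(A)`. -/
lemma midExact_homOp (L : DRing.Cx A) (S : ShortComplex (DRing.Cx A))
    (σ : ∀ n, (S.map (HomologicalComplex.eval _ _ n)).Splitting) :
    MidExact ((homOp L ⋙ DerivedCategory.Q).map S.g.op)
      ((homOp L ⋙ DerivedCategory.Q).map S.f.op) :=
  MidExact.of_distTriang _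
    (DerivedCategory.triangleOfSES_distinguished (shortExact_homShortComplex S σ L))

theorem midExact_DJ (J : DRing.Cx A) [CochainComplex.IsKInjective J]
    (T : Triangle (Dual.D A)) (hT : T ∈ distTriang (Dual.D A)) :
    MidExact ((DJ J).map T.mor₂.op) ((DJ J).map T.mor₁.op) :=
  midExact_of_lifting _ _ (DJIso J) (fun S σ => midExact_homOp J S σ) T hT

end Groth.Agent.Lib.Helper13.HOp
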