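import Groth.Agent.Lib.Helper13.HomOp2

/-!
# `P ⊗ Hom•(-, L)` takes degreewise split short exact sequences to mid-exact pairs
-/

set_option autoImplicit false
universe u
open CategoryTheory CategoryTheory.Limits MonoidalCategory Pretriangulated Opposite
open CochainComplex CochainComplex.HomComplex HomologicalComplex

namespace Groth.Agent.Lib.Helper13.HOp

open Groth.Agent.Lib.Helper13.HT Groth.Agent.Lib.Helper13.PC Groth.Agent.Lib.Helper13.DV
open Groth.Agent.Lib.Helper28

attribute [local instance] HasDerivedCategory.standard

variable {A : Type u} [CommRing A]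

instance preservesZeroMorphisms_tensorLeft (P : DRing.Cx A) :
    (tensorLeft P).PreservesZeroMorphisms where
  map_zero X Y := by
    change HomologicalComplex.mapBifunctorMap (𝟙 P) (0 : X ⟶ Y)
      (curriedTensor (ModuleCat.{u} A)) (ComplexShape.up ℤ) = 0
    refine HomologicalComplex.hom_ext _ _ (fun n =>
      HomologicalComplex.mapBifunctor.hom_ext (fun p q h => ?_))
    rw [HomologicalComplex.ι_mapBifunctorMap]
    simp

/-- Tensoring a degreewise split short exact sequence of complexes with a complex on the left gives
a short exact sequence. -/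
lemma shortExact_map_tensorLeft (S : ShortComplex (DRing.Cx A))
    (σ : ∀ n, (S.map (HomologicalComplex.eval _ _ n)).Splitting) (P : DRing.Cx A) :
    (S.map (tensorLeft P)).ShortExact :=
  KFlatAbs.shortExact_tot₂ (curriedTensor (ModuleCat.{u} A)) P S (fun p q =>
    ((σ q).map ((curriedTensor (ModuleCat.{u} A)).obj (P.X p))).shortExact)

/-- The linear section of `preMap S.f L` in degree `n` built from degreewise retractions. -/
noncomputable def homSection (S : ShortComplex (DRing.Cx A))
    (σ : ∀ n, (S.map (HomologicalComplex.eval _ _ n)).Splitting) (L : DRing.Cx A) (n : ℤ) :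
    Cochain S.X₁ L n →ₗ[A] Cochain S.X₂ L n where
  toFun y := Cochain.mk (fun p q hpq => (show S.X₂.X p ⟶ S.X₁.X p from (σ p).r) ≫ y.v p q hpq)
  map_add' y y' := by
    refine Cochain.ext _ _ (fun p q hpq => ?_)
    simp [Preadditive.comp_add]
  map_smul' a y := by
    refine Cochain.ext _ _ (fun p q hpq => ?_)
    simp [Linear.comp_smul]

/-- `Hom•(-, L)` of a degreewise split short exact sequence is degreewise split. -/
noncomputable def homShortComplexSplitting (S : ShortComplex (DRing.Cx A))
    (σ : ∀ n, (S.map (HomologicalComplex.eval _ _ n)).Splitting) (L : DRing.Cx A) (n : ℤ) :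
    ((homShortComplex S L).map (HomologicalComplex.eval _ _ n)).Splitting :=
  have hSE := (shortExact_homShortComplex S σ L).map_of_exact (HomologicalComplex.eval _ _ n)
  ShortComplex.Splitting.ofExactOfSection _ hSE.exact (ModuleCat.ofHom (homSection S σ L n))
    (by
      apply ModuleCat.hom_ext
      apply LinearMap.ext
      intro (y : Cochain S.X₁ L n)
      change ((preMap S.f L).f n).hom (homSection S σ L n y) = y
      refine Cochain.ext _ _ (fun p q hpq => ?_)
      rw [preMap_f_apply_v]
      change S.f.f p ≫ (show S.X₂.X p ⟶ S.X₁.X p from (σ p).r) ≫ y.v p q hpq = _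
      have h : S.f.f p ≫ (show S.X₂.X p ⟶ S.X₁.X p from (σ p).r) = 𝟙 _ := (σ p).f_r
      rw [reassoc_of% h])
    hSE.mono_f

/-- `P ⊗ Hom•(-, L)` takes degreewise split short exact sequences to mid-exact pairs. -/
lemma midExact_tensorLeft_homOp (P L : DRing.Cx A) (S : ShortComplex (DRing.Cx A))
    (σ : ∀ n, (S.map (HomologicalComplex.eval _ _ n)).Splitting) :
    MidExact ((homOp L ⋙ tensorLeft P ⋙ DerivedCategory.Q).map S.g.op)
      ((homOp L ⋙ tensorLeft P ⋙ DerivedCategory.Q).map S.f.op) :=
  MidExact.of_distTriang _
    (DerivedCategory.triangleOfSES_distinguished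
      (shortExact_map_tensorLeft (homShortComplex S L) (homShortComplexSplitting S σ L) P))

end Groth.Agent.Lib.Helper13.HOp
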