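import Groth.Prelude.Def_DRing4
import Mathlib.Algebra.Homology.BifunctorHomotopy

/-!
# Hom-tensor adjunction for cochain complexes of modules
-/

set_option autoImplicit false
universe u
open CategoryTheory CategoryTheory.Limits MonoidalCategory
open CochainComplex CochainComplex.HomComplex HomologicalComplex

namespace Groth.Agent.Lib.Helper13.HT

variable {A : Type u} [CommRing A] (K L M : DRing.Cx A)

/-- The differential of the tensor product on a summand. -/
lemma ι_tensor_d (p q n n' : ℤ) (h : p + q = n) (hn : n + 1 = n') :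
    ιTensorObj K L p q n h ≫ (K ⊗ L).d n n' =
      (K.d p (p + 1) ▷ L.X q) ≫ ιTensorObj K L (p + 1) q n' (by omega) +
        p.negOnePow • ((K.X p ◁ L.d q (q + 1)) ≫ ιTensorObj K L p (q + 1) n' (by omega)) := by
  have h1 := HomologicalComplex.mapBifunctor.d₁_eq K L (curriedTensor (ModuleCat.{u} A))
    (ComplexShape.up ℤ) (i₁ := p) (i₁' := p + 1) rfl q n' (by change p + 1 + q = n'; omega)
  have h2 := HomologicalComplex.mapBifunctor.d₂_eq K L (curriedTensor (ModuleCat.{u} A))
    (ComplexShape.up ℤ) p (i₂ := q) (i₂' := q + 1) rfl n' (by change p + (q + 1) = n'; omega)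
  have hd : ιTensorObj K L p q n h ≫ (HomologicalComplex.tensorObj K L).d n n' =
      HomologicalComplex.mapBifunctor.d₁ K L (curriedTensor (ModuleCat.{u} A)) (ComplexShape.up ℤ) p q n' +
      HomologicalComplex.mapBifunctor.d₂ K L (curriedTensor (ModuleCat.{u} A)) (ComplexShape.up ℤ) p q n' := by
    rw [HomologicalComplex.mapBifunctor.d_eq, Preadditive.comp_add,
      HomologicalComplex.mapBifunctor.ι_D₁, HomologicalComplex.mapBifunctor.ι_D₂]
  refine hd.trans ?_
  rw [h1, h2]
  have e1 : (ComplexShape.up ℤ).ε₁ (ComplexShape.up ℤ) (ComplexShape.up ℤ) (p, q) = 1 := rfl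
  have e2 : (ComplexShape.up ℤ).ε₂ (ComplexShape.up ℤ) (ComplexShape.up ℤ) (p, q) =
    p.negOnePow := rfl
  rw [e1, e2, one_smul]
  rfl


section Curry

variable {K L M}

/-- The component `K^p ⊗ L^a ⟶ M^b` of a cochain `K ⟶ Hom(L, M)`. -/
noncomputable def unc {n : ℤ} (β : Cochain K (DRing.homCx L M) n) (p a b : ℤ) (h : p + a + n = b) :
    (K.X p ⊗ L.X a : ModuleCat.{u} A) ⟶ M.X b :=
  ModuleCat.ofHom (TensorProduct.lift
    { toFun := fun x => (Cochain.v (F := L) (G := M) ((β.v p (p + n) rfl).hom x) a b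
        (by omega)).hom
      map_add' := fun x y => by
        rw [map_add]
        rfl
      map_smul' := fun r x => by
        rw [map_smul]
        rfl })

lemma unc_tmul {n : ℤ} (β : Cochain K (DRing.homCx L M) n) (p a b : ℤ) (h : p + a + n = b)
    (x : K.X p) (y : L.X a) :
    (unc β p a b h).hom (x ⊗ₜ y) =
      (Cochain.v (F := L) (G := M) ((β.v p (p + n) rfl).hom x) a b (by omega)).hom y := rfl

/-- The cochain `K ⊗ L ⟶ M` attached to a cochain `K ⟶ Hom(L, M)`. -/
noncomputable def uncurry {n : ℤ} (β : Cochain K (DRing.homCx L M) n) : Cochain (K ⊗ L) M n :=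
  Cochain.mk (fun p' q' h => HomologicalComplex.mapBifunctorDesc
    (fun p a (hpa : p + a = p') => unc β p a q' (by omega)))

lemma ι_uncurry_v {n : ℤ} (β : Cochain K (DRing.homCx L M) n) (p a p' q' : ℤ) (hpa : p + a = p')
    (h : p' + n = q') :
    ιTensorObj K L p a p' hpa ≫ (uncurry β).v p' q' h = unc β p a q' (by omega) := by
  dsimp [uncurry]
  exact HomologicalComplex.ι_mapBifunctorDesc _ _ _ _

/-- The linear map `K^p ⟶ Hom^q(L, M)` attached to a cochain `K ⊗ L ⟶ M`. -/
noncomputable def curV {n : ℤ} (α : Cochain (K ⊗ L) M n) (p q : ℤ) (hpq : p + n = q) :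
    K.X p →ₗ[A] Cochain L M q :=
  { toFun := fun x => Cochain.mk (fun a b hab => ModuleCat.ofHom
      (TensorProduct.curry (ιTensorObj K L p a (p + a) rfl ≫ α.v (p + a) b (by omega)).hom x))
    map_add' := fun x y => by
      ext a b hab
      simp
    map_smul' := fun r x => by
      ext a b hab
      simp }

lemma curV_v_apply {n : ℤ} (α : Cochain (K ⊗ L) M n) (p q : ℤ) (hpq : p + n = q) (x : K.X p)
    (a b : ℤ) (hab : a + q = b) (y : L.X a) :
    ((curV α p q hpq x).v a b hab).hom y =
      (ιTensorObj K L p a (p + a) rfl ≫ α.v (p + a) b (by omega)).hom (x ⊗ₜ y) := rfl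

/-- The cochain `K ⟶ Hom(L, M)` attached to a cochain `K ⊗ L ⟶ M`. -/
noncomputable def curry {n : ℤ} (α : Cochain (K ⊗ L) M n) : Cochain K (DRing.homCx L M) n :=
  Cochain.mk (fun p q hpq => ModuleCat.ofHom (curV α p q hpq))

end Curry


section Equiv

variable {K L M}

lemma curry_v_apply {n : ℤ} (α : Cochain (K ⊗ L) M n) (p q : ℤ) (hpq : p + n = q) (x : K.X p) :
    ((curry α).v p q hpq).hom x = curV α p q hpq x := rfl

lemma uncurry_curry {n : ℤ} (α : Cochain (K ⊗ L) M n) : uncurry (curry α) = α := by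
  refine Cochain.ext _ _ (fun p' q' h => ?_)
  apply HomologicalComplex.mapBifunctor.hom_ext
  intro p a hpa
  have hpa' : p + a = p' := hpa
  subst hpa'
  erw [ι_uncurry_v (curry α) p a (p + a) q' rfl h]
  apply ModuleCat.hom_ext
  apply TensorProduct.ext'
  intro x y
  rw [unc_tmul]
  rfl

lemma curry_uncurry {n : ℤ} (β : Cochain K (DRing.homCx L M) n) : curry (uncurry β) = β := by
  refine Cochain.ext _ _ (fun p q hpq => ?_)
  subst hpq
  apply ModuleCat.hom_ext
  apply LinearMap.ext
  intro x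
  rw [curry_v_apply]
  refine Cochain.ext _ _ (fun a b hab => ?_)
  apply ModuleCat.hom_ext
  apply LinearMap.ext
  intro y
  rw [curV_v_apply, ι_uncurry_v β p a (p + a) b rfl (by omega), unc_tmul]

lemma curV_add {n : ℤ} (α α' : Cochain (K ⊗ L) M n) (p q : ℤ) (hpq : p + n = q) :
    curV (α + α') p q hpq = curV α p q hpq + curV α' p q hpq := by
  apply LinearMap.ext
  intro x
  refine Cochain.ext _ _ (fun a b hab => ?_)
  apply ModuleCat.hom_ext
  apply LinearMap.ext
  intro y
  rw [LinearMap.add_apply, Cochain.add_v, ModuleCat.hom_add, LinearMap.add_apply, curV_v_apply,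
    curV_v_apply, curV_v_apply, Cochain.add_v, Preadditive.comp_add, ModuleCat.hom_add,
    LinearMap.add_apply]

lemma curV_smul {n : ℤ} (r : A) (α : Cochain (K ⊗ L) M n) (p q : ℤ) (hpq : p + n = q) :
    curV (r • α) p q hpq = r • curV α p q hpq := by
  apply LinearMap.ext
  intro x
  refine Cochain.ext _ _ (fun a b hab => ?_)
  apply ModuleCat.hom_ext
  apply LinearMap.ext
  intro y
  rw [LinearMap.smul_apply, Cochain.smul_v, ModuleCat.hom_smul, LinearMap.smul_apply,
    curV_v_apply, curV_v_apply, Cochain.smul_v, Linear.comp_smul, ModuleCat.hom_smul,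
    LinearMap.smul_apply]

lemma curry_add {n : ℤ} (α α' : Cochain (K ⊗ L) M n) : curry (α + α') = curry α + curry α' := by
  refine Cochain.ext _ _ (fun p q hpq => ?_)
  apply ModuleCat.hom_ext
  exact curV_add α α' p q hpq

lemma curry_smul {n : ℤ} (r : A) (α : Cochain (K ⊗ L) M n) : curry (r • α) = r • curry α := by
  refine Cochain.ext _ _ (fun p q hpq => ?_)
  apply ModuleCat.hom_ext
  exact curV_smul r α p q hpq

/-- The Hom-tensor adjunction on cochains. -/
noncomputable def curryEquiv (n : ℤ) : Cochain (K ⊗ L) M n ≃ₗ[A] Cochain K (DRing.homCx L M) n where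
  toFun := curry
  invFun := uncurry
  map_add' := curry_add
  map_smul' := curry_smul
  left_inv := uncurry_curry
  right_inv := curry_uncurry

end Equiv


section Delta

variable {K L M}

/-- Evaluation of a cochain `K ⟶ Hom(L, M)` on an element. -/
noncomputable def ev {n : ℤ} (β : Cochain K (DRing.homCx L M) n) (p q : ℤ) (hq : p + n = q)
    (x : K.X p) : Cochain L M q := (β.v p q hq).hom x

lemma ev_δ (n : ℤ) (β : Cochain K (DRing.homCx L M) n) (p q : ℤ) (hq : p + (n + 1) = q)
    (x : K.X p) :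
    ev (δ n (n + 1) β) p q hq x = δ (q - 1) q (ev β p (q - 1) (by omega) x) +
      (n + 1).negOnePow • ev β (p + 1) q (by omega) ((K.d p (p + 1)).hom x) := by
  unfold ev
  rw [δ_v n (n + 1) rfl β p q hq (q - 1) (p + 1) rfl rfl]
  rfl

lemma unc_tmul' {n : ℤ} (β : Cochain K (DRing.homCx L M) n) (p a b : ℤ) (h : p + a + n = b)
    (q : ℤ) (hq : p + n = q) (x : K.X p) (y : L.X a) :
    (unc β p a b h).hom (x ⊗ₜ y) = ((ev β p q hq x).v a b (by omega)).hom y := by
  subst hq
  rfl

lemma uncurry_δ (n m : ℤ) (hnm : n + 1 = m) (β : Cochain K (DRing.homCx L M) n) :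
    uncurry (δ n m β) = δ n m (uncurry β) := by
  subst hnm
  refine Cochain.ext _ _ (fun p' q' h => ?_)
  apply HomologicalComplex.mapBifunctor.hom_ext
  intro p a hpa
  have hpa' : p + a = p' := hpa
  subst hpa'
  have hA : ιTensorObj K L p a (p + a) rfl ≫ (uncurry β).v (p + a) (q' - 1) (by omega) ≫
      M.d (q' - 1) q' = unc β p a (q' - 1) (by omega) ≫ M.d (q' - 1) q' := by
    rw [← Category.assoc, ι_uncurry_v β p a (p + a) (q' - 1) rfl (by omega)]
  have hB : ιTensorObj K L p a (p + a) rfl ≫ (K ⊗ L).d (p + a) (p + a + 1) ≫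
      (uncurry β).v (p + a + 1) q' (by omega) =
      (K.d p (p + 1) ▷ L.X a) ≫ unc β (p + 1) a q' (by omega) +
        p.negOnePow • ((K.X p ◁ L.d a (a + 1)) ≫ unc β p (a + 1) q' (by omega)) := by
    rw [← Category.assoc, ι_tensor_d K L p a (p + a) (p + a + 1) rfl rfl, Preadditive.add_comp,
      Category.assoc, Linear.units_smul_comp, Category.assoc,
      ι_uncurry_v β (p + 1) a (p + a + 1) q' (by omega) (by omega),
      ι_uncurry_v β p (a + 1) (p + a + 1) q' (by omega) (by omega)]
  refine (ι_uncurry_v (δ n (n + 1) β) p a (p + a) q' rfl h).trans ?_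
  rw [δ_v n (n + 1) rfl (uncurry β) (p + a) q' h (q' - 1) (p + a + 1) rfl rfl,
    Preadditive.comp_add, Linear.comp_units_smul]
  refine Eq.trans ?_ (congrArg₂ (· + ·) hA.symm (congrArg ((n + 1).negOnePow • ·) hB.symm))
  apply ModuleCat.hom_ext
  apply TensorProduct.ext'
  intro x y
  rw [unc_tmul' (δ n (n + 1) β) p a q' (by omega) (p + (n + 1)) rfl, ev_δ,
    Cochain.add_v, Cochain.units_smul_v,
    δ_v (p + (n + 1) - 1) (p + (n + 1)) (by omega) _ a q' (by omega) (q' - 1) (a + 1) rfl rfl]
  simp only [ModuleCat.hom_add, ModuleCat.hom_comp, LinearMap.add_apply, LinearMap.comp_apply,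
    Units.smul_def, ModuleCat.hom_zsmul, LinearMap.smul_apply]
  have w1 : (K.d p (p + 1) ▷ L.X a).hom (x ⊗ₜ[A] y) = ((K.d p (p + 1)).hom x) ⊗ₜ[A] y := rfl
  have w2 : (K.X p ◁ L.d a (a + 1)).hom (x ⊗ₜ[A] y) = x ⊗ₜ[A] ((L.d a (a + 1)).hom y) := rfl
  rw [w1, w2]
  rw [unc_tmul' β p a (q' - 1) (by omega) (p + (n + 1) - 1) (by omega),
    unc_tmul' β (p + 1) a q' (by omega) (p + (n + 1)) (by omega),
    unc_tmul' β p (a + 1) q' (by omega) (p + (n + 1) - 1) (by omega)]
  rw [Int.negOnePow_add, Units.val_mul, smul_add, smul_smul, mul_comm]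
  abel

end Delta


section Iso

lemma curry_δ (n m : ℤ) (hnm : n + 1 = m) (α : Cochain (K ⊗ L) M n) :
    curry (δ n m α) = δ n m (curry α) := by
  have h := uncurry_δ n m hnm (curry α)
  rw [uncurry_curry] at h
  rw [← h, curry_uncurry]

/-- The Hom-tensor adjunction as an isomorphism of complexes
`Hom(K ⊗ L, M) ≅ Hom(K, Hom(L, M))`. -/
noncomputable def homTensorIso :
    DRing.homCx (K ⊗ L) M ≅ DRing.homCx K (DRing.homCx L M) :=
  HomologicalComplex.Hom.isoOfComponents
    (fun n => (curryEquiv (K := K) (L := L) (M := M) n).toModuleIso)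
    (fun i j hij => by
      apply ModuleCat.hom_ext
      apply LinearMap.ext
      intro α
      exact (curry_δ K L M i j hij α).symm)

end Iso

end Groth.Agent.Lib.Helper13.HT
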