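import Groth.Agent.Lib.Helper13.PCTermwise

set_option autoImplicit false
set_option linter.style.haveILetI false
set_option linter.unusedSectionVars false

universe w w' v v' u u'

namespace Groth.Agent.Lib.Helper13.PC

open CategoryTheory CategoryTheory.Limits HomologicalComplex CochainComplex PCoh Pretriangulated
  ZeroObject DerivedCategory

variable {C : Type u} [Category.{v} C] [Abelian C] [HasDerivedCategory.{w} C]

/-- `H^i(Y⟦k⟧) ≅ H^{k+i}(Y)`. -/
noncomputable def homologyShiftIso (Y : DerivedCategory C) (k i j : ℤ) (h : k + i = j) :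
    (DerivedCategory.homologyFunctor C i).obj ((CategoryTheory.shiftFunctor (DerivedCategory C) k).obj Y) ≅
      (DerivedCategory.homologyFunctor C j).obj Y :=
  ((DerivedCategory.homologyFunctor C 0).shiftIso k i j h).app Y

variable {C' : Type u'} [Category.{v'} C'] [Abelian C'] [HasDerivedCategory.{w'} C']
  (u : DerivedCategory C ⥤ DerivedCategory C') [u.CommShift ℤ] [u.IsTriangulated]

/-- Cohomological amplitude of a triangulated functor: if `u` sends objects acyclic in degrees
`> 0` to objects acyclic in degrees `> b`, it sends objects acyclic in degrees `> k` to objects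
acyclic in degrees `> k + b`. -/
lemma isZero_homology_map_of_bound (b : ℤ)
    (hii : ∀ F : DerivedCategory C, (∀ i : ℤ, 0 < i → IsZero ((DerivedCategory.homologyFunctor C i).obj F)) →
      ∀ i : ℤ, b < i → IsZero ((DerivedCategory.homologyFunctor C' i).obj (u.obj F)))
    (F : DerivedCategory C) (k : ℤ)
    (hF : ∀ i : ℤ, k < i → IsZero ((DerivedCategory.homologyFunctor C i).obj F)) (j : ℤ)
    (hj : k + b < j) : IsZero ((DerivedCategory.homologyFunctor C' j).obj (u.obj F)) := by
  have h1 := hii ((CategoryTheory.shiftFunctor (DerivedCategory C) k).obj F)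
    (fun i hi => (hF (k + i) (by lia)).of_iso (homologyShiftIso F k i (k + i) rfl)) (j - k) (by lia)
  exact h1.of_iso ((homologyShiftIso (u.obj F) k (j - k) j (by lia)).symm ≪≫
    (DerivedCategory.homologyFunctor C' (j - k)).mapIso ((u.commShiftIso k).app F).symm)


variable {P : ObjectProperty C} [P.IsClosedUnderIsomorphisms] [P.ContainsZero]
variable {P' : ObjectProperty C'} [P'.IsClosedUnderIsomorphisms] [P'.ContainsZero]

/-- Pseudo-coherence of the image of a complex with terms in `P` in degrees `[m, n]` under a
triangulated functor of bounded amplitude. -/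
theorem isNPC_map_of_strict (hsum' : ∀ X Y : C', P' X → P' Y → P' (X ⨯ Y))
    (hqs' : IsQuasiStableUnderKernels P') (hql' : IsQuasiLiftable P') (a b : ℤ)
    (hi : ∀ E : C, P E → IsNPC P' a (u.obj ((DerivedCategory.singleFunctor C 0).obj E)))
    (hii : ∀ F : DerivedCategory C, (∀ i : ℤ, 0 < i → IsZero ((DerivedCategory.homologyFunctor C i).obj F)) →
      ∀ i : ℤ, b < i → IsZero ((DerivedCategory.homologyFunctor C' i).obj (u.obj F)))
    (m n : ℤ) (E : CochainComplex C ℤ) (hz : ∀ i : ℤ, n < i → IsZero (E.X i))
    (hP : ∀ i : ℤ, m ≤ i → P (E.X i)) :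
    IsNPC P' (max (m + b) (n + a)) (u.obj (Q.obj E)) := by
  have key : ∀ (j : ℕ) (E : CochainComplex C ℤ), (∀ i : ℤ, m - 1 + j < i → IsZero (E.X i)) →
      m - 1 + j ≤ n → (∀ i : ℤ, m ≤ i → P (E.X i)) →
      IsNPC P' (max (m + b) (n + a)) (u.obj (Q.obj E)) := by
    intro j
    induction j with
    | zero =>
      intro E hz _ _
      refine (isNPC_of_acyclic (P := P') (n := m + b) (fun i hi => ?_)).of_le (le_max_left _ _)
      refine isZero_homology_map_of_bound u b hii (Q.obj E) (m - 1) (fun k hk => ?_) i (by lia)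
      have h1 : IsZero (E.homology k) :=
        ShortComplex.isZero_homology_of_isZero_X₂ _ (hz k (by simp; lia))
      exact h1.of_iso (homologyQIso E k)
    | succ j ih =>
      intro E hz hjn hP
      obtain ⟨t, ht⟩ : ∃ t : ℤ, t = m + j := ⟨_, rfl⟩
      have hz' : ∀ i : ℤ, t < i → IsZero (E.X i) := fun i hi => hz i (by push_cast; lia)
      obtain ⟨F', hF't, hiso, T, hT, ⟨e₁⟩, ⟨e₂⟩, ⟨e₃⟩⟩ := exists_top_quotient E t (hz' _ (by lia))
      have hT' := u.map_distinguished T hT
      have h1 : IsNPC P' (max (m + b) (n + a)) (u.mapTriangle.obj T).obj₁ := by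
        have h := (hi _ (hP t (by lia))).shift (-t)
        have e : (CategoryTheory.shiftFunctor (DerivedCategory C') (-t)).obj
            (u.obj ((DerivedCategory.singleFunctor C 0).obj (E.X t))) ≅ u.obj T.obj₁ :=
          ((u.commShiftIso (-t)).app _).symm ≪≫ u.mapIso (singleShiftIso t (E.X t) ≪≫
            singleIsoQ t _ ≪≫ e₁.symm)
        refine (h.of_iso e).of_le ?_
        have := le_max_right (m + b) (n + a)
        push_cast at hjn
        lia
      have h3 : IsNPC P' (max (m + b) (n + a)) (u.mapTriangle.obj T).obj₃ := by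
        refine (ih F' (fun i hi => ?_) (by push_cast at hjn; lia) (fun i hi => ?_)).of_iso
          (u.mapIso e₃.symm)
        · by_cases h : i = t
          · subst h; exact hF't
          · obtain ⟨e⟩ := hiso i h
            exact (hz' i (by lia)).of_iso e.symm
        · by_cases h : i = t
          · subst h; exact P.prop_of_isZero hF't
          · obtain ⟨e⟩ := hiso i h
            exact (P.prop_iff_of_iso e).1 (hP i hi)
      exact (isNPC_obj₂ hsum' hqs' hql' _ hT' h1 h3).of_iso (u.mapIso e₂)
  by_cases hmn : m - 1 ≤ n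
  · refine key (n - (m - 1)).toNat E (fun i hi => hz i ?_) ?_ hP
    · rw [Int.toNat_of_nonneg (by lia)] at hi
      lia
    · rw [Int.toNat_of_nonneg (by lia)]
      lia
  · refine (isNPC_of_acyclic (P := P') (n := m + b) (fun i hi => ?_)).of_le (le_max_left _ _)
    refine isZero_homology_map_of_bound u b hii (Q.obj E) n (fun k hk => ?_) i (by lia)
    have h1 : IsZero (E.homology k) := ShortComplex.isZero_homology_of_isZero_X₂ _ (hz k hk)
    exact h1.of_iso (homologyQIso E k)

end Groth.Agent.Lib.Helper13.PC
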