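import Groth.Agent.Lib.Helper2.DerTrunc
import Groth.Agent.Lib.Helper12.DerivedLinear
import Groth.Agent.Lib.Helper13.PCFunctor
import Groth.Prelude.Def_DTen

/-!
# Objects of `D(A)` killed by a maximal ideal with no negative self-extensions are concentrated
in a single degree
-/

set_option autoImplicit false
set_option maxHeartbeats 800000
set_option linter.style.haveILetI false
universe w v u
open CategoryTheory CategoryTheory.Limits

namespace Groth.Agent.Lib.Helper13.IE

open DerivedCategory Groth.Agent.Lib.Helper2.DerTrunc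

section Mod

variable {A : Type u} [CommRing A]

/-- Two nonzero modules killed by a maximal ideal admit a nonzero linear map between them. -/
lemma exists_ne_zero_linearMap (m : Ideal A) [m.IsMaximal] (M N : Type u) [AddCommGroup M]
    [Module A M] [AddCommGroup N] [Module A N] (hM : ∀ x ∈ m, ∀ y : M, x • y = 0)
    (hN : ∀ x ∈ m, ∀ y : N, x • y = 0) [Nontrivial M] [Nontrivial N] :
    ∃ φ : M →ₗ[A] N, φ ≠ 0 := by
  letI : Field (A ⧸ m) := Ideal.Quotient.field m
  have tM : Module.IsTorsionBySet A M m := fun y x => hM x.1 x.2 y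
  have tN : Module.IsTorsionBySet A N m := fun y x => hN x.1 x.2 y
  letI := tM.module
  letI := tN.module
  haveI : IsScalarTower A (A ⧸ m) M := tM.isScalarTower
  haveI : IsScalarTower A (A ⧸ m) N := tN.isScalarTower
  obtain ⟨x₀, hx₀⟩ := exists_ne (0 : M)
  obtain ⟨v, hv⟩ := exists_ne (0 : N)
  obtain ⟨f, hf⟩ : ∃ f : M →ₗ[A ⧸ m] (A ⧸ m), f x₀ ≠ 0 := by
    by_contra hcon
    push Not at hcon
    exact hx₀ ((Module.forall_dual_apply_eq_zero_iff (A ⧸ m) x₀).1 hcon)
  refine ⟨((LinearMap.toSpanSingleton (A ⧸ m) N v).comp f).restrictScalars A, fun h0 => ?_⟩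
  have h1 := LinearMap.congr_fun h0 x₀
  have h2 : f x₀ • v = 0 := h1
  rcases smul_eq_zero.1 h2 with h | h
  exacts [hf h, hv h]

end Mod

section Gen

variable {C : Type u} [Category.{v} C] [Abelian C] [HasDerivedCategory.{w} C]

/-- If `e` has cohomology in `[a, b]` and there is a nonzero map `H^b(e) ⟶ H^a(e)`, then there is
a nonzero map `e ⟶ e⟦a - b⟧`. -/
theorem exists_hom_shift_ne_zero (e : DerivedCategory C) (a b : ℤ)
    (hGE : ∀ i : ℤ, i < a → IsZero ((homologyFunctor C i).obj e))
    (hLE : ∀ i : ℤ, b < i → IsZero ((homologyFunctor C i).obj e))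
    (φ₀ : (homologyFunctor C b).obj e ⟶ (homologyFunctor C a).obj e) (hφ : φ₀ ≠ 0) :
    ∃ ψ : e ⟶ e⟦a - b⟧, ψ ≠ 0 := by
  let Tb := (tt.truncGE b).obj e
  let π : e ⟶ Tb := (tt.truncGEπ b).app e
  let Ta := (tt.truncLT (a + 1)).obj e
  let ι : Ta ⟶ e := (tt.truncLTι (a + 1)).app e
  have hπ : IsIso ((homologyFunctor C b).map π) := isIso_homology_truncGEπ e b b le_rfl
  have hι : IsIso ((homologyFunctor C a).map ι) := isIso_homology_truncLTι e (a + 1) a (by omega)
  haveI : Tb.IsGE b := by
    rw [DerivedCategory.isGE_iff]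
    intro i hi
    exact isZero_homology_truncGE e b i hi
  haveI : Tb.IsLE b := by
    rw [DerivedCategory.isLE_iff]
    intro i hi
    have := isIso_homology_truncGEπ e b i (by omega)
    exact (hLE i hi).of_iso (asIso ((homologyFunctor C i).map π)).symm
  have hTa : ∀ j : ℤ, j ≠ a → IsZero ((homologyFunctor C j).obj Ta) := by
    intro j hj
    rcases lt_or_gt_of_ne hj with h | h
    · have := isIso_homology_truncLTι e (a + 1) j (by omega)
      exact (hGE j h).of_iso (asIso ((homologyFunctor C j).map ι))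
    · exact isZero_homology_truncLT e (a + 1) j (by omega)
  let Sa : DerivedCategory C := Ta⟦a - b⟧
  haveI : Sa.IsGE b := by
    rw [DerivedCategory.isGE_iff]
    intro i hi
    exact (hTa (a - b + i) (by omega)).of_iso
      (Groth.Agent.Lib.Helper13.PC.homologyShiftIso Ta (a - b) i (a - b + i) rfl)
  haveI : Sa.IsLE b := by
    rw [DerivedCategory.isLE_iff]
    intro i hi
    exact (hTa (a - b + i) (by omega)).of_iso
      (Groth.Agent.Lib.Helper13.PC.homologyShiftIso Ta (a - b) i (a - b + i) rfl)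
  let σ : (homologyFunctor C b).obj Sa ≅ (homologyFunctor C a).obj Ta :=
    Groth.Agent.Lib.Helper13.PC.homologyShiftIso Ta (a - b) b a (by omega)
  let σ' : (homologyFunctor C b).obj (e⟦a - b⟧) ≅ (homologyFunctor C a).obj e :=
    Groth.Agent.Lib.Helper13.PC.homologyShiftIso e (a - b) b a (by omega)
  obtain ⟨g, hg⟩ := homology_full_of_single b (P := Tb) (Q := Sa)
    (inv ((homologyFunctor C b).map π) ≫ φ₀ ≫ inv ((homologyFunctor C a).map ι) ≫ σ.inv)
  refine ⟨π ≫ g ≫ ι⟦a - b⟧', fun h0 => hφ ?_⟩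
  have h1 := congrArg (fun f => (homologyFunctor C b).map f) h0
  simp only [Functor.map_comp, Functor.map_zero] at h1
  rw [hg] at h1
  have hnat : (homologyFunctor C b).map (ι⟦a - b⟧') ≫ σ'.hom =
      σ.hom ≫ (homologyFunctor C a).map ι :=
    ((DerivedCategory.homologyFunctor C 0).shiftIso (a - b) b a (by omega)).hom.naturality ι
  have h2 := congrArg (fun f => f ≫ σ'.hom) h1
  simp only [Category.assoc, zero_comp] at h2
  rw [hnat] at h2
  simpa using h2

end Gen

section Main

variable {A : Type u} [CommRing A]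

attribute [local instance] HasDerivedCategory.standard

/-- **Single degree.** -/
theorem single_degree (m : Ideal A) [m.IsMaximal] (e : Dual.D A)
    (hm : ∀ x ∈ m, x • 𝟙 e = 0)
    (hneg : ∀ j : ℤ, j < 0 → Subsingleton (e ⟶ e⟦j⟧)) (a b : ℤ)
    (hGE : ∀ i : ℤ, i < a → IsZero ((homologyFunctor (ModuleCat.{u} A) i).obj e))
    (hLE : ∀ i : ℤ, b < i → IsZero ((homologyFunctor (ModuleCat.{u} A) i).obj e))
    (ha : ¬ IsZero ((homologyFunctor (ModuleCat.{u} A) a).obj e))
    (hb : ¬ IsZero ((homologyFunctor (ModuleCat.{u} A) b).obj e)) : a = b := by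
  by_contra hab
  have hab' : a < b := by
    rcases lt_or_gt_of_ne hab with h | h
    · exact h
    · exact absurd (hLE a h) ha
  have kill : ∀ (i : ℤ) (x : A), x ∈ m →
      ∀ y : ((homologyFunctor (ModuleCat.{u} A) i).obj e : ModuleCat.{u} A), x • y = 0 := by
    intro i x hx y
    have h1 := Groth.Agent.Lib.Helper12.DerivedLinear.homologyFunctor_map_smul_id
      (C := ModuleCat.{u} A) (R := A) i e x
    rw [hm x hx, Functor.map_zero] at h1
    have h2 : (x • 𝟙 ((homologyFunctor (ModuleCat.{u} A) i).obj e)).hom y = 0 := by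
      rw [← h1]
      rfl
    rw [ModuleCat.hom_smul, ModuleCat.hom_id] at h2
    exact h2
  haveI : Nontrivial ((homologyFunctor (ModuleCat.{u} A) a).obj e : ModuleCat.{u} A) :=
    not_subsingleton_iff_nontrivial.1 (fun hs => ha (ModuleCat.isZero_of_subsingleton _))
  haveI : Nontrivial ((homologyFunctor (ModuleCat.{u} A) b).obj e : ModuleCat.{u} A) :=
    not_subsingleton_iff_nontrivial.1 (fun hs => hb (ModuleCat.isZero_of_subsingleton _))
  obtain ⟨φ, hφ⟩ := exists_ne_zero_linearMap m
    ((homologyFunctor (ModuleCat.{u} A) b).obj e : ModuleCat.{u} A)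
    ((homologyFunctor (ModuleCat.{u} A) a).obj e : ModuleCat.{u} A) (kill b) (kill a)
  obtain ⟨ψ, hψ⟩ := exists_hom_shift_ne_zero e a b hGE hLE (ModuleCat.ofHom φ) (fun h0 => hφ (by
    have := congrArg ModuleCat.Hom.hom h0
    simpa using this))
  haveI := hneg (a - b) (by omega)
  exact hψ (Subsingleton.elim _ _)

end Main

end Groth.Agent.Lib.Helper13.IE
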