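import Groth.Agent.Lib.Helper13.LDC3
import Groth.Agent.Lib.Helper13.LocFF5
import Groth.Agent.Lib.Helper28.ExtCech
import Groth.Agent.Lib.Helper13.BiDual2
import Groth.Agent.Lib.Helper2.RGTors.Resol
import Mathlib.Algebra.Homology.HomotopyCategory.MappingCocone

/-!
# `Hom•(Č, J)` and the universal property of derived completion
-/

set_option autoImplicit false
set_option maxHeartbeats 400000
set_option linter.style.haveILetI false
universe u
open CategoryTheory CategoryTheory.Limits MonoidalCategory Pretriangulated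
open CochainComplex CochainComplex.HomComplex HomologicalComplex

namespace Groth.Agent.Lib.Helper13.LDC

open DTen Groth.Agent.Lib.Helper13.HT Groth.Agent.Lib.Helper13.SF Groth.Agent.Lib.Helper13.KP
  Groth.Agent.Lib.Helper13.DT Groth.Agent.Lib.Helper13.DV Groth.Agent.Lib.Helper13.DCN
  Groth.Agent.Lib.Helper13.DR Groth.Agent.Lib.Helper13.PC Groth.Agent.Lib.Helper13
  Groth.Agent.Lib.Helper13.Coind Groth.Agent.Lib.Helper13.FC
  Groth.Agent.Lib.Helper2.RGTors Groth.Agent.Lib.Helper2.TorsExt
  Groth.Agent.Lib.Helper7.DerivedComplete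

attribute [local instance] HasDerivedCategory.standard

variable {A : Type u} [CommRing A]

/-- If `f` acts bijectively on all terms of `Y`, it acts bijectively on `Hom•(Y, J)`. -/
lemma fbij_cochain (f : A) (Y J : DRing.Cx A) (h : ∀ p, FBij f (Y.X p)) (n : ℤ) :
    FBij f (Cochain Y J n) := by
  have hv : ∀ (z : Cochain Y J n) (p q : ℤ) (hpq : p + n = q) (x : Y.X p),
      ((f • z).v p q hpq).hom x = (z.v p q hpq).hom (f • x) := by
    intro z p q hpq x
    rw [Cochain.smul_v, map_smul]
    rfl
  constructor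
  · intro z z' hzz'
    dsimp only at hzz'
    refine Cochain.ext _ _ (fun p q hpq => ?_)
    apply ModuleCat.hom_ext
    apply LinearMap.ext
    intro x
    obtain ⟨y, rfl⟩ := (h p).2 x
    change (z.v p q hpq).hom (f • y) = (z'.v p q hpq).hom (f • y)
    rw [← hv, ← hv, hzz']
  · intro w
    let e : ∀ p, Y.X p ≃ₗ[A] Y.X p := fun p =>
      LinearEquiv.ofBijective (f • (LinearMap.id : Y.X p →ₗ[A] Y.X p)) (h p)
    refine ⟨Cochain.mk (fun p q hpq => ModuleCat.ofHom (e p).symm.toLinearMap ≫ w.v p q hpq), ?_⟩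
    dsimp only
    refine Cochain.ext _ _ (fun p q hpq => ?_)
    apply ModuleCat.hom_ext
    apply LinearMap.ext
    intro x
    rw [hv, Cochain.mk_v]
    change (w.v p q hpq).hom ((e p).symm (f • x)) = _
    have : (e p).symm (f • x) = x := by
      have h1 : f • x = e p x := rfl
      rw [h1, LinearEquiv.symm_apply_apply]
    rw [this]

section Cocone

variable {K L : DRing.Cx A} (φ : K ⟶ L)

/-- The short exact sequence `0 → ker → cocone φ → K → 0`. -/
noncomputable def coconeSC : ShortComplex (DRing.Cx A) :=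
  ShortComplex.mk (kernel.ι (mappingCocone.fst φ)) (mappingCocone.fst φ) (kernel.condition _)

lemma coconeSC_exact : (coconeSC φ).Exact :=
  ShortComplex.exact_of_f_is_kernel _ (kernelIsKernel _)

/-- The degreewise splitting of `coconeSC`. -/
noncomputable def coconeSCSplitting (n : ℤ) :
    ((coconeSC φ).map (HomologicalComplex.eval _ _ n)).Splitting :=
  ShortComplex.Splitting.ofExactOfSection _
    ((HomologicalComplex.exact_iff_degreewise_exact _).1 (coconeSC_exact φ) n)
    ((mappingCocone.inl φ).v n n (add_zero n)) (mappingCocone.inl_v_fst_f φ n)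
    (by
      have : Mono (coconeSC φ).f := by unfold coconeSC; infer_instance
      change Mono ((coconeSC φ).f.f n)
      infer_instance)

section KerFacts

variable (n : ℤ)

/-- `ι_n : ker_n ⟶ cocone_n`. -/
noncomputable abbrev kι : (kernel (mappingCocone.fst φ)).X n ⟶ (mappingCocone φ).X n :=
  (kernel.ι (mappingCocone.fst φ)).f n

/-- the retraction. -/
noncomputable def kr : (mappingCocone φ).X n ⟶ (kernel (mappingCocone.fst φ)).X n :=
  (coconeSCSplitting φ n).r

lemma kι_kr : kι φ n ≫ kr φ n = 𝟙 _ := (coconeSCSplitting φ n).f_r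

lemma kr_kι : kr φ n ≫ kι φ n =
    𝟙 _ - (mappingCocone.fst φ).f n ≫ (mappingCocone.inl φ).v n n (add_zero n) := by
  have h : kr φ n ≫ kι φ n +
      (mappingCocone.fst φ).f n ≫ (mappingCocone.inl φ).v n n (add_zero n) = 𝟙 _ :=
    (coconeSCSplitting φ n).id
  rw [← h]; abel

lemma kι_fst : kι φ n ≫ (mappingCocone.fst φ).f n = 0 := by
  unfold kι
  rw [← HomologicalComplex.comp_f, kernel.condition]; rfl

end KerFacts

/-- The kernel of `fst` is `L⟦-1⟧` termwise. -/
noncomputable def kerXIso (n m : ℤ) (h : n + -1 = m) :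
    (kernel (mappingCocone.fst φ)).X n ≅ L.X m where
  hom := kι φ n ≫ (mappingCocone.snd φ).v n m h
  inv := (mappingCocone.inr φ).1.v m n (by omega) ≫ kr φ n
  hom_inv_id := by
    have h1 := mappingCocone.id_X φ n m h
    have h4 : (mappingCocone.snd φ).v n m h ≫ (mappingCocone.inr φ).1.v m n (by omega) =
        𝟙 _ - (mappingCocone.fst φ).f n ≫ (mappingCocone.inl φ).v n n (add_zero n) := by
      rw [← h1]; abel
    calc (kι φ n ≫ (mappingCocone.snd φ).v n m h) ≫
          (mappingCocone.inr φ).1.v m n (by omega) ≫ kr φ n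
        = kι φ n ≫ ((mappingCocone.snd φ).v n m h ≫
          (mappingCocone.inr φ).1.v m n (by omega)) ≫ kr φ n := by
          simp only [Category.assoc]
      _ = kι φ n ≫ kr φ n - (kι φ n ≫ (mappingCocone.fst φ).f n) ≫
            (mappingCocone.inl φ).v n n (add_zero n) ≫ kr φ n := by
          rw [h4, Preadditive.sub_comp, Preadditive.comp_sub, Category.id_comp]
          simp only [Category.assoc]
      _ = 𝟙 _ := by rw [kι_kr, kι_fst, zero_comp, sub_zero]
  inv_hom_id := by
    calc ((mappingCocone.inr φ).1.v m n (by omega) ≫ kr φ n) ≫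
          kι φ n ≫ (mappingCocone.snd φ).v n m h
        = (mappingCocone.inr φ).1.v m n (by omega) ≫ (kr φ n ≫ kι φ n) ≫
          (mappingCocone.snd φ).v n m h := by simp only [Category.assoc]
      _ = (mappingCocone.inr φ).1.v m n (by omega) ≫ (mappingCocone.snd φ).v n m h -
          (mappingCocone.inr φ).1.v m n (by omega) ≫ (mappingCocone.fst φ).f n ≫
            ((mappingCocone.inl φ).v n n (add_zero n) ≫ (mappingCocone.snd φ).v n m h) := by
          rw [kr_kι, Preadditive.sub_comp, Preadditive.comp_sub, Category.id_comp]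
          simp only [Category.assoc]
      _ = 𝟙 _ := by
          rw [mappingCocone.inl_v_snd_v, comp_zero, comp_zero, sub_zero,
            mappingCocone.inr_v_snd_v]

lemma fbij_kernel (f : A) (h : ∀ p, FBij f (L.X p)) (n : ℤ) :
    FBij f ((kernel (mappingCocone.fst φ)).X n) :=
  FBij.of_linearEquiv f (kerXIso φ n (n + -1) rfl).symm.toLinearEquiv (h _)

/-- **One step**: precomposition with `Hom•(K, J) ⟶ Hom•(cocone φ, J)` is bijective on maps into
objects with `HomVanish f`, when `f` acts bijectively on the terms of `L`. -/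
theorem step_bijective_cocone (f : A) (h : ∀ p, FBij f (L.X p)) (J : DRing.Cx A)
    (E : Dual.D A) (hE : HomVanish f E) :
    Function.Bijective (fun ψ : DerivedCategory.Q.obj (DRing.homCx (mappingCocone φ) J) ⟶ E =>
      DerivedCategory.Q.map (preMap (mappingCocone.fst φ) J) ≫ ψ) := by
  have hSE := shortExact_homShortComplex (coconeSC φ) (coconeSCSplitting φ) J
  have hT := DerivedCategory.triangleOfSES_distinguished hSE
  have hB : BijD f (DerivedCategory.Q.obj (homShortComplex (coconeSC φ) J).X₃) :=
    BijD_of_termwise _ (fun j => fbij_cochain f _ J (fbij_kernel φ f h) j)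
  have h1 : Subsingleton ((DerivedCategory.triangleOfSES hSE).invRotate.obj₁ ⟶ E) :=
    subsingleton_hom_of_BijD_of_HomVanish (hB.shift (-1)) hE
  have h2 : Subsingleton
      ((DerivedCategory.triangleOfSES hSE).invRotate.obj₁⟦(1 : ℤ)⟧ ⟶ E) :=
    subsingleton_hom_of_BijD_of_HomVanish ((hB.shift (-1)).shift 1) hE
  exact bijective_precomp_of_distTriang _ (inv_rot_of_distTriang _ hT) E h1 h2

end Cocone

section Aug

/-- The augmentation `Č(M; fs) ⟶ M[0]`. -/
noncomputable def aug (M : ModuleCat.{u} A) : ∀ fs : List A,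
    DerCA.extCech M fs ⟶
      (HomologicalComplex.single (ModuleCat.{u} A) (ComplexShape.up ℤ) 0).obj M
  | [] => 𝟙 _
  | f :: fs =>
    mappingCocone.fst (DerCA.locCxUnit (Submonoid.powers f) (DerCA.extCech M fs)) ≫ aug M fs

lemma fbij_locCx (f : A) (K : DRing.Cx A) (p : ℤ) :
    FBij f (((DerCA.locCx (Submonoid.powers f)).obj K).X p) := by
  change FBij f (LocalizedModule (Submonoid.powers f) (K.X p))
  have hu := IsLocalizedModule.map_units (LocalizedModule.mkLinearMap (Submonoid.powers f) (K.X p))
    (⟨f, Submonoid.mem_powers f⟩ : Submonoid.powers f)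
  exact (Module.End.isUnit_iff _).1 hu

/-- Precomposition with `Hom•(M[0], J) ⟶ Hom•(Č(M; fs), J)` is bijective on maps into objects
that are derived complete along all elements of `fs`. -/
theorem bijective_precomp_aug (M : ModuleCat.{u} A) (J : DRing.Cx A) :
    ∀ (fs : List A) (E : Dual.D A), (∀ g ∈ fs, HomVanish g E) →
      Function.Bijective
        (fun ψ : DerivedCategory.Q.obj (DRing.homCx (DerCA.extCech M fs) J) ⟶ E =>
          DerivedCategory.Q.map (preMap (aug M fs) J) ≫ ψ)
  | [], E, _ => by
    have : (fun ψ : DerivedCategory.Q.obj (DRing.homCx (DerCA.extCech M []) J) ⟶ E =>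
        DerivedCategory.Q.map (preMap (aug M []) J) ≫ ψ) = id := by
      funext ψ
      change DerivedCategory.Q.map (preMap (𝟙 _) J) ≫ ψ = ψ
      rw [preMap_id, CategoryTheory.Functor.map_id, Category.id_comp]
    rw [this]; exact Function.bijective_id
  | f :: fs, E, hE => by
    have h1 := bijective_precomp_aug M J fs E (fun g hg => hE g (List.mem_cons_of_mem _ hg))
    have h2 := step_bijective_cocone
      (DerCA.locCxUnit (Submonoid.powers f) (DerCA.extCech M fs)) f (fbij_locCx f _) J E
      (hE f List.mem_cons_self)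
    have : (fun ψ : DerivedCategory.Q.obj (DRing.homCx (DerCA.extCech M (f :: fs)) J) ⟶ E =>
        DerivedCategory.Q.map (preMap (aug M (f :: fs)) J) ≫ ψ) =
        (fun ψ : DerivedCategory.Q.obj (DRing.homCx (DerCA.extCech M fs) J) ⟶ E =>
          DerivedCategory.Q.map (preMap (aug M fs) J) ≫ ψ) ∘
        (fun ψ : DerivedCategory.Q.obj (DRing.homCx (mappingCocone
            (DerCA.locCxUnit (Submonoid.powers f) (DerCA.extCech M fs))) J) ⟶ E =>
          DerivedCategory.Q.map (preMap (mappingCocone.fst
            (DerCA.locCxUnit (Submonoid.powers f) (DerCA.extCech M fs))) J) ≫ ψ) := by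
      funext ψ
      change DerivedCategory.Q.map (preMap (mappingCocone.fst
        (DerCA.locCxUnit (Submonoid.powers f) (DerCA.extCech M fs)) ≫ aug M fs) J) ≫ ψ = _
      rw [preMap_comp, CategoryTheory.Functor.map_comp, Category.assoc]
      rfl
    rw [this]; exact h1.comp h2

end Aug

section UnitIso

/-- `J ≅ Hom•(𝟙, J)`. -/
noncomputable def homCxUnitIso (J : DRing.Cx A) : J ≅ DRing.homCx (𝟙_ (DRing.Cx A)) J where
  hom := curryHom (ρ_ J).hom
  inv := (ρ_ (DRing.homCx (𝟙_ (DRing.Cx A)) J)).inv ≫ evCx (𝟙_ (DRing.Cx A)) J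
  hom_inv_id := by
    rw [← Category.assoc, rightUnitor_inv_naturality, Category.assoc, whiskerRight_evCx,
      uncurryHom_curryHom, Iso.inv_hom_id]
  inv_hom_id := by
    apply uncurryHom_injective
    rw [uncurryHom_comp, uncurryHom_curryHom, rightUnitor_naturality, Iso.hom_inv_id_assoc]
    rfl

end UnitIso

section Complete

/-- `Hom•(P, J)` is `f`-adically derived complete when `P` is K-projective with `f`-power torsion
cohomology and `J` is K-injective. -/
theorem homVanish_homCx (P J : DRing.Cx A) [P.IsKProjective] [J.IsKInjective] (f : A)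
    (hP : ∀ i : ℤ, FTors f (P.homology i)) :
    HomVanish f (DerivedCategory.Q.obj (DRing.homCx P J)) := by
  intro n
  have h1 := subsingleton_hom_single_away P J f hP n
  let M := ModuleCat.of A (Localization.Away f)
  let e1 : ((DerivedCategory.singleFunctor (ModuleCat.{u} A) 0).obj M)⟦-n⟧ ≅
      DerivedCategory.Q.obj
        ((HomologicalComplex.single (ModuleCat.{u} A) (ComplexShape.up ℤ) n).obj M) :=
    ((DerivedCategory.singleFunctors (ModuleCat.{u} A)).shiftIso (-n) n 0 (by omega)).app M ≪≫
      (DerivedCategory.singleFunctorIsoCompQ (ModuleCat.{u} A) n).app M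
  have h2 : Subsingleton (((DerivedCategory.singleFunctor (ModuleCat.{u} A) 0).obj M)⟦-n⟧ ⟶
      DerivedCategory.Q.obj (DRing.homCx P J)) :=
    (Iso.homCongr e1 (Iso.refl _)).subsingleton_congr.2 h1
  exact ((shiftEquiv (Dual.D A) n).symm.toAdjunction.homEquiv _ _).subsingleton_congr.1 h2

/-- `Hom•(Č(M; fs), J)` is derived complete along every element of `fs`. -/
theorem homVanish_homCx_extCech (M : ModuleCat.{u} A) (fs : List A) (J : DRing.Cx A)
    [J.IsKInjective] (f : A) (hf : f ∈ fs) :
    HomVanish f (DerivedCategory.Q.obj (DRing.homCx (DerCA.extCech M fs) J)) := by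
  have hq := HOp.quasiIso_preMap_of_isKInjective (resMap (DerCA.extCech M fs)) J
  have hiso : IsIso (DerivedCategory.Q.map (preMap (resMap (DerCA.extCech M fs)) J)) := by
    rw [DerivedCategory.isIso_Q_map_iff_quasiIso]; exact hq
  refine HomVanish.of_iso (asIso (DerivedCategory.Q.map
    (preMap (resMap (DerCA.extCech M fs)) J))).symm ?_
  apply homVanish_homCx
  intro i
  have e : (res (DerCA.extCech M fs)).homology i ≅ (DerCA.extCech M fs).homology i :=
    asIso (HomologicalComplex.homologyMap (resMap (DerCA.extCech M fs)) i)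
  exact FTors.of_linearEquiv f e.symm.toLinearEquiv
    (Groth.Agent.Lib.Helper28.ExtCech.powTors_extCechH M fs f hf i)

end Complete

/-- **Derived completion is `RHom(Č, -)`**. -/
theorem nonempty_derivedCompletion_iso_RHomCx_extCech (fs : List A) (I : Ideal A)
    (hI : Ideal.span {x : A | x ∈ fs} = I) [DRing.HasDerivedCompletion I]
    [DRing.HasRHomCx (DerCA.extCech (ModuleCat.of A A) fs)] (K : Dual.D A) :
    Nonempty (((DRing.derivedCompletion I).obj K).obj ≅
      (DRing.RHomCx (DerCA.extCech (ModuleCat.of A A) fs)).obj K) := by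
  classical
  obtain ⟨J, hJ, eJ, -⟩ := exists_res K
  obtain ⟨e1⟩ := BD.nonempty_RHomCx_iso_of_isKInjective (DerCA.extCech (ModuleCat.of A A) fs) J
  have hs : Ideal.span ((fs.toFinset : Finset A) : Set A) = I := by
    rw [← hI]; congr 1; ext x; simp
  have key := isDerivedComplete_iff_of_span I fs.toFinset hs
  let C : Dual.D A := DerivedCategory.Q.obj (DRing.homCx (DerCA.extCech (ModuleCat.of A A) fs) J)
  let κ : J ≅ DRing.homCx
      ((HomologicalComplex.single (ModuleCat.{u} A) (ComplexShape.up ℤ) 0).obj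
        (ModuleCat.of A A)) J := homCxUnitIso J
  let u : K ⟶ C := eJ.hom ≫ DerivedCategory.Q.map κ.hom ≫
    DerivedCategory.Q.map (preMap (aug (ModuleCat.of A A) fs) J)
  have hC : DRing.IsDerivedComplete I C := by
    rw [key]
    intro f hf
    exact homVanish_homCx_extCech _ fs J f (List.mem_toFinset.1 (Finset.mem_toList.1 hf))
  have huniv : ∀ C₀ : Dual.D A, DRing.IsDerivedComplete I C₀ →
      Function.Bijective (fun g : C ⟶ C₀ => u ≫ g) := by
    intro C₀ h0
    have hb := bijective_precomp_aug (ModuleCat.of A A) J fs C₀ (fun g hg =>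
      (key C₀).1 h0 g (Finset.mem_toList.2 (List.mem_toFinset.2 hg)))
    have hb2 : Function.Bijective (fun g : DerivedCategory.Q.obj (DRing.homCx
        ((HomologicalComplex.single (ModuleCat.{u} A) (ComplexShape.up ℤ) 0).obj
          (ModuleCat.of A A)) J) ⟶ C₀ => (eJ ≪≫ DerivedCategory.Q.mapIso κ).hom ≫ g) :=
      ⟨fun α α' h => (cancel_epi (eJ ≪≫ DerivedCategory.Q.mapIso κ).hom).1 h,
        fun γ => ⟨(eJ ≪≫ DerivedCategory.Q.mapIso κ).inv ≫ γ, by simp⟩⟩
    have : (fun g : C ⟶ C₀ => u ≫ g) =
        (fun g => (eJ ≪≫ DerivedCategory.Q.mapIso κ).hom ≫ g) ∘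
        (fun ψ : C ⟶ C₀ =>
          DerivedCategory.Q.map (preMap (aug (ModuleCat.of A A) fs) J) ≫ ψ) := by
      funext g
      simp only [u, Function.comp, Iso.trans_hom, Functor.mapIso_hom, Category.assoc]
    rw [this]
    exact hb2.comp hb
  obtain ⟨e2⟩ := nonempty_iso_derivedCompletion I K C u hC huniv
  exact ⟨e2.symm ≪≫ e1.symm ≪≫
    (DRing.RHomCx (DerCA.extCech (ModuleCat.of A A) fs)).mapIso eJ.symm⟩

end Groth.Agent.Lib.Helper13.LDC
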