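import Groth.Agent.Lib.Helper13.LTensorCxV
import Groth.Agent.Lib.Helper28.TensorCxComp
import Groth.Prelude.Def_DualSh

set_option autoImplicit false
universe u
open CategoryTheory CategoryTheory.Limits MonoidalCategory

namespace Groth.Agent.Lib.Helper13.DV

open DTen Groth.Agent.Lib.Helper13.DR Groth.Agent.Lib.Helper13.HT Groth.Agent.Lib.Helper13.PC

attribute [local instance] HasDerivedCategory.standard

section DS

variable {A : Type u} [CommRing A]

open DirectSum in
/-- A direct sum of finite modules, all but finitely many of which vanish, is finite. -/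
lemma finite_directSum_of_finite_support {ι : Type*} [DecidableEq ι] (M : ι → Type u)
    [∀ i, AddCommGroup (M i)] [∀ i, Module A (M i)] (S : Finset ι)
    (hS : ∀ i, i ∉ S → Subsingleton (M i)) [∀ i, Module.Finite A (M i)] :
    Module.Finite A (⨁ i, M i) := by
  classical
  let g : (∀ i : S, M i) →ₗ[A] ⨁ i, M i :=
    ∑ i : S, (DirectSum.lof A ι M i) ∘ₗ (LinearMap.proj i)
  refine Module.Finite.of_surjective g ?_
  intro x
  induction x using DirectSum.induction_on with
  | zero => exact ⟨0, map_zero _⟩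
  | of i m =>
    by_cases hi : i ∈ S
    · refine ⟨Pi.single (⟨i, hi⟩ : S) m, ?_⟩
      simp only [g, LinearMap.sum_apply, LinearMap.comp_apply, LinearMap.proj_apply]
      rw [Finset.sum_eq_single (⟨i, hi⟩ : S)]
      · simp
        rfl
      · intro j _ hj
        rw [Pi.single_eq_of_ne hj, map_zero]
      · intro h
        exact absurd (Finset.mem_univ _) h
    · have := hS i hi
      rw [Subsingleton.elim m 0]
      exact ⟨0, by simp⟩
  | add x y hx hy =>
    obtain ⟨a, rfl⟩ := hx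
    obtain ⟨b, rfl⟩ := hy
    exact ⟨a + b, map_add _ _ _⟩

end DS

section Terms

variable {A : Type u} [CommRing A] (K L : DRing.Cx A)

open Groth.Agent.Lib.Helper28.TensorCx

/-- The linear equivalence of `(K ⊗ L)^n` with the direct sum of the `K^p ⊗ L^q`, `p + q = n`. -/
noncomputable def tensorXEquiv (n : ℤ) :
    (K ⊗ L).X n ≃ₗ[A] DirectSum (Idx n) (fun i => TensorProduct A (K.X i.1.1) (L.X i.1.2)) :=
  (dsIso K L n).toLinearEquiv

lemma free_tensor_X (hK : ∀ p, Module.Free A (K.X p)) (hL : ∀ q, Module.Free A (L.X q)) (n : ℤ) :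
    Module.Free A ((K ⊗ L).X n) := by
  have : ∀ i : Idx n, Module.Free A (TensorProduct A (K.X i.1.1) (L.X i.1.2)) := fun i => by
    have := hK i.1.1
    have := hL i.1.2
    infer_instance
  exact Module.Free.of_equiv (tensorXEquiv K L n).symm

lemma projective_tensor_X (hK : ∀ p, Module.Projective A (K.X p))
    (hL : ∀ q, Module.Projective A (L.X q)) (n : ℤ) :
    Module.Projective A ((K ⊗ L).X n) := by
  have : ∀ i : Idx n, Module.Projective A (TensorProduct A (K.X i.1.1) (L.X i.1.2)) := fun i => by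
    have := hK i.1.1
    have := hL i.1.2
    infer_instance
  have h : Module.Projective A (Π₀ i : Idx n, TensorProduct A (K.X i.1.1) (L.X i.1.2)) :=
    inferInstance
  exact Module.Projective.of_equiv (tensorXEquiv K L n).symm

lemma finite_tensor_X (b b' : ℤ) (hKb : ∀ p : ℤ, b < p → IsZero (K.X p))
    (hLb : ∀ q : ℤ, b' < q → IsZero (L.X q)) (hK : ∀ p, Module.Finite A (K.X p))
    (hL : ∀ q, Module.Finite A (L.X q)) (n : ℤ) : Module.Finite A ((K ⊗ L).X n) := by
  classical
  have : ∀ i : Idx n, Module.Finite A (TensorProduct A (K.X i.1.1) (L.X i.1.2)) := fun i => by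
    have := hK i.1.1
    have := hL i.1.2
    infer_instance
  let S : Finset (Idx n) := (Finset.Icc (n - b') b).image
    (fun p => idx n p (n - p) (by ring))
  have hS : ∀ i : Idx n, i ∉ S → Subsingleton (TensorProduct A (K.X i.1.1) (L.X i.1.2)) := by
    rintro ⟨⟨p, q⟩, hpq⟩ hi
    have hpq' : p + q = n := hpq
    have hp : ¬ (n - b' ≤ p ∧ p ≤ b) := by
      intro hp
      apply hi
      rw [Finset.mem_image]
      refine ⟨p, Finset.mem_Icc.2 hp, ?_⟩
      apply Subtype.ext
      show (p, n - p) = (p, q)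
      rw [show n - p = q by lia]
    by_cases h1 : b < p
    · have := ModuleCat.subsingleton_of_isZero (hKb p h1)
      infer_instance
    · have := ModuleCat.subsingleton_of_isZero (hLb q (by lia))
      infer_instance
  have := finite_directSum_of_finite_support (A := A)
    (fun i : Idx n => TensorProduct A (K.X i.1.1) (L.X i.1.2)) S hS
  exact Module.Finite.equiv (tensorXEquiv K L n).symm

end Terms

section Main

variable {R : Type u} [CommRing R]

lemma kflat_of_vanishesAbove_of_finiteFree (E : DRing.Cx R) (b : ℤ) (hv : DRing.VanishesAbove E b)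
    (hf : DRing.TermwiseFiniteFree E) : KFlat E :=
  Groth.Agent.S6901.result R E b hv (fun i => by
    have := (hf i).2
    infer_instance)

lemma kflat_of_vanishesAbove_of_finiteProjective (E : DRing.Cx R) (b : ℤ)
    (hv : DRing.VanishesAbove E b) (hf : DRing.TermwiseFiniteProjective E) : KFlat E :=
  Groth.Agent.S6901.result R E b hv (fun i => by
    have := (hf i).2
    infer_instance)

theorem isPseudoCoherent'_LTensorCx (K : Dual.D R) (hK : DRing.IsPseudoCoherent' R K)
    (L : DRing.Cx R) (hL : DRing.IsPseudoCoherent' R (DRing.toD L)) [DRing.HasLTensorCx R L] :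
    DRing.IsPseudoCoherent' R ((DRing.LTensorCx R L).obj K) := by
  obtain ⟨E₁, b₁, hv₁, hf₁, ⟨e₁⟩⟩ := hK
  obtain ⟨E₂, b₂, hv₂, hf₂, ⟨e₂⟩⟩ := hL
  have hE₁ := kflat_of_vanishesAbove_of_finiteFree E₁ b₁ hv₁ hf₁
  obtain ⟨i₁⟩ := nonempty_LTensorCx_iso_of_kflat L E₁ hE₁
  obtain ⟨i₂⟩ := nonempty_iso_Q_tensor_of_iso_right E₁ hE₁ L E₂ e₂.symm
  refine ⟨E₁ ⊗ E₂, b₁ + b₂, ?_, ?_, ⟨i₂.symm ≪≫ i₁.symm ≪≫ (DRing.LTensorCx R L).mapIso e₁⟩⟩
  · intro i hi
    refine isZero_tensor_X E₁ E₂ i (fun p q hpq => ?_)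
    by_cases hp : b₁ < p
    · exact Or.inl (hv₁ p hp)
    · exact Or.inr (hv₂ q (by lia))
  · intro i
    exact ⟨finite_tensor_X E₁ E₂ b₁ b₂ hv₁ hv₂ (fun p => (hf₁ p).1) (fun q => (hf₂ q).1) i,
      free_tensor_X E₁ E₂ (fun p => (hf₁ p).2) (fun q => (hf₂ q).2) i⟩

theorem isPerfect_LTensorCx (K : Dual.D R) (hK : DRing.IsPerfect R K)
    (L : DRing.Cx R) (hL : DRing.IsPerfect R (DRing.toD L)) [DRing.HasLTensorCx R L] :
    DRing.IsPerfect R ((DRing.LTensorCx R L).obj K) := by
  obtain ⟨E₁, a₁, b₁, hv₁, hf₁, ⟨e₁⟩⟩ := hK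
  obtain ⟨E₂, a₂, b₂, hv₂, hf₂, ⟨e₂⟩⟩ := hL
  have hE₁ := kflat_of_vanishesAbove_of_finiteProjective E₁ b₁ (fun i hi => hv₁ i (Or.inr hi)) hf₁
  obtain ⟨i₁⟩ := nonempty_LTensorCx_iso_of_kflat L E₁ hE₁
  obtain ⟨i₂⟩ := nonempty_iso_Q_tensor_of_iso_right E₁ hE₁ L E₂ e₂.symm
  refine ⟨E₁ ⊗ E₂, a₁ + a₂, b₁ + b₂, ?_, ?_,
    ⟨i₂.symm ≪≫ i₁.symm ≪≫ (DRing.LTensorCx R L).mapIso e₁⟩⟩
  · intro i hi
    refine isZero_tensor_X E₁ E₂ i (fun p q hpq => ?_)
    by_cases hp : p < a₁ ∨ b₁ < p
    · exact Or.inl (hv₁ p hp)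
    · exact Or.inr (hv₂ q (by lia))
  · intro i
    exact ⟨finite_tensor_X E₁ E₂ b₁ b₂ (fun p hp => hv₁ p (Or.inr hp))
        (fun q hq => hv₂ q (Or.inr hq)) (fun p => (hf₁ p).1) (fun q => (hf₂ q).1) i,
      projective_tensor_X E₁ E₂ (fun p => (hf₁ p).2) (fun q => (hf₂ q).2) i⟩

end Main

section Rel

variable (R A : Type u) [CommRing R] [CommRing A] [Algebra R A]

theorem isRelPerfect_LTensorCx (E : DRing.Cx A) (a b : ℤ)
    (hEb : DRing.VanishesOutside E a b) (hEp : DRing.TermwiseFiniteProjective E)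
    [DRing.HasLTensorCx A E]
    (M : Dual.D A) (hM : Dual2.IsRelPerfect R A M) :
    Dual2.IsRelPerfect R A ((DRing.LTensorCx A E).obj M) := by
  obtain ⟨hpc, c, d, htor⟩ := hM
  obtain ⟨EM, bM, hvM, hfM, ⟨eM⟩⟩ := hpc
  have hEM := kflat_of_vanishesAbove_of_finiteFree EM bM hvM hfM
  obtain ⟨i₁⟩ := nonempty_LTensorCx_iso_of_kflat E EM hEM
  let e : DerivedCategory.Q.obj (EM ⊗ E) ≅ (DRing.LTensorCx A E).obj M :=
    i₁.symm ≪≫ (DRing.LTensorCx A E).mapIso eM
  constructor
  · rw [isPseudoCoherent'_iff]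
    intro n
    refine (isNPC_Pfp_iff_Pff n _).1 ⟨EM ⊗ E, ⟨⟨bM + b, fun i hi => ?_⟩, fun i _ => ?_⟩, ⟨e⟩⟩
    · refine isZero_tensor_X EM E i (fun p q hpq => ?_)
      by_cases hp : bM < p
      · exact Or.inl (hvM p hp)
      · exact Or.inr (hEb q (Or.inr (by lia)))
    · exact ⟨finite_tensor_X EM E bM b hvM (fun q hq => hEb q (Or.inr hq))
          (fun p => (hfM p).1) (fun q => (hEp q).1) i,
        projective_tensor_X EM E (fun p => by have := (hfM p).2; infer_instance)
          (fun q => (hEp q).2) i⟩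
  · have hL : DRing.HasTorAmplitudeIn R c d
        (DerivedCategory.Q.obj ((resCx (algebraMap R A)).obj EM)) :=
      hasTorAmplitudeIn_of_iso ((DRing.restrictD (algebraMap R A)).mapIso eM.symm ≪≫
        restrictDQIso (algebraMap R A) EM) htor
    have h := hasTorAmplitudeIn_res_tensor (algebraMap R A) E EM a b c d hEb
      (fun i => by have := (hEp i).2; infer_instance) hL
    refine ⟨a + c, b + d, hasTorAmplitudeIn_of_iso ?_ h⟩
    exact DerivedCategory.Q.mapIso ((resCx (algebraMap R A)).mapIso (DTen.braidCx E EM)) ≪≫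
      (restrictDQIso (algebraMap R A) (EM ⊗ E)).symm ≪≫
      (DRing.restrictD (algebraMap R A)).mapIso e

end Rel

end Groth.Agent.Lib.Helper13.DV
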