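import Groth.Agent.Lib.Helper13.HomDual2
import Groth.Agent.Lib.Helper13.TensorTerms
import Groth.Agent.Lib.Helper13.WayOut3
import Groth.Agent.Lib.Helper13.LDC5
import Groth.Agent.Lib.Helper13.DTenDev5
import Mathlib.Algebra.Homology.DerivedCategory.KProjective
import Mathlib.Algebra.Homology.DerivedCategory.Linear
import Mathlib.Algebra.Homology.DerivedCategory.FullyFaithful

/-!
# A perfect object with `End = A` and no self-extensions is invertible
-/

set_option autoImplicit false
set_option maxHeartbeats 800000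
set_option linter.style.haveILetI false
universe u
open CategoryTheory CategoryTheory.Limits MonoidalCategory
open CochainComplex CochainComplex.HomComplex HomologicalComplex

namespace Groth.Agent.Lib.Helper13.IE

open Groth.Agent.Lib.Helper13.BD Groth.Agent.Lib.Helper13.DR Groth.Agent.Lib.Helper13.PC
  Groth.Agent.Lib.Helper13.HT Groth.Agent.Lib.Helper13.HDual Groth.Agent.Lib.Helper13.KP
  Groth.Agent.Lib.Helper13.DV Groth.Agent.Lib.Helper13.LDC
open DerivedCategory

attribute [local instance] HasDerivedCategory.standard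

variable {A : Type u} [CommRing A]

/-- For `X` K-projective, `H^i(Hom•(X, L)) = 0` as soon as `Hom_D(X, L⟦i⟧) = 0`. -/
lemma isZero_homology_homCx_of_subsingleton (X L : DRing.Cx A) [X.IsKProjective] (i : ℤ)
    (h : Subsingleton (Q.obj X ⟶ (Q.obj L)⟦i⟧)) : IsZero ((DRing.homCx X L).homology i) := by
  rw [← HomologicalComplex.exactAt_iff_isZero_homology,
    HT.exactAt_iff_forall _ (i - 1) i (i + 1) (by omega) rfl]
  intro z hz
  let c : Cocycle X L i := Cocycle.mk z (i + 1) rfl hz
  have h0 : CohomologyClass.toHom (CohomologyClass.mk c) = 0 := by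
    apply (CochainComplex.IsKProjective.Qh_map_bijective X _).1
    have hs : Subsingleton (Qh.obj ((HomotopyCategory.quotient _ _).obj X) ⟶
        Qh.obj ((HomotopyCategory.quotient _ _).obj (L⟦i⟧))) :=
      (Equiv.subsingleton_congr (Iso.homCongr ((quotientCompQhIso _).app X)
        ((quotientCompQhIso _).app (L⟦i⟧) ≪≫ (Q.commShiftIso i).app L))).2 h
    exact Subsingleton.elim _ _
  rw [CohomologyClass.toHom_mk_eq_zero_iff, mem_coboundaries_iff c (i - 1) (by omega)] at h0
  exact h0

lemma ofHom_smul {X Y : DRing.Cx A} (c : A) (f : X ⟶ Y) :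
    Cochain.ofHom (c • f) = c • Cochain.ofHom f := by
  refine Cochain.ext _ _ (fun p q hpq => ?_)
  obtain rfl : p = q := by omega
  simp [Cochain.ofHom_v]

lemma uncurryHom_smul {X P L : DRing.Cx A} (c : A) (u : X ⟶ DRing.homCx P L) :
    uncurryHom (c • u) = c • uncurryHom u := by
  apply ofHom_injective
  rw [ofHom_uncurryHom, ofHom_smul, ofHom_smul, ofHom_uncurryHom]
  exact (curryEquiv (K := X) (L := P) (M := L) 0).symm.map_smul c _

lemma perfect_VA : DRing.VanishesOutside (VA A) 0 0 ∧ DRing.TermwiseFiniteProjective (VA A) := by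
  constructor
  · intro i hi
    exact HomologicalComplex.isZero_single_obj_X (ComplexShape.up ℤ) 0 _ i (by omega)
  · intro i
    by_cases hi : i = 0
    · subst hi
      let e : (VA A).X 0 ≃ₗ[A] A :=
        (HomologicalComplex.singleObjXSelf (ComplexShape.up ℤ) 0 (ModuleCat.of A A)).toLinearEquiv
      exact ⟨Module.Finite.equiv e.symm, Module.Projective.of_equiv e.symm⟩
    · have hz := HomologicalComplex.isZero_single_obj_X (ComplexShape.up ℤ) 0 (ModuleCat.of A A) i hi
      have : Subsingleton ((VA A).X i) := ModuleCat.subsingleton_of_isZero hz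
      exact ⟨inferInstance, inferInstance⟩

lemma bijective_smul_id_of_iso {X Y : Dual.D A} (e : X ≅ Y)
    (h : Function.Bijective (fun a : A => a • 𝟙 X)) :
    Function.Bijective (fun a : A => a • 𝟙 Y) := by
  have : (fun c : A => c • 𝟙 Y) = (Iso.homCongr e e) ∘ (fun c : A => c • 𝟙 X) := by
    funext c
    change c • 𝟙 _ = e.inv ≫ (c • 𝟙 X) ≫ e.hom
    rw [Linear.smul_comp, Linear.comp_smul, Category.id_comp, e.inv_hom_id]
  rw [this]
  exact (Iso.homCongr e e).bijective.comp h

lemma bijective_smul_id_inD : Function.Bijective (fun a : A => a • 𝟙 (Dual.inD A A)) := by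
  let F := DerivedCategory.singleFunctor (ModuleCat.{u} A) 0
  have h : ∀ a : A, a • 𝟙 (Dual.inD A A) = F.map (a • 𝟙 (ModuleCat.of A A)) := fun a => by
    rw [F.map_smul, F.map_id]
  constructor
  · intro a b hab
    simp only [h] at hab
    have h1 := F.map_injective hab
    have h2 := congrArg (fun f => f.hom (1 : A)) h1
    simpa using h2
  · intro f
    obtain ⟨g, rfl⟩ := F.map_surjective f
    refine ⟨g.hom (1 : A), ?_⟩
    change g.hom (1 : A) • 𝟙 (Dual.inD A A) = _
    rw [h]
    congr 1
    ext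
    simp

/-- `A[0]` as `Q` of the chain-level unit. -/
noncomputable def inDIsoVA : Dual.inD A A ≅ Q.obj (VA A) :=
  (DerivedCategory.singleFunctorIsoCompQ (ModuleCat.{u} A) 0).app (ModuleCat.of A A)

theorem isInvertible_of_perfect [DTen.HasLTen A] (K : Dual.D A) (hK : DRing.IsPerfect A K)
    (h1 : ∀ i : ℤ, i ≠ 0 → Subsingleton (K ⟶ K⟦i⟧))
    (h2 : Function.Bijective (fun a : A => a • 𝟙 K)) : DTen.IsInvertible A K := by
  obtain ⟨P₀, a, b, hv, hfp, ⟨e⟩⟩ := hK
  set X : DRing.Cx A := DRing.homCx P₀ (VA A) with hXdef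
  have hXv := vanishesOutside_dual P₀ a b hv
  have hXf := termwiseFiniteProjective_dual P₀ hfp
  set D : DRing.Cx A := DRing.homCx X (VA A) with hDdef
  have hDv := vanishesOutside_dual X (-b) (-a) hXv
  have hDf := termwiseFiniteProjective_dual X hXf
  haveI hXK : X.IsKProjective := isKProjective_of_perfect X _ _ hXv hXf
  haveI hDK : D.IsKProjective := isKProjective_of_perfect D _ _ hDv hDf
  haveI hTK : CochainComplex.IsKProjective (D ⊗ X) := isKProjective_tensor D X
  haveI hVK : (VA A).IsKProjective := DV.isKProjective_unit (A := A)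
  haveI := isIso_bid P₀ hfp
  let eD : Q.obj D ≅ K := (Q.mapIso (asIso (bid P₀ (VA A)))).symm ≪≫ e
  have h1D : ∀ i : ℤ, i ≠ 0 → Subsingleton (Q.obj D ⟶ (Q.obj D)⟦i⟧) := fun i hi => by
    haveI := h1 i hi
    exact (Iso.homCongr eD ((CategoryTheory.shiftFunctor (Dual.D A) i).mapIso eD)).subsingleton
  have h2D : Function.Bijective (fun c : A => c • 𝟙 (Q.obj D : Dual.D A)) :=
    bijective_smul_id_of_iso eD.symm h2
  let u : Q.obj (D ⊗ X) ⟶ Q.obj (VA A) := Q.map (evCx X (VA A))
  have hsm : ∀ c : A, c • u = Q.map (uncurryHom (c • 𝟙 D)) := fun c => by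
    rw [uncurryHom_smul, Functor.map_smul]; rfl
  have hcu : Function.Bijective (fun c : A => c • u) := by
    constructor
    · intro c c' hcc
      simp only [hsm] at hcc
      obtain ⟨H⟩ := KP.nonempty_homotopy_of_Q_map_eq hcc
      obtain ⟨H'⟩ := nonempty_homotopy_of_uncurryHom H
      have h3 := KP.Q_map_eq_of_homotopy H'
      rw [Functor.map_smul, Functor.map_smul, CategoryTheory.Functor.map_id] at h3
      exact h2D.1 h3
    · intro g
      obtain ⟨g₀, rfl⟩ := KP.exists_Q_map_eq g
      obtain ⟨c, hc⟩ := h2D.2 (Q.map (curryHom g₀))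
      refine ⟨c, ?_⟩
      change c • u = _
      rw [hsm]
      have h3 : Q.map (c • 𝟙 D) = Q.map (curryHom g₀) := by
        rw [Functor.map_smul, CategoryTheory.Functor.map_id]; exact hc
      have h4 := Q_map_uncurryHom_eq (KP.nonempty_homotopy_of_Q_map_eq h3)
      rw [uncurryHom_curryHom] at h4
      exact h4
  have hu : IsIso u := by
    apply isIso_of_bijective_precomp u
    · refine ⟨D ⊗ X, (-(-a)) + (-b), (-(-b)) + (-a), ?_, ?_, ⟨Iso.refl _⟩⟩
      · intro i hi
        refine isZero_tensor_X D X i (fun p q hpq => ?_)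
        by_cases hp : p < -(-a) ∨ -(-b) < p
        · exact Or.inl (hDv p hp)
        · exact Or.inr (hXv q (by lia))
      · intro i
        exact ⟨finite_tensor_X D X (-(-b)) (-a) (fun p hp => hDv p (Or.inr hp))
            (fun q hq => hXv q (Or.inr hq)) (fun p => (hDf p).1) (fun q => (hXf q).1) i,
          projective_tensor_X D X (fun p => (hDf p).2) (fun q => (hXf q).2) i⟩
    · exact ⟨VA A, 0, 0, perfect_VA.1, perfect_VA.2, ⟨Iso.refl _⟩⟩
    · intro i
      by_cases hi : i = 0
      · subst hi
        let σ : (Dual.inD A A)⟦(0:ℤ)⟧ ≅ Q.obj (VA A) :=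
          (shiftFunctorZero (Dual.D A) ℤ).app _ ≪≫ inDIsoVA
        have hVA : Function.Bijective (fun c : A => c • 𝟙 (Q.obj (VA A) : Dual.D A)) :=
          bijective_smul_id_of_iso inDIsoVA bijective_smul_id_inD
        have hcomp : (fun t : Q.obj (VA A) ⟶ Q.obj (VA A) => u ≫ t) ∘
            (fun c : A => c • 𝟙 (Q.obj (VA A) : Dual.D A)) = fun c : A => c • u := by
          funext c
          change u ≫ (c • 𝟙 _) = c • u
          rw [Linear.comp_smul, Category.comp_id]
        have key : Function.Bijective (fun t : Q.obj (VA A) ⟶ Q.obj (VA A) => u ≫ t) :=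
          (Function.Bijective.of_comp_iff _ hVA).1 (hcomp ▸ hcu)
        have : (fun t : Q.obj (VA A) ⟶ (Dual.inD A A)⟦(0:ℤ)⟧ => u ≫ t) =
            (Iso.homCongr (Iso.refl (Q.obj (D ⊗ X))) σ).symm ∘
              (fun t : Q.obj (VA A) ⟶ Q.obj (VA A) => u ≫ t) ∘
                (Iso.homCongr (Iso.refl (Q.obj (VA A))) σ) := by
          funext t
          simp [Iso.homCongr]
        rw [this]
        exact ((Iso.homCongr _ _).symm.bijective.comp key).comp (Iso.homCongr _ _).bijective
      · have s1 : Subsingleton (Q.obj (VA A) ⟶ (Dual.inD A A)⟦i⟧) := by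
          have hz : IsZero ((DRing.homCx (VA A) (VA A)).homology i) := by
            refine IsZero.of_iso ?_ ((HomologicalComplex.homologyFunctor _ _ i).mapIso
              (homCxUnitIso (VA A) : VA A ≅ DRing.homCx (VA A) (VA A))).symm
            exact HomologicalComplex.isZero_single_obj_homology (ComplexShape.up ℤ) 0 _ i hi
          haveI : Subsingleton ((DRing.homCx (VA A) (VA A)).homology i) :=
            ModuleCat.subsingleton_of_isZero hz
          exact (homEquiv (VA A) i).symm.toEquiv.subsingleton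
        have s2 : Subsingleton (Q.obj (D ⊗ X) ⟶ (Dual.inD A A)⟦i⟧) := by
          have hz : IsZero ((DRing.homCx (D ⊗ X) (VA A)).homology i) := by
            refine IsZero.of_iso ?_ ((HomologicalComplex.homologyFunctor _ _ i).mapIso
              (homTensorIso (K := D) (L := X) (M := VA A)))
            exact isZero_homology_homCx_of_subsingleton D D i (h1D i hi)
          haveI := ModuleCat.subsingleton_of_isZero hz
          exact (homEquiv (D ⊗ X) i).symm.toEquiv.subsingleton
        exact ⟨fun x y _ => Subsingleton.elim _ _, fun y => ⟨0, Subsingleton.elim _ _⟩⟩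
  let ι₀ : Q.obj (VA A) ≅ DTen.unit A := Iso.refl _
  refine ⟨Q.obj X, ⟨?_⟩, ⟨?_⟩⟩
  · have := isIso_ε_app_right D X
    exact (DTen.LTen₂ A).mapIso (Iso.prod eD.symm (Iso.refl (Q.obj X))) ≪≫
      asIso ((DTen.ε A).app (D, X)) ≪≫ asIso u ≪≫ ι₀
  · have := isIso_ε_app_right X D
    exact (DTen.LTen₂ A).mapIso (Iso.prod (Iso.refl (Q.obj X)) eD.symm) ≪≫
      asIso ((DTen.ε A).app (X, D)) ≪≫ Q.mapIso (DTen.braidCx X D) ≪≫ asIso u ≪≫ ι₀

end Groth.Agent.Lib.Helper13.IE
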