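import Groth.Agent.Lib.Helper13.TFD3
import Groth.Agent.Lib.Helper13.DRingAdj
import Groth.Agent.Lib.Helper13.Shriek2
import Groth.Agent.Lib.Helper13.DRingProj
import Groth.Agent.Lib.Helper13.BiDual2
import Groth.Agent.S6974
import Groth.Agent.S6954

/-!
# Finite tor dimension of `G` versus finite injective dimension of `RHom(G, ω)`
-/

set_option autoImplicit false
set_option maxHeartbeats 800000
set_option linter.style.haveILetI false
universe u
open CategoryTheory CategoryTheory.Limits Opposite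
open CochainComplex CochainComplex.HomComplex HomologicalComplex

namespace Groth.Agent.Lib.Helper13.TFD

open Groth.Agent.Lib.Helper13.HOp Groth.Agent.Lib.Helper13.HT Groth.Agent.Lib.Helper13.BD
  Groth.Agent.Lib.Helper13.PC Groth.Agent.Lib.Helper13.DV Groth.Agent.Lib.Helper13.BDX
  Groth.Agent.Lib.Helper13.DR Groth.Agent.Lib.Helper13.Shriek
open DerivedCategory

attribute [local instance] HasDerivedCategory.standard

variable {A : Type u} [CommRing A]

/-- The residue field `A/m` as an `A`-module via restriction of scalars. -/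
noncomputable abbrev resField (m : Ideal A) : ModuleCat.{u} A :=
  (ModuleCat.restrictScalars.{u} (Ideal.Quotient.mk m)).obj (ModuleCat.of (A ⧸ m) (A ⧸ m))

instance finite_resField (m : Ideal A) : Module.Finite A (resField m) := by
  refine ⟨⟨{(1 : A ⧸ m)}, ?_⟩⟩
  rw [eq_top_iff]
  intro x _
  obtain ⟨r, rfl⟩ := Ideal.Quotient.mk_surjective (x : A ⧸ m)
  have h1 : (Ideal.Quotient.mk m r : resField m) = r • (1 : A ⧸ m) := by
    change _ = Ideal.Quotient.mk m r * 1
    rw [mul_one]
  rw [h1]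
  exact Submodule.smul_mem _ _ (Submodule.subset_span (Finset.mem_singleton_self _))

/-- Vanishing of fibre cohomology from vanishing of maps to the residue field. -/
theorem subsingleton_HD_LBaseChange (K : Dual.D A) (m : Ideal A) [hm : m.IsMaximal] (k : ℤ)
    (h : Subsingleton (K ⟶ (DerivedCategory.singleFunctor (ModuleCat.{u} A) k).obj (resField m))) :
    Subsingleton (Dual.HD (A ⧸ m) ((DRing.LBaseChange (Ideal.Quotient.mk m)).obj K) k) := by
  letI : Field (A ⧸ m) := Ideal.Quotient.field m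
  let Z : Dual.D (A ⧸ m) := (DerivedCategory.singleFunctor (ModuleCat.{u} (A ⧸ m)) k).obj
    (ModuleCat.of (A ⧸ m) (A ⧸ m))
  have e1 : (DRing.restrictD (Ideal.Quotient.mk m)).obj Z ≅
      (DerivedCategory.singleFunctor (ModuleCat.{u} A) k).obj (resField m) :=
    ((ModuleCat.restrictScalars.{u} (Ideal.Quotient.mk m)).mapDerivedCategorySingleFunctor k).app
      (ModuleCat.of (A ⧸ m) (A ⧸ m))
  have h2 : Subsingleton (K ⟶ (DRing.restrictD (Ideal.Quotient.mk m)).obj Z) :=
    (Iso.homCongr (Iso.refl K) e1).subsingleton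
  have h3 : Subsingleton ((DRing.LBaseChange (Ideal.Quotient.mk m)).obj K ⟶ Z) :=
    ((LBaseChangeAdj (Ideal.Quotient.mk m)).homEquiv K Z).subsingleton
  exact ModuleCat.subsingleton_of_isZero
    (isZero_homology_of_subsingleton_hom_single
      ((DRing.LBaseChange (Ideal.Quotient.mk m)).obj K) k h3)


/-- A bounded injective model of a dualizing complex, with all the properties we need. -/
lemma exists_injective_model [IsNoetherianRing A] (ω : Dual.D A) (hω : Dual.IsDualizing A ω) :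
    ∃ (I : DRing.Cx A) (a b : ℤ), (∀ q, Injective (I.X q)) ∧ I.IsKInjective ∧
      DRing.TermwiseInjective I ∧ a ≤ b ∧ DRing.VanishesOutside I a b ∧
      Function.Bijective (fun x : A => x • 𝟙 (Q.obj I : Dual.D A)) ∧
      (∀ i : ℤ, i ≠ 0 → Subsingleton ((Q.obj I : Dual.D A) ⟶ (Q.obj I)⟦i⟧)) ∧
      Nonempty ((Q.obj I : Dual.D A) ≅ ω) := by
  obtain ⟨_, ⟨a, b, h2⟩, h3, h4, h5⟩ := hω
  have hinj : DRing.HasInjAmplitudeIn A a b ω :=
    hasInjAmplitudeIn_of_quotients ω a b (fun J i hi => h2 (A ⧸ J) i hi)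
  obtain ⟨I, hv, hI, ⟨e⟩⟩ := hinj
  have hIinj : ∀ q, CategoryTheory.Injective (I.X q) := fun i => (injective_iff _).2 (hI i)
  have hKI : I.IsKInjective :=
    isKInjective_of_forall_injective I a (fun i hi => hv i (Or.inl hi)) hIinj
  have h4' : Function.Bijective (fun a : A => a • 𝟙 (DerivedCategory.Q.obj I : Dual.D A)) := by
    have : (fun a : A => a • 𝟙 (DerivedCategory.Q.obj I : Dual.D A)) =
        (Iso.homCongr e.symm e.symm) ∘ (fun a : A => a • 𝟙 ω) := by
      funext a
      change a • 𝟙 _ = e.hom ≫ (a • 𝟙 ω) ≫ e.inv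
      rw [Linear.smul_comp, Linear.comp_smul, Category.id_comp, e.hom_inv_id]
    rw [this]
    exact (Iso.homCongr e.symm e.symm).bijective.comp h4
  have h5' : ∀ i : ℤ, i ≠ 0 → Subsingleton ((DerivedCategory.Q.obj I : Dual.D A) ⟶
      (DerivedCategory.Q.obj I : Dual.D A)⟦i⟧) := by
    intro i hi
    have := h5 i hi
    exact (Iso.homCongr e ((CategoryTheory.shiftFunctor (Dual.D A) i).mapIso e)).subsingleton
  refine ⟨I, a, max a b, hIinj, hKI, hI, le_max_left _ _, fun i hi => hv i ?_, h4', h5', ⟨e⟩⟩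
  rcases hi with h | h
  · exact Or.inl h
  · exact Or.inr (lt_of_le_of_lt (le_max_right _ _) h)

section Main

variable [IsNoetherianRing A] (ω : Dual.D A) (hω : Dual.IsDualizing A ω) (G : DRing.Cx A)
  [DRing.HasRHomCx G] (hfin : ∀ i : ℤ, Module.Finite A (Dual.HD A (DRing.toD G) i))
  (hbdd : ∃ a b : ℤ, ∀ i : ℤ, (i < a ∨ b < i) → Subsingleton (Dual.HD A (DRing.toD G) i))

include hω hfin hbdd

/-- (⇒) -/
theorem hasFiniteInjDim_RHom_of_hasFiniteTorDimCx (hT : DRing.HasFiniteTorDimCx A (DRing.toD G)) :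
    DRing.HasFiniteInjDim A ((DRing.RHomCx G).obj ω) := by
  obtain ⟨I, a, b, hIinj, hKI, hI, hab, hv, h4, h5, ⟨e⟩⟩ := exists_injective_model ω hω
  obtain ⟨aG, bG, hG⟩ := hbdd
  have hpc : DRing.IsPseudoCoherent' A (DRing.toD G) :=
    Groth.Agent.Lib.Helper13.DualBC.isPseudoCoherent'_of_bdd_finite (DRing.toD G) bG
      (fun i hi => hG i (Or.inr hi)) hfin
  have hperf : DRing.IsPerfect A (DRing.toD G) := (Groth.Agent.S6954.result A _).2 ⟨hpc, hT⟩
  obtain ⟨P, a₁, b₁, hvP, hfp, ⟨eP⟩⟩ := hperf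
  have hPK : P.IsKProjective :=
    isKProjective_of_forall_projective P b₁ (fun i hi => hvP i (Or.inr hi))
      (fun i => (projective_iff _).2 (hfp i).2)
  obtain ⟨eR⟩ := nonempty_RHomCx_iso_homCx_of_iso G P eP.symm I
  refine ⟨a - b₁, b - a₁, DRing.homCx P I, vanishesOutside_homCx P I a₁ b₁ a b hvP hv,
    termwiseInjective_homCx P I (fun i => ?_) hI, ⟨eR.symm ≪≫ (DRing.RHomCx G).mapIso e⟩⟩
  have := (hfp i).2
  infer_instance

/-- (⇐) -/
theorem hasFiniteTorDimCx_of_hasFiniteInjDim_RHom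
    (hM : DRing.HasFiniteInjDim A ((DRing.RHomCx G).obj ω)) :
    DRing.HasFiniteTorDimCx A (DRing.toD G) := by
  obtain ⟨I, a, b, hIinj, hKI, hI, hab, hv, h4, h5, ⟨e⟩⟩ := exists_injective_model ω hω
  obtain ⟨aG, bG, hG⟩ := hbdd
  have hpc : DRing.IsPseudoCoherent' A (DRing.toD G) :=
    Groth.Agent.Lib.Helper13.DualBC.isPseudoCoherent'_of_bdd_finite (DRing.toD G) bG
      (fun i hi => hG i (Or.inr hi)) hfin
  obtain ⟨F, c, hFc, hFf, ⟨eF⟩⟩ := hpc
  have hFP : F.IsKProjective := isKProjective_of_vanishesAbove F c hFc hFf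
  obtain ⟨eR⟩ := nonempty_RHomCx_iso_homCx_of_iso G F eF.symm I
  obtain ⟨a', b', E', hv', hI', ⟨eE'⟩⟩ := hM
  have hE'K : E'.IsKInjective :=
    isKInjective_of_forall_injective E' a' (fun i hi => hv' i (Or.inl hi))
      (fun i => (injective_iff _).2 (hI' i))
  let eD : (Q.obj (DRing.homCx F I) : Dual.D A) ≅ Q.obj E' :=
    eR.symm ≪≫ (DRing.RHomCx G).mapIso e ≪≫ eE'.symm
  have hLE : (DRing.toD G : Dual.D A).IsLE bG := by
    rw [DerivedCategory.isLE_iff]
    intro i hi
    have := hG i (Or.inr hi)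
    exact ModuleCat.isZero_of_subsingleton _
  have key := (Groth.Agent.S6974.result A (DRing.toD G) ⟨F, c, hFc, hFf, ⟨eF⟩⟩ (a - b') bG
    (fun m hm i hi => ?_)).2
  · exact ⟨_, _, key⟩
  · haveI := hm
    apply subsingleton_HD_LBaseChange
    rcases hi with hi | hi
    · have := subsingleton_hom_single_of_dual I hIinj h4 h5 a b hv hab F E' b'
        (fun p hp => hv' p (Or.inr hp)) eD i (by lia) (resField m)
      exact (Iso.homCongr eF (Iso.refl _)).symm.subsingleton
    · refine ⟨fun f f' => ?_⟩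
      have h1 := DerivedCategory.TStructure.t.zero_of_isLE_of_isGE f bG i hi
        (by infer_instance) (by infer_instance)
      have h2 := DerivedCategory.TStructure.t.zero_of_isLE_of_isGE f' bG i hi
        (by infer_instance) (by infer_instance)
      rw [h1, h2]

end Main

end Groth.Agent.Lib.Helper13.TFD
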