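import Groth.Agent.Lib.Helper13.IE1
import Groth.Agent.Lib.Helper13.IE2
import Groth.Agent.Lib.Helper13.TFD4
import Groth.Agent.Lib.Helper13.DualBC37
import Mathlib.CategoryTheory.Triangulated.Subcategory
import Mathlib.CategoryTheory.Linear.LinearFunctor

/-!
# Linear triangulated self-equivalences of `D^b_Coh(A)` send `A` to a perfect object
-/

set_option autoImplicit false
set_option maxHeartbeats 800000
set_option linter.style.haveILetI false
set_option linter.unusedSectionVars false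
universe u
open CategoryTheory CategoryTheory.Limits

namespace Groth.Agent.Lib.Helper13.IE

open DerivedCategory

attribute [local instance] HasDerivedCategory.standard

section FF

variable {𝒞 𝒟 : Type*} [Category 𝒞] [Category 𝒟] [HasShift 𝒞 ℤ] [HasShift 𝒟 ℤ]

/-- A fully faithful functor commuting with shifts identifies shifted Homs. -/
noncomputable def ffShiftEquiv (G : 𝒞 ⥤ 𝒟) [G.CommShift ℤ] (hG : G.FullyFaithful) (X Y : 𝒞) (n : ℤ) :
    (X ⟶ Y⟦n⟧) ≃ (G.obj X ⟶ (G.obj Y)⟦n⟧) :=
  hG.homEquiv.trans (Iso.homCongr (Iso.refl _) ((G.commShiftIso n).app Y))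

end FF

section Mod

variable {A : Type u} [CommRing A]

/-- The residue field in degree `0`. -/
noncomputable abbrev Rm (m : Ideal A) : Dual.D A :=
  (DerivedCategory.singleFunctor (ModuleCat.{u} A) 0).obj (TFD.resField m)

lemma smul_id_resField (m : Ideal A) (x : A) (hx : x ∈ m) : x • 𝟙 (Rm m) = 0 := by
  have h0 : x • 𝟙 (TFD.resField m) = 0 := by
    apply ModuleCat.hom_ext
    apply LinearMap.ext
    intro y
    rw [ModuleCat.hom_smul, ModuleCat.hom_id]
    change x • y = 0
    rw [ModuleCat.restrictScalars.smul_def, Ideal.Quotient.eq_zero_iff_mem.2 hx, zero_smul]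
    rfl
  change x • 𝟙 ((DerivedCategory.singleFunctor (ModuleCat.{u} A) 0).obj (TFD.resField m)) = 0
  rw [← CategoryTheory.Functor.map_id, ← Functor.map_smul, h0, Functor.map_zero]

lemma subsingleton_HD_single (M : ModuleCat.{u} A) (i : ℤ) (hi : i ≠ 0) :
    Subsingleton (Dual.HD A ((DerivedCategory.singleFunctor (ModuleCat.{u} A) 0).obj M) i) := by
  have hz : IsZero ((DerivedCategory.homologyFunctor (ModuleCat.{u} A) i).obj
      ((DerivedCategory.singleFunctor (ModuleCat.{u} A) 0).obj M)) := by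
    rcases lt_or_gt_of_ne hi with h | h
    · exact DerivedCategory.isZero_of_isGE _ 0 i h
    · exact DerivedCategory.isZero_of_isLE _ 0 i h
  exact ModuleCat.subsingleton_of_isZero hz

lemma finite_HD_single (M : ModuleCat.{u} A) [Module.Finite A M] (i : ℤ) :
    Module.Finite A (Dual.HD A ((DerivedCategory.singleFunctor (ModuleCat.{u} A) 0).obj M) i) := by
  by_cases hi : i = 0
  · subst hi
    haveI : Module.Finite A ↑((𝟭 (ModuleCat.{u} A)).obj M) := (inferInstance : Module.Finite A M)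
    exact Module.Finite.equiv
      ((DerivedCategory.singleFunctorCompHomologyFunctorIso (ModuleCat.{u} A) 0).app
        M).symm.toLinearEquiv
  · have := subsingleton_HD_single M i hi
    infer_instance

lemma subsingleton_hom_single_shift_neg (M N : ModuleCat.{u} A) (j : ℤ) (hj : j < 0) :
    Subsingleton ((DerivedCategory.singleFunctor (ModuleCat.{u} A) 0).obj M ⟶
      ((DerivedCategory.singleFunctor (ModuleCat.{u} A) 0).obj N)⟦j⟧) := by
  let t := (DerivedCategory.TStructure.t : Triangulated.TStructure (Dual.D A))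
  have h1 : t.IsLE ((DerivedCategory.singleFunctor (ModuleCat.{u} A) 0).obj M) 0 :=
    (inferInstance : ((DerivedCategory.singleFunctor (ModuleCat.{u} A) 0).obj M).IsLE 0)
  have h0 : t.IsGE ((DerivedCategory.singleFunctor (ModuleCat.{u} A) 0).obj N) 0 :=
    (inferInstance : ((DerivedCategory.singleFunctor (ModuleCat.{u} A) 0).obj N).IsGE 0)
  have h2 : t.IsGE (((DerivedCategory.singleFunctor (ModuleCat.{u} A) 0).obj N)⟦j⟧) (-j) :=
    t.isGE_shift _ 0 j (-j) (by lia)
  refine ⟨fun f g => ?_⟩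
  rw [t.zero_of_isLE_of_isGE f 0 (-j) (by lia) h1 h2,
    t.zero_of_isLE_of_isGE g 0 (-j) (by lia) h1 h2]

lemma subsingleton_hom_inD_shift (i : ℤ) (hi : i ≠ 0) :
    Subsingleton (Dual.inD A A ⟶ (Dual.inD A A)⟦i⟧) := by
  haveI : Subsingleton (Dual.HD A (Dual.inD A A) i) := subsingleton_HD_single _ i hi
  exact (DualBC.homSelfHDEquiv A (Dual.inD A A) i).toEquiv.subsingleton

lemma not_subsingleton_hom_inD_Rm (m : Ideal A) [hm : m.IsMaximal] :
    ¬ Subsingleton (Dual.inD A A ⟶ Rm m) := by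
  intro hs
  letI : Field (A ⧸ m) := Ideal.Quotient.field m
  let q : ModuleCat.of A A ⟶ TFD.resField m :=
    ModuleCat.ofHom (LinearMap.toSpanSingleton A (TFD.resField m : Type u) (1 : A ⧸ m))
  have hq : (DerivedCategory.singleFunctor (ModuleCat.{u} A) 0).map q =
      (DerivedCategory.singleFunctor (ModuleCat.{u} A) 0).map 0 := by
    rw [Functor.map_zero]
    exact Subsingleton.elim _ _
  have hq0 : q = 0 := (DerivedCategory.singleFunctor (ModuleCat.{u} A) 0).map_injective hq
  have h2 : (LinearMap.toSpanSingleton A (TFD.resField m : Type u) (1 : A ⧸ m)) (1 : A) = 0 := by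
    have := congrArg (fun f => f.hom (1 : A)) hq0
    exact this
  rw [LinearMap.toSpanSingleton_apply, one_smul] at h2
  exact one_ne_zero (α := A ⧸ m) h2

end Mod

section Sub

variable {A : Type u} [CommRing A] (P : ObjectProperty (Dual.D A)) [P.IsTriangulated]
  (F : P.FullSubcategory ⥤ P.FullSubcategory) [F.CommShift ℤ] [F.IsEquivalence] [F.Additive]
  [F.Linear A]

/-- `F ⋙ ι` is fully faithful. -/
noncomputable def ffComp : (F ⋙ P.ι).FullyFaithful :=
  (Functor.FullyFaithful.ofFullyFaithful F).comp P.fullyFaithfulι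

/-- `Hom_D(X, Y⟦n⟧) ≃ Hom_D(F X, (F Y)⟦n⟧)`. -/
noncomputable def homShiftEquiv (X Y : P.FullSubcategory) (n : ℤ) :
    (X.obj ⟶ Y.obj⟦n⟧) ≃ ((F.obj X).obj ⟶ ((F.obj Y).obj)⟦n⟧) :=
  (ffShiftEquiv P.ι P.fullyFaithfulι X Y n).symm.trans
    (ffShiftEquiv (F ⋙ P.ι) (ffComp P F) X Y n)

/-- `Hom_D(X, Y) ≃ Hom_D(F X, F Y)`. -/
noncomputable def homEquivF (X Y : P.FullSubcategory) :
    (X.obj ⟶ Y.obj) ≃ ((F.obj X).obj ⟶ (F.obj Y).obj) :=
  (P.fullyFaithfulι.homEquiv (X := X) (Y := Y)).symm.trans (ffComp P F).homEquiv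

lemma bijective_smul_id_map (X : P.FullSubcategory)
    (h : Function.Bijective (fun a : A => a • 𝟙 X.obj)) :
    Function.Bijective (fun a : A => a • 𝟙 (F.obj X).obj) := by
  have h1 : Function.Bijective (fun a : A => a • 𝟙 X) := by
    have : (fun a : A => a • 𝟙 X.obj) =
        (P.ι.map : (X ⟶ X) → (P.ι.obj X ⟶ P.ι.obj X)) ∘ (fun a : A => a • 𝟙 X) := by
      funext a
      change _ = P.ι.map (a • 𝟙 X)
      rw [Functor.map_smul, CategoryTheory.Functor.map_id]
      rfl
    rw [this] at h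
    exact (Function.Bijective.of_comp_iff' (P.fullyFaithfulι.map_bijective X X) _).1 h
  have : (fun a : A => a • 𝟙 (F.obj X).obj) =
      ((F ⋙ P.ι).map : (X ⟶ X) → ((F ⋙ P.ι).obj X ⟶ (F ⋙ P.ι).obj X)) ∘
        (fun a : A => a • 𝟙 X) := by
    funext a
    change _ = (F ⋙ P.ι).map (a • 𝟙 X)
    rw [Functor.map_smul, CategoryTheory.Functor.map_id]
    rfl
  rw [this]
  exact ((ffComp P F).map_bijective X X).comp h1

lemma smul_id_eq_zero_of_map (E : P.FullSubcategory) (x : A) (h : x • 𝟙 (F.obj E).obj = 0) :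
    x • 𝟙 E.obj = 0 := by
  have h1 : (F ⋙ P.ι).map (x • 𝟙 E) = 0 := by
    rw [Functor.map_smul, CategoryTheory.Functor.map_id]
    exact h
  have h2 : x • 𝟙 E = 0 := (ffComp P F).map_injective (h1.trans (Functor.map_zero _ _ _).symm)
  have h3 := congrArg P.ι.map h2
  rw [Functor.map_smul, CategoryTheory.Functor.map_id, Functor.map_zero] at h3
  exact h3

/-- The preimage of a residue field has cohomology only in degrees `≤ hiZ`. -/
theorem isZero_homology_preimage_resField
    (hPb : ∀ X : P.FullSubcategory, ∃ lo hi : ℤ, ∀ i : ℤ, (i < lo ∨ hi < i) →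
      IsZero ((homologyFunctor (ModuleCat.{u} A) i).obj X.obj))
    (Z : P.FullSubcategory) (εZ : (F.obj Z).obj ≅ Dual.inD A A) (hiZ : ℤ)
    (hZ : ∀ i : ℤ, hiZ < i → IsZero ((homologyFunctor (ModuleCat.{u} A) i).obj Z.obj))
    (m : Ideal A) [m.IsMaximal] (E : P.FullSubcategory) (εE : (F.obj E).obj ≅ Rm m)
    (n : ℤ) (hn : hiZ < n) :
    IsZero ((homologyFunctor (ModuleCat.{u} A) n).obj E.obj) := by
  have hm' : ∀ x ∈ m, x • 𝟙 E.obj = 0 := by
    intro x hx
    apply smul_id_eq_zero_of_map P F E x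
    have : x • 𝟙 (F.obj E).obj = εE.hom ≫ (x • 𝟙 (Rm m)) ≫ εE.inv := by
      rw [Linear.smul_comp, Linear.comp_smul, Category.id_comp, εE.hom_inv_id]
    rw [this, smul_id_resField m x hx, zero_comp, comp_zero]
  have hneg : ∀ j : ℤ, j < 0 → Subsingleton (E.obj ⟶ E.obj⟦j⟧) := by
    intro j hj
    have := subsingleton_hom_single_shift_neg (TFD.resField m) (TFD.resField m) j hj
    exact (Equiv.subsingleton_congr ((homShiftEquiv P F E E j).trans
      (Iso.homCongr εE ((CategoryTheory.shiftFunctor (Dual.D A) j).mapIso εE)))).2 this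
  have hne : ¬ Subsingleton (Z.obj ⟶ E.obj) := by
    intro hs
    exact not_subsingleton_hom_inD_Rm m
      ((Equiv.subsingleton_congr ((homEquivF P F Z E).trans (Iso.homCongr εZ εE))).1 hs)
  obtain ⟨lo, hi, hb⟩ := hPb E
  have hex : ∃ i : ℤ, ¬ IsZero ((homologyFunctor (ModuleCat.{u} A) i).obj E.obj) := by
    by_contra hcon
    push Not at hcon
    have hz : IsZero E.obj := Groth.Agent.Lib.Helper13.PC.isZero_of_forall_isZero_homology _ hcon
    exact hne ⟨fun f g => hz.eq_of_tgt f g⟩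
  obtain ⟨a, ha, hamin⟩ := Int.exists_least_of_bdd
    (P := fun i => ¬ IsZero ((homologyFunctor (ModuleCat.{u} A) i).obj E.obj))
    ⟨lo, fun i hi' => by
      by_contra h
      exact hi' (hb i (Or.inl (not_le.1 h)))⟩ hex
  obtain ⟨b, hb', hbmax⟩ := Int.exists_greatest_of_bdd
    (P := fun i => ¬ IsZero ((homologyFunctor (ModuleCat.{u} A) i).obj E.obj))
    ⟨hi, fun i hi' => by
      by_contra h
      exact hi' (hb i (Or.inr (not_le.1 h)))⟩ hex
  have hGE : ∀ i : ℤ, i < a → IsZero ((homologyFunctor (ModuleCat.{u} A) i).obj E.obj) := by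
    intro i hi'
    by_contra h
    exact absurd (hamin i h) (not_le.2 hi')
  have hLE : ∀ i : ℤ, b < i → IsZero ((homologyFunctor (ModuleCat.{u} A) i).obj E.obj) := by
    intro i hi'
    by_contra h
    exact absurd (hbmax i h) (not_le.2 hi')
  have hab : a = b := single_degree m E.obj hm' hneg a b hGE hLE ha hb'
  have haZ : a ≤ hiZ := by
    by_contra hlt
    push Not at hlt
    apply hne
    haveI : Z.obj.IsLE hiZ := by
      rw [DerivedCategory.isLE_iff]
      exact hZ
    haveI : E.obj.IsGE a := by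
      rw [DerivedCategory.isGE_iff]
      exact hGE
    refine ⟨fun f g => ?_⟩
    rw [DerivedCategory.TStructure.t.zero_of_isLE_of_isGE f hiZ a hlt
        (by infer_instance) (by infer_instance),
      DerivedCategory.TStructure.t.zero_of_isLE_of_isGE g hiZ a hlt
        (by infer_instance) (by infer_instance)]
  exact hLE n (by omega)

theorem subsingleton_hom_shift_resField
    (hPb : ∀ X : P.FullSubcategory, ∃ lo hi : ℤ, ∀ i : ℤ, (i < lo ∨ hi < i) →
      IsZero ((homologyFunctor (ModuleCat.{u} A) i).obj X.obj))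
    (Z : P.FullSubcategory) (εZ : (F.obj Z).obj ≅ Dual.inD A A) (hiZ : ℤ)
    (hZ : ∀ i : ℤ, hiZ < i → IsZero ((homologyFunctor (ModuleCat.{u} A) i).obj Z.obj))
    (m : Ideal A) [m.IsMaximal] (E : P.FullSubcategory) (εE : (F.obj E).obj ≅ Rm m)
    (X : P.FullSubcategory) (εX : X.obj ≅ Dual.inD A A) (n : ℤ) (hn : hiZ < n) :
    Subsingleton ((F.obj X).obj ⟶ (Rm m)⟦n⟧) := by
  have hz := isZero_homology_preimage_resField P F hPb Z εZ hiZ hZ m E εE n hn
  haveI s0 : Subsingleton (Dual.HD A E.obj n) := ModuleCat.subsingleton_of_isZero hz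
  have s1 : Subsingleton (Dual.inD A A ⟶ E.obj⟦n⟧) :=
    (DualBC.homSelfHDEquiv A E.obj n).toEquiv.subsingleton
  have s2 : Subsingleton (X.obj ⟶ E.obj⟦n⟧) :=
    (Equiv.subsingleton_congr (Iso.homCongr εX (Iso.refl (E.obj⟦n⟧)))).2 s1
  exact (Equiv.subsingleton_congr ((homShiftEquiv P F X E n).trans
    (Iso.homCongr (Iso.refl _) ((CategoryTheory.shiftFunctor (Dual.D A) n).mapIso εE)))).1 s2

variable [IsNoetherianRing A]

/-- `F(A)` is perfect. -/
theorem isPerfect_of_equiv
    (hP : ∀ K : Dual.D A, P K ↔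
      ((∀ i : ℤ, Module.Finite A (Dual.HD A K i)) ∧
        ∃ a b : ℤ, ∀ i : ℤ, (i < a ∨ b < i) → Subsingleton (Dual.HD A K i)))
    (X : P.FullSubcategory) (εX : X.obj ≅ Dual.inD A A) :
    DRing.IsPerfect A (F.obj X).obj := by
  have hPb : ∀ X : P.FullSubcategory, ∃ lo hi : ℤ, ∀ i : ℤ, (i < lo ∨ hi < i) →
      IsZero ((homologyFunctor (ModuleCat.{u} A) i).obj X.obj) := by
    intro X
    obtain ⟨-, lo, hi, h⟩ := (hP X.obj).1 X.property
    refine ⟨lo, hi, fun i hi' => ?_⟩
    have := h i hi'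
    exact ModuleCat.isZero_of_subsingleton _
  let Z : P.FullSubcategory := F.objPreimage X
  let εZ : (F.obj Z).obj ≅ Dual.inD A A := P.ι.mapIso (F.objObjPreimageIso X) ≪≫ εX
  obtain ⟨loZ, hiZ, hZ⟩ := hPb Z
  obtain ⟨hfin, aK, bK, hbd⟩ := (hP (F.obj X).obj).1 (F.obj X).property
  have hpc : DRing.IsPseudoCoherent' A (F.obj X).obj :=
    Groth.Agent.Lib.Helper13.DualBC.isPseudoCoherent'_of_bdd_finite _ bK
      (fun i hi => hbd i (Or.inr hi)) hfin
  have hLE : ((F.obj X).obj : Dual.D A).IsLE bK := by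
    rw [DerivedCategory.isLE_iff]
    intro i hi
    have := hbd i (Or.inr hi)
    exact ModuleCat.isZero_of_subsingleton _
  refine (Groth.Agent.S6974.result A (F.obj X).obj hpc (-hiZ) bK (fun m hm i hi => ?_)).1
  haveI := hm
  apply TFD.subsingleton_HD_LBaseChange
  rcases hi with hi | hi
  · have hRm : P (Rm m) := (hP _).2 ⟨fun i => finite_HD_single _ i, 0, 0,
      fun i hi => subsingleton_HD_single _ i (by omega)⟩
    let E : P.FullSubcategory := F.objPreimage ⟨Rm m, hRm⟩
    let εE : (F.obj E).obj ≅ Rm m := P.ι.mapIso (F.objObjPreimageIso ⟨Rm m, hRm⟩)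
    have s := subsingleton_hom_shift_resField P F hPb Z εZ hiZ (fun i hi => hZ i (Or.inr hi)) m E εE
      X εX (-i) (by omega)
    exact (Equiv.subsingleton_congr (Iso.homCongr (Iso.refl (F.obj X).obj)
      (((DerivedCategory.singleFunctors (ModuleCat.{u} A)).shiftIso (-i) i 0 (by simp)).app
        (TFD.resField m)))).1 s
  · refine ⟨fun f f' => ?_⟩
    have h1 := DerivedCategory.TStructure.t.zero_of_isLE_of_isGE f bK i hi
      (by infer_instance) (by infer_instance)
    have h2 := DerivedCategory.TStructure.t.zero_of_isLE_of_isGE f' bK i hi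
      (by infer_instance) (by infer_instance)
    rw [h1, h2]

omit [IsNoetherianRing A] in
theorem subsingleton_hom_shift_map_unit (X : P.FullSubcategory) (εX : X.obj ≅ Dual.inD A A)
    (i : ℤ) (hi : i ≠ 0) : Subsingleton ((F.obj X).obj ⟶ (F.obj X).obj⟦i⟧) := by
  have s1 := subsingleton_hom_inD_shift (A := A) i hi
  have s2 : Subsingleton (X.obj ⟶ X.obj⟦i⟧) :=
    (Equiv.subsingleton_congr (Iso.homCongr εX
      ((CategoryTheory.shiftFunctor (Dual.D A) i).mapIso εX))).2 s1
  exact (Equiv.subsingleton_congr (homShiftEquiv P F X X i)).1 s2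

omit [IsNoetherianRing A] in
theorem bijective_smul_id_map_unit (X : P.FullSubcategory) (εX : X.obj ≅ Dual.inD A A) :
    Function.Bijective (fun a : A => a • 𝟙 (F.obj X).obj) :=
  bijective_smul_id_map P F X (bijective_smul_id_of_iso εX.symm bijective_smul_id_inD)

end Sub

end Groth.Agent.Lib.Helper13.IE
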