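import Groth.Agent.Lib.Helper13.BDX5
import Groth.Agent.Lib.Helper13.DRingLDerived2
import Mathlib.Algebra.Homology.HomotopyCategory.HomComplexSingle
import Mathlib.LinearAlgebra.Contraction

/-!
# `RHom(P'[-k], J) ≅ (J ⊗ P'^∨)[k]` for a finite projective module `P'`
-/

set_option autoImplicit false
set_option maxHeartbeats 800000
set_option linter.style.haveILetI false
universe u
open CategoryTheory CategoryTheory.Limits MonoidalCategory
open CochainComplex CochainComplex.HomComplex HomologicalComplex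
open scoped TensorProduct

namespace Groth.Agent.Lib.Helper13.INV

open Groth.Agent.Lib.Helper13.BDX Groth.Agent.Lib.Helper13.DR
open DerivedCategory

attribute [local instance] HasDerivedCategory.standard

variable {A : Type u} [CommRing A] (P' : Type u) [AddCommGroup P'] [Module A P']

/-- `N ⊗ P'^∨ → Hom(P', N)`. -/
noncomputable def psi (N : ModuleCat.{u} A) :
    (N ⊗ ModuleCat.of A (Module.Dual A P') : ModuleCat.{u} A) →ₗ[A] (ModuleCat.of A P' ⟶ N) :=
  (ModuleCat.homLinearEquiv (S := A) (M := ModuleCat.of A P') (N := N)).symm.toLinearMap ∘ₗ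
    (dualTensorHom A P' N) ∘ₗ (TensorProduct.comm A N (Module.Dual A P')).toLinearMap

lemma psi_tmul (N : ModuleCat.{u} A) (x : N) (φ : Module.Dual A P') (y : P') :
    (psi P' N (x ⊗ₜ φ)).hom y = φ y • x := rfl

lemma psi_bijective [Module.Finite A P'] [Module.Projective A P'] (N : ModuleCat.{u} A) :
    Function.Bijective (psi P' N) := by
  unfold psi
  exact ((ModuleCat.homLinearEquiv (S := A) (M := ModuleCat.of A P') (N := N)).symm.bijective.comp
    (dualTensorHom_bijective (R := A) (M := P') (N := N))).comp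
    (TensorProduct.comm A N (Module.Dual A P')).bijective

lemma psi_naturality {N N' : ModuleCat.{u} A} (g : N ⟶ N')
    (y : (N ⊗ ModuleCat.of A (Module.Dual A P') : ModuleCat.{u} A)) :
    psi P' N' ((g ▷ ModuleCat.of A (Module.Dual A P')).hom y) = psi P' N y ≫ g := by
  induction y using TensorProduct.induction_on with
  | zero => simp
  | tmul x φ =>
    apply ModuleCat.hom_ext
    apply LinearMap.ext
    intro z
    change (psi P' N' (g.hom x ⊗ₜ φ)).hom z = g.hom ((psi P' N (x ⊗ₜ φ)).hom z)
    rw [psi_tmul, psi_tmul, map_smul]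
  | add y y' h h' =>
    rw [map_add, map_add, map_add, h, h', Preadditive.add_comp]


/-- `Cochain.fromSingleEquiv`, linearly. -/
noncomputable def fromSingleLin (X : ModuleCat.{u} A) (K : DRing.Cx A) {p q n : ℤ} (h : p + n = q) :
    Cochain ((CochainComplex.singleFunctor (ModuleCat.{u} A) p).obj X) K n ≃ₗ[A] (X ⟶ K.X q) :=
  { Cochain.fromSingleEquiv (X := X) (K := K) h with
    map_smul' := fun a α => by
      change (HomologicalComplex.singleObjXSelf (.up ℤ) p X).inv ≫ (a • α).v p q h =
        a • ((HomologicalComplex.singleObjXSelf (.up ℤ) p X).inv ≫ α.v p q h)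
      rw [Cochain.smul_v]
      exact Linear.comp_smul (R := A) (C := ModuleCat.{u} A) _ _ _ _ _ _ }

lemma fromSingleLin_symm_apply (X : ModuleCat.{u} A) (K : DRing.Cx A) {p q n : ℤ} (h : p + n = q)
    (f : X ⟶ K.X q) : (fromSingleLin X K h).symm f = Cochain.fromSingleMk f h := rfl

lemma fromSingleLin_fromSingleMk (X : ModuleCat.{u} A) (K : DRing.Cx A) {p q n : ℤ}
    (h : p + n = q) (f : X ⟶ K.X q) : fromSingleLin X K h (Cochain.fromSingleMk f h) = f :=
  Cochain.fromSingleEquiv_fromSingleMk f h

/-- evaluation at `1`. -/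
noncomputable def ev1 (M : ModuleCat.{u} A) : (ModuleCat.of A A ⟶ M) ≃ₗ[A] M :=
  (ModuleCat.homLinearEquiv (S := A) (M := ModuleCat.of A A) (N := M)).trans
    (LinearMap.ringLmapEquivSelf A A M)

lemma ev1_apply (M : ModuleCat.{u} A) (f : ModuleCat.of A A ⟶ M) : ev1 M f = f.hom (1 : A) := rfl

variable (I : DRing.Cx A) (k : ℤ)

/-- The complex `I ⊗ P'^∨`. -/
noncomputable abbrev IP : DRing.Cx A := (tensorCx (ModuleCat.of A (Module.Dual A P'))).obj I

/-- `P'` in degree `k`. -/
noncomputable abbrev E₀ : DRing.Cx A :=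
  (CochainComplex.singleFunctor (ModuleCat.{u} A) k).obj (ModuleCat.of A P')

/-- The degreewise comparison `Hom^n(A[-k], I ⊗ P'^∨) → Hom^n(P'[-k], I)`. -/
noncomputable def phiLin (n : ℤ) : Cochain (Sk (A := A) k) (IP P' I) n →ₗ[A] Cochain (E₀ P' k) I n :=
  (fromSingleLin (ModuleCat.of A P') I (rfl : k + n = k + n)).symm.toLinearMap ∘ₗ
    psi P' (I.X (k + n)) ∘ₗ (ev1 ((IP P' I).X (k + n))).toLinearMap ∘ₗ
    (fromSingleLin (ModuleCat.of A A) (IP P' I) (rfl : k + n = k + n)).toLinearMap

lemma phiLin_fromSingleMk (n : ℤ) (f : ModuleCat.of A A ⟶ (IP P' I).X (k + n)) :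
    phiLin P' I k n (Cochain.fromSingleMk f rfl) =
      Cochain.fromSingleMk (psi P' (I.X (k + n)) (f.hom (1 : A))) rfl := by
  unfold phiLin
  simp only [LinearMap.comp_apply, LinearEquiv.coe_coe]
  rw [fromSingleLin_fromSingleMk, fromSingleLin_symm_apply]
  rfl

lemma phiLin_bijective [Module.Finite A P'] [Module.Projective A P'] (n : ℤ) :
    Function.Bijective (phiLin P' I k n) := by
  unfold phiLin
  exact (fromSingleLin (ModuleCat.of A P') I (rfl : k + n = k + n)).symm.bijective.comp
    ((psi_bijective P' (I.X (k + n))).comp ((ev1 ((IP P' I).X (k + n))).bijective.comp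
      (fromSingleLin (ModuleCat.of A A) (IP P' I) (rfl : k + n = k + n)).bijective))

/-- The comparison chain map. -/
noncomputable def phi : DRing.homCx (Sk (A := A) k) (IP P' I) ⟶ DRing.homCx (E₀ P' k) I where
  f n := ModuleCat.ofHom (phiLin P' I k n)
  comm' i j hij := by
    apply ModuleCat.hom_ext
    apply LinearMap.ext
    intro (c : Cochain (Sk (A := A) k) (IP P' I) i)
    change δ i j (phiLin P' I k i c) = phiLin P' I k j (δ i j c)
    obtain ⟨f, rfl⟩ := Cochain.fromSingleMk_surjective c (k + i) rfl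
    have hij' : i + 1 = j := hij
    subst hij'
    rw [phiLin_fromSingleMk, Cochain.δ_fromSingleMk _ _ (i + 1) (k + (i + 1)) rfl,
      Cochain.δ_fromSingleMk _ _ (i + 1) (k + (i + 1)) rfl, phiLin_fromSingleMk]
    congr 1
    exact (psi_naturality P' (I.d (k + i) (k + (i + 1))) (f.hom (1 : A))).symm


variable [Module.Finite A P'] [Module.Projective A P']

instance isIso_phi : IsIso (phi P' I k) := by
  have : ∀ n, IsIso ((phi P' I k).f n) := fun n => by
    rw [ConcreteCategory.isIso_iff_bijective]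
    exact phiLin_bijective P' I k n
  exact HomologicalComplex.Hom.isIso_of_components _

instance flat_dual : Module.Flat A (ModuleCat.of A (Module.Dual A P')) :=
  inferInstanceAs (Module.Flat A (Module.Dual A P'))

/-- **`RHom(P'[-k], I) ≅ (I ⊗^L P'^∨)[k]`**, at the level of `Hom•`. -/
theorem nonempty_homCx_single_iso
    [DRing.HasLTensor A (ModuleCat.of A (Module.Dual A P'))] :
    Nonempty ((Q.obj (DRing.homCx (E₀ P' k) I) : Dual.D A) ≅
      ((DRing.LTensor A (ModuleCat.of A (Module.Dual A P'))).obj (Q.obj I))⟦k⟧) :=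
  ⟨(asIso (Q.map (phi P' I k))).symm ≪≫ ιIso (IP P' I) k ≪≫
    (CategoryTheory.shiftFunctor (Dual.D A) k).mapIso
      (LTensorFlatQIso (ModuleCat.of A (Module.Dual A P')) I).symm⟩

end Groth.Agent.Lib.Helper13.INV
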