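import Groth.Agent.Lib.Helper13.INV1
import Groth.Agent.Lib.Helper13.TFD4
import Groth.Agent.Lib.Helper13.DRingTensorSES

/-!
# Twists of a dualizing complex by invertible modules: uniqueness
-/

set_option autoImplicit false
set_option maxHeartbeats 800000
set_option linter.style.haveILetI false
universe u
open CategoryTheory CategoryTheory.Limits MonoidalCategory Opposite
open CochainComplex CochainComplex.HomComplex HomologicalComplex
open scoped TensorProduct

namespace Groth.Agent.Lib.Helper13.INV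

open Groth.Agent.Lib.Helper13.BDX Groth.Agent.Lib.Helper13.DR Groth.Agent.Lib.Helper13.TFD
  Groth.Agent.Lib.Helper13.HOp Groth.Agent.Lib.Helper13.BD Groth.Agent.Lib.Helper13.PC
open DerivedCategory

attribute [local instance] HasDerivedCategory.standard

variable {A : Type u} [CommRing A]

/-- `K ⊗^L M ≅ K ⊗^L M'` for isomorphic flat modules. -/
noncomputable def LTensorObjIsoOfIso (M M' : ModuleCat.{u} A) [Module.Flat A M] [Module.Flat A M']
    [DRing.HasLTensor A M] [DRing.HasLTensor A M'] (e : M ≅ M') (X : DRing.Cx A) :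
    (DRing.LTensor A M).obj (Q.obj X) ≅ (DRing.LTensor A M').obj (Q.obj X) :=
  LTensorFlatQIso M X ≪≫ Q.mapIso (tensorCxMapIso X e) ≪≫ (LTensorFlatQIso M' X).symm

section

variable (P : Type u) [AddCommGroup P] [Module A P] [Module.Invertible A P]
  [DRing.HasLTensor A (ModuleCat.of A P)]
  [DRing.HasLTensor A (ModuleCat.of A (Module.Dual A (Module.Dual A P)))]

instance flat_of_invertible : Module.Flat A (ModuleCat.of A P) :=
  inferInstanceAs (Module.Flat A P)

/-- `(I ⊗^L P)[n] ≅ Hom•(P^∨[-n], I)` for `P` invertible. -/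
theorem nonempty_LTensor_shift_iso_homCx (I : DRing.Cx A) (n : ℤ) :
    Nonempty (((DRing.LTensor A (ModuleCat.of A P)).obj (Q.obj I))⟦n⟧ ≅
      (Q.obj (DRing.homCx (E₀ (Module.Dual A P) n) I) : Dual.D A)) := by
  obtain ⟨e1⟩ := nonempty_homCx_single_iso (Module.Dual A P) I n
  have e2 : ModuleCat.of A P ≅ ModuleCat.of A (Module.Dual A (Module.Dual A P)) :=
    (Module.evalEquiv A P).toModuleIso
  exact ⟨(CategoryTheory.shiftFunctor (Dual.D A) n).mapIso
    (LTensorObjIsoOfIso (ModuleCat.of A P) _ e2 I) ≪≫ e1.symm⟩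

end


/-- Duality is injective on objects satisfying biduality. -/
theorem nonempty_iso_of_dual_iso (I : DRing.Cx A) [I.IsKInjective] (X Y : DRing.Cx A)
    (hX : BidQis I X) (hY : BidQis I Y)
    (e : (Q.obj (DRing.homCx X I) : Dual.D A) ≅ Q.obj (DRing.homCx Y I)) :
    Nonempty ((Q.obj X : Dual.D A) ≅ Q.obj Y) := by
  have h1 : IsIso (Q.map (bid X I)) := by
    rw [isIso_Q_map_iff_quasiIso]
    exact hX
  have h2 : IsIso (Q.map (bid Y I)) := by
    rw [isIso_Q_map_iff_quasiIso]
    exact hY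
  exact ⟨asIso (Q.map (bid X I)) ≪≫ ((DJIso I).app (op (DRing.homCx X I))).symm ≪≫
    (DJ I).mapIso e.symm.op ≪≫ (DJIso I).app (op (DRing.homCx Y I)) ≪≫
    (asIso (Q.map (bid Y I))).symm⟩

/-- Homology of a module placed in degree `k`. -/
lemma isZero_HD_E₀ (N : Type u) [AddCommGroup N] [Module A N] (k i : ℤ) (hi : i ≠ k) :
    IsZero ((DerivedCategory.homologyFunctor (ModuleCat.{u} A) i).obj (Q.obj (E₀ N k))) :=
  Groth.Agent.Lib.Helper13.DV.isZero_homology_Q_obj _ i
    (HomologicalComplex.isZero_single_obj_X _ _ _ _ hi)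

noncomputable def HD_E₀_iso (N : Type u) [AddCommGroup N] [Module A N] (k : ℤ) :
    (DerivedCategory.homologyFunctor (ModuleCat.{u} A) k).obj (Q.obj (E₀ N k)) ≅ ModuleCat.of A N :=
  homologyQIso _ k ≪≫
    HomologicalComplex.singleObjHomologySelfIso (ComplexShape.up ℤ) k (ModuleCat.of A N)

/-- **S11187**. -/
theorem twist_unique [IsNoetherianRing A] [Nontrivial A] (ω : Dual.D A) (hω : Dual.IsDualizing A ω)
    (P P' : Type u) [AddCommGroup P] [Module A P] [Module.Invertible A P]
    [AddCommGroup P'] [Module A P'] [Module.Invertible A P']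
    [DRing.HasLTensor A (ModuleCat.of A P)] [DRing.HasLTensor A (ModuleCat.of A P')] (n n' : ℤ)
    (h : Nonempty (((DRing.LTensor A (ModuleCat.of A P)).obj ω)⟦n⟧ ≅
      ((DRing.LTensor A (ModuleCat.of A P')).obj ω)⟦n'⟧)) :
    n = n' ∧ Nonempty (P ≃ₗ[A] P') := by
  obtain ⟨I, a, b, hIinj, hKI, hI, hab, hv, h4, h5, ⟨e⟩⟩ := exists_injective_model ω hω
  obtain ⟨h⟩ := h
  haveI : DRing.HasLTensor A (ModuleCat.of A (Module.Dual A (Module.Dual A P))) :=
    Groth.Agent.Lib.Helper13.Shriek.hasLeftDerivedFunctor_Kh _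
  haveI : DRing.HasLTensor A (ModuleCat.of A (Module.Dual A (Module.Dual A P'))) :=
    Groth.Agent.Lib.Helper13.Shriek.hasLeftDerivedFunctor_Kh _
  obtain ⟨e1⟩ := nonempty_LTensor_shift_iso_homCx P I n
  obtain ⟨e2⟩ := nonempty_LTensor_shift_iso_homCx P' I n'
  let X := E₀ (A := A) (Module.Dual A P) n
  let Y := E₀ (A := A) (Module.Dual A P') n'
  have eD : (Q.obj (DRing.homCx X I) : Dual.D A) ≅ Q.obj (DRing.homCx Y I) :=
    e1.symm ≪≫ (CategoryTheory.shiftFunctor (Dual.D A) n).mapIso
      ((DRing.LTensor A (ModuleCat.of A P)).mapIso e) ≪≫ h ≪≫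
      (CategoryTheory.shiftFunctor (Dual.D A) n').mapIso
        ((DRing.LTensor A (ModuleCat.of A P')).mapIso e.symm) ≪≫ e2
  have hX : BidQis I X :=
    bidQis_single_finite I hIinj h4 h5 a b hv hab n (ModuleCat.of A (Module.Dual A P))
  have hY : BidQis I Y :=
    bidQis_single_finite I hIinj h4 h5 a b hv hab n' (ModuleCat.of A (Module.Dual A P'))
  obtain ⟨eXY⟩ := nonempty_iso_of_dual_iso I X Y hX hY eD
  have hne : Nontrivial (Module.Dual A P) := by
    by_contra hh
    rw [not_nontrivial_iff_subsingleton] at hh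
    have : Subsingleton (Module.Dual A P ⊗[A] P) := inferInstance
    have : Subsingleton A := (Module.Invertible.linearEquiv A P).symm.toEquiv.subsingleton
    exact not_subsingleton A this
  have hnn : n = n' := by
    by_contra hne'
    have hz : IsZero ((DerivedCategory.homologyFunctor (ModuleCat.{u} A) n).obj (Q.obj Y)) :=
      isZero_HD_E₀ (Module.Dual A P') n' n hne'
    have hz' : IsZero (ModuleCat.of A (Module.Dual A P)) :=
      hz.of_iso ((HD_E₀_iso (Module.Dual A P) n).symm ≪≫
        (DerivedCategory.homologyFunctor (ModuleCat.{u} A) n).mapIso eXY)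
    have := ModuleCat.subsingleton_of_isZero hz'
    exact not_subsingleton (Module.Dual A P) this
  subst hnn
  refine ⟨rfl, ?_⟩
  have eH : ModuleCat.of A (Module.Dual A P) ≅ ModuleCat.of A (Module.Dual A P') :=
    (HD_E₀_iso (Module.Dual A P) n).symm ≪≫
      (DerivedCategory.homologyFunctor (ModuleCat.{u} A) n).mapIso eXY ≪≫
      HD_E₀_iso (Module.Dual A P') n
  let l : Module.Dual A P ≃ₗ[A] Module.Dual A P' := eH.toLinearEquiv
  exact ⟨(Module.evalEquiv A P).trans (l.symm.dualMap.trans (Module.evalEquiv A P').symm)⟩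

end Groth.Agent.Lib.Helper13.INV
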