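import Groth.Agent.Lib.Helper13.LDC5
import Groth.Agent.Lib.Helper13.CMap4

/-!
# Swapping the two sources of an iterated `Hom•`
-/

set_option autoImplicit false
set_option maxHeartbeats 400000
set_option linter.style.haveILetI false
universe u
open CategoryTheory CategoryTheory.Limits MonoidalCategory Pretriangulated
open CochainComplex CochainComplex.HomComplex HomologicalComplex

namespace Groth.Agent.Lib.Helper13.LDC

open DTen Groth.Agent.Lib.Helper13.HT Groth.Agent.Lib.Helper13.SF Groth.Agent.Lib.Helper13.KP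
  Groth.Agent.Lib.Helper13.DT Groth.Agent.Lib.Helper13.DV Groth.Agent.Lib.Helper13.DCN
  Groth.Agent.Lib.Helper13.DR Groth.Agent.Lib.Helper13.PC Groth.Agent.Lib.Helper13
  Groth.Agent.Lib.Helper13.Coind Groth.Agent.Lib.Helper13.FC
  Groth.Agent.Lib.Helper2.RGTors Groth.Agent.Lib.Helper2.TorsExt
  Groth.Agent.Lib.Helper7.DerivedComplete

attribute [local instance] HasDerivedCategory.standard

variable {A : Type u} [CommRing A]

section Naturality

variable (K L M : DRing.Cx A)

/-- Naturality of the Hom-tensor isomorphism in the second tensor factor. -/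
lemma homTensorIso_hom_naturality_right {L' : DRing.Cx A} (g : L' ⟶ L) :
    preMap (K ◁ g) M ≫ (homTensorIso K L' M).hom =
      (homTensorIso K L M).hom ≫ DRing.homCxMap K (preMap g M) := by
  refine HomologicalComplex.hom_ext _ _ (fun n => ?_)
  apply ModuleCat.hom_ext
  apply LinearMap.ext
  intro (α : Cochain (K ⊗ L) M n)
  change curry ((Cochain.ofHom (K ◁ g)).comp α (zero_add n)) =
    (curry α).comp (Cochain.ofHom (preMap g M)) (add_zero n)
  refine Cochain.ext _ _ (fun p q hpq => ?_)
  apply ModuleCat.hom_ext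
  apply LinearMap.ext
  intro x
  rw [curry_v_apply, Cochain.comp_zero_cochain_v, Cochain.ofHom_v]
  change _ = ((preMap g M).f q).hom (((curry α).v p q hpq).hom x)
  rw [preMap_f_apply, curry_v_apply]
  refine Cochain.ext _ _ (fun a b hab => ?_)
  apply ModuleCat.hom_ext
  apply LinearMap.ext
  intro y
  rw [curV_v_apply, Cochain.zero_cochain_comp_v, Cochain.ofHom_v, Cochain.zero_cochain_comp_v,
    Cochain.ofHom_v, ← Category.assoc, ι_whiskerLeft_f', Category.assoc]
  change _ = ((curV α p q hpq x).v a b hab).hom ((g.f a).hom y)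
  rw [curV_v_apply]
  rfl

/-- Naturality of the Hom-tensor isomorphism in the first tensor factor. -/
lemma homTensorIso_hom_naturality_left {K' : DRing.Cx A} (h : K' ⟶ K) :
    preMap (h ▷ L) M ≫ (homTensorIso K' L M).hom =
      (homTensorIso K L M).hom ≫ preMap h (DRing.homCx L M) := by
  refine HomologicalComplex.hom_ext _ _ (fun n => ?_)
  apply ModuleCat.hom_ext
  apply LinearMap.ext
  intro (α : Cochain (K ⊗ L) M n)
  change curry ((Cochain.ofHom (h ▷ L)).comp α (zero_add n)) =
    (Cochain.ofHom h).comp (curry α) (zero_add n)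
  refine Cochain.ext _ _ (fun p q hpq => ?_)
  apply ModuleCat.hom_ext
  apply LinearMap.ext
  intro x
  rw [curry_v_apply, Cochain.zero_cochain_comp_v, Cochain.ofHom_v]
  change _ = ((curry α).v p q hpq).hom ((h.f p).hom x)
  rw [curry_v_apply]
  refine Cochain.ext _ _ (fun a b hab => ?_)
  apply ModuleCat.hom_ext
  apply LinearMap.ext
  intro y
  rw [curV_v_apply, curV_v_apply, Cochain.zero_cochain_comp_v, Cochain.ofHom_v,
    ← Category.assoc, ι_whiskerRight_f, Category.assoc]
  rfl

end Naturality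

section Swap

/-- `preMap` of an isomorphism. -/
noncomputable def preMapIso {P P' : DRing.Cx A} (e : P' ≅ P) (L : DRing.Cx A) :
    DRing.homCx P L ≅ DRing.homCx P' L where
  hom := preMap e.hom L
  inv := preMap e.inv L
  hom_inv_id := by rw [← preMap_comp, Iso.inv_hom_id, preMap_id]
  inv_hom_id := by rw [← preMap_comp, Iso.hom_inv_id, preMap_id]

/-- The swap `Hom•(P, Hom•(Y, J)) ≅ Hom•(Y, Hom•(P, J))`. -/
noncomputable def swapIso (Y P J : DRing.Cx A) :
    DRing.homCx P (DRing.homCx Y J) ≅ DRing.homCx Y (DRing.homCx P J) :=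
  (homTensorIso P Y J).symm ≪≫ preMapIso (braidCx Y P) J ≪≫ homTensorIso Y P J

/-- Naturality of the swap in the inner source. -/
lemma swapIso_hom_naturality {Y Y' : DRing.Cx A} (g : Y' ⟶ Y) (P J : DRing.Cx A) :
    DRing.homCxMap P (preMap g J) ≫ (swapIso Y' P J).hom =
      (swapIso Y P J).hom ≫ preMap g (DRing.homCx P J) := by
  have h1 : DRing.homCxMap P (preMap g J) ≫ (homTensorIso P Y' J).inv =
      (homTensorIso P Y J).inv ≫ preMap (P ◁ g) J := by
    rw [Iso.comp_inv_eq, Category.assoc, homTensorIso_hom_naturality_right, Iso.inv_hom_id_assoc]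
  have h2 : preMap (P ◁ g) J ≫ preMap (braidCx Y' P).hom J =
      preMap (braidCx Y P).hom J ≫ preMap (g ▷ P) J := by
    rw [← preMap_comp, ← preMap_comp]
    congr 1
    have := braidCx_naturality g (𝟙 P)
    rw [tensorHom_id, id_tensorHom] at this
    exact this.symm
  have h3 := homTensorIso_hom_naturality_left Y P J g
  change DRing.homCxMap P (preMap g J) ≫ (homTensorIso P Y' J).inv ≫
      preMap (braidCx Y' P).hom J ≫ (homTensorIso Y' P J).hom =
    ((homTensorIso P Y J).inv ≫ preMap (braidCx Y P).hom J ≫ (homTensorIso Y P J).hom) ≫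
      preMap g (DRing.homCx P J)
  rw [← Category.assoc, h1, Category.assoc, ← Category.assoc (preMap (P ◁ g) J), h2,
    Category.assoc, h3]
  simp only [Category.assoc]

end Swap

section KInj

/-- `Hom•(P, J)` is K-injective for `P` K-projective and `J` K-injective. -/
theorem isKInjective_homCx (P J : DRing.Cx A) [P.IsKProjective] [J.IsKInjective] :
    (DRing.homCx P J).IsKInjective := by
  constructor
  intro S f hS
  have hS' : ∀ i : ℤ, IsZero (S.homology i) := fun i => by
    rw [← HomologicalComplex.exactAt_iff_isZero_homology]; exact hS i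
  have hac : (S ⊗ P).Acyclic := fun i => by
    rw [HomologicalComplex.exactAt_iff_isZero_homology]
    exact isKFlat_of_isKProjective P S hS' i
  have H : Homotopy (uncurryHom f) (uncurryHom (0 : S ⟶ DRing.homCx P J)) := by
    rw [uncurryHom_zero]
    exact IsKInjective.homotopyZero _ hac
  exact nonempty_homotopy_of_uncurryHom H

end KInj

section Unit

open Groth.Agent.Lib.Helper17 Groth.Agent.Lib.Helper17.DerKInj Groth.Agent.Lib.Helper17.DerAbs

/-- The unit `Q Hom•(E, J) ⟶ RHom(E, Q J)` is an isomorphism for K-injective `J`. -/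
lemma isIso_RHomCx_unit_app (E : DRing.Cx A) [DRing.HasRHomCx E] (J : DRing.Cx A)
    [J.IsKInjective] :
    IsIso (((DRing.homCxQ E).totalRightDerivedUnit DerivedCategory.Q
      (HomologicalComplex.quasiIso (ModuleCat.{u} A) (ComplexShape.up ℤ))).app J) :=
  DerAbs.isIso_app (enoughLocal_Q RG.hasKInjRes) (BD.compat_homCxQ E)
    (DRing.RHomCx E) _ (show PK J from (inferInstance : J.IsKInjective)) (isLocalObj_Q J)

end Unit

section Formal

lemma bijective_precomp_of_sq {C : Type*} [Category C] {X Y X' Y' : C} (φ : X ⟶ Y)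
    (φ' : X' ⟶ Y') (a : X ≅ X') (b : Y ≅ Y') (sq : a.hom ≫ φ' = φ ≫ b.hom) (E : C)
    (h : Function.Bijective (fun g : Y' ⟶ E => φ' ≫ g)) :
    Function.Bijective (fun g : Y ⟶ E => φ ≫ g) := by
  have hφ : φ = a.hom ≫ φ' ≫ b.inv := by
    rw [← Category.assoc, sq, Category.assoc, Iso.hom_inv_id, Category.comp_id]
  rw [hφ]
  exact bijective_precomp_of_iso a.hom φ' b.inv h

lemma inv_comp_eq_comp_inv_of_sq {C : Type*} [Category C] {X Y X' Y' : C} (a : X ⟶ X') (b : Y ⟶ Y')
    [IsIso a] [IsIso b] (φ : X ⟶ Y) (φ' : X' ⟶ Y') (h : φ ≫ b = a ≫ φ') :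
    inv a ≫ φ = φ' ≫ inv b := by
  rw [IsIso.inv_comp_eq, ← Category.assoc, IsIso.eq_comp_inv, h]

/-- Any object with the universal property is the derived completion, compatibly with the
canonical maps. -/
theorem exists_iso_derivedCompletion_compat (I : Ideal A) [DRing.HasDerivedCompletion I]
    (K C : Dual.D A) (u : K ⟶ C) (hC : DRing.IsDerivedComplete I C)
    (huniv : ∀ C₀ : Dual.D A, DRing.IsDerivedComplete I C₀ →
      Function.Bijective (fun g : C ⟶ C₀ => u ≫ g)) :
    ∃ e : C ≅ ((DRing.derivedCompletion I).obj K).obj,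
      u ≫ e.hom = DRing.toDerivedCompletion I K := by
  let L := (DRing.derivedCompletion I).obj K
  let η : K ⟶ L.obj := DRing.toDerivedCompletion I K
  obtain ⟨g, hg⟩ := (huniv L.obj L.property).2 η
  let C' : DRing.DComp I := ⟨C, hC⟩
  let g'' : L ⟶ C' := ((DRing.derivedCompletionAdj I).homEquiv K C').symm u
  have hg'' : η ≫ g''.hom = u := by
    have := ((DRing.derivedCompletionAdj I).homEquiv K C').apply_symm_apply u
    rw [Adjunction.homEquiv_unit] at this
    exact this
  refine ⟨⟨g, g''.hom, ?_, ?_⟩, hg⟩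
  · apply (huniv C hC).1
    change u ≫ g ≫ g''.hom = u ≫ 𝟙 C
    have hg' : u ≫ g = η := hg
    rw [← Category.assoc, hg', hg'', Category.comp_id]
  · have h1 : g'' ≫ (ObjectProperty.homMk g : C' ⟶ L) = 𝟙 L := by
      apply ((DRing.derivedCompletionAdj I).homEquiv K L).injective
      rw [Adjunction.homEquiv_unit, Adjunction.homEquiv_unit]
      change η ≫ (g''.hom ≫ g) = η ≫ 𝟙 _
      have hg' : u ≫ g = η := hg
      rw [← Category.assoc, hg'', hg', Category.comp_id]
    exact congrArg (fun m => (ObjectProperty.ι (DRing.IsDerivedComplete I)).map m) h1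

end Formal

section Main

/-- `Q Hom•(Č, J)` with the augmentation is a completion of `Q J` along the list. -/
theorem completion_homCx_extCech (fs : List A) (J : DRing.Cx A) [J.IsKInjective] :
    (∀ f ∈ fs, HomVanish f (DerivedCategory.Q.obj
      (DRing.homCx (DerCA.extCech (ModuleCat.of A A) fs) J))) ∧
    ∀ C₀ : Dual.D A, (∀ f ∈ fs, HomVanish f C₀) →
      Function.Bijective (fun g : DerivedCategory.Q.obj
          (DRing.homCx (DerCA.extCech (ModuleCat.of A A) fs) J) ⟶ C₀ =>
        DerivedCategory.Q.map ((homCxUnitIso J).hom ≫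
          preMap (aug (ModuleCat.of A A) fs) J) ≫ g) := by
  refine ⟨fun f hf => homVanish_homCx_extCech _ fs J f hf, fun C₀ h0 => ?_⟩
  have hb := bijective_precomp_aug (ModuleCat.of A A) J fs C₀ h0
  have hb2 : Function.Bijective (fun g : DerivedCategory.Q.obj (DRing.homCx
      ((HomologicalComplex.single (ModuleCat.{u} A) (ComplexShape.up ℤ) 0).obj
        (ModuleCat.of A A)) J) ⟶ C₀ =>
      (DerivedCategory.Q.mapIso (homCxUnitIso J)).hom ≫ g) :=
    ⟨fun α α' h => (cancel_epi (DerivedCategory.Q.mapIso (homCxUnitIso J)).hom).1 h,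
      fun γ => ⟨(DerivedCategory.Q.mapIso (homCxUnitIso J)).inv ≫ γ, by simp⟩⟩
  have : (fun g : DerivedCategory.Q.obj
        (DRing.homCx (DerCA.extCech (ModuleCat.of A A) fs) J) ⟶ C₀ =>
      DerivedCategory.Q.map ((homCxUnitIso J).hom ≫
        preMap (aug (ModuleCat.of A A) fs) J) ≫ g) =
      (fun g => (DerivedCategory.Q.mapIso (homCxUnitIso J)).hom ≫ g) ∘
      (fun ψ : DerivedCategory.Q.obj
          (DRing.homCx (DerCA.extCech (ModuleCat.of A A) fs) J) ⟶ C₀ =>
        DerivedCategory.Q.map (preMap (aug (ModuleCat.of A A) fs) J) ≫ ψ) := by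
    funext g
    simp only [Function.comp, Functor.mapIso_hom, Functor.map_comp, Category.assoc]
  rw [this]
  exact hb2.comp hb

/-- **`RHom(K, -)` commutes with derived completion.** -/
theorem derivedCompletion_RHomCx (I : Ideal A) (hI : I.FG) [DRing.HasDerivedCompletion I]
    (K : DRing.Cx A) [DRing.HasRHomCx K] (L : Dual.D A) :
    DRing.IsDerivedComplete I
        ((DRing.RHomCx K).obj ((DRing.derivedCompletion I).obj L).obj) ∧
      ∀ E : Dual.D A, DRing.IsDerivedComplete I E →
        Function.Bijective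
          (fun φ : (DRing.RHomCx K).obj ((DRing.derivedCompletion I).obj L).obj ⟶ E =>
            (DRing.RHomCx K).map (DRing.toDerivedCompletion I L) ≫ φ) := by
  classical
  obtain ⟨s, hs⟩ := hI
  have key := isDerivedComplete_iff_of_span I s hs
  obtain ⟨J, hJ, eJ, -⟩ := exists_res L
  let Č : DRing.Cx A := DerCA.extCech (ModuleCat.of A A) s.toList
  let U : DRing.Cx A := (HomologicalComplex.single (ModuleCat.{u} A) (ComplexShape.up ℤ) 0).obj
    (ModuleCat.of A A)
  let P : DRing.Cx A := res K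
  let r : P ⟶ K := resMap K
  have hP : P.IsKProjective := res_isKProjective K
  have hr : QuasiIso r := quasiIso_resMap K
  let H : DRing.Cx A := DRing.homCx Č J
  obtain ⟨J₂, j, hJ₂, hj, -⟩ := exists_res_cx H
  let κ : J ≅ DRing.homCx U J := homCxUnitIso J
  let au : Č ⟶ U := aug (ModuleCat.of A A) s.toList
  let u : L ⟶ DerivedCategory.Q.obj H := eJ.hom ≫ DerivedCategory.Q.map (κ.hom ≫ preMap au J)
  obtain ⟨hC1, hC2⟩ := completion_homCx_extCech s.toList J
  have hC : DRing.IsDerivedComplete I (DerivedCategory.Q.obj H) := (key _).2 hC1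
  have huniv : ∀ C₀ : Dual.D A, DRing.IsDerivedComplete I C₀ →
      Function.Bijective (fun g : DerivedCategory.Q.obj H ⟶ C₀ => u ≫ g) := by
    intro C₀ h0
    have h1 := hC2 C₀ ((key C₀).1 h0)
    have hb2 : Function.Bijective (fun g : DerivedCategory.Q.obj J ⟶ C₀ => eJ.hom ≫ g) :=
      ⟨fun α α' h => (cancel_epi eJ.hom).1 h, fun γ => ⟨eJ.inv ≫ γ, by simp⟩⟩
    have : (fun g : DerivedCategory.Q.obj H ⟶ C₀ => u ≫ g) =
        (fun g : DerivedCategory.Q.obj J ⟶ C₀ => eJ.hom ≫ g) ∘
        (fun g : DerivedCategory.Q.obj H ⟶ C₀ =>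
          DerivedCategory.Q.map (κ.hom ≫ preMap au J) ≫ g) := by
      funext g
      simp only [u, Function.comp, Category.assoc]
    rw [this]
    exact hb2.comp h1
  obtain ⟨e, he⟩ := exists_iso_derivedCompletion_compat I L (DerivedCategory.Q.obj H) u hC huniv
  -- the K-injective complex `J' = Hom•(P, J)`
  let J' : DRing.Cx A := DRing.homCx P J
  have hJ' : J'.IsKInjective := isKInjective_homCx P J
  let θ : J ⟶ J₂ := κ.hom ≫ preMap au J ≫ j
  let ν := (DRing.homCxQ K).totalRightDerivedUnit DerivedCategory.Q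
      (HomologicalComplex.quasiIso (ModuleCat.{u} A) (ComplexShape.up ℤ))
  have hν1 : IsIso (ν.app J) := isIso_RHomCx_unit_app K J
  have hν2 : IsIso (ν.app J₂) := isIso_RHomCx_unit_app K J₂
  have hQj : IsIso (DerivedCategory.Q.map j) := by
    rw [DerivedCategory.isIso_Q_map_iff_quasiIso]; exact hj
  have hr1 : IsIso (DerivedCategory.Q.map (preMap r J)) := by
    rw [DerivedCategory.isIso_Q_map_iff_quasiIso]
    exact HOp.quasiIso_preMap_of_isKInjective r J
  have hr2 : IsIso (DerivedCategory.Q.map (preMap r J₂)) := by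
    rw [DerivedCategory.isIso_Q_map_iff_quasiIso]
    exact HOp.quasiIso_preMap_of_isKInjective r J₂
  have hPj : IsIso (DerivedCategory.Q.map (DRing.homCxMap P j)) := isIso_Q_map_homCxMap P j
  -- the isomorphisms of targets
  let b₁ : (DRing.RHomCx K).obj ((DRing.derivedCompletion I).obj L).obj ≅
      (DRing.RHomCx K).obj (DerivedCategory.Q.obj J₂) :=
    (DRing.RHomCx K).mapIso (e.symm ≪≫ asIso (DerivedCategory.Q.map j))
  let b₂ : (DRing.RHomCx K).obj (DerivedCategory.Q.obj J₂) ≅
      DerivedCategory.Q.obj (DRing.homCx K J₂) := (asIso (ν.app J₂)).symm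
  let b₃ : DerivedCategory.Q.obj (DRing.homCx K J₂) ≅ DerivedCategory.Q.obj (DRing.homCx P J₂) :=
    asIso (DerivedCategory.Q.map (preMap r J₂))
  let b₄ : DerivedCategory.Q.obj (DRing.homCx P J₂) ≅ DerivedCategory.Q.obj (DRing.homCx P H) :=
    (asIso (DerivedCategory.Q.map (DRing.homCxMap P j))).symm
  let b₅ : DerivedCategory.Q.obj (DRing.homCx P H) ≅ DerivedCategory.Q.obj (DRing.homCx Č J') :=
    DerivedCategory.Q.mapIso (swapIso Č P J)
  -- the isomorphisms of sources
  let a₁ : (DRing.RHomCx K).obj L ≅ (DRing.RHomCx K).obj (DerivedCategory.Q.obj J) :=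
    (DRing.RHomCx K).mapIso eJ
  let a₂ : (DRing.RHomCx K).obj (DerivedCategory.Q.obj J) ≅
      DerivedCategory.Q.obj (DRing.homCx K J) := (asIso (ν.app J)).symm
  let a₃ : DerivedCategory.Q.obj (DRing.homCx K J) ≅ DerivedCategory.Q.obj (DRing.homCx P J) :=
    asIso (DerivedCategory.Q.map (preMap r J))
  let a₄ : DerivedCategory.Q.obj (DRing.homCx P J) ≅
      DerivedCategory.Q.obj (DRing.homCx P (DRing.homCx U J)) :=
    DerivedCategory.Q.mapIso ((DRing.homCxFunctor P).mapIso κ)
  let a₅ : DerivedCategory.Q.obj (DRing.homCx P (DRing.homCx U J)) ≅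
      DerivedCategory.Q.obj (DRing.homCx U J') :=
    DerivedCategory.Q.mapIso (swapIso U P J)
  refine ⟨(key _).2 (fun f hf => HomVanish.of_iso (b₁ ≪≫ b₂ ≪≫ b₃ ≪≫ b₄ ≪≫ b₅).symm
    (homVanish_homCx_extCech _ s.toList J' f hf)), fun E hE => ?_⟩
  -- step 1
  refine bijective_precomp_of_sq _ ((DRing.RHomCx K).map (DerivedCategory.Q.map θ)) a₁ b₁ ?_ E ?_
  · change (DRing.RHomCx K).map eJ.hom ≫ (DRing.RHomCx K).map (DerivedCategory.Q.map θ) =
      (DRing.RHomCx K).map (DRing.toDerivedCompletion I L) ≫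
        (DRing.RHomCx K).map (e.inv ≫ DerivedCategory.Q.map j)
    rw [← Functor.map_comp, ← Functor.map_comp]
    congr 1
    rw [← he, Category.assoc, Iso.hom_inv_id_assoc]
    simp only [u, θ, Functor.map_comp, Category.assoc]
  -- step 2
  refine bijective_precomp_of_sq _ (DerivedCategory.Q.map (DRing.homCxMap K θ)) a₂ b₂ ?_ E ?_
  · change inv (ν.app J) ≫ DerivedCategory.Q.map (DRing.homCxMap K θ) =
      (DRing.RHomCx K).map (DerivedCategory.Q.map θ) ≫ inv (ν.app J₂)
    exact inv_comp_eq_comp_inv_of_sq (ν.app J) (ν.app J₂) _ _ (ν.naturality θ)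
  -- step 3
  refine bijective_precomp_of_sq _ (DerivedCategory.Q.map (DRing.homCxMap P θ)) a₃ b₃ ?_ E ?_
  · change DerivedCategory.Q.map (preMap r J) ≫ DerivedCategory.Q.map (DRing.homCxMap P θ) =
      DerivedCategory.Q.map (DRing.homCxMap K θ) ≫ DerivedCategory.Q.map (preMap r J₂)
    rw [← Functor.map_comp, ← Functor.map_comp, HOp.homCxMap_preMap_comm]
  -- step 4
  refine bijective_precomp_of_sq _ (DerivedCategory.Q.map (DRing.homCxMap P (preMap au J)))
    a₄ b₄ ?_ E ?_
  · change DerivedCategory.Q.map (DRing.homCxMap P κ.hom) ≫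
        DerivedCategory.Q.map (DRing.homCxMap P (preMap au J)) =
      DerivedCategory.Q.map (DRing.homCxMap P θ) ≫ inv (DerivedCategory.Q.map (DRing.homCxMap P j))
    have hcomp : (DRing.homCxMap P κ.hom ≫ DRing.homCxMap P (preMap au J)) ≫
        DRing.homCxMap P j = DRing.homCxMap P θ := by
      change ((DRing.homCxFunctor P).map κ.hom ≫ (DRing.homCxFunctor P).map (preMap au J)) ≫
        (DRing.homCxFunctor P).map j = (DRing.homCxFunctor P).map (κ.hom ≫ preMap au J ≫ j)
      rw [← Functor.map_comp, ← Functor.map_comp, Category.assoc]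
    rw [IsIso.eq_comp_inv, ← Functor.map_comp, ← Functor.map_comp, hcomp]
  -- step 5
  refine bijective_precomp_of_sq _ (DerivedCategory.Q.map (preMap au J')) a₅ b₅ ?_ E ?_
  · change DerivedCategory.Q.map (swapIso U P J).hom ≫ DerivedCategory.Q.map (preMap au J') =
      DerivedCategory.Q.map (DRing.homCxMap P (preMap au J)) ≫
        DerivedCategory.Q.map (swapIso Č P J).hom
    rw [← Functor.map_comp, ← Functor.map_comp, swapIso_hom_naturality]
  exact bijective_precomp_aug (ModuleCat.of A A) J' s.toList E ((key E).1 hE)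

end Main

end Groth.Agent.Lib.Helper13.LDC
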