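import Groth.Agent.Lib.Helper13.INV2
import Groth.Agent.Lib.Helper13.LDC6
import Groth.Agent.Lib.Helper13.RHomCxV

/-!
# `RHom(L, ω)` is dualizing for an invertible module `L` placed in some degree
-/

set_option autoImplicit false
set_option maxHeartbeats 800000
set_option linter.style.haveILetI false
universe u
open CategoryTheory CategoryTheory.Limits MonoidalCategory Opposite
open CochainComplex CochainComplex.HomComplex HomologicalComplex
open scoped TensorProduct

namespace Groth.Agent.Lib.Helper13.INV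

open Groth.Agent.Lib.Helper13.BDX Groth.Agent.Lib.Helper13.DR Groth.Agent.Lib.Helper13.TFD
  Groth.Agent.Lib.Helper13.HOp Groth.Agent.Lib.Helper13.BD Groth.Agent.Lib.Helper13.PC
  Groth.Agent.Lib.Helper13.DV
open DerivedCategory

attribute [local instance] HasDerivedCategory.standard

variable {A : Type u} [CommRing A]

/-- If `End(K)` is abstractly free of rank one, then `A → End(K)` is bijective. -/
theorem bijective_toEnd_of_linearEquiv (K : Dual.D A) (e : (K ⟶ K) ≃ₗ[A] A) :
    Function.Bijective (fun a : A => a • 𝟙 K) := by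
  let u : K ⟶ K := e.symm 1
  have hu : ∀ f : K ⟶ K, f = e f • u := fun f => by
    apply e.injective
    rw [map_smul, LinearEquiv.apply_symm_apply, smul_eq_mul, mul_one]
  let c := e (𝟙 K)
  let d := e (u ≫ u)
  have h1 : 𝟙 K = c • u := hu _
  have h2 : u ≫ u = d • u := hu _
  have h3 : u = (c * d) • u := by
    calc u = u ≫ 𝟙 K := (Category.comp_id u).symm
      _ = u ≫ (c • u) := by rw [← h1]
      _ = c • (u ≫ u) := Linear.comp_smul _ _ _ _ _ _
      _ = c • (d • u) := by rw [h2]
      _ = (c * d) • u := by rw [smul_smul]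
  have hcd : c * d = 1 := by
    have := congrArg e h3
    rw [map_smul, LinearEquiv.apply_symm_apply, smul_eq_mul, mul_one] at this
    exact this.symm
  constructor
  · intro a a' haa'
    have h4 : (a * c) • u = (a' * c) • u := by
      have : a • 𝟙 K = a' • 𝟙 K := haa'
      rw [h1, smul_smul, smul_smul] at this
      exact this
    have h5 := congrArg e h4
    rw [map_smul, map_smul, LinearEquiv.apply_symm_apply, smul_eq_mul, smul_eq_mul, mul_one,
      mul_one] at h5
    calc a = a * (c * d) := by rw [hcd, mul_one]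
      _ = (a * c) * d := by ring
      _ = (a' * c) * d := by rw [h5]
      _ = a' * (c * d) := by ring
      _ = a' := by rw [hcd, mul_one]
  · intro f
    refine ⟨e f * d, ?_⟩
    change (e f * d) • 𝟙 K = f
    rw [h1, smul_smul]
    have : e f * d * c = e f := by
      calc e f * d * c = e f * (c * d) := by ring
        _ = e f := by rw [hcd, mul_one]
    rw [this]
    exact (hu f).symm


section Self

variable (P' : Type u) [AddCommGroup P'] [Module A P'] (k : ℤ)

lemma isZero_homCx_E₀_self_X (i : ℤ) (hi : i ≠ 0) :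
    IsZero ((DRing.homCx (E₀ (A := A) P' k) (E₀ P' k)).X i) :=
  isZero_homCx_X _ _ i (fun p => by
    by_cases hp : p = k
    · exact Or.inr (HomologicalComplex.isZero_single_obj_X _ _ _ _ (by lia))
    · exact Or.inl (HomologicalComplex.isZero_single_obj_X _ _ _ _ hp))

/-- `H^0(Hom•(P'[-k], P'[-k])) ≅ End(P')`. -/
noncomputable def homologyZeroEquiv :
    (DRing.homCx (E₀ (A := A) P' k) (E₀ P' k)).homology 0 ≃ₗ[A] (P' →ₗ[A] P') := by
  let K := DRing.homCx (E₀ (A := A) P' k) (E₀ P' k)
  have h1 : K.d (-1) 0 = 0 := (isZero_homCx_E₀_self_X P' k (-1) (by lia)).eq_of_src _ _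
  have h2 : K.d 0 1 = 0 := (isZero_homCx_E₀_self_X P' k 1 (by lia)).eq_of_tgt _ _
  let e1 : K.homology 0 ≅ K.X 0 :=
    (K.isoHomologyπ (-1) 0 (by simp) h1).symm ≪≫ K.iCyclesIso 0 1 (by simp) h2
  let e2 : Cochain (E₀ (A := A) P' k) (E₀ P' k) 0 ≃ₗ[A] (ModuleCat.of A P' ⟶ (E₀ (A := A) P' k).X k) :=
    fromSingleLin (ModuleCat.of A P') (E₀ P' k) (add_zero k)
  let e3 : (ModuleCat.of A P' ⟶ (E₀ (A := A) P' k).X k) ≃ₗ[A] (ModuleCat.of A P' ⟶ ModuleCat.of A P') :=
    Linear.homCongr A (Iso.refl _)
      (HomologicalComplex.singleObjXSelf (ComplexShape.up ℤ) k (ModuleCat.of A P'))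
  exact e1.toLinearEquiv ≪≫ₗ e2 ≪≫ₗ e3 ≪≫ₗ
    (ModuleCat.homLinearEquiv (S := A) (M := ModuleCat.of A P') (N := ModuleCat.of A P'))

end Self


section Main

variable [IsNoetherianRing A] (I : DRing.Cx A)
  (hJ : ∀ q, Injective (I.X q)) [I.IsKInjective] (hI : DRing.TermwiseInjective I)
  (h4 : Function.Bijective (fun a : A => a • 𝟙 (Q.obj I : Dual.D A)))
  (h5 : ∀ i : ℤ, i ≠ 0 → Subsingleton ((Q.obj I : Dual.D A) ⟶ (Q.obj I)⟦i⟧))
  (a b : ℤ) (hv : DRing.VanishesOutside I a b) (hab : a ≤ b)
  (hIfin : ∀ i : ℤ, Module.Finite A (Dual.HD A (Q.obj I) i))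
  (P' : Type u) [AddCommGroup P'] [Module A P'] [Module.Invertible A P'] (k : ℤ)

include hJ hI h4 h5 hv hab hIfin

/-- **`RHom(P'[-k], ω)` is dualizing** for an invertible module `P'`. -/
theorem isDualizing_homCx_single :
    Dual.IsDualizing A (Q.obj (DRing.homCx (E₀ (A := A) P' k) I)) := by
  let E := E₀ (A := A) P' k
  let X := DRing.homCx E I
  have hEz : ∀ i : ℤ, i ≠ k → IsZero (E.X i) := fun i hi =>
    HomologicalComplex.isZero_single_obj_X _ _ _ _ hi
  have hEproj : ∀ i : ℤ, Projective (E.X i) := by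
    intro i
    by_cases hi : i = k
    · subst hi
      have : Projective (ModuleCat.of A P') := (projective_iff _).2 inferInstance
      exact Projective.of_iso
        (HomologicalComplex.singleObjXSelf (ComplexShape.up ℤ) i (ModuleCat.of A P')).symm this
    · have := ModuleCat.subsingleton_of_isZero (hEz i hi)
      exact (projective_iff _).2 (Module.Projective.of_free)
  have hEflat : ∀ i : ℤ, Module.Flat A (E.X i) := fun i => by
    have := (projective_iff _).1 (hEproj i)
    infer_instance
  have hEK : E.IsKProjective :=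
    isKProjective_of_forall_projective E k (fun i hi => hEz i (by lia)) hEproj
  have hXK : X.IsKInjective := Groth.Agent.Lib.Helper13.LDC.isKInjective_homCx E I
  have hEfin : ∀ i : ℤ, Module.Finite A (Dual.HD A (Q.obj E) i) := by
    intro i
    by_cases hi : i = k
    · subst hi
      exact Module.Finite.equiv (HD_E₀_iso P' i).symm.toLinearEquiv
    · have := ModuleCat.subsingleton_of_isZero (isZero_HD_E₀ (A := A) P' k i hi)
      infer_instance
  have hbid : QuasiIso (bid E I) :=
    bidQis_single_finite I hJ h4 h5 a b hv hab k (ModuleCat.of A P')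
  have hamp : DRing.HasInjAmplitudeIn A (a - k) (b - k) (Q.obj X) :=
    ⟨X, vanishesOutside_homCx E I k k a b (fun i hi => hEz i (by lia)) hv,
      termwiseInjective_homCx E I hEflat hI, ⟨Iso.refl _⟩⟩
  have hq : IsIso (Q.map (DRing.homCxMap E (bid E I))) :=
    Groth.Agent.Lib.Helper13.DV.isIso_Q_map_homCxMap E (bid E I)
  rw [isIso_Q_map_iff_quasiIso] at hq
  have hqi : ∀ i : ℤ, IsIso (HomologicalComplex.homologyMap (DRing.homCxMap E (bid E I)) i) :=
    fun i => by
      rw [← quasiIsoAt_iff_isIso_homologyMap]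
      infer_instance
  have hEnd : ∀ i : ℤ, ((Q.obj X : Dual.D A) ⟶ (Q.obj X)⟦i⟧) ≃ₗ[A]
      (DRing.homCx E E).homology i := fun i =>
    haveI := hqi i
    (homEquiv X X i).symm ≪≫ₗ
      ((HomologicalComplex.homologyFunctor (ModuleCat.{u} A) (ComplexShape.up ℤ) i).mapIso
        (Groth.Agent.Lib.Helper13.LDC.swapIso E X I)).toLinearEquiv ≪≫ₗ
      (asIso (HomologicalComplex.homologyMap (DRing.homCxMap E (bid E I)) i)).toLinearEquiv.symm
  refine ⟨inferInstance, ⟨a - k, b - k, fun M _ _ j hj =>
    ext_subsingleton_of_hasInjAmplitudeIn _ _ _ hamp M j hj⟩, fun i => ?_, ?_, fun i hi => ?_⟩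
  · have := finite_homology_homCx I a b hv E hEfin hIfin i
    exact Module.Finite.equiv (homologyQIso X i).symm.toLinearEquiv
  · apply bijective_toEnd_of_linearEquiv
    have hb : Function.Bijective (LinearMap.lsmul A P') :=
      Module.Invertible.toModuleEnd_bijective (R := A) (M := P')
    exact (Linear.homCongr A (Iso.refl (Q.obj X : Dual.D A))
        ((shiftFunctorZero (Dual.D A) ℤ).app (Q.obj X)).symm) ≪≫ₗ hEnd 0 ≪≫ₗ
      homologyZeroEquiv P' k ≪≫ₗ (LinearEquiv.ofBijective (LinearMap.lsmul A P') hb).symm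
  · have hz : IsZero ((DRing.homCx E E).homology i) :=
      ShortComplex.isZero_homology_of_isZero_X₂ _ (isZero_homCx_E₀_self_X P' k i hi)
    have := ModuleCat.subsingleton_of_isZero hz
    exact (hEnd i).toEquiv.subsingleton

end Main


/-- **S11183**: `(ω ⊗^L P)[n]` is dualizing for `P` invertible. -/
theorem isDualizing_twist [IsNoetherianRing A] (ω : Dual.D A) (hω : Dual.IsDualizing A ω)
    (P : Type u) [AddCommGroup P] [Module A P] [Module.Invertible A P]
    [DRing.HasLTensor A (ModuleCat.of A P)] (n : ℤ) :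
    Dual.IsDualizing A (((DRing.LTensor A (ModuleCat.of A P)).obj ω)⟦n⟧) := by
  have hfinω := hω.finite_cohomology
  obtain ⟨I, a, b, hIinj, hKI, hI, hab, hv, h4, h5, ⟨e⟩⟩ := exists_injective_model ω hω
  haveI : DRing.HasLTensor A (ModuleCat.of A (Module.Dual A (Module.Dual A P))) :=
    Groth.Agent.Lib.Helper13.Shriek.hasLeftDerivedFunctor_Kh _
  obtain ⟨e1⟩ := nonempty_LTensor_shift_iso_homCx P I n
  have hIfin : ∀ i : ℤ, Module.Finite A (Dual.HD A (Q.obj I) i) := fun i => by
    have := hfinω i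
    exact Module.Finite.equiv
      ((DerivedCategory.homologyFunctor (ModuleCat.{u} A) i).mapIso e).symm.toLinearEquiv
  have h := isDualizing_homCx_single I hIinj hI h4 h5 a b hv hab hIfin (Module.Dual A P) n
  exact Groth.Agent.Lib.Helper13.DualBC.isDualizing_of_iso
    (e1.symm ≪≫ (CategoryTheory.shiftFunctor (Dual.D A) n).mapIso
      ((DRing.LTensor A (ModuleCat.of A P)).mapIso e)) h

end Groth.Agent.Lib.Helper13.INV
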