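import Mathlib.RingTheory.PicardGroup
import Mathlib.RingTheory.TensorProduct.Basic
import Mathlib.Algebra.Module.Projective

/-!
# `Hom_R(I, R) / R ≅ N` for an invertible kernel `I` of `R → A` and an inverse `N` of `A ⊗ I`
-/

set_option autoImplicit false
universe u
open TensorProduct

namespace Groth.Agent.Lib.Helper13.IK

variable {R A : Type u} [CommRing R] [CommRing A] [Algebra R A]
  (hφ : Function.Surjective (algebraMap R A))
  [Module.Invertible R (RingHom.ker (algebraMap R A))]
  {N : Type u} [AddCommGroup N] [Module A N] [Module R N] [IsScalarTower R A N]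
  (e : (A ⊗[R] (RingHom.ker (algebraMap R A))) ⊗[A] N ≃ₗ[A] A)

/-- `N ≃ Hom_A(A ⊗ I, A)`. -/
noncomputable def dualEquiv : N ≃ₗ[A] Module.Dual A (A ⊗[R] (RingHom.ker (algebraMap R A))) :=
  Module.Invertible.linearEquivDual (TensorProduct.comm A N _ ≪≫ₗ e)

lemma dualEquiv_apply (n : N) (y : A ⊗[R] (RingHom.ker (algebraMap R A))) :
    dualEquiv e n y = e (y ⊗ₜ n) := rfl

/-- The map `Hom_R(I, R) → N`. -/
noncomputable def piMap : ((RingHom.ker (algebraMap R A)) →ₗ[R] R) →ₗ[R] N :=
  ((dualEquiv e).symm.toLinearMap.restrictScalars R) ∘ₗ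
    ((LinearMap.liftBaseChangeEquiv (R := R) (M := RingHom.ker (algebraMap R A)) (N := A)
      A).toLinearMap.restrictScalars R) ∘ₗ
    (LinearMap.compRight R (M := RingHom.ker (algebraMap R A)) (Algebra.linearMap R A))

lemma piMap_apply (g : (RingHom.ker (algebraMap R A)) →ₗ[R] R) :
    piMap e g = (dualEquiv e).symm
      (LinearMap.liftBaseChange A ((Algebra.linearMap R A) ∘ₗ g)) := rfl

include hφ in
lemma piMap_surjective : Function.Surjective (piMap e) := by
  intro n
  let l : (RingHom.ker (algebraMap R A)) →ₗ[R] A :=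
    (LinearMap.liftBaseChangeEquiv (R := R) (M := RingHom.ker (algebraMap R A)) (N := A) A).symm
      (dualEquiv e n)
  obtain ⟨g, hg⟩ := Module.projective_lifting_property (Algebra.linearMap R A) l hφ
  refine ⟨g, ?_⟩
  rw [piMap_apply, hg]
  dsimp only [l]
  have : LinearMap.liftBaseChange A ((LinearMap.liftBaseChangeEquiv (R := R)
      (M := RingHom.ker (algebraMap R A)) (N := A) A).symm (dualEquiv e n)) = dualEquiv e n :=
    (LinearMap.liftBaseChangeEquiv (R := R) (M := RingHom.ker (algebraMap R A)) (N := A)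
      A).apply_symm_apply _
  rw [this, LinearEquiv.symm_apply_apply]

lemma piMap_eq_zero_iff (g : (RingHom.ker (algebraMap R A)) →ₗ[R] R) :
    piMap e g = 0 ↔ ∃ r : R, g = r • (Submodule.subtype (RingHom.ker (algebraMap R A))) := by
  rw [piMap_apply, LinearEquiv.map_eq_zero_iff]
  erw [LinearEquiv.map_eq_zero_iff]
  constructor
  · intro h
    have hmem : ∀ x, g x ∈ RingHom.ker (algebraMap R A) := fun x => by
      rw [RingHom.mem_ker]
      exact LinearMap.congr_fun h x
    let g' : (RingHom.ker (algebraMap R A)) →ₗ[R] (RingHom.ker (algebraMap R A)) :=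
      g.codRestrict _ hmem
    obtain ⟨r, hr⟩ := (Module.Invertible.toModuleEnd_bijective R
      (RingHom.ker (algebraMap R A))).surjective g'
    refine ⟨r, ?_⟩
    ext x
    have := congrArg (fun t : Module.End R (RingHom.ker (algebraMap R A)) => ((t x : _) : R)) hr
    simp only [g', LinearMap.codRestrict_apply] at this
    rw [← this]
    simp
  · rintro ⟨r, rfl⟩
    ext x
    simp only [LinearMap.coe_comp, Function.comp_apply, LinearMap.smul_apply, Submodule.subtype_apply,
      Algebra.linearMap_apply, LinearMap.zero_apply, smul_eq_mul, map_mul]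
    have : algebraMap R A (x : R) = 0 := (RingHom.mem_ker).1 x.2
    rw [this, mul_zero]

end Groth.Agent.Lib.Helper13.IK
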