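import Groth.Agent.Lib.Helper13.HomOp1
import Groth.Agent.Lib.Helper13.RHomLoc1
import Mathlib.Algebra.Homology.HomotopyCategory.HomComplexSingle

/-!
# Cochains from a module in degree `0` to the unit complex
-/

set_option autoImplicit false
universe u
open CategoryTheory CategoryTheory.Limits MonoidalCategory
open CochainComplex CochainComplex.HomComplex HomologicalComplex

namespace Groth.Agent.Lib.Helper13.IK

variable {R : Type u} [CommRing R]

/-- A module in degree `0`. -/
noncomputable abbrev S0 (X : ModuleCat.{u} R) : DRing.Cx R :=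
  (CochainComplex.singleFunctor (ModuleCat.{u} R) 0).obj X

variable (R) in
/-- The unit complex `R[0]`. -/
noncomputable abbrev U : DRing.Cx R := 𝟙_ (DRing.Cx R)

variable (R) in
/-- `U^0 ≅ R`. -/
noncomputable abbrev uIso : (U R).X 0 ≅ ModuleCat.of R R :=
  HomologicalComplex.singleObjXSelf (ComplexShape.up ℤ) 0 (𝟙_ (ModuleCat.{u} R))

lemma subsingleton_cochain_S0_U (X : ModuleCat.{u} R) (m : ℤ) (hm : m ≠ 0) :
    Subsingleton (Cochain (S0 X) (U R) m) := by
  have hz : IsZero ((U R).X m) :=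
    HomologicalComplex.isZero_single_obj_X (ComplexShape.up ℤ) 0 (𝟙_ (ModuleCat.{u} R)) m hm
  refine ⟨fun a b => ?_⟩
  apply (Cochain.fromSingleEquiv (X := X) (K := U R) (p := 0) (zero_add m)).injective
  exact hz.eq_of_tgt _ _

/-- Cochains of degree `0` from `X[0]` to the unit are linear forms on `X`. -/
noncomputable def toLin (X : ModuleCat.{u} R) : Cochain (S0 X) (U R) 0 ≃ₗ[R] (X →ₗ[R] R) where
  toFun c := (Cochain.fromSingleEquiv (X := X) (K := U R) (p := 0) (zero_add 0) c ≫
    (uIso R).hom).hom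
  invFun g := Cochain.fromSingleMk (X := X) (K := U R) (p := 0)
    (ModuleCat.ofHom g ≫ (uIso R).inv) (zero_add 0)
  map_add' c c' := by
    rw [map_add, Preadditive.add_comp]
    rfl
  map_smul' a c := by
    have : Cochain.fromSingleEquiv (X := X) (K := U R) (p := 0) (zero_add 0) (a • c) =
        a • Cochain.fromSingleEquiv (X := X) (K := U R) (p := 0) (zero_add 0) c := by
      simp only [Cochain.fromSingleEquiv, AddEquiv.coe_mk, Equiv.coe_fn_mk, Cochain.smul_v]
      erw [Linear.comp_smul]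
    rw [this, Linear.smul_comp]
    rfl
  left_inv c := by
    dsimp only
    have : ModuleCat.ofHom (Cochain.fromSingleEquiv (X := X) (K := U R) (p := 0) (zero_add 0) c ≫
        (uIso R).hom).hom ≫ (uIso R).inv =
        Cochain.fromSingleEquiv (X := X) (K := U R) (p := 0) (zero_add 0) c := by
      rw [ModuleCat.ofHom_hom, Category.assoc, Iso.hom_inv_id, Category.comp_id]
    rw [this]
    exact (Cochain.fromSingleEquiv (X := X) (K := U R) (p := 0) (zero_add 0)).symm_apply_apply c
  right_inv g := by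
    dsimp only
    rw [Cochain.fromSingleEquiv_fromSingleMk, Category.assoc, Iso.inv_hom_id, Category.comp_id]
    rfl

lemma toLin_precomp {X X' : ModuleCat.{u} R} (u : X' ⟶ X) (c : Cochain (S0 X) (U R) 0) :
    toLin X' ((Cochain.ofHom ((CochainComplex.singleFunctor (ModuleCat.{u} R) 0).map u)).comp c
      (zero_add 0)) = (toLin X c) ∘ₗ u.hom := by
  obtain ⟨g, rfl⟩ := (toLin X).symm.surjective c
  rw [LinearEquiv.apply_symm_apply]
  change toLin X' ((Cochain.ofHom ((CochainComplex.singleFunctor (ModuleCat.{u} R) 0).map u)).comp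
    (Cochain.fromSingleMk (X := X) (K := U R) (p := 0)
      (ModuleCat.ofHom g ≫ (uIso R).inv) (zero_add 0)) (zero_add 0)) = _
  rw [← Cochain.fromSingleMk_precomp]
  have : u ≫ ModuleCat.ofHom g ≫ (uIso R).inv = ModuleCat.ofHom (g ∘ₗ u.hom) ≫ (uIso R).inv := by
    rw [← Category.assoc]
    rfl
  rw [this]
  exact (toLin X').apply_symm_apply (g ∘ₗ u.hom)

section Cone

variable (I : Ideal R)

/-- The inclusion `I[0] ⟶ R[0]`. -/
noncomputable abbrev fI : S0 (ModuleCat.of R I) ⟶ S0 (ModuleCat.of R R) :=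
  (CochainComplex.singleFunctor (ModuleCat.{u} R) 0).map (ModuleCat.ofHom I.subtype)

/-- The two-term complex `I → R`. -/
noncomputable abbrev EI : DRing.Cx R := mappingCone (fI I)

lemma cochain_EI_decomp (n m : ℤ) (h : m + 1 = n) (c : Cochain (EI I) (U R) n) :
    c = mappingCone.descCochain (fI I) ((mappingCone.inl (fI I)).comp c (by omega))
      ((Cochain.ofHom (mappingCone.inr (fI I))).comp c (zero_add n)) h := by
  rw [mappingCone.ext_cochain_from_iff (fI I) m n h]
  exact ⟨(mappingCone.inl_descCochain (fI I) _ _ h).symm,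
    (mappingCone.inr_descCochain (fI I) _ _ h).symm⟩

lemma subsingleton_cochain_EI (n : ℤ) (h0 : n ≠ 0) (h1 : n ≠ 1) :
    Subsingleton (Cochain (EI I) (U R) n) := by
  have s1 := subsingleton_cochain_S0_U (ModuleCat.of R I) (n - 1) (by omega)
  have s2 := subsingleton_cochain_S0_U (ModuleCat.of R R) n h0
  refine ⟨fun c c' => ?_⟩
  rw [mappingCone.ext_cochain_from_iff (fI I) (n - 1) n (by omega)]
  exact ⟨Subsingleton.elim _ _, Subsingleton.elim _ _⟩

lemma toLin_comp_subtype (b : R →ₗ[R] R) : b ∘ₗ I.subtype = (b 1) • I.subtype := by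
  ext x
  simp only [LinearMap.coe_comp, Function.comp_apply, Submodule.subtype_apply,
    LinearMap.smul_apply, smul_eq_mul]
  have : b (x : R) = b ((x : R) • (1 : R)) := by rw [smul_eq_mul, mul_one]
  rw [this, map_smul, smul_eq_mul, mul_comm]

lemma inl_comp_δ_zero (c₀ : Cochain (EI I) (U R) 0) :
    toLin (ModuleCat.of R I) ((mappingCone.inl (fI I)).comp (δ 0 1 c₀) (by omega)) =
      (-(toLin (ModuleCat.of R R)
        ((Cochain.ofHom (mappingCone.inr (fI I))).comp c₀ (zero_add 0)) 1)) • I.subtype := by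
  have s1 := subsingleton_cochain_S0_U (ModuleCat.of R I) (-1) (by omega)
  have hdec := cochain_EI_decomp I 0 (-1) (by omega) c₀
  set α₀ := (mappingCone.inl (fI I)).comp c₀ (show (-1 : ℤ) + 0 = -1 by omega) with hα₀
  set β₀ := (Cochain.ofHom (mappingCone.inr (fI I))).comp c₀ (zero_add 0) with hβ₀
  have hα : α₀ = 0 := Subsingleton.elim _ _
  have h1 : δ 0 1 c₀ = mappingCone.descCochain (fI I)
      (δ (-1) 0 α₀ + (1 : ℤ).negOnePow • (Cochain.ofHom (fI I)).comp β₀ (zero_add 0))
      (δ 0 1 β₀) rfl := by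
    conv_lhs => rw [hdec]
    exact mappingCone.δ_descCochain (fI I) α₀ β₀ (by omega) 1 rfl
  rw [h1, mappingCone.inl_descCochain, hα, δ_zero, zero_add, Int.negOnePow_one, Units.neg_smul,
    one_smul, map_neg, toLin_precomp]
  erw [toLin_comp_subtype]
  exact (neg_smul _ _).symm

lemma eq_zero_of_δ_eq_zero (hfaith : ∀ r : R, (∀ x : I, r * (x : R) = 0) → r = 0)
    (c₀ : Cochain (EI I) (U R) 0) (h : δ 0 1 c₀ = 0) : c₀ = 0 := by
  have h1 := inl_comp_δ_zero I c₀
  rw [h, Cochain.comp_zero, map_zero] at h1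
  have s1 := subsingleton_cochain_S0_U (ModuleCat.of R I) (-1) (by omega)
  have hdec := cochain_EI_decomp I 0 (-1) (by omega) c₀
  set β₀ := (Cochain.ofHom (mappingCone.inr (fI I))).comp c₀ (zero_add 0) with hβ₀
  have hb : toLin (ModuleCat.of R R) β₀ 1 = 0 := by
    have := hfaith (-(toLin (ModuleCat.of R R) β₀ 1)) (fun x => by
      have := LinearMap.congr_fun h1 x
      simpa using this.symm)
    exact neg_eq_zero.1 this
  have hβ : β₀ = 0 := by
    apply (toLin (ModuleCat.of R R)).injective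
    rw [map_zero]
    apply LinearMap.ext_ring
    rw [hb]
    rfl
  rw [hdec, hβ]
  have : (mappingCone.inl (fI I)).comp c₀ (show (-1 : ℤ) + 0 = -1 by omega) = 0 :=
    Subsingleton.elim _ _
  rw [this]
  simp [mappingCone.descCochain]

section Pi

variable {N' : Type u} [AddCommGroup N'] [Module R N'] (π : (I →ₗ[R] R) →ₗ[R] N')

/-- The map `Hom^1(E, R[0]) → N'` induced by `π`. -/
noncomputable def PiMap : Cochain (EI I) (U R) 1 →ₗ[R] N' where
  toFun c := π (toLin (ModuleCat.of R I)
    ((mappingCone.inl (fI I)).comp c (show (-1 : ℤ) + 1 = 0 by omega)))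
  map_add' c c' := by
    rw [Cochain.comp_add, map_add, map_add]
  map_smul' a c := by
    rw [Cochain.comp_smul, map_smul, map_smul]
    rfl

lemma PiMap_apply (c : Cochain (EI I) (U R) 1) :
    PiMap I π c = π (toLin (ModuleCat.of R I)
      ((mappingCone.inl (fI I)).comp c (show (-1 : ℤ) + 1 = 0 by omega))) := rfl

lemma PiMap_surjective (hπ : Function.Surjective π) : Function.Surjective (PiMap I π) := by
  intro n
  obtain ⟨g, rfl⟩ := hπ n
  refine ⟨mappingCone.descCochain (fI I) ((toLin (ModuleCat.of R I)).symm g)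
    (0 : Cochain (S0 (ModuleCat.of R R)) (U R) 1) (by omega), ?_⟩
  rw [PiMap_apply, mappingCone.inl_descCochain, LinearEquiv.apply_symm_apply]

lemma PiMap_eq_zero_iff (hker : ∀ g, π g = 0 ↔ ∃ r : R, g = r • I.subtype)
    (c : Cochain (EI I) (U R) 1) :
    PiMap I π c = 0 ↔ ∃ c₀ : Cochain (EI I) (U R) 0, δ 0 1 c₀ = c := by
  rw [PiMap_apply, hker]
  constructor
  · rintro ⟨r, hr⟩
    let β₀ : Cochain (S0 (ModuleCat.of R R)) (U R) 0 :=
      (toLin (ModuleCat.of R R)).symm ((-r) • LinearMap.id)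
    let c₀ : Cochain (EI I) (U R) 0 := mappingCone.descCochain (fI I)
      (0 : Cochain (S0 (ModuleCat.of R I)) (U R) (-1)) β₀ (by omega)
    refine ⟨c₀, ?_⟩
    have s2 := subsingleton_cochain_S0_U (ModuleCat.of R R) 1 (by omega)
    rw [mappingCone.ext_cochain_from_iff (fI I) 0 1 (by omega)]
    refine ⟨?_, Subsingleton.elim _ _⟩
    apply (toLin (ModuleCat.of R I)).injective
    rw [hr, inl_comp_δ_zero]
    dsimp only [c₀]
    rw [mappingCone.inr_descCochain]
    dsimp only [β₀]
    rw [LinearEquiv.apply_symm_apply]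
    simp
  · rintro ⟨c₀, rfl⟩
    exact ⟨_, inl_comp_δ_zero I c₀⟩

end Pi

end Cone

end Groth.Agent.Lib.Helper13.IK
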