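import Groth.Agent.Lib.Helper13.InvKer2
import Groth.Agent.Lib.Helper13.QIsoElem

/-!
# Homology of `Hom•(I → R, R[0])`
-/

set_option autoImplicit false
universe u
open CategoryTheory CategoryTheory.Limits MonoidalCategory
open CochainComplex CochainComplex.HomComplex HomologicalComplex

namespace Groth.Agent.Lib.Helper13.IK

variable {R : Type u} [CommRing R] (I : Ideal R)

/-- The complex `Hom•(E, R[0])`. -/
noncomputable abbrev KI : DRing.Cx R := DRing.homCx (EI I) (U R)

lemma exactAt_KI (hfaith : ∀ r : R, (∀ x : I, r * (x : R) = 0) → r = 0) (n : ℤ) (hn : n ≠ 1) :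
    (KI I).ExactAt n := by
  by_cases h0 : n = 0
  · subst h0
    apply QE.exactAt_of_elementwise (KI I) (-1) 0 1 (by omega) (by omega)
    intro x hx
    have : x = 0 := eq_zero_of_δ_eq_zero I hfaith x hx
    exact ⟨0, by rw [map_zero, this]⟩
  · have := subsingleton_cochain_EI I n h0 hn
    apply QE.exactAt_of_elementwise (KI I) (n - 1) n (n + 1) (by omega) rfl
    intro x hx
    exact ⟨0, Subsingleton.elim (α := Cochain (EI I) (U R) n) _ _⟩

lemma isZero_homology_KI (hfaith : ∀ r : R, (∀ x : I, r * (x : R) = 0) → r = 0) (n : ℤ)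
    (hn : n ≠ 1) : IsZero ((KI I).homology n) :=
  (HomologicalComplex.exactAt_iff_isZero_homology _ _).1 (exactAt_KI I hfaith n hn)

section Pi

variable {N' : Type u} [AddCommGroup N'] [Module R N'] (π : (I →ₗ[R] R) →ₗ[R] N')

lemma d_one_two_KI : (KI I).d 1 2 = 0 := by
  have := subsingleton_cochain_EI I 2 (by omega) (by omega)
  ext x
  exact Subsingleton.elim (α := Cochain (EI I) (U R) 2) _ _

/-- The map `K^1 → N'`. -/
noncomputable abbrev PiHom : (KI I).X 1 ⟶ ModuleCat.of R N' := ModuleCat.ofHom (PiMap I π)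

lemma d_PiHom (hker : ∀ g, π g = 0 ↔ ∃ r : R, g = r • I.subtype) :
    (KI I).d 0 1 ≫ PiHom I π = 0 := by
  ext x
  exact (PiMap_eq_zero_iff I π hker _).2 ⟨x, rfl⟩

/-- `H^1(Hom•(E, R[0])) ≅ N'`. -/
noncomputable def homologyOneIso (hπ : Function.Surjective π)
    (hker : ∀ g, π g = 0 ↔ ∃ r : R, g = r • I.subtype) :
    (KI I).homology 1 ≅ ModuleCat.of R N' := by
  let S : ShortComplex (ModuleCat.{u} R) :=
    ShortComplex.mk ((KI I).d 0 1) (PiHom I π) (d_PiHom I π hker)
  have hS : S.Exact := by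
    rw [ShortComplex.moduleCat_exact_iff]
    intro x hx
    exact (PiMap_eq_zero_iff I π hker x).1 hx
  haveI : Epi S.g := (ModuleCat.epi_iff_surjective _).2 (PiMap_surjective I π hπ)
  have hc : IsColimit (CokernelCofork.ofπ S.g S.zero) := hS.gIsCokernel
  let h : ((KI I).sc' 0 1 2).LeftHomologyData :=
    ShortComplex.LeftHomologyData.ofIsColimitCokernelCofork ((KI I).sc' 0 1 2)
      (d_one_two_KI I) (CokernelCofork.ofπ S.g S.zero) hc
  exact (KI I).homologyIsoSc' 0 1 2 (by simp) (by simp) ≪≫ h.homologyIso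

end Pi

end Groth.Agent.Lib.Helper13.IK
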