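import Groth.Agent.Lib.Helper13.InvKer3
import Groth.Agent.Lib.Helper13.InvKer1
import Groth.Agent.Lib.Helper13.RHomCxV
import Groth.Agent.Lib.Helper13.KProjCone
import Groth.Agent.Lib.Helper13.PCSingleHom
import Groth.Agent.Lib.Helper13.DRingRestrict
import Groth.Agent.Lib.Helper13.CA1
import Mathlib.Algebra.Homology.DerivedCategory.SingleTriangle

/-!
# Cohomology of `Hom_R(A, J)` for `R → A` surjective with invertible kernel
-/

set_option autoImplicit false
universe u
open CategoryTheory CategoryTheory.Limits MonoidalCategory
open CochainComplex CochainComplex.HomComplex HomologicalComplex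

namespace Groth.Agent.Lib.Helper13.IK

open Groth.Agent.Lib.Helper13.HOp Groth.Agent.Lib.Helper13.Coind Groth.Agent.Lib.Helper13.PF
open Groth.Agent.Lib.Helper13.HT Groth.Agent.Lib.Helper13.DV

attribute [local instance] HasDerivedCategory.standard

variable (R A : Type u) [CommRing R] [CommRing A] [Algebra R A]

/-- The sequence `0 → I → R → A → 0`. -/
noncomputable abbrev sesI : ShortComplex (ModuleCat.{u} R) :=
  ShortComplex.mk (ModuleCat.ofHom (RingHom.ker (algebraMap R A)).subtype)
    (ModuleCat.ofHom (Algebra.linearMap R A))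
    (by
      refine ModuleCat.hom_ext (LinearMap.ext fun x => ?_)
      let x' : RingHom.ker (algebraMap R A) := x
      have h : algebraMap R A (x' : R) = 0 := (RingHom.mem_ker (f := algebraMap R A)).1 x'.2
      exact h)

variable {R A} in
lemma sesI_shortExact (hφ : Function.Surjective (algebraMap R A)) : (sesI R A).ShortExact := by
  have h1 : (sesI R A).Exact := by
    rw [ShortComplex.moduleCat_exact_iff]
    intro x hx
    let x' : R := x
    have hx' : algebraMap R A x' = 0 := hx
    exact ⟨(⟨x', (RingHom.mem_ker (f := algebraMap R A)).2 hx'⟩ : RingHom.ker (algebraMap R A)), rfl⟩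
  have : Mono (sesI R A).f := (ModuleCat.mono_iff_injective _).2
    (Subtype.val_injective (p := fun x => x ∈ RingHom.ker (algebraMap R A)))
  have : Epi (sesI R A).g := (ModuleCat.epi_iff_surjective _).2 (show Function.Surjective (algebraMap R A) from hφ)
  exact ShortComplex.ShortExact.mk h1

/-- The sequence of complexes `0 → I[0] → R[0] → A[0] → 0`. -/
noncomputable abbrev sesCx : ShortComplex (DRing.Cx R) :=
  (sesI R A).map (HomologicalComplex.single (ModuleCat.{u} R) (ComplexShape.up ℤ) 0)

/-- The quasi-isomorphism `(I → R) ⟶ A[0]`. -/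
noncomputable def qI : EI (RingHom.ker (algebraMap R A)) ⟶ singleB R A :=
  mappingCone.descShortComplex (sesCx R A)

variable {R A} in
lemma quasiIso_qI (hφ : Function.Surjective (algebraMap R A)) : QuasiIso (qI R A) :=
  mappingCone.quasiIso_descShortComplex
    ((sesI_shortExact hφ).map_of_exact
      (HomologicalComplex.single (ModuleCat.{u} R) (ComplexShape.up ℤ) 0))

instance isKProjective_EI [Module.Projective R (RingHom.ker (algebraMap R A))] :
    (EI (RingHom.ker (algebraMap R A))).IsKProjective := by
  have : Projective (ModuleCat.of R (RingHom.ker (algebraMap R A))) :=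
    (IsProjective.iff_projective _).1 inferInstance
  have : Projective (ModuleCat.of R R) := (IsProjective.iff_projective _).1 inferInstance
  have h1 : (S0 (ModuleCat.of R (RingHom.ker (algebraMap R A)))).IsKProjective :=
    Groth.Agent.Lib.Helper13.PC.isKProjective_single
      (ModuleCat.of R (RingHom.ker (algebraMap R A))) 0
  have h2 : (S0 (ModuleCat.of R R)).IsKProjective :=
    Groth.Agent.Lib.Helper13.PC.isKProjective_single (ModuleCat.of R R) 0
  exact Groth.Agent.Lib.Helper13.KP.isKProjective_mappingCone _

variable {R A} in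
/-- `H^n(res Hom_R(A, J)) ≅ H^n(Hom•(I → R, R[0]))`. -/
noncomputable def homologyCompIso (hφ : Function.Surjective (algebraMap R A))
    [Module.Projective R (RingHom.ker (algebraMap R A))]
    (J : DRing.Cx R) [J.IsKInjective] (i : U R ⟶ J) [QuasiIso i] (n : ℤ) :
    (ModuleCat.restrictScalars.{u} (algebraMap R A)).obj
      (((coextCx (algebraMap R A)).obj J).homology n) ≅
      (KI (RingHom.ker (algebraMap R A))).homology n := by
  have := quasiIso_qI hφ
  have : QuasiIso (preMap (qI R A) J) := quasiIso_preMap_of_isKInjective (qI R A) J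
  have : QuasiIso (DRing.homCxMap (EI (RingHom.ker (algebraMap R A))) i) := by
    have := isIso_Q_map_homCxMap (EI (RingHom.ker (algebraMap R A))) i
    rwa [DerivedCategory.isIso_Q_map_iff_quasiIso] at this
  exact (Groth.Agent.Lib.Helper13.DR.restrictCxHomologyIso (algebraMap R A)
      ((coextCx (algebraMap R A)).obj J) n).symm ≪≫
    (HomologicalComplex.homologyFunctor _ _ n).mapIso (homSingleIso (A := R) (B := A) J) ≪≫
    isoOfQuasiIsoAt (preMap (qI R A) J) n ≪≫
    (isoOfQuasiIsoAt
      (DRing.homCxMap (EI (RingHom.ker (algebraMap R A))) i) n).symm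

end Groth.Agent.Lib.Helper13.IK
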