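import Groth.Agent.Lib.Helper13.InvKer4
import Groth.Agent.Lib.Helper13.MixPerf4
import Groth.Agent.Lib.Helper13.PCPerfect
import Groth.Agent.Lib.Helper13.DRingPC
import Mathlib.Algebra.Homology.DerivedCategory.FullyFaithful
import Mathlib.Algebra.Homology.DerivedCategory.TStructure

/-!
# `RHom_R(A, R) ≅ N[-1]` for `R → A` surjective with invertible kernel
-/

set_option autoImplicit false
universe u
open CategoryTheory CategoryTheory.Limits MonoidalCategory
open CochainComplex CochainComplex.HomComplex HomologicalComplex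
open scoped TensorProduct

namespace Groth.Agent.Lib.Helper13.IK

open Groth.Agent.Lib.Helper13.HOp Groth.Agent.Lib.Helper13.Coind Groth.Agent.Lib.Helper13.PF
open Groth.Agent.Lib.Helper13.HT Groth.Agent.Lib.Helper13.DV Groth.Agent.Lib.Helper13.PC
open DerivedCategory Groth.Agent.Lib.Helper13.DR

attribute [local instance] HasDerivedCategory.standard

variable {R A : Type u} [CommRing R] [CommRing A] [Algebra R A]
  (hφ : Function.Surjective (algebraMap R A))

section Upgrade

variable {N : Type u} [AddCommGroup N] [Module A N] [Module R N] [IsScalarTower R A N]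

include hφ in
/-- An `R`-linear isomorphism between `A`-modules is `A`-linear when `R → A` is surjective. -/
noncomputable def upgradeIso (H : ModuleCat.{u} A)
    (f : (ModuleCat.restrictScalars.{u} (algebraMap R A)).obj H ≅ ModuleCat.of R N) :
    H ≅ ModuleCat.of A N :=
  LinearEquiv.toModuleIso (X₁ := H) (X₂ := ModuleCat.of A N)
    { toFun := fun x => f.hom.hom x
      map_add' := fun x y => map_add f.hom.hom _ _
      map_smul' := fun a x => by
        obtain ⟨r, rfl⟩ := hφ a
        have h1 : f.hom.hom (show (ModuleCat.restrictScalars.{u} (algebraMap R A)).obj H from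
            (algebraMap R A r • x : H)) = r • f.hom.hom x :=
          map_smul f.hom.hom r (show (ModuleCat.restrictScalars.{u} (algebraMap R A)).obj H from x)
        have h2 : (algebraMap R A r) • (show N from f.hom.hom x) = r • (show N from f.hom.hom x) :=
          algebraMap_smul A r _
        exact h1.trans h2.symm
      invFun := fun y => f.inv.hom y
      left_inv := fun x => by
        have := congr($(f.hom_inv_id).hom x)
        exact this
      right_inv := fun y => by
        have := congr($(f.inv_hom_id).hom y)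
        exact this }

end Upgrade

variable [Module.Invertible R (RingHom.ker (algebraMap R A))]

omit [Algebra R A] in
lemma hfaith_of_invertible (I : Ideal R) [Module.Invertible R I] :
    ∀ r : R, (∀ x : I, r * (x : R) = 0) → r = 0 := by
  intro r h
  apply FaithfulSMul.eq_of_smul_eq_smul (α := I)
  intro x
  apply Subtype.ext
  simp [h x]

include hφ in
lemma isZero_homology_coext (J : DRing.Cx R) [J.IsKInjective] (i : U R ⟶ J) [QuasiIso i]
    (n : ℤ) (hn : n ≠ 1) : IsZero (((coextCx (algebraMap R A)).obj J).homology n) := by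
  apply Groth.Agent.Lib.Helper13.DR.isZero_of_isZero_restrictScalars (algebraMap R A)
  exact (isZero_homology_KI (RingHom.ker (algebraMap R A))
    (hfaith_of_invertible _) n hn).of_iso (homologyCompIso hφ J i n)

section N

variable {N : Type u} [AddCommGroup N] [Module A N] [Module R N] [IsScalarTower R A N]
  (e : (A ⊗[R] (RingHom.ker (algebraMap R A))) ⊗[A] N ≃ₗ[A] A)

/-- `H^1(Hom_R(A, J)) ≅ N`. -/
noncomputable def homologyOneIsoN (J : DRing.Cx R) [J.IsKInjective] (i : U R ⟶ J) [QuasiIso i] :
    ((coextCx (algebraMap R A)).obj J).homology 1 ≅ ModuleCat.of A N :=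
  upgradeIso hφ _ (homologyCompIso hφ J i 1 ≪≫
    homologyOneIso (RingHom.ker (algebraMap R A)) (piMap e) (piMap_surjective hφ e)
      (piMap_eq_zero_iff e))

include hφ e in
theorem nonempty_Q_coext_iso (J : DRing.Cx R) [J.IsKInjective] (i : U R ⟶ J) [QuasiIso i] :
    Nonempty (Q.obj ((coextCx (algebraMap R A)).obj J) ≅ (Dual.inD A N)⟦(-1 : ℤ)⟧) := by
  set X : DerivedCategory (ModuleCat.{u} A) := Q.obj ((coextCx (algebraMap R A)).obj J) with hX
  have hge : X.IsGE 1 := by
    rw [DerivedCategory.isGE_iff]
    intro k hk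
    exact (isZero_homology_coext hφ J i k (by omega)).of_iso
      ((homologyFunctorFactors (ModuleCat.{u} A) k).app _)
  have hle : X.IsLE 1 := by
    rw [DerivedCategory.isLE_iff]
    intro k hk
    exact (isZero_homology_coext hφ J i k (by omega)).of_iso
      ((homologyFunctorFactors (ModuleCat.{u} A) k).app _)
  obtain ⟨Y, ⟨eY⟩⟩ := DerivedCategory.exists_iso_singleFunctor_obj_of_isGE_of_isLE X 1
  let eY1 : Y ≅ ModuleCat.of A N :=
    ((singleFunctorCompHomologyFunctorIso (ModuleCat.{u} A) 1).app Y).symm ≪≫
      (DerivedCategory.homologyFunctor (ModuleCat.{u} A) 1).mapIso eY.symm ≪≫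
      (homologyFunctorFactors (ModuleCat.{u} A) 1).app _ ≪≫ homologyOneIsoN hφ e J i
  exact ⟨eY ≪≫ (DerivedCategory.singleFunctor (ModuleCat.{u} A) 1).mapIso eY1 ≪≫
    (((DerivedCategory.singleFunctors (ModuleCat.{u} A)).shiftIso (-1) 1 0 (by omega)).app
      (ModuleCat.of A N)).symm⟩

end N

include hφ in
theorem isPerfect_res_unit :
    DRing.IsPerfect R ((DRing.restrictD (algebraMap R A)).obj (DTen.unit A)) := by
  have h1 : IsPerf (Pfp R) ((DerivedCategory.singleFunctor (ModuleCat.{u} R) 0).obj
      (ModuleCat.of R (RingHom.ker (algebraMap R A)))) :=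
    isPerf_single 0 ⟨inferInstance, inferInstance⟩
  have h2 : IsPerf (Pfp R) ((DerivedCategory.singleFunctor (ModuleCat.{u} R) 0).obj
      (ModuleCat.of R R)) :=
    isPerf_single 0 ⟨inferInstance, inferInstance⟩
  have h3 := isPerf_obj₃ (P := Pfp R) Pfp_prod hlift_Pfp _
    (sesI_shortExact hφ).singleTriangle_distinguished h1 h2
  exact h3.of_iso (singleIsoQ 0 _ ≪≫ (Groth.Agent.Lib.Helper13.MP.restrictUnitIso R A).symm)

end Groth.Agent.Lib.Helper13.IK
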