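import Groth.Agent.Lib.Helper13.RelDual6
import Groth.Agent.Lib.Helper13.TensorTerms
import Groth.Agent.Lib.Helper13.ExtTen1
import Groth.Agent.Lib.Helper13.HomTensor
import Groth.Agent.Lib.Helper13.DualBC28

/-!
# Invertible objects of `D(A)` over a local ring
-/

set_option autoImplicit false
set_option linter.style.haveILetI false
universe u
open CategoryTheory CategoryTheory.Limits TensorProduct MonoidalCategory

namespace Groth.Agent.Lib.Helper13.InvTen

open Groth.Agent.Lib.Helper13.DR Groth.Agent.Lib.Helper13.PC Groth.Agent.Lib.Helper13.DV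
open DerivedCategory HomologicalComplex

attribute [local instance] HasDerivedCategory.standard

section ZeroD

variable {A : Type u} [CommRing A]

/-- The tensor product of two complexes with zero differentials has zero differentials. -/
lemma tensor_d_eq_zero (K L : DRing.Cx A) (hK : ∀ i j, K.d i j = 0) (hL : ∀ i j, L.d i j = 0)
    (n n' : ℤ) : (K ⊗ L).d n n' = 0 := by
  by_cases hn : n + 1 = n'
  · refine HomologicalComplex.mapBifunctor.hom_ext (fun p q h => ?_)
    have := Groth.Agent.Lib.Helper13.HT.ι_tensor_d K L p q n n' h hn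
    refine this.trans ?_
    rw [hK, hL]
    simp
  · exact HomologicalComplex.shape _ _ _ hn

/-- Homology of a complex with zero differentials. -/
noncomputable def homologyIsoX (G : DRing.Cx A) (hG : ∀ i j, G.d i j = 0) (i : ℤ) :
    G.homology i ≅ G.X i :=
  haveI : IsIso (G.iCycles i) := G.isIso_iCycles i (i + 1) (by simp) (hG _ _)
  haveI : IsIso (G.homologyπ i) := G.isIso_homologyπ (i - 1) i (by simp) (hG _ _)
  (asIso (G.homologyπ i)).symm ≪≫ asIso (G.iCycles i)

end ZeroD

end Groth.Agent.Lib.Helper13.InvTen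

namespace Groth.Agent.Lib.Helper13.InvTen

open Groth.Agent.Lib.Helper13.DR Groth.Agent.Lib.Helper13.PC Groth.Agent.Lib.Helper13.DV
open DerivedCategory HomologicalComplex

attribute [local instance] HasDerivedCategory.standard

section Main

variable (A : Type u) [CommRing A] [IsLocalRing A]

/-- The extension of scalars to the residue field of a minimal complex has zero differentials. -/
lemma extCx_d_eq_zero_of_minimal (K : Dual.D A) (P : DRing.Cx A) (b : ℤ)
    (hPv : DRing.VanishesAbove P b)
    (hPt : ∀ i : ℤ, Module.Free A (P.X i) ∧ Module.Finite A (P.X i) ∧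
      Module.finrank A (P.X i) = Module.finrank (A ⧸ IsLocalRing.maximalIdeal A)
        (Dual.HD (A ⧸ IsLocalRing.maximalIdeal A)
          ((DRing.LBaseChange (Ideal.Quotient.mk (IsLocalRing.maximalIdeal A))).obj K) i))
    (eP : DRing.toD P ≅ K) (i j : ℤ) :
    ((DTen.extCx (Ideal.Quotient.mk (IsLocalRing.maximalIdeal A))).obj P).d i j = 0 := by
  let I := IsLocalRing.maximalIdeal A
  let κ := A ⧸ I
  letI : Field κ := Ideal.Quotient.field I
  let V : DRing.Cx κ := (DTen.extCx (Ideal.Quotient.mk I)).obj P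
  haveI : ∀ i, Module.Finite κ (V.X i) := fun i => by
    haveI := (hPt i).2.1
    exact MC.finite_extendScalars I (P.X i)
  haveI : P.IsStrictlyLE b := by
    rw [CochainComplex.isStrictlyLE_iff]
    exact fun i hi => hPv i hi
  haveI : ∀ i, Projective (P.X i) := fun i => by
    haveI := (hPt i).1
    exact (IsProjective.iff_projective (R := A) (P := P.X i)).1 inferInstance
  haveI : P.IsKProjective := CochainComplex.isKProjective_of_projective P b
  obtain ⟨e⟩ := MC.nonempty_homology_LBaseChange_iso I K P eP i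
  apply MC.d_eq_zero_of_finrank_eq V i j
  rw [← e.toLinearEquiv.finrank_eq]
  refine Eq.trans ?_ (by
    haveI := (hPt i).1
    haveI := (hPt i).2.1
    exact MC.finrank_eq_of_extendScalars_iso I (P.X i) (V.X i) (Iso.refl _))
  exact (hPt i).2.2.symm


open Groth.Agent.Lib.Helper28.TensorCx in
/-- **Invertible objects over a local ring**: if `L ⊗^L E ≅ A[0]` with `L`, `E` pseudo-coherent
over the local ring `A` then `L ≅ A[n]` and `E ≅ A[-n]`. -/
theorem exists_iso_shift_of_LTensorCx_iso_unit (L : Dual.D A) (E : DRing.Cx A)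
    [DRing.HasLTensorCx A E]
    (hL : DRing.IsPseudoCoherent' A L) (hE : DRing.IsPseudoCoherent' A (DRing.toD E))
    (h : Nonempty ((DRing.LTensorCx A E).obj L ≅ Dual.inD A A)) :
    ∃ n : ℤ, Nonempty (L ≅ (Dual.inD A A)⟦n⟧) ∧
      Nonempty (DRing.toD E ≅ (Dual.inD A A)⟦(-n)⟧) := by
  let I := IsLocalRing.maximalIdeal A
  let κ := A ⧸ I
  letI : Field κ := Ideal.Quotient.field I
  let φ : A →+* κ := Ideal.Quotient.mk I
  obtain ⟨ι⟩ := h
  obtain ⟨-, -, ⟨P, ⟨bP, hPv⟩, hP, ⟨eP⟩⟩, -⟩ := MC.minimal_main A L hL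
  obtain ⟨-, -, ⟨P', ⟨bP', hPv'⟩, hP', ⟨eP'⟩⟩, -⟩ := MC.minimal_main A (DRing.toD E) hE
  have hdP := extCx_d_eq_zero_of_minimal A L P bP hPv hP eP
  have hdP' := extCx_d_eq_zero_of_minimal A (DRing.toD E) P' bP' hPv' hP' eP'
  haveI : ∀ i, Module.Free A (P.X i) := fun i => (hP i).1
  haveI : ∀ i, Module.Finite A (P.X i) := fun i => (hP i).2.1
  haveI : ∀ i, Module.Free A (P'.X i) := fun i => (hP' i).1
  haveI : ∀ i, Module.Finite A (P'.X i) := fun i => (hP' i).2.1
  let T : DRing.Cx A := P ⊗ P'
  have hTv : DRing.VanishesAbove T (bP + bP') := by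
    intro i hi
    refine isZero_tensor_X P P' i (fun p q hpq => ?_)
    by_cases hp : bP < p
    · exact Or.inl (hPv p hp)
    · exact Or.inr (hPv' q (by lia))
  haveI hTfin : ∀ n, Module.Finite A (T.X n) := fun n =>
    finite_tensor_X P P' bP bP' hPv hPv' inferInstance inferInstance n
  haveI hTfree : ∀ n, Module.Free A (T.X n) := fun n =>
    free_tensor_X P P' inferInstance inferInstance n
  have hKF := kflat_of_vanishesAbove_of_finiteFree P bP hPv (fun i => ⟨inferInstance, inferInstance⟩)
  obtain ⟨i₁⟩ := nonempty_LTensorCx_iso_of_kflat E P hKF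
  obtain ⟨i₂⟩ := nonempty_iso_Q_tensor_of_iso_right P hKF E P' eP'.symm
  let eT : DRing.toD T ≅ Dual.inD A A :=
    i₂.symm ≪≫ i₁.symm ≪≫ (DRing.LTensorCx A E).mapIso eP ≪≫ ι
  -- ranks of `T`
  have hrankT : ∀ n : ℤ, Module.finrank A (T.X n) = if n = 0 then 1 else 0 := by
    intro n
    haveI : T.IsStrictlyLE (bP + bP') := by
      rw [CochainComplex.isStrictlyLE_iff]
      exact fun i hi => hTv i hi
    haveI : ∀ i, Projective (T.X i) := fun i =>
      (IsProjective.iff_projective (R := A) (P := T.X i)).1 inferInstance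
    haveI : T.IsKProjective := CochainComplex.isKProjective_of_projective T (bP + bP')
    obtain ⟨e⟩ := MC.nonempty_homology_LBaseChange_iso I (Dual.inD A A) T eT n
    let V : DRing.Cx κ := (DTen.extCx φ).obj T
    let W : DRing.Cx κ := (DTen.extCx φ).obj P ⊗ (DTen.extCx φ).obj P'
    have hW : ∀ i j, W.d i j = 0 := tensor_d_eq_zero _ _ hdP hdP'
    let eVW : V ≅ W := Groth.Agent.Lib.Helper13.ET.extTenIso φ P P'
    have hV : ∀ i j, V.d i j = 0 := by
      intro i j
      have h1 := eVW.hom.comm i j
      rw [hW, comp_zero] at h1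
      have : IsIso (eVW.hom.f j) := inferInstance
      exact (cancel_mono (eVW.hom.f j)).1 (h1.symm.trans zero_comp.symm)
    have e2 : Dual.HD κ ((DRing.LBaseChange φ).obj (Dual.inD A A)) n ≃ₗ[κ] V.X n :=
      (e ≪≫ homologyIsoX V hV n).toLinearEquiv
    have e3 : Dual.HD κ ((DRing.LBaseChange φ).obj (Dual.inD A A)) n ≃ₗ[κ]
        Dual.HD κ (Dual.inD κ κ) n :=
      ((DerivedCategory.homologyFunctor _ n).mapIso (RelDual.LSelfIso' φ)).toLinearEquiv
    rw [MC.finrank_eq_of_extendScalars_iso I (T.X n) (V.X n) (Iso.refl _), ← e2.finrank_eq,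
      e3.finrank_eq]
    obtain ⟨h1, h2⟩ := DualBC.HD_inD_self (B := κ) n
    split_ifs with hn
    · obtain ⟨t⟩ := h2 hn
      rw [t.finrank_eq, Module.finrank_self]
    · have := h1 hn
      exact Module.finrank_zero_of_subsingleton
  -- ranks of summands
  have hle : ∀ p q n : ℤ, p + q = n →
      Module.finrank A (P.X p) * Module.finrank A (P'.X q) ≤ if n = 0 then 1 else 0 := by
    intro p q n hpq
    rw [← hrankT n, ← Module.finrank_tensorProduct (R := A) (S := A)]
    have hinj : Function.Injective (Groth.Agent.Lib.Helper28.TensorCx.ι P P' n p q hpq) :=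
      Function.LeftInverse.injective (g := π P P' n p q hpq) (π_ι_self P P' n p q hpq)
    exact LinearMap.finrank_le_finrank_of_injective hinj
  -- a nonzero summand in degree `0`
  have hex : ∃ a b : ℤ, a + b = 0 ∧ ¬ IsZero (P.X a) ∧ ¬ IsZero (P'.X b) := by
    by_contra hcon
    push Not at hcon
    have hz : IsZero (T.X 0) := isZero_tensor_X P P' 0 (fun p q hpq => by
      by_cases hp : IsZero (P.X p)
      · exact Or.inl hp
      · exact Or.inr (hcon p q hpq hp))
    have := ModuleCat.subsingleton_of_isZero hz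
    have h0 := hrankT 0
    rw [if_pos rfl, Module.finrank_zero_of_subsingleton] at h0
    exact absurd h0 (by decide)
  obtain ⟨a, b, hab, ha, hb⟩ := hex
  have hpos : ∀ (X : ModuleCat.{u} A) [Module.Free A X] [Module.Finite A X], ¬ IsZero X →
      0 < Module.finrank A X := by
    intro X _ _ hX
    by_contra h0
    have h0' : Module.finrank A X = 0 := by lia
    have : Subsingleton X := (Module.finrank_eq_zero_iff_of_free A X).1 h0'
    exact hX (ModuleCat.isZero_of_subsingleton _)
  have ha' := hpos (P.X a) ha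
  have hb' := hpos (P'.X b) hb
  have hab1 := hle a b 0 hab
  rw [if_pos rfl] at hab1
  have ra : Module.finrank A (P.X a) = 1 := by nlinarith
  have rb : Module.finrank A (P'.X b) = 1 := by nlinarith
  have hrP : ∀ i : ℤ, Module.finrank A (P.X i) = if i = a then 1 else 0 := by
    intro i
    split_ifs with hi
    · rw [hi]; exact ra
    · have := hle i b (i + b) rfl
      rw [if_neg (by lia), rb, mul_one] at this
      lia
  have hrP' : ∀ i : ℤ, Module.finrank A (P'.X i) = if i = b then 1 else 0 := by
    intro i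
    split_ifs with hi
    · rw [hi]; exact rb
    · have := hle a i (a + i) rfl
      rw [if_neg (by lia), ra, one_mul] at this
      lia
  obtain ⟨ε⟩ := RelDual.nonempty_toD_iso_shift_of_finrank A P a
    (fun i => ⟨inferInstance, inferInstance, hrP i⟩)
  obtain ⟨ε'⟩ := RelDual.nonempty_toD_iso_shift_of_finrank A P' b
    (fun i => ⟨inferInstance, inferInstance, hrP' i⟩)
  refine ⟨-a, ⟨eP.symm ≪≫ ε⟩, ⟨eP'.symm ≪≫ ε' ≪≫ eqToIso ?_⟩⟩
  rw [show -b = - -a by lia]

end Main

end Groth.Agent.Lib.Helper13.InvTen
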