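import Mathlib.RingTheory.LocalRing.ResidueField.Fiber
import Mathlib.RingTheory.FiniteStability
import Mathlib.RingTheory.Polynomial.Basic
import Mathlib.RingTheory.FiniteType

set_option autoImplicit false

namespace Groth.Agent.Lib.Helper13

open TensorProduct

/-- For a finite type algebra `B` over `A` and a prime `p` of `A` with nonempty fibre, there are
a prime `q` over `p` and a finite subset `T` of `q` such that `q` is the only prime over `p`
containing `T`. -/
theorem exists_finset_isolating_prime {A B : Type*} [CommRing A] [CommRing B] [Algebra A B]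
    [Algebra.FiniteType A B] (p : Ideal A) [p.IsPrime] (hne : (p.primesOver B).Nonempty) :
    ∃ q ∈ p.primesOver B, ∃ T : Finset B, (T : Set B) ⊆ q ∧
      ∀ q' ∈ p.primesOver B, (T : Set B) ⊆ q' → q' = q := by
  let F := p.Fiber B
  have : IsNoetherianRing F := Algebra.FiniteType.isNoetherianRing p.ResidueField F
  let e := PrimeSpectrum.primesOverOrderIsoFiber A B p
  obtain ⟨q₀, hq₀⟩ := hne
  have : Nontrivial F := (e ⟨q₀, hq₀⟩).nontrivial
  obtain ⟨M, hM⟩ := Ideal.exists_maximal F
  let Mp : PrimeSpectrum F := ⟨M, hM.isPrime⟩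
  let q := e.symm Mp
  obtain ⟨G, hG⟩ : M.FG := IsNoetherian.noetherian M
  have hx : ∀ x : F, ∃ r : A, r ∉ p ∧ ∃ s : B, r • x = 1 ⊗ₜ[A] s :=
    fun x => Ideal.Fiber.exists_smul_eq_one_tmul p x
  choose r hr s hs using hx
  classical
  refine ⟨q.1, q.2, G.image s, ?_, ?_⟩
  · intro b hb
    simp only [Finset.coe_image, Set.mem_image, Finset.mem_coe] at hb
    obtain ⟨x, hxG, rfl⟩ := hb
    change s x ∈ (q : Ideal B)
    rw [PrimeSpectrum.coe_primesOverOrderIsoFiber_symm_apply]
    change (1 : p.ResidueField) ⊗ₜ[A] s x ∈ M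
    rw [← hs x, ← hG]
    exact Submodule.smul_of_tower_mem _ _ (Submodule.subset_span hxG)
  · intro q' hq' hT
    let Q' := e ⟨q', hq'⟩
    have hQ' : q' = (e.symm Q' : Ideal B) := by rw [OrderIso.symm_apply_apply]
    have hle : M ≤ Q'.asIdeal := by
      rw [← hG, Ideal.span_le]
      intro x hxG
      have h1 : s x ∈ q' := hT (by simp only [Finset.coe_image]; exact ⟨x, hxG, rfl⟩)
      rw [hQ', PrimeSpectrum.coe_primesOverOrderIsoFiber_symm_apply] at h1
      have h2 : (1 : p.ResidueField) ⊗ₜ[A] s x ∈ Q'.asIdeal := h1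
      rw [← hs x, Algebra.smul_def] at h2
      refine (Q'.2.mem_or_mem h2).resolve_left fun h3 => ?_
      -- `algebraMap A F (r x)` is a unit
      have hu : IsUnit (algebraMap A F (r x)) := by
        rw [IsScalarTower.algebraMap_apply A p.ResidueField F]
        refine IsUnit.map _ ?_
        rw [isUnit_iff_ne_zero, ne_eq, Ideal.algebraMap_residueField_eq_zero]
        exact hr x
      exact Q'.2.ne_top (Ideal.eq_top_of_isUnit_mem _ h3 hu)
    have hMQ : M = Q'.asIdeal := hM.eq_of_le Q'.2.ne_top hle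
    have : Q' = Mp := PrimeSpectrum.ext hMQ.symm
    rw [hQ', this]

end Groth.Agent.Lib.Helper13
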