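import Groth.Prelude.Def_KZero2
import Mathlib.CategoryTheory.Limits.Preserves.Shapes.Products
import Mathlib.CategoryTheory.Triangulated.Pretriangulated
import Mathlib.Tactic.Ring
import Mathlib.Tactic.Linarith

set_option autoImplicit false

universe v u

namespace Groth.Agent.Lib.Helper13.K0Tri

open CategoryTheory CategoryTheory.Limits CategoryTheory.Pretriangulated KZero ZeroObject

variable {C : Type u} [Category.{v} C] [Preadditive C] [HasZeroObject C]
  [HasShift C ℤ] [∀ n : ℤ, (shiftFunctor C n).Additive] [Pretriangulated C]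

lemma clTri_triangle (T : Triangle C) (hT : T ∈ distinguishedTriangles) :
    clTri T.obj₂ = clTri T.obj₁ + clTri T.obj₃ := by
  have : FreeAbelianGroup.of (⟨T.obj₂, trivial⟩ : Subtype (⊤ : ObjectProperty C)) -
      FreeAbelianGroup.of ⟨T.obj₁, trivial⟩ - FreeAbelianGroup.of ⟨T.obj₃, trivial⟩ ∈
      KZero.relTr (⊤ : ObjectProperty C) :=
    AddSubgroup.subset_closure ⟨T, trivial, trivial, trivial, hT, rfl⟩
  have h2 := (QuotientAddGroup.eq_zero_iff _).mpr this
  simp only [QuotientAddGroup.mk_sub] at h2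
  change KZero.clTri T.obj₂ - KZero.clTri T.obj₁ - KZero.clTri T.obj₃ = 0 at h2
  rw [sub_sub, sub_eq_zero] at h2
  exact h2

lemma clTri_zero : clTri (0 : C) = 0 := by
  have := clTri_triangle _ (contractible_distinguished (0 : C))
  simpa using this

set_option backward.defeqAttrib.useBackward true in
lemma clTri_congr {X Y : C} (e : X ≅ Y) : clTri X = clTri Y := by
  have hT : Triangle.mk e.hom (0 : Y ⟶ 0) 0 ∈ distTriang C := by
    refine isomorphic_distinguished _ (contractible_distinguished X) _ ?_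
    exact Triangle.isoMk _ _ (Iso.refl _) e.symm (Iso.refl _) (by simp) (by simp) (by simp)
  have := clTri_triangle _ hT
  simpa [clTri_zero] using this.symm

lemma clTri_shift_one (X : C) : clTri (X⟦(1 : ℤ)⟧) = - clTri X := by
  have := clTri_triangle _ (contractible_distinguished₂ X)
  simp only [Triangle.mk_obj₂, Triangle.mk_obj₁, Triangle.mk_obj₃, clTri_zero] at this
  exact (neg_eq_of_add_eq_zero_right this.symm).symm

lemma clTri_biprod (X Y : C) : clTri (X ⊞ Y) = clTri X + clTri Y :=
  clTri_triangle _ (binaryBiproductTriangle_distinguished X Y)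

lemma clTri_shift_succ (X : C) (a : ℤ) : clTri (X⟦a + 1⟧) = - clTri (X⟦a⟧) := by
  rw [← clTri_shift_one]
  exact clTri_congr ((shiftFunctorAdd C a 1).app X)

lemma clTri_shift_add_two (X : C) (a : ℤ) : clTri (X⟦a + 2⟧) = clTri (X⟦a⟧) := by
  have h : a + 2 = a + 1 + 1 := by ring
  rw [h, clTri_shift_succ, clTri_shift_succ, neg_neg]

lemma clTri_shift_two_mul (X : C) (k : ℤ) : clTri (X⟦2 * k⟧) = clTri X := by
  induction k using Int.induction_on with
  | zero => exact clTri_congr ((shiftFunctorZero' C (2 * 0) (by simp)).app X)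
  | succ i ih =>
    have : 2 * ((i : ℤ) + 1) = 2 * i + 2 := by ring
    rw [this, clTri_shift_add_two, ih]
  | pred i ih =>
    have : 2 * (-(i : ℤ)) = 2 * (-(i : ℤ) - 1) + 2 := by ring
    rw [this, clTri_shift_add_two] at ih
    exact ih


section Swindle

variable (L : C) (n : ℤ)

/-- The family `i ↦ L⟦2ni⟧`. -/
abbrev fam (i : ℕ) : C := (shiftFunctor C (2 * n * (i : ℤ))).obj L

/-- `L⟦2n·0⟧ ≅ L`. -/
noncomputable def famZeroIso : fam L n 0 ≅ L :=
  (shiftFunctorZero' C (2 * n * ((0 : ℕ) : ℤ)) (by simp)).app L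

/-- `L⟦2n(k+1)⟧ ≅ L⟦2nk⟧⟦2n⟧`. -/
noncomputable def famSuccIso (k : ℕ) :
    fam L n (k + 1) ≅ (shiftFunctor C (2 * n)).obj (fam L n k) :=
  (shiftFunctorAdd' C (2 * n * (k : ℤ)) (2 * n) (2 * n * ((k + 1 : ℕ) : ℤ))
    (by push_cast; ring)).app L

variable [HasCoproduct (fam L n)]

/-- The cofan exhibiting `L ⊞ (∐ L⟦2ni⟧)⟦2n⟧` as a coproduct of the family. -/
noncomputable def swindleCofan : Cofan (fam L n) :=
  Cofan.mk (L ⊞ (shiftFunctor C (2 * n)).obj (∐ fam L n)) fun i =>
    match i with
    | 0 => (famZeroIso L n).hom ≫ biprod.inl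
    | k + 1 => (famSuccIso L n k).hom ≫ (shiftFunctor C (2 * n)).map (Sigma.ι (fam L n) k) ≫
        biprod.inr

/-- The shifted coproduct is a coproduct of the shifted family. -/
noncomputable def isColimitShift :
    IsColimit (Cofan.mk ((shiftFunctor C (2 * n)).obj (∐ fam L n))
      fun k => (shiftFunctor C (2 * n)).map (Sigma.ι (fam L n) k)) :=
  isColimitCofanMkObjOfIsColimit (shiftFunctor C (2 * n)) (fam L n) _
    (coproductIsCoproduct (fam L n))

/-- The swindle cofan is a colimit. -/
noncomputable def isColimitSwindleCofan : IsColimit (swindleCofan L n) :=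
  Cofan.IsColimit.mk _
    (fun s => biprod.desc ((famZeroIso L n).inv ≫ s.inj 0)
      (Cofan.IsColimit.desc (isColimitShift L n) fun k => (famSuccIso L n k).inv ≫ s.inj (k + 1)))
    (fun s i => by
      cases i with
      | zero =>
        change ((famZeroIso L n).hom ≫ biprod.inl) ≫ _ = _
        simp
      | succ k =>
        change ((famSuccIso L n k).hom ≫ (shiftFunctor C (2 * n)).map (Sigma.ι (fam L n) k) ≫
          biprod.inr) ≫ _ = _
        simp only [Category.assoc, biprod.inr_desc]
        have hfac := Cofan.IsColimit.fac (isColimitShift L n)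
          (fun k => (famSuccIso L n k).inv ≫ s.inj (k + 1)) k
        change (shiftFunctor C (2 * n)).map (Sigma.ι (fam L n) k) ≫ _ = _ at hfac
        rw [hfac, Iso.hom_inv_id_assoc])
    (fun s m hm => by
      apply biprod.hom_ext'
      · rw [biprod.inl_desc, ← hm 0]
        change _ = (famZeroIso L n).inv ≫ ((famZeroIso L n).hom ≫ biprod.inl) ≫ m
        simp
      · rw [biprod.inr_desc]
        refine Cofan.IsColimit.hom_ext (isColimitShift L n) _ _ fun k => ?_
        have hfac := Cofan.IsColimit.fac (isColimitShift L n)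
          (fun k => (famSuccIso L n k).inv ≫ s.inj (k + 1)) k
        rw [hfac, ← hm (k + 1)]
        change _ = (famSuccIso L n k).inv ≫ ((famSuccIso L n k).hom ≫
          (shiftFunctor C (2 * n)).map (Sigma.ι (fam L n) k) ≫ biprod.inr) ≫ m
        simp only [Category.assoc, Iso.inv_hom_id_assoc]
        rfl)

/-- The Eilenberg swindle: `∐ L⟦2ni⟧ ≅ L ⊞ (∐ L⟦2ni⟧)⟦2n⟧`. -/
noncomputable def swindleIso : ∐ fam L n ≅ L ⊞ (shiftFunctor C (2 * n)).obj (∐ fam L n) :=
  (coproductIsCoproduct (fam L n)).coconePointUniqueUpToIso (isColimitSwindleCofan L n)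

omit [HasCoproduct (fam L n)] in
theorem clTri_eq_zero_of_hasCoproduct (L : C) (n : ℤ) [HasCoproduct (fam L n)] :
    clTri L = 0 := by
  have h1 := clTri_congr (swindleIso L n)
  rw [clTri_biprod, clTri_shift_two_mul] at h1
  exact right_eq_add.mp h1

end Swindle

end Groth.Agent.Lib.Helper13.K0Tri
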