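import Groth.Agent.Lib.Helper13.KFlat2
import Groth.Agent.Lib.Helper28.KFlatAbs
import Groth.Agent.Lib.Helper22.FlatKer

/-!
# Factorization through a K-flat complex
-/

set_option autoImplicit false
universe u
open CategoryTheory CategoryTheory.Limits MonoidalCategory Pretriangulated
open CochainComplex CochainComplex.HomComplex HomologicalComplex

namespace Groth.Agent.Lib.Helper13.HT

open Groth.Agent.Lib.Helper13.PC Groth.Agent.Lib.Helper13.DR Groth.Agent.Lib.Helper13.SF
open Groth.Agent.Lib.Helper28

attribute [local instance] HasDerivedCategory.standard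

variable {A : Type u} [CommRing A]

lemma kflat_iff_abs (K : DRing.Cx A) :
    KFlat K ↔ KFlatAbs.IsKFlat (curriedTensor (ModuleCat.{u} A)) K := by
  constructor
  · intro h F hF i
    rw [exactAt_iff_isZero_homology]
    exact h F (fun j => by have := hF j; rwa [exactAt_iff_isZero_homology] at this) i
  · intro h F hF i
    have := h F (fun j => by rw [exactAt_iff_isZero_homology]; exact hF j) i
    rwa [exactAt_iff_isZero_homology] at this

/-- The mapping cone of a map between K-flat complexes is K-flat. -/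
lemma kflat_mappingCone {K₁ K₂ : DRing.Cx A} (φ : K₁ ⟶ K₂) (h₁ : KFlat K₁) (h₂ : KFlat K₂) :
    KFlat (mappingCone φ) :=
  (kflat_iff_abs _).2 ((KFlatAbs.isKFlat_mappingCone φ).1 ((kflat_iff_abs _).1 h₁)
    ((kflat_iff_abs _).1 h₂))

lemma flat_of_iso {M N : ModuleCat.{u} A} (e : M ≅ N) (h : Module.Flat A N) : Module.Flat A M :=
  Module.Flat.of_linearEquiv e.toLinearEquiv

lemma flat_biprod (M N : ModuleCat.{u} A) (hM : Module.Flat A M) (hN : Module.Flat A N) :
    Module.Flat A (M ⊞ N : ModuleCat.{u} A) := by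
  have : Module.Flat A (M × N) := Groth.Agent.Lib.Helper22.flat_prod A M N
  exact flat_of_iso (ModuleCat.biprodIsoProd M N) this

/-- Terms of the mapping cone of a map between termwise flat complexes are flat. -/
lemma termwiseFlat_mappingCone {K₁ K₂ : DRing.Cx A} (φ : K₁ ⟶ K₂) (h₁ : DRing.TermwiseFlat K₁)
    (h₂ : DRing.TermwiseFlat K₂) : DRing.TermwiseFlat (mappingCone φ) := by
  intro n
  have e : (mappingCone φ).X n ≅ K₁.X (n + 1) ⊞ K₂.X n :=
    homotopyCofiber.XIsoBiprod φ n (n + 1) rfl
  exact flat_of_iso e (flat_biprod _ _ (h₁ _) (h₂ _))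

theorem exists_kflat_factorization (K L : DRing.Cx A) (a : K ⟶ L) (hK : KFlat K) :
    ∃ (N : DRing.Cx A) (b : K ⟶ N) (c : N ⟶ L), KFlat N ∧
      (DRing.TermwiseFlat K → DRing.TermwiseFlat N) ∧ QuasiIso c ∧
        Nonempty (Homotopy a (b ≫ c)) := by
  let Hq := HomotopyCategory.quotient (ModuleCat.{u} A) (ComplexShape.up ℤ)
  let Ta := (mappingCone.triangleh a).invRotate
  have hTa : Ta ∈ distTriang _ :=
    inv_rot_of_distTriang _ (HomotopyCategory.mappingCone_triangleh_distinguished a)
  let F : DRing.Cx A := Ta.obj₁.as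
  let g : res F ⟶ F := resMap F
  obtain ⟨h, hh⟩ := Hq.map_surjective (Hq.map g ≫ Ta.mor₁ : Hq.obj (res F) ⟶ Hq.obj K)
  let Th := mappingCone.triangleh h
  have hTh : Th ∈ distTriang _ := HomotopyCategory.mappingCone_triangleh_distinguished h
  have hW : (HomotopyCategory.quasiIso (ModuleCat.{u} A) (ComplexShape.up ℤ)) =
      (HomotopyCategory.subcategoryAcyclic (ModuleCat.{u} A)).trW :=
    HomotopyCategory.quasiIso_eq_trW_subcategoryAcyclic _
  have hg : (HomotopyCategory.subcategoryAcyclic (ModuleCat.{u} A)).trW (Hq.map g) := by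
    rw [← hW, HomotopyCategory.quotient_map_mem_quasiIso_iff, HomologicalComplex.mem_quasiIso_iff]
    infer_instance
  have hid : (HomotopyCategory.subcategoryAcyclic (ModuleCat.{u} A)).trW (𝟙 (Hq.obj K)) := by
    rw [← hW, ← Hq.map_id, HomotopyCategory.quotient_map_mem_quasiIso_iff,
      HomologicalComplex.mem_quasiIso_iff]
    infer_instance
  obtain ⟨c', hc', hc₂, -⟩ := MorphismProperty.compatible_with_triangulation Th Ta hTh hTa
    (Hq.map g) (𝟙 (Hq.obj K)) hg hid ((Category.comp_id _).trans hh)
  obtain ⟨c, hc⟩ : ∃ c : mappingCone h ⟶ L, Hq.map c = c' := Hq.map_surjective c'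
  refine ⟨mappingCone h, mappingCone.inr h, c, ?_, ?_, ?_, ?_⟩
  · exact kflat_mappingCone h (isKFlat_of_isKProjective (res F)) hK
  · intro hKt
    refine termwiseFlat_mappingCone h (fun n => ?_) hKt
    have : Projective ((res F).X n) := res_X_projective F n
    have : Module.Projective A ((res F).X n) :=
      (IsProjective.iff_projective _).2 this
    infer_instance
  · rw [← HomologicalComplex.mem_quasiIso_iff, ← HomotopyCategory.quotient_map_mem_quasiIso_iff,
      hW]
    exact hc ▸ hc'
  · refine ⟨HomotopyCategory.homotopyOfEq _ _ ?_⟩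
    rw [Functor.map_comp]
    refine Eq.trans ?_ ((congrArg (fun x => Hq.map (mappingCone.inr h) ≫ x) hc).symm)
    exact ((Category.id_comp _).symm.trans hc₂.symm)

end Groth.Agent.Lib.Helper13.HT
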