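import Groth.Agent.Lib.Helper13.KFlat3
import Groth.Agent.Lib.Helper13.DTenAssoc

/-!
# K-flatness: homotopy invariance and two-out-of-three on distinguished triangles
-/

set_option autoImplicit false
universe u
open CategoryTheory CategoryTheory.Limits MonoidalCategory Pretriangulated
open CochainComplex CochainComplex.HomComplex HomologicalComplex

namespace Groth.Agent.Lib.Helper13.HT

open Groth.Agent.Lib.Helper13.PC Groth.Agent.Lib.Helper13.DR Groth.Agent.Lib.Helper13.SF
open Groth.Agent.Lib.Helper28 Groth.Agent.Lib.Helper13.DT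

attribute [local instance] HasDerivedCategory.standard

variable {A : Type u} [CommRing A]

/-- Tensoring on the left preserves homotopy equivalences. -/
lemma nonempty_homotopyEquiv_whiskerLeft (F : DRing.Cx A) {K K' : DRing.Cx A}
    (e : HomotopyEquiv K K') : Nonempty (HomotopyEquiv (F ⊗ K) (F ⊗ K')) := by
  obtain ⟨h1⟩ := nonempty_homotopy_tensorHom (f := 𝟙 F) (f' := 𝟙 F) ⟨Homotopy.refl _⟩
    ⟨e.homotopyHomInvId⟩
  obtain ⟨h2⟩ := nonempty_homotopy_tensorHom (f := 𝟙 F) (f' := 𝟙 F) ⟨Homotopy.refl _⟩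
    ⟨e.homotopyInvHomId⟩
  refine ⟨⟨F ◁ e.hom, F ◁ e.inv, ?_, ?_⟩⟩
  · refine (Homotopy.ofEq ?_).trans (h1.trans (Homotopy.ofEq ?_))
    · rw [id_tensorHom, MonoidalCategory.whiskerLeft_comp]
    · rw [id_tensorHom, MonoidalCategory.whiskerLeft_id]
  · refine (Homotopy.ofEq ?_).trans (h2.trans (Homotopy.ofEq ?_))
    · rw [id_tensorHom, MonoidalCategory.whiskerLeft_comp]
    · rw [id_tensorHom, MonoidalCategory.whiskerLeft_id]

/-- K-flatness is invariant under homotopy equivalence. -/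
lemma kflat_of_homotopyEquiv {K K' : DRing.Cx A} (e : HomotopyEquiv K K') (h : KFlat K) :
    KFlat K' := by
  intro F hF i
  obtain ⟨e'⟩ := nonempty_homotopyEquiv_whiskerLeft F e
  exact (h F hF i).of_iso (e'.toHomologyIso i).symm

/-- Two-out-of-three for K-flatness on distinguished triangles of `K(A)`. -/
theorem kflat_two_of_three_distTriang
    (T : Pretriangulated.Triangle (HomotopyCategory (ModuleCat.{u} A) (ComplexShape.up ℤ)))
    (hT : T ∈ distTriang _) :
    (KFlat T.obj₁.as → KFlat T.obj₂.as → KFlat T.obj₃.as) ∧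
    (KFlat T.obj₁.as → KFlat T.obj₃.as → KFlat T.obj₂.as) ∧
    (KFlat T.obj₂.as → KFlat T.obj₃.as → KFlat T.obj₁.as) := by
  obtain ⟨X, Y, φ, ⟨e⟩⟩ := hT
  have e₁ : HomotopyEquiv T.obj₁.as X :=
    HomotopyCategory.homotopyEquivOfIso (Triangle.π₁.mapIso e)
  have e₂ : HomotopyEquiv T.obj₂.as Y :=
    HomotopyCategory.homotopyEquivOfIso (Triangle.π₂.mapIso e)
  have e₃ : HomotopyEquiv T.obj₃.as (mappingCone φ) :=
    HomotopyCategory.homotopyEquivOfIso (Triangle.π₃.mapIso e)
  obtain ⟨h1, h2, h3⟩ := KFlatAbs.isKFlat_mappingCone (T := curriedTensor (ModuleCat.{u} A)) φ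
  simp only [← kflat_iff_abs] at h1 h2 h3
  refine ⟨fun a b => ?_, fun a b => ?_, fun a b => ?_⟩
  · exact kflat_of_homotopyEquiv e₃.symm
      (h1 (kflat_of_homotopyEquiv e₁ a) (kflat_of_homotopyEquiv e₂ b))
  · exact kflat_of_homotopyEquiv e₂.symm
      (h2 (kflat_of_homotopyEquiv e₁ a) (kflat_of_homotopyEquiv e₃ b))
  · exact kflat_of_homotopyEquiv e₁.symm
      (h3 (kflat_of_homotopyEquiv e₂ a) (kflat_of_homotopyEquiv e₃ b))

end Groth.Agent.Lib.Helper13.HT
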