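import Mathlib.Algebra.Homology.HomotopyCategory.KProjective
import Mathlib.Algebra.Homology.HomotopyCategory.HomComplex
import Mathlib.CategoryTheory.Adjunction.Additive

/-!
# Left adjoints of exact functors preserve K-projective complexes
-/

set_option autoImplicit false
universe v₁ v₂ u₁ u₂
open CategoryTheory CategoryTheory.Limits

namespace Groth.Agent.Lib.Helper13.SF

open CochainComplex HomComplex

variable {C₁ : Type u₁} {C₂ : Type u₂} [Category.{v₁} C₁] [Category.{v₂} C₂] [Abelian C₁]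
  [Abelian C₂] {G : C₁ ⥤ C₂} {F : C₂ ⥤ C₁} (adj : G ⊣ F) [G.Additive]

/-- Transport of a morphism along the adjunction. -/
def sharpV {X : C₁} {Y : C₂} (a : X ⟶ F.obj Y) : G.obj X ⟶ Y := (adj.homEquiv X Y).symm a

lemma sharpV_add_smul {X : C₁} {Y : C₂} (A B : X ⟶ F.obj Y) (u : ℤˣ) :
    sharpV adj (A + u • B) = sharpV adj A + u • sharpV adj B := by
  have h1 := (adj.homAddEquiv X Y).symm.map_add A (u • B)
  have h2 : (adj.homAddEquiv X Y).symm (u • B) = u • (adj.homAddEquiv X Y).symm B := by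
    rw [Units.smul_def, Units.smul_def, map_zsmul]
  rw [h2] at h1
  exact h1

lemma sharpV_zero {X : C₁} {Y : C₂} : sharpV adj (0 : X ⟶ F.obj Y) = 0 :=
  Adjunction.homAddEquiv_symm_zero adj X Y

omit [Abelian C₁] [Abelian C₂] [G.Additive] in
lemma sharpV_comp_right {X : C₁} {Y Y' : C₂} (a : X ⟶ F.obj Y) (g : Y ⟶ Y') :
    sharpV adj (a ≫ F.map g) = sharpV adj a ≫ g :=
  adj.homEquiv_naturality_right_symm a g

omit [Abelian C₁] [Abelian C₂] [G.Additive] in
lemma sharpV_comp_left {X X' : C₁} {Y : C₂} (f : X' ⟶ X) (a : X ⟶ F.obj Y) :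
    sharpV adj (f ≫ a) = G.map f ≫ sharpV adj a :=
  adj.homEquiv_naturality_left_symm f a

variable [F.Additive]

/-- Transport of cochains along an adjunction. -/
def sharp {P : CochainComplex C₁ ℤ} {L : CochainComplex C₂ ℤ} {n : ℤ}
    (α : Cochain P ((F.mapHomologicalComplex (ComplexShape.up ℤ)).obj L) n) :
    Cochain ((G.mapHomologicalComplex (ComplexShape.up ℤ)).obj P) L n :=
  Cochain.mk (fun p q hpq => sharpV adj (X := P.X p) (Y := L.X q) (α.v p q hpq))

lemma δ_sharp {P : CochainComplex C₁ ℤ} {L : CochainComplex C₂ ℤ} (n m : ℤ)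
    (α : Cochain P ((F.mapHomologicalComplex (ComplexShape.up ℤ)).obj L) n) :
    δ n m (sharp adj α) = sharp adj (δ n m α) := by
  by_cases hnm : n + 1 = m
  · ext p q hpq
    have e1 := δ_v n m hnm (sharp adj α) p q hpq (q - 1) (p + 1) rfl rfl
    have e2 := δ_v n m hnm α p q hpq (q - 1) (p + 1) rfl rfl
    refine e1.trans ?_
    let a1 : P.X p ⟶ F.obj (L.X (q - 1)) := α.v p (q - 1) (by omega)
    let a2 : P.X (p + 1) ⟶ F.obj (L.X q) := α.v (p + 1) q (by omega)
    have e3 : (sharp adj (δ n m α)).v p q hpq =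
        sharpV adj (a1 ≫ F.map (L.d (q - 1) q) + m.negOnePow • P.d p (p + 1) ≫ a2) :=
      congrArg (sharpV adj (X := P.X p) (Y := L.X q)) e2
    rw [e3, sharpV_add_smul, sharpV_comp_right, sharpV_comp_left]
    rfl
  · rw [δ_shape _ _ hnm, δ_shape _ _ hnm]
    ext p q hpq
    exact (sharpV_zero adj).symm

/-- The adjoint of a chain map. -/
def flat {P : CochainComplex C₁ ℤ} {L : CochainComplex C₂ ℤ}
    (f : (G.mapHomologicalComplex (ComplexShape.up ℤ)).obj P ⟶ L) :
    P ⟶ (F.mapHomologicalComplex (ComplexShape.up ℤ)).obj L where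
  f n := adj.homEquiv (P.X n) (L.X n) (f.f n)
  comm' i j _ := by
    let fi : G.obj (P.X i) ⟶ L.X i := f.f i
    let fj : G.obj (P.X j) ⟶ L.X j := f.f j
    have h1 := adj.homEquiv_naturality_right fi (L.d i j)
    have h2 := adj.homEquiv_naturality_left (P.d i j) fj
    have h3 : G.map (P.d i j) ≫ fj = fi ≫ L.d i j := (f.comm i j).symm
    exact (h1.symm.trans (congrArg _ h3.symm)).trans h2

lemma sharp_ofHom_flat {P : CochainComplex C₁ ℤ} {L : CochainComplex C₂ ℤ}
    (f : (G.mapHomologicalComplex (ComplexShape.up ℤ)).obj P ⟶ L) :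
    sharp adj (Cochain.ofHom (flat adj f)) = Cochain.ofHom f := by
  refine Cochain.ext₀ _ _ (fun p => ?_)
  rw [Cochain.ofHom_v]
  change sharpV adj (X := P.X p) (Y := L.X p) ((Cochain.ofHom (flat adj f)).v p p (add_zero p)) = _
  rw [Cochain.ofHom_v]
  exact (adj.homEquiv (P.X p) (L.X p)).symm_apply_apply (f.f p)

include adj in
/-- A left adjoint of a functor preserving acyclic complexes preserves K-projectivity. -/
lemma isKProjective_map_of_adjunction (P : CochainComplex C₁ ℤ) [P.IsKProjective]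
    (hF : ∀ L : CochainComplex C₂ ℤ, L.Acyclic →
      ((F.mapHomologicalComplex (ComplexShape.up ℤ)).obj L).Acyclic) :
    CochainComplex.IsKProjective ((G.mapHomologicalComplex (ComplexShape.up ℤ)).obj P) := by
  refine ⟨fun {L} f hL => ?_⟩
  let h := IsKProjective.homotopyZero (flat adj f) (hF L hL)
  refine ⟨(Cochain.equivHomotopy f 0).symm ⟨sharp adj (Cochain.ofHomotopy h), ?_⟩⟩
  rw [δ_sharp, δ_ofHomotopy, Cochain.ofHom_zero, sub_zero, sharp_ofHom_flat, Cochain.ofHom_zero,
    add_zero]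

end Groth.Agent.Lib.Helper13.SF
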