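import Mathlib.CategoryTheory.Functor.KanExtension.Basic
import Mathlib.Logic.Small.Defs
import Mathlib.CategoryTheory.Types.Basic

set_option autoImplicit false

universe u

namespace Groth.Agent.Lib.Helper13.Kan

open CategoryTheory

variable {𝒯 : Type*} [Category 𝒯]

/-- A copower, over the set `S`, of a corepresenting object of `H`. -/
structure Copower (H : 𝒯 ⥤ Type u) (S : Type u) where
  Z : 𝒯
  ι : S → H.obj Z
  bij : ∀ Y : 𝒯, Function.Bijective (fun (g : Z ⟶ Y) (s : S) => H.map g (ι s))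

namespace Copower

variable {H : 𝒯 ⥤ Type u} {S : Type u} (c : Copower H S)

noncomputable def desc {Y : 𝒯} (φ : S → H.obj Y) : c.Z ⟶ Y :=
  (Equiv.ofBijective _ (c.bij Y)).symm φ

lemma map_desc {Y : 𝒯} (φ : S → H.obj Y) (s : S) : H.map (c.desc φ) (c.ι s) = φ s :=
  congrFun ((Equiv.ofBijective _ (c.bij Y)).apply_symm_apply φ) s

lemma hom_ext {Y : 𝒯} (g g' : c.Z ⟶ Y) (h : ∀ s, H.map g (c.ι s) = H.map g' (c.ι s)) : g = g' :=
  (c.bij Y).injective (funext h)

end Copower

variable {𝒦 𝒟 : Type*} [Category 𝒦] [Category 𝒟]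
  (L : 𝒦 ⥤ 𝒟) (F : 𝒦 ⥤ 𝒯) (LF : 𝒟 ⥤ 𝒯) (α : L ⋙ LF ⟶ F) [LF.IsRightKanExtension α]
  (P : 𝒦) (H : 𝒯 ⥤ Type u)

section

variable (cop : ∀ S : Type u, Copower H S) [∀ Y : 𝒟, Small.{u} (L.obj P ⟶ Y)]

/-- The functor `Y ↦ Z ⊗ Hom(L P, Y)`. -/
noncomputable def G : 𝒟 ⥤ 𝒯 where
  obj Y := (cop (Shrink.{u} (L.obj P ⟶ Y))).Z
  map {Y Y'} y := (cop _).desc (fun s => (cop _).ι (equivShrink _ ((equivShrink _).symm s ≫ y)))
  map_id Y := by
    refine (cop _).hom_ext _ _ (fun s => ?_)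
    rw [Copower.map_desc]
    simp
  map_comp {Y Y' Y''} y y' := by
    refine (cop _).hom_ext _ _ (fun s => ?_)
    rw [Copower.map_desc, Functor.map_comp_apply, Copower.map_desc, Copower.map_desc]
    simp

/-- The generator of `G Y` attached to `f : L P ⟶ Y`. -/
noncomputable def gen {Y : 𝒟} (f : L.obj P ⟶ Y) : H.obj ((G L P H cop).obj Y) :=
  (cop (Shrink.{u} (L.obj P ⟶ Y))).ι (equivShrink _ f)

lemma G_map_gen {Y Y' : 𝒟} (y : Y ⟶ Y') (f : L.obj P ⟶ Y) :
    H.map ((G L P H cop).map y) (gen L P H cop f) = gen L P H cop (f ≫ y) :=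
  ((cop (Shrink.{u} (L.obj P ⟶ Y))).map_desc _ _).trans
    (congrArg (fun t => (cop (Shrink.{u} (L.obj P ⟶ Y'))).ι (equivShrink _ (t ≫ y)))
      (Equiv.symm_apply_apply _ f))

lemma G_hom_ext {Y : 𝒟} {T : 𝒯} (g g' : (G L P H cop).obj Y ⟶ T)
    (h : ∀ f : L.obj P ⟶ Y, H.map g (gen L P H cop f) = H.map g' (gen L P H cop f)) : g = g' := by
  refine (cop (Shrink.{u} (L.obj P ⟶ Y))).hom_ext g g' (fun s => ?_)
  have := h ((equivShrink _).symm s)
  exact (congrArg (fun t => H.map g ((cop (Shrink.{u} (L.obj P ⟶ Y))).ι t))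
    (Equiv.apply_symm_apply _ s)).symm.trans (this.trans
      (congrArg (fun t => H.map g' ((cop (Shrink.{u} (L.obj P ⟶ Y))).ι t))
        (Equiv.apply_symm_apply _ s)))

/-- Morphisms out of `G Y`. -/
noncomputable def Gdesc {Y : 𝒟} {T : 𝒯} (φ : (L.obj P ⟶ Y) → H.obj T) : (G L P H cop).obj Y ⟶ T :=
  (cop (Shrink.{u} (L.obj P ⟶ Y))).desc (fun s => φ ((equivShrink _).symm s))

lemma map_Gdesc {Y : 𝒟} {T : 𝒯} (φ : (L.obj P ⟶ Y) → H.obj T) (f : L.obj P ⟶ Y) :
    H.map (Gdesc L P H cop φ) (gen L P H cop f) = φ f :=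
  ((cop (Shrink.{u} (L.obj P ⟶ Y))).map_desc _ _).trans
    (congrArg φ (Equiv.symm_apply_apply _ f))

variable (hP1 : ∀ (X : 𝒦) (f : L.obj P ⟶ L.obj X), ∃ f' : P ⟶ X, L.map f' = f)
  (hP2 : ∀ (X : 𝒦) (f g : P ⟶ X), L.map f = L.map g → F.map f = F.map g)

/-- A chosen lift of a morphism `L P ⟶ L X`. -/
noncomputable def lift {X : 𝒦} (f : L.obj P ⟶ L.obj X) : P ⟶ X := (hP1 X f).choose

omit [∀ Y : 𝒟, Small.{u} (L.obj P ⟶ Y)] in
lemma map_lift {X : 𝒦} (f : L.obj P ⟶ L.obj X) : L.map (lift L P hP1 f) = f :=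
  (hP1 X f).choose_spec

/-- The natural transformation `L ⋙ G ⟶ F` attached to a class `ζ ∈ H (F P)`. -/
noncomputable def β (ζ : H.obj (F.obj P)) : L ⋙ G L P H cop ⟶ F where
  app X := Gdesc L P H cop (fun f => H.map (F.map (lift L P hP1 f)) ζ)
  naturality {X X'} h := by
    refine G_hom_ext L P H cop _ _ (fun f => ?_)
    dsimp only [Functor.comp_obj, Functor.comp_map]
    rw [Functor.map_comp_apply, Functor.map_comp_apply, G_map_gen, map_Gdesc, map_Gdesc,
      ← Functor.map_comp_apply, ← F.map_comp]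
    have e : F.map (lift L P hP1 (f ≫ L.map h)) = F.map (lift L P hP1 f ≫ h) := by
      apply hP2
      rw [map_lift, L.map_comp, map_lift]
    rw [e]

/-- The natural transformation `G ⟶ LF` attached to a class `ω ∈ H (LF (L P))`. -/
noncomputable def γ (ω : H.obj (LF.obj (L.obj P))) : G L P H cop ⟶ LF where
  app Y := Gdesc L P H cop (fun f => H.map (LF.map f) ω)
  naturality {Y Y'} y := by
    refine G_hom_ext L P H cop _ _ (fun f => ?_)
    rw [Functor.map_comp_apply, Functor.map_comp_apply, G_map_gen, map_Gdesc, map_Gdesc,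
      ← Functor.map_comp_apply, ← LF.map_comp]

include cop hP1 hP2 in
/-- **Theorem V** (abstract form): the counit of a right Kan extension is bijective on `H` at an
object `P` from which morphisms lift uniquely enough. -/
theorem bijective_map_counit : Function.Bijective (H.map (α.app P)) := by
  constructor
  · intro ω₁ ω₂ h
    have key : γ L LF P H cop ω₁ = γ L LF P H cop ω₂ := by
      refine LF.hom_ext_of_isRightKanExtension α _ _ ?_
      ext X
      refine G_hom_ext L P H cop _ _ (fun f => ?_)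
      dsimp only [NatTrans.comp_app, Functor.whiskerLeft_app, γ]
      rw [Functor.map_comp_apply, Functor.map_comp_apply, map_Gdesc, map_Gdesc]
      obtain ⟨f', hf'⟩ := hP1 X f
      rw [← hf', ← Functor.map_comp_apply, ← Functor.map_comp_apply]
      have nat := α.naturality f'
      dsimp at nat
      rw [nat, Functor.map_comp_apply, Functor.map_comp_apply, h]
    have e := congrArg (fun t => H.map (t.app (L.obj P)) (gen L P H cop (𝟙 _))) key
    dsimp only [γ] at e
    rw [map_Gdesc, map_Gdesc] at e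
    simpa using e
  · intro ζ
    let γ₀ := LF.liftOfIsRightKanExtension α (G L P H cop) (β L F P H cop hP1 hP2 ζ)
    refine ⟨H.map (γ₀.app (L.obj P)) (gen L P H cop (𝟙 _)), ?_⟩
    rw [← Functor.map_comp_apply, LF.liftOfIsRightKanExtension_fac_app α]
    dsimp only [β]
    rw [map_Gdesc]
    have : F.map (lift L P hP1 (𝟙 (L.obj P))) = F.map (𝟙 P) := by
      apply hP2
      rw [map_lift]
      simp
    rw [this]
    simp

end

end Groth.Agent.Lib.Helper13.Kan
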