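import Mathlib.CategoryTheory.Functor.KanExtension.Basic
import Mathlib.CategoryTheory.Localization.Predicate
import Mathlib.CategoryTheory.Functor.Derived.LeftDerived

/-!
# A criterion for left derived functors via resolutions

If every object `X` admits a map `p : P X ⟶ X` inverted by the localization functor `L`, such that
morphisms `L (P X) ⟶ L Y` lift to `P X ⟶ Y`, and `α : L ⋙ LF ⟶ F` is an isomorphism on the
objects `P X`, then `(LF, α)` is a right Kan extension of `F` along `L`.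
-/

set_option autoImplicit false

namespace Groth.Agent.Lib.Helper13.Kan

open CategoryTheory CategoryTheory.Limits

variable {𝒦 𝒟 𝒯 : Type*} [Category 𝒦] [Category 𝒟] [Category 𝒯]
  (L : 𝒦 ⥤ 𝒟) (W : MorphismProperty 𝒦) [L.IsLocalization W]
  {F : 𝒦 ⥤ 𝒯} {LF : 𝒟 ⥤ 𝒯} (α : L ⋙ LF ⟶ F)

/-- Resolution data adapted to `α`. -/
structure Resolutions where
  P : 𝒦 → 𝒦
  p : ∀ X, P X ⟶ X
  hp : ∀ X, IsIso (L.map (p X))
  lift : ∀ (X Y : 𝒦) (f : L.obj (P X) ⟶ L.obj Y), ∃ f' : P X ⟶ Y, L.map f' = f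
  iso : ∀ X, IsIso (α.app (P X))

namespace Resolutions

variable {L α} (R : Resolutions L α)

/-- The component of the lift. -/
noncomputable def δapp {H : 𝒟 ⥤ 𝒯} (γ : L ⋙ H ⟶ F) (X : 𝒦) :
    H.obj (L.obj X) ⟶ LF.obj (L.obj X) :=
  have := R.hp X
  have := R.iso X
  inv (H.map (L.map (R.p X))) ≫ γ.app (R.P X) ≫ inv (α.app (R.P X)) ≫ LF.map (L.map (R.p X))

lemma δapp_naturality {H : 𝒟 ⥤ 𝒯} (γ : L ⋙ H ⟶ F) {X Y : 𝒦} (f : X ⟶ Y) :
    H.map (L.map f) ≫ R.δapp γ Y = R.δapp γ X ≫ LF.map (L.map f) := by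
  have := R.hp X
  have := R.hp Y
  have := R.iso X
  have := R.iso Y
  obtain ⟨f', hf'⟩ := R.lift X (R.P Y) (L.map (R.p X ≫ f) ≫ inv (L.map (R.p Y)))
  have h1 : L.map f' ≫ L.map (R.p Y) = L.map (R.p X) ≫ L.map f := by
    rw [hf', Category.assoc, IsIso.inv_hom_id, Category.comp_id, L.map_comp]
  have hα : inv (α.app (R.P X)) ≫ LF.map (L.map f') = F.map f' ≫ inv (α.app (R.P Y)) := by
    rw [IsIso.inv_comp_eq, ← Category.assoc, IsIso.eq_comp_inv]
    exact α.naturality f'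
  have hγ : γ.app (R.P X) ≫ F.map f' = H.map (L.map f') ≫ γ.app (R.P Y) :=
    (γ.naturality f').symm
  have hH : H.map (L.map f) ≫ inv (H.map (L.map (R.p Y))) =
      inv (H.map (L.map (R.p X))) ≫ H.map (L.map f') := by
    rw [IsIso.eq_inv_comp, ← Category.assoc, IsIso.comp_inv_eq, ← H.map_comp, ← H.map_comp, h1]
  have hLF : LF.map (L.map (R.p X)) ≫ LF.map (L.map f) =
      LF.map (L.map f') ≫ LF.map (L.map (R.p Y)) := by
    rw [← LF.map_comp, ← LF.map_comp, h1]
  dsimp only [δapp]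
  simp only [Category.assoc]
  rw [hLF, reassoc_of% hα, reassoc_of% hγ, reassoc_of% hH]

/-- The natural transformation `L ⋙ H ⟶ L ⋙ LF`. -/
noncomputable def δ {H : 𝒟 ⥤ 𝒯} (γ : L ⋙ H ⟶ F) : L ⋙ H ⟶ L ⋙ LF where
  app X := R.δapp γ X
  naturality _ _ f := R.δapp_naturality γ f

lemma δapp_comp {H : 𝒟 ⥤ 𝒯} (γ : L ⋙ H ⟶ F) (X : 𝒦) : R.δapp γ X ≫ α.app X = γ.app X := by
  have := R.hp X
  have := R.iso X
  have h1 : LF.map (L.map (R.p X)) ≫ α.app X = α.app (R.P X) ≫ F.map (R.p X) :=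
    α.naturality (R.p X)
  have h2 : γ.app (R.P X) ≫ F.map (R.p X) = H.map (L.map (R.p X)) ≫ γ.app X :=
    (γ.naturality (R.p X)).symm
  dsimp only [δapp]
  simp only [Category.assoc]
  rw [h1, IsIso.inv_hom_id_assoc, h2, IsIso.inv_hom_id_assoc]

lemma δapp_unique {H : 𝒟 ⥤ 𝒯} (γ : L ⋙ H ⟶ F) (n : H ⟶ LF)
    (hn : ∀ X, n.app (L.obj X) ≫ α.app X = γ.app X) (X : 𝒦) :
    n.app (L.obj X) = R.δapp γ X := by
  have := R.hp X
  have := R.iso X
  have hnat := n.naturality (L.map (R.p X))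
  dsimp only [δapp]
  rw [IsIso.eq_inv_comp, hnat, ← hn (R.P X)]
  simp

include W R in
/-- The criterion. -/
theorem isRightKanExtension : LF.IsRightKanExtension α := by
  have key : ∀ E : Functor.RightExtension L F, ∃ m : E.left ⟶ LF,
      (∀ X, m.app (L.obj X) = R.δapp E.hom X) := fun E =>
    ⟨Localization.liftNatTrans L W (L ⋙ E.left) (L ⋙ LF) E.left LF (R.δ E.hom), fun X => by
      rw [Localization.liftNatTrans_app]
      dsimp [Localization.Lifting.iso]
      simp only [Category.id_comp, Category.comp_id]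
      rfl⟩
  choose m hm using key
  refine ⟨⟨IsTerminal.ofUniqueHom (fun E => CostructuredArrow.homMk (m E) ?_) ?_⟩⟩
  · ext X
    dsimp
    rw [hm]
    exact R.δapp_comp E.hom X
  · intro E m'
    ext : 1
    apply Localization.natTrans_ext L W
    intro X
    have hw := CostructuredArrow.w m'
    change m'.left.app (L.obj X) = (m E).app (L.obj X)
    rw [hm]
    exact R.δapp_unique E.hom m'.left
      (fun Y => congrArg (fun t => NatTrans.app t Y) hw) X

end Resolutions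

end Groth.Agent.Lib.Helper13.Kan
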