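import Groth.Agent.Lib.Helper28.KoszulTop
import Groth.Agent.Lib.Helper11.KzRes
import Groth.Agent.Lib.Helper17.KosK0
import Groth.Prelude.Def_LCI2
import Groth.Agent.Lib.Helper13.DRingDescent3

set_option autoImplicit false
universe u
open CategoryTheory CategoryTheory.Limits

namespace Groth.Agent.Lib.Helper13.KP

open DerivedCategory

attribute [local instance] HasDerivedCategory.standard

variable (A : Type u) [CommRing A]

/-- The Koszul complex of a Koszul-regular sequence resolves `A/(l)`. -/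
theorem nonempty_Q_koszul_iso_single (l : List A) (h : LCI.IsKoszulRegularSeq A l) :
    Nonempty (Q.obj (Koszul.koszul A l) ≅
      (DerivedCategory.singleFunctor (ModuleCat.{u} A) 0).obj
        (ModuleCat.of A (A ⧸ Ideal.ofList l))) := by
  let K := Koszul.koszul A l
  let X := Q.obj K
  have hz : ∀ i : ℤ, i ≠ 0 → IsZero ((DerivedCategory.homologyFunctor (ModuleCat.{u} A) i).obj X) :=
    fun i hi => (h i hi).of_iso ((DerivedCategory.homologyFunctorFactors (ModuleCat.{u} A) i).app K)
  haveI : X.IsGE 0 := (DerivedCategory.isGE_iff X 0).2 (fun i hi => hz i (by lia))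
  haveI : X.IsLE 0 := (DerivedCategory.isLE_iff X 0).2 (fun i hi => hz i (by lia))
  obtain ⟨M, ⟨e⟩⟩ := DerivedCategory.exists_iso_singleFunctor_obj_of_isGE_of_isLE X 0
  obtain ⟨e1⟩ := Groth.Agent.Lib.Helper28.Koszul.nonempty_homologyZero_equiv A l
  have hK : Koszul.koszul A l = CohIII.koszulCx (ModuleCat.of A A) l :=
    Groth.Agent.Lib.Helper11.Kz.koszul_eq l
  have htop : (Ideal.ofList l • (⊤ : Submodule A A)) = Ideal.ofList l := by
    rw [smul_eq_mul, Ideal.mul_top]
  let e2 : K.homology 0 ≅ ModuleCat.of A (A ⧸ Ideal.ofList l) :=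
    (HomologicalComplex.homologyFunctor _ _ 0).mapIso (eqToIso hK) ≪≫
      (e1 ≪≫ₗ Submodule.quotEquivOfEq _ _ htop).toModuleIso
  let e0 : M ≅ ModuleCat.of A (A ⧸ Ideal.ofList l) :=
    ((DerivedCategory.singleFunctorCompHomologyFunctorIso (ModuleCat.{u} A) 0).app M).symm ≪≫
      (DerivedCategory.homologyFunctor (ModuleCat.{u} A) 0).mapIso e.symm ≪≫
      (DerivedCategory.homologyFunctorFactors (ModuleCat.{u} A) 0).app K ≪≫ e2
  exact ⟨e ≪≫ (DerivedCategory.singleFunctor (ModuleCat.{u} A) 0).mapIso e0⟩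

/-- `A/(l)` is a perfect module for a Koszul-regular sequence `l`. -/
theorem isPerfectModule_quotient_of_koszulRegular (l : List A) (h : LCI.IsKoszulRegularSeq A l) :
    DRing.IsPerfectModule A (A ⧸ Ideal.ofList l) := by
  obtain ⟨e⟩ := nonempty_Q_koszul_iso_single A l h
  exact (Groth.Agent.Lib.Helper17.KosK0.koszul_isPerf A l).of_iso e

end Groth.Agent.Lib.Helper13.KP
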