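import Groth.Agent.Lib.Helper13.RHomModel1

/-!
# `RHom(-, L)` sends distinguished triangles to distinguished triangles
-/

set_option autoImplicit false
universe u
open CategoryTheory CategoryTheory.Limits MonoidalCategory Pretriangulated
open CochainComplex HomologicalComplex

namespace Groth.Agent.Lib.Helper13.DV

open DTen Groth.Agent.Lib.Helper13.HT Groth.Agent.Lib.Helper13.SF Groth.Agent.Lib.Helper13.KP

attribute [local instance] HasDerivedCategory.standard

variable {A : Type u} [CommRing A]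

/-- Every distinguished triangle of `D(A)` is, on its first two maps, the image of a degreewise
split short exact sequence of K-projective complexes. -/
lemma exists_kprojective_split_shortComplex_of_distTriang (T₀ : Triangle (Dual.D A))
    (hT₀ : T₀ ∈ distTriang (Dual.D A)) :
    ∃ (S : ShortComplex (DRing.Cx A)) (_ : ∀ n, (S.map (HomologicalComplex.eval _ _ n)).Splitting)
      (_ : S.X₁.IsKProjective) (_ : S.X₂.IsKProjective) (_ : S.X₃.IsKProjective)
      (e₁ : T₀.obj₁ ≅ DerivedCategory.Q.obj S.X₁) (e₂ : T₀.obj₂ ≅ DerivedCategory.Q.obj S.X₂)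
      (e₃ : T₀.obj₃ ≅ DerivedCategory.Q.obj S.X₃),
      T₀.mor₁ ≫ e₂.hom = e₁.hom ≫ DerivedCategory.Q.map S.f ∧
        T₀.mor₂ ≫ e₃.hom = e₂.hom ≫ DerivedCategory.Q.map S.g := by
  have h := inv_rot_of_distTriang _ hT₀
  obtain ⟨PX, hPX, -, ⟨eX⟩⟩ := exists_kprojective_rep T₀.invRotate.obj₁
  obtain ⟨PY, hPY, -, ⟨eY⟩⟩ := exists_kprojective_rep T₀.invRotate.obj₂
  obtain ⟨φ, hφ⟩ := exists_Q_map_eq (eX.hom ≫ T₀.invRotate.mor₁ ≫ eY.inv)
  have comm : (DerivedCategory.Q.mapTriangle.obj (mappingCone.triangle φ)).mor₁ ≫ eY.hom =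
      eX.hom ≫ T₀.invRotate.mor₁ := by
    change DerivedCategory.Q.map φ ≫ eY.hom = _
    rw [hφ]
    simp
  let eT := isoTriangleOfIso₁₂ _ _ (DerivedCategory.mappingCone_triangle_distinguished φ) h
    eX eY comm
  let e' : T₀ ≅ DerivedCategory.Q.mapTriangle.obj (mappingCone.triangle φ).rotate :=
    ((invRotCompRot).app T₀).symm ≪≫ (rotate _).mapIso eT.symm ≪≫
      (DerivedCategory.Q.mapTriangleRotateIso).app _
  have i₂ : (mappingCone φ).IsKProjective := inferInstance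
  have i₃ : (PX⟦(1 : ℤ)⟧).IsKProjective := inferInstance
  refine ⟨mappingCone.triangleRotateShortComplex φ,
    mappingCone.triangleRotateShortComplexSplitting φ, hPY, i₂, i₃,
    Triangle.π₁.mapIso e', Triangle.π₂.mapIso e', Triangle.π₃.mapIso e', ?_, ?_⟩
  · exact e'.hom.comm₁
  · exact e'.hom.comm₂

end Groth.Agent.Lib.Helper13.DV

namespace Groth.Agent.Lib.Helper13.DV

open DTen Groth.Agent.Lib.Helper13.HT Groth.Agent.Lib.Helper13.SF Groth.Agent.Lib.Helper13.KP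

attribute [local instance] HasDerivedCategory.standard

variable {A : Type u} [CommRing A] [HasLTen A] [HasRHom A]

@[reassoc]
lemma RHomMap_comp {L L' L'' : Dual.D A} (g' : L'' ⟶ L') (g : L' ⟶ L) (M : Dual.D A) :
    RHomMap (g' ≫ g) M = RHomMap g M ≫ RHomMap g' M := by
  dsimp only [RHomMap]
  rw [op_comp, Functor.map_comp, NatTrans.comp_app]
  rfl

lemma RHomMap_naturality {L L' : Dual.D A} (g : L' ⟶ L) {M M' : Dual.D A} (m : M ⟶ M') :
    (RHomR A L).map m ≫ RHomMap g M' = RHomMap g M ≫ (RHomR A L').map m :=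
  ((RHom A).map g.op).naturality m

/-- `RHom(-, M)` applied to an isomorphism. -/
noncomputable def rhomIsoLeft {L L' : Dual.D A} (e : L' ≅ L) (M : Dual.D A) :
    (RHomR A L).obj M ≅ (RHomR A L').obj M :=
  ((RHom A).mapIso e.op).app M

lemma rhomIsoLeft_hom {L L' : Dual.D A} (e : L' ≅ L) (M : Dual.D A) :
    (rhomIsoLeft e M).hom = RHomMap e.hom M := rfl

/-- `RHom(-, L)` sends distinguished triangles to distinguished triangles (up to isomorphism, on
the first two maps). -/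
theorem exists_distTriang_RHom (T₀ : Triangle (Dual.D A)) (hT₀ : T₀ ∈ distTriang (Dual.D A))
    (L : Dual.D A) :
    ∃ (T₁ : Triangle (Dual.D A)) (_ : T₁ ∈ distTriang (Dual.D A))
      (e₁ : T₁.obj₁ ≅ (RHomR A T₀.obj₃).obj L) (e₂ : T₁.obj₂ ≅ (RHomR A T₀.obj₂).obj L)
      (e₃ : T₁.obj₃ ≅ (RHomR A T₀.obj₁).obj L),
      T₁.mor₁ ≫ e₂.hom = e₁.hom ≫ RHomMap T₀.mor₂ L ∧
        T₁.mor₂ ≫ e₃.hom = e₂.hom ≫ RHomMap T₀.mor₁ L := by
  obtain ⟨S, σ, i₁, i₂, i₃, e₁, e₂, e₃, c₁, c₂⟩ :=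
    exists_kprojective_split_shortComplex_of_distTriang T₀ hT₀
  let L' : DRing.Cx A := DerivedCategory.Q.objPreimage L
  let eL : DerivedCategory.Q.obj L' ≅ L := DerivedCategory.Q.objObjPreimageIso L
  have hSE := shortExact_homShortComplex S σ L'
  have j₁ := isIso_rhoCx S.X₁ L'
  have j₂ := isIso_rhoCx S.X₂ L'
  have j₃ := isIso_rhoCx S.X₃ L'
  let a : ∀ (Z : Dual.D A) (X : DRing.Cx A) (e : Z ≅ DerivedCategory.Q.obj X) [IsIso (rhoCx X L')],
      DerivedCategory.Q.obj (DRing.homCx X L') ≅ (RHomR A Z).obj L :=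
    fun Z X e _ => asIso (rhoCx X L') ≪≫ rhomIsoLeft e _ ≪≫ (RHomR A Z).mapIso eL
  have key : ∀ {Z Z' : Dual.D A} {X X' : DRing.Cx A} (e : Z ≅ DerivedCategory.Q.obj X)
      (e' : Z' ≅ DerivedCategory.Q.obj X') [IsIso (rhoCx X L')] [IsIso (rhoCx X' L')]
      (m : Z ⟶ Z') (f : X ⟶ X') (c : m ≫ e'.hom = e.hom ≫ DerivedCategory.Q.map f),
      DerivedCategory.Q.map (preMap f L') ≫ (a Z X e).hom = (a Z' X' e').hom ≫ RHomMap m L := by
    intro Z Z' X X' e e' _ _ m f c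
    change DerivedCategory.Q.map (preMap f L') ≫ rhoCx X L' ≫ RHomMap e.hom _ ≫
      (RHomR A Z).map eL.hom = (rhoCx X' L' ≫ RHomMap e'.hom _ ≫ (RHomR A Z').map eL.hom) ≫
        RHomMap m L
    rw [reassoc_of% (rhoCx_naturality f L'), ← RHomMap_comp_assoc, ← c, RHomMap_comp_assoc,
      Category.assoc, Category.assoc, RHomMap_naturality]
  refine ⟨DerivedCategory.triangleOfSES hSE, DerivedCategory.triangleOfSES_distinguished hSE,
    a _ _ e₃, a _ _ e₂, a _ _ e₁, ?_, ?_⟩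
  · exact key e₂ e₃ T₀.mor₂ S.g c₂
  · exact key e₁ e₂ T₀.mor₁ S.f c₁

end Groth.Agent.Lib.Helper13.DV
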