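import Groth.Agent.Lib.Helper13.DTenDev5
import Groth.Agent.Lib.Helper13.HomCx2
import Groth.Agent.Lib.Helper13.KProjCone

/-!
# A chain-level model of `RHom(QP, QL)` for K-projective `P`
-/

set_option autoImplicit false
universe u
open CategoryTheory CategoryTheory.Limits MonoidalCategory Pretriangulated

namespace Groth.Agent.Lib.Helper13.DV

open DTen Groth.Agent.Lib.Helper13.HT Groth.Agent.Lib.Helper13.SF Groth.Agent.Lib.Helper13.KP

attribute [local instance] HasDerivedCategory.standard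

variable {A : Type u} [CommRing A] [HasLTen A]

/-- Naturality of the counit `ε` in the first variable. -/
lemma ε_naturality_left {X X' : DRing.Cx A} (a : X ⟶ X') (Y : DRing.Cx A) :
    (LTen₂ A).map (Prod.mkHom (DerivedCategory.Q.map a) (𝟙 (DerivedCategory.Q.obj Y))) ≫
        (ε A).app (X', Y) = (ε A).app (X, Y) ≫ DerivedCategory.Q.map (a ▷ Y) := by
  have := (ε A).naturality (Prod.mkHom a (𝟙 Y) : (X, Y) ⟶ (X', Y))
  dsimp at this
  rw [MonoidalCategory.whiskerLeft_id, Category.comp_id, CategoryTheory.Functor.map_id] at this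
  exact this

/-- Naturality of the counit `ε` in the second variable. -/
lemma ε_naturality_right (X : DRing.Cx A) {Y Y' : DRing.Cx A} (b : Y ⟶ Y') :
    (LTen₂ A).map (Prod.mkHom (𝟙 (DerivedCategory.Q.obj X)) (DerivedCategory.Q.map b)) ≫
        (ε A).app (X, Y') = (ε A).app (X, Y) ≫ DerivedCategory.Q.map (X ◁ b) := by
  have := (ε A).naturality (Prod.mkHom (𝟙 X) b : (X, Y) ⟶ (X, Y'))
  dsimp at this
  rw [MonoidalCategory.id_whiskerRight, Category.id_comp, CategoryTheory.Functor.map_id] at this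
  exact this

variable [HasRHom A]

/-- Compatibility of the adjunction bijections with `RHomMap`. -/
lemma homEquiv_comp_RHomMap {K L L' M : Dual.D A} (g : L' ⟶ L) (x : (LTen₂ A).obj (K, L) ⟶ M) :
    rhomHomEquiv K L M x ≫ RHomMap g M =
      rhomHomEquiv K L' M ((LTen₂ A).map (Prod.mkHom (𝟙 K) g) ≫ x) := by
  apply (rhomHomEquiv K L' M).symm.injective
  rw [Equiv.symm_apply_apply]
  change (LTen₂ A).map (Prod.mkHom (rhomHomEquiv K L M x ≫ RHomMap g M) (𝟙 L')) ≫ ev L' M = _
  have h1 : (LTen₂ A).map (Prod.mkHom (rhomHomEquiv K L M x ≫ RHomMap g M) (𝟙 L')) =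
      (LTen₂ A).map (Prod.mkHom (rhomHomEquiv K L M x) (𝟙 L')) ≫
        (LTen₂ A).map (Prod.mkHom (RHomMap g M) (𝟙 L')) := by
    rw [LTen₂_map_comp, Category.comp_id]
  rw [h1, Category.assoc, RHom_map_ev, ← Category.assoc, LTen₂_map_comp, Category.comp_id,
    Category.id_comp]
  have h2 : (LTen₂ A).map (Prod.mkHom (rhomHomEquiv K L M x) g) =
      (LTen₂ A).map (Prod.mkHom (𝟙 K) g) ≫
        (LTen₂ A).map (Prod.mkHom (rhomHomEquiv K L M x) (𝟙 L)) := by
    rw [LTen₂_map_comp, Category.comp_id, Category.id_comp]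
  rw [h2, Category.assoc]
  congr 1
  exact (rhomHomEquiv K L M).left_inv x

/-- The comparison map `Q(Hom•(P, L)) ⟶ RHom(QP, QL)`. -/
noncomputable def rhoCx (P L : DRing.Cx A) :
    DerivedCategory.Q.obj (DRing.homCx P L) ⟶
      (RHomR A (DerivedCategory.Q.obj P)).obj (DerivedCategory.Q.obj L) :=
  rhomHomEquiv _ _ _ ((ε A).app (DRing.homCx P L, P) ≫ DerivedCategory.Q.map (evCx P L))

/-- Naturality of the comparison map in `P`. -/
lemma rhoCx_naturality {P P' : DRing.Cx A} (f : P' ⟶ P) (L : DRing.Cx A) :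
    DerivedCategory.Q.map (preMap f L) ≫ rhoCx P' L =
      rhoCx P L ≫ RHomMap (DerivedCategory.Q.map f) (DerivedCategory.Q.obj L) := by
  dsimp only [rhoCx]
  rw [homEquiv_comp_RHomMap, ← Adjunction.homEquiv_naturality_left]
  congr 1
  change (LTen₂ A).map (Prod.mkHom (DerivedCategory.Q.map (preMap f L))
    (𝟙 (DerivedCategory.Q.obj P'))) ≫ _ = _
  rw [reassoc_of% (ε_naturality_left (preMap f L) P'),
    reassoc_of% (ε_naturality_right (DRing.homCx P L) f), ← Functor.map_comp, ← Functor.map_comp,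
    whiskerLeft_evCx]

/-- The adjunct of `Q(u) ≫ ρ`. -/
lemma homEquiv_symm_Q_map_comp_rhoCx {X P L : DRing.Cx A} (u : X ⟶ DRing.homCx P L) :
    (rhomHomEquiv _ _ _).symm (DerivedCategory.Q.map u ≫ rhoCx P L) =
      (ε A).app (X, P) ≫ DerivedCategory.Q.map (uncurryHom u) := by
  dsimp only [rhoCx]
  rw [← Adjunction.homEquiv_naturality_left, Equiv.symm_apply_apply]
  change (LTen₂ A).map (Prod.mkHom (DerivedCategory.Q.map u)
    (𝟙 (DerivedCategory.Q.obj P))) ≫ _ = _
  rw [reassoc_of% (ε_naturality_left u P), ← Functor.map_comp, whiskerRight_evCx]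

/-- The comparison map is an isomorphism for K-projective `P`. -/
theorem isIso_rhoCx (P L : DRing.Cx A) [P.IsKProjective] : IsIso (rhoCx P L) := by
  apply isIso_of_yoneda_map_bijective
  intro W
  obtain ⟨X, hX, -, ⟨eW⟩⟩ := exists_kprojective_rep W
  have hXP : CochainComplex.IsKProjective (X ⊗ P) := isKProjective_tensor X P
  have hXP' : CochainComplex.IsKProjective ((tensorT A).obj (X, P)) := hXP
  have hε : IsIso ((ε A).app (X, P)) := isIso_ε_app_right X P
  constructor
  · intro φ φ' h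
    dsimp only at h
    obtain ⟨u, hu⟩ := exists_Q_map_eq (eW.hom ≫ φ)
    obtain ⟨u', hu'⟩ := exists_Q_map_eq (eW.hom ≫ φ')
    have h1 : DerivedCategory.Q.map u ≫ rhoCx P L = DerivedCategory.Q.map u' ≫ rhoCx P L := by
      rw [hu, hu', Category.assoc, Category.assoc, h]
    have h2 := congrArg (rhomHomEquiv _ _ _).symm h1
    rw [homEquiv_symm_Q_map_comp_rhoCx, homEquiv_symm_Q_map_comp_rhoCx, cancel_epi] at h2
    obtain ⟨H⟩ := nonempty_homotopy_of_Q_map_eq h2
    obtain ⟨H'⟩ := nonempty_homotopy_of_uncurryHom H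
    have h3 := Q_map_eq_of_homotopy H'
    rw [hu, hu', cancel_epi] at h3
    exact h3
  · intro ψ
    obtain ⟨v, hv⟩ := exists_Q_map_eq
      (inv ((ε A).app (X, P)) ≫ (rhomHomEquiv _ _ _).symm (eW.hom ≫ ψ))
    refine ⟨eW.inv ≫ DerivedCategory.Q.map (curryHom v), ?_⟩
    dsimp only
    rw [Category.assoc, Iso.inv_comp_eq]
    apply (rhomHomEquiv _ _ _).symm.injective
    rw [homEquiv_symm_Q_map_comp_rhoCx, uncurryHom_curryHom, hv, IsIso.hom_inv_id_assoc]

end Groth.Agent.Lib.Helper13.DV
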