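import Groth.Agent.Lib.Helper13.DTenDev5
import Groth.Agent.Lib.Helper13.RHomModel1

/-!
# Tensoring with a shift of the unit is the shift functor
-/

set_option autoImplicit false
universe u
open CategoryTheory CategoryTheory.Limits MonoidalCategory Pretriangulated

namespace Groth.Agent.Lib.Helper13.DV

open DTen

attribute [local instance] HasDerivedCategory.standard

variable {A : Type u} [CommRing A]

/-- Chain level: `X ⊗ A[n] ≅ X[n]`, naturally in `X`. -/
noncomputable def tensorRightShiftUnitIso (n : ℤ) :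
    tensorRight ((𝟙_ (DRing.Cx A))⟦n⟧) ≅ CategoryTheory.shiftFunctor (DRing.Cx A) n :=
  NatIso.ofComponents (fun X =>
    CochainComplex.mapBifunctorShift₂Iso X (𝟙_ (DRing.Cx A)) (curriedTensor (ModuleCat.{u} A)) n ≪≫
      (CategoryTheory.shiftFunctor (DRing.Cx A) n).mapIso (ρ_ X)) (fun {X Y} f => by
    have h1 := NatTrans.shift_app_comm
      ((curriedTensor (ModuleCat.{u} A)).map₂CochainComplex.map f) n (𝟙_ (DRing.Cx A))
    have h2 := rightUnitor_naturality f
    dsimp at h1 ⊢
    have h1' : f ▷ (CategoryTheory.shiftFunctor (DRing.Cx A) n).obj (𝟙_ (DRing.Cx A)) ≫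
        (CochainComplex.mapBifunctorShift₂Iso Y (𝟙_ (DRing.Cx A))
          (curriedTensor (ModuleCat.{u} A)) n).hom =
        (CochainComplex.mapBifunctorShift₂Iso X (𝟙_ (DRing.Cx A))
          (curriedTensor (ModuleCat.{u} A)) n).hom ≫
        (CategoryTheory.shiftFunctor (DRing.Cx A) n).map (f ▷ 𝟙_ (DRing.Cx A)) := h1.symm
    rw [reassoc_of% h1', ← Functor.map_comp, h2, Functor.map_comp, Category.assoc])


variable [HasLTen A]

/-- `Q ⋙ (- ⊗^L A[n]) ≅ Q ⋙ [n]`. -/
noncomputable def tensorRightDShiftIsoAux (n : ℤ) :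
    DerivedCategory.Q ⋙ tensorRightD A (DerivedCategory.Q.obj ((𝟙_ (DRing.Cx A))⟦n⟧)) ≅
      DerivedCategory.Q ⋙ CategoryTheory.shiftFunctor (Dual.D A) n :=
  NatIso.ofComponents (fun X =>
    haveI := isIso_ε_app_right X ((𝟙_ (DRing.Cx A))⟦n⟧)
    asIso ((ε A).app (X, (𝟙_ (DRing.Cx A))⟦n⟧)) ≪≫
      DerivedCategory.Q.mapIso ((tensorRightShiftUnitIso n).app X) ≪≫
      (DerivedCategory.Q.commShiftIso n).app X) (fun {X Y} f => by
    have h1 := ε_naturality_left f ((𝟙_ (DRing.Cx A))⟦n⟧)
    have h2 := (tensorRightShiftUnitIso (A := A) n).hom.naturality f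
    have h3 := (DerivedCategory.Q.commShiftIso n).hom.naturality f
    dsimp at h2 h3 ⊢
    erw [reassoc_of% h1]
    rw [← Functor.map_comp_assoc, h2, Functor.map_comp_assoc]
    erw [h3]
    simp only [Category.assoc])

/-- `- ⊗^L A[n] ≅ [n]` on `D(A)`. -/
noncomputable def tensorRightDShiftIso (n : ℤ) :
    tensorRightD A (DerivedCategory.Q.obj ((𝟙_ (DRing.Cx A))⟦n⟧)) ≅
      CategoryTheory.shiftFunctor (Dual.D A) n :=
  Localization.liftNatIso DerivedCategory.Q
    (HomologicalComplex.quasiIso (ModuleCat.{u} A) (ComplexShape.up ℤ)) _ _ _ _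
    (tensorRightDShiftIsoAux n)

instance isEquivalence_tensorRightD_shift_unit (n : ℤ) :
    (tensorRightD A (DerivedCategory.Q.obj ((𝟙_ (DRing.Cx A))⟦n⟧))).IsEquivalence :=
  Functor.isEquivalence_of_iso (tensorRightDShiftIso n).symm

/-- `- ⊗^L L` is an equivalence when `L ≅ A[n]`. -/
lemma isEquivalence_tensorRightD_of_iso (n : ℤ) (L : Dual.D A)
    (e : L ≅ DerivedCategory.Q.obj ((𝟙_ (DRing.Cx A))⟦n⟧)) :
    (tensorRightD A L).IsEquivalence :=
  Functor.isEquivalence_of_iso ((LTen A).flip.mapIso e).symm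


section RHom

variable [HasRHom A]

/-- If `- ⊗^L L` is an equivalence, evaluation at `L` is an isomorphism. -/
lemma isIso_ev_of_isEquivalence (L M : Dual.D A) [(tensorRightD A L).IsEquivalence] :
    IsIso (ev L M) := by
  have := (rhomAdj A L).isEquivalence_right_of_isEquivalence_left
  have : IsIso (rhomAdj A L).counit := Adjunction.counit_isIso_of_R_fully_faithful _
  infer_instance

/-- If `- ⊗^L L` is an equivalence, the adjunct of an isomorphism is an isomorphism. -/
lemma isIso_rhomHomEquiv_of_isEquivalence (K L M : Dual.D A) [(tensorRightD A L).IsEquivalence]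
    (c : (LTen₂ A).obj (K, L) ⟶ M) [IsIso c] : IsIso (rhomHomEquiv K L M c) := by
  have : IsIso (rhomAdj A L).unit := Adjunction.unit_isIso_of_L_fully_faithful _
  rw [Adjunction.homEquiv_unit]
  infer_instance

end RHom

end Groth.Agent.Lib.Helper13.DV
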