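import Groth.Agent.Lib.Helper13.RHomBC1
import Groth.Agent.Lib.Helper13.TenShift
import Groth.Agent.Lib.Helper13.RHomModel2

/-!
# Derived base change: shifts of the unit, distinguished triangles
-/

set_option autoImplicit false
universe u
open CategoryTheory CategoryTheory.Limits MonoidalCategory Pretriangulated

namespace Groth.Agent.Lib.Helper13.DV

open Groth.Agent.Lib.Helper13.PC Groth.Agent.Lib.Helper13.SF Groth.Agent.Lib.Helper13.Kan
open Groth.Agent.Lib.Helper13.DR Groth.Agent.Lib.Helper13.HT Groth.Agent.Lib.Helper13.DT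
open Groth.Agent.Lib.Helper13.ET
open DTen

attribute [local instance] HasDerivedCategory.standard

variable {R R' : Type u} [CommRing R] [CommRing R'] (φ : R →+* R')

/-- `ext (R[n]) ≅ R'[n]` at the chain level. -/
noncomputable def extShiftUnitIso (n : ℤ) :
    (extCx φ).obj ((𝟙_ (DRing.Cx R))⟦n⟧) ≅ (𝟙_ (DRing.Cx R'))⟦n⟧ :=
  ((ModuleCat.extendScalars.{u, u, u} φ).mapCochainComplexShiftIso n).app (𝟙_ (DRing.Cx R)) ≪≫
    (CategoryTheory.shiftFunctor (DRing.Cx R') n).mapIso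
      ((HomologicalComplex.singleMapHomologicalComplex (ModuleCat.extendScalars.{u, u, u} φ)
        (ComplexShape.up ℤ) 0).app (𝟙_ (ModuleCat.{u} R)) ≪≫
        (HomologicalComplex.single (ModuleCat.{u} R') (ComplexShape.up ℤ) 0).mapIso
          (Functor.Monoidal.εIso (ModuleCat.extendScalars.{u, u, u} φ)).symm)

variable [HasLBase φ]

/-- `R[n] ⊗^L_R R' ≅ R'[n]`. -/
noncomputable def LBaseShiftUnitIso (n : ℤ) :
    (LBase φ).obj (DerivedCategory.Q.obj ((𝟙_ (DRing.Cx R))⟦n⟧)) ≅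
      DerivedCategory.Q.obj ((𝟙_ (DRing.Cx R'))⟦n⟧) :=
  haveI := isIso_baseCmp_app_of_isKProjective φ ((𝟙_ (DRing.Cx R))⟦n⟧)
  asIso ((baseCmp φ).app ((𝟙_ (DRing.Cx R))⟦n⟧)) ≪≫ DerivedCategory.Q.mapIso (extShiftUnitIso φ n)


omit [HasLBase φ] in
/-- Extension of scalars sends a degreewise split short exact sequence of complexes to a short exact sequence. -/
lemma shortExact_map_extCx (S : ShortComplex (DRing.Cx R))
    (σ : ∀ n, (S.map (HomologicalComplex.eval _ _ n)).Splitting) :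
    (S.map (extCx φ)).ShortExact := by
  apply HomologicalComplex.shortExact_of_degreewise_shortExact
  intro i
  exact ((σ i).map (ModuleCat.extendScalars.{u, u, u} φ)).shortExact

/-- Derived base change sends a distinguished triangle to (the first two maps of) a distinguished triangle. -/
theorem exists_distTriang_LBase (T₀ : Triangle (Dual.D R)) (hT₀ : T₀ ∈ distTriang (Dual.D R)) :
    ∃ (T₁ : Triangle (Dual.D R')) (_ : T₁ ∈ distTriang (Dual.D R'))
      (e₁ : T₁.obj₁ ≅ (LBase φ).obj T₀.obj₁) (e₂ : T₁.obj₂ ≅ (LBase φ).obj T₀.obj₂)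
      (e₃ : T₁.obj₃ ≅ (LBase φ).obj T₀.obj₃),
      T₁.mor₁ ≫ e₂.hom = e₁.hom ≫ (LBase φ).map T₀.mor₁ ∧
        T₁.mor₂ ≫ e₃.hom = e₂.hom ≫ (LBase φ).map T₀.mor₂ := by
  obtain ⟨S, σ, i₁, i₂, i₃, e₁, e₂, e₃, c₁, c₂⟩ :=
    exists_kprojective_split_shortComplex_of_distTriang T₀ hT₀
  have hSE := shortExact_map_extCx φ S σ
  have j₁ := isIso_baseCmp_app_of_isKProjective φ S.X₁
  have j₂ := isIso_baseCmp_app_of_isKProjective φ S.X₂
  have j₃ := isIso_baseCmp_app_of_isKProjective φ S.X₃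
  let a : ∀ (Z : Dual.D R) (X : DRing.Cx R) (e : Z ≅ DerivedCategory.Q.obj X)
      [IsIso ((baseCmp φ).app X)],
      DerivedCategory.Q.obj ((extCx φ).obj X) ≅ (LBase φ).obj Z :=
    fun Z X e _ => (asIso ((baseCmp φ).app X)).symm ≪≫ (LBase φ).mapIso e.symm
  have key : ∀ {Z Z' : Dual.D R} {X X' : DRing.Cx R} (e : Z ≅ DerivedCategory.Q.obj X)
      (e' : Z' ≅ DerivedCategory.Q.obj X') [IsIso ((baseCmp φ).app X)] [IsIso ((baseCmp φ).app X')]
      (m : Z ⟶ Z') (f : X ⟶ X') (c : m ≫ e'.hom = e.hom ≫ DerivedCategory.Q.map f),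
      DerivedCategory.Q.map ((extCx φ).map f) ≫ (a Z' X' e').hom = (a Z X e).hom ≫ (LBase φ).map m := by
    intro Z Z' X X' e e' _ _ m f c
    have n := (baseCmp φ).naturality f
    dsimp at n
    have k1 : DerivedCategory.Q.map ((extCx φ).map f) ≫ inv ((baseCmp φ).app X') =
        inv ((baseCmp φ).app X) ≫ (LBase φ).map (DerivedCategory.Q.map f) := by
      rw [IsIso.comp_inv_eq, Category.assoc, n, IsIso.inv_hom_id_assoc]
    have k2 : DerivedCategory.Q.map f ≫ e'.inv = e.inv ≫ m := by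
      rw [Iso.comp_inv_eq, Category.assoc, c, Iso.inv_hom_id_assoc]
    change DerivedCategory.Q.map ((extCx φ).map f) ≫ inv ((baseCmp φ).app X') ≫ (LBase φ).map e'.inv =
      (inv ((baseCmp φ).app X) ≫ (LBase φ).map e.inv) ≫ (LBase φ).map m
    rw [reassoc_of% k1, Category.assoc, ← Functor.map_comp, ← Functor.map_comp, k2]
  exact ⟨DerivedCategory.triangleOfSES hSE, DerivedCategory.triangleOfSES_distinguished hSE,
    a _ _ e₁, a _ _ e₂, a _ _ e₃, key e₁ e₂ _ _ c₁, key e₂ e₃ _ _ c₂⟩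


section MidExact

variable [HasLTen R] [HasLTen R'] [HasRHom R] [HasRHom R']

omit [HasLTen R'] [HasRHom R'] in
/-- `K ↦ RHom_R(K, M) ⊗^L_R R'` is mid-exact on distinguished triangles. -/
theorem midExact_LBase_RHomMap (T₀ : Triangle (Dual.D R)) (hT₀ : T₀ ∈ distTriang (Dual.D R))
    (M : Dual.D R) :
    MidExact ((LBase φ).map (RHomMap T₀.mor₂ M)) ((LBase φ).map (RHomMap T₀.mor₁ M)) := by
  obtain ⟨T₁, hT₁, e₁, e₂, e₃, c₁, c₂⟩ := exists_distTriang_RHom T₀ hT₀ M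
  obtain ⟨T₂, hT₂, f₁, f₂, f₃, d₁, d₂⟩ := exists_distTriang_LBase φ T₁ hT₁
  refine (MidExact.of_distTriang T₂ hT₂).of_iso (f₁ ≪≫ (LBase φ).mapIso e₁)
    (f₂ ≪≫ (LBase φ).mapIso e₂) (f₃ ≪≫ (LBase φ).mapIso e₃) ?_ ?_
  · dsimp only [Iso.trans_hom, Functor.mapIso_hom]
    rw [reassoc_of% d₁, Category.assoc, ← Functor.map_comp, ← Functor.map_comp, c₁]
  · dsimp only [Iso.trans_hom, Functor.mapIso_hom]
    rw [reassoc_of% d₂, Category.assoc, ← Functor.map_comp, ← Functor.map_comp, c₂]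

omit [HasLTen R'] [HasRHom R'] [HasLBase φ] in
/-- `RHom(-, M)` sends distinguished triangles to mid-exact sequences (no symmetry needed). -/
theorem midExact_RHomMap' (T₀ : Triangle (Dual.D R)) (hT₀ : T₀ ∈ distTriang (Dual.D R))
    (M : Dual.D R) : MidExact (RHomMap T₀.mor₂ M) (RHomMap T₀.mor₁ M) := by
  obtain ⟨T₁, hT₁, e₁, e₂, e₃, c₁, c₂⟩ := exists_distTriang_RHom T₀ hT₀ M
  exact (MidExact.of_distTriang T₁ hT₁).of_iso e₁ e₂ e₃ c₁ c₂

omit [HasLTen R] [HasRHom R] in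
/-- `K ↦ RHom_{R'}(K ⊗^L_R R', N)` is mid-exact on distinguished triangles. -/
theorem midExact_RHomMap_LBase (T₀ : Triangle (Dual.D R)) (hT₀ : T₀ ∈ distTriang (Dual.D R))
    (N : Dual.D R') :
    MidExact (RHomMap ((LBase φ).map T₀.mor₂) N) (RHomMap ((LBase φ).map T₀.mor₁) N) := by
  obtain ⟨T₁, hT₁, e₁, e₂, e₃, c₁, c₂⟩ := exists_distTriang_LBase φ T₀ hT₀
  refine (midExact_RHomMap' T₁ hT₁ N).of_iso (rhomIsoLeft e₃.symm N) (rhomIsoLeft e₂.symm N)
    (rhomIsoLeft e₁.symm N) ?_ ?_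
  · rw [rhomIsoLeft_hom, rhomIsoLeft_hom, ← RHomMap_comp, ← RHomMap_comp]
    congr 1
    dsimp only [Iso.symm_hom]
    rw [Iso.inv_comp_eq, ← Category.assoc, ← c₂, Category.assoc, Iso.hom_inv_id, Category.comp_id]
  · rw [rhomIsoLeft_hom, rhomIsoLeft_hom, ← RHomMap_comp, ← RHomMap_comp]
    congr 1
    dsimp only [Iso.symm_hom]
    rw [Iso.inv_comp_eq, ← Category.assoc, ← c₁, Category.assoc, Iso.hom_inv_id, Category.comp_id]

end MidExact

end Groth.Agent.Lib.Helper13.DV
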