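import Groth.Agent.Lib.Helper2.RGColim.Main

/-!
# Element API for `Dual2.HDI A I K i = colim_n Hom_D(A/I^n, K⟦i⟧)`
-/

set_option autoImplicit false
set_option linter.style.haveILetI false
universe u
open CategoryTheory CategoryTheory.Limits Opposite

namespace Groth.Agent.Lib.Helper13.LD

open Groth.Agent.Lib.Helper2.RGColim
open DerivedCategory

attribute [local instance] HasDerivedCategory.standard

variable {A : Type u} [CommRing A] (I : Ideal A) (X : Dual.D A)

/-- `Hom_D(A/I^n, X)`. -/
abbrev Dn (n : ℕ) : Type (u + 1) :=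
  (DerivedCategory.singleFunctor (ModuleCat.{u} A) 0).obj (N I n) ⟶ X

/-- The colimit `colim_n Hom_D(A/I^n, X)`. -/
noncomputable abbrev Colim : ModuleCat.{u + 1} A := colimit (F I X)

/-- The structure maps. -/
noncomputable def ιn (n : ℕ) : Dn I X n →ₗ[A] Colim I X :=
  (colimit.ι (F I X) (op (op n))).hom

/-- The transition maps. -/
noncomputable def tr {n m : ℕ} (h : n ≤ m) : Dn I X n →ₗ[A] Dn I X m where
  toFun φ := (DerivedCategory.singleFunctor (ModuleCat.{u} A) 0).map (proj I h) ≫ φ
  map_add' _ _ := Preadditive.comp_add _ _ _ _ _ _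
  map_smul' _ _ := Linear.comp_smul _ _ _ _ _ _

lemma tr_apply {n m : ℕ} (h : n ≤ m) (φ : Dn I X n) :
    tr I X h φ = (DerivedCategory.singleFunctor (ModuleCat.{u} A) 0).map (proj I h) ≫ φ := rfl

lemma F_map_apply' {n m : ℕ} (h : n ≤ m) (f : op (op n) ⟶ op (op m)) (φ : Dn I X n) :
    ((F I X).map f).hom φ = tr I X h φ := by
  have hf : f = ((homOfLE h).op.op : op (op n) ⟶ op (op m)) := Subsingleton.elim _ _
  subst hf
  rfl

lemma ιn_tr {n m : ℕ} (h : n ≤ m) (φ : Dn I X n) :
    ιn I X m (tr I X h φ) = ιn I X n φ := by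
  have hw := colimit.w (F I X) ((homOfLE h).op.op : op (op n) ⟶ op (op m))
  have hw2 := congrArg (fun f => f.hom φ) hw
  change (colimit.ι (F I X) (op (op m))).hom
    (((F I X).map ((homOfLE h).op.op : op (op n) ⟶ op (op m))).hom φ) =
      (colimit.ι (F I X) (op (op n))).hom φ at hw2
  rw [F_map_apply' I X h] at hw2
  exact hw2

lemma ιn_jointly_surjective (x : Colim I X) : ∃ (n : ℕ) (φ : Dn I X n), ιn I X n φ = x := by
  obtain ⟨j, φ, rfl⟩ := Concrete.colimit_exists_rep (F I X) x
  exact ⟨j.unop.unop, φ, rfl⟩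

lemma ιn_eq_zero_iff (n : ℕ) (φ : Dn I X n) :
    ιn I X n φ = 0 ↔ ∃ (m : ℕ) (h : n ≤ m), tr I X h φ = 0 := by
  constructor
  · intro h
    obtain ⟨j', f, hf⟩ := Concrete.colimit_rep_eq_zero.{u + 1} A (F I X) (op (op n)) φ h
    have hnm : n ≤ j'.unop.unop := leOfHom f.unop.unop
    refine ⟨j'.unop.unop, hnm, ?_⟩
    rw [← F_map_apply' I X hnm f φ]
    exact hf
  · rintro ⟨m, h, h0⟩
    rw [← ιn_tr I X h φ, h0, map_zero]

/-- Descent of a compatible family of linear maps to the colimit. -/
noncomputable def desc {P : Type (u + 1)} [AddCommGroup P] [Module A P]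
    (g : ∀ n : ℕ, Dn I X n →ₗ[A] P)
    (hg : ∀ (n m : ℕ) (h : n ≤ m) (φ : Dn I X n), g m (tr I X h φ) = g n φ) :
    Colim I X →ₗ[A] P :=
  (colimit.desc (F I X)
    { pt := ModuleCat.of A P
      ι :=
        { app := fun n => ModuleCat.ofHom (g n.unop.unop)
          naturality := by
            intro n m f
            apply ModuleCat.hom_ext
            apply LinearMap.ext
            intro φ
            have hnm : n.unop.unop ≤ m.unop.unop := leOfHom f.unop.unop
            change g m.unop.unop (((F I X).map f).hom φ) = g n.unop.unop φ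
            rw [F_map_apply' I X hnm f φ, hg] } }).hom

lemma desc_ιn {P : Type (u + 1)} [AddCommGroup P] [Module A P]
    (g : ∀ n : ℕ, Dn I X n →ₗ[A] P)
    (hg : ∀ (n m : ℕ) (h : n ≤ m) (φ : Dn I X n), g m (tr I X h φ) = g n φ)
    (n : ℕ) (φ : Dn I X n) : desc I X g hg (ιn I X n φ) = g n φ := by
  have h := colimit.ι_desc
    ({ pt := ModuleCat.of A P
       ι :=
        { app := fun n => ModuleCat.ofHom (g n.unop.unop)
          naturality := by
            intro n m f
            apply ModuleCat.hom_ext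
            apply LinearMap.ext
            intro φ
            have hnm : n.unop.unop ≤ m.unop.unop := leOfHom f.unop.unop
            change g m.unop.unop (((F I X).map f).hom φ) = g n.unop.unop φ
            rw [F_map_apply' I X hnm f φ, hg] } } : Cocone (F I X)) (op (op n))
  exact congrArg (fun f => f.hom φ) h

end Groth.Agent.Lib.Helper13.LD
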