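import Groth.Agent.Lib.Helper13.LD9
import Groth.Agent.Lib.Helper25.MatlisDual

/-!
# Consequences of local duality: annihilators
-/

set_option autoImplicit false
set_option linter.style.haveILetI false
set_option linter.unusedSectionVars false
universe u
open CategoryTheory CategoryTheory.Limits Opposite Pretriangulated

namespace Groth.Agent.Lib.Helper13.LD

open Groth.Agent.Lib.Helper25
open DerivedCategory InjHull IsLocalRing

attribute [local instance] HasDerivedCategory.standard

/-- A finite module over `A : Type u` has a model in `Type u`. -/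
lemma exists_small_model {A : Type u} [CommRing A] (X : Type (u + 1)) [AddCommGroup X] [Module A X]
    [Module.Finite A X] :
    ∃ (X' : Type u) (_ : AddCommGroup X') (_ : Module A X') (_ : Module.Finite A X'),
      Nonempty (X' ≃ₗ[A] X) := by
  obtain ⟨n, π, hπ⟩ := Module.Finite.exists_fin' A X
  exact ⟨(Fin n → A) ⧸ LinearMap.ker π, inferInstance, inferInstance, inferInstance,
    ⟨π.quotKerEquivOfSurjective hπ⟩⟩

variable (A : Type u) [CommRing A] [IsLocalRing A] [IsNoetherianRing A]
  (ω : Dual.D A) (hω : Dual.IsDualizing A ω) (hn : Dual.IsNormalized A ω)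

include hω hn in
theorem annihilator_ext_eq (M : Type u) [AddCommGroup M] [Module A M] [Module.Finite A M]
    (i : ℕ) :
    Module.annihilator A (Dual.inD A M ⟶ ω⟦(-(i : ℤ))⟧) =
      Module.annihilator A (LocCoh.H (maximalIdeal A) i M) := by
  obtain ⟨E, _, _, f, hf⟩ := exists_isInjectiveHull (R := A) (ResidueField A)
  obtain ⟨e⟩ := local_duality A ω hω hn E f hf M i
  haveI : Module.Finite A (Dual.inD A M ⟶ ω⟦(-(i : ℤ))⟧) := DualBC.finite_ext ω hω M _
  obtain ⟨X', _, _, _, ⟨ε⟩⟩ := exists_small_model (A := A) (Dual.inD A M ⟶ ω⟦(-(i : ℤ))⟧)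
  rw [e.annihilator_eq, ← ε.annihilator_eq, annihilator_dual_eq f hf X',
    (LinearEquiv.congrLeft E A ε).annihilator_eq]

end Groth.Agent.Lib.Helper13.LD
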