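import Groth.Agent.Lib.Helper13.LD10

/-!
# Local duality over a complete local ring
-/

set_option autoImplicit false
set_option linter.style.haveILetI false
set_option linter.unusedSectionVars false
universe u
open CategoryTheory CategoryTheory.Limits Opposite Pretriangulated

namespace Groth.Agent.Lib.Helper13.LD

open Groth.Agent.Lib.Helper25
open DerivedCategory InjHull IsLocalRing

attribute [local instance] HasDerivedCategory.standard

variable (A : Type u) [CommRing A] [IsLocalRing A] [IsNoetherianRing A]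
  (ω : Dual.D A) (hω : Dual.IsDualizing A ω) (hn : Dual.IsNormalized A ω)
  (E : Type u) [AddCommGroup E] [Module A E] (f : ResidueField A →ₗ[A] E)
  (hf : IsInjectiveHull f)

include hω hn hf in
theorem local_duality_complete [IsAdicComplete (maximalIdeal A) A]
    (M : Type u) [AddCommGroup M] [Module A M] [Module.Finite A M] (i : ℕ) :
    Nonempty ((Dual.inD A M ⟶ ω⟦(-(i : ℤ))⟧) ≃ₗ[A]
      (LocCoh.H (maximalIdeal A) i M →ₗ[A] E)) := by
  obtain ⟨e⟩ := local_duality A ω hω hn E f hf M i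
  haveI : Module.Finite A (Dual.inD A M ⟶ ω⟦(-(i : ℤ))⟧) := DualBC.finite_ext ω hω M _
  obtain ⟨X', _, _, _, ⟨ε⟩⟩ := exists_small_model (A := A) (Dual.inD A M ⟶ ω⟦(-(i : ℤ))⟧)
  have hbij : Function.Bijective (LinearMap.applyₗ : X' →ₗ[A] (X' →ₗ[A] E) →ₗ[A] E) :=
    ⟨applyₗ_injective f hf X', evalSurj_iff.1 (evalSurj_of_finite f hf X')⟩
  let e1 : X' ≃ₗ[A] ((X' →ₗ[A] E) →ₗ[A] E) := LinearEquiv.ofBijective _ hbij
  exact ⟨ε.symm.trans (e1.trans ((LinearEquiv.congrLeft E A (LinearEquiv.congrLeft E A ε)).trans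
    (LinearEquiv.congrLeft E A e.symm)))⟩

end Groth.Agent.Lib.Helper13.LD
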