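import Groth.Agent.Lib.Helper13.LD10
import Groth.Agent.Lib.Helper13.DualMod1
import Groth.Agent.Lib.Helper13.DRingProj

/-!
# Local duality for bounded complexes with finite cohomology
-/

set_option autoImplicit false
set_option linter.style.haveILetI false
set_option linter.unusedSectionVars false
universe u
open CategoryTheory CategoryTheory.Limits Opposite Pretriangulated

namespace Groth.Agent.Lib.Helper13.LD

open Groth.Agent.Lib.Helper25
open DerivedCategory InjHull IsLocalRing

attribute [local instance] HasDerivedCategory.standard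

variable (A : Type u) [CommRing A] [IsLocalRing A] [IsNoetherianRing A]
  (ω : Dual.D A) (hω : Dual.IsDualizing A ω) (hn : Dual.IsNormalized A ω)
  (E : Type u) [AddCommGroup E] [Module A E] (f : ResidueField A →ₗ[A] E)
  (hf : IsInjectiveHull f) (τ : Colim (maximalIdeal A) ω ≃ₗ[A] E)

include hω hn hf in
lemma PP_of_amplitude : ∀ (n : ℕ) (a : ℤ) (K : Dual.D A), K.IsGE a → K.IsLE (a + n - 1) →
    (∀ i : ℤ, Module.Finite A (Dual.HD A K i)) →
    PP (maximalIdeal A) ω E τ.toLinearMap K := by
  haveI := hf.isInjective
  intro n
  induction n with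
  | zero =>
    intro a K hGE hLE _
    apply PP_of_isZero
    rw [IsZero.iff_id_eq_zero]
    exact TStructure.t.zero_of_isLE_of_isGE (𝟙 K) (a + (0 : ℕ) - 1) a (by push_cast; omega) hLE hGE
  | succ n ih =>
    intro a K hGE hLE hfin
    obtain ⟨T, hT, hK2, hY, ⟨eX⟩⟩ := DualMod.exists_lowest_triangle K a
    subst hK2
    -- the first vertex
    have h1 : PP (maximalIdeal A) ω E τ.toLinearMap T.obj₁ := by
      haveI : Module.Finite A (Dual.HD A T.obj₂ a) := hfin a
      have h2 := PP_inD_of_finite A ω hω hn E f hf τ (Dual.HD A T.obj₂ a)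
      have h3 := PP_shift (maximalIdeal A) ω E τ.toLinearMap h2 (-a)
      exact PP_of_iso (maximalIdeal A) ω E τ.toLinearMap
        ((DR.shiftSingleIso (-a) a (by omega)
          ((DerivedCategory.homologyFunctor (ModuleCat.{u} A) a).obj T.obj₂)).trans eX.symm) h3
    -- the connecting homomorphisms vanish above `a`
    have hepi : ∀ j : ℤ, a < j →
        Function.Surjective ((DerivedCategory.homologyFunctor (ModuleCat.{u} A) j).map T.mor₂).hom := by
      intro j hj
      rw [← ModuleCat.epi_iff_surjective,
        HomologySequence.epi_homologyMap_mor₂_iff T hT j (j + 1) rfl]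
      have hz : IsZero ((DerivedCategory.homologyFunctor (ModuleCat.{u} A) (j + 1)).obj T.obj₁) :=
        (PC.isZero_homology_single a (j + 1) (by omega) _).of_iso
          ((DerivedCategory.homologyFunctor (ModuleCat.{u} A) (j + 1)).mapIso eX)
      exact hz.eq_of_tgt _ _
    -- the third vertex
    have h3 : PP (maximalIdeal A) ω E τ.toLinearMap T.obj₃ := by
      apply ih (a + 1) T.obj₃ hY
      · rw [DerivedCategory.isLE_iff]
        intro j hj
        have hz : IsZero ((DerivedCategory.homologyFunctor (ModuleCat.{u} A) j).obj T.obj₂) :=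
          DerivedCategory.isZero_of_isLE T.obj₂ (a + (n + 1 : ℕ) - 1) j (by push_cast; omega)
        have : Subsingleton ((DerivedCategory.homologyFunctor (ModuleCat.{u} A) j).obj T.obj₂) :=
          ModuleCat.subsingleton_of_isZero hz
        have : Subsingleton ((DerivedCategory.homologyFunctor (ModuleCat.{u} A) j).obj T.obj₃) :=
          (hepi j (by omega)).subsingleton
        exact ModuleCat.isZero_of_subsingleton _
      · intro j
        by_cases hj : a < j
        · haveI := hfin j
          exact Module.Finite.of_surjective _ (hepi j hj)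
        · have hz : IsZero ((DerivedCategory.homologyFunctor (ModuleCat.{u} A) j).obj T.obj₃) :=
            DerivedCategory.isZero_of_isGE T.obj₃ (a + 1) j (by omega)
          have : Subsingleton (Dual.HD A T.obj₃ j) := ModuleCat.subsingleton_of_isZero hz
          infer_instance
    exact PP_obj₂ (maximalIdeal A) ω E τ.toLinearMap T hT h1 h3

include hω hn hf in
/-- The pairing is bijective on bounded complexes with finite cohomology. -/
theorem PP_of_bounded (K : Dual.D A) (hfin : ∀ i : ℤ, Module.Finite A (Dual.HD A K i))
    (hbd : ∃ a b : ℤ, ∀ i : ℤ, (i < a ∨ b < i) → Subsingleton (Dual.HD A K i)) :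
    PP (maximalIdeal A) ω E τ.toLinearMap K := by
  obtain ⟨a, b, hab⟩ := hbd
  have hGE : K.IsGE a := by
    rw [DerivedCategory.isGE_iff]
    intro i hi
    have := hab i (Or.inl hi)
    exact ModuleCat.isZero_of_subsingleton _
  have hLE : K.IsLE (a + ((b + 1 - a).toNat : ℕ) - 1) := by
    rw [DerivedCategory.isLE_iff]
    intro i hi
    have := hab i (Or.inr (by omega))
    exact ModuleCat.isZero_of_subsingleton _
  exact PP_of_amplitude A ω hω hn E f hf τ _ a K hGE hLE hfin

end Groth.Agent.Lib.Helper13.LD
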