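import Groth.Agent.Lib.Helper13.LD12

/-!
# Vanishing of `RHom(M, ω)` versus vanishing of `RΓ_m(M)`
-/

set_option autoImplicit false
set_option linter.style.haveILetI false
set_option linter.unusedSectionVars false
universe u
open CategoryTheory CategoryTheory.Limits Opposite Pretriangulated

namespace Groth.Agent.Lib.Helper13.LD

open Groth.Agent.Lib.Helper25
open DerivedCategory InjHull IsLocalRing

attribute [local instance] HasDerivedCategory.standard

section Cogen

variable {A : Type u} [CommRing A] [IsLocalRing A]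
  {E : Type u} [AddCommGroup E] [Module A E]

/-- The hull of the residue field cogenerates, for modules in any universe. -/
theorem exists_hom_ne_zero' (f : ResidueField A →ₗ[A] E) (hf : IsInjectiveHull f)
    {X : Type*} [AddCommGroup X] [Module A X] {x : X} (hx : x ≠ 0) :
    ∃ φ : X →ₗ[A] E, φ x ≠ 0 := by
  haveI := hf.isInjective
  set K := LinearMap.ker (LinearMap.toSpanSingleton A X x) with hK
  let ι : (A ⧸ K) →ₗ[A] X := K.liftQ (LinearMap.toSpanSingleton A X x) le_rfl
  have hι : Function.Injective ι := by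
    rw [← LinearMap.ker_eq_bot]
    exact Submodule.ker_liftQ_eq_bot' _ _ rfl
  have h1 : ι (Submodule.Quotient.mk 1) = x := by
    change LinearMap.toSpanSingleton A X x 1 = x
    rw [LinearMap.toSpanSingleton_apply, one_smul]
  have hne : (Submodule.Quotient.mk 1 : A ⧸ K) ≠ 0 := by
    intro h0
    apply hx
    rw [← h1, h0, map_zero]
  obtain ⟨φ', hφ'⟩ := exists_hom_ne_zero f hf hne
  obtain ⟨ψ, hψ⟩ := Module.Injective.extension_property A E _ _ ι hι φ'
  refine ⟨ψ, ?_⟩
  rw [← h1]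
  have := LinearMap.congr_fun hψ (Submodule.Quotient.mk 1)
  rw [LinearMap.comp_apply] at this
  rw [this]
  exact hφ'

theorem subsingleton_dual_iff (f : ResidueField A →ₗ[A] E) (hf : IsInjectiveHull f)
    (X : Type*) [AddCommGroup X] [Module A X] :
    Subsingleton (X →ₗ[A] E) ↔ Subsingleton X := by
  constructor
  · intro h
    refine ⟨fun x y => ?_⟩
    by_contra hxy
    obtain ⟨φ, hφ⟩ := exists_hom_ne_zero' f hf (sub_ne_zero.2 hxy)
    apply hφ
    rw [h.elim φ 0, LinearMap.zero_apply]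
  · intro h
    exact ⟨fun φ ψ => LinearMap.ext fun x => by rw [h.elim x 0, map_zero, map_zero]⟩

end Cogen

variable (A : Type u) [CommRing A] [IsLocalRing A] [IsNoetherianRing A]
  (ω : Dual.D A) (hω : Dual.IsDualizing A ω) (hn : Dual.IsNormalized A ω)

include hω hn in
/-- `H^i(RΓ_m M) = 0 ↔ Hom(M, ω⟦-i⟧) = 0` for `M` bounded with finite cohomology. -/
theorem subsingleton_HD_RgammaI_iff [DRing.HasRgammaI (maximalIdeal A)] (M : Dual.D A)
    (hfin : ∀ i : ℤ, Module.Finite A (Dual.HD A M i))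
    (hbd : ∃ a b : ℤ, ∀ i : ℤ, (i < a ∨ b < i) → Subsingleton (Dual.HD A M i)) (i : ℤ) :
    Subsingleton (Dual.HD A ((DRing.RgammaI (maximalIdeal A)).obj M) i) ↔
      Subsingleton (M ⟶ ω⟦-i⟧) := by
  obtain ⟨E, _, _, f, hf⟩ := exists_isInjectiveHull (R := A) (ResidueField A)
  obtain ⟨τ⟩ := nonempty_colim_equiv A ω hω hn E f hf
  have hbij := PP_of_bounded A ω hω hn E f hf τ M hfin hbd i
  obtain ⟨e0⟩ := Groth.Agent.Lib.Helper2.RGColim.nonempty_equiv (maximalIdeal A) M i
  let e2 : Colim (maximalIdeal A) (M⟦i⟧) ≃ₗ[A] G ω E (M⟦i⟧) := LinearEquiv.ofBijective _ hbij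
  let e3 : G ω E (M⟦i⟧) ≃ₗ[A] ((M ⟶ ω⟦-i⟧) →ₗ[A] E) :=
    LinearEquiv.congrLeft E A (shiftHomEquiv M ω i)
  rw [← subsingleton_dual_iff f hf (M ⟶ ω⟦-i⟧)]
  exact (e0.trans (e2.trans e3)).toEquiv.subsingleton_congr

end Groth.Agent.Lib.Helper13.LD
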