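import Groth.Agent.Lib.Helper25.MatlisDual
import Groth.Agent.Lib.Helper25.CoextHull
import Mathlib.RingTheory.AdicCompletion.Functoriality

/-!
# Matlis duality: the double dual of a finite module is its completion
-/

set_option autoImplicit false
set_option linter.style.haveILetI false
set_option linter.unusedSectionVars false
universe u
open CategoryTheory

namespace Groth.Agent.Lib.Helper13.LD

open Groth.Agent.Lib.Helper25
open InjHull IsLocalRing

variable {A : Type u} [CommRing A] [IsLocalRing A] [IsNoetherianRing A]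
  {E : Type u} [AddCommGroup E] [Module A E] (f : ResidueField A →ₗ[A] E)
  (hf : IsInjectiveHull f) (X : Type u) [AddCommGroup X] [Module A X] [Module.Finite A X]

include f hf in
/-- Every functional on a finite module is killed by a power of the maximal ideal. -/
lemma exists_pow_smul_hom_eq_zero (α : X →ₗ[A] E) :
    ∃ n : ℕ, ∀ a ∈ maximalIdeal A ^ n, a • α = 0 := by
  classical
  obtain ⟨S, hS⟩ := (Module.Finite.fg_top : (⊤ : Submodule A X).FG)
  choose n hn using fun s : X => isPowerTorsion_of_isInjectiveHull f hf (α s)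
  refine ⟨S.sup n, fun a ha => ?_⟩
  apply LinearMap.ext_on hS
  intro s hs
  rw [LinearMap.smul_apply, LinearMap.zero_apply]
  exact hn s a (Ideal.pow_le_pow_right (Finset.le_sup hs) ha)

omit [IsNoetherianRing A] [Module.Finite A X] in
lemma smul_top_le_ker (α : X →ₗ[A] E) (n : ℕ) (h : ∀ a ∈ maximalIdeal A ^ n, a • α = 0) :
    (maximalIdeal A ^ n • ⊤ : Submodule A X) ≤ LinearMap.ker α := by
  rw [Submodule.smul_le]
  intro a ha x _
  rw [LinearMap.mem_ker, map_smul, ← LinearMap.smul_apply, h a ha, LinearMap.zero_apply]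

/-- The functional induced on `X/m^n X`. -/
noncomputable def bar (α : X →ₗ[A] E) (n : ℕ) (h : ∀ a ∈ maximalIdeal A ^ n, a • α = 0) :
    (X ⧸ (maximalIdeal A ^ n • ⊤ : Submodule A X)) →ₗ[A] E :=
  (maximalIdeal A ^ n • ⊤ : Submodule A X).liftQ α (smul_top_le_ker X α n h)

lemma bar_mk (α : X →ₗ[A] E) (n : ℕ) (h : ∀ a ∈ maximalIdeal A ^ n, a • α = 0) (x : X) :
    bar X α n h (Submodule.Quotient.mk x) = α x := rfl

lemma bar_transition (α : X →ₗ[A] E) {n n' : ℕ} (hnn : n ≤ n')
    (h : ∀ a ∈ maximalIdeal A ^ n, a • α = 0) (h' : ∀ a ∈ maximalIdeal A ^ n', a • α = 0)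
    (y : X ⧸ (maximalIdeal A ^ n' • ⊤ : Submodule A X)) :
    bar X α n h (AdicCompletion.transitionMap (maximalIdeal A) X hnn y) = bar X α n' h' y := by
  obtain ⟨x, rfl⟩ := Submodule.Quotient.mk_surjective _ y
  rfl

lemma bar_val (α : X →ₗ[A] E) {n n' : ℕ} (hnn : n ≤ n')
    (h : ∀ a ∈ maximalIdeal A ^ n, a • α = 0) (h' : ∀ a ∈ maximalIdeal A ^ n', a • α = 0)
    (x : AdicCompletion (maximalIdeal A) X) :
    bar X α n h (x.val n) = bar X α n' h' (x.val n') := by
  rw [← bar_transition X α hnn h h', AdicCompletion.transitionMap_comp_eval_apply]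

open Classical in
/-- The pairing `X^ × X^∨ → E`. -/
noncomputable def thetaFun (x : AdicCompletion (maximalIdeal A) X) (α : X →ₗ[A] E) : E :=
  bar X α (Nat.find (exists_pow_smul_hom_eq_zero f hf X α))
    (Nat.find_spec (exists_pow_smul_hom_eq_zero f hf X α))
    (x.val (Nat.find (exists_pow_smul_hom_eq_zero f hf X α)))

lemma thetaFun_eq (x : AdicCompletion (maximalIdeal A) X) (α : X →ₗ[A] E) (n : ℕ)
    (h : ∀ a ∈ maximalIdeal A ^ n, a • α = 0) :
    thetaFun f hf X x α = bar X α n h (x.val n) := by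
  classical
  unfold thetaFun
  exact bar_val X α (Nat.find_min' _ h) _ h x

/-- The map `X^ → X^∨∨`. -/
noncomputable def theta :
    AdicCompletion (maximalIdeal A) X →ₗ[A] ((X →ₗ[A] E) →ₗ[A] E) where
  toFun x :=
    { toFun := fun α => thetaFun f hf X x α
      map_add' := fun α β => by
        obtain ⟨n, hn⟩ := exists_pow_smul_hom_eq_zero f hf X α
        obtain ⟨m, hm⟩ := exists_pow_smul_hom_eq_zero f hf X β
        have hα : ∀ a ∈ maximalIdeal A ^ (max n m), a • α = 0 := fun a ha =>
          hn a (Ideal.pow_le_pow_right (le_max_left n m) ha)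
        have hβ : ∀ a ∈ maximalIdeal A ^ (max n m), a • β = 0 := fun a ha =>
          hm a (Ideal.pow_le_pow_right (le_max_right n m) ha)
        have hαβ : ∀ a ∈ maximalIdeal A ^ (max n m), a • (α + β) = 0 := fun a ha => by
          rw [smul_add, hα a ha, hβ a ha, add_zero]
        rw [thetaFun_eq f hf X x α _ hα, thetaFun_eq f hf X x β _ hβ,
          thetaFun_eq f hf X x (α + β) _ hαβ]
        obtain ⟨y, hy⟩ := Submodule.Quotient.mk_surjective _ (x.val (max n m))
        rw [← hy, bar_mk, bar_mk, bar_mk, LinearMap.add_apply]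
      map_smul' := fun c α => by
        obtain ⟨n, hn⟩ := exists_pow_smul_hom_eq_zero f hf X α
        have hcα : ∀ a ∈ maximalIdeal A ^ n, a • (c • α) = 0 := fun a ha => by
          rw [smul_comm, hn a ha, smul_zero]
        rw [thetaFun_eq f hf X x α _ hn, thetaFun_eq f hf X x (c • α) _ hcα]
        obtain ⟨y, hy⟩ := Submodule.Quotient.mk_surjective _ (x.val n)
        rw [← hy, bar_mk, bar_mk, LinearMap.smul_apply]
        rfl }
  map_add' x y := by
    apply LinearMap.ext
    intro α
    obtain ⟨n, hn⟩ := exists_pow_smul_hom_eq_zero f hf X α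
    change thetaFun f hf X (x + y) α = thetaFun f hf X x α + thetaFun f hf X y α
    rw [thetaFun_eq f hf X _ α _ hn, thetaFun_eq f hf X _ α _ hn, thetaFun_eq f hf X _ α _ hn,
      AdicCompletion.val_add_apply, map_add]
  map_smul' c x := by
    apply LinearMap.ext
    intro α
    obtain ⟨n, hn⟩ := exists_pow_smul_hom_eq_zero f hf X α
    change thetaFun f hf X (c • x) α = c • thetaFun f hf X x α
    rw [thetaFun_eq f hf X _ α _ hn, thetaFun_eq f hf X _ α _ hn,
      AdicCompletion.val_smul_apply, map_smul]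

lemma theta_apply (x : AdicCompletion (maximalIdeal A) X) (α : X →ₗ[A] E) (n : ℕ)
    (h : ∀ a ∈ maximalIdeal A ^ n, a • α = 0) :
    theta f hf X x α = bar X α n h (x.val n) :=
  thetaFun_eq f hf X x α n h

omit [IsNoetherianRing A] [Module.Finite A X] in
/-- Functionals on `X/m^n X` pulled back to `X` are killed by `m^n`. -/
lemma smul_comp_mkQ_eq_zero (n : ℕ)
    (β : (X ⧸ (maximalIdeal A ^ n • ⊤ : Submodule A X)) →ₗ[A] E) (a : A)
    (ha : a ∈ maximalIdeal A ^ n) :
    a • (β ∘ₗ (maximalIdeal A ^ n • ⊤ : Submodule A X).mkQ) = 0 := by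
  apply LinearMap.ext
  intro x
  rw [LinearMap.smul_apply, LinearMap.comp_apply, ← map_smul, Submodule.mkQ_apply,
    ← Submodule.Quotient.mk_smul,
    (Submodule.Quotient.mk_eq_zero _).2 (Submodule.smul_mem_smul ha Submodule.mem_top),
    map_zero, LinearMap.zero_apply]

lemma isFiniteLength_quot (n : ℕ) :
    IsFiniteLength A (X ⧸ (maximalIdeal A ^ n • ⊤ : Submodule A X)) := by
  apply isFiniteLength_of_finite_of_isPowerTorsion
  intro y
  refine ⟨n, fun a ha => ?_⟩
  obtain ⟨x, rfl⟩ := Submodule.Quotient.mk_surjective _ y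
  rw [← Submodule.Quotient.mk_smul, Submodule.Quotient.mk_eq_zero]
  exact Submodule.smul_mem_smul ha Submodule.mem_top

/-- **Matlis duality**: `X^ ≅ X^∨∨` for a finite module `X`. -/
theorem theta_bijective : Function.Bijective (theta f hf X) := by
  constructor
  · rw [injective_iff_map_eq_zero]
    intro x hx
    apply AdicCompletion.ext
    intro n
    rw [AdicCompletion.val_zero_apply]
    by_contra hne
    obtain ⟨β, hβ⟩ := exists_hom_ne_zero f hf hne
    apply hβ
    have h1 := theta_apply f hf X x (β ∘ₗ (maximalIdeal A ^ n • ⊤ : Submodule A X).mkQ) n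
      (fun a ha => smul_comp_mkQ_eq_zero X n β a ha)
    rw [hx, LinearMap.zero_apply] at h1
    rw [h1]
    obtain ⟨y, hy⟩ := Submodule.Quotient.mk_surjective _ (x.val n)
    rw [← hy, bar_mk]
    rfl
  · intro θ
    -- the components
    have hbij := fun n : ℕ => applyₗ_bijective_of_isFiniteLength f hf
      (X ⧸ (maximalIdeal A ^ n • ⊤ : Submodule A X)) (isFiniteLength_quot X n)
    let θn : ∀ n : ℕ, ((X ⧸ (maximalIdeal A ^ n • ⊤ : Submodule A X)) →ₗ[A] E) →ₗ[A] E :=
      fun n => θ ∘ₗ LinearMap.lcomp A E (maximalIdeal A ^ n • ⊤ : Submodule A X).mkQ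
    choose xn hxn using fun n => (hbij n).2 (θn n)
    have hxn' : ∀ (n : ℕ) (β : (X ⧸ (maximalIdeal A ^ n • ⊤ : Submodule A X)) →ₗ[A] E),
        β (xn n) = θ (β ∘ₗ (maximalIdeal A ^ n • ⊤ : Submodule A X).mkQ) := fun n β =>
      LinearMap.congr_fun (hxn n) β
    have hcompat : ∀ {m n : ℕ} (hmn : m ≤ n),
        AdicCompletion.transitionMap (maximalIdeal A) X hmn (xn n) = xn m := by
      intro m n hmn
      apply (hbij m).1
      apply LinearMap.ext
      intro β
      change β (AdicCompletion.transitionMap (maximalIdeal A) X hmn (xn n)) = β (xn m)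
      rw [hxn' m β]
      have := hxn' n (β ∘ₗ AdicCompletion.transitionMap (maximalIdeal A) X hmn)
      rw [LinearMap.comp_apply] at this
      rw [this]
      congr 1
    refine ⟨⟨xn, hcompat⟩, ?_⟩
    apply LinearMap.ext
    intro α
    obtain ⟨n, hn⟩ := exists_pow_smul_hom_eq_zero f hf X α
    rw [theta_apply f hf X _ α n hn]
    change bar X α n hn (xn n) = θ α
    rw [hxn' n]
    congr 1

/-- `X^ ≃ X^∨∨`. -/
noncomputable def thetaEquiv :
    AdicCompletion (maximalIdeal A) X ≃ₗ[A] ((X →ₗ[A] E) →ₗ[A] E) :=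
  LinearEquiv.ofBijective (theta f hf X) (theta_bijective f hf X)

end Groth.Agent.Lib.Helper13.LD
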