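import Groth.Agent.Lib.Helper13.LD1

/-!
# Functoriality and exactness of `K ↦ colim_n Hom_D(A/I^n, K)`
-/

set_option autoImplicit false
set_option linter.style.haveILetI false
set_option linter.unusedSectionVars false
universe u
open CategoryTheory CategoryTheory.Limits Opposite Pretriangulated

namespace Groth.Agent.Lib.Helper13.LD

open Groth.Agent.Lib.Helper2.RGColim
open DerivedCategory

attribute [local instance] HasDerivedCategory.standard

variable {A : Type u} [CommRing A] (I : Ideal A)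

/-- Postcomposition `Hom_D(A/I^n, X) → Hom_D(A/I^n, Y)`. -/
noncomputable def post {X Y : Dual.D A} (g : X ⟶ Y) (n : ℕ) : Dn I X n →ₗ[A] Dn I Y n where
  toFun φ := φ ≫ g
  map_add' _ _ := Preadditive.add_comp _ _ _ _ _ _
  map_smul' _ _ := Linear.smul_comp _ _ _ _ _ _

lemma post_apply {X Y : Dual.D A} (g : X ⟶ Y) (n : ℕ) (φ : Dn I X n) :
    post I g n φ = φ ≫ g := rfl

lemma post_tr {X Y : Dual.D A} (g : X ⟶ Y) {n m : ℕ} (h : n ≤ m) (φ : Dn I X n) :
    post I g m (tr I X h φ) = tr I Y h (post I g n φ) := by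
  change ((DerivedCategory.singleFunctor (ModuleCat.{u} A) 0).map (proj I h) ≫ φ) ≫ g =
    (DerivedCategory.singleFunctor (ModuleCat.{u} A) 0).map (proj I h) ≫ φ ≫ g
  rw [Category.assoc]

/-- Functoriality of the colimit. -/
noncomputable def Fmap {X Y : Dual.D A} (g : X ⟶ Y) : Colim I X →ₗ[A] Colim I Y :=
  desc I X (fun n => ιn I Y n ∘ₗ post I g n) (by
    intro n m h φ
    change ιn I Y m (post I g m (tr I X h φ)) = ιn I Y n (post I g n φ)
    rw [post_tr, ιn_tr])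

@[simp]
lemma Fmap_ιn {X Y : Dual.D A} (g : X ⟶ Y) (n : ℕ) (φ : Dn I X n) :
    Fmap I g (ιn I X n φ) = ιn I Y n (φ ≫ g) :=
  desc_ιn I X _ _ n φ

lemma Fmap_id (X : Dual.D A) (x : Colim I X) : Fmap I (𝟙 X) x = x := by
  obtain ⟨n, φ, rfl⟩ := ιn_jointly_surjective I X x
  rw [Fmap_ιn, Category.comp_id]

lemma Fmap_comp {X Y Z : Dual.D A} (g : X ⟶ Y) (h : Y ⟶ Z) (x : Colim I X) :
    Fmap I (g ≫ h) x = Fmap I h (Fmap I g x) := by
  obtain ⟨n, φ, rfl⟩ := ιn_jointly_surjective I X x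
  rw [Fmap_ιn, Fmap_ιn, Fmap_ιn, Category.assoc]

lemma Fmap_add {X Y : Dual.D A} (g h : X ⟶ Y) (x : Colim I X) :
    Fmap I (g + h) x = Fmap I g x + Fmap I h x := by
  obtain ⟨n, φ, rfl⟩ := ιn_jointly_surjective I X x
  rw [Fmap_ιn, Fmap_ιn, Fmap_ιn, Preadditive.comp_add, map_add]

lemma Fmap_smul {X Y : Dual.D A} (a : A) (g : X ⟶ Y) (x : Colim I X) :
    Fmap I (a • g) x = a • Fmap I g x := by
  obtain ⟨n, φ, rfl⟩ := ιn_jointly_surjective I X x
  rw [Fmap_ιn, Fmap_ιn, Linear.comp_smul, map_smul]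

lemma Fmap_zero {X Y : Dual.D A} (x : Colim I X) : Fmap I (0 : X ⟶ Y) x = 0 := by
  obtain ⟨n, φ, rfl⟩ := ιn_jointly_surjective I X x
  rw [Fmap_ιn, comp_zero, map_zero]

lemma Fmap_bijective_of_isIso {X Y : Dual.D A} (g : X ⟶ Y) [IsIso g] :
    Function.Bijective (Fmap I g) := by
  refine Function.bijective_iff_has_inverse.2 ⟨Fmap I (inv g), fun x => ?_, fun y => ?_⟩
  · rw [← Fmap_comp, IsIso.hom_inv_id, Fmap_id]
  · rw [← Fmap_comp, IsIso.inv_hom_id, Fmap_id]

/-- Elements of `Hom_D(A/I^n, X)` are killed by `I^n`. -/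
lemma smul_Dn_eq_zero' (X : Dual.D A) (n : ℕ) (a : A) (ha : a ∈ I ^ n)
    (φ : Dn I X n) : a • φ = 0 := by
  have h1 : a • 𝟙 (N I n) = 0 := by
    apply hom_ext_N
    change a • one I n = (0 : N I n ⟶ N I n).hom _
    rw [smul_one_eq_zero _ n a ha]
    rfl
  have h2 : a • φ = (DerivedCategory.singleFunctor (ModuleCat.{u} A) 0).map
      (a • 𝟙 (N I n)) ≫ φ := by
    rw [Functor.map_smul, CategoryTheory.Functor.map_id, Linear.smul_comp, Category.id_comp]
  rw [h2, h1, Functor.map_zero, zero_comp]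

/-- The colimit is `I`-power torsion. -/
lemma isPowerTorsion_colim (X : Dual.D A) : LocCoh.IsPowerTorsion I (Colim I X) := by
  intro x
  obtain ⟨n, φ, rfl⟩ := ιn_jointly_surjective I X x
  refine ⟨n, fun a ha => ?_⟩
  rw [← map_smul, smul_Dn_eq_zero' I X n a ha, map_zero]

/-- Exactness of the colimit functor on distinguished triangles. -/
lemma Fmap_exact (T : Triangle (Dual.D A)) (hT : T ∈ distTriang (Dual.D A)) :
    Function.Exact (Fmap I T.mor₁) (Fmap I T.mor₂) := by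
  intro y
  constructor
  · intro hy
    obtain ⟨n, φ, rfl⟩ := ιn_jointly_surjective I _ y
    rw [Fmap_ιn] at hy
    obtain ⟨m, h, h0⟩ := (ιn_eq_zero_iff I _ n _).1 hy
    have h1 : tr I T.obj₂ h φ ≫ T.mor₂ = 0 := by
      have := post_tr I T.mor₂ h φ
      rw [post_apply, post_apply] at this
      rw [this]
      exact h0
    obtain ⟨φ', hφ'⟩ := Triangle.coyoneda_exact₂ T hT (tr I T.obj₂ h φ) h1
    refine ⟨ιn I _ m φ', ?_⟩
    rw [Fmap_ιn, ← hφ', ιn_tr]
  · rintro ⟨x, rfl⟩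
    rw [← Fmap_comp, comp_distTriang_mor_zero₁₂ _ hT, Fmap_zero]

end Groth.Agent.Lib.Helper13.LD
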