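import Groth.Agent.Lib.Helper13.LD3
import Mathlib.Algebra.Module.Injective

/-!
# The duality pairing `colim_n Hom_D(A/I^n, K) → Hom_A(Hom_D(K, ω), E)`
-/

set_option autoImplicit false
set_option linter.style.haveILetI false
set_option linter.unusedSectionVars false
universe u
open CategoryTheory CategoryTheory.Limits Opposite Pretriangulated

namespace Groth.Agent.Lib.Helper13.LD

open Groth.Agent.Lib.Helper2.RGColim
open DerivedCategory

attribute [local instance] HasDerivedCategory.standard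

variable {A : Type u} [CommRing A] (I : Ideal A) (ω : Dual.D A)
  (E : Type u) [AddCommGroup E] [Module A E]

/-- `G(K) = Hom_A(Hom_D(K, ω), E)`. -/
abbrev G (K : Dual.D A) : Type (u + 1) := (K ⟶ ω) →ₗ[A] E

/-- Precomposition as a linear map. -/
noncomputable def pre {X Y : Dual.D A} (g : X ⟶ Y) : (Y ⟶ ω) →ₗ[A] (X ⟶ ω) where
  toFun φ := g ≫ φ
  map_add' _ _ := Preadditive.comp_add _ _ _ _ _ _
  map_smul' _ _ := Linear.comp_smul _ _ _ _ _ _

lemma pre_apply {X Y : Dual.D A} (g : X ⟶ Y) (φ : Y ⟶ ω) : pre ω g φ = g ≫ φ := rfl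

/-- Functoriality of `G`. -/
noncomputable def Gmap {X Y : Dual.D A} (g : X ⟶ Y) : G ω E X →ₗ[A] G ω E Y :=
  LinearMap.lcomp A E (pre ω g)

lemma Gmap_apply {X Y : Dual.D A} (g : X ⟶ Y) (l : G ω E X) (φ : Y ⟶ ω) :
    Gmap ω E g l φ = l (g ≫ φ) := rfl

lemma Gmap_id (X : Dual.D A) (l : G ω E X) : Gmap ω E (𝟙 X) l = l := by
  apply LinearMap.ext
  intro φ
  rw [Gmap_apply, Category.id_comp]

lemma Gmap_comp {X Y Z : Dual.D A} (g : X ⟶ Y) (h : Y ⟶ Z) (l : G ω E X) :
    Gmap ω E (g ≫ h) l = Gmap ω E h (Gmap ω E g l) := by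
  apply LinearMap.ext
  intro φ
  rw [Gmap_apply, Gmap_apply, Gmap_apply, Category.assoc]

lemma Gmap_zero {X Y : Dual.D A} (l : G ω E X) : Gmap ω E (0 : X ⟶ Y) l = 0 := by
  apply LinearMap.ext
  intro φ
  rw [Gmap_apply, zero_comp, map_zero]
  rfl

lemma Gmap_smul {X Y : Dual.D A} (a : A) (g : X ⟶ Y) (l : G ω E X) :
    Gmap ω E (a • g) l = a • Gmap ω E g l := by
  apply LinearMap.ext
  intro φ
  rw [Gmap_apply, LinearMap.smul_apply, Gmap_apply, Linear.smul_comp, map_smul]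

lemma Gmap_bijective_of_isIso {X Y : Dual.D A} (g : X ⟶ Y) [IsIso g] :
    Function.Bijective (Gmap ω E g) := by
  refine Function.bijective_iff_has_inverse.2 ⟨Gmap ω E (inv g), fun x => ?_, fun y => ?_⟩
  · rw [← Gmap_comp, IsIso.hom_inv_id, Gmap_id]
  · rw [← Gmap_comp, IsIso.inv_hom_id, Gmap_id]

/-- Exactness of `G` on distinguished triangles (`E` injective). -/
lemma Gmap_exact [Module.Injective A E] (T : Triangle (Dual.D A))
    (hT : T ∈ distTriang (Dual.D A)) :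
    Function.Exact (Gmap ω E T.mor₁) (Gmap ω E T.mor₂) := by
  intro l
  constructor
  · intro hl
    -- `l` vanishes on the kernel of `pre mor₁`
    have hker : LinearMap.ker (pre ω T.mor₁) ≤ LinearMap.ker l := by
      intro φ hφ
      rw [LinearMap.mem_ker, pre_apply] at hφ
      obtain ⟨ψ, rfl⟩ := Triangle.yoneda_exact₂ T hT φ hφ
      have := LinearMap.congr_fun hl ψ
      rw [Gmap_apply] at this
      exact this
    let μ₀ : LinearMap.range (pre ω T.mor₁) →ₗ[A] E :=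
      (Submodule.liftQ _ l hker) ∘ₗ (LinearMap.quotKerEquivRange (pre ω T.mor₁)).symm.toLinearMap
    obtain ⟨μ, hμ⟩ := Module.Injective.extension_property A E _ _
      (LinearMap.range (pre ω T.mor₁)).subtype (Submodule.injective_subtype _) μ₀
    refine ⟨μ, ?_⟩
    apply LinearMap.ext
    intro φ
    rw [Gmap_apply]
    have h1 : μ (T.mor₁ ≫ φ) = μ₀ ⟨pre ω T.mor₁ φ, LinearMap.mem_range_self _ φ⟩ :=
      (LinearMap.congr_fun hμ ⟨pre ω T.mor₁ φ, LinearMap.mem_range_self _ φ⟩)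
    rw [h1]
    change (Submodule.liftQ _ l hker) ((LinearMap.quotKerEquivRange (pre ω T.mor₁)).symm
      ⟨pre ω T.mor₁ φ, LinearMap.mem_range_self _ φ⟩) = l φ
    have h2 : (LinearMap.quotKerEquivRange (pre ω T.mor₁)).symm
        ⟨pre ω T.mor₁ φ, LinearMap.mem_range_self _ φ⟩ = Submodule.Quotient.mk φ := by
      rw [LinearEquiv.symm_apply_eq]
      rfl
    rw [h2, Submodule.liftQ_apply]
  · rintro ⟨μ, rfl⟩
    rw [← Gmap_comp, comp_distTriang_mor_zero₁₂ _ hT, Gmap_zero]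

variable (τ : Colim I ω →ₗ[A] E)

/-- The duality pairing. -/
noncomputable def Ψ (K : Dual.D A) : Colim I K →ₗ[A] G ω E K where
  toFun x :=
    { toFun := fun φ => τ (Fmap I φ x)
      map_add' := fun φ ψ => by rw [Fmap_add, map_add]
      map_smul' := fun a φ => by rw [Fmap_smul, map_smul]; rfl }
  map_add' x y := by
    apply LinearMap.ext
    intro φ
    change τ (Fmap I φ (x + y)) = τ (Fmap I φ x) + τ (Fmap I φ y)
    rw [map_add, map_add]
  map_smul' a x := by
    apply LinearMap.ext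
    intro φ
    change τ (Fmap I φ (a • x)) = a • τ (Fmap I φ x)
    rw [map_smul, map_smul]

lemma Ψ_apply (K : Dual.D A) (x : Colim I K) (φ : K ⟶ ω) :
    Ψ I ω E τ K x φ = τ (Fmap I φ x) := rfl

lemma Ψ_naturality {X Y : Dual.D A} (g : X ⟶ Y) (x : Colim I X) :
    Ψ I ω E τ Y (Fmap I g x) = Gmap ω E g (Ψ I ω E τ X x) := by
  apply LinearMap.ext
  intro φ
  rw [Ψ_apply, Gmap_apply, Ψ_apply, Fmap_comp]

lemma Ψ_naturality' {X Y : Dual.D A} (g : X ⟶ Y) :
    (Ψ I ω E τ Y).comp (Fmap I g) = (Gmap ω E g).comp (Ψ I ω E τ X) :=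
  LinearMap.ext fun x => Ψ_naturality I ω E τ g x

/-- Bijectivity of the pairing is invariant under isomorphisms. -/
lemma Ψ_bijective_of_iso {X Y : Dual.D A} (e : X ≅ Y)
    (h : Function.Bijective (Ψ I ω E τ X)) : Function.Bijective (Ψ I ω E τ Y) := by
  have h1 : (Ψ I ω E τ Y : Colim I Y → G ω E Y) =
      (Gmap ω E e.hom) ∘ (Ψ I ω E τ X) ∘ (Fmap I e.inv) := by
    funext y
    change _ = Gmap ω E e.hom (Ψ I ω E τ X (Fmap I e.inv y))
    rw [← Ψ_naturality, ← Fmap_comp, e.inv_hom_id, Fmap_id]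
  rw [h1]
  exact (Gmap_bijective_of_isIso ω E e.hom).comp
    (h.comp (Fmap_bijective_of_isIso I e.inv))

end Groth.Agent.Lib.Helper13.LD
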