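import Groth.Agent.Lib.Helper13.LD7
import Mathlib.RingTheory.Regular.Category
import Mathlib.RingTheory.Ideal.AssociatedPrime.Finiteness

/-!
# Local duality: dévissage over finite modules
-/

set_option autoImplicit false
set_option linter.style.haveILetI false
set_option linter.unusedSectionVars false
universe u
open CategoryTheory CategoryTheory.Limits Opposite Pretriangulated

namespace Groth.Agent.Lib.Helper13.LD

open Groth.Agent.Lib.Helper2.RGColim Groth.Agent.Lib.Helper25
open DerivedCategory InjHull IsLocalRing

attribute [local instance] HasDerivedCategory.standard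

section General

variable {A : Type u} [CommRing A] (I : Ideal A) (ω : Dual.D A)
  (E : Type u) [AddCommGroup E] [Module A E] (τ : Colim I ω →ₗ[A] E)

lemma PP_of_linearEquiv {M M' : Type u} [AddCommGroup M] [Module A M] [AddCommGroup M']
    [Module A M'] (e : M ≃ₗ[A] M') (h : PP I ω E τ (Dual.inD A M)) :
    PP I ω E τ (Dual.inD A M') :=
  PP_of_iso I ω E τ ((DerivedCategory.singleFunctor (ModuleCat.{u} A) 0).mapIso e.toModuleIso) h

lemma PP_of_subsingleton (M : Type u) [AddCommGroup M] [Module A M] [Subsingleton M] :
    PP I ω E τ (Dual.inD A M) :=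
  PP_of_isZero I ω E τ _ (Functor.map_isZero _ (ModuleCat.isZero_of_subsingleton _))

lemma PP_of_exact [Module.Injective A E] {N₁ N₂ N₃ : Type u} [AddCommGroup N₁] [Module A N₁]
    [AddCommGroup N₂] [Module A N₂] [AddCommGroup N₃] [Module A N₃]
    (f : N₁ →ₗ[A] N₂) (g : N₂ →ₗ[A] N₃) (hf : Function.Injective f)
    (hg : Function.Surjective g) (hfg : Function.Exact f g)
    (h₁ : PP I ω E τ (Dual.inD A N₁)) (h₃ : PP I ω E τ (Dual.inD A N₃)) :
    PP I ω E τ (Dual.inD A N₂) := by
  let S : ShortComplex (ModuleCat.{u} A) :=
    ShortComplex.mk (ModuleCat.ofHom f) (ModuleCat.ofHom g) (by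
      refine ModuleCat.hom_ext (LinearMap.ext fun x => ?_)
      exact hfg.apply_apply_eq_zero x)
  have hS : S.ShortExact := by
    refine { exact := ?_, mono_f := ?_, epi_g := ?_ }
    · rw [ShortComplex.ShortExact.moduleCat_exact_iff_function_exact]
      exact hfg
    · rw [ModuleCat.mono_iff_injective]
      exact hf
    · rw [ModuleCat.epi_iff_surjective]
      exact hg
  exact PP_obj₂ I ω E τ _ hS.singleTriangle_distinguished h₁ h₃

/-- Elements of `G(K)` are killed by powers of `c ∈ I` when `Hom(K, ω)` is finite and `E` is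
`I`-power torsion. -/
lemma exists_pow_smul_G_eq_zero (K : Dual.D A) [Module.Finite A (K ⟶ ω)]
    (hE : LocCoh.IsPowerTorsion I E) (c : A) (hc : c ∈ I) (l : G ω E K) :
    ∃ N : ℕ, c ^ N • l = 0 := by
  classical
  obtain ⟨S, hS⟩ := (Module.Finite.fg_top : (⊤ : Submodule A (K ⟶ ω)).FG)
  choose n hn using fun s : (K ⟶ ω) => hE (l s)
  refine ⟨S.sup n, ?_⟩
  apply LinearMap.ext_on hS
  intro s hs
  rw [LinearMap.smul_apply, LinearMap.zero_apply]
  apply hn s
  exact Ideal.pow_le_pow_right (Finset.le_sup hs) (Ideal.pow_mem_pow hc _)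

end General

section Local

variable (A : Type u) [CommRing A] [IsLocalRing A] [IsNoetherianRing A]
  (ω : Dual.D A) (hω : Dual.IsDualizing A ω) (hn : Dual.IsNormalized A ω)
  (E : Type u) [AddCommGroup E] [Module A E] (f : ResidueField A →ₗ[A] E)
  (hf : IsInjectiveHull f) (τ : Colim (maximalIdeal A) ω ≃ₗ[A] E)

include hω hn hf in
/-- The "multiplication by `x`" dévissage for modules. -/
lemma PP_of_isSMulRegular (M : Type u) [AddCommGroup M] [Module A M] [Module.Finite A M]
    (x : A) (hx : x ∈ maximalIdeal A) (hreg : IsSMulRegular M x)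
    (hQ : PP (maximalIdeal A) ω E τ.toLinearMap (Dual.inD A (QuotSMulTop x M))) :
    PP (maximalIdeal A) ω E τ.toLinearMap (Dual.inD A M) := by
  haveI := hf.isInjective
  have hS : (ModuleCat.smulShortComplex (ModuleCat.of A M) x).ShortExact :=
    hreg.smulShortComplex_shortExact
  have hT := hS.singleTriangle_distinguished
  have key : ∀ i : ℤ, -1 ≤ i →
      Function.Bijective (Ψ (maximalIdeal A) ω E τ.toLinearMap ((Dual.inD A M)⟦i⟧)) := by
    intro i hi
    induction i, hi using Int.le_induction with
    | base => exact Ψ_bijective_of_neg A ω hω hn E τ M (-1) (by decide)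
    | succ i hi ih =>
      have hTi := Triangle.shift_distinguished _ hT (i + 1)
      have hcm : (((i + 1).negOnePow : ℤˣ) : ℤ) • x ∈ maximalIdeal A := zsmul_mem hx _
      have hmor : ((Triangle.shiftFunctor (Dual.D A) (i + 1)).obj hS.singleTriangle).mor₁ =
          ((((i + 1).negOnePow : ℤˣ) : ℤ) • x) • 𝟙 ((Dual.inD A M)⟦i + 1⟧) := by
        change (i + 1).negOnePow • ((DerivedCategory.singleFunctor (ModuleCat.{u} A) 0).map
          (x • 𝟙 (ModuleCat.of A M)))⟦i + 1⟧' = _
        rw [Functor.map_smul, CategoryTheory.Functor.map_id, Functor.map_smul,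
          CategoryTheory.Functor.map_id, Units.smul_def, smul_assoc]
      have hTi' : Triangle.mk
          (((((i + 1).negOnePow : ℤˣ) : ℤ) • x) • 𝟙 ((Dual.inD A M)⟦i + 1⟧))
          ((Triangle.shiftFunctor (Dual.D A) (i + 1)).obj hS.singleTriangle).mor₂
          ((Triangle.shiftFunctor (Dual.D A) (i + 1)).obj hS.singleTriangle).mor₃ ∈
            distTriang (Dual.D A) := by
        rw [← hmor]
        exact hTi
      refine Ψ_bijective_of_smul (maximalIdeal A) ω E τ.toLinearMap _ _ _ _ _ hTi' ?_ ?_ ?_ ?_ ?_
      · intro y
        obtain ⟨N, hN⟩ := isPowerTorsion_colim (maximalIdeal A) _ y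
        exact ⟨N, hN _ (Ideal.pow_mem_pow hcm N)⟩
      · intro l
        haveI : Module.Finite A (Dual.inD A M ⟶ ω⟦-(i + 1)⟧) :=
          DualBC.finite_ext ω hω M (-(i + 1))
        haveI : Module.Finite A ((Dual.inD A M)⟦i + 1⟧ ⟶ ω) :=
          Module.Finite.equiv (shiftHomEquiv (Dual.inD A M) ω (i + 1)).symm
        exact exists_pow_smul_G_eq_zero (maximalIdeal A) ω E _
          (isPowerTorsion_of_isInjectiveHull f hf) _ hcm l
      · exact (Ψ_bijective_of_iso (maximalIdeal A) ω E τ.toLinearMap
          ((shiftFunctorAdd' (Dual.D A) (i + 1) (-1) i (by omega)).app _) ih).2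
      · exact (PP_shift (maximalIdeal A) ω E τ.toLinearMap hQ (i + 1)) (-1)
      · exact (hQ (i + 1)).1
  intro i
  by_cases hi : -1 ≤ i
  · exact key i hi
  · exact Ψ_bijective_of_neg A ω hω hn E τ M i (by omega)

include hω hn hf in
/-- **Local duality**: the pairing is bijective on all shifts of a finite module. -/
theorem PP_inD_of_finite (M : Type u) [AddCommGroup M] [Module A M] [Module.Finite A M] :
    PP (maximalIdeal A) ω E τ.toLinearMap (Dual.inD A M) := by
  haveI := hf.isInjective
  have main : ∀ J : Ideal A, ∀ (M : Type u) [AddCommGroup M] [Module A M]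
      [Module.Finite A M], J ≤ Module.annihilator A M →
      PP (maximalIdeal A) ω E τ.toLinearMap (Dual.inD A M) := by
    intro J
    induction J using IsNoetherian.induction with
    | hgt J ih =>
      intro M _ _ hfin hJ
      refine IsNoetherianRing.induction_on_isQuotientEquivQuotientPrime A hfin
        (motive := fun N _ _ _ => J ≤ Module.annihilator A N →
          PP (maximalIdeal A) ω E τ.toLinearMap (Dual.inD A N)) ?_ ?_ ?_ hJ
      · intro N _ _ _ _ _
        exact PP_of_subsingleton _ ω E _ N
      · intro N _ _ _ p e hJN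
        apply PP_of_linearEquiv _ ω E _ e.symm
        have hJp : J ≤ p.asIdeal := by
          rw [e.annihilator_eq, Ideal.annihilator_quotient] at hJN
          exact hJN
        by_cases hp : p.asIdeal = maximalIdeal A
        · rw [hp]
          exact PP_residue A ω hω hn E f hf τ
        · have hlt : p.asIdeal < maximalIdeal A :=
            lt_of_le_of_ne (IsLocalRing.le_maximalIdeal p.2.ne_top) hp
          obtain ⟨x, hxm, hxp⟩ := SetLike.exists_of_lt hlt
          have hreg : IsSMulRegular (A ⧸ p.asIdeal) x := by
            intro a b hab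
            have h1 : x • (a - b) = 0 := by rw [smul_sub]; exact sub_eq_zero.2 hab
            rw [Algebra.smul_def] at h1
            have h2 : algebraMap A (A ⧸ p.asIdeal) x ≠ 0 := by
              rw [Ideal.Quotient.algebraMap_eq, Ne, Ideal.Quotient.eq_zero_iff_mem]
              exact hxp
            have h3 := (mul_eq_zero.1 h1).resolve_left h2
            exact sub_eq_zero.1 h3
          apply PP_of_isSMulRegular A ω hω hn E f hf τ (A ⧸ p.asIdeal) x hxm hreg
          apply ih (p.asIdeal ⊔ Ideal.span {x})
          · refine lt_of_le_of_ne (hJp.trans le_sup_left) ?_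
            intro heq
            apply hxp
            apply hJp
            rw [heq]
            exact Ideal.mem_sup_right (Ideal.subset_span rfl)
          · apply sup_le
            · intro a ha
              rw [Module.mem_annihilator]
              intro q
              obtain ⟨m, rfl⟩ := Submodule.Quotient.mk_surjective _ q
              rw [← Submodule.Quotient.mk_smul]
              have : a • m = 0 := by
                rw [Algebra.smul_def, Ideal.Quotient.algebraMap_eq,
                  Ideal.Quotient.eq_zero_iff_mem.2 ha, zero_mul]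
              rw [this]
              rfl
            · rw [Ideal.span_le, Set.singleton_subset_iff]
              change x ∈ Module.annihilator A _
              rw [Module.mem_annihilator]
              intro q
              obtain ⟨m, rfl⟩ := Submodule.Quotient.mk_surjective _ q
              rw [← Submodule.Quotient.mk_smul, Submodule.Quotient.mk_eq_zero]
              exact Submodule.smul_mem_pointwise_smul m x ⊤ Submodule.mem_top
      · intro N₁ _ _ _ N₂ _ _ _ N₃ _ _ _ f' g' hf' hg' hfg h₁ h₃ hJ2
        exact PP_of_exact _ ω E _ f' g' hf' hg' hfg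
          (h₁ (hJ2.trans (LinearMap.annihilator_le_of_injective f' hf')))
          (h₃ (hJ2.trans (LinearMap.annihilator_le_of_surjective g' hg')))
  exact main ⊥ M bot_le

end Local

end Groth.Agent.Lib.Helper13.LD
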