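import Groth.Agent.Lib.Helper13.LD8
import Groth.Agent.Lib.Helper16.LocCohBasic

/-!
# Local duality: comparison with `LocCoh.H` and the final statement
-/

set_option autoImplicit false
set_option linter.style.haveILetI false
set_option linter.unusedSectionVars false
universe u
open CategoryTheory CategoryTheory.Limits Opposite Pretriangulated

namespace Groth.Agent.Lib.Helper13.LD

open Groth.Agent.Lib.Helper2.RGColim Groth.Agent.Lib.Helper25 Groth.Agent.Lib.Helper16
open DerivedCategory InjHull IsLocalRing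

attribute [local instance] HasDerivedCategory.standard

section Bridge

variable {A : Type u} [CommRing A] (I : Ideal A) (i : ℕ) (M : ModuleCat.{u} A)

/-- The `Ext` class attached to a morphism `A/I^n ⟶ M⟦i⟧` in `D(A)`. -/
noncomputable def toExt (n : ℕ)
    (φ : Dn I (((DerivedCategory.singleFunctor (ModuleCat.{u} A) 0).obj M)⟦(i : ℤ)⟧) n) :
    LC.E I i M n :=
  (Abelian.Ext.homLinearEquiv (R := A) (X := LC.Q I n) (Y := M) (n := i)).symm φ

lemma toExt_hom (n : ℕ)
    (φ : Dn I (((DerivedCategory.singleFunctor (ModuleCat.{u} A) 0).obj M)⟦(i : ℤ)⟧) n) :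
    (toExt I i M n φ).hom = φ :=
  (Abelian.Ext.homLinearEquiv (R := A) (X := LC.Q I n) (Y := M) (n := i)).apply_symm_apply φ

lemma toExt_hom' (n : ℕ) (e : LC.E I i M n) : toExt I i M n e.hom = e :=
  (Abelian.Ext.homLinearEquiv (R := A) (X := LC.Q I n) (Y := M) (n := i)).symm_apply_apply e

lemma toExt_add (n : ℕ)
    (φ ψ : Dn I (((DerivedCategory.singleFunctor (ModuleCat.{u} A) 0).obj M)⟦(i : ℤ)⟧) n) :
    toExt I i M n (φ + ψ) = toExt I i M n φ + toExt I i M n ψ :=
  map_add (Abelian.Ext.homLinearEquiv (R := A) (X := LC.Q I n) (Y := M) (n := i)).symm φ ψ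

lemma toExt_smul (n : ℕ) (a : A)
    (φ : Dn I (((DerivedCategory.singleFunctor (ModuleCat.{u} A) 0).obj M)⟦(i : ℤ)⟧) n) :
    toExt I i M n (a • φ) = a • toExt I i M n φ :=
  map_smul (Abelian.Ext.homLinearEquiv (R := A) (X := LC.Q I n) (Y := M) (n := i)).symm a φ

lemma trans_hom {n m : ℕ} (h : n ≤ m) (e : LC.E I i M n) :
    (LC.trans I i M h e).hom = tr I _ h e.hom := by
  rw [LC.trans_apply, Abelian.Ext.comp_hom, Abelian.Ext.mk₀_hom, ShiftedHom.mk₀_comp]
  rfl

lemma toExt_tr {n m : ℕ} (h : n ≤ m)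
    (φ : Dn I (((DerivedCategory.singleFunctor (ModuleCat.{u} A) 0).obj M)⟦(i : ℤ)⟧) n) :
    toExt I i M m (tr I _ h φ) = LC.trans I i M h (toExt I i M n φ) := by
  apply Abelian.Ext.ext
  rw [toExt_hom, trans_hom, toExt_hom]

/-- The legs of the comparison cocone. -/
noncomputable def leg (n : ℕ) :
    Dn I (((DerivedCategory.singleFunctor (ModuleCat.{u} A) 0).obj M)⟦(i : ℤ)⟧) n →ₗ[A]
      ULift.{u + 1} ((localCohomology I i).obj M) where
  toFun φ := ULift.up (LC.ι I i M n (toExt I i M n φ))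
  map_add' φ ψ := by rw [toExt_add, map_add]; rfl
  map_smul' a φ := by rw [toExt_smul, map_smul]; rfl

/-- The comparison map. -/
noncomputable def bridge :
    Colim I (((DerivedCategory.singleFunctor (ModuleCat.{u} A) 0).obj M)⟦(i : ℤ)⟧) →ₗ[A]
      ULift.{u + 1} ((localCohomology I i).obj M) :=
  desc I _ (leg I i M) (by
    intro n m h φ
    change ULift.up (LC.ι I i M m (toExt I i M m (tr I _ h φ))) =
      ULift.up (LC.ι I i M n (toExt I i M n φ))
    rw [toExt_tr, LC.ι_trans])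

lemma bridge_ιn (n : ℕ)
    (φ : Dn I (((DerivedCategory.singleFunctor (ModuleCat.{u} A) 0).obj M)⟦(i : ℤ)⟧) n) :
    bridge I i M (ιn I _ n φ) = ULift.up (LC.ι I i M n (toExt I i M n φ)) :=
  desc_ιn I _ _ _ n φ

lemma bridge_bijective : Function.Bijective (bridge I i M) := by
  constructor
  · rw [injective_iff_map_eq_zero]
    intro y hy
    obtain ⟨n, φ, rfl⟩ := ιn_jointly_surjective I _ y
    rw [bridge_ιn] at hy
    have h1 : LC.ι I i M n (toExt I i M n φ) = 0 := congrArg ULift.down hy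
    obtain ⟨l, h, hl⟩ := (LC.ι_eq_zero_iff I i M _).1 h1
    have h2 : tr I _ h φ = 0 := by
      have := congrArg Abelian.Ext.hom hl
      rw [trans_hom, toExt_hom, Abelian.Ext.zero_hom] at this
      exact this
    rw [← ιn_tr I _ h φ, h2, map_zero]
  · intro x
    obtain ⟨n, e, he⟩ := LC.ι_jointly_surjective I i M x.down
    refine ⟨ιn I _ n e.hom, ?_⟩
    rw [bridge_ιn, toExt_hom', he]

/-- `H^i_I(M) ≃ colim_n Hom_D(A/I^n, M⟦i⟧)`. -/
noncomputable def bridgeEquiv :
    Colim I (((DerivedCategory.singleFunctor (ModuleCat.{u} A) 0).obj M)⟦(i : ℤ)⟧) ≃ₗ[A]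
      (localCohomology I i).obj M :=
  (LinearEquiv.ofBijective (bridge I i M) (bridge_bijective I i M)).trans ULift.moduleEquiv

end Bridge

section Final

variable (A : Type u) [CommRing A] [IsLocalRing A] [IsNoetherianRing A]
  (ω : Dual.D A) (hω : Dual.IsDualizing A ω) (hn : Dual.IsNormalized A ω)
  (E : Type u) [AddCommGroup E] [Module A E] (f : ResidueField A →ₗ[A] E)
  (hf : IsInjectiveHull f)

include hω hn hf in
/-- **Local duality** for a normalized dualizing complex: `H^i_m(M) ≅ Hom_A(Ext^{-i}(M, ω), E)`. -/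
theorem local_duality (M : Type u) [AddCommGroup M] [Module A M] [Module.Finite A M] (i : ℕ) :
    Nonempty (LocCoh.H (maximalIdeal A) i M ≃ₗ[A]
      ((Dual.inD A M ⟶ ω⟦(-(i : ℤ))⟧) →ₗ[A] E)) := by
  obtain ⟨τ⟩ := nonempty_colim_equiv A ω hω hn E f hf
  have hbij := PP_inD_of_finite A ω hω hn E f hf τ M (i : ℤ)
  let e1 := bridgeEquiv (maximalIdeal A) i (ModuleCat.of A M)
  let e2 := LinearEquiv.ofBijective _ hbij
  let e3 : G ω E ((Dual.inD A M)⟦(i : ℤ)⟧) ≃ₗ[A]
      ((Dual.inD A M ⟶ ω⟦(-(i : ℤ))⟧) →ₗ[A] E) :=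
    LinearEquiv.congrLeft E A (shiftHomEquiv (Dual.inD A M) ω (i : ℤ))
  exact ⟨e1.symm.trans (e2.trans e3)⟩

end Final

end Groth.Agent.Lib.Helper13.LD
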