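import Groth.Agent.Lib.Helper13.RHomCxV
import Groth.Agent.Lib.Helper13.HomCx2

/-!
# Swapping the two sources in `Hom(P, Hom•(P', L))`, and bijectivity transfer lemmas
-/

set_option autoImplicit false
set_option maxHeartbeats 400000
set_option linter.style.haveILetI false
universe u
open CategoryTheory CategoryTheory.Limits MonoidalCategory Pretriangulated
open CochainComplex CochainComplex.HomComplex HomologicalComplex

namespace Groth.Agent.Lib.Helper13.LDC

open DTen Groth.Agent.Lib.Helper13.HT Groth.Agent.Lib.Helper13.SF Groth.Agent.Lib.Helper13.KP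
  Groth.Agent.Lib.Helper13.DT Groth.Agent.Lib.Helper13.DV

attribute [local instance] HasDerivedCategory.standard

variable {A : Type u} [CommRing A]

/-- Naturality of uncurrying in the source. -/
lemma uncurryHom_comp {X X' P L : DRing.Cx A} (g : X' ⟶ X) (u : X ⟶ DRing.homCx P L) :
    uncurryHom (g ≫ u) = (g ▷ P) ≫ uncurryHom u := by
  rw [← whiskerRight_evCx, ← whiskerRight_evCx u, comp_whiskerRight, Category.assoc]

/-- Naturality of uncurrying in the middle variable. -/
lemma uncurryHom_comp_preMap {X P P' L : DRing.Cx A} (u : X ⟶ DRing.homCx P L) (g : P' ⟶ P) :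
    uncurryHom (u ≫ preMap g L) = (X ◁ g) ≫ uncurryHom u := by
  rw [← whiskerRight_evCx, comp_whiskerRight, Category.assoc, ← whiskerLeft_evCx,
    ← whiskerRight_evCx u, ← Category.assoc, ← Category.assoc, whisker_exchange]

lemma uncurryHom_zero {X P L : DRing.Cx A} : uncurryHom (0 : X ⟶ DRing.homCx P L) = 0 := by
  apply ofHom_injective
  rw [ofHom_uncurryHom, Cochain.ofHom_zero, Cochain.ofHom_zero]
  exact (curryEquiv (K := X) (L := P) (M := L) 0).symm.map_zero

/-- Swap with respect to a morphism `β : P' ⊗ P ⟶ P ⊗ P'`. -/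
noncomputable def swapHom {P P' : DRing.Cx A} (β : P' ⊗ P ⟶ P ⊗ P') {L : DRing.Cx A}
    (u : P ⟶ DRing.homCx P' L) : P' ⟶ DRing.homCx P L :=
  curryHom (β ≫ uncurryHom u)

lemma uncurryHom_swapHom {P P' : DRing.Cx A} (β : P' ⊗ P ⟶ P ⊗ P') {L : DRing.Cx A}
    (u : P ⟶ DRing.homCx P' L) : uncurryHom (swapHom β u) = β ≫ uncurryHom u :=
  uncurryHom_curryHom _

lemma swapHom_swapHom {P P' : DRing.Cx A} (β : P' ⊗ P ⟶ P ⊗ P') (β' : P ⊗ P' ⟶ P' ⊗ P)
    (h : β' ≫ β = 𝟙 _) {L : DRing.Cx A} (u : P ⟶ DRing.homCx P' L) :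
    swapHom β' (swapHom β u) = u := by
  unfold swapHom
  rw [uncurryHom_curryHom, ← Category.assoc, h, Category.id_comp, curryHom_uncurryHom]

lemma uncurryHom_injective {X P L : DRing.Cx A} {u u' : X ⟶ DRing.homCx P L}
    (h : uncurryHom u = uncurryHom u') : u = u' := by
  rw [← curryHom_uncurryHom u, h, curryHom_uncurryHom]

/-- Naturality of the swap in the middle variable. -/
lemma swapHom_comp_preMap {P P' P'' : DRing.Cx A} (β : P' ⊗ P ⟶ P ⊗ P')
    (β' : P'' ⊗ P ⟶ P ⊗ P'') (g : P'' ⟶ P') (hβ : (g ▷ P) ≫ β = β' ≫ (P ◁ g))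
    {L : DRing.Cx A} (u : P ⟶ DRing.homCx P' L) :
    swapHom β' (u ≫ preMap g L) = g ≫ swapHom β u := by
  apply uncurryHom_injective
  rw [uncurryHom_swapHom, uncurryHom_comp_preMap, uncurryHom_comp, uncurryHom_swapHom,
    ← Category.assoc, ← Category.assoc, hβ]

/-- The class of the swap only depends on the class of the map. -/
lemma Q_map_swapHom_eq {P P' : DRing.Cx A} [P.IsKProjective] [P'.IsKProjective]
    (β : P' ⊗ P ⟶ P ⊗ P') {L : DRing.Cx A} {u u' : P ⟶ DRing.homCx P' L}
    (h : DerivedCategory.Q.map u = DerivedCategory.Q.map u') :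
    DerivedCategory.Q.map (swapHom β u) = DerivedCategory.Q.map (swapHom β u') := by
  have h1 := Q_map_uncurryHom_eq (KP.nonempty_homotopy_of_Q_map_eq h)
  have h2 : DerivedCategory.Q.map (β ≫ uncurryHom u) =
      DerivedCategory.Q.map (β ≫ uncurryHom u') := by
    rw [Functor.map_comp, Functor.map_comp, h1]
  have : CochainComplex.IsKProjective (P' ⊗ P) := isKProjective_tensor P' P
  obtain ⟨H⟩ := KP.nonempty_homotopy_of_Q_map_eq h2
  have H' : Homotopy (uncurryHom (swapHom β u)) (uncurryHom (swapHom β u')) := by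
    rw [uncurryHom_swapHom, uncurryHom_swapHom]; exact H
  obtain ⟨H''⟩ := nonempty_homotopy_of_uncurryHom H'
  exact KP.Q_map_eq_of_homotopy H''

/-- **Swap transfer.** If precomposition with `Q g` is bijective on maps into `Q Hom•(P, L)`, then
postcomposition with `Q (preMap g L)` is bijective on maps out of `Q P`. -/
theorem bijective_comp_preMap {P P' P'' : DRing.Cx A} [P.IsKProjective] [P'.IsKProjective]
    [P''.IsKProjective] (g : P'' ⟶ P') (L : DRing.Cx A)
    (h : Function.Bijective (fun w : DerivedCategory.Q.obj P' ⟶ DerivedCategory.Q.obj (DRing.homCx P L) =>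
      DerivedCategory.Q.map g ≫ w)) :
    Function.Bijective (fun φ : DerivedCategory.Q.obj P ⟶ DerivedCategory.Q.obj (DRing.homCx P' L) =>
      φ ≫ DerivedCategory.Q.map (preMap g L)) := by
  have hβ : (g ▷ P) ≫ (braidCx P' P).hom = (braidCx P'' P).hom ≫ (P ◁ g) := by
    have := braidCx_naturality g (𝟙 P)
    rwa [tensorHom_id, id_tensorHom] at this
  have hβ' : (P ◁ g) ≫ (braidCx P' P).inv = (braidCx P'' P).inv ≫ (g ▷ P) := by
    rw [Iso.comp_inv_eq, Category.assoc, hβ, Iso.inv_hom_id_assoc]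
  constructor
  · intro φ φ' hφ
    dsimp only at hφ
    obtain ⟨u, rfl⟩ := KP.exists_Q_map_eq φ
    obtain ⟨u', rfl⟩ := KP.exists_Q_map_eq φ'
    rw [← Functor.map_comp, ← Functor.map_comp] at hφ
    have h1 := Q_map_swapHom_eq (braidCx P'' P).hom hφ
    rw [swapHom_comp_preMap (braidCx P' P).hom (braidCx P'' P).hom g hβ,
      swapHom_comp_preMap (braidCx P' P).hom (braidCx P'' P).hom g hβ,
      Functor.map_comp, Functor.map_comp] at h1
    have h2 := h.1 h1
    have h3 := Q_map_swapHom_eq (braidCx P' P).inv h2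
    rwa [swapHom_swapHom _ _ (Iso.inv_hom_id _), swapHom_swapHom _ _ (Iso.inv_hom_id _)] at h3
  · intro ψ
    obtain ⟨v, rfl⟩ := KP.exists_Q_map_eq ψ
    obtain ⟨w, hw⟩ := h.2 (DerivedCategory.Q.map (swapHom (braidCx P'' P).hom v))
    dsimp only at hw
    obtain ⟨w', rfl⟩ := KP.exists_Q_map_eq w
    refine ⟨DerivedCategory.Q.map (swapHom (braidCx P' P).inv w'), ?_⟩
    dsimp only
    rw [← Functor.map_comp] at hw ⊢
    have h3 := Q_map_swapHom_eq (braidCx P'' P).inv hw
    rw [swapHom_swapHom _ _ (Iso.inv_hom_id _)] at h3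
    rw [← h3]
    congr 1
    apply uncurryHom_injective
    rw [uncurryHom_comp_preMap, uncurryHom_swapHom, uncurryHom_swapHom, uncurryHom_comp,
      ← Category.assoc, ← Category.assoc, hβ']

/-- **Postcomposition transfer.** -/
theorem bijective_comp_homCxMap (P X : DRing.Cx A) [P.IsKProjective] [X.IsKProjective]
    {L L' : DRing.Cx A} (f : L ⟶ L')
    (h : Function.Bijective (fun θ : DerivedCategory.Q.obj (X ⊗ P) ⟶ DerivedCategory.Q.obj L =>
      θ ≫ DerivedCategory.Q.map f)) :
    Function.Bijective (fun φ : DerivedCategory.Q.obj X ⟶ DerivedCategory.Q.obj (DRing.homCx P L) =>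
      φ ≫ DerivedCategory.Q.map (DRing.homCxMap P f)) := by
  have hXP : CochainComplex.IsKProjective (X ⊗ P) := isKProjective_tensor X P
  constructor
  · intro φ φ' hφ
    dsimp only at hφ
    obtain ⟨u, rfl⟩ := KP.exists_Q_map_eq φ
    obtain ⟨u', rfl⟩ := KP.exists_Q_map_eq φ'
    rw [← Functor.map_comp, ← Functor.map_comp] at hφ
    have h2 := Q_map_uncurryHom_eq (KP.nonempty_homotopy_of_Q_map_eq hφ)
    rw [uncurryHom_comp_homCxMap, uncurryHom_comp_homCxMap, Functor.map_comp, Functor.map_comp] at h2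
    have h3 := h.1 h2
    obtain ⟨H⟩ := KP.nonempty_homotopy_of_Q_map_eq h3
    obtain ⟨H'⟩ := nonempty_homotopy_of_uncurryHom H
    exact KP.Q_map_eq_of_homotopy H'
  · intro ψ
    obtain ⟨v', rfl⟩ := KP.exists_Q_map_eq ψ
    obtain ⟨θ, hθ⟩ := h.2 (DerivedCategory.Q.map (uncurryHom v'))
    dsimp only at hθ
    obtain ⟨w, rfl⟩ := KP.exists_Q_map_eq θ
    refine ⟨DerivedCategory.Q.map (curryHom w), ?_⟩
    dsimp only
    rw [← Functor.map_comp] at hθ ⊢
    have h1 : DerivedCategory.Q.map (uncurryHom (curryHom w ≫ DRing.homCxMap P f)) =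
        DerivedCategory.Q.map (uncurryHom v') := by
      rw [uncurryHom_comp_homCxMap, uncurryHom_curryHom, hθ]
    obtain ⟨H⟩ := KP.nonempty_homotopy_of_Q_map_eq h1
    obtain ⟨H'⟩ := nonempty_homotopy_of_uncurryHom H
    exact KP.Q_map_eq_of_homotopy H'

end Groth.Agent.Lib.Helper13.LDC
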