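import Groth.Agent.Lib.Helper13.LDC9
import Groth.Agent.Lib.Helper13.GlobalMix3
import Groth.Agent.Lib.Helper13.DCNak5

/-!
# Derived completion: `Psi`-language, derived Nakayama for a resolution of `A/I`
-/

set_option autoImplicit false
set_option maxHeartbeats 400000
set_option linter.style.haveILetI false
universe u
open CategoryTheory CategoryTheory.Limits MonoidalCategory Pretriangulated
open CochainComplex CochainComplex.HomComplex HomologicalComplex

namespace Groth.Agent.Lib.Helper13.LDC

open DTen Groth.Agent.Lib.Helper13.HT Groth.Agent.Lib.Helper13.SF Groth.Agent.Lib.Helper13.KP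
  Groth.Agent.Lib.Helper13.DT Groth.Agent.Lib.Helper13.DV Groth.Agent.Lib.Helper13.DCN
  Groth.Agent.Lib.Helper13.DR Groth.Agent.Lib.Helper13.PC Groth.Agent.Lib.Helper13
  Groth.Agent.Lib.Helper13.Coind Groth.Agent.Lib.Helper13.FC
  Groth.Agent.Lib.Helper2.RGTors Groth.Agent.Lib.Helper2.TorsExt
  Groth.Agent.Lib.Helper7.DerivedComplete Groth.Agent.Lib.Helper7.DerivedCompleteMT
  Groth.Agent.Lib.Helper7.FComplete

attribute [local instance] HasDerivedCategory.standard

variable {A : Type u} [CommRing A]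

section PsiL

variable (F : DRing.Cx A) (hF : KFlat F) [DRing.HasLTensorCx A F]

include hF in
/-- The counit of `- ⊗^L F` is an isomorphism everywhere when `F` is K-flat. -/
theorem isIso_LTensorCxCounit_app_of_kflat (X : DRing.Cx A) :
    IsIso ((LTensorCxCounit F).app X) := by
  have nat := (LTensorCxCounit F).naturality (resMap X)
  have h1 : IsIso (DerivedCategory.Q.map (resMap X)) := by
    rw [DerivedCategory.isIso_Q_map_iff_quasiIso]; infer_instance
  have h2 : IsIso ((LTensorCxCounit F).app (res X)) :=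
    isIso_LTensorCxCounit_app_of_isKProjective F (res X)
  have q := quasiIso_whiskerRight_of_kflat F hF (resMap X)
  have h3 : IsIso (DerivedCategory.Q.map (resMap X ▷ F)) := by
    rw [DerivedCategory.isIso_Q_map_iff_quasiIso]; exact q
  have h4 : IsIso ((DRing.LTensorCx A F).map (DerivedCategory.Q.map (resMap X))) := inferInstance
  have nat' : (DRing.LTensorCx A F).map (DerivedCategory.Q.map (resMap X)) ≫
      (LTensorCxCounit F).app X =
      (LTensorCxCounit F).app (res X) ≫ DerivedCategory.Q.map (resMap X ▷ F) := nat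
  have h5 : IsIso ((DRing.LTensorCx A F).map (DerivedCategory.Q.map (resMap X)) ≫
      (LTensorCxCounit F).app X) := by
    rw [nat']; infer_instance
  exact IsIso.of_isIso_comp_left ((DRing.LTensorCx A F).map (DerivedCategory.Q.map (resMap X))) _

/-- `- ⊗^L F ≅ Psi F` for K-flat `F`. -/
noncomputable def LTensorCxPsiIso : DRing.LTensorCx A F ≅ Psi F hF :=
  have : ∀ X, IsIso ((LTensorCxCounit F).app X) := isIso_LTensorCxCounit_app_of_kflat F hF
  have : IsIso (LTensorCxCounit F) := NatIso.isIso_of_isIso_app _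
  Localization.liftNatIso DerivedCategory.Q
    (HomologicalComplex.quasiIso (ModuleCat.{u} A) (ComplexShape.up ℤ))
    (DerivedCategory.Q ⋙ DRing.LTensorCx A F) (DerivedCategory.Q ⋙ Psi F hF) _ _
    (asIso (LTensorCxCounit F) ≪≫ (psiIso F hF).symm)

end PsiL

section Univ

variable (I : Ideal A)

/-- A universal map between derived complete objects is an isomorphism. -/
theorem isIso_of_universal {X Y : Dual.D A} (u : X ⟶ Y) (hX : DRing.IsDerivedComplete I X)
    (hY : DRing.IsDerivedComplete I Y)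
    (huniv : ∀ E : Dual.D A, DRing.IsDerivedComplete I E →
      Function.Bijective (fun φ : Y ⟶ E => u ≫ φ)) : IsIso u := by
  obtain ⟨r, hr⟩ := (huniv X hX).2 (𝟙 X)
  dsimp only at hr
  refine ⟨r, hr, ?_⟩
  apply (huniv Y hY).1
  dsimp only
  rw [← Category.assoc, hr, Category.id_comp, Category.comp_id]

/-- Modules killed by `f` are `f`-complete. -/
lemma isFComplete_of_smul_eq_zero (f : A) (M : Type u) [AddCommGroup M] [Module A M]
    (h : ∀ x : M, f • x = 0) : IsFComplete f M := by
  have : Δ f M = LinearMap.id := by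
    ext m n
    simp [Δ, h]
  unfold IsFComplete
  rw [this]
  exact Function.bijective_id

/-- `u` exhibits its target as a derived completion of its source (the target is not required to
be complete here). -/
def IsUniv {X Y : Dual.D A} (u : X ⟶ Y) : Prop :=
  ∀ E : Dual.D A, DRing.IsDerivedComplete I E → Function.Bijective (fun φ : Y ⟶ E => u ≫ φ)

variable {I}

lemma IsUniv.of_sq {X Y X' Y' : Dual.D A} {u : X ⟶ Y} {u' : X' ⟶ Y'} (a : X ≅ X') (b : Y ≅ Y')
    (sq : a.hom ≫ u' = u ≫ b.hom) (h : IsUniv I u') : IsUniv I u :=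
  fun E hE => bijective_precomp_of_sq u u' a b sq E (h E hE)

lemma IsUniv.isIso {X Y : Dual.D A} {u : X ⟶ Y} (h : IsUniv I u)
    (hX : DRing.IsDerivedComplete I X) (hY : DRing.IsDerivedComplete I Y) : IsIso u :=
  isIso_of_universal I u hX hY h

variable (I)

lemma isUniv_toDerivedCompletion [DRing.HasDerivedCompletion I] (K : Dual.D A) :
    IsUniv I (DRing.toDerivedCompletion I K) :=
  fun E hE => bijective_precomp_toDerivedCompletion I K E hE

end Univ

section PsiUniv

variable (I : Ideal A) [DRing.HasDerivedCompletion I]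

/-- Universal property of `Ψ_F(K) ⟶ Ψ_F(K^)` for K-projective `F`. -/
theorem isUniv_Psi_map (hI : I.FG) (F : DRing.Cx A) [F.IsKProjective] (hF : KFlat F)
    (K : Dual.D A) : IsUniv I ((Psi F hF).map (DRing.toDerivedCompletion I K)) := by
  have hL : DRing.HasLTensorCx A F := Groth.Agent.Lib.Helper13.GM.hasLTensorCx F
  have h : IsUniv I ((DRing.LTensorCx A F).map (DRing.toDerivedCompletion I K)) :=
    fun E hE => bijective_precomp_LTensorCx_map I hI F K E hE
  refine IsUniv.of_sq ((LTensorCxPsiIso F hF).symm.app _) ((LTensorCxPsiIso F hF).symm.app _) ?_ h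
  exact ((LTensorCxPsiIso F hF).inv.naturality (DRing.toDerivedCompletion I K)).symm

/-- `Ψ_F(K^)` is derived complete for pseudo-coherent `F` and bounded above `K`. -/
theorem isDerivedComplete_Psi_completion [IsNoetherianRing A] (F : DRing.Cx A) (hF : KFlat F)
    (c : ℤ) (hFc : DRing.VanishesAbove F c) (hFf : DRing.TermwiseFiniteFree F)
    (K : Dual.D A) (b : ℤ) (hK : ∀ i : ℤ, b < i → Subsingleton (Dual.HD A K i)) :
    DRing.IsDerivedComplete I ((Psi F hF).obj ((DRing.derivedCompletion I).obj K).obj) := by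
  have hL : DRing.HasLTensorCx A F := Groth.Agent.Lib.Helper13.GM.hasLTensorCx F
  have h := (derivedCompletion_LTensorCx_pseudoCoherent I F c hFc hFf K b hK).1
  exact Groth.Agent.Lib.Helper7.DerivedComplete.of_iso I ((LTensorCxPsiIso F hF).app _) h

end PsiUniv

section Nak

variable (I : Ideal A) (hI : I.FG) (Fr : DRing.Cx A) (hFr : KFlat Fr)
  (π : Fr ⟶ (HomologicalComplex.single (ModuleCat.{u} A) (ComplexShape.up ℤ) 0).obj
    (ModuleCat.of A (A ⧸ I))) [QuasiIso π]

include hI π in
/-- Derived Nakayama for `Ψ_Fr`, `Fr` a K-flat resolution of `A/I`. -/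
theorem isZero_of_isZero_Psi (W : Dual.D A) (hW : DRing.IsDerivedComplete I W)
    (h0 : IsZero ((Psi Fr hFr).obj W)) : IsZero W := by
  obtain ⟨P, hKP, hproj, ⟨eP⟩⟩ := exists_kprojective_rep W
  haveI := hKP
  have hP : KFlat P := isKFlat_of_isKProjective P
  have h0' : IsZero ((Psi Fr hFr).obj (DerivedCategory.Q.obj P)) :=
    h0.of_iso ((Psi Fr hFr).mapIso eP)
  have h1 : ∀ i : ℤ, IsZero ((P ⊗ Fr).homology i) := fun i =>
    (Functor.map_isZero (Hi i) h0').of_iso (HiPsiQIso Fr hFr P i).symm
  have q := quasiIso_whiskerLeft_of_kflat_left P hP π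
  have h2 : ∀ i : ℤ, IsZero (((tensorCx (ModuleCat.of A (A ⧸ I))).obj P).homology i) := by
    intro i
    have h3 := (isZero_homology_of_quasiIso (P ◁ π) i).1 (h1 i)
    exact h3.of_iso ((HomologicalComplex.homologyFunctor _ _ i).mapIso
      (tensorSingleIso P (ModuleCat.of A (A ⧸ I))))
  apply isZero_of_forall_isZero_homology
  intro j
  exact isZero_Hi_of_hyp I hI W hW P hP eP (j - 1)
    (fun N k hN m hm => hyp_of_quotient_vanishing I P hproj (j - 1) (fun i _ => h2 i) N k hN m hm)
    j (by lia)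

include hI π in
/-- Morphism form of derived Nakayama. -/
theorem isIso_of_isIso_Psi_map {X Y : Dual.D A} (c : X ⟶ Y)
    (hX : DRing.IsDerivedComplete I X) (hY : DRing.IsDerivedComplete I Y)
    (hc : IsIso ((Psi Fr hFr).map c)) : IsIso c := by
  obtain ⟨W, g, h, hT⟩ := distinguished_cocone_triangle c
  have hW : DRing.IsDerivedComplete I W :=
    (DRing.IsDerivedComplete I).ext_of_isTriangulatedClosed₃ _ hT hX hY
  obtain ⟨T₁, hT₁, e₁, e₂, e₃, c₁, -⟩ := weakTri_Psi Fr hFr _ hT
  let e₁' : T₁.obj₁ ≅ (Psi Fr hFr).obj X := e₁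
  let e₂' : T₁.obj₂ ≅ (Psi Fr hFr).obj Y := e₂
  have c₁' : T₁.mor₁ ≫ e₂'.hom = e₁'.hom ≫ (Psi Fr hFr).map c := c₁
  have h1 : IsIso T₁.mor₁ := by
    have : T₁.mor₁ = (e₁'.hom ≫ (Psi Fr hFr).map c) ≫ e₂'.inv := by
      rw [← c₁', Category.assoc, Iso.hom_inv_id, Category.comp_id]
    rw [this]
    infer_instance
  have h2 : IsZero T₁.obj₃ := (Triangle.isZero₃_iff_isIso₁ _ hT₁).2 h1
  have h3 : IsZero W := isZero_of_isZero_Psi I hI Fr hFr π W hW (h2.of_iso e₃.symm)
  exact (Triangle.isZero₃_iff_isIso₁ _ hT).1 h3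

end Nak

end Groth.Agent.Lib.Helper13.LDC
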