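import Groth.Agent.Lib.Helper13.LDC10
import Groth.Agent.Lib.Helper13.DRingTensorSES

/-!
# Chain-level identifications for `N[0] ⊗ F` and homology of `F ⊗ N` for flat `N`
-/

set_option autoImplicit false
set_option maxHeartbeats 400000
set_option linter.style.haveILetI false
universe u
open CategoryTheory CategoryTheory.Limits MonoidalCategory Pretriangulated
open CochainComplex CochainComplex.HomComplex HomologicalComplex

namespace Groth.Agent.Lib.Helper13.LDC

open DTen Groth.Agent.Lib.Helper13.HT Groth.Agent.Lib.Helper13.SF Groth.Agent.Lib.Helper13.KP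
  Groth.Agent.Lib.Helper13.DT Groth.Agent.Lib.Helper13.DV Groth.Agent.Lib.Helper13.DCN
  Groth.Agent.Lib.Helper13.DR Groth.Agent.Lib.Helper13.PC Groth.Agent.Lib.Helper13
  Groth.Agent.Lib.Helper13.Coind Groth.Agent.Lib.Helper13.FC
  Groth.Agent.Lib.Helper2.RGTors Groth.Agent.Lib.Helper2.TorsExt
  Groth.Agent.Lib.Helper7.DerivedComplete Groth.Agent.Lib.Helper7.DerivedCompleteMT
  Groth.Agent.Lib.Helper7.FComplete

attribute [local instance] HasDerivedCategory.standard

section General

variable {C : Type*} [Category C] [Abelian C] (G : C ⥤ C) [G.Additive]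
  [G.PreservesHomology] (τ : 𝟭 C ⟶ G) (S : ShortComplex C)

/-- The morphism `S ⟶ S.map G` induced by a natural transformation `𝟭 ⟶ G`. -/
@[simps]
def natTransSC : S ⟶ S.map G where
  τ₁ := τ.app S.X₁
  τ₂ := τ.app S.X₂
  τ₃ := τ.app S.X₃
  comm₁₂ := (τ.naturality S.f).symm
  comm₂₃ := (τ.naturality S.g).symm

/-- Homology of `natTransSC`. -/
lemma homologyMap_natTransSC :
    ShortComplex.homologyMap (natTransSC G τ S) ≫ (S.mapHomologyIso G).hom =
      τ.app S.homology := by
  let h := S.homologyData.left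
  let γ : ShortComplex.LeftHomologyMapData (natTransSC G τ S) h (h.map G) :=
    { φK := τ.app h.K
      φH := τ.app h.H
      commi := by
        simp only [ShortComplex.LeftHomologyData.map_i, natTransSC_τ₂]
        exact (τ.naturality h.i).symm
      commf' := by
        simp only [ShortComplex.LeftHomologyData.map_f', natTransSC_τ₁]
        exact τ.naturality h.f'
      commπ := by
        simp only [ShortComplex.LeftHomologyData.map_π]
        exact τ.naturality h.π }
  rw [γ.homologyMap_eq, h.mapHomologyIso_eq G]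
  have nat := τ.naturality h.homologyIso.inv
  simp only [Functor.id_map] at nat
  simp only [Iso.trans_hom, Functor.mapIso_hom, Iso.symm_hom, Category.assoc,
    Iso.inv_hom_id_assoc]
  change h.homologyIso.hom ≫ τ.app h.H ≫ G.map h.homologyIso.inv = τ.app S.homology
  rw [← nat, Iso.hom_inv_id_assoc]

end General

section Mod

variable {A : Type u} [CommRing A] (N : ModuleCat.{u} A) (g : 𝟙_ (ModuleCat.{u} A) ⟶ N)

/-- The natural transformation `x ↦ x ⊗ g(1)`. -/
noncomputable def tauN : 𝟭 (ModuleCat.{u} A) ⟶ tensorRight N :=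
  (rightUnitorNatIso (ModuleCat.{u} A)).inv ≫ (tensoringRight (ModuleCat.{u} A)).map g

lemma tauN_app_apply (M : ModuleCat.{u} A) (x : M) :
    ((tauN N g).app M).hom x = x ⊗ₜ[A] (g.hom (1 : A)) := by
  change ((M ◁ g).hom (((ρ_ M).inv).hom x)) = _
  rw [ModuleCat.MonoidalCategory.rightUnitor_inv_apply]
  exact ModuleCat.MonoidalCategory.whiskerLeft_apply M g x (1 : A)

/-- The chain map `E ⟶ E ⊗ N`, `x ↦ x ⊗ g(1)`. -/
noncomputable def jCx (E : DRing.Cx A) : E ⟶ (tensorCx N).obj E :=
  (tensorCxUnitIso E).inv ≫ tensorCxMap E g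

lemma jCx_f (E : DRing.Cx A) (n : ℤ) : (jCx N g E).f n = (tauN N g).app (E.X n) := by
  simp [jCx, tauN, tensorCxUnitIso]
  rfl

variable [Module.Flat A N]

lemma homologyMap_jCx (E : DRing.Cx A) (n : ℤ) :
    HomologicalComplex.homologyMap (jCx N g E) n ≫
      ((E.sc n).mapHomologyIso (tensorRight N)).hom = (tauN N g).app (E.homology n) := by
  have h := homologyMap_natTransSC (tensorRight N) (tauN N g) (E.sc n)
  have e : (HomologicalComplex.shortComplexFunctor (ModuleCat.{u} A) (ComplexShape.up ℤ) n).map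
      (jCx N g E) = natTransSC (tensorRight N) (tauN N g) (E.sc n) := by
    exact ShortComplex.hom_ext _ _ (jCx_f N g E _) (jCx_f N g E _) (jCx_f N g E _)
  change ShortComplex.homologyMap
    ((HomologicalComplex.shortComplexFunctor (ModuleCat.{u} A) (ComplexShape.up ℤ) n).map
      (jCx N g E)) ≫ _ = _
  rw [e]
  exact h

/-- **Homology of `E ⊗ N` for flat `N`**, compatibly with `x ↦ x ⊗ g(1)`. -/
theorem exists_homology_tensor_equiv (E : DRing.Cx A) (n : ℤ) :
    ∃ φ : ((tensorCx N).obj E).homology n ≃ₗ[A] TensorProduct A (E.homology n) N,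
      ∀ x : E.homology n,
        φ ((HomologicalComplex.homologyMap (jCx N g E) n).hom x) = x ⊗ₜ[A] (g.hom (1 : A)) := by
  let φ : ((tensorCx N).obj E).homology n ≃ₗ[A] TensorProduct A (E.homology n) N :=
    ((E.sc n).mapHomologyIso (tensorRight N)).toLinearEquiv
  refine ⟨φ, fun x => ?_⟩
  have h := homologyMap_jCx N g E n
  have h2 := congrArg (fun t => t.hom x) h
  exact h2.trans (tauN_app_apply N g _ x)

end Mod

section Arrow

variable {A : Type u} [CommRing A] (F : DRing.Cx A) {N N' : ModuleCat.{u} A} (g : N ⟶ N')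

/-- Naturality of `tensorSingleIso` in the module. -/
lemma tensorSingleIso_hom_naturality_right :
    tensorCxMap F g ≫ (tensorSingleIso F N').hom =
      (tensorSingleIso F N).hom ≫
        F ◁ (HomologicalComplex.single (ModuleCat.{u} A) (ComplexShape.up ℤ) 0).map g := by
  refine HomologicalComplex.hom_ext _ _ (fun p => ?_)
  change (F.X p ◁ g) ≫ Groth.Agent.Lib.Helper28.KFlatAbs.θ (curriedTensor (ModuleCat.{u} A))
      F N' 0 p p (add_zero p) =
    Groth.Agent.Lib.Helper28.KFlatAbs.θ (curriedTensor (ModuleCat.{u} A)) F N 0 p p (add_zero p) ≫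
      (F ◁ (HomologicalComplex.single (ModuleCat.{u} A) (ComplexShape.up ℤ) 0).map g).f p
  unfold Groth.Agent.Lib.Helper28.KFlatAbs.θ
  have h1 := ι_whiskerLeft_f' F
    ((HomologicalComplex.single (ModuleCat.{u} A) (ComplexShape.up ℤ) 0).map g) p 0 p (add_zero p)
  change (F.X p ◁ g) ≫ (F.X p ◁ _) ≫ ιTensorObj F _ p 0 p (add_zero p) =
    ((F.X p ◁ _) ≫ ιTensorObj F _ p 0 p (add_zero p)) ≫ _
  rw [Category.assoc, h1, ← Category.assoc, ← Category.assoc,
    ← MonoidalCategory.whiskerLeft_comp, ← MonoidalCategory.whiskerLeft_comp]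
  congr 2

/-- The comparison isomorphism `N[0] ⊗ F ≅ F ⊗ N` (termwise tensor). -/
noncomputable def singleTensorIso (N : ModuleCat.{u} A) :
    (HomologicalComplex.single (ModuleCat.{u} A) (ComplexShape.up ℤ) 0).obj N ⊗ F ≅
      (tensorCx N).obj F :=
  (DTen.braidCx F _).symm ≪≫ (tensorSingleIso F N).symm

lemma singleTensorIso_hom_naturality :
    (singleTensorIso F N).hom ≫ tensorCxMap F g =
      ((HomologicalComplex.single (ModuleCat.{u} A) (ComplexShape.up ℤ) 0).map g ▷ F) ≫
        (singleTensorIso F N').hom := by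
  have h1 := whiskerLeft_eq_braid F
    ((HomologicalComplex.single (ModuleCat.{u} A) (ComplexShape.up ℤ) 0).map g)
  have h2 := tensorSingleIso_hom_naturality_right F g
  have h3 : (tensorSingleIso F N).inv ≫ tensorCxMap F g =
      (F ◁ (HomologicalComplex.single (ModuleCat.{u} A) (ComplexShape.up ℤ) 0).map g) ≫
        (tensorSingleIso F N').inv := by
    rw [Iso.inv_comp_eq, ← Category.assoc, Iso.eq_comp_inv, h2]
  simp only [singleTensorIso, Iso.trans_hom, Iso.symm_hom, Category.assoc]
  rw [h3, h1]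
  simp only [Category.assoc, Iso.inv_hom_id_assoc]

end Arrow

end Groth.Agent.Lib.Helper13.LDC
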