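import Groth.Agent.Lib.Helper13.LDC11
import Groth.Agent.Lib.Helper7.FCompleteAdic
import Mathlib.RingTheory.AdicCompletion.AsTensorProduct
import Mathlib.RingTheory.AdicCompletion.Completeness

/-!
# The adic completion of a Noetherian ring is its derived completion
-/

set_option autoImplicit false
set_option maxHeartbeats 400000
set_option linter.style.haveILetI false
universe u
open CategoryTheory CategoryTheory.Limits MonoidalCategory Pretriangulated
open CochainComplex CochainComplex.HomComplex HomologicalComplex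
open scoped TensorProduct

namespace Groth.Agent.Lib.Helper13.LDC

open DTen Groth.Agent.Lib.Helper13.HT Groth.Agent.Lib.Helper13.SF Groth.Agent.Lib.Helper13.KP
  Groth.Agent.Lib.Helper13.DT Groth.Agent.Lib.Helper13.DV Groth.Agent.Lib.Helper13.DCN
  Groth.Agent.Lib.Helper13.DR Groth.Agent.Lib.Helper13.PC Groth.Agent.Lib.Helper13
  Groth.Agent.Lib.Helper13.Coind Groth.Agent.Lib.Helper13.FC
  Groth.Agent.Lib.Helper2.RGTors Groth.Agent.Lib.Helper2.TorsExt
  Groth.Agent.Lib.Helper7.DerivedComplete Groth.Agent.Lib.Helper7.DerivedCompleteMT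
  Groth.Agent.Lib.Helper7.FComplete

attribute [local instance] HasDerivedCategory.standard

variable {A : Type u} [CommRing A]

section ModLemmas

variable (I : Ideal A) (M : Type u) [AddCommGroup M] [Module A M]

lemma isAdicComplete_of_smul_eq_zero (h : ∀ a ∈ I, ∀ x : M, a • x = 0) : IsAdicComplete I M := by
  have hbot : (I ^ 1 • ⊤ : Submodule A M) = ⊥ := by
    rw [pow_one, eq_bot_iff]
    intro x hx
    refine Submodule.smul_induction_on hx (fun a ha y _ => ?_) (fun x y hx hy => ?_)
    · rw [h a ha y]; exact Submodule.zero_mem _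
    · exact Submodule.add_mem _ hx hy
  refine { haus' := fun x hx => ?_, prec' := fun f hf => ⟨f 1, fun n => ?_⟩ }
  · have := hx 1
    rw [hbot, SModEq.bot] at this
    exact this
  · rcases Nat.eq_zero_or_pos n with rfl | hn
    · rw [pow_zero, Ideal.one_eq_top, Submodule.top_smul]
      exact SModEq.top
    · have := hf (m := 1) (n := n) hn
      rw [hbot, SModEq.bot] at this
      rw [this]

variable [IsNoetherianRing A] [Module.Finite A M]

/-- `M ≅ M ⊗ Â` for finite modules killed by `I`. -/
lemma bijective_tmul_one_of_smul_eq_zero (h : ∀ a ∈ I, ∀ x : M, a • x = 0) :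
    Function.Bijective (fun x : M => x ⊗ₜ[A] (1 : AdicCompletion I A)) := by
  let e : M ⊗[A] AdicCompletion I A ≃ₗ[A] AdicCompletion I M :=
    (TensorProduct.comm A M (AdicCompletion I A)).trans
      ((AdicCompletion.ofTensorProductEquivOfFiniteNoetherian I M).restrictScalars A)
  have hcomp : IsAdicComplete I M := isAdicComplete_of_smul_eq_zero I M h
  have hb : Function.Bijective (AdicCompletion.of I M) := AdicCompletion.of_bijective I M
  have heq : (fun x : M => x ⊗ₜ[A] (1 : AdicCompletion I A)) = e.symm ∘ AdicCompletion.of I M := by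
    funext x
    apply e.injective
    simp only [Function.comp_apply, LinearEquiv.apply_symm_apply]
    change AdicCompletion.ofTensorProduct I M ((1 : AdicCompletion I A) ⊗ₜ[A] x) = _
    rw [AdicCompletion.ofTensorProduct_tmul, one_smul]
  rw [heq]
  exact e.symm.bijective.comp hb

end ModLemmas

section KF

variable [IsNoetherianRing A] (I : Ideal A)

/-- `Â` as an object of `ModuleCat A`. -/
noncomputable abbrev Nh : ModuleCat.{u} A := ModuleCat.of A (AdicCompletion I A)

/-- `A ⟶ Â`. -/
noncomputable abbrev gh : 𝟙_ (ModuleCat.{u} A) ⟶ Nh I := ModuleCat.ofHom (AdicCompletion.of I A)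

instance : Module.Flat A (Nh I) := AdicCompletion.flat_of_isNoetherian I

lemma gh_one : (gh I).hom (1 : A) = (1 : AdicCompletion I A) := rfl

/-- `E ⟶ E ⊗ Â` is a quasi-isomorphism when the cohomology of `E` is finite and killed by `I`. -/
theorem quasiIso_jCx_of_killed (E : DRing.Cx A) (hfin : ∀ n : ℤ, Module.Finite A (E.homology n))
    (hk : ∀ n : ℤ, ∀ a ∈ I, ∀ x : E.homology n, a • x = 0) :
    QuasiIso (jCx (Nh I) (gh I) E) := by
  rw [quasiIso_iff]
  intro n
  rw [quasiIsoAt_iff_isIso_homologyMap]
  have h := homologyMap_jCx (Nh I) (gh I) E n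
  have h1 : IsIso ((tauN (Nh I) (gh I)).app (E.homology n)) := by
    rw [ConcreteCategory.isIso_iff_bijective]
    have := hfin n
    have hb := bijective_tmul_one_of_smul_eq_zero I (E.homology n) (hk n)
    have heq : (fun x : E.homology n => x ⊗ₜ[A] (1 : AdicCompletion I A)) =
        ⇑(ConcreteCategory.hom ((tauN (Nh I) (gh I)).app (E.homology n))) := by
      funext x
      exact (tauN_app_apply (Nh I) (gh I) (E.homology n) x).symm
    rw [← heq]
    exact hb
  have h2 : IsIso (HomologicalComplex.homologyMap (jCx (Nh I) (gh I) E) n ≫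
      ((E.sc n).mapHomologyIso (tensorRight (Nh I))).hom) := by
    rw [h]; exact h1
  exact IsIso.of_isIso_comp_right _ ((E.sc n).mapHomologyIso (tensorRight (Nh I))).hom

end KF

section KFmain

variable [IsNoetherianRing A] (I : Ideal A)

/-- `A[0] ⟶ Â[0]` on complexes. -/
noncomputable abbrev sgh : 𝟙_ (DRing.Cx A) ⟶
    (HomologicalComplex.single (ModuleCat.{u} A) (ComplexShape.up ℤ) 0).obj (Nh I) :=
  (HomologicalComplex.single (ModuleCat.{u} A) (ComplexShape.up ℤ) 0).map (gh I)

theorem isDerivedComplete_Q_single_adic :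
    DRing.IsDerivedComplete I (DerivedCategory.Q.obj
      ((HomologicalComplex.single (ModuleCat.{u} A) (ComplexShape.up ℤ) 0).obj (Nh I))) := by
  have hI : I.FG := IsNoetherian.noetherian I
  have h : DRing.IsDerivedComplete I (Dual.inD A (AdicCompletion I A)) := by
    rw [isDerivedComplete_inD_iff]
    intro f hf
    have := AdicCompletion.isAdicComplete (I := I) (M := A) hI
    exact isFComplete_of_isAdicComplete hf (AdicCompletion I A)
  exact Groth.Agent.Lib.Helper7.DerivedComplete.of_iso I
    ((DerivedCategory.singleFunctorIsoCompQ (ModuleCat.{u} A) 0).app (Nh I)) h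

/-- Complexes whose cohomology is killed by `I` are derived complete. -/
lemma isDerivedComplete_of_homology_killed (X : Dual.D A)
    (hk : ∀ n : ℤ, ∀ a ∈ I, ∀ x : (Hi n).obj X, a • x = 0) : DRing.IsDerivedComplete I X := by
  rw [Groth.Agent.Lib.Helper7.DerivedCompleteMT.isDerivedComplete_iff]
  intro f hf n
  exact isFComplete_of_smul_eq_zero f _ (hk n f hf)

/-- The cohomology of a complex concentrated in degree `0` on a module killed by `I` is killed by
`I`. -/
lemma homology_single_killed (M : ModuleCat.{u} A) (hM : ∀ a ∈ I, ∀ x : M, a • x = 0) (n : ℤ)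
    (a : A) (ha : a ∈ I)
    (x : ((HomologicalComplex.single (ModuleCat.{u} A) (ComplexShape.up ℤ) 0).obj M).homology n) :
    a • x = 0 := by
  let Y := (HomologicalComplex.single (ModuleCat.{u} A) (ComplexShape.up ℤ) 0).obj M
  have h0 : a • 𝟙 M = 0 := by
    ext y
    exact hM a ha y
  have h1 : a • 𝟙 Y = 0 := by
    apply HomologicalComplex.from_single_hom_ext
    let e := HomologicalComplex.singleObjXSelf (ComplexShape.up ℤ) 0 M
    change a • 𝟙 (Y.X 0) = 0
    have : a • 𝟙 (Y.X 0) = e.hom ≫ (a • 𝟙 M) ≫ e.inv := by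
      rw [Linear.smul_comp, Linear.comp_smul, Category.id_comp, e.hom_inv_id]
    rw [this, h0, zero_comp, comp_zero]
  have h2 := homologyMap_smul_id_apply a Y n x
  rw [h1] at h2
  rw [← h2, HomologicalComplex.homologyMap_zero]
  rfl

lemma finite_homology_of_termwise (F : DRing.Cx A)
    (hfin : ∀ i : ℤ, Module.Finite A (F.X i)) (i : ℤ) : Module.Finite A (F.homology i) := by
  have h2 : Module.Finite A ((F.sc i).X₂) := hfin i
  have : IsNoetherian A ((F.sc i).X₂) := isNoetherian_of_isNoetherianRing_of_finite A _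
  have h3 : Module.Finite A
      (LinearMap.ker (F.sc i).g.hom ⧸ LinearMap.range (F.sc i).moduleCatToCycles) :=
    inferInstance
  exact @Module.Finite.equiv _ _ _ _ _ _ _ _ h3 (F.sc i).moduleCatHomologyIso.toLinearEquiv.symm

lemma quotient_smul_eq_zero (a : A) (ha : a ∈ I) (x : A ⧸ I) : a • x = 0 := by
  obtain ⟨y, rfl⟩ := Ideal.Quotient.mk_surjective x
  rw [Algebra.smul_def, Ideal.Quotient.algebraMap_eq, Ideal.Quotient.eq_zero_iff_mem.2 ha,
    zero_mul]

/-- **`Â[0]` is the derived completion of `A[0]`.** -/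
theorem isUniv_Q_map_sgh [DRing.HasDerivedCompletion I] :
    IsUniv I (DerivedCategory.Q.map (sgh I)) := by
  classical
  have hI : I.FG := IsNoetherian.noetherian I
  let K : Dual.D A := DerivedCategory.Q.obj (𝟙_ (DRing.Cx A))
  have hZ := isDerivedComplete_Q_single_adic I
  obtain ⟨c, hc⟩ := (isUniv_toDerivedCompletion I K _ hZ).2 (DerivedCategory.Q.map (sgh I))
  dsimp only at hc
  -- a resolution of `A/I`
  have hpc : DRing.IsPseudoCoherentModule' A (A ⧸ I) :=
    (isPseudoCoherentModule'_iff_of_isNoetherianRing (A ⧸ I)).2 inferInstance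
  obtain ⟨Fr, cF, hFc, hFf, ⟨eF⟩⟩ := hpc
  have hFrP : Fr.IsKProjective := isKProjective_of_vanishesAbove Fr cF hFc hFf
  have hFr : KFlat Fr := isKFlat_of_isKProjective Fr
  let MI : ModuleCat.{u} A := ModuleCat.of A (A ⧸ I)
  have hMI : ∀ a ∈ I, ∀ x : MI, a • x = 0 := fun a ha x => quotient_smul_eq_zero I a ha x
  obtain ⟨π, hπ⟩ := KP.exists_Q_map_eq
    (eF.hom ≫ ((DerivedCategory.singleFunctorIsoCompQ (ModuleCat.{u} A) 0).app MI).hom)
  have hπq : QuasiIso π := by
    rw [← DerivedCategory.isIso_Q_map_iff_quasiIso, hπ]; infer_instance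
  have hkFr : ∀ n : ℤ, ∀ a ∈ I, ∀ x : Fr.homology n, a • x = 0 := by
    intro n a ha x
    have hiso : IsIso (HomologicalComplex.homologyMap π n) := inferInstance
    have hinj : Function.Injective (HomologicalComplex.homologyMap π n).hom :=
      ((ConcreteCategory.isIso_iff_bijective _).1 hiso).1
    apply hinj
    rw [map_smul, map_zero]
    exact homology_single_killed I MI hMI n a ha _
  have hfinFr : ∀ n : ℤ, Module.Finite A (Fr.homology n) :=
    finite_homology_of_termwise Fr (fun i => (hFf i).1)
  -- `Ψ(η)` is an isomorphism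
  have hcompI : DRing.IsDerivedComplete I (Dual.inD A (A ⧸ I)) := by
    rw [isDerivedComplete_inD_iff]
    intro f hf
    exact isFComplete_of_smul_eq_zero f (A ⧸ I) (fun x => quotient_smul_eq_zero I f hf x)
  have hη : IsIso ((Psi Fr hFr).map (DRing.toDerivedCompletion I K)) := by
    refine (isUniv_Psi_map I hI Fr hFr K).isIso ?_ ?_
    · have h1 : DRing.IsDerivedComplete I (DerivedCategory.Q.obj Fr) :=
        Groth.Agent.Lib.Helper7.DerivedComplete.of_iso I eF.symm hcompI
      exact Groth.Agent.Lib.Helper7.DerivedComplete.of_iso I (PsiUnitIso Fr hFr).symm h1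
    · exact isDerivedComplete_Psi_completion I Fr hFr cF hFc hFf K 0 (fun i hi =>
        ModuleCat.subsingleton_of_isZero (bdd_unit i (Or.inr hi)))
  -- `Ψ(Q sgh)` is an isomorphism
  have hs : IsIso ((Psi Fr hFr).map (DerivedCategory.Q.map (sgh I))) := by
    rw [Psi_map_Q_map]
    have q0 : QuasiIso (jCx (Nh I) (gh I) Fr) := quasiIso_jCx_of_killed I Fr hfinFr hkFr
    have q1 : QuasiIso (tensorCxMap Fr (gh I)) := by
      have : tensorCxMap Fr (gh I) = (tensorCxUnitIso Fr).hom ≫ jCx (Nh I) (gh I) Fr := by
        rw [jCx, Iso.hom_inv_id_assoc]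
      rw [this]; infer_instance
    have q : QuasiIso (sgh I ▷ Fr) := by
      have h1 := singleTensorIso_hom_naturality Fr (gh I)
      have : sgh I ▷ Fr = (singleTensorIso Fr _).hom ≫ tensorCxMap Fr (gh I) ≫
          (singleTensorIso Fr (Nh I)).inv := by
        rw [← Category.assoc, h1, Category.assoc, Iso.hom_inv_id, Category.comp_id]
      rw [this]; infer_instance
    have : IsIso (DerivedCategory.Q.map (sgh I ▷ Fr)) := by
      rw [DerivedCategory.isIso_Q_map_iff_quasiIso]; exact q
    infer_instance
  have hcΨ : IsIso ((Psi Fr hFr).map c) := by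
    have : (Psi Fr hFr).map (DRing.toDerivedCompletion I K) ≫ (Psi Fr hFr).map c =
        (Psi Fr hFr).map (DerivedCategory.Q.map (sgh I)) := by
      rw [← Functor.map_comp, hc]
    exact IsIso.of_isIso_fac_left this
  have hciso : IsIso c := @isIso_of_isIso_Psi_map _ _ I hI Fr hFr π hπq _ _ c
    ((DRing.derivedCompletion I).obj K).property hZ hcΨ
  refine IsUniv.of_sq (Iso.refl _) (asIso c).symm ?_ (isUniv_toDerivedCompletion I K)
  change 𝟙 _ ≫ DRing.toDerivedCompletion I K = DerivedCategory.Q.map (sgh I) ≫ inv c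
  rw [Category.id_comp, ← hc, Category.assoc, IsIso.hom_inv_id, Category.comp_id]

end KFmain

end Groth.Agent.Lib.Helper13.LDC
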