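import Groth.Agent.Lib.Helper13.LDC1
import Groth.Agent.Lib.Helper13.DCNak4
import Groth.Agent.Lib.Helper13.DRingDescent
import Groth.Agent.Lib.Helper13.DRingTensorSES
import Groth.Agent.Lib.Helper2.RGTors.GM2
import Groth.Agent.Lib.Helper7.DerivedComplete

/-!
# `Hom•(P, J)` is derived complete for torsion `P`
-/

set_option autoImplicit false
set_option maxHeartbeats 400000
set_option linter.style.haveILetI false
universe u
open CategoryTheory CategoryTheory.Limits MonoidalCategory Pretriangulated
open CochainComplex CochainComplex.HomComplex HomologicalComplex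

namespace Groth.Agent.Lib.Helper13.LDC

open DTen Groth.Agent.Lib.Helper13.HT Groth.Agent.Lib.Helper13.SF Groth.Agent.Lib.Helper13.KP
  Groth.Agent.Lib.Helper13.DT Groth.Agent.Lib.Helper13.DV Groth.Agent.Lib.Helper13.DCN
  Groth.Agent.Lib.Helper13.DR Groth.Agent.Lib.Helper13.PC Groth.Agent.Lib.Helper13
  Groth.Agent.Lib.Helper13.Coind
  Groth.Agent.Lib.Helper2.RGTors Groth.Agent.Lib.Helper2.TorsExt
  Groth.Agent.Lib.Helper7.DerivedComplete

attribute [local instance] HasDerivedCategory.standard

variable {A : Type u} [CommRing A]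

/-- `P ⊗ A_f` is acyclic when `P` has `f`-power torsion cohomology. -/
lemma exactAt_tensorCx_away (P : DRing.Cx A) (f : A)
    (hP : ∀ i : ℤ, FTors f (P.homology i)) (m : ℤ) :
    ((tensorCx (ModuleCat.of A (Localization.Away f))).obj P).ExactAt m := by
  rw [exactAt_tensorCx_iff_exactAt_extendCx A (Localization.Away f) P m,
    HomologicalComplex.exactAt_iff_isZero_homology]
  refine IsZero.of_iso ?_ (extendCxHomologyIso A (Localization.Away f) P m)
  have hsub : Subsingleton (TensorProduct A (Localization.Away f) (P.homology m)) :=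
    subsingleton_tensor_of_FTors f (hP m)
  have : Subsingleton ((ModuleCat.extendScalars.{u, u, u}
      (algebraMap A (Localization.Away f))).obj (P.homology m)) :=
    (extendScalarsEquiv (Localization.Away f) _).toEquiv.subsingleton
  exact ModuleCat.isZero_of_subsingleton _

/-- No maps from `A_f[-a]` to `Hom•(P, J)` in `D(A)`, for `f`-torsion K-projective `P` and
K-injective `J`. -/
lemma subsingleton_hom_single_away (P J : DRing.Cx A) [P.IsKProjective] [J.IsKInjective] (f : A)
    (hP : ∀ i : ℤ, FTors f (P.homology i)) (a : ℤ) :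
    Subsingleton (DerivedCategory.Q.obj
      ((HomologicalComplex.single (ModuleCat.{u} A) (ComplexShape.up ℤ) a).obj
        (ModuleCat.of A (Localization.Away f))) ⟶ DerivedCategory.Q.obj (DRing.homCx P J)) := by
  let T : DRing.Cx A := (HomologicalComplex.single (ModuleCat.{u} A) (ComplexShape.up ℤ) a).obj
    (ModuleCat.of A (Localization.Away f))
  have hs : IsIso (DerivedCategory.Q.map (resMap T)) := by
    rw [DerivedCategory.isIso_Q_map_iff_quasiIso]; infer_instance
  have hac : (res T ⊗ P).Acyclic := by
    intro n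
    have hq : QuasiIso (resMap T ▷ P) :=
      quasiIso_whiskerRight_of_kflat P (isKFlat_of_isKProjective P) (resMap T)
    rw [HomologicalComplex.exactAt_iff_isZero_homology,
      isZero_homology_of_quasiIso (resMap T ▷ P) n]
    refine IsZero.of_iso ?_ ((HomologicalComplex.homologyFunctor _ _ n).mapIso (braidCx T P))
    change IsZero ((P ⊗ T).homology n)
    rw [← HomologicalComplex.exactAt_iff_isZero_homology]
    exact exactAt_tensor_single P _ a n (exactAt_tensorCx_away P f hP (n - a))
  have key : ∀ φ : DerivedCategory.Q.obj (res T) ⟶ DerivedCategory.Q.obj (DRing.homCx P J),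
      φ = 0 := by
    intro φ
    obtain ⟨u, rfl⟩ := KP.exists_Q_map_eq φ
    obtain ⟨H⟩ := CochainComplex.IsKInjective.nonempty_homotopy_zero (uncurryHom u) hac
    have H' : Homotopy (uncurryHom u) (uncurryHom (0 : res T ⟶ DRing.homCx P J)) := by
      rw [uncurryHom_zero]; exact H
    obtain ⟨H''⟩ := nonempty_homotopy_of_uncurryHom H'
    rw [KP.Q_map_eq_of_homotopy H'', Functor.map_zero]
  constructor
  intro φ ψ
  have h1 := key (DerivedCategory.Q.map (resMap T) ≫ φ)
  have h2 := key (DerivedCategory.Q.map (resMap T) ≫ ψ)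
  rw [← cancel_epi (DerivedCategory.Q.map (resMap T)), h1, h2]

/-- Transfer of power torsion along a linear equivalence. -/
lemma isPowerTorsion_of_linearEquiv (I : Ideal A) {M N : Type*} [AddCommGroup M] [Module A M]
    [AddCommGroup N] [Module A N] (e : M ≃ₗ[A] N) (h : LocCoh.IsPowerTorsion I M) :
    LocCoh.IsPowerTorsion I N := by
  intro y
  obtain ⟨n, hn⟩ := h (e.symm y)
  refine ⟨n, fun a ha => ?_⟩
  have := congrArg e (hn a ha)
  rwa [map_smul, LinearEquiv.apply_symm_apply, map_zero] at this

lemma PT_Q_iff (I : Ideal A) (Z : DRing.Cx A) :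
    PT I (DerivedCategory.Q.obj Z) ↔ ∀ i : ℤ, LocCoh.IsPowerTorsion I (Z.homology i) := by
  constructor
  · intro h i
    exact isPowerTorsion_of_linearEquiv I
      ((DerivedCategory.homologyFunctorFactors (ModuleCat.{u} A) i).app Z).toLinearEquiv (h i)
  · intro h i
    exact isPowerTorsion_of_linearEquiv I
      ((DerivedCategory.homologyFunctorFactors (ModuleCat.{u} A) i).app Z).symm.toLinearEquiv (h i)

lemma PT_of_iso (I : Ideal A) {K L : Dual.D A} (e : K ≅ L) (h : PT I K) : PT I L := fun i =>
  isPowerTorsion_of_linearEquiv I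
    ((DerivedCategory.homologyFunctor (ModuleCat.{u} A) i).mapIso e).toLinearEquiv (h i)

/-- **`Hom•(P, J)` is derived complete** when `P` is K-projective with `I`-power torsion
cohomology and `J` is K-injective. -/
theorem isDerivedComplete_homCx (I : Ideal A) (P J : DRing.Cx A) [P.IsKProjective]
    [J.IsKInjective] (hP : PT I (DerivedCategory.Q.obj P)) :
    DRing.IsDerivedComplete I (DerivedCategory.Q.obj (DRing.homCx P J)) := by
  intro f hf n
  have hP' : ∀ i : ℤ, FTors f (P.homology i) := fun i =>
    FTors_of_powerTorsion _ I hf ((PT_Q_iff I P).1 hP i)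
  have h1 := subsingleton_hom_single_away P J f hP' n
  let M := ModuleCat.of A (Localization.Away f)
  let e1 : ((DerivedCategory.singleFunctor (ModuleCat.{u} A) 0).obj M)⟦-n⟧ ≅
      DerivedCategory.Q.obj ((HomologicalComplex.single (ModuleCat.{u} A) (ComplexShape.up ℤ) n).obj M) :=
    ((DerivedCategory.singleFunctors (ModuleCat.{u} A)).shiftIso (-n) n 0 (by omega)).app M ≪≫
      (DerivedCategory.singleFunctorIsoCompQ (ModuleCat.{u} A) n).app M
  have h2 : Subsingleton (((DerivedCategory.singleFunctor (ModuleCat.{u} A) 0).obj M)⟦-n⟧ ⟶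
      DerivedCategory.Q.obj (DRing.homCx P J)) :=
    (Iso.homCongr e1 (Iso.refl _)).subsingleton_congr.2 h1
  exact ((shiftEquiv (Dual.D A) n).symm.toAdjunction.homEquiv _ _).subsingleton_congr.1 h2

end Groth.Agent.Lib.Helper13.LDC
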