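import Groth.Agent.Lib.Helper13.LDC2
import Groth.Agent.Lib.Helper13.HomBC6
import Groth.Agent.Lib.Helper13.DRingTor2

/-!
# `Hom•(P, -)` for torsion `P` only sees the torsion part; `RΓ_I` of `Hom•(-, J)`
-/

set_option autoImplicit false
set_option maxHeartbeats 400000
set_option linter.style.haveILetI false
universe u
open CategoryTheory CategoryTheory.Limits MonoidalCategory Pretriangulated
open CochainComplex CochainComplex.HomComplex HomologicalComplex

namespace Groth.Agent.Lib.Helper13.LDC

open DTen Groth.Agent.Lib.Helper13.HT Groth.Agent.Lib.Helper13.SF Groth.Agent.Lib.Helper13.KP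
  Groth.Agent.Lib.Helper13.DT Groth.Agent.Lib.Helper13.DV Groth.Agent.Lib.Helper13.DCN
  Groth.Agent.Lib.Helper13.DR Groth.Agent.Lib.Helper13.PC Groth.Agent.Lib.Helper13
  Groth.Agent.Lib.Helper13.Coind Groth.Agent.Lib.Helper13.FC
  Groth.Agent.Lib.Helper2.RGTors Groth.Agent.Lib.Helper2.TorsExt
  Groth.Agent.Lib.Helper7.DerivedComplete Groth.Agent.Lib.Helper28.KFlatAbs

attribute [local instance] HasDerivedCategory.standard

variable {A : Type u} [CommRing A]

/-- The homology of `P ⊗ N[-a]`. -/
noncomputable def homologyTensorSingleIso (P : DRing.Cx A) (N : ModuleCat.{u} A) (a n : ℤ) :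
    ((tensorCx N).obj P).homology (n - a) ≅
      (P ⊗ (HomologicalComplex.single (ModuleCat.{u} A) (ComplexShape.up ℤ) a).obj N).homology n := by
  have i1 : IsIso (θ (curriedTensor (ModuleCat.{u} A)) P N a (n - a - 1) (n - 1) (by omega)) :=
    inferInstance
  have i2 : IsIso (θ (curriedTensor (ModuleCat.{u} A)) P N a (n - a) n (by omega)) :=
    inferInstance
  have i3 : IsIso (θ (curriedTensor (ModuleCat.{u} A)) P N a (n - a + 1) (n + 1) (by omega)) :=
    inferInstance
  let e : ((tensorCx N).obj P).sc' (n - a - 1) (n - a) (n - a + 1) ≅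
      (P ⊗ (HomologicalComplex.single (ModuleCat.{u} A) (ComplexShape.up ℤ) a).obj N).sc'
        (n - 1) n (n + 1) :=
    ShortComplex.isoMk (@asIso _ _ _ _ _ i1) (@asIso _ _ _ _ _ i2) (@asIso _ _ _ _ _ i3)
      (θ_d (curriedTensor (ModuleCat.{u} A)) P N a (n - a - 1) (n - 1) (n - a) n (by omega)
        (by omega) (by omega))
      (θ_d (curriedTensor (ModuleCat.{u} A)) P N a (n - a) n (n - a + 1) (n + 1) (by omega)
        (by omega) (by omega))
  exact HomologicalComplex.homologyIsoSc' _ (n - a - 1) (n - a) (n - a + 1) (by simp) (by simp) ≪≫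
    ShortComplex.homologyMapIso e ≪≫
    (HomologicalComplex.homologyIsoSc' _ (n - 1) n (n + 1) (by simp) (by simp)).symm

/-- Tensoring with `A[-j]` preserves torsion cohomology. -/
lemma PT_single_tensor (I : Ideal A) (P : DRing.Cx A) (hP : PT I (DerivedCategory.Q.obj P))
    (j : ℤ) :
    PT I (DerivedCategory.Q.obj
      ((HomologicalComplex.single (ModuleCat.{u} A) (ComplexShape.up ℤ) j).obj (ModuleCat.of A A) ⊗
        P)) := by
  rw [PT_Q_iff] at hP ⊢
  intro n
  let e : P.homology (n - j) ≅
      ((HomologicalComplex.single (ModuleCat.{u} A) (ComplexShape.up ℤ) j).obj (ModuleCat.of A A) ⊗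
        P).homology n :=
    (HomologicalComplex.homologyFunctor _ _ (n - j)).mapIso (tensorCxUnitIso P).symm ≪≫
      homologyTensorSingleIso P (ModuleCat.of A A) j n ≪≫
      (HomologicalComplex.homologyFunctor _ _ n).mapIso (braidCx _ P).symm
  exact isPowerTorsion_of_linearEquiv I e.toLinearEquiv (hP (n - j))

/-- **`Hom•(P, -)` for torsion `P` inverts maps which are bijective on maps from torsion
objects.** -/
theorem isIso_Q_map_homCxMap_of_PT (I : Ideal A) (P : DRing.Cx A) [P.IsKProjective]
    (hP : PT I (DerivedCategory.Q.obj P)) {L L' : DRing.Cx A} (v : L ⟶ L')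
    (hv : ∀ T : Dual.D A, PT I T →
      Function.Bijective (fun θ : T ⟶ DerivedCategory.Q.obj L => θ ≫ DerivedCategory.Q.map v)) :
    IsIso (DerivedCategory.Q.map (DRing.homCxMap P v)) := by
  apply HomBC.isIso_of_bijective_comp _
    (fun j => DerivedCategory.Q.obj
      ((HomologicalComplex.single (ModuleCat.{u} A) (ComplexShape.up ℤ) j).obj (ModuleCat.of A A)))
    (fun j => (DerivedCategory.singleFunctorIsoCompQ (ModuleCat.{u} A) j).app (ModuleCat.of A A))
  intro j
  exact bijective_comp_homCxMap P _ v (hv _ (PT_single_tensor I P hP j))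

lemma bijective_comp_of_iso_left {C : Type*} [Category C] {T T' X Y : C} (e : T ≅ T') (a : X ⟶ Y)
    (h : Function.Bijective (fun α : T' ⟶ X => α ≫ a)) :
    Function.Bijective (fun α : T ⟶ X => α ≫ a) := by
  constructor
  · intro α α' hα
    have := h.1 (a₁ := e.inv ≫ α) (a₂ := e.inv ≫ α') (by
      change (e.inv ≫ α) ≫ a = (e.inv ≫ α') ≫ a
      rw [Category.assoc, Category.assoc]; exact congrArg (e.inv ≫ ·) hα)
    exact (cancel_epi e.inv).1 this
  · intro β
    obtain ⟨α, hα⟩ := h.2 (e.inv ≫ β)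
    refine ⟨e.hom ≫ α, ?_⟩
    change (e.hom ≫ α) ≫ a = β
    rw [Category.assoc]
    have : α ≫ a = e.inv ≫ β := hα
    rw [this, Iso.hom_inv_id_assoc]

variable [IsNoetherianRing A]

/-- **`RΓ_I` of `Hom•(g, J)`** is an isomorphism as soon as `g` induces bijections on maps into
derived complete objects. -/
theorem isIso_RgammaI_map_preMap (I : Ideal A) [DRing.HasRgammaI I] {P' P'' : DRing.Cx A}
    [P'.IsKProjective] [P''.IsKProjective] (g : P'' ⟶ P') (J : DRing.Cx A) [J.IsKInjective]
    (hg : ∀ M : Dual.D A, DRing.IsDerivedComplete I M →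
      Function.Bijective (fun w : DerivedCategory.Q.obj P' ⟶ M => DerivedCategory.Q.map g ≫ w)) :
    IsIso ((DRing.RgammaI I).map (DerivedCategory.Q.map (preMap g J))) := by
  apply Groth.Agent.Lib.Helper2.RGTors.isIso_of_bijective_comp _ (PT I) (PT_RgammaI I _)
    (PT_RgammaI I _)
  intro T hT
  obtain ⟨PT', hPT', -, ⟨eT⟩⟩ := exists_kprojective_rep T
  have hPTt : PT I (DerivedCategory.Q.obj PT') := PT_of_iso I eT.symm hT
  have hM := isDerivedComplete_homCx I PT' J hPTt
  have hb := bijective_comp_preMap (P := PT') g J (hg _ hM)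
  have hb' : Function.Bijective (fun α : T ⟶ DerivedCategory.Q.obj (DRing.homCx P' J) =>
      α ≫ DerivedCategory.Q.map (preMap g J)) := bijective_comp_of_iso_left eT.symm _ hb
  have hε1 := bijective_comp_ε I T (DerivedCategory.Q.obj (DRing.homCx P' J)) hT
  have hε2 := bijective_comp_ε I T (DerivedCategory.Q.obj (DRing.homCx P'' J)) hT
  have hn := (DRing.RgammaIε I).naturality (DerivedCategory.Q.map (preMap g J))
  have hcomp : (fun β : T ⟶ (DRing.RgammaI I).obj (DerivedCategory.Q.obj (DRing.homCx P'' J)) =>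
        β ≫ (DRing.RgammaIε I).app _) ∘
      (fun α : T ⟶ (DRing.RgammaI I).obj (DerivedCategory.Q.obj (DRing.homCx P' J)) =>
        α ≫ (DRing.RgammaI I).map (DerivedCategory.Q.map (preMap g J))) =
      (fun α : T ⟶ DerivedCategory.Q.obj (DRing.homCx P' J) =>
        α ≫ DerivedCategory.Q.map (preMap g J)) ∘
        (fun α : T ⟶ (DRing.RgammaI I).obj (DerivedCategory.Q.obj (DRing.homCx P' J)) =>
          α ≫ (DRing.RgammaIε I).app _) := by
    funext α
    simp only [Function.comp_apply, Category.assoc]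
    rw [hn]
    rfl
  have h3 : Function.Bijective
      ((fun β : T ⟶ (DRing.RgammaI I).obj (DerivedCategory.Q.obj (DRing.homCx P'' J)) =>
        β ≫ (DRing.RgammaIε I).app _) ∘
      (fun α : T ⟶ (DRing.RgammaI I).obj (DerivedCategory.Q.obj (DRing.homCx P' J)) =>
        α ≫ (DRing.RgammaI I).map (DerivedCategory.Q.map (preMap g J)))) := by
    rw [hcomp]
    exact hb'.comp hε1
  exact (Function.Bijective.of_comp_iff' hε2 _).1 h3

end Groth.Agent.Lib.Helper13.LDC
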