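import Groth.Agent.Lib.Helper13.LDC3
import Groth.Agent.Lib.Helper13.BiDual2
import Groth.Agent.Lib.Helper13.PCInj

/-!
# `RHom(K, ω)^∧ ≅ RHom(RΓ_I K, RΓ_I ω)`
-/

set_option autoImplicit false
set_option maxHeartbeats 400000
set_option linter.style.haveILetI false
universe u
open CategoryTheory CategoryTheory.Limits MonoidalCategory Pretriangulated
open CochainComplex CochainComplex.HomComplex HomologicalComplex

namespace Groth.Agent.Lib.Helper13.LDC

open DTen Groth.Agent.Lib.Helper13.HT Groth.Agent.Lib.Helper13.SF Groth.Agent.Lib.Helper13.KP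
  Groth.Agent.Lib.Helper13.DT Groth.Agent.Lib.Helper13.DV Groth.Agent.Lib.Helper13.DCN
  Groth.Agent.Lib.Helper13.DR Groth.Agent.Lib.Helper13.PC Groth.Agent.Lib.Helper13
  Groth.Agent.Lib.Helper13.Coind Groth.Agent.Lib.Helper13.FC Groth.Agent.Lib.Helper13.BD
  Groth.Agent.Lib.Helper2.RGTors Groth.Agent.Lib.Helper2.TorsExt
  Groth.Agent.Lib.Helper7.DerivedComplete

attribute [local instance] HasDerivedCategory.standard

variable {A : Type u} [CommRing A] [IsNoetherianRing A]

/-- **Derived completion of `RHom(K, ω)`**: `RHom(K, ω)^∧ ≅ RHom(RΓ_I K, RΓ_I ω)`, in the form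
where `G` represents `RΓ_I K` and `E'` is `RΓ_I ω`. -/
theorem nonempty_completion_RHomCx_iso (I : Ideal A) [DRing.HasRgammaI I]
    [DRing.HasDerivedCompletion I] (ω E' : Dual.D A) (eΓ : (DRing.RgammaI I).obj ω ≅ E')
    (K : DRing.Cx A) [DRing.HasRHomCx K] (G : DRing.Cx A) [DRing.HasRHomCx G]
    (hG : DRing.toD G ≅ (DRing.RgammaI I).obj (DRing.toD K)) :
    Nonempty (((DRing.derivedCompletion I).obj ((DRing.RHomCx K).obj ω)).obj ≅
      (DRing.RHomCx G).obj E') := by
  obtain ⟨J, hJ, eJ, -⟩ := exists_res ω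
  obtain ⟨E0, hE0, eE, -⟩ := exists_res E'
  -- the chain map `v : E0 ⟶ J`
  obtain ⟨v, hv0⟩ := PC.exists_Q_map_eq_of_isKInjective (K := E0) (L := J)
    ((eE.inv ≫ eΓ.inv) ≫ (DRing.RgammaIε I).app ω ≫ eJ.hom)
  have hv : ∀ T : Dual.D A, PT I T →
      Function.Bijective (fun θ : T ⟶ DerivedCategory.Q.obj E0 => θ ≫ DerivedCategory.Q.map v) := by
    intro T hT
    rw [hv0]
    exact bijective_comp_of_iso _ _ _ (bijective_comp_ε I T ω hT)
  -- the chain map `g : res G ⟶ res K`
  have hsK : IsIso (DerivedCategory.Q.map (resMap K)) := by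
    rw [DerivedCategory.isIso_Q_map_iff_quasiIso]; infer_instance
  have hsG : IsIso (DerivedCategory.Q.map (resMap G)) := by
    rw [DerivedCategory.isIso_Q_map_iff_quasiIso]; infer_instance
  obtain ⟨g, hg0⟩ := KP.exists_Q_map_eq (K := res G) (L := res K)
    ((DerivedCategory.Q.map (resMap G) ≫ hG.hom) ≫ (DRing.RgammaIε I).app (DRing.toD K) ≫
      inv (DerivedCategory.Q.map (resMap K)))
  have hg : ∀ M : Dual.D A, DRing.IsDerivedComplete I M →
      Function.Bijective (fun w : DerivedCategory.Q.obj (res K) ⟶ M =>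
        DerivedCategory.Q.map g ≫ w) := by
    intro M hM
    rw [hg0]
    exact bijective_precomp_of_iso _ _ _ (bijective_precomp_ε I (DRing.toD K) M hM)
  have hPG : PT I (DerivedCategory.Q.obj (res G)) :=
    PT_of_iso I (hG.symm ≪≫ (asIso (DerivedCategory.Q.map (resMap G))).symm) (PT_RgammaI I _)
  -- models
  obtain ⟨eX0⟩ := nonempty_RHomCx_iso_homCx_of_iso K (res K)
    (asIso (DerivedCategory.Q.map (resMap K))).symm J
  obtain ⟨eY0⟩ := nonempty_RHomCx_iso_homCx_of_iso G (res G)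
    (asIso (DerivedCategory.Q.map (resMap G))).symm E0
  let eX : (DRing.RHomCx K).obj ω ≅ DerivedCategory.Q.obj (DRing.homCx (res K) J) :=
    (DRing.RHomCx K).mapIso eJ ≪≫ eX0
  let eY : (DRing.RHomCx G).obj E' ≅ DerivedCategory.Q.obj (DRing.homCx (res G) E0) :=
    (DRing.RHomCx G).mapIso eE ≪≫ eY0
  have hb : IsIso (DerivedCategory.Q.map (DRing.homCxMap (res G) v)) :=
    isIso_Q_map_homCxMap_of_PT I (res G) hPG v hv
  have hW : DRing.IsDerivedComplete I (DerivedCategory.Q.obj (DRing.homCx (res G) J)) :=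
    isDerivedComplete_homCx I (res G) J hPG
  have ha : IsIso ((DRing.RgammaI I).map (DerivedCategory.Q.map (preMap g J))) :=
    isIso_RgammaI_map_preMap I g J hg
  obtain ⟨c1⟩ := nonempty_completion_RgammaI_iso I (DerivedCategory.Q.obj (DRing.homCx (res K) J))
  obtain ⟨c2⟩ := nonempty_completion_RgammaI_iso I (DerivedCategory.Q.obj (DRing.homCx (res G) J))
  let Wc : DRing.DComp I := ⟨DerivedCategory.Q.obj (DRing.homCx (res G) J), hW⟩
  have hcounit : IsIso ((DRing.derivedCompletionAdj I).counit.app Wc) := inferInstance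
  let c3 : (DRing.derivedCompletion I).obj (DerivedCategory.Q.obj (DRing.homCx (res G) J)) ≅ Wc :=
    asIso ((DRing.derivedCompletionAdj I).counit.app Wc)
  let big : (DRing.derivedCompletion I).obj ((DRing.RHomCx K).obj ω) ≅ Wc :=
    (DRing.derivedCompletion I).mapIso eX ≪≫ c1.symm ≪≫
      (DRing.derivedCompletion I).mapIso
        (asIso ((DRing.RgammaI I).map (DerivedCategory.Q.map (preMap g J)))) ≪≫ c2 ≪≫ c3
  exact ⟨(ObjectProperty.ι (DRing.IsDerivedComplete I)).mapIso big ≪≫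
    (asIso (DerivedCategory.Q.map (DRing.homCxMap (res G) v))).symm ≪≫ eY.symm⟩

end Groth.Agent.Lib.Helper13.LDC
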