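import Groth.Agent.Lib.Helper13.LDC6
import Groth.Agent.Lib.Helper13.LTensorCxV
import Groth.Agent.Lib.Helper13.RelDual1

/-!
# Derived completion and derived tensor products: the universal property
-/

set_option autoImplicit false
set_option maxHeartbeats 400000
set_option linter.style.haveILetI false
universe u
open CategoryTheory CategoryTheory.Limits MonoidalCategory Pretriangulated
open CochainComplex CochainComplex.HomComplex HomologicalComplex

namespace Groth.Agent.Lib.Helper13.LDC

open DTen Groth.Agent.Lib.Helper13.HT Groth.Agent.Lib.Helper13.SF Groth.Agent.Lib.Helper13.KP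
  Groth.Agent.Lib.Helper13.DT Groth.Agent.Lib.Helper13.DV Groth.Agent.Lib.Helper13.DCN
  Groth.Agent.Lib.Helper13.DR Groth.Agent.Lib.Helper13.PC Groth.Agent.Lib.Helper13
  Groth.Agent.Lib.Helper13.Coind Groth.Agent.Lib.Helper13.FC
  Groth.Agent.Lib.Helper2.RGTors Groth.Agent.Lib.Helper2.TorsExt
  Groth.Agent.Lib.Helper7.DerivedComplete

attribute [local instance] HasDerivedCategory.standard

variable {A : Type u} [CommRing A]

/-- **Transfer along the tensor-Hom adjunction.** -/
theorem bijective_precomp_whiskerRight {X' X'' F : DRing.Cx A} [X'.IsKProjective]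
    [X''.IsKProjective] [F.IsKProjective] (g : X' ⟶ X'') (L : DRing.Cx A)
    (h : Function.Bijective (fun w : DerivedCategory.Q.obj X'' ⟶
        DerivedCategory.Q.obj (DRing.homCx F L) => DerivedCategory.Q.map g ≫ w)) :
    Function.Bijective (fun θ : DerivedCategory.Q.obj (X'' ⊗ F) ⟶ DerivedCategory.Q.obj L =>
      DerivedCategory.Q.map (g ▷ F) ≫ θ) := by
  have h1 : CochainComplex.IsKProjective (X' ⊗ F) := isKProjective_tensor X' F
  have h2 : CochainComplex.IsKProjective (X'' ⊗ F) := isKProjective_tensor X'' F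
  have key : ∀ v : X'' ⊗ F ⟶ L, (g ▷ F) ≫ v = uncurryHom (g ≫ curryHom v) := by
    intro v
    rw [uncurryHom_comp, uncurryHom_curryHom]
  constructor
  · intro θ θ' hθ
    dsimp only at hθ
    obtain ⟨v, rfl⟩ := KP.exists_Q_map_eq θ
    obtain ⟨v', rfl⟩ := KP.exists_Q_map_eq θ'
    rw [← Functor.map_comp, ← Functor.map_comp, key, key] at hθ
    obtain ⟨H⟩ := KP.nonempty_homotopy_of_Q_map_eq hθ
    obtain ⟨H'⟩ := nonempty_homotopy_of_uncurryHom H
    have h3 := KP.Q_map_eq_of_homotopy H'
    rw [Functor.map_comp, Functor.map_comp] at h3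
    have h4 := h.1 h3
    have h5 := Q_map_uncurryHom_eq (KP.nonempty_homotopy_of_Q_map_eq h4)
    rwa [uncurryHom_curryHom, uncurryHom_curryHom] at h5
  · intro ψ
    obtain ⟨v, rfl⟩ := KP.exists_Q_map_eq ψ
    obtain ⟨w, hw⟩ := h.2 (DerivedCategory.Q.map (curryHom v))
    dsimp only at hw
    obtain ⟨w', rfl⟩ := KP.exists_Q_map_eq w
    refine ⟨DerivedCategory.Q.map (uncurryHom w'), ?_⟩
    dsimp only
    rw [← Functor.map_comp] at hw ⊢
    rw [← uncurryHom_comp]
    have h5 := Q_map_uncurryHom_eq (KP.nonempty_homotopy_of_Q_map_eq hw)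
    rwa [uncurryHom_curryHom] at h5

section Completion

variable (I : Ideal A) [DRing.HasDerivedCompletion I]

/-- The universal property of the completion map. -/
theorem bijective_precomp_toDerivedCompletion (K Z : Dual.D A)
    (hZ : DRing.IsDerivedComplete I Z) :
    Function.Bijective (fun ψ : ((DRing.derivedCompletion I).obj K).obj ⟶ Z =>
      DRing.toDerivedCompletion I K ≫ ψ) := by
  let Z' : DRing.DComp I := ⟨Z, hZ⟩
  let eq := (DRing.derivedCompletionAdj I).homEquiv K Z'
  have hfun : (fun ψ : ((DRing.derivedCompletion I).obj K).obj ⟶ Z =>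
      DRing.toDerivedCompletion I K ≫ ψ) =
      fun ψ => eq (ObjectProperty.homMk ψ : (DRing.derivedCompletion I).obj K ⟶ Z') := by
    funext ψ
    rw [Adjunction.homEquiv_unit]
    rfl
  rw [hfun]
  constructor
  · intro ψ ψ' hψ
    have := eq.injective hψ
    exact congrArg (fun m => (ObjectProperty.ι (DRing.IsDerivedComplete I)).map m) this
  · intro γ
    refine ⟨(eq.symm γ).hom, ?_⟩
    exact eq.apply_symm_apply γ

/-- A derived complete object is its own derived completion. -/
theorem exists_iso_derivedCompletion_self (Z : Dual.D A) (hZ : DRing.IsDerivedComplete I Z) :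
    Nonempty (Z ≅ ((DRing.derivedCompletion I).obj Z).obj) := by
  obtain ⟨e, -⟩ := exists_iso_derivedCompletion_compat I Z Z (𝟙 Z) hZ (fun C₀ _ => by
    have : (fun g : Z ⟶ C₀ => 𝟙 Z ≫ g) = id := by funext g; simp
    rw [this]; exact Function.bijective_id)
  exact ⟨e⟩

/-- `Hom•(F, J)` is derived complete when `J` is K-injective and derived complete. -/
theorem isDerivedComplete_homCx_of_complete (hI : I.FG) (F J : DRing.Cx A) [J.IsKInjective]
    (hJ : DRing.IsDerivedComplete I (DerivedCategory.Q.obj J)) :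
    DRing.IsDerivedComplete I (DerivedCategory.Q.obj (DRing.homCx F J)) := by
  have hF : DRing.HasRHomCx F := RelDual.hasRHomCx A F
  have h1 := (derivedCompletion_RHomCx I hI F (DerivedCategory.Q.obj J)).1
  obtain ⟨e⟩ := exists_iso_derivedCompletion_self I _ hJ
  have hν : IsIso (((DRing.homCxQ F).totalRightDerivedUnit DerivedCategory.Q
      (HomologicalComplex.quasiIso (ModuleCat.{u} A) (ComplexShape.up ℤ))).app J) :=
    isIso_RHomCx_unit_app F J
  exact Groth.Agent.Lib.Helper7.DerivedComplete.of_iso I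
    ((DRing.RHomCx F).mapIso e.symm ≪≫ (asIso (((DRing.homCxQ F).totalRightDerivedUnit
      DerivedCategory.Q (HomologicalComplex.quasiIso (ModuleCat.{u} A)
        (ComplexShape.up ℤ))).app J)).symm) h1

/-- K-projective models. -/
lemma exists_kproj_model (K : Dual.D A) :
    ∃ (P : DRing.Cx A) (_ : P.IsKProjective), Nonempty (K ≅ DerivedCategory.Q.obj P) := by
  let K₀ := DerivedCategory.Q.objPreimage K
  have h : IsIso (DerivedCategory.Q.map (resMap K₀)) := by
    rw [DerivedCategory.isIso_Q_map_iff_quasiIso]; infer_instance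
  exact ⟨res K₀, inferInstance,
    ⟨(DerivedCategory.Q.objObjPreimageIso K).symm ≪≫
      (asIso (DerivedCategory.Q.map (resMap K₀))).symm⟩⟩

/-- **Universal property of `K ⊗ F ⟶ K^ ⊗ F`** for K-projective `F`. -/
theorem bijective_precomp_LTensorCx_map (hI : I.FG) (F : DRing.Cx A) [F.IsKProjective]
    [DRing.HasLTensorCx A F] (K E : Dual.D A) (hE : DRing.IsDerivedComplete I E) :
    Function.Bijective
      (fun φ : (DRing.LTensorCx A F).obj ((DRing.derivedCompletion I).obj K).obj ⟶ E =>
        (DRing.LTensorCx A F).map (DRing.toDerivedCompletion I K) ≫ φ) := by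
  obtain ⟨K', hK', ⟨eK⟩⟩ := exists_kproj_model K
  obtain ⟨C', hC', ⟨eC⟩⟩ := exists_kproj_model ((DRing.derivedCompletion I).obj K).obj
  obtain ⟨J, hJ, eJ, -⟩ := exists_res E
  obtain ⟨g, hg⟩ := KP.exists_Q_map_eq (eK.inv ≫ DRing.toDerivedCompletion I K ≫ eC.hom)
  -- reduce to `Q (g ▷ F)`
  let a : (DRing.LTensorCx A F).obj K ≅ DerivedCategory.Q.obj (K' ⊗ F) :=
    (DRing.LTensorCx A F).mapIso eK ≪≫ LTensorCxIso F K'
  let b : (DRing.LTensorCx A F).obj ((DRing.derivedCompletion I).obj K).obj ≅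
      DerivedCategory.Q.obj (C' ⊗ F) :=
    (DRing.LTensorCx A F).mapIso eC ≪≫ LTensorCxIso F C'
  refine bijective_precomp_of_sq _ (DerivedCategory.Q.map (g ▷ F)) a b ?_ E ?_
  · have nat := (LTensorCxCounit F).naturality g
    change ((DRing.LTensorCx A F).map eK.hom ≫ (LTensorCxCounit F).app K') ≫
        DerivedCategory.Q.map (g ▷ F) =
      (DRing.LTensorCx A F).map (DRing.toDerivedCompletion I K) ≫
        (DRing.LTensorCx A F).map eC.hom ≫ (LTensorCxCounit F).app C'
    have nat' : (DRing.LTensorCx A F).map (DerivedCategory.Q.map g) ≫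
        (LTensorCxCounit F).app C' =
        (LTensorCxCounit F).app K' ≫ DerivedCategory.Q.map (g ▷ F) := nat
    rw [Category.assoc, ← nat', hg, ← Category.assoc, ← Functor.map_comp,
      Iso.hom_inv_id_assoc, Functor.map_comp, Category.assoc]
  -- transfer the target
  have hcomp : DRing.IsDerivedComplete I (DerivedCategory.Q.obj (DRing.homCx F J)) :=
    isDerivedComplete_homCx_of_complete I hI F J
      (Groth.Agent.Lib.Helper7.DerivedComplete.of_iso I eJ hE)
  have hu := bijective_precomp_toDerivedCompletion I K _ hcomp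
  have hw : Function.Bijective (fun w : DerivedCategory.Q.obj C' ⟶
      DerivedCategory.Q.obj (DRing.homCx F J) => DerivedCategory.Q.map g ≫ w) := by
    refine bijective_precomp_of_sq _ (DRing.toDerivedCompletion I K) eK.symm eC.symm ?_ _ hu
    change eK.inv ≫ DRing.toDerivedCompletion I K = DerivedCategory.Q.map g ≫ eC.inv
    rw [hg]
    simp
  have hT := bijective_precomp_whiskerRight g J hw
  have hpost : Function.Bijective (fun θ : DerivedCategory.Q.obj (C' ⊗ F) ⟶
      DerivedCategory.Q.obj J => θ ≫ eJ.inv) :=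
    ⟨fun α α' h => (cancel_mono eJ.inv).1 h, fun γ => ⟨γ ≫ eJ.hom, by simp⟩⟩
  have hpost' : Function.Bijective (fun θ : DerivedCategory.Q.obj (K' ⊗ F) ⟶ E =>
      θ ≫ eJ.hom) :=
    ⟨fun α α' h => (cancel_mono eJ.hom).1 h, fun γ => ⟨γ ≫ eJ.inv, by simp⟩⟩
  have hfun : (fun θ : DerivedCategory.Q.obj (C' ⊗ F) ⟶ E =>
      DerivedCategory.Q.map (g ▷ F) ≫ θ) =
      (fun θ : DerivedCategory.Q.obj (K' ⊗ F) ⟶ DerivedCategory.Q.obj J => θ ≫ eJ.inv) ∘
      (fun θ : DerivedCategory.Q.obj (C' ⊗ F) ⟶ DerivedCategory.Q.obj J =>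
        DerivedCategory.Q.map (g ▷ F) ≫ θ) ∘
      (fun θ : DerivedCategory.Q.obj (C' ⊗ F) ⟶ E => θ ≫ eJ.hom) := by
    funext θ
    simp
  rw [hfun]
  have hpost'' : Function.Bijective (fun θ : DerivedCategory.Q.obj (K' ⊗ F) ⟶
      DerivedCategory.Q.obj J => θ ≫ eJ.inv) :=
    ⟨fun α α' h => (cancel_mono eJ.inv).1 h, fun γ => ⟨γ ≫ eJ.hom, by simp⟩⟩
  have hpre : Function.Bijective (fun θ : DerivedCategory.Q.obj (C' ⊗ F) ⟶ E =>
      θ ≫ eJ.hom) :=
    ⟨fun α α' h => (cancel_mono eJ.hom).1 h, fun γ => ⟨γ ≫ eJ.inv, by simp⟩⟩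
  exact hpost''.comp (hT.comp hpre)

end Completion

end Groth.Agent.Lib.Helper13.LDC
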