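import Groth.Agent.Lib.Helper13.LDC7
import Groth.Agent.Lib.Helper13.DCNak4
import Groth.Agent.Lib.Helper13.WayOut3
import Groth.Agent.Lib.Helper13.DTenDev3

/-!
# Derived completeness of `X ⊗ F` for `F` pseudo-coherent, `X` complete and bounded above
-/

set_option autoImplicit false
set_option maxHeartbeats 400000
set_option linter.style.haveILetI false
universe u
open CategoryTheory CategoryTheory.Limits MonoidalCategory Pretriangulated
open CochainComplex CochainComplex.HomComplex HomologicalComplex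

namespace Groth.Agent.Lib.Helper13.LDC

open DTen Groth.Agent.Lib.Helper13.HT Groth.Agent.Lib.Helper13.SF Groth.Agent.Lib.Helper13.KP
  Groth.Agent.Lib.Helper13.DT Groth.Agent.Lib.Helper13.DV Groth.Agent.Lib.Helper13.DCN
  Groth.Agent.Lib.Helper13.DR Groth.Agent.Lib.Helper13.PC Groth.Agent.Lib.Helper13
  Groth.Agent.Lib.Helper13.Coind Groth.Agent.Lib.Helper13.FC
  Groth.Agent.Lib.Helper2.RGTors Groth.Agent.Lib.Helper2.TorsExt
  Groth.Agent.Lib.Helper7.DerivedComplete Groth.Agent.Lib.Helper7.DerivedCompleteMT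
  Groth.Agent.Lib.Helper7.FComplete

attribute [local instance] HasDerivedCategory.standard

variable {A : Type u} [CommRing A]

/-- Derived completeness passes to retracts. -/
lemma isDerivedComplete_of_retract (I : Ideal A) {Z Z' : Dual.D A} (i : Z ⟶ Z') (p : Z' ⟶ Z)
    (hip : i ≫ p = 𝟙 Z) (h : DRing.IsDerivedComplete I Z') : DRing.IsDerivedComplete I Z := by
  intro f hf n
  have h' := h f hf n
  refine ⟨fun a b => ?_⟩
  have e : ∀ c : Dual.inD A (Localization.Away f) ⟶ Z⟦n⟧,
      c = (c ≫ (CategoryTheory.shiftFunctor (Dual.D A) n).map i) ≫ (CategoryTheory.shiftFunctor (Dual.D A) n).map p := by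
    intro c
    rw [Category.assoc, ← Functor.map_comp, hip, CategoryTheory.Functor.map_id, Category.comp_id]
  rw [e a, e b, Subsingleton.elim (a ≫ (CategoryTheory.shiftFunctor (Dual.D A) n).map i)
    (b ≫ (CategoryTheory.shiftFunctor (Dual.D A) n).map i)]

section Perfect

variable (I : Ideal A) (X' : DRing.Cx A) (hX' : KFlat X')

/-- `H^k(A[-j] ⊗ X') ≅ H^{k-j}(X')`. -/
noncomputable def homologySingleTensorIso (j k : ℤ) :
    X'.homology (k - j) ≅
      ((HomologicalComplex.single (ModuleCat.{u} A) (ComplexShape.up ℤ) j).obj (ModuleCat.of A A) ⊗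
        X').homology k :=
  (HomologicalComplex.homologyFunctor _ _ (k - j)).mapIso (tensorCxUnitIso X').symm ≪≫
    homologyTensorSingleIso X' (ModuleCat.of A A) j k ≪≫
    (HomologicalComplex.homologyFunctor _ _ k).mapIso (braidCx _ X').symm

include hX' in
/-- `Ψ(A[n])` is derived complete when `X` is. -/
lemma isDerivedComplete_Psi_single (hX : DRing.IsDerivedComplete I (DerivedCategory.Q.obj X'))
    (n : ℤ) :
    DRing.IsDerivedComplete I ((Psi X' hX').obj
      (((DerivedCategory.singleFunctor (ModuleCat.{u} A) 0).obj (ModuleCat.of A A))⟦n⟧)) := by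
  let U : DRing.Cx A :=
    (HomologicalComplex.single (ModuleCat.{u} A) (ComplexShape.up ℤ) (-n)).obj (ModuleCat.of A A)
  let e0 : ((DerivedCategory.singleFunctor (ModuleCat.{u} A) 0).obj (ModuleCat.of A A))⟦n⟧ ≅
      DerivedCategory.Q.obj U :=
    ((DerivedCategory.singleFunctors (ModuleCat.{u} A)).shiftIso n (-n) 0 (by omega)).app _ ≪≫
      (DerivedCategory.singleFunctorIsoCompQ (ModuleCat.{u} A) (-n)).app _
  refine Groth.Agent.Lib.Helper7.DerivedComplete.of_iso I ((Psi X' hX').mapIso e0.symm) ?_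
  rw [Groth.Agent.Lib.Helper7.DerivedCompleteMT.isDerivedComplete_iff] at hX ⊢
  intro f hf k
  have h1 : IsFComplete f (X'.homology (k - -n)) :=
    (hX f hf (k - -n)).of_linearEquiv
      ((DerivedCategory.homologyFunctorFactors (ModuleCat.{u} A) (k - -n)).app X').toLinearEquiv
  have h2 : IsFComplete f ((U ⊗ X').homology k) :=
    h1.of_linearEquiv (homologySingleTensorIso X' (-n) k).toLinearEquiv
  exact h2.of_linearEquiv (HiPsiQIso X' hX' U k).toLinearEquiv.symm

include hX' in
/-- `Ψ(Y) = Y ⊗ X` is derived complete for perfect `Y` and complete `X`. -/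
theorem isDerivedComplete_Psi_of_isPerfect
    (hX : DRing.IsDerivedComplete I (DerivedCategory.Q.obj X')) (Y : Dual.D A)
    (hY : DRing.IsPerfect A Y) : DRing.IsDerivedComplete I ((Psi X' hX').obj Y) := by
  let W : ObjectProperty (DerivedCategory (ModuleCat.{u} A)) :=
    fun K => ∀ n : ℤ, DRing.IsDerivedComplete I ((Psi X' hX').obj (K⟦n⟧))
  have hW : W.IsClosedUnderIsomorphisms := ⟨fun {Y Y'} e hY n =>
    Groth.Agent.Lib.Helper7.DerivedComplete.of_iso I
      ((Psi X' hX').mapIso ((CategoryTheory.shiftFunctor (Dual.D A) n).mapIso e)) (hY n)⟩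
  have hshift : ∀ (K : DerivedCategory (ModuleCat.{u} A)) (n : ℤ), W K →
      W ((CategoryTheory.shiftFunctor (DerivedCategory (ModuleCat.{u} A)) n).obj K) := by
    intro K n hK m
    exact Groth.Agent.Lib.Helper7.DerivedComplete.of_iso I
      ((Psi X' hX').mapIso ((shiftFunctorAdd (DerivedCategory (ModuleCat.{u} A)) n m).app K))
      (hK (n + m))
  have key : W Y := by
    refine Groth.Agent.Lib.Helper13.DR.prop_of_isPerfect_of_thick W
      (fun n => isDerivedComplete_Psi_single I X' hX' hX n) hshift ?_ ?_ Y hY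
    · intro T₀ hT₀ h₁ h₃ n
      let T' := (Triangle.shiftFunctor (Dual.D A) n).obj T₀
      have hT' : T' ∈ distTriang (Dual.D A) := Triangle.shift_distinguished T₀ hT₀ n
      obtain ⟨T₁, hT₁, e₁, e₂, e₃, -, -⟩ := weakTri_Psi X' hX' T' hT'
      have c₁ : DRing.IsDerivedComplete I T₁.obj₁ :=
        Groth.Agent.Lib.Helper7.DerivedComplete.of_iso I e₁.symm (h₁ n)
      have c₃ : DRing.IsDerivedComplete I T₁.obj₃ :=
        Groth.Agent.Lib.Helper7.DerivedComplete.of_iso I e₃.symm (h₃ n)
      exact Groth.Agent.Lib.Helper7.DerivedComplete.of_iso I e₂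
        (Groth.Agent.Lib.Helper7.DerivedComplete.of_distTriang₂ I T₁ hT₁ c₁ c₃)
    · intro Y₁ Y₂ _ h12 n
      exact isDerivedComplete_of_retract I
        ((Psi X' hX').map ((CategoryTheory.shiftFunctor (Dual.D A) n).map (biprod.inl : Y₁ ⟶ Y₁ ⊞ Y₂)))
        ((Psi X' hX').map ((CategoryTheory.shiftFunctor (Dual.D A) n).map (biprod.fst : Y₁ ⊞ Y₂ ⟶ Y₁)))
        (by rw [← Functor.map_comp, ← Functor.map_comp, biprod.inl_fst,
          CategoryTheory.Functor.map_id, CategoryTheory.Functor.map_id]) (h12 n)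
  exact Groth.Agent.Lib.Helper7.DerivedComplete.of_iso I
    ((Psi X' hX').mapIso ((shiftFunctorZero (DerivedCategory (ModuleCat.{u} A)) ℤ).app Y)) (key 0)

end Perfect

section WayOut

variable (I : Ideal A) (X' : DRing.Cx A) (hX' : KFlat X')

include hX' in
/-- Cohomological bound for `G ⊗ X'`. -/
lemma isZero_Hi_Psi_of_bounds (b : ℤ) [hb : (DerivedCategory.Q.obj X').IsLE b] (G : DRing.Cx A)
    [G.IsKProjective] (m : ℤ) (hG : ∀ q : ℤ, m ≤ q → IsZero (G.X q)) (k : ℤ) (hk : m + b ≤ k) :
    IsZero ((Hi k).obj ((Psi X' hX').obj (DerivedCategory.Q.obj G))) := by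
  obtain ⟨X'', hX'', ⟨e⟩⟩ := DerivedCategory.exists_iso_Q_obj_of_isLE (DerivedCategory.Q.obj X') b
  obtain ⟨e2⟩ := nonempty_iso_Q_tensor_of_iso_right G (isKFlat_of_isKProjective G) X' X'' e
  have hz : IsZero ((G ⊗ X'').X k) := by
    apply isZero_tensor_X
    intro p q hpq
    by_cases hp : m ≤ p
    · exact Or.inl (hG p hp)
    · exact Or.inr (X''.isZero_of_isStrictlyLE b q (by omega))
  have h1 := isZero_homology_Q_obj (G ⊗ X'') k hz
  have h2 : IsZero ((Hi k).obj (DerivedCategory.Q.obj (G ⊗ X'))) :=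
    h1.of_iso ((Hi k).mapIso e2)
  exact h2.of_iso ((Hi k).mapIso ((psiIso X' hX').app G))

include hX' in
/-- **`F ⊗ X` is derived complete** for `F` a bounded above complex of finite free modules and `X`
derived complete and bounded above. -/
theorem isDerivedComplete_Psi_of_pseudoCoherent
    (hX : DRing.IsDerivedComplete I (DerivedCategory.Q.obj X')) (b : ℤ)
    [hb : (DerivedCategory.Q.obj X').IsLE b] (F : DRing.Cx A) (c : ℤ)
    (hFc : DRing.VanishesAbove F c) (hFf : DRing.TermwiseFiniteFree F) :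
    DRing.IsDerivedComplete I ((Psi X' hX').obj (DerivedCategory.Q.obj F)) := by
  rw [Groth.Agent.Lib.Helper7.DerivedCompleteMT.isDerivedComplete_iff]
  intro f hf i
  let m : ℤ := i - 1 - b
  let S := truncShortComplex F m
  have hS : S.ShortExact := shortExact_truncShortComplex F m
  have hT₀ := DerivedCategory.triangleOfSES_distinguished hS
  have hK3 : S.X₃.IsKProjective := isKProjective_truncShortComplex_X₃ F hFf m
  have hvan : ∀ k : ℤ, m + b ≤ k →
      IsZero ((Hi k).obj ((Psi X' hX').obj (DerivedCategory.Q.obj S.X₃))) := fun k hk =>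
    isZero_Hi_Psi_of_bounds X' hX' b S.X₃ m (fun q hq => isZero_truncShortComplex_X₃_X F m q hq)
      k hk
  have hiso : IsIso ((Hi i).map ((Psi X' hX').map (DerivedCategory.Q.map S.f))) :=
    (weakTri_Psi X' hX').isIso_homologyMap_map_mor₁ (DerivedCategory.triangleOfSES hS) hT₀ i
      (i - 1) (by omega) (hvan (i - 1) (by omega)) (hvan i (by omega))
  have hperf := isDerivedComplete_Psi_of_isPerfect I X' hX' hX _
    (isPerfect_truncShortComplex_X₁ F c hFc hFf m)
  rw [Groth.Agent.Lib.Helper7.DerivedCompleteMT.isDerivedComplete_iff] at hperf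
  exact (hperf f hf i).of_linearEquiv
    (asIso ((Hi i).map ((Psi X' hX').map (DerivedCategory.Q.map S.f)))).toLinearEquiv

end WayOut

section Final

/-- **Derived completion commutes with `- ⊗^L F` for pseudo-coherent `F` on bounded above
objects.** -/
theorem derivedCompletion_LTensorCx_pseudoCoherent [IsNoetherianRing A] (I : Ideal A)
    [DRing.HasDerivedCompletion I] (F : DRing.Cx A) (c : ℤ) (hFc : DRing.VanishesAbove F c)
    (hFf : DRing.TermwiseFiniteFree F) [DRing.HasLTensorCx A F]
    (K : Dual.D A) (b : ℤ) (hK : ∀ i : ℤ, b < i → Subsingleton (Dual.HD A K i)) :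
    DRing.IsDerivedComplete I
        ((DRing.LTensorCx A F).obj ((DRing.derivedCompletion I).obj K).obj) ∧
      ∀ E : Dual.D A, DRing.IsDerivedComplete I E →
        Function.Bijective
          (fun φ : (DRing.LTensorCx A F).obj ((DRing.derivedCompletion I).obj K).obj ⟶ E =>
            (DRing.LTensorCx A F).map (DRing.toDerivedCompletion I K) ≫ φ) := by
  classical
  have hI : I.FG := IsNoetherian.noetherian I
  have hFproj : F.IsKProjective := isKProjective_of_vanishesAbove F c hFc hFf
  refine ⟨?_, fun E hE => bijective_precomp_LTensorCx_map I hI F K E hE⟩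
  obtain ⟨s, hs⟩ := hI
  let X : Dual.D A := ((DRing.derivedCompletion I).obj K).obj
  obtain ⟨X', hX'proj, ⟨eX⟩⟩ := exists_kproj_model X
  have hX'fl : KFlat X' := isKFlat_of_isKProjective X'
  have hcomp : DRing.IsDerivedComplete I (DerivedCategory.Q.obj X') :=
    Groth.Agent.Lib.Helper7.DerivedComplete.of_iso I eX ((DRing.derivedCompletion I).obj K).property
  have hle : (DerivedCategory.Q.obj X').IsLE b := by
    rw [DerivedCategory.isLE_iff]
    intro i hi
    have h1 : IsZero ((Hh i).obj X) := by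
      apply isZero_homology_derivedCompletion I s hs K i
      intro j hj _
      have := hK j (by omega)
      exact ModuleCat.isZero_of_subsingleton _
    exact h1.of_iso ((Hi i).mapIso eX.symm)
  have hA := isDerivedComplete_Psi_of_pseudoCoherent I X' hX'fl hcomp b F c hFc hFf
  exact Groth.Agent.Lib.Helper7.DerivedComplete.of_iso I
    (((psiIso X' hX'fl).app F) ≪≫ DerivedCategory.Q.mapIso (braidCx F X') ≪≫
      (LTensorCxIso F X').symm ≪≫ ((DRing.LTensorCx A F).mapIso eX).symm) hA

end Final

end Groth.Agent.Lib.Helper13.LDC
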