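import Groth.Agent.Lib.Helper13.LDC8
import Groth.Agent.Lib.Helper13.DRingLDerived

/-!
# Derived completion and `- ⊗^L M` for a finite module
-/

set_option autoImplicit false
set_option maxHeartbeats 400000
set_option linter.style.haveILetI false
universe u
open CategoryTheory CategoryTheory.Limits MonoidalCategory Pretriangulated
open CochainComplex CochainComplex.HomComplex HomologicalComplex

namespace Groth.Agent.Lib.Helper13.LDC

open DTen Groth.Agent.Lib.Helper13.HT Groth.Agent.Lib.Helper13.SF Groth.Agent.Lib.Helper13.KP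
  Groth.Agent.Lib.Helper13.DT Groth.Agent.Lib.Helper13.DV Groth.Agent.Lib.Helper13.DCN
  Groth.Agent.Lib.Helper13.DR Groth.Agent.Lib.Helper13.PC Groth.Agent.Lib.Helper13
  Groth.Agent.Lib.Helper13.Coind Groth.Agent.Lib.Helper13.FC
  Groth.Agent.Lib.Helper2.RGTors Groth.Agent.Lib.Helper2.TorsExt
  Groth.Agent.Lib.Helper7.DerivedComplete Groth.Agent.Lib.Helper7.DerivedCompleteMT
  Groth.Agent.Lib.Helper7.FComplete

attribute [local instance] HasDerivedCategory.standard

variable {A : Type u} [CommRing A]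

section NatDerived

open DerivedCategory

variable {B : Type u} [CommRing B]
  (Φ : ModuleCat.{u} A ⥤ ModuleCat.{u} B) [Φ.Additive]
  [(Φ.mapHomotopyCategory (ComplexShape.up ℤ) ⋙ Qh).HasLeftDerivedFunctor
    (HomotopyCategory.quasiIso (ModuleCat.{u} A) (ComplexShape.up ℤ))]

/-- Naturality of `totalLeftDerivedIso`. -/
lemma totalLeftDerivedIso_hom_naturality {P P' : DRing.Cx A} [P.IsKProjective]
    [P'.IsKProjective] (g : P ⟶ P') :
    ((Φ.mapHomotopyCategory (ComplexShape.up ℤ) ⋙ Qh).totalLeftDerived Qh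
      (HomotopyCategory.quasiIso (ModuleCat.{u} A) (ComplexShape.up ℤ))).map (Q.map g) ≫
        (totalLeftDerivedIso Φ P').hom =
      (totalLeftDerivedIso Φ P).hom ≫
        Q.map ((Φ.mapHomologicalComplex (ComplexShape.up ℤ)).map g) := by
  let LΦ := (Φ.mapHomotopyCategory (ComplexShape.up ℤ) ⋙ Qh).totalLeftDerived Qh
      (HomotopyCategory.quasiIso (ModuleCat.{u} A) (ComplexShape.up ℤ))
  let α := (Φ.mapHomotopyCategory (ComplexShape.up ℤ) ⋙ Qh).totalLeftDerivedCounit Qh
      (HomotopyCategory.quasiIso (ModuleCat.{u} A) (ComplexShape.up ℤ))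
  have n1 : Q.map g ≫ (quotientCompQhIso (ModuleCat.{u} A)).inv.app P' =
      (quotientCompQhIso (ModuleCat.{u} A)).inv.app P ≫
        Qh.map ((HomotopyCategory.quotient _ _).map g) :=
    (quotientCompQhIso (ModuleCat.{u} A)).inv.naturality g
  have n2 : LΦ.map (Qh.map ((HomotopyCategory.quotient _ _).map g)) ≫
      α.app ((HomotopyCategory.quotient _ _).obj P') =
      α.app ((HomotopyCategory.quotient _ _).obj P) ≫
        Qh.map ((Φ.mapHomotopyCategory (ComplexShape.up ℤ)).map
          ((HomotopyCategory.quotient _ _).map g)) :=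
    α.naturality ((HomotopyCategory.quotient _ _).map g)
  have n3 : (Φ.mapHomotopyCategory (ComplexShape.up ℤ)).map
        ((HomotopyCategory.quotient _ _).map g) ≫
      (Φ.mapHomotopyCategoryFactors (ComplexShape.up ℤ)).hom.app P' =
      (Φ.mapHomotopyCategoryFactors (ComplexShape.up ℤ)).hom.app P ≫
        (HomotopyCategory.quotient _ _).map
          ((Φ.mapHomologicalComplex (ComplexShape.up ℤ)).map g) :=
    (Φ.mapHomotopyCategoryFactors (ComplexShape.up ℤ)).hom.naturality g
  have n4 : Qh.map ((HomotopyCategory.quotient _ _).map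
        ((Φ.mapHomologicalComplex (ComplexShape.up ℤ)).map g)) ≫
      (quotientCompQhIso (ModuleCat.{u} B)).hom.app _ =
      (quotientCompQhIso (ModuleCat.{u} B)).hom.app _ ≫
        Q.map ((Φ.mapHomologicalComplex (ComplexShape.up ℤ)).map g) :=
    (quotientCompQhIso (ModuleCat.{u} B)).hom.naturality
      ((Φ.mapHomologicalComplex (ComplexShape.up ℤ)).map g)
  change LΦ.map (Q.map g) ≫ (LΦ.map ((quotientCompQhIso (ModuleCat.{u} A)).inv.app P') ≫
      α.app ((HomotopyCategory.quotient _ _).obj P') ≫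
      Qh.map ((Φ.mapHomotopyCategoryFactors (ComplexShape.up ℤ)).hom.app P') ≫
      (quotientCompQhIso (ModuleCat.{u} B)).hom.app _) =
    (LΦ.map ((quotientCompQhIso (ModuleCat.{u} A)).inv.app P) ≫
      α.app ((HomotopyCategory.quotient _ _).obj P) ≫
      Qh.map ((Φ.mapHomotopyCategoryFactors (ComplexShape.up ℤ)).hom.app P) ≫
      (quotientCompQhIso (ModuleCat.{u} B)).hom.app _) ≫
      Q.map ((Φ.mapHomologicalComplex (ComplexShape.up ℤ)).map g)
  rw [← Category.assoc, ← Functor.map_comp, n1, Functor.map_comp, Category.assoc,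
    reassoc_of% n2, ← Functor.map_comp_assoc, n3, Functor.map_comp_assoc, n4]
  simp only [Category.assoc]

end NatDerived

section NatSingle

/-- Naturality of `tensorSingleIso`. -/
lemma tensorSingleIso_hom_naturality {X X' : DRing.Cx A} (g : X ⟶ X') (N : ModuleCat.{u} A) :
    (tensorCx N).map g ≫ (tensorSingleIso X' N).hom =
      (tensorSingleIso X N).hom ≫
        (g ▷ (HomologicalComplex.single (ModuleCat.{u} A) (ComplexShape.up ℤ) 0).obj N) := by
  refine HomologicalComplex.hom_ext _ _ (fun p => ?_)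
  change (g.f p ▷ N) ≫ Groth.Agent.Lib.Helper28.KFlatAbs.θ (curriedTensor (ModuleCat.{u} A))
      X' N 0 p p (add_zero p) =
    Groth.Agent.Lib.Helper28.KFlatAbs.θ (curriedTensor (ModuleCat.{u} A)) X N 0 p p (add_zero p) ≫
      (g ▷ (HomologicalComplex.single (ModuleCat.{u} A) (ComplexShape.up ℤ) 0).obj N).f p
  unfold Groth.Agent.Lib.Helper28.KFlatAbs.θ
  have h1 := ι_whiskerRight_f g
    ((HomologicalComplex.single (ModuleCat.{u} A) (ComplexShape.up ℤ) 0).obj N) p 0 p (add_zero p)
  change (g.f p ▷ N) ≫ (X'.X p ◁ _) ≫ ιTensorObj X' _ p 0 p (add_zero p) =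
    ((X.X p ◁ _) ≫ ιTensorObj X _ p 0 p (add_zero p)) ≫ _
  rw [Category.assoc, h1, ← Category.assoc, ← Category.assoc, whisker_exchange]

end NatSingle

section Core

variable (I : Ideal A) [DRing.HasDerivedCompletion I]

/-- The chain-level core of the universal property of `K ⊗ F ⟶ K^ ⊗ F`. -/
theorem bijective_precomp_Q_whiskerRight (hI : I.FG) (F : DRing.Cx A) [F.IsKProjective]
    (K : Dual.D A) (K' C' : DRing.Cx A) [K'.IsKProjective] [C'.IsKProjective]
    (eK : K ≅ DerivedCategory.Q.obj K')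
    (eC : ((DRing.derivedCompletion I).obj K).obj ≅ DerivedCategory.Q.obj C') (g : K' ⟶ C')
    (hg : DerivedCategory.Q.map g = eK.inv ≫ DRing.toDerivedCompletion I K ≫ eC.hom)
    (E : Dual.D A) (hE : DRing.IsDerivedComplete I E) :
    Function.Bijective (fun θ : DerivedCategory.Q.obj (C' ⊗ F) ⟶ E =>
      DerivedCategory.Q.map (g ▷ F) ≫ θ) := by
  obtain ⟨J, hJ, eJ, -⟩ := exists_res E
  have hcomp : DRing.IsDerivedComplete I (DerivedCategory.Q.obj (DRing.homCx F J)) :=
    isDerivedComplete_homCx_of_complete I hI F J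
      (Groth.Agent.Lib.Helper7.DerivedComplete.of_iso I eJ hE)
  have hu := bijective_precomp_toDerivedCompletion I K _ hcomp
  have hw : Function.Bijective (fun w : DerivedCategory.Q.obj C' ⟶
      DerivedCategory.Q.obj (DRing.homCx F J) => DerivedCategory.Q.map g ≫ w) := by
    refine bijective_precomp_of_sq _ (DRing.toDerivedCompletion I K) eK.symm eC.symm ?_ _ hu
    change eK.inv ≫ DRing.toDerivedCompletion I K = DerivedCategory.Q.map g ≫ eC.inv
    rw [hg]
    simp
  have hT := bijective_precomp_whiskerRight g J hw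
  have hfun : (fun θ : DerivedCategory.Q.obj (C' ⊗ F) ⟶ E =>
      DerivedCategory.Q.map (g ▷ F) ≫ θ) =
      (fun θ : DerivedCategory.Q.obj (K' ⊗ F) ⟶ DerivedCategory.Q.obj J => θ ≫ eJ.inv) ∘
      (fun θ : DerivedCategory.Q.obj (C' ⊗ F) ⟶ DerivedCategory.Q.obj J =>
        DerivedCategory.Q.map (g ▷ F) ≫ θ) ∘
      (fun θ : DerivedCategory.Q.obj (C' ⊗ F) ⟶ E => θ ≫ eJ.hom) := by
    funext θ
    simp
  rw [hfun]
  have hpost'' : Function.Bijective (fun θ : DerivedCategory.Q.obj (K' ⊗ F) ⟶
      DerivedCategory.Q.obj J => θ ≫ eJ.inv) :=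
    ⟨fun α α' h => (cancel_mono eJ.inv).1 h, fun γ => ⟨γ ≫ eJ.hom, by simp⟩⟩
  have hpre : Function.Bijective (fun θ : DerivedCategory.Q.obj (C' ⊗ F) ⟶ E =>
      θ ≫ eJ.hom) :=
    ⟨fun α α' h => (cancel_mono eJ.hom).1 h, fun γ => ⟨γ ≫ eJ.inv, by simp⟩⟩
  exact hpost''.comp (hT.comp hpre)

end Core

section Final

/-- **Derived completion commutes with `- ⊗^L M` for a finite module `M` over a Noetherian ring,
on bounded above objects.** -/
theorem derivedCompletion_LTensor_finite [IsNoetherianRing A] (I : Ideal A)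
    [DRing.HasDerivedCompletion I] (M : Type u) [AddCommGroup M] [Module A M]
    [Module.Finite A M] [DRing.HasLTensor A (ModuleCat.of A M)] (K : Dual.D A) (b : ℤ)
    (hK : ∀ i : ℤ, b < i → Subsingleton (Dual.HD A K i)) :
    DRing.IsDerivedComplete I ((DRing.LTensor A (ModuleCat.of A M)).obj
        ((DRing.derivedCompletion I).obj K).obj) ∧
      ∀ E : Dual.D A, DRing.IsDerivedComplete I E →
        Function.Bijective (fun φ : (DRing.LTensor A (ModuleCat.of A M)).obj
            ((DRing.derivedCompletion I).obj K).obj ⟶ E =>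
          (DRing.LTensor A (ModuleCat.of A M)).map (DRing.toDerivedCompletion I K) ≫ φ) := by
  classical
  have hI : I.FG := IsNoetherian.noetherian I
  obtain ⟨F, c, hFc, hFf, ⟨eF⟩⟩ :=
    (isPseudoCoherentModule'_iff_of_isNoetherianRing (A := A) M).2 (inferInstance : Module.Finite A M)
  have hFproj : F.IsKProjective := isKProjective_of_vanishesAbove F c hFc hFf
  let M0 : DRing.Cx A :=
    (HomologicalComplex.single (ModuleCat.{u} A) (ComplexShape.up ℤ) 0).obj (ModuleCat.of A M)
  let e0 : Dual.inD A M ≅ DerivedCategory.Q.obj M0 :=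
    (DerivedCategory.singleFunctorIsoCompQ (ModuleCat.{u} A) 0).app (ModuleCat.of A M)
  obtain ⟨ε, hε⟩ := KP.exists_Q_map_eq (K := F) (L := M0) (eF.hom ≫ e0.hom)
  have hεq : QuasiIso ε := by
    rw [← DerivedCategory.isIso_Q_map_iff_quasiIso, hε]; infer_instance
  let LT := DRing.LTensor A (ModuleCat.of A M)
  obtain ⟨K', hK', ⟨eK⟩⟩ := exists_kproj_model K
  obtain ⟨C', hC', ⟨eC⟩⟩ := exists_kproj_model ((DRing.derivedCompletion I).obj K).obj
  obtain ⟨g, hg⟩ := KP.exists_Q_map_eq (eK.inv ≫ DRing.toDerivedCompletion I K ≫ eC.hom)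
  have hK'fl : KFlat K' := isKFlat_of_isKProjective K'
  have hC'fl : KFlat C' := isKFlat_of_isKProjective C'
  have q1 : QuasiIso (K' ◁ ε) := quasiIso_whiskerLeft_of_kflat_left K' hK'fl ε
  have q2 : QuasiIso (C' ◁ ε) := quasiIso_whiskerLeft_of_kflat_left C' hC'fl ε
  have i1 : IsIso (DerivedCategory.Q.map (K' ◁ ε)) := by
    rw [DerivedCategory.isIso_Q_map_iff_quasiIso]; exact q1
  have i2 : IsIso (DerivedCategory.Q.map (C' ◁ ε)) := by
    rw [DerivedCategory.isIso_Q_map_iff_quasiIso]; exact q2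
  -- target isomorphisms
  let b₁ : LT.obj ((DRing.derivedCompletion I).obj K).obj ≅ LT.obj (DerivedCategory.Q.obj C') :=
    LT.mapIso eC
  let b₂ : LT.obj (DerivedCategory.Q.obj C') ≅
      DerivedCategory.Q.obj ((tensorCx (ModuleCat.of A M)).obj C') :=
    LTensorIso (ModuleCat.of A M) C'
  let b₃ : DerivedCategory.Q.obj ((tensorCx (ModuleCat.of A M)).obj C') ≅
      DerivedCategory.Q.obj (C' ⊗ M0) :=
    DerivedCategory.Q.mapIso (tensorSingleIso C' (ModuleCat.of A M))
  let b₄ : DerivedCategory.Q.obj (C' ⊗ M0) ≅ DerivedCategory.Q.obj (C' ⊗ F) :=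
    (asIso (DerivedCategory.Q.map (C' ◁ ε))).symm
  let a₁ : LT.obj K ≅ LT.obj (DerivedCategory.Q.obj K') := LT.mapIso eK
  let a₂ : LT.obj (DerivedCategory.Q.obj K') ≅
      DerivedCategory.Q.obj ((tensorCx (ModuleCat.of A M)).obj K') :=
    LTensorIso (ModuleCat.of A M) K'
  let a₃ : DerivedCategory.Q.obj ((tensorCx (ModuleCat.of A M)).obj K') ≅
      DerivedCategory.Q.obj (K' ⊗ M0) :=
    DerivedCategory.Q.mapIso (tensorSingleIso K' (ModuleCat.of A M))
  let a₄ : DerivedCategory.Q.obj (K' ⊗ M0) ≅ DerivedCategory.Q.obj (K' ⊗ F) :=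
    (asIso (DerivedCategory.Q.map (K' ◁ ε))).symm
  constructor
  · -- completeness
    obtain ⟨s, hs⟩ := hI
    have hcomp : DRing.IsDerivedComplete I (DerivedCategory.Q.obj C') :=
      Groth.Agent.Lib.Helper7.DerivedComplete.of_iso I eC
        ((DRing.derivedCompletion I).obj K).property
    have hle : (DerivedCategory.Q.obj C').IsLE b := by
      rw [DerivedCategory.isLE_iff]
      intro i hi
      have h1 : IsZero ((Hh i).obj ((DRing.derivedCompletion I).obj K).obj) := by
        apply isZero_homology_derivedCompletion I s hs K i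
        intro j hj _
        have := hK j (by omega)
        exact ModuleCat.isZero_of_subsingleton _
      exact h1.of_iso ((Hi i).mapIso eC.symm)
    have hA := isDerivedComplete_Psi_of_pseudoCoherent I C' hC'fl hcomp b F c hFc hFf
    exact Groth.Agent.Lib.Helper7.DerivedComplete.of_iso I
      (((psiIso C' hC'fl).app F) ≪≫ DerivedCategory.Q.mapIso (braidCx F C') ≪≫
        b₄.symm ≪≫ b₃.symm ≪≫ b₂.symm ≪≫ b₁.symm) hA
  · intro E hE
    -- step 1
    refine bijective_precomp_of_sq _ (LT.map (DerivedCategory.Q.map g)) a₁ b₁ ?_ E ?_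
    · change LT.map eK.hom ≫ LT.map (DerivedCategory.Q.map g) =
        LT.map (DRing.toDerivedCompletion I K) ≫ LT.map eC.hom
      rw [← Functor.map_comp, ← Functor.map_comp, hg, Iso.hom_inv_id_assoc]
    -- step 2
    refine bijective_precomp_of_sq _
      (DerivedCategory.Q.map ((tensorCx (ModuleCat.of A M)).map g)) a₂ b₂ ?_ E ?_
    · exact (totalLeftDerivedIso_hom_naturality
        (MonoidalCategory.tensorRight (ModuleCat.of A M)) g).symm
    -- step 3
    refine bijective_precomp_of_sq _ (DerivedCategory.Q.map (g ▷ M0)) a₃ b₃ ?_ E ?_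
    · change DerivedCategory.Q.map (tensorSingleIso K' (ModuleCat.of A M)).hom ≫
          DerivedCategory.Q.map (g ▷ M0) =
        DerivedCategory.Q.map ((tensorCx (ModuleCat.of A M)).map g) ≫
          DerivedCategory.Q.map (tensorSingleIso C' (ModuleCat.of A M)).hom
      rw [← Functor.map_comp, ← Functor.map_comp, tensorSingleIso_hom_naturality]
    -- step 4
    refine bijective_precomp_of_sq _ (DerivedCategory.Q.map (g ▷ F)) a₄ b₄ ?_ E ?_
    · change inv (DerivedCategory.Q.map (K' ◁ ε)) ≫ DerivedCategory.Q.map (g ▷ F) =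
        DerivedCategory.Q.map (g ▷ M0) ≫ inv (DerivedCategory.Q.map (C' ◁ ε))
      apply inv_comp_eq_comp_inv_of_sq
      rw [← Functor.map_comp, ← Functor.map_comp, whisker_exchange]
    exact bijective_precomp_Q_whiskerRight I hI F K K' C' eK eC g hg E hE

end Final

end Groth.Agent.Lib.Helper13.LDC
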