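import Groth.Agent.Lib.Helper13.LocFF3
import Groth.Agent.Lib.Helper7.DerivedCompleteMT
import Groth.Agent.Lib.Helper7.FCompleteIdeal
import Mathlib.CategoryTheory.Adjunction.Comma

set_option autoImplicit false
universe u
open CategoryTheory CategoryTheory.Limits Pretriangulated

namespace Groth.Agent.Lib.Helper13.Coind

open Groth.Agent.Lib.Helper7.DerivedComplete Groth.Agent.Lib.Helper7.DerivedCompleteMT
  Groth.Agent.Lib.Helper7.FComplete

attribute [local instance] HasDerivedCategory.standard

variable {A : Type u} [CommRing A]

lemma orth_away_iff (f : A) (K : Dual.D A) :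
    Orth A (Localization.Away f) K ↔ HomVanish f K :=
  ⟨fun h n => subsingleton_hom_inD_shift (B := Localization.Away f) K h n,
    fun h E => subsingleton_hom_restrictD (B := Localization.Away f) K h E⟩

/-- Derived completion along a finite list of elements, with its universal property. -/
theorem exists_completion_list (l : List A) (K : Dual.D A) :
    ∃ (C : Dual.D A) (u : K ⟶ C), (∀ f ∈ l, HomVanish f C) ∧
      ∀ C₀ : Dual.D A, (∀ f ∈ l, HomVanish f C₀) →
        Function.Bijective (fun g : C ⟶ C₀ => u ≫ g) := by
  induction l generalizing K with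
  | nil =>
    refine ⟨K, 𝟙 K, by simp, fun C₀ _ => ?_⟩
    have : (fun g : K ⟶ C₀ => 𝟙 K ≫ g) = id := by
      funext g
      simp
    rw [this]
    exact Function.bijective_id
  | cons f l ih =>
    obtain ⟨C', u', h1, h2⟩ := ih K
    have hflat : Module.Flat A (Localization.Away f) :=
      IsLocalization.flat (Localization.Away f) (Submonoid.powers f)
    obtain ⟨C'', u'', w, hT, horth⟩ :=
      exists_step (B := Localization.Away f) (Submonoid.powers f) C'
    refine ⟨C'', u' ≫ u'', ?_, ?_⟩
    · intro g hg
      rcases List.mem_cons.1 hg with rfl | hg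
      · exact (orth_away_iff g C'').1 horth
      · have hg' : HomVanish g C' := h1 g hg
        have h3 : HomVanish g ((DRing.restrictD (algebraMap A (Localization.Away f))).obj
            ((Rco (algebraMap A (Localization.Away f))).obj C')) :=
          (orth_away_iff g _).1 (orth_res_Rco (Localization.Away f) (Submonoid.powers g) C'
            ((orth_away_iff g C').2 hg'))
        exact HomVanish.of_distTriang₃ _ hT h3 hg'
    · intro C₀ h0
      have hb1 := h2 C₀ (fun g hg => h0 g (List.mem_cons_of_mem _ hg))
      have hf0 : Orth A (Localization.Away f) C₀ :=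
        (orth_away_iff f C₀).2 (h0 f List.mem_cons_self)
      have hs1 : Subsingleton (((DRing.restrictD (algebraMap A (Localization.Away f))).obj
          ((Rco (algebraMap A (Localization.Away f))).obj C'))⟦(1 : ℤ)⟧ ⟶ C₀) :=
        (Iso.homCongr (((DRing.restrictD (algebraMap A (Localization.Away f))).commShiftIso
          (1 : ℤ)).app _) (Iso.refl C₀)).subsingleton_congr.1 (hf0 _)
      have hb2 : Function.Bijective (fun g : C'' ⟶ C₀ => u'' ≫ g) :=
        bijective_precomp_of_distTriang _ hT C₀ (hf0 _) hs1
      have : (fun g : C'' ⟶ C₀ => (u' ≫ u'') ≫ g) =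
          (fun h : C' ⟶ C₀ => u' ≫ h) ∘ (fun g : C'' ⟶ C₀ => u'' ≫ g) := by
        funext g
        simp
      rw [this]
      exact hb1.comp hb2

/-- Derived completeness can be tested on generators. -/
lemma isDerivedComplete_iff_of_span (I : Ideal A) (s : Finset A)
    (hs : Ideal.span (s : Set A) = I) (K : Dual.D A) :
    DRing.IsDerivedComplete I K ↔ ∀ f ∈ s.toList, HomVanish f K := by
  constructor
  · intro h f hf
    exact h f (hs ▸ Ideal.subset_span (Finset.mem_toList.1 hf))
  · intro h
    rw [Groth.Agent.Lib.Helper7.DerivedCompleteMT.isDerivedComplete_iff]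
    intro f hf i
    refine isFComplete_of_mem_span (S := (s : Set A)) (fun g hg => ?_) (hs ▸ hf)
    exact (homVanish_iff g K).1 (h g (Finset.mem_toList.2 hg)) i

/-- Derived completion exists for finitely generated ideals. -/
theorem hasDerivedCompletion_of_fg (I : Ideal A) (hI : I.FG) : DRing.HasDerivedCompletion I := by
  obtain ⟨s, hs⟩ := hI
  have key := isDerivedComplete_iff_of_span I s hs
  have : ∀ K : Dual.D A, HasInitial
      (StructuredArrow K (ObjectProperty.ι (DRing.IsDerivedComplete I))) := by
    intro K
    obtain ⟨C, u, hC, huniv⟩ := exists_completion_list s.toList K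
    let C' : DRing.DComp I := ⟨C, (key C).2 hC⟩
    let X : StructuredArrow K (ObjectProperty.ι (DRing.IsDerivedComplete I)) :=
      StructuredArrow.mk (Y := C') u
    have hex : ∀ Y : StructuredArrow K (ObjectProperty.ι (DRing.IsDerivedComplete I)),
        ∃ g : C ⟶ Y.right.obj, u ≫ g = Y.hom := fun Y =>
      (huniv Y.right.obj ((key _).1 Y.right.property)).2 Y.hom
    refine (IsInitial.ofUniqueHom (X := X)
      (fun Y => StructuredArrow.homMk (ObjectProperty.homMk (hex Y).choose)
        (hex Y).choose_spec) ?_).hasInitial
    intro Y m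
    apply StructuredArrow.hom_ext
    apply (ObjectProperty.ι (DRing.IsDerivedComplete I)).map_injective
    apply (huniv Y.right.obj ((key _).1 Y.right.property)).1
    change u ≫ (ObjectProperty.ι _).map m.right = u ≫ (hex Y).choose
    rw [(hex Y).choose_spec]
    exact StructuredArrow.w m
  exact isRightAdjointOfStructuredArrowInitials _

end Groth.Agent.Lib.Helper13.Coind
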