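import Groth.Agent.Lib.Helper13.LDC10
import Groth.Agent.Lib.Helper13.LocFF4
import Groth.Agent.Lib.Helper2.RGTors.GM2

/-!
# A characterisation of `RΓ_I K` by maps into derived complete objects
-/

set_option autoImplicit false
set_option maxHeartbeats 400000
set_option linter.style.haveILetI false
universe u
open CategoryTheory CategoryTheory.Limits Pretriangulated

namespace Groth.Agent.Lib.Helper13.LFR

open Groth.Agent.Lib.Helper13.LDC Groth.Agent.Lib.Helper13
  Groth.Agent.Lib.Helper2.RGTors Groth.Agent.Lib.Helper2.TorsExt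

attribute [local instance] HasDerivedCategory.standard

section General

variable {D : Type*} [Category D] [Preadditive D] [HasZeroObject D] [HasShift D ℤ]
  [∀ n : ℤ, (CategoryTheory.shiftFunctor D n).Additive] [Pretriangulated D]

/-- If precomposition with `T.mor₁` is injective on maps to `M` and precomposition with
`T.mor₁⟦1⟧` is surjective on maps to `M`, there are no nonzero maps `T.obj₃ ⟶ M`. -/
lemma subsingleton_hom_obj₃ (T : Triangle D) (hT : T ∈ distTriang D) (M : D)
    (h1 : Function.Injective (fun β : T.obj₂ ⟶ M => T.mor₁ ≫ β))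
    (h2 : Function.Surjective (fun β : T.obj₂⟦(1 : ℤ)⟧ ⟶ M => T.mor₁⟦(1 : ℤ)⟧' ≫ β)) :
    Subsingleton (T.obj₃ ⟶ M) := by
  suffices ∀ φ : T.obj₃ ⟶ M, φ = 0 from ⟨fun a b => by rw [this a, this b]⟩
  intro φ
  have h0 : T.mor₂ ≫ φ = 0 := by
    apply h1
    change T.mor₁ ≫ T.mor₂ ≫ φ = T.mor₁ ≫ 0
    rw [← Category.assoc, comp_distTriang_mor_zero₁₂ _ hT, zero_comp, comp_zero]
  obtain ⟨ψ, hψ⟩ := Triangle.yoneda_exact₃ T hT φ h0
  obtain ⟨ψ', hψ'⟩ := h2 ψ
  have hψ'' : T.mor₁⟦(1 : ℤ)⟧' ≫ ψ' = ψ := hψ'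
  rw [hψ, ← hψ'', ← Category.assoc, comp_distTriang_mor_zero₃₁ _ hT, zero_comp]

/-- Surjectivity of precomposition with `g⟦1⟧` on maps to `M` follows from that of precomposition
with `g` on maps to `M⟦-1⟧`. -/
lemma surjective_precomp_shift {X Y : D} (g : X ⟶ Y) (M : D)
    (h : Function.Surjective (fun β : Y ⟶ M⟦(-1 : ℤ)⟧ => g ≫ β)) :
    Function.Surjective (fun β : Y⟦(1 : ℤ)⟧ ⟶ M => g⟦(1 : ℤ)⟧' ≫ β) := by
  intro ψ
  let adj := (shiftEquiv D (1 : ℤ)).toAdjunction
  obtain ⟨ψ₀, hψ₀⟩ := h (adj.homEquiv X M ψ)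
  refine ⟨(adj.homEquiv Y M).symm ψ₀, ?_⟩
  apply (adj.homEquiv X M).injective
  have hn := adj.homEquiv_naturality_left g ((adj.homEquiv Y M).symm ψ₀)
  rw [Equiv.apply_symm_apply] at hn
  exact hn.trans hψ₀

/-- Subsingleton of maps out of a shift. -/
lemma subsingleton_hom_shift_left (X M : D) (k : ℤ) (h : Subsingleton (X ⟶ M⟦-k⟧)) :
    Subsingleton (X⟦k⟧ ⟶ M) :=
  (((shiftEquiv D k).toAdjunction.homEquiv X M)).subsingleton_congr.2 h

end General

variable {A : Type u} [CommRing A]

section Zero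

variable (I : Ideal A) [DRing.HasDerivedCompletion I]

/-- An object with no nonzero maps to derived complete objects has zero derived completion. -/
lemma isZero_derivedCompletion_of_subsingleton (C : Dual.D A)
    (h : ∀ M : Dual.D A, DRing.IsDerivedComplete I M → Subsingleton (C ⟶ M)) :
    IsZero ((DRing.derivedCompletion I).obj C).obj := by
  have hc : DRing.IsDerivedComplete I ((DRing.derivedCompletion I).obj C).obj :=
    ((DRing.derivedCompletion I).obj C).property
  have hη : DRing.toDerivedCompletion I C = 0 := (h _ hc).elim _ _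
  rw [IsZero.iff_id_eq_zero]
  apply (bijective_precomp_toDerivedCompletion I C _ hc).1
  change DRing.toDerivedCompletion I C ≫ 𝟙 _ = DRing.toDerivedCompletion I C ≫ 0
  rw [hη, zero_comp, zero_comp]

end Zero

section Char

variable [IsNoetherianRing A] (I : Ideal A) [DRing.HasRgammaI I]

/-- Characterisation of `RΓ_I K`: a map `g : Γ' ⟶ K` from an object with `I`-power torsion
cohomology which induces bijections on maps into all derived complete objects exhibits `Γ'` as
`RΓ_I K`. -/
theorem nonempty_iso_RgammaI_of_univ {Γ' K : Dual.D A} (g : Γ' ⟶ K) (hΓ : PT I Γ')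
    (h : ∀ M : Dual.D A, DRing.IsDerivedComplete I M →
      Function.Bijective (fun β : K ⟶ M => g ≫ β)) :
    Nonempty (Γ' ≅ (DRing.RgammaI I).obj K) := by
  haveI : DRing.HasDerivedCompletion I :=
    Groth.Agent.Lib.Helper13.Coind.hasDerivedCompletion_of_fg I (IsNoetherian.noetherian I)
  obtain ⟨C, v, w, hT⟩ := distinguished_cocone_triangle g
  -- no maps from shifts of the cone to complete objects
  have hC0 : ∀ M : Dual.D A, DRing.IsDerivedComplete I M → Subsingleton (C ⟶ M) := by
    intro M hM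
    refine subsingleton_hom_obj₃ (Triangle.mk g v w) hT M (h M hM).1 ?_
    exact surjective_precomp_shift g M
      (h _ (Groth.Agent.Lib.Helper7.DerivedComplete.shift I hM (-1))).2
  have hCk : ∀ (k : ℤ) (M : Dual.D A), DRing.IsDerivedComplete I M →
      Subsingleton (C⟦k⟧ ⟶ M) := by
    intro k M hM
    exact subsingleton_hom_shift_left C M k
      (hC0 _ (Groth.Agent.Lib.Helper7.DerivedComplete.shift I hM (-k)))
  -- no maps from torsion objects to shifts of the cone
  have hLk : ∀ (k : ℤ) (L : Dual.D A), PT I L → Subsingleton (L ⟶ C⟦k⟧) := by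
    intro k L hL
    have hz := isZero_derivedCompletion_of_subsingleton I (C⟦k⟧) (hCk k)
    have hb := bijective_postcomp_η I (C⟦k⟧) L hL
    exact ⟨fun a b => hb.1 (hz.eq_of_tgt _ _)⟩
  -- bijection on maps from torsion objects
  have hbij : ∀ L : Dual.D A, PT I L → Function.Bijective (fun α : L ⟶ Γ' => α ≫ g) := by
    intro L hL
    have hT' := inv_rot_of_distTriang _ hT
    refine bijective_postcomp_of_distTriang _ hT' L (hLk (-1) L hL) ?_
    exact Groth.Agent.Lib.Helper7.DerivedComplete.subsingleton_hom_of_iso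
      ((shiftFunctorCompIsoId (Dual.D A) (-1 : ℤ) 1 (by simp)).app C).symm (hLk 0 L hL |> fun s =>
        Groth.Agent.Lib.Helper7.DerivedComplete.subsingleton_hom_of_iso
          ((shiftFunctorZero (Dual.D A) ℤ).app C) s)
  -- Yoneda
  obtain ⟨a, ha⟩ := (bijective_comp_ε I Γ' K hΓ).2 g
  have ha' : a ≫ (DRing.RgammaIε I).app K = g := ha
  have hR := PT_RgammaI I K
  obtain ⟨b, hb⟩ := (hbij _ hR).2 ((DRing.RgammaIε I).app K)
  have hb' : b ≫ g = (DRing.RgammaIε I).app K := hb
  refine ⟨⟨a, b, ?_, ?_⟩⟩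
  · apply (hbij Γ' hΓ).1
    change (a ≫ b) ≫ g = 𝟙 _ ≫ g
    rw [Category.assoc, hb', ha', Category.id_comp]
  · apply (bijective_comp_ε I _ K hR).1
    change (b ≫ a) ≫ (DRing.RgammaIε I).app K = 𝟙 _ ≫ (DRing.RgammaIε I).app K
    rw [Category.assoc, ha', hb', Category.id_comp]

end Char

end Groth.Agent.Lib.Helper13.LFR
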