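import Groth.Agent.Lib.Helper13.TorIndep6

/-!
# Tor-independent base change, with the hypothesis stated on a projective resolution
-/

set_option autoImplicit false
set_option linter.unusedSectionVars false

open CategoryTheory CategoryTheory.Limits TensorProduct

universe u

namespace Groth.Agent.Lib.Helper13.TI

open DerivedCategory Groth.Agent.Lib.Helper13.DR TrivBC Groth.Agent.Lib.Helper13.BS
  Groth.Agent.Lib.Helper13.Coind Groth.Agent.Lib.Helper13.FC Groth.Agent.Lib.Helper13.PC

attribute [local instance] HasDerivedCategory.standard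

variable (R A R' A' : Type u) [CommRing R] [CommRing A] [Algebra R A] [CommRing R'] [Algebra R R']
  [CommRing A'] [Algebra R A'] [Algebra A A'] [Algebra R' A'] [IsScalarTower R A A']
  [IsScalarTower R R' A'] [Algebra.IsPushout R R' A A']
  [DRing.HasLBaseChange (algebraMap R R')] [DRing.HasLBaseChange (algebraMap A A')]

theorem isIso_cmp_shift' (hq : QuasiIso ((extC (algebraMap R R')).map (PA R A).π'))
    (adjρ : DRing.LBaseChange (algebraMap R R') ⊣ DRing.restrictD (algebraMap R R'))
    (adjα : DRing.LBaseChange (algebraMap A A') ⊣ DRing.restrictD (algebraMap A A')) (k : ℤ) :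
    IsIso (TrivBC.cmp adjρ adjα (hsq R A R' A') (Q.obj ((F₀ A)⟦k⟧))) := by
  refine isIso_cmp_Q_of_quasiIso_ext R A R' A' adjρ adjα ((F₀ A)⟦k⟧)
    (pShift (algebraMap R A) (p₀ R A) k) ?_
  apply quasiIso_ext_pShift
  unfold p₀
  rw [Functor.map_comp]
  infer_instance

theorem isIso_beta' (hq : QuasiIso ((extC (algebraMap R R')).map (PA R A).π')) (N : Dual.D R') :
    IsIso (beta (φ := algebraMap R A) (α := algebraMap A A') (hsq R A R' A') N) :=
  isIso_beta_of_isIso_cmp (LBaseChangeAdj _) (LBaseChangeAdj _) (hsq R A R' A')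
    (fun j => Q.obj ((F₀ A)⟦-j⟧)) (σ A)
    (fun j => isIso_cmp_shift' R A R' A' hq _ _ (-j)) N

/-- **Tor-independent base change**, resolution form of the hypothesis. -/
theorem isIso_cmp' (hq : QuasiIso ((extC (algebraMap R R')).map (PA R A).π'))
    (adjρ : DRing.LBaseChange (algebraMap R R') ⊣ DRing.restrictD (algebraMap R R'))
    (adjα : DRing.LBaseChange (algebraMap A A') ⊣ DRing.restrictD (algebraMap A A'))
    (h : (algebraMap A A').comp (algebraMap R A) = (algebraMap R' A').comp (algebraMap R R'))
    (K : Dual.D A) : IsIso (TrivBC.cmp adjρ adjα h K) :=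
  isIso_cmp_of_isIso_beta adjρ adjα h (fun N => isIso_beta' R A R' A' hq N) K

end Groth.Agent.Lib.Helper13.TI
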