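import Groth.Agent.Lib.Helper13.RcoEnd1
import Groth.Agent.Lib.Helper13.DualExt2
import Groth.Agent.Lib.Helper13.TorIndep7
import Groth.Agent.Lib.Helper13.DRingRelPC

/-!
# Base change of `RHom_P(A, P)` along a tor-independent pushout: preliminaries
-/

set_option autoImplicit false
universe u
open CategoryTheory CategoryTheory.Limits TensorProduct

namespace Groth.Agent.Lib.Helper13.RcoBC

open Groth.Agent.Lib.Helper13.BD Groth.Agent.Lib.Helper13.DR Groth.Agent.Lib.Helper13.PC
  Groth.Agent.Lib.Helper13.Coind Groth.Agent.Lib.Helper13.DualExt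
open DerivedCategory Pretriangulated

attribute [local instance] HasDerivedCategory.standard

section Reflect

variable {A B : Type u} [CommRing A] [CommRing B]

/-- Restriction of scalars reflects isomorphisms in the derived category. -/
lemma isIso_of_isIso_restrictD (φ : A →+* B) {K L : Dual.D B} (f : K ⟶ L)
    (h : IsIso ((DRing.restrictD φ).map f)) : IsIso f := by
  obtain ⟨C, v, w, hT⟩ := distinguished_cocone_triangle f
  refine (Triangle.isZero₃_iff_isIso₁ _ hT).1 ?_
  have hT' := (DRing.restrictD φ).map_distinguished _ hT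
  have hz : IsZero ((DRing.restrictD φ).obj C) := (Triangle.isZero₃_iff_isIso₁ _ hT').2 h
  change IsZero C
  apply isZero_of_forall_isZero_homology
  intro i
  obtain ⟨e⟩ := nonempty_homology_restrictD_iso φ C i
  have h1 : IsZero ((DerivedCategory.homologyFunctor (ModuleCat.{u} A) i).obj
      ((DRing.restrictD φ).obj C)) := Functor.map_isZero _ hz
  exact isZero_of_isZero_restrictScalars φ _ (h1.of_iso e.symm)

end Reflect

section Self

variable (A B : Type u) [CommRing A] [CommRing B] [Algebra A B]

/-- `B ⊗_A A[0] ≅ B[0]` as complexes. -/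
noncomputable def ιVA : (extC (algebraMap A B)).obj (VA A) ≅ VA B :=
  (HomologicalComplex.singleMapHomologicalComplex
    (ModuleCat.extendScalars.{u, u, u} (algebraMap A B)) (ComplexShape.up ℤ) 0).app
      (ModuleCat.of A A) ≪≫
    (HomologicalComplex.single (ModuleCat.{u} B) (ComplexShape.up ℤ) 0).mapIso
      (extendScalarsIso B (ModuleCat.of A A) ≪≫
        (TensorProduct.AlgebraTensorModule.rid A B B).toModuleIso)

/-- `L_{A → B}(A[0]) ≅ B[0]`, without flatness. -/
noncomputable def LSelfIso :
    (DRing.LBaseChange (algebraMap A B)).obj (Dual.inD A A) ≅ Dual.inD B B :=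
  haveI : Projective (ModuleCat.of A A) := (DR.projective_iff _).2 inferInstance
  haveI : (VA A).IsKProjective := PC.isKProjective_single (n := 0) (M := ModuleCat.of A A)
  haveI := isIso_αQ_app (algebraMap A B) (VA A)
  (DRing.LBaseChange (algebraMap A B)).mapIso
    ((DerivedCategory.singleFunctorIsoCompQ (ModuleCat.{u} A) 0).app (ModuleCat.of A A)) ≪≫
  asIso ((αQ (algebraMap A B)).app (VA A)) ≪≫ Q.mapIso (ιVA A B) ≪≫
  ((DerivedCategory.singleFunctorIsoCompQ (ModuleCat.{u} B) 0).app (ModuleCat.of B B)).symm

end Self

section Pushout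

variable (P A P' A' : Type u) [CommRing P] [CommRing A] [Algebra P A] [CommRing P'] [Algebra P P']
  [CommRing A'] [Algebra P A'] [Algebra A A'] [Algebra P' A'] [IsScalarTower P A A']
  [IsScalarTower P P' A'] [Algebra.IsPushout P P' A A']

include P A in
/-- The pushout of a surjection is a surjection. -/
lemma surjective_algebraMap_of_isPushout (hs : Function.Surjective (algebraMap P A)) :
    Function.Surjective (algebraMap P' A') := by
  intro x
  have h := (Algebra.IsPushout.out (R := P) (S := P') (R' := A) (S' := A'))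
  induction x using h.inductionOn with
  | zero => exact ⟨0, map_zero _⟩
  | tmul a =>
    obtain ⟨p, rfl⟩ := hs a
    refine ⟨algebraMap P P' p, ?_⟩
    change _ = algebraMap A A' (algebraMap P A p)
    rw [← IsScalarTower.algebraMap_apply, ← IsScalarTower.algebraMap_apply]
  | smul s y hy =>
    obtain ⟨q, rfl⟩ := hy
    exact ⟨s * q, by rw [map_mul, Algebra.smul_def]⟩
  | add y z hy hz =>
    obtain ⟨q, rfl⟩ := hy
    obtain ⟨q', rfl⟩ := hz
    exact ⟨q + q', map_add _ _ _⟩

end Pushout

end Groth.Agent.Lib.Helper13.RcoBC
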