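import Groth.Agent.Lib.Helper13.Frob1
import Groth.Agent.Lib.Helper13.FinCoh2
import Groth.Agent.Lib.Helper13.DRingDescent

/-!
# Cohomology of flat base change and of coinduction
-/

set_option autoImplicit false
set_option linter.unusedSectionVars false

open CategoryTheory CategoryTheory.Limits CategoryTheory.Functor

universe u

namespace Groth.Agent.Lib.Helper13.Shriek

open DerivedCategory Groth.Agent.Lib.Helper13.DR Groth.Agent.Lib.Helper13.Coind
  Groth.Agent.Lib.Helper13.PC Groth.Agent.Lib.Helper13.FC Triangulated

attribute [local instance] HasDerivedCategory.standard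

section Flat

variable (A B : Type u) [CommRing A] [CommRing B] [Algebra A B] [Module.Flat A B]

/-- Derived base change along a flat map is termwise base change. -/
noncomputable def LBaseChangeFlatIso : DRing.LBaseChange (algebraMap A B) ≅ flatBC A B :=
  (LBaseChangeAdj (algebraMap A B)).leftAdjointUniq
    (Frob.derivedAdj _ _ (ModuleCat.extendRestrictScalarsAdj.{u, u, u} (algebraMap A B)))

/-- Cohomology of flat base change. -/
noncomputable def flatBCHomologyIso (X : Dual.D A) (j : ℤ) :
    (DerivedCategory.homologyFunctor (ModuleCat.{u} B) j).obj ((flatBC A B).obj X) ≅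
      (ModuleCat.extendScalars.{u, u, u} (algebraMap A B)).obj
        ((DerivedCategory.homologyFunctor (ModuleCat.{u} A) j).obj X) :=
  let E := Q.objPreimage X
  let e : Q.obj E ≅ X := Q.objObjPreimageIso X
  (DerivedCategory.homologyFunctor (ModuleCat.{u} B) j).mapIso ((flatBC A B).mapIso e.symm ≪≫
      flatBCQIso A B E) ≪≫ homologyQIso _ j ≪≫ extendCxHomologyIso A B E j ≪≫
    (ModuleCat.extendScalars.{u, u, u} (algebraMap A B)).mapIso
      ((homologyQIso E j).symm ≪≫
        (DerivedCategory.homologyFunctor (ModuleCat.{u} A) j).mapIso e)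

/-- Cohomology of derived base change along a flat map. -/
noncomputable def LBaseChangeHomologyIso (X : Dual.D A) (j : ℤ) :
    (DerivedCategory.homologyFunctor (ModuleCat.{u} B) j).obj
        ((DRing.LBaseChange (algebraMap A B)).obj X) ≅
      (ModuleCat.extendScalars.{u, u, u} (algebraMap A B)).obj
        ((DerivedCategory.homologyFunctor (ModuleCat.{u} A) j).obj X) :=
  (DerivedCategory.homologyFunctor (ModuleCat.{u} B) j).mapIso
    ((LBaseChangeFlatIso A B).app X) ≪≫ flatBCHomologyIso A B X j

lemma isGE_LBaseChange (X : Dual.D A) (a : ℤ) [X.IsGE a] :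
    ((DRing.LBaseChange (algebraMap A B)).obj X).IsGE a := by
  rw [DerivedCategory.isGE_iff]
  intro j hj
  refine IsZero.of_iso ?_ (LBaseChangeHomologyIso A B X j)
  exact Functor.map_isZero _ ((DerivedCategory.isGE_iff X a).1 inferInstance j hj)

lemma finite_HD_LBaseChange (X : Dual.D A) (j : ℤ) (h : Module.Finite A (Dual.HD A X j)) :
    Module.Finite B (Dual.HD B ((DRing.LBaseChange (algebraMap A B)).obj X) j) := by
  have h1 : Module.Finite B ((ModuleCat.extendScalars.{u, u, u} (algebraMap A B)).obj
      ((DerivedCategory.homologyFunctor (ModuleCat.{u} A) j).obj X)) :=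
    Module.Finite.equiv (extendScalarsEquiv B _).symm
  exact Module.Finite.equiv (LBaseChangeHomologyIso A B X j).symm.toLinearEquiv

end Flat

section Rco

variable {A B : Type u} [CommRing A] [CommRing B] [Algebra A B]

lemma isGE_Rco (K : Dual.D A) (a : ℤ) [K.IsGE a] :
    ((Rco (algebraMap A B)).obj K).IsGE a := by
  rw [DerivedCategory.isGE_iff]
  intro j hj
  have key : ∀ c : (DerivedCategory.homologyFunctor (ModuleCat.{u} B) j).obj
      ((Rco (algebraMap A B)).obj K), c = 0 := by
    intro c
    obtain ⟨u, rfl⟩ := evH_surjective j _ c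
    have h0 : ((Coind.adj (algebraMap A B)).homAddEquiv (Sj B j) K).symm u = 0 :=
      TStructure.t.zero_of_isLE_of_isGE _ j a hj inferInstance inferInstance
    have h1 : u = 0 := by
      rw [← ((Coind.adj (algebraMap A B)).homAddEquiv (Sj B j) K).apply_symm_apply u, h0, map_zero]
    rw [h1, map_zero]
  have : Subsingleton ((DerivedCategory.homologyFunctor (ModuleCat.{u} B) j).obj
      ((Rco (algebraMap A B)).obj K)) := ⟨fun c c' => by rw [key c, key c']⟩
  exact ModuleCat.isZero_of_subsingleton _

end Rco

end Groth.Agent.Lib.Helper13.Shriek
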