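import Groth.Agent.Lib.Helper13.LFR1
import Groth.Agent.Lib.Helper13.ShriekCoh
import Groth.Agent.Lib.Helper13.Shriek3
import Groth.Agent.Lib.Helper13.RcoBC1
import Groth.Agent.Lib.Helper13.PCDevissage
import Groth.Agent.S7057

/-!
# Derived base change of `RΓ_I` along ring endomorphisms contracting `I`
-/

set_option autoImplicit false
set_option maxHeartbeats 400000
set_option linter.style.haveILetI false
universe u
open CategoryTheory CategoryTheory.Limits Pretriangulated
open scoped TensorProduct

namespace Groth.Agent.Lib.Helper13.LFR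

open Groth.Agent.Lib.Helper13.LDC Groth.Agent.Lib.Helper13
  Groth.Agent.Lib.Helper13.DR Groth.Agent.Lib.Helper13.Shriek Groth.Agent.Lib.Helper13.PC
  Groth.Agent.Lib.Helper2.RGTors Groth.Agent.Lib.Helper2.TorsExt

attribute [local instance] HasDerivedCategory.standard

section Tors

variable {A : Type u} [CommRing A]

lemma isZero_LBaseChange_of_TorsD {f : A} {X : Dual.D A} (h : TorsD f X) :
    IsZero ((DRing.LBaseChange (algebraMap A (Localization.Away f))).obj X) := by
  apply PC.isZero_of_forall_isZero_homology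
  intro j
  refine IsZero.of_iso ?_ (LBaseChangeHomologyIso A (Localization.Away f) X j)
  have hs := subsingleton_tensor_of_FTors f (h j)
  haveI : Subsingleton ((ModuleCat.extendScalars.{u, u, u}
      (algebraMap A (Localization.Away f))).obj
        ((DerivedCategory.homologyFunctor (ModuleCat.{u} A) j).obj X)) :=
    (extendScalarsEquiv (Localization.Away f) _).toEquiv.subsingleton
  exact ModuleCat.isZero_of_subsingleton _

lemma TorsD_of_isZero_LBaseChange {f : A} {X : Dual.D A}
    (h : IsZero ((DRing.LBaseChange (algebraMap A (Localization.Away f))).obj X)) :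
    TorsD f X := by
  intro j
  apply FTors.of_subsingleton_tensor
  have hz : IsZero ((ModuleCat.extendScalars.{u, u, u}
      (algebraMap A (Localization.Away f))).obj
        ((DerivedCategory.homologyFunctor (ModuleCat.{u} A) j).obj X)) :=
    ((DerivedCategory.homologyFunctor (ModuleCat.{u} (Localization.Away f)) j).map_isZero h).of_iso
      (LBaseChangeHomologyIso A (Localization.Away f) X j).symm
  haveI := ModuleCat.subsingleton_of_isZero hz
  exact (extendScalarsEquiv (Localization.Away f) _).symm.toEquiv.subsingleton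

lemma isZero_LBaseChange_obj {B : Type u} [CommRing B] (φ : A →+* B) [DRing.HasLBaseChange φ]
    {Z : Dual.D A} (hZ : IsZero Z) : IsZero ((DRing.LBaseChange φ).obj Z) := by
  rw [IsZero.iff_id_eq_zero]
  apply ((LBaseChangeAdj φ).homEquiv _ _).injective
  exact hZ.eq_of_src _ _

/-- Derived base change preserves torsion cohomology. -/
lemma TorsD_LBaseChange {B : Type u} [CommRing B] (φ : A →+* B) {f : A} {X : Dual.D A}
    (h : TorsD f X) : TorsD (φ f) ((DRing.LBaseChange φ).obj X) := by
  apply TorsD_of_isZero_LBaseChange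
  let G : Localization.Away f →+* Localization.Away (φ f) := Localization.awayMap φ f
  let χ : A →+* Localization.Away (φ f) := (algebraMap B (Localization.Away (φ f))).comp φ
  have hG : χ = G.comp (algebraMap A (Localization.Away f)) :=
    (IsLocalization.map_comp _).symm
  let e1 := (LComp φ (algebraMap B (Localization.Away (φ f))) χ rfl).app X
  let e2 := (LComp (algebraMap A (Localization.Away f)) G χ hG).app X
  have z0 : IsZero ((DRing.LBaseChange G).obj
      ((DRing.LBaseChange (algebraMap A (Localization.Away f))).obj X)) :=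
    isZero_LBaseChange_obj G (isZero_LBaseChange_of_TorsD h)
  have z1 : IsZero ((DRing.LBaseChange χ).obj X) := z0.of_iso e2.symm
  exact z1.of_iso e1

lemma TorsD_of_pow {f : A} {n : ℕ} {X : Dual.D A} (h : TorsD (f ^ n) X) : TorsD f X := by
  intro j x
  obtain ⟨m, hm⟩ := h j x
  exact ⟨n * m, by rw [pow_mul]; exact hm⟩

end Tors

section Main

variable {A : Type u} [CommRing A] [IsNoetherianRing A] (I : Ideal A) [DRing.HasRgammaI I]

/-- Derived base change along an endomorphism `φ` with `φ f` a power of `f` preserves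
`I`-power torsion cohomology. -/
lemma PT_LBaseChange (φ : A →+* A) [DRing.HasLBaseChange φ] (hφ : ∀ f : A, ∃ n : ℕ, φ f = f ^ n)
    (X : Dual.D A) (hX : PT I X) : PT I ((DRing.LBaseChange φ).obj X) := by
  obtain ⟨fs, rfl⟩ := exists_list I
  have hT := TorsL_of_powerTorsion fs X hX
  apply powerTorsion_of_TorsL fs
  intro f hf
  obtain ⟨n, hn⟩ := hφ f
  have h1 := TorsD_LBaseChange φ (hT f hf)
  rw [hn] at h1
  exact TorsD_of_pow h1

/-- `Lφ^*(RΓ_I K) ≅ RΓ_I(Lφ^* K)` for an endomorphism `φ` of a Noetherian ring with `φ f` a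
positive power of `f` for all `f`. -/
theorem nonempty_LBaseChange_RgammaI_iso (φ : A →+* A) [DRing.HasLBaseChange φ]
    (hφ : ∀ f : A, ∃ n : ℕ, n ≠ 0 ∧ φ f = f ^ n) (K : Dual.D A) :
    Nonempty ((DRing.LBaseChange φ).obj ((DRing.RgammaI I).obj K) ≅
      (DRing.RgammaI I).obj ((DRing.LBaseChange φ).obj K)) := by
  refine nonempty_iso_RgammaI_of_univ I ((DRing.LBaseChange φ).map ((DRing.RgammaIε I).app K))
    (PT_LBaseChange I φ (fun f => (hφ f).imp fun n h => h.2) _ (PT_RgammaI I K)) ?_
  intro M hM
  have hle : I.map φ ≤ I := by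
    rw [Ideal.map_le_iff_le_comap]
    intro x hx
    obtain ⟨n, hn0, hn⟩ := hφ x
    change φ x ∈ I
    rw [hn]
    exact Ideal.pow_mem_of_mem I hx n (Nat.pos_of_ne_zero hn0)
  have hM' : DRing.IsDerivedComplete I ((DRing.restrictD φ).obj M) :=
    (Groth.Agent.S7057.result φ I M).1 (fun f hf => hM f (hle hf))
  have hb := bijective_precomp_ε I K _ hM'
  let e1 := (LBaseChangeAdj φ).homEquiv K M
  let e2 := (LBaseChangeAdj φ).homEquiv ((DRing.RgammaI I).obj K) M
  have hcomp : (fun β : (DRing.LBaseChange φ).obj K ⟶ M =>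
      (DRing.LBaseChange φ).map ((DRing.RgammaIε I).app K) ≫ β) =
      e2.symm ∘ (fun g : K ⟶ (DRing.restrictD φ).obj M => (DRing.RgammaIε I).app K ≫ g) ∘ e1 := by
    funext β
    simp only [Function.comp_apply]
    apply e2.injective
    rw [Equiv.apply_symm_apply]
    exact (LBaseChangeAdj φ).homEquiv_naturality_left _ _
  rw [hcomp]
  exact e2.symm.bijective.comp (hb.comp e1.bijective)

end Main

end Groth.Agent.Lib.Helper13.LFR
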