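import Groth.Agent.Lib.Helper13.ExtTen1
import Groth.Agent.Lib.Helper13.LTensorCxV
import Groth.Agent.Lib.Helper13.HomTensorKProj
import Groth.Agent.Lib.Helper13.DTenKProj
import Groth.Agent.Lib.Helper13.GlobalMix3
import Groth.Agent.Lib.Helper13.Shriek2

/-!
# Derived base change commutes with the derived tensor product with a complex
-/

set_option autoImplicit false
set_option linter.style.haveILetI false
universe u
open CategoryTheory CategoryTheory.Limits MonoidalCategory

namespace Groth.Agent.Lib.Helper13.LTBC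

open Groth.Agent.Lib.Helper13.DR Groth.Agent.Lib.Helper13.PC Groth.Agent.Lib.Helper13.Shriek
open DerivedCategory

attribute [local instance] HasDerivedCategory.standard

variable {A A' : Type u} [CommRing A] [CommRing A'] (φ : A →+* A')

/-- `(N ⊗^L_A W) ⊗^L_A A' ≅ (N ⊗^L_A A') ⊗^L_{A'} (W ⊗_A A')` for K-projective `W`. -/
theorem nonempty_LBaseChange_LTensorCx_iso (W : DRing.Cx A) [W.IsKProjective] (N : Dual.D A) :
    Nonempty ((DRing.LBaseChange φ).obj ((DRing.LTensorCx A W).obj N) ≅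
      (DRing.LTensorCx A' ((DTen.extCx φ).obj W)).obj ((DRing.LBaseChange φ).obj N)) := by
  obtain ⟨F, hF, -, ⟨e⟩⟩ := Groth.Agent.Lib.Helper13.SF.exists_kprojective_rep N
  haveI := hF
  haveI : (F ⊗ W).IsKProjective := Groth.Agent.Lib.Helper13.HT.isKProjective_tensor F W
  haveI : ((DTen.extCx φ).obj F).IsKProjective := Groth.Agent.Lib.Helper13.DT.isKProjective_extCx φ F
  exact ⟨(DRing.LBaseChange φ).mapIso ((DRing.LTensorCx A W).mapIso e.symm ≪≫
      Groth.Agent.Lib.Helper13.DV.LTensorCxIso W F) ≪≫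
    LBaseChangeIso φ (F ⊗ W) ≪≫
    Q.mapIso (Groth.Agent.Lib.Helper13.ET.extTenIso φ F W) ≪≫
    (Groth.Agent.Lib.Helper13.DV.LTensorCxIso ((DTen.extCx φ).obj W) ((DTen.extCx φ).obj F)).symm ≪≫
    (DRing.LTensorCx A' ((DTen.extCx φ).obj W)).mapIso
      ((LBaseChangeIso φ F).symm ≪≫ (DRing.LBaseChange φ).mapIso e)⟩

end Groth.Agent.Lib.Helper13.LTBC
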