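import Groth.Agent.Lib.Helper13.DualBC36
import Groth.Agent.Lib.Helper16.ExtRegularQuot
import Groth.Agent.Lib.Helper18.CM12

/-!
# `RHom_B(B/(xs), B) = (B/(xs))[-c]` for a weakly regular sequence `xs` of length `c`
-/

set_option autoImplicit false
set_option linter.unusedSectionVars false
set_option linter.style.haveILetI false

open CategoryTheory CategoryTheory.Limits Pretriangulated TensorProduct

universe u

namespace Groth.Agent.Lib.Helper13.LciInv

open DerivedCategory Groth.Agent.Lib.Helper13.Coind Groth.Agent.Lib.Helper13.PC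
  Groth.Agent.Lib.Helper13.DR Groth.Agent.Lib.Helper13.Shriek Groth.Agent.Lib.Helper13.BD
  Groth.Agent.Lib.Helper13.HomBC Groth.Agent.Lib.Helper13.DualBC

attribute [local instance] HasDerivedCategory.standard

section Reg

variable (B F : Type u) [CommRing B] [CommRing F] [Algebra B F]

/-- The `Hom` groups `Hom_{D(B)}(F, B[j])` for `F = B/(xs)` with `xs` weakly regular. -/
theorem hom_regular_quot (hs : Function.Surjective (algebraMap B F)) (xs : List B)
    (hreg : RingTheory.Sequence.IsWeaklyRegular B xs)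
    (hker : RingHom.ker (algebraMap B F) = Ideal.ofList xs) :
    (∀ j : ℤ, j ≠ (xs.length : ℤ) → Subsingleton (Dual.inD B F ⟶ (Dual.inD B B)⟦j⟧)) ∧
    Nonempty ((Dual.inD B F ⟶ (Dual.inD B B)⟦(xs.length : ℤ)⟧) ≃ₗ[B] F) := by
  -- `F ≃ B/(xs)`
  let e0 : (B ⧸ Ideal.ofList xs) ≃ₗ[B] F :=
    (Submodule.quotEquivOfEq _ _ (by rw [← hker]; rfl)).trans
      ((Algebra.linearMap B F).quotKerEquivOfSurjective hs)
  let E : ∀ k : ℕ, (Dual.inD B F ⟶ (Dual.inD B B)⟦(k : ℤ)⟧) ≃ₗ[B]
      Abelian.Ext.{u} (ModuleCat.of B (B ⧸ Ideal.ofList xs)) (ModuleCat.of B B) k := fun k =>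
    (Abelian.Ext.homLinearEquiv (R := B) (X := ModuleCat.of B F) (Y := ModuleCat.of B B)
      (n := k)).symm.trans
      (Groth.Agent.Lib.Helper16.ExtRegQuot.extCongrLeft e0.toModuleIso (ModuleCat.of B B) k)
  obtain ⟨hhi, ⟨etop⟩⟩ := Groth.Agent.Lib.Helper16.ExtRegQuot.ext_quot_regular xs hreg B
  have hann : ∀ x ∈ xs, x ∈ Module.annihilator B (ModuleCat.of B (B ⧸ Ideal.ofList xs)) := by
    intro x hx
    rw [Module.mem_annihilator]
    intro y
    obtain ⟨b, rfl⟩ := Ideal.Quotient.mk_surjective y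
    change x • (Ideal.Quotient.mk _ b) = 0
    rw [← Ideal.Quotient.mk_eq_mk, ← Submodule.Quotient.mk_smul, Submodule.Quotient.mk_eq_zero]
    exact Ideal.mul_mem_right _ _ (Ideal.subset_span hx)
  have hlo := Groth.Agent.Lib.Helper18.CM.subsingleton_ext_of_isWeaklyRegular
    (ModuleCat.of B (B ⧸ Ideal.ofList xs)) xs hann B hreg
  let t := (DerivedCategory.TStructure.t : Triangulated.TStructure (Dual.D B))
  refine ⟨fun j hj => ?_, ?_⟩
  · rcases lt_or_ge j 0 with hneg | hpos
    · have h1 : t.IsLE (Dual.inD B F) 0 := (inferInstance : (Dual.inD B F).IsLE 0)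
      have h0 : t.IsGE (Dual.inD B B) 0 := (inferInstance : (Dual.inD B B).IsGE 0)
      have h2 : t.IsGE ((Dual.inD B B)⟦j⟧) (-j) := t.isGE_shift (Dual.inD B B) 0 j (-j) (by lia)
      refine ⟨fun f g => ?_⟩
      rw [t.zero_of_isLE_of_isGE f 0 (-j) (by lia) h1 h2,
        t.zero_of_isLE_of_isGE g 0 (-j) (by lia) h1 h2]
    · obtain ⟨k, rfl⟩ := Int.eq_ofNat_of_zero_le hpos
      have hk : k ≠ xs.length := fun h => hj (by rw [h])
      rcases lt_or_gt_of_ne hk with h | h
      · have := hlo k h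
        exact (E k).toEquiv.subsingleton
      · have := hhi k h
        exact (E k).toEquiv.subsingleton
  · have hI : (Ideal.ofList xs • ⊤ : Submodule B B) = Ideal.ofList xs := by
      rw [smul_eq_mul, Ideal.mul_top]
    exact ⟨(E xs.length).trans (etop.trans ((Submodule.quotEquivOfEq _ _ hI).trans e0))⟩

/-- `RHom_B(B/(xs), B) = (B/(xs))[-c]` for a weakly regular sequence `xs` of length `c`. -/
theorem nonempty_Rco_iso_of_regular (hs : Function.Surjective (algebraMap B F)) (xs : List B)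
    (hreg : RingTheory.Sequence.IsWeaklyRegular B xs)
    (hker : RingHom.ker (algebraMap B F) = Ideal.ofList xs) :
    Nonempty ((Rco (algebraMap B F)).obj (Dual.inD B B) ≅
      (Dual.inD F F)⟦-(xs.length : ℤ)⟧) := by
  obtain ⟨h0, ⟨ε⟩⟩ := hom_regular_quot B F hs xs hreg hker
  refine nonempty_iso_shift_self_of_HD F _ (xs.length : ℤ) (fun j hj => ?_) ?_
  · have := h0 j hj
    exact (HDRcoEquiv B F (Dual.inD B B) j).subsingleton
  · exact nonempty_linearEquiv_self_of_semilinear hs
      (HDRcoEquiv B F (Dual.inD B B) (xs.length : ℤ))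
      (HDRcoEquiv_smul B F (Dual.inD B B) (xs.length : ℤ)) ε

end Reg

end Groth.Agent.Lib.Helper13.LciInv
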