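import Groth.Agent.Lib.Helper13.LciInv1
import Groth.Agent.Lib.Helper16.GorLCI2
import Groth.Agent.Lib.Helper13.RelDual1

/-!
# Local structure of Koszul-regular ideals and localization of `RHom_P(A, P)`
-/

set_option autoImplicit false
set_option linter.unusedSectionVars false
set_option linter.style.haveILetI false

open CategoryTheory CategoryTheory.Limits Pretriangulated TensorProduct

universe u

namespace Groth.Agent.Lib.Helper13.LciInv

open DerivedCategory Groth.Agent.Lib.Helper13.Coind Groth.Agent.Lib.Helper13.PC
  Groth.Agent.Lib.Helper13.DR Groth.Agent.Lib.Helper13.Shriek Groth.Agent.Lib.Helper13.BD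
  Groth.Agent.Lib.Helper13.HomBC Groth.Agent.Lib.Helper13.DualBC

attribute [local instance] HasDerivedCategory.standard

section Local

open Submodule IsLocalRing RingTheory.Sequence Groth.Agent.Lib.Helper16.CIInv
  Groth.Agent.Lib.Helper16.GorLCI

/-- A Koszul-regular ideal of a Noetherian ring is generated by a regular sequence in the local
ring of any prime containing it. -/
theorem exists_regular_local (P : Type u) [CommRing P] [IsNoetherianRing P] (I : Ideal P)
    (hI : LCI.IsKoszulRegularIdeal I) (p : Ideal P) [p.IsPrime] (hIp : I ≤ p) :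
    ∃ xs : List (Localization.AtPrime p), IsWeaklyRegular (Localization.AtPrime p) xs ∧
      Ideal.ofList xs = I.map (algebraMap P (Localization.AtPrime p)) := by
  obtain ⟨g, hg, l, hl, hIl⟩ := hI ⟨p, inferInstance⟩ hIp
  obtain ⟨c, l', h1, h2, h3⟩ :=
    Groth.Agent.Lib.Helper1.KoszulLow.exists_global_data g (Localization.Away g) I l hl hIl
  set T := Localization.AtPrime p with hT
  set lam : Fin c → T := fun j => algebraMap P T (l' j) with hlam
  have hmem : ∀ j, lam j ∈ maximalIdeal T := by
    intro j
    rw [← Localization.AtPrime.map_eq_maximalIdeal]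
    exact Ideal.mem_map_of_mem _ (hIp (h1 j))
  have hH := ker_lc_le_kosz_localization p l' g hg h3
  have hreg := isWeaklyRegular_of_ker_lc_le_kosz c lam hmem hH
  have hofList : Ideal.ofList (List.ofFn lam) = Ideal.span (Set.range lam) := by
    rw [Ideal.ofList]
    congr 1
    ext b
    simp [List.mem_ofFn]
  refine ⟨List.ofFn lam, hreg, ?_⟩
  rw [hofList]
  apply le_antisymm
  · rw [Ideal.span_le]
    rintro _ ⟨j, rfl⟩
    exact Ideal.mem_map_of_mem _ (h1 j)
  · rw [Ideal.map_le_iff_le_comap]
    intro x hx
    obtain ⟨M, hM⟩ := h2 x hx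
    rw [Ideal.mem_comap]
    have h4 : algebraMap P T (g ^ M * x) ∈ Ideal.span (Set.range lam) := by
      have : Set.range lam = algebraMap P T '' Set.range l' := by
        rw [← Set.range_comp]; rfl
      rw [this, ← Ideal.map_span]
      exact Ideal.mem_map_of_mem _ hM
    rw [map_mul] at h4
    have hunit : IsUnit (algebraMap P T (g ^ M)) :=
      IsLocalization.map_units T (⟨g ^ M, Submonoid.pow_mem _ hg M⟩ : p.primeCompl)
    exact (Ideal.unit_mul_mem_iff_mem _ hunit).mp h4

end Local

section Loc

variable (P A : Type u) [CommRing P] [CommRing A] [Algebra P A] [IsNoetherianRing P]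

/-- Localizing `RHom_P(A, P)` at a prime of `A`, for `A = P/I` with `I` Koszul-regular. -/
theorem nonempty_flatBC_Rco_iso_shift (hs : Function.Surjective (algebraMap P A))
    (hI : LCI.IsKoszulRegularIdeal (RingHom.ker (algebraMap P A))) (q : Ideal A) [q.IsPrime] :
    ∃ c : ℕ, Nonempty ((flatBC A (Localization.AtPrime q)).obj
      ((Rco (algebraMap P A)).obj (Dual.inD P P)) ≅
        (Dual.inD (Localization.AtPrime q) (Localization.AtPrime q))⟦-(c : ℤ)⟧) := by
  let Q : Ideal P := q.under P
  have hQ : Q.IsPrime := inferInstance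
  have hover : q.LiesOver Q := ⟨rfl⟩
  let T := Localization.AtPrime Q
  let Aq := Localization.AtPrime q
  let _ : Algebra T Aq := Localization.AtPrime.algebraOfLiesOver Q q
  have : IsScalarTower P A Aq := inferInstance
  have : IsScalarTower P T Aq := inferInstance
  have hIQ : RingHom.ker (algebraMap P A) ≤ Q := by
    intro x hx
    change algebraMap P A x ∈ q
    rw [RingHom.mem_ker.1 hx]
    exact zero_mem _
  have hsub : Algebra.algebraMapSubmonoid A Q.primeCompl = q.primeCompl := by
    ext a
    constructor
    · rintro ⟨b, hb, rfl⟩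
      exact hb
    · intro ha
      obtain ⟨b, rfl⟩ := hs a
      exact ⟨b, ha, rfl⟩
  have hloc : IsLocalization (Algebra.algebraMapSubmonoid A Q.primeCompl) Aq := by
    rw [hsub]
    infer_instance
  have hpo : Algebra.IsPushout P T A Aq :=
    (Algebra.isPushout_of_isLocalization Q.primeCompl T A Aq).symm
  have hfin : Module.Finite P A := Module.Finite.of_surjective (Algebra.linearMap P A) hs
  have hfl1 : Module.Flat P T := inferInstance
  have hfl2 : Module.Flat A Aq := inferInstance
  obtain ⟨sw⟩ := nonempty_LBaseChange_Rco_iso P A T Aq (Dual.inD P P) 0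
  obtain ⟨xs, hreg, hxs⟩ := exists_regular_local P _ hI Q hIQ
  have hmap : Submonoid.map (algebraMap P A) Q.primeCompl = q.primeCompl := hsub
  have hsT : Function.Surjective (algebraMap T Aq) := by
    have : IsLocalization (Submonoid.map (algebraMap P A) Q.primeCompl) Aq := by
      rw [hmap]
      infer_instance
    exact IsLocalization.map_surjective_of_surjective Q.primeCompl T Aq hs
  have hkT : RingHom.ker (algebraMap T Aq) = Ideal.ofList xs := by
    rw [hxs]
    exact IsLocalization.ker_map (S := T) Aq (algebraMap P A) hmap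
  obtain ⟨i1⟩ := nonempty_Rco_iso_of_regular T Aq hsT xs hreg hkT
  refine ⟨xs.length, ⟨((LBaseChangeFlatIso A Aq).app _).symm ≪≫ sw ≪≫
    (Rco (algebraMap T Aq)).mapIso (Groth.Agent.Lib.Helper13.RelDual.LBaseChangeSelfIso P T) ≪≫
    i1⟩⟩

end Loc

end Groth.Agent.Lib.Helper13.LciInv
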