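import Groth.Agent.Lib.Helper13.LciInv2
import Groth.Agent.Lib.Helper16.KzReg1

/-!
# Spreading out: a bounded coherent complex which is a shifted unit at a prime is a shifted unit
on a principal open neighbourhood
-/

set_option autoImplicit false
set_option linter.unusedSectionVars false
set_option linter.style.haveILetI false

open CategoryTheory CategoryTheory.Limits Pretriangulated TensorProduct

universe u

namespace Groth.Agent.Lib.Helper13.LciInv

open DerivedCategory Groth.Agent.Lib.Helper13.Coind Groth.Agent.Lib.Helper13.PC
  Groth.Agent.Lib.Helper13.DR Groth.Agent.Lib.Helper13.Shriek Groth.Agent.Lib.Helper13.BD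
  Groth.Agent.Lib.Helper13.HomBC Groth.Agent.Lib.Helper13.DualBC

attribute [local instance] HasDerivedCategory.standard

section Mod

variable (A : Type u) [CommRing A] (q : Ideal A) [q.IsPrime]

/-- A finite module vanishing at a prime vanishes on a principal open neighbourhood. -/
theorem exists_subsingleton_away (M : Type u) [AddCommGroup M] [Module A M] [Module.Finite A M]
    (h : Subsingleton (LocalizedModule q.primeCompl M)) :
    ∃ s : A, s ∉ q ∧ ∀ f : A, s ∣ f → Subsingleton (LocalizedModule (Submonoid.powers f) M) := by
  rw [LocalizedModule.subsingleton_iff] at h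
  obtain ⟨s, hs, hsy⟩ := Groth.Agent.Lib.Helper16.KzComp.exists_notMem_smul_eq_zero q M h
  refine ⟨s, hs, fun f hf => ?_⟩
  rw [LocalizedModule.subsingleton_iff]
  intro m
  obtain ⟨t, rfl⟩ := hf
  refine ⟨s * t, Submonoid.mem_powers _, ?_⟩
  rw [mul_comm, mul_smul, hsy, smul_zero]

/-- A finite module over a Noetherian ring which is free of rank one at a prime is free of
rank one on a principal open neighbourhood. -/
theorem exists_linearEquiv_away [IsNoetherianRing A] (M : Type u) [AddCommGroup M] [Module A M]
    [Module.Finite A M]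
    (ε : Localization.AtPrime q ≃ₗ[Localization.AtPrime q] LocalizedModule q.primeCompl M) :
    ∃ s : A, s ∉ q ∧ ∀ f : A, s ∣ f → Nonempty (Localization.Away f ≃ₗ[Localization.Away f]
      LocalizedModule (Submonoid.powers f) M) := by
  obtain ⟨m, s, hms⟩ : ∃ (m : M) (s : q.primeCompl), LocalizedModule.mk m s = ε 1 := by
    induction ε 1 using LocalizedModule.induction_on with
    | h m s => exact ⟨m, s, rfl⟩
  let l : A →ₗ[A] M := LinearMap.toSpanSingleton A M m
  let fA : A →ₗ[A] Localization.AtPrime q := Algebra.linearMap A _
  let g := LocalizedModule.mkLinearMap q.primeCompl M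
  have hfp : Module.FinitePresentation A M := Module.finitePresentation_of_finite A M
  have hu : IsUnit (algebraMap A (Localization.AtPrime q) s) :=
    IsLocalization.map_units _ s
  have hL : ∀ x : Localization.AtPrime q, IsLocalizedModule.map q.primeCompl fA g l x =
      ε (algebraMap A (Localization.AtPrime q) s * x) := by
    intro x
    have key : IsLocalizedModule.map q.primeCompl fA g l =
        (ε.toLinearMap.restrictScalars A) ∘ₗ
          (LinearMap.lsmul A (Localization.AtPrime q) (s : A)) := by
      apply IsLocalizedModule.linearMap_ext q.primeCompl fA g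
      ext
      simp only [LinearMap.coe_comp, Function.comp_apply, IsLocalizedModule.map_apply]
      change g (l 1) = ε ((s : A) • fA 1)
      rw [LinearMap.toSpanSingleton_apply, one_smul]
      change LocalizedModule.mk m 1 = ε ((s : A) • (algebraMap A (Localization.AtPrime q) 1))
      rw [map_one, Algebra.smul_def, mul_one]
      have : algebraMap A (Localization.AtPrime q) (s : A) =
          algebraMap A (Localization.AtPrime q) (s : A) • (1 : Localization.AtPrime q) := by
        rw [smul_eq_mul, mul_one]
      rw [this, map_smul, ← hms, algebraMap_smul, LocalizedModule.smul'_mk]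
      exact (LocalizedModule.mk_cancel s m).symm
    rw [key]
    simp [Algebra.smul_def]
  have hbij : Function.Bijective (IsLocalizedModule.map q.primeCompl fA g l) := by
    have h1 : (IsLocalizedModule.map q.primeCompl fA g l : _ → _) =
        ε ∘ fun x => algebraMap A (Localization.AtPrime q) s * x := funext hL
    rw [h1]
    exact ε.bijective.comp (IsUnit.isUnit_iff_mulLeft_bijective.1 hu)
  obtain ⟨r, hr, hr'⟩ := exists_bijective_map_powers q.primeCompl fA g l hbij
  refine ⟨r, hr, fun f hf => ?_⟩
  have h2 := hr' f hf
  let e1 : LocalizedModule (Submonoid.powers f) A ≃ₗ[Localization.Away f]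
      LocalizedModule (Submonoid.powers f) M := LinearEquiv.ofBijective _ h2
  let e2 : LocalizedModule (Submonoid.powers f) A ≃ₗ[Localization.Away f] Localization.Away f :=
    (LocalizedModule.equivTensorProduct (Submonoid.powers f) A).trans
      (TensorProduct.AlgebraTensorModule.rid A (Localization.Away f) (Localization.Away f))
  exact ⟨e2.symm.trans e1⟩

end Mod

section Der

variable (A : Type u) [CommRing A]

/-- Cohomology of the localization of a complex is the localization of its cohomology. -/
noncomputable def HDLocEquiv (S : Submonoid A) (X : Dual.D A) (j : ℤ) :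
    Dual.HD (Localization S) ((flatBC A (Localization S)).obj X) j ≃ₗ[Localization S]
      LocalizedModule S (Dual.HD A X j) :=
  ((flatBCHomologyIso A (Localization S) X j).toLinearEquiv.trans
    (extendScalarsEquiv (Localization S) _)).trans
    (LocalizedModule.equivTensorProduct S _).symm

/-- Cohomology of a shifted module. -/
lemma subsingleton_HD_inD_shift (F : Type u) [CommRing F] (c j : ℤ) (hj : j ≠ c) :
    Subsingleton (Dual.HD F ((Dual.inD F F)⟦-c⟧) j) := by
  have hz : IsZero ((DerivedCategory.homologyFunctor (ModuleCat.{u} F) (-c + j)).obj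
      (Dual.inD F F)) := PC.isZero_homology_single 0 (-c + j) (by omega) _
  exact ModuleCat.subsingleton_of_isZero (hz.of_iso
    (((DerivedCategory.homologyFunctor (ModuleCat.{u} F) 0).shiftIso (-c) j (-c + j) rfl).app
      (Dual.inD F F)))

/-- Cohomology of a shifted module. -/
noncomputable def HDinDShiftEquiv (F : Type u) [CommRing F] (c : ℤ) :
    Dual.HD F ((Dual.inD F F)⟦-c⟧) c ≃ₗ[F] F :=
  ((((DerivedCategory.homologyFunctor (ModuleCat.{u} F) 0).shiftIso (-c) c 0 (by omega)).app
      (Dual.inD F F)) ≪≫ homologySingleIso 0 (ModuleCat.of F F)).toLinearEquiv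

/-- Spreading out a shifted unit from a prime to a principal open neighbourhood. -/
theorem exists_away_iso_shift [IsNoetherianRing A] (q : Ideal A) [q.IsPrime] (X : Dual.D A)
    (hfin : ∀ j : ℤ, Module.Finite A (Dual.HD A X j))
    (hbdd : ∃ a b : ℤ, ∀ j : ℤ, (j < a ∨ b < j) → Subsingleton (Dual.HD A X j)) (c : ℤ)
    (hq : Nonempty ((flatBC A (Localization.AtPrime q)).obj X ≅
      (Dual.inD (Localization.AtPrime q) (Localization.AtPrime q))⟦-c⟧)) :
    ∃ f : A, f ∉ q ∧ Nonempty ((flatBC A (Localization.Away f)).obj X ≅
      (Dual.inD (Localization.Away f) (Localization.Away f))⟦-c⟧) := by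
  classical
  obtain ⟨a, b, hab⟩ := hbdd
  obtain ⟨ι⟩ := hq
  -- vanishing at `q`
  have hvan : ∀ j : ℤ, j ≠ c → ∃ s : A, s ∉ q ∧ ∀ f : A, s ∣ f →
      Subsingleton (LocalizedModule (Submonoid.powers f) (Dual.HD A X j)) := by
    intro j hj
    have := hfin j
    apply exists_subsingleton_away A q
    have h1 := subsingleton_HD_inD_shift (Localization.AtPrime q) c j hj
    have h2 : Subsingleton (Dual.HD (Localization.AtPrime q)
        ((flatBC A (Localization.AtPrime q)).obj X) j) :=
      ((DerivedCategory.homologyFunctor _ j).mapIso ι).toLinearEquiv.toEquiv.subsingleton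
    exact (HDLocEquiv A q.primeCompl X j).symm.toEquiv.subsingleton
  choose σ hσ1 hσ2 using hvan
  let τ : ℤ → A := fun j => if h : j ≠ c then σ j h else 1
  have hτ1 : ∀ j, τ j ∉ q := by
    intro j
    by_cases h : j ≠ c
    · simp only [τ, dif_pos h]
      exact hσ1 j h
    · simp only [τ, dif_neg h]
      exact (Ideal.ne_top_iff_one q).1 (Ideal.IsPrime.ne_top inferInstance)
  -- the unit at `q`
  have := hfin c
  let ε : Localization.AtPrime q ≃ₗ[Localization.AtPrime q]
      LocalizedModule q.primeCompl (Dual.HD A X c) :=
    ((HDinDShiftEquiv (Localization.AtPrime q) c).symm.trans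
      ((DerivedCategory.homologyFunctor _ c).mapIso ι).toLinearEquiv.symm).trans
      (HDLocEquiv A q.primeCompl X c)
  obtain ⟨sc, hsc, hsc'⟩ := exists_linearEquiv_away A q (Dual.HD A X c) ε
  let f : A := (∏ j ∈ Finset.Icc a b, τ j) * sc
  have hf : f ∉ q := by
    intro hmem
    rcases Ideal.IsPrime.mem_or_mem inferInstance hmem with h | h
    · rw [Ideal.IsPrime.prod_mem_iff] at h
      obtain ⟨j, -, hj⟩ := h
      exact hτ1 j hj
    · exact hsc h
  refine ⟨f, hf, ?_⟩
  refine nonempty_iso_shift_self_of_HD (Localization.Away f) _ c (fun j hj => ?_) ?_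
  · have h1 : Subsingleton (LocalizedModule (Submonoid.powers f) (Dual.HD A X j)) := by
      by_cases hj' : a ≤ j ∧ j ≤ b
      · apply hσ2 j hj
        have : σ j hj = τ j := by simp only [τ, dif_pos hj]
        rw [this]
        exact Dvd.dvd.mul_right (Finset.dvd_prod_of_mem τ (Finset.mem_Icc.2 hj')) sc
      · have := hab j (by omega)
        infer_instance
    exact (HDLocEquiv A (Submonoid.powers f) X j).toEquiv.subsingleton
  · obtain ⟨e⟩ := hsc' f (Dvd.intro_left _ rfl)
    exact ⟨e.trans (HDLocEquiv A (Submonoid.powers f) X c).symm⟩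

end Der

end Groth.Agent.Lib.Helper13.LciInv
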