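import Mathlib.Algebra.Homology.HomologicalComplex
import Mathlib.Algebra.Category.ModuleCat.Basic
import Mathlib.Algebra.Module.Projective
import Mathlib.RingTheory.Ideal.Operations
import Mathlib.CategoryTheory.ObjectProperty.ClosedUnderIsomorphisms

set_option autoImplicit false
set_option linter.style.haveILetI false
universe u
open CategoryTheory

namespace Groth.Agent.Lib.Helper13.LC

variable {R : Type u} [CommRing R]

/-- Hypotheses for the lifting construction. -/
structure LiftHyp (I : Ideal R) (Pc : ObjectProperty (ModuleCat.{u} R))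
    (Q C : CochainComplex (ModuleCat.{u} R) ℤ) (Y : ℤ → ModuleCat.{u} R)
    (φ : ∀ n, (Q.X n × Y n) →ₗ[R] C.X n) (b : ℤ) : Prop where
  iso : Pc.IsClosedUnderIsomorphisms
  h1 : ∀ X : ModuleCat.{u} R, Pc X → Module.Projective R X
  h2 : ∀ X Y : ModuleCat.{u} R, Pc X → Pc (ModuleCat.of R (X × Y)) → Pc Y
  h3 : ∀ (X Y : ModuleCat.{u} R) (f : X ⟶ Y), Pc X → Pc Y →
      LinearMap.range f.hom ⊔ I • (⊤ : Submodule R Y) = ⊤ → Function.Surjective f.hom
  hP : ∀ n, Pc (ModuleCat.of R (Q.X n × Y n))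
  hY : ∀ n, Module.Projective R (Y n)
  φ_surj : ∀ n, Function.Surjective (φ n)
  φ_ker : ∀ n (x : Q.X n × Y n), φ n x = 0 ↔ x ∈ I • (⊤ : Submodule R (Q.X n × Y n))
  φ_Q : ∀ i j (q : Q.X i), φ j ((Q.d i j).hom q, 0) = (C.d i j).hom (φ i (q, 0))
  C_exact : ∀ i j k, i + 1 = j → j + 1 = k → ∀ c : C.X j, (C.d j k).hom c = 0 →
      ∃ c' : C.X i, (C.d i j).hom c' = c
  C_bdd : ∀ n, b < n → Subsingleton (C.X n)

section

variable {I : Ideal R} {Pc : ObjectProperty (ModuleCat.{u} R)}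
  {Q C : CochainComplex (ModuleCat.{u} R) ℤ} {Y : ℤ → ModuleCat.{u} R}
  {φ : ∀ n, (Q.X n × Y n) →ₗ[R] C.X n} {b : ℤ}

/-- A stage of the downward recursion: the module of cocycles in degree `n`. -/
structure Stage (I : Ideal R) (Pc : ObjectProperty (ModuleCat.{u} R))
    (Q C : CochainComplex (ModuleCat.{u} R) ℤ) (Y : ℤ → ModuleCat.{u} R)
    (φ : ∀ n, (Q.X n × Y n) →ₗ[R] C.X n) (n : ℤ) where
  Z : Submodule R (Q.X n × Y n)
  pc : Pc (ModuleCat.of R Z)
  le_ker : ∀ x ∈ Z, (C.d n (n + 1)).hom (φ n x) = 0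
  surj : ∀ c : C.X n, (C.d n (n + 1)).hom c = 0 → ∃ x ∈ Z, φ n x = c
  ker_le : ∀ x ∈ Z, φ n x = 0 → x ∈ I • Z
  dQ_mem : ∀ (m : ℤ) (q : Q.X m), (((Q.d m n).hom q, 0) : Q.X n × Y n) ∈ Z

variable (H : LiftHyp I Pc Q C Y φ b)
include H

lemma subsingleton_P (n : ℤ) (hn : b < n) : Subsingleton (Q.X n × Y n) := by
  haveI := H.C_bdd n hn
  have h0 : ∀ x : Q.X n × Y n, x ∈ I • (⊤ : Submodule R (Q.X n × Y n)) := fun x =>
    (H.φ_ker n x).1 (Subsingleton.elim _ _)
  have hs := H.h3 (ModuleCat.of R (Q.X n × Y n)) (ModuleCat.of R (Q.X n × Y n)) 0 (H.hP n) (H.hP n)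
    (by
      rw [eq_top_iff]
      intro x _
      exact Submodule.mem_sup_right (h0 x))
  refine ⟨fun x y => ?_⟩
  obtain ⟨x', hx'⟩ := hs x
  obtain ⟨y', hy'⟩ := hs y
  rw [← hx', ← hy']
  rfl

/-- The trivial stage above the bound. -/
noncomputable def stageTop (n : ℤ) (hn : b < n) : Stage I Pc Q C Y φ n where
  Z := ⊤
  pc := by
    haveI := H.iso
    exact (Pc.prop_iff_of_iso (LinearEquiv.toModuleIso (Submodule.topEquiv
      (R := R) (M := Q.X n × Y n)))).2 (H.hP n)
  le_ker x _ := by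
    haveI := H.C_bdd (n + 1) (by omega)
    exact Subsingleton.elim _ _
  surj c _ := by
    haveI := H.C_bdd n hn
    exact ⟨0, Submodule.mem_top, Subsingleton.elim _ _⟩
  ker_le x _ hx := (H.φ_ker n x).1 hx
  dQ_mem m q := Submodule.mem_top

omit H in
/-- A surjection onto a projective module splits off its kernel. -/
lemma exists_equiv_prod_ker {M N : Type u} [AddCommGroup M] [Module R M] [AddCommGroup N]
    [Module R N] [Module.Projective R N] (g : M →ₗ[R] N) (hg : Function.Surjective g) :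
    ∃ (e : M ≃ₗ[R] N × LinearMap.ker g) (π : M →ₗ[R] LinearMap.ker g),
      (∀ x : LinearMap.ker g, π x = x) := by
  obtain ⟨s, hs⟩ := Module.projective_lifting_property g LinearMap.id hg
  have hs' : ∀ z, g (s z) = z := fun z => by simpa using congr($hs z)
  let π : M →ₗ[R] LinearMap.ker g := (LinearMap.id - s ∘ₗ g).codRestrict _ (fun x => by
    simp [hs'])
  have hπ : ∀ x : LinearMap.ker g, π x = x := fun x => by
    apply Subtype.ext
    simp [π]
  refine ⟨LinearEquiv.ofLinearMap (g.prod π) (s.coprod (LinearMap.ker g).subtype) ?_ ?_, π, hπ⟩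
  · apply LinearMap.ext
    rintro ⟨z, k⟩
    apply Prod.ext
    · simp [hs']
    · apply Subtype.ext
      simp [π, hs']
  · apply LinearMap.ext
    intro x
    simp [π]

lemma exists_step (m n : ℤ) (hmn : m + 1 = n) (S : Stage I Pc Q C Y φ n) :
    ∃ g : (Q.X m × Y m) →ₗ[R] S.Z, Function.Surjective g ∧
      (∀ x, φ n (g x : Q.X n × Y n) = (C.d m n).hom (φ m x)) ∧
      (∀ q : Q.X m, ((g (q, 0) : S.Z) : Q.X n × Y n) = ((Q.d m n).hom q, 0)) := by
  have hdd : ∀ c : C.X m, (C.d n (n + 1)).hom ((C.d m n).hom c) = 0 := fun c => by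
    rw [← LinearMap.comp_apply, ← ModuleCat.hom_comp, C.d_comp_d, ModuleCat.hom_zero,
      LinearMap.zero_apply]
  let K := LinearMap.ker (C.d n (n + 1)).hom
  let π : S.Z →ₗ[R] K := ((φ n).comp S.Z.subtype).codRestrict K (fun z => S.le_ker z z.2)
  have hπ : Function.Surjective π := by
    rintro ⟨c, hc⟩
    obtain ⟨x, hx, rfl⟩ := S.surj c hc
    exact ⟨⟨x, hx⟩, rfl⟩
  let t : Y m →ₗ[R] K := ((C.d m n).hom.comp ((φ m).comp (LinearMap.inr R (Q.X m) (Y m)))).codRestrict K
    (fun y => hdd _)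
  haveI := H.hY m
  obtain ⟨gY, hgY⟩ := Module.projective_lifting_property π t hπ
  have hgY' : ∀ y, φ n (gY y : Q.X n × Y n) = (C.d m n).hom (φ m (0, y)) := fun y => by
    have := congr(($hgY y : C.X n))
    simpa [π, t] using this
  let gQ : Q.X m →ₗ[R] S.Z := ((LinearMap.inl R (Q.X n) (Y n)).comp (Q.d m n).hom).codRestrict S.Z
    (fun q => S.dQ_mem m q)
  let g : (Q.X m × Y m) →ₗ[R] S.Z := gQ.coprod gY
  have hgφ : ∀ x, φ n (g x : Q.X n × Y n) = (C.d m n).hom (φ m x) := by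
    rintro ⟨q, y⟩
    have h1 : g (q, y) = gQ q + gY y := LinearMap.coprod_apply _ _ _
    have h2 : φ m (q, y) = φ m (q, 0) + φ m (0, y) := by rw [← map_add]; simp
    rw [h1, h2, Submodule.coe_add, map_add, map_add, hgY' y]
    congr 1
    exact H.φ_Q m n q
  refine ⟨g, ?_, hgφ, ?_⟩
  · refine H.h3 (ModuleCat.of R (Q.X m × Y m)) (ModuleCat.of R S.Z) (ModuleCat.ofHom g) (H.hP m) S.pc ?_
    rw [eq_top_iff]
    intro z _
    have hz : (C.d n (n + 1)).hom (φ n z) = 0 := S.le_ker z z.2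
    obtain ⟨c', hc'⟩ := H.C_exact m n (n + 1) hmn rfl _ hz
    obtain ⟨x, rfl⟩ := H.φ_surj m c'
    have hw : φ n ((z - g x : S.Z) : Q.X n × Y n) = 0 := by
      rw [Submodule.coe_sub, map_sub, hgφ, hc', sub_self]
    have hw' := S.ker_le _ (z - g x).2 hw
    rw [← Submodule.mem_smul_top_iff] at hw'
    have : z = g x + (z - g x) := by abel
    rw [this]
    exact Submodule.add_mem_sup ⟨x, rfl⟩ hw'
  · intro q
    simp [g, gQ]

/-- The next stage: the kernel of the step map. -/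
noncomputable def nextStage (m n : ℤ) (hmn : m + 1 = n) (S : Stage I Pc Q C Y φ n)
    (g : (Q.X m × Y m) →ₗ[R] S.Z) (hg : Function.Surjective g)
    (hgφ : ∀ x, φ n (g x : Q.X n × Y n) = (C.d m n).hom (φ m x))
    (hgQ : ∀ q : Q.X m, ((g (q, 0) : S.Z) : Q.X n × Y n) = ((Q.d m n).hom q, 0)) :
    Stage I Pc Q C Y φ m where
  Z := LinearMap.ker g
  pc := by
    haveI := H.iso
    haveI : Module.Projective R S.Z := H.h1 _ S.pc
    obtain ⟨e, -, -⟩ := exists_equiv_prod_ker g hg
    have h1 : Pc (ModuleCat.of R (S.Z × LinearMap.ker g)) :=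
      (Pc.prop_iff_of_iso (LinearEquiv.toModuleIso e)).1 (H.hP m)
    exact H.h2 (ModuleCat.of R S.Z) (ModuleCat.of R (LinearMap.ker g)) S.pc h1
  le_ker x hx := by
    subst hmn
    rw [← hgφ, LinearMap.mem_ker.1 hx]
    simp
  surj c hc := by
    subst hmn
    obtain ⟨x, rfl⟩ := H.φ_surj m c
    have h1 : φ (m + 1) (g x : Q.X (m + 1) × Y (m + 1)) = 0 := by rw [hgφ, hc]
    have h2 := S.ker_le _ (g x).2 h1
    rw [← Submodule.mem_smul_top_iff] at h2
    have h3 : Submodule.map g (I • ⊤) = I • ⊤ := by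
      rw [Submodule.map_smul'', Submodule.map_top, LinearMap.range_eq_top.2 hg]
    rw [← h3] at h2
    obtain ⟨y, hy, hgy⟩ := h2
    refine ⟨x - y, ?_, ?_⟩
    · rw [LinearMap.mem_ker, map_sub, hgy, sub_self]
    · rw [map_sub, (H.φ_ker m y).2 hy, sub_zero]
  ker_le x hx hφx := by
    haveI : Module.Projective R S.Z := H.h1 _ S.pc
    obtain ⟨-, π, hπ⟩ := exists_equiv_prod_ker g hg
    have h1 : x ∈ I • (⊤ : Submodule R (Q.X m × Y m)) := (H.φ_ker m x).1 hφx
    have h2 : π x ∈ Submodule.map π (I • ⊤) := Submodule.mem_map_of_mem h1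
    rw [Submodule.map_smul''] at h2
    have h3 : π x ∈ I • (⊤ : Submodule R (LinearMap.ker g)) :=
      Submodule.smul_mono le_rfl le_top h2
    rw [Submodule.mem_smul_top_iff] at h3
    have h4 : π x = ⟨x, hx⟩ := hπ ⟨x, hx⟩
    rw [h4] at h3
    exact h3
  dQ_mem m' q := by
    rw [LinearMap.mem_ker]
    apply Subtype.ext
    rw [hgQ]
    have : (Q.d m n).hom ((Q.d m' m).hom q) = 0 := by
      rw [← LinearMap.comp_apply, ← ModuleCat.hom_comp, Q.d_comp_d, ModuleCat.hom_zero,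
        LinearMap.zero_apply]
    rw [this]
    rfl

/-- The step map, chosen. -/
noncomputable def stepG (m n : ℤ) (hmn : m + 1 = n) (S : Stage I Pc Q C Y φ n) :
    (Q.X m × Y m) →ₗ[R] S.Z := (exists_step H m n hmn S).choose

lemma stepG_surj (m n : ℤ) (hmn : m + 1 = n) (S : Stage I Pc Q C Y φ n) :
    Function.Surjective (stepG H m n hmn S) := (exists_step H m n hmn S).choose_spec.1

lemma stepG_φ (m n : ℤ) (hmn : m + 1 = n) (S : Stage I Pc Q C Y φ n) (x : Q.X m × Y m) :
    φ n (stepG H m n hmn S x : Q.X n × Y n) = (C.d m n).hom (φ m x) :=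
  (exists_step H m n hmn S).choose_spec.2.1 x

lemma stepG_Q (m n : ℤ) (hmn : m + 1 = n) (S : Stage I Pc Q C Y φ n) (q : Q.X m) :
    ((stepG H m n hmn S (q, 0) : S.Z) : Q.X n × Y n) = ((Q.d m n).hom q, 0) :=
  (exists_step H m n hmn S).choose_spec.2.2 q

/-- The step. -/
noncomputable def step (m n : ℤ) (hmn : m + 1 = n) (S : Stage I Pc Q C Y φ n) :
    Stage I Pc Q C Y φ m :=
  nextStage H m n hmn S (stepG H m n hmn S) (stepG_surj H m n hmn S) (stepG_φ H m n hmn S)
    (stepG_Q H m n hmn S)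

/-- All stages. -/
noncomputable def stage (n : ℤ) : Stage I Pc Q C Y φ n :=
  Int.inductionOn' n (b + 1) (stageTop H (b + 1) (by omega))
    (fun k hk _ => stageTop H (k + 1) (by omega))
    (fun k _ S => step H (k - 1) k (by omega) S)

lemma stage_of_gt (n : ℤ) (hn : b + 1 ≤ n) : (stage H n).Z = ⊤ := by
  obtain rfl | hlt := eq_or_lt_of_le hn
  · unfold stage
    rw [Int.inductionOn'_self]
    rfl
  · obtain ⟨k, rfl⟩ : ∃ k, n = k + 1 := ⟨n - 1, by omega⟩
    unfold stage
    rw [Int.inductionOn'_add_one (by omega)]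
    rfl

lemma stage_pred (m n : ℤ) (hmn : m + 1 = n) (hn : n ≤ b + 1) :
    stage H m = step H m n hmn (stage H n) := by
  obtain rfl : m = n - 1 := by omega
  unfold stage
  rw [Int.inductionOn'_sub_one hn]

lemma stage_Z (m n : ℤ) (hmn : m + 1 = n) :
    (stage H m).Z = LinearMap.ker (stepG H m n hmn (stage H n)) := by
  by_cases hn : n ≤ b + 1
  · rw [stage_pred H m n hmn hn]
    rfl
  · rw [stage_of_gt H m (by omega)]
    haveI := subsingleton_P H n (by omega)
    symm
    rw [eq_top_iff]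
    intro x _
    rw [LinearMap.mem_ker]
    exact Subsingleton.elim _ _

/-- The differential. -/
noncomputable def dd (i j : ℤ) : (Q.X i × Y i) →ₗ[R] (Q.X j × Y j) :=
  if h : i + 1 = j then (stage H j).Z.subtype.comp (stepG H i j h (stage H j)) else 0

lemma dd_eq (i j : ℤ) (h : i + 1 = j) (x : Q.X i × Y i) :
    dd H i j x = (stepG H i j h (stage H j) x : Q.X j × Y j) := by
  unfold dd
  rw [dif_pos h]
  rfl

theorem exists_differential : ∃ d : ∀ i j : ℤ, (Q.X i × Y i) →ₗ[R] (Q.X j × Y j),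
    (∀ i j, i + 1 ≠ j → d i j = 0) ∧
    (∀ i j k, (d j k).comp (d i j) = 0) ∧
    (∀ i j k, i + 1 = j → j + 1 = k → ∀ x, d j k x = 0 → ∃ y, d i j y = x) ∧
    (∀ i j (q : Q.X i), d i j (q, 0) = ((Q.d i j).hom q, 0)) ∧
    (∀ i j x, φ j (d i j x) = (C.d i j).hom (φ i x)) := by
  refine ⟨dd H, ?_, ?_, ?_, ?_, ?_⟩
  · intro i j h
    unfold dd
    rw [dif_neg h]
  · intro i j k
    by_cases h1 : i + 1 = j
    · by_cases h2 : j + 1 = k
      · apply LinearMap.ext
        intro x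
        rw [LinearMap.comp_apply, dd_eq H j k h2, dd_eq H i j h1]
        have hmem : ∀ y : Q.X j × Y j, y ∈ (stage H j).Z → stepG H j k h2 (stage H k) y = 0 := by
          intro y hy
          rw [stage_Z H j k h2, LinearMap.mem_ker] at hy
          exact hy
        rw [hmem _ (stepG H i j h1 (stage H j) x).2]
        rfl
      · unfold dd
        rw [dif_neg h2, LinearMap.zero_comp]
    · unfold dd
      rw [dif_neg h1, LinearMap.comp_zero]
  · intro i j k h1 h2 x hx
    rw [dd_eq H j k h2] at hx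
    have hx' : stepG H j k h2 (stage H k) x = 0 := Subtype.ext hx
    have hmem : x ∈ (stage H j).Z := by
      rw [stage_Z H j k h2, LinearMap.mem_ker]
      exact hx'
    obtain ⟨y, hy⟩ := stepG_surj H i j h1 (stage H j) ⟨x, hmem⟩
    refine ⟨y, ?_⟩
    rw [dd_eq H i j h1, hy]
  · intro i j q
    by_cases h : i + 1 = j
    · rw [dd_eq H i j h]
      exact stepG_Q H i j h (stage H j) q
    · unfold dd
      rw [dif_neg h, Q.shape i j h]
      rfl
  · intro i j x
    by_cases h : i + 1 = j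
    · rw [dd_eq H i j h]
      exact stepG_φ H i j h (stage H j) x
    · unfold dd
      rw [dif_neg h, C.shape i j h]
      simp

/-- The cocycles of the constructed complex lie in `Pc`. Not needed for the main statements. -/
lemma stage_pc (n : ℤ) : Pc (ModuleCat.of R (stage H n).Z) := (stage H n).pc

end

end Groth.Agent.Lib.Helper13.LC
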