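import Groth.Agent.Lib.Helper13.LiftCx1
import Mathlib.Algebra.Category.ModuleCat.ChangeOfRings
import Mathlib.Algebra.Homology.ShortComplex.ModuleCat
import Mathlib.Algebra.Homology.ShortComplex.HomologicalComplex
import Mathlib.Algebra.Homology.Additive
import Mathlib.RingTheory.Ideal.Quotient.Operations
import Mathlib.RingTheory.TensorProduct.Basic

set_option autoImplicit false
set_option linter.style.haveILetI false
universe u
open CategoryTheory

namespace Groth.Agent.Lib.Helper13.LC

variable {R : Type u} [CommRing R]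

/-- A cochain complex of modules from a family of linear maps. -/
noncomputable def mkCx (X : ℤ → ModuleCat.{u} R) (d : ∀ i j : ℤ, X i →ₗ[R] X j)
    (hshape : ∀ i j, i + 1 ≠ j → d i j = 0) (hcomp : ∀ i j k, (d j k).comp (d i j) = 0) :
    CochainComplex (ModuleCat.{u} R) ℤ where
  X := X
  d i j := ModuleCat.ofHom (d i j)
  shape i j h := by
    rw [hshape i j h]
    rfl
  d_comp_d' i j k _ _ := by
    rw [← ModuleCat.ofHom_comp, hcomp]
    rfl

/-- Elementwise criterion for exactness of a cochain complex of modules. -/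
lemma exactAt_of_elementwise (K : CochainComplex (ModuleCat.{u} R) ℤ) (i j k : ℤ) (hij : i + 1 = j)
    (hjk : j + 1 = k) (h : ∀ x : K.X j, (K.d j k).hom x = 0 → ∃ y : K.X i, (K.d i j).hom y = x) :
    K.ExactAt j := by
  rw [HomologicalComplex.exactAt_iff' K i j k (by simp; lia) (by simp; lia)]
  rw [ShortComplex.moduleCat_exact_iff]
  intro x hx
  exact h x hx

lemma elementwise_of_exactAt (K : CochainComplex (ModuleCat.{u} R) ℤ) (i j k : ℤ) (hij : i + 1 = j)
    (hjk : j + 1 = k) (h : K.ExactAt j) (x : K.X j) (hx : (K.d j k).hom x = 0) :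
    ∃ y : K.X i, (K.d i j).hom y = x := by
  rw [HomologicalComplex.exactAt_iff' K i j k (by simp; lia) (by simp; lia)] at h
  rw [ShortComplex.moduleCat_exact_iff] at h
  exact h x hx

section Reduction

variable (I : Ideal R)

open ModuleCat ChangeOfRings

set_option backward.isDefEq.respectTransparency false in
/-- `1 ⊗ (r • m) = mk r • (1 ⊗ m)`. -/
lemma one_tmul_smul (M : ModuleCat.{u} R) (r : R) (m : M) :
    ((1 : R ⧸ I) ⊗ₜ[R,Ideal.Quotient.mk I] (r • m) : (extendScalars (Ideal.Quotient.mk I)).obj M) =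
      (Ideal.Quotient.mk I r) • ((1 : R ⧸ I) ⊗ₜ[R,Ideal.Quotient.mk I] m :
        (extendScalars (Ideal.Quotient.mk I)).obj M) := by
  have h1 := ((extendRestrictScalarsAdj (Ideal.Quotient.mk I)).unit.app M).hom.map_smul r m
  have h2 := extendRestrictScalarsAdj_unit_app_apply (f := Ideal.Quotient.mk I) M (r • m)
  have h3 := extendRestrictScalarsAdj_unit_app_apply (f := Ideal.Quotient.mk I) M m
  exact h2.symm.trans (h1.trans (congrArg (fun z => r • z) h3))

set_option backward.isDefEq.respectTransparency false in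
/-- Elements of `R/I ⊗ M` are of the form `1 ⊗ m`. -/
lemma exists_one_tmul (M : ModuleCat.{u} R) (z : (extendScalars (Ideal.Quotient.mk I)).obj M) :
    ∃ m : M, z = (1 : R ⧸ I) ⊗ₜ[R,Ideal.Quotient.mk I] m := by
  induction z using TensorProduct.induction_on with
  | zero => exact ⟨0, (TensorProduct.tmul_zero _ _).symm⟩
  | tmul s m =>
    obtain ⟨r, rfl⟩ := Ideal.Quotient.mk_surjective s
    refine ⟨r • m, ?_⟩
    rw [one_tmul_smul, ExtendScalars.smul_tmul, mul_one]
  | add x y hx hy =>
    obtain ⟨m, rfl⟩ := hx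
    obtain ⟨m', rfl⟩ := hy
    exact ⟨m + m', (TensorProduct.tmul_add _ _ _).symm⟩

set_option backward.isDefEq.respectTransparency false in
/-- `1 ⊗ m = 0` for `m ∈ I M`. -/
lemma one_tmul_eq_zero_of_mem (M : ModuleCat.{u} R) (m : M)
    (hm : m ∈ I • (⊤ : Submodule R M)) :
    ((1 : R ⧸ I) ⊗ₜ[R,Ideal.Quotient.mk I] m : (extendScalars (Ideal.Quotient.mk I)).obj M) = 0 := by
  refine Submodule.smul_induction_on hm ?_ ?_
  · intro r hr n _
    rw [one_tmul_smul, Ideal.Quotient.eq_zero_iff_mem.2 hr, zero_smul]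
  · intro x y hx hy
    exact (TensorProduct.tmul_add _ _ _).trans (by rw [hx, hy, add_zero])

/-- The reduction isomorphism: a surjection `M → N` with kernel `I M`, `N` an `R/I`-module, induces
`R/I ⊗ M ≅ N`. -/
lemma isIso_adjunct (M : ModuleCat.{u} R) (N : ModuleCat.{u} (R ⧸ I))
    (ψ : M ⟶ (restrictScalars (Ideal.Quotient.mk I)).obj N) (hs : Function.Surjective ψ.hom)
    (hk : ∀ m : M, ψ.hom m = 0 → m ∈ I • (⊤ : Submodule R M)) :
    IsIso (((extendRestrictScalarsAdj (Ideal.Quotient.mk I)).homEquiv M N).symm ψ) := by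
  set ψ' := ((extendRestrictScalarsAdj (Ideal.Quotient.mk I)).homEquiv M N).symm ψ with hψ'
  have key : ∀ m : M, ψ'.hom ((1 : R ⧸ I) ⊗ₜ[R,Ideal.Quotient.mk I] m) = ψ.hom m := by
    intro m
    have h1 := extendRestrictScalarsAdj_homEquiv_apply (f := Ideal.Quotient.mk I) ψ' m
    rw [hψ', Equiv.apply_symm_apply] at h1
    exact h1.symm
  rw [ConcreteCategory.isIso_iff_bijective]
  constructor
  · rw [injective_iff_map_eq_zero]
    intro z hz
    obtain ⟨m, rfl⟩ := exists_one_tmul I M z
    have h2 : ψ.hom m = 0 := by rw [← key]; exact hz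
    exact one_tmul_eq_zero_of_mem I M m (hk m h2)
  · intro n
    obtain ⟨m, rfl⟩ := hs n
    exact ⟨_, key m⟩

/-- Naturality of the adjunct. -/
lemma adjunct_naturality {M M' : ModuleCat.{u} R} {N N' : ModuleCat.{u} (R ⧸ I)}
    (ψ : M ⟶ (restrictScalars (Ideal.Quotient.mk I)).obj N)
    (ψ' : M' ⟶ (restrictScalars (Ideal.Quotient.mk I)).obj N') (g : M ⟶ M') (h : N ⟶ N')
    (hc : g ≫ ψ' = ψ ≫ (restrictScalars (Ideal.Quotient.mk I)).map h) :
    (extendScalars (Ideal.Quotient.mk I)).map g ≫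
        ((extendRestrictScalarsAdj (Ideal.Quotient.mk I)).homEquiv M' N').symm ψ' =
      ((extendRestrictScalarsAdj (Ideal.Quotient.mk I)).homEquiv M N).symm ψ ≫ h := by
  rw [← Adjunction.homEquiv_naturality_left_symm, ← Adjunction.homEquiv_naturality_right_symm, hc]

end Reduction

end Groth.Agent.Lib.Helper13.LC
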