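import Groth.Agent.Lib.Helper13.LiftCx3
import Mathlib.Algebra.Homology.HomotopyCategory.MappingCone

set_option autoImplicit false
set_option linter.style.haveILetI false
universe u
open CategoryTheory

namespace Groth.Agent.Lib.Helper13.LC

variable {R : Type u} [CommRing R] (I : Ideal R)

open ModuleCat ChangeOfRings TensorProduct

/-- The quotient `M/IM` as an `R/I`-module, with the projection. -/
noncomputable def quotSMulTopMap (M : ModuleCat.{u} R) :
    M ⟶ (restrictScalars (Ideal.Quotient.mk I)).obj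
      (ModuleCat.of (R ⧸ I) (M ⧸ (I • ⊤ : Submodule R M))) :=
  ConcreteCategory.ofHom (C := ModuleCat R)
    ({ toFun := fun m => Submodule.Quotient.mk m
       map_add' := fun _ _ => rfl
       map_smul' := fun _ _ => rfl } :
      M →ₗ[R] (restrictScalars (Ideal.Quotient.mk I)).obj
        (ModuleCat.of (R ⧸ I) (M ⧸ (I • ⊤ : Submodule R M))))

set_option backward.isDefEq.respectTransparency false in
/-- `1 ⊗ m = 0` iff `m ∈ I M`. -/
lemma one_tmul_eq_zero_iff (M : ModuleCat.{u} R) (m : M) :
    ((1 : R ⧸ I) ⊗ₜ[R,Ideal.Quotient.mk I] m : (extendScalars (Ideal.Quotient.mk I)).obj M) = 0 ↔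
      m ∈ I • (⊤ : Submodule R M) := by
  refine ⟨fun h => ?_, one_tmul_eq_zero_of_mem I M m⟩
  let ψ := quotSMulTopMap I M
  let ψ' := ((extendRestrictScalarsAdj (Ideal.Quotient.mk I)).homEquiv M _).symm ψ
  have key : ψ'.hom ((1 : R ⧸ I) ⊗ₜ[R,Ideal.Quotient.mk I] m) = ψ.hom m := by
    have h1 := extendRestrictScalarsAdj_homEquiv_apply (f := Ideal.Quotient.mk I) ψ' m
    rw [Equiv.apply_symm_apply] at h1
    exact h1.symm
  rw [h, map_zero] at key
  exact (Submodule.Quotient.mk_eq_zero _).1 key.symm

omit I in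
lemma mem_smul_top_prod (I : Ideal R) (M N : Type u) [AddCommGroup M] [Module R M]
    [AddCommGroup N] [Module R N] (x : M × N) :
    x ∈ I • (⊤ : Submodule R (M × N)) ↔
      x.1 ∈ I • (⊤ : Submodule R M) ∧ x.2 ∈ I • (⊤ : Submodule R N) := by
  constructor
  · intro hx
    constructor
    · have h1 : LinearMap.fst R M N x ∈ Submodule.map (LinearMap.fst R M N) (I • ⊤) :=
        Submodule.mem_map_of_mem hx
      rw [Submodule.map_smul''] at h1
      exact Submodule.smul_mono le_rfl le_top h1
    · have h1 : LinearMap.snd R M N x ∈ Submodule.map (LinearMap.snd R M N) (I • ⊤) :=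
        Submodule.mem_map_of_mem hx
      rw [Submodule.map_smul''] at h1
      exact Submodule.smul_mono le_rfl le_top h1
  · rintro ⟨h1, h2⟩
    have h1' : LinearMap.inl R M N x.1 ∈ Submodule.map (LinearMap.inl R M N) (I • ⊤) :=
      Submodule.mem_map_of_mem h1
    have h2' : LinearMap.inr R M N x.2 ∈ Submodule.map (LinearMap.inr R M N) (I • ⊤) :=
      Submodule.mem_map_of_mem h2
    rw [Submodule.map_smul''] at h1' h2'
    have h3 : x = LinearMap.inl R M N x.1 + LinearMap.inr R M N x.2 := by
      apply Prod.ext <;> simp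
    rw [h3]
    exact Submodule.add_mem _ (Submodule.smul_mono le_rfl le_top h1')
      (Submodule.smul_mono le_rfl le_top h2')

end Groth.Agent.Lib.Helper13.LC
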