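import Groth.Agent.Lib.Helper13.LiftCx4
import Groth.Agent.Lib.Helper13.DRingLDerived
import Groth.Agent.Lib.Helper13.DRingTor
import Groth.Agent.Lib.Helper13.KProjCone
import Mathlib.Algebra.Homology.DerivedCategory.ShortExact

set_option autoImplicit false
set_option linter.style.haveILetI false
universe u
open CategoryTheory CategoryTheory.Limits

namespace Groth.Agent.Lib.Helper13.LC

open ModuleCat ChangeOfRings TensorProduct DerivedCategory
open Groth.Agent.Lib.Helper13.PC Groth.Agent.Lib.Helper13.DR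

attribute [local instance] HasDerivedCategory.standard

section Cone

open CochainComplex HomologicalComplex Pretriangulated

/-- The cone of a quasi-isomorphism is acyclic. -/
lemma acyclic_mappingCone_of_quasiIso {C : Type*} [Category C] [Abelian C]
    [HasDerivedCategory C] {K L : CochainComplex C ℤ} (f : K ⟶ L) [QuasiIso f] (i : ℤ) :
    (mappingCone f).ExactAt i := by
  have hT := mappingCone_triangle_distinguished f
  have h1 : IsIso (Q.map f) := by rw [isIso_Q_map_iff_quasiIso]; infer_instance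
  have hz : IsZero (Q.obj (mappingCone f)) := (Triangle.isZero₃_iff_isIso₁ _ hT).2 h1
  rw [exactAt_iff_isZero_homology]
  exact ((DerivedCategory.homologyFunctor C i).map_isZero hz).of_iso (homologyQIso _ i).symm

end Cone

section Main

variable {R : Type u} [CommRing R] (I : Ideal R)

open CochainComplex HomologicalComplex

/-- Restriction of scalars of a linear map, as an `R`-linear map. -/
noncomputable abbrev resLin {A B : ModuleCat.{u} (R ⧸ I)} (g : A ⟶ B) :
    (restrictScalars (Ideal.Quotient.mk I)).obj A →ₗ[R]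
      (restrictScalars (Ideal.Quotient.mk I)).obj B :=
  ((restrictScalars (Ideal.Quotient.mk I)).map g).hom

theorem exists_representative_lifting
    [DRing.HasLBaseChange (Ideal.Quotient.mk I)]
    (Pc : ObjectProperty (ModuleCat.{u} R)) [Pc.IsClosedUnderIsomorphisms]
    (h1 : ∀ X : ModuleCat.{u} R, Pc X → Module.Projective R X)
    (h2 : ∀ X Y : ModuleCat.{u} R, Pc X → (Pc (ModuleCat.of R (X × Y)) ↔ Pc Y))
    (h3 : ∀ (X Y : ModuleCat.{u} R) (f : X ⟶ Y), Pc X → Pc Y →
      LinearMap.range f.hom ⊔ I • (⊤ : Submodule R Y) = ⊤ → Function.Surjective f.hom)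
    (K : Dual.D R) (hK : ∃ (Q : DRing.Cx R) (c : ℤ), DRing.VanishesAbove Q c ∧
      (∀ i : ℤ, Pc (Q.X i)) ∧ Nonempty (DRing.toD Q ≅ K))
    (E : DRing.Cx (R ⧸ I)) (b : ℤ) (hEb : DRing.VanishesAbove E b)
    (hEt : ∀ i : ℤ, ∃ X : ModuleCat.{u} R, Pc X ∧
      Nonempty (TensorProduct R (R ⧸ I) X ≃ₗ[R ⧸ I] E.X i))
    (hE : Nonempty (DRing.toD E ≅ (DRing.LBaseChange (Ideal.Quotient.mk I)).obj K)) :
    ∃ (P : DRing.Cx R) (b' : ℤ), DRing.VanishesAbove P b' ∧ (∀ i : ℤ, Pc (P.X i)) ∧
      Nonempty (DRing.toD P ≅ K) ∧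
      Nonempty ((((ModuleCat.extendScalars (Ideal.Quotient.mk I)).mapHomologicalComplex
        (ComplexShape.up ℤ)).obj P) ≅ E) := by
  obtain ⟨Q₀, c, hQv, hQPc, ⟨eQ⟩⟩ := hK
  obtain ⟨eE⟩ := hE
  -- projectivity of the terms of `E`
  have hEproj : ∀ i : ℤ, Projective (E.X i) := by
    intro i
    obtain ⟨X, hX, ⟨e⟩⟩ := hEt i
    haveI := h1 X hX
    rw [projective_iff]
    exact Module.Projective.of_equiv e
  have hEt' : ∀ n : ℤ, ∃ X : ModuleCat.{u} R, Pc X ∧
      Nonempty (TensorProduct R (R ⧸ I) X ≃ₗ[R ⧸ I] E.X (n + 1)) := fun n => hEt (n + 1)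
  choose Y hY e using hEt'
  let e' := fun n => (e n).some
  haveI : Q₀.IsKProjective := isKProjective_of_forall_projective Q₀ c hQv
    (fun i => (projective_iff _).2 (h1 _ (hQPc i)))
  haveI : E.IsKProjective := isKProjective_of_forall_projective E b hEb hEproj
  let G : DRing.Cx (R ⧸ I) := ((ModuleCat.extendScalars.{u, u, u}
    (Ideal.Quotient.mk I)).mapHomologicalComplex (ComplexShape.up ℤ)).obj Q₀
  let iso₁ : Q.obj E ≅ Q.obj G :=
    eE ≪≫ (DRing.LBaseChange (Ideal.Quotient.mk I)).mapIso eQ.symm ≪≫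
      LBaseChangeIso (Ideal.Quotient.mk I) Q₀
  obtain ⟨α, hα⟩ := exists_Q_map_eq iso₁.hom
  haveI : QuasiIso α := by
    rw [← isIso_Q_map_iff_quasiIso, hα]
    infer_instance
  let Cb : DRing.Cx (R ⧸ I) := mappingCone α
  have hCbac : ∀ i, Cb.ExactAt i := fun i => acyclic_mappingCone_of_quasiIso α i
  let C : DRing.Cx R := ((restrictScalars (Ideal.Quotient.mk I)).mapHomologicalComplex
    (ComplexShape.up ℤ)).obj Cb
  let ψ : ∀ n, Y n ⟶ (restrictScalars (Ideal.Quotient.mk I)).obj (E.X (n + 1)) :=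
    fun n => redMap I (Y n) (E.X (n + 1)) (e' n)
  let η : ∀ n, Q₀.X n ⟶ (restrictScalars (Ideal.Quotient.mk I)).obj (G.X n) :=
    fun n => (extendRestrictScalarsAdj (Ideal.Quotient.mk I)).unit.app (Q₀.X n)
  -- the four structure maps of the cone, as functions
  let il : ∀ n : ℤ, E.X (n + 1) ⟶ Cb.X n := fun n =>
    (mappingCone.inl α).v (n + 1) n (by omega)
  let ir : ∀ n : ℤ, G.X n ⟶ Cb.X n := fun n => (mappingCone.inr α).f n
  let pf : ∀ n : ℤ, Cb.X n ⟶ E.X (n + 1) := fun n => (mappingCone.fst α).1.v n (n + 1) rfl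
  let ps : ∀ n : ℤ, Cb.X n ⟶ G.X n := fun n => (mappingCone.snd α).v n n (add_zero n)
  have h_il_pf : ∀ n (z : E.X (n + 1)), (pf n).hom ((il n).hom z) = z := fun n z => by
    have := mappingCone.inl_v_fst_v α (n + 1) n rfl
    exact congr($(this).hom z)
  have h_il_ps : ∀ n (z : E.X (n + 1)), (ps n).hom ((il n).hom z) = 0 := fun n z => by
    have := mappingCone.inl_v_snd_v α (n + 1) n (by omega)
    exact congr($(this).hom z)
  have h_ir_pf : ∀ n (z : G.X n), (pf n).hom ((ir n).hom z) = 0 := fun n z => by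
    have := mappingCone.inr_f_fst_v α n (n + 1) rfl
    exact congr($(this).hom z)
  have h_ir_ps : ∀ n (z : G.X n), (ps n).hom ((ir n).hom z) = z := fun n z => by
    have := mappingCone.inr_f_snd_v α n
    exact congr($(this).hom z)
  have h_id : ∀ n (w : Cb.X n), (il n).hom ((pf n).hom w) + (ir n).hom ((ps n).hom w) = w :=
    fun n w => by
      have := mappingCone.id_X α n (n + 1) rfl
      exact congr($(this).hom w)
  let φ : ∀ n, (Q₀.X n × Y n) →ₗ[R] C.X n := fun n =>
    ((resLin I (ir n)).comp (η n).hom).comp (LinearMap.fst R _ _) +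
      ((resLin I (il n)).comp (ψ n).hom).comp (LinearMap.snd R _ _)
  have hφ_apply : ∀ n (q : Q₀.X n) (y : Y n),
      φ n (q, y) = (ir n).hom ((η n).hom q) + (il n).hom ((ψ n).hom y) := fun n q y => rfl
  have hη_apply : ∀ n (q : Q₀.X n), (η n).hom q = (1 : R ⧸ I) ⊗ₜ[R,Ideal.Quotient.mk I] q :=
    fun n q => extendRestrictScalarsAdj_unit_app_apply (f := Ideal.Quotient.mk I) (Q₀.X n) q
  have hη_surj : ∀ n (z : G.X n), ∃ q : Q₀.X n, (η n).hom q = z := fun n z => by
    obtain ⟨q, hq⟩ := exists_one_tmul I (Q₀.X n) z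
    exact ⟨q, (hη_apply n q).trans hq.symm⟩
  have hη_ker : ∀ n (q : Q₀.X n), (η n).hom q = 0 ↔ q ∈ I • (⊤ : Submodule R (Q₀.X n)) :=
    fun n q => by
      rw [hη_apply]
      exact one_tmul_eq_zero_iff I (Q₀.X n) q
  have hη_nat : ∀ i j (q : Q₀.X i), (η j).hom ((Q₀.d i j).hom q) = (G.d i j).hom ((η i).hom q) :=
    fun i j q => by
      have := (extendRestrictScalarsAdj (Ideal.Quotient.mk I)).unit.naturality (Q₀.d i j)
      exact congr($(this).hom q)
  have hil0 : ∀ n, (il n).hom ((ψ n).hom 0) = 0 := fun n => by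
    rw [map_zero]
    exact map_zero (il n).hom
  have H : LiftHyp I Pc Q₀ C Y φ (max b c) :=
    { iso := inferInstance
      h1 := h1
      h2 := fun X Y hX h => (h2 X Y hX).1 h
      h3 := h3
      hP := fun n => (h2 _ _ (hQPc n)).2 (hY n)
      hY := fun n => h1 _ (hY n)
      φ_surj := fun n w => by
        obtain ⟨q, hq⟩ := hη_surj n ((ps n).hom w)
        obtain ⟨y, hy⟩ := redMap_surjective I (Y n) (E.X (n + 1)) (e' n) ((pf n).hom w)
        refine ⟨(q, y), ?_⟩
        rw [hφ_apply, hq]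
        change _ + (il n).hom ((redMap I (Y n) (E.X (n + 1)) (e' n)).hom y) = w
        rw [hy, add_comm]
        exact h_id n w
      φ_ker := fun n x => by
        obtain ⟨q, y⟩ := x
        rw [mem_smul_top_prod, hφ_apply]
        constructor
        · intro h0
          have hs := congrArg (fun w => (ps n).hom w) h0
          have hf := congrArg (fun w => (pf n).hom w) h0
          simp only [map_add] at hs hf
          rw [h_ir_ps, h_il_ps, add_zero] at hs
          rw [h_ir_pf, h_il_pf, zero_add] at hf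
          exact ⟨(hη_ker n q).1 (hs.trans (map_zero (ps n).hom)),
            (redMap_eq_zero_iff I (Y n) (E.X (n + 1)) (e' n) y).1 (hf.trans (map_zero (pf n).hom))⟩
        · rintro ⟨hq, hy⟩
          have e1 : (ir n).hom ((η n).hom q) = 0 := by
            rw [(hη_ker n q).2 hq]
            exact map_zero (ir n).hom
          have e2 : (il n).hom ((ψ n).hom y) = 0 := by
            have : (ψ n).hom y = 0 := (redMap_eq_zero_iff I (Y n) (E.X (n + 1)) (e' n) y).2 hy
            rw [this]
            exact map_zero (il n).hom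
          rw [e1, e2]
          exact add_zero _
      φ_Q := fun i j q => by
        rw [hφ_apply, hφ_apply, hil0, hil0, add_zero, add_zero, hη_nat]
        have := mappingCone.inr_f_d α i j
        exact (congr($(this).hom ((η i).hom q))).symm
      C_exact := fun i j k hij hjk w hw =>
        elementwise_of_exactAt Cb i j k hij hjk (hCbac j) w hw
      C_bdd := fun n hn => by
        have hE0 : Subsingleton (E.X (n + 1)) :=
          ModuleCat.subsingleton_of_isZero (hEb (n + 1) (by omega))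
        have hG0 : Subsingleton (G.X n) :=
          ModuleCat.subsingleton_of_isZero
            ((ModuleCat.extendScalars.{u, u, u} (Ideal.Quotient.mk I)).map_isZero
              (hQv n (by omega)))
        refine ⟨fun w w' => ?_⟩
        rw [← h_id n w, ← h_id n w', Subsingleton.elim ((pf n).hom w) ((pf n).hom w'),
          Subsingleton.elim ((ps n).hom w) ((ps n).hom w')] }
  obtain ⟨d, hshape, hcomp, hexact, hdQ, hφd⟩ := exists_differential H
  let T : DRing.Cx R := mkCx (fun n => ModuleCat.of R (Q₀.X n × Y n)) d hshape hcomp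
  have hTac : ∀ j, T.ExactAt j := fun j =>
    exactAt_of_elementwise T (j - 1) j (j + 1) (by omega) rfl
      (hexact (j - 1) j (j + 1) (by omega) rfl)
  let Δ : ∀ i j, Y i →ₗ[R] Y j := fun i j =>
    (LinearMap.snd R _ _).comp ((d i j).comp (LinearMap.inr R (Q₀.X i) (Y i)))
  have hd_snd : ∀ i j (q : Q₀.X i) (y : Y i), (d i j (q, y)).2 = Δ i j y := by
    intro i j q y
    have h0 : ((q, y) : Q₀.X i × Y i) = (q, 0) + (0, y) := by simp
    rw [h0, map_add, hdQ]
    simp [Δ]
  have hΔshape : ∀ i j, i + 1 ≠ j → Δ i j = 0 := fun i j h => by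
    simp [Δ, hshape i j h]
  have hΔcomp : ∀ i j k, (Δ j k).comp (Δ i j) = 0 := by
    intro i j k
    apply LinearMap.ext
    intro y
    have h0 : d j k (d i j (0, y)) = 0 := congr($(hcomp i j k) (0, y))
    have h1 := hd_snd j k (d i j (0, y)).1 (d i j (0, y)).2
    rw [Prod.mk.eta, h0] at h1
    exact h1.symm
  let S₃ : DRing.Cx R := mkCx Y Δ hΔshape hΔcomp
  let ι : Q₀ ⟶ T :=
    { f := fun n => ConcreteCategory.ofHom (C := ModuleCat R) (LinearMap.inl R (Q₀.X n) (Y n))
      comm' := fun i j _ => by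
        ext q
        exact (hdQ i j q) }
  let π : T ⟶ S₃ :=
    { f := fun n => ConcreteCategory.ofHom (C := ModuleCat R) (LinearMap.snd R (Q₀.X n) (Y n))
      comm' := fun i j _ => by
        ext x
        obtain ⟨q, y⟩ := x
        exact (hd_snd i j q y).symm }
  let SC : ShortComplex (CochainComplex (ModuleCat.{u} R) ℤ) := ShortComplex.mk ι π (by
    ext n q
    rfl)
  have hSC : SC.ShortExact := by
    apply HomologicalComplex.shortExact_of_degreewise_shortExact
    intro n
    let σ : (SC.map (HomologicalComplex.eval _ _ n)).Splitting :=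
      { r := ConcreteCategory.ofHom (C := ModuleCat R) (LinearMap.fst R (Q₀.X n) (Y n))
        s := ConcreteCategory.ofHom (C := ModuleCat R) (LinearMap.inr R (Q₀.X n) (Y n))
        f_r := by
          ext q
          rfl
        s_g := by
          ext y
          rfl
        id := by
          ext x
          obtain ⟨q, y⟩ := x
          change ((q, 0) + (0, y) : Q₀.X n × Y n) = (q, y)
          simp }
    exact σ.shortExact
  have hzT : IsZero (Q.obj T) :=
    isZero_of_forall_isZero_homology _ (fun i =>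
      ((HomologicalComplex.exactAt_iff_isZero_homology _ _).1 (hTac i)).of_iso (homologyQIso _ i))
  have hdist := DerivedCategory.triangleOfSES_distinguished hSC
  have hisoδ : IsIso (DerivedCategory.triangleOfSESδ hSC) :=
    (Pretriangulated.Triangle.isZero₂_iff_isIso₃ _ hdist).1 hzT
  let δiso : Q.obj S₃ ≅ (Q.obj Q₀)⟦(1 : ℤ)⟧ := asIso (DerivedCategory.triangleOfSESδ hSC)
  let P : DRing.Cx R := (CategoryTheory.shiftFunctor (CochainComplex (ModuleCat.{u} R) ℤ) (-1 : ℤ)).obj S₃
  let eP : Q.obj P ≅ K :=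
    (Q.commShiftIso (-1 : ℤ)).app S₃ ≪≫
      (CategoryTheory.shiftFunctor (DerivedCategory (ModuleCat.{u} R)) (-1 : ℤ)).mapIso δiso ≪≫
      shiftShiftNeg (Q.obj Q₀) (1 : ℤ) ≪≫ eQ
  have hkey : ∀ i j (hij : i + 1 = j) (y : Y i),
      (ψ j).hom (Δ i j y) = -(E.d (i + 1) (j + 1)).hom ((ψ i).hom y) := by
    intro i j hij y
    subst hij
    have h0 := hφd i (i + 1) (0, y)
    have hL : (pf (i + 1)).hom (φ (i + 1) (d i (i + 1) (0, y))) = (ψ (i + 1)).hom (Δ i (i + 1) y) := by
      have h1 : d i (i + 1) (0, y) = ((d i (i + 1) (0, y)).1, Δ i (i + 1) y) := by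
        rw [← hd_snd i (i + 1) 0 y]
      rw [h1, hφ_apply, map_add, h_ir_pf, h_il_pf, zero_add]
    have hR : (pf (i + 1)).hom ((C.d i (i + 1)).hom (φ i (0, y))) =
        -(E.d (i + 1) (i + 1 + 1)).hom ((ψ i).hom y) := by
      have h2 : φ i (0, y) = (il i).hom ((ψ i).hom y) := by
        rw [hφ_apply, map_zero]
        exact (congrArg (· + (il i).hom ((ψ i).hom y)) (map_zero (ir i).hom)).trans (zero_add _)
      rw [h2]
      have h3 := mappingCone.d_fst_v α i (i + 1) (i + 1 + 1) rfl rfl
      have h4 := congr($(h3).hom ((il i).hom ((ψ i).hom y)))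
      refine h4.trans ?_
      change -((E.d (i + 1) (i + 1 + 1)).hom ((pf i).hom ((il i).hom ((ψ i).hom y)))) = _
      rw [h_il_pf]
    rw [← hL, ← hR, h0]
  have hPX : ∀ n, P.X n = Y (n + -1) := fun n => rfl
  have hPd : ∀ m n (y : P.X m), (P.d m n).hom y = -(Δ (m + -1) (n + -1) y) := by
    intro m n y
    change ((-1 : ℤ).negOnePow • S₃.d (m + -1) (n + -1)).hom y = _
    rw [show (-1 : ℤ).negOnePow = -1 by simp, Units.neg_smul, one_smul]
    rfl
  refine ⟨P, max b c + 1, ?_, fun i => hY (i + -1), ⟨eP⟩, ?_⟩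
  · intro i hi
    have hs : Subsingleton (Q₀.X (i + -1) × Y (i + -1)) := subsingleton_P H (i + -1) (by omega)
    have hs' : Subsingleton (Y (i + -1)) := ⟨fun a b => by
      have := Subsingleton.elim ((0 : Q₀.X (i + -1)), a) (0, b)
      exact congrArg Prod.snd this⟩
    exact ModuleCat.isZero_of_subsingleton (Y (i + -1))
  · let ξ : ∀ n : ℤ, E.X (n + -1 + 1) ≅ E.X n := fun n => E.XIsoOfEq (by omega)
    let ψP : ∀ n, P.X n ⟶ (restrictScalars (Ideal.Quotient.mk I)).obj (E.X n) := fun n =>
      ψ (n + -1) ≫ (restrictScalars (Ideal.Quotient.mk I)).map (ξ n).hom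
    have hψP_apply : ∀ n (y : Y (n + -1)), (ψP n).hom y = (ξ n).hom.hom ((ψ (n + -1)).hom y) :=
      fun n y => rfl
    have hiso : ∀ n, IsIso (((extendRestrictScalarsAdj (Ideal.Quotient.mk I)).homEquiv (P.X n)
        (E.X n)).symm (ψP n)) := fun n => by
      refine isIso_adjunct I (P.X n) (E.X n) (ψP n) ?_ ?_
      · intro z
        obtain ⟨z', rfl⟩ : ∃ z', (ξ n).hom.hom z' = z := ⟨(ξ n).inv.hom z, by
          rw [← LinearMap.comp_apply, ← ModuleCat.hom_comp, Iso.inv_hom_id]
          rfl⟩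
        obtain ⟨y, hy⟩ := redMap_surjective I (Y (n + -1)) (E.X (n + -1 + 1)) (e' (n + -1)) z'
        exact ⟨y, by rw [hψP_apply]; exact congrArg _ hy⟩
      · intro y hy
        rw [hψP_apply] at hy
        have h0 : (ψ (n + -1)).hom y = 0 := by
          have h1 : (ξ n).inv.hom ((ξ n).hom.hom ((ψ (n + -1)).hom y)) = (ψ (n + -1)).hom y := by
            rw [← LinearMap.comp_apply, ← ModuleCat.hom_comp, Iso.hom_inv_id]
            rfl
          rw [← h1, hy]
          exact map_zero _
        exact (redMap_eq_zero_iff I (Y (n + -1)) (E.X (n + -1 + 1)) (e' (n + -1)) y).1 h0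
    refine ⟨HomologicalComplex.Hom.isoOfComponents (fun n => @asIso _ _ _ _ _ (hiso n)) ?_⟩
    intro m n hmn
    refine (adjunct_naturality I (ψP m) (ψP n) (P.d m n) (E.d m n) ?_).symm
    ext y
    change (ψP n).hom ((P.d m n).hom y) = (E.d m n).hom ((ψP m).hom y)
    have hk := hkey (m + -1) (n + -1) (by
      have : m + 1 = n := hmn
      omega) y
    have hk' : (ψ (n + -1)).hom (-(Δ (m + -1) (n + -1) y)) =
        (E.d (m + -1 + 1) (n + -1 + 1)).hom ((ψ (m + -1)).hom y) := by
      rw [map_neg, hk]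
      exact neg_neg _
    rw [hψP_apply, hψP_apply, hPd, hk']
    have e1 : E.d (m + -1 + 1) (n + -1 + 1) ≫ (ξ n).hom = E.d (m + -1 + 1) n :=
      HomologicalComplex.d_comp_XIsoOfEq_hom _ _ _
    have e2 : (ξ m).hom ≫ E.d m n = E.d (m + -1 + 1) n :=
      HomologicalComplex.XIsoOfEq_hom_comp_d _ _ _
    have e1' := congr($(e1).hom ((ψ (m + -1)).hom y))
    have e2' := congr($(e2).hom ((ψ (m + -1)).hom y))
    exact e1'.trans e2'.symm

end Main

end Groth.Agent.Lib.Helper13.LC
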