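import Groth.Agent.Lib.Helper13.LiftCx5
import Groth.Agent.Lib.Helper13.LiftCx6

set_option autoImplicit false
set_option linter.style.haveILetI false
universe u
open CategoryTheory CategoryTheory.Limits

namespace Groth.Agent.Lib.Helper13.LC

open ModuleCat ChangeOfRings TensorProduct DerivedCategory
open Groth.Agent.Lib.Helper13.PC Groth.Agent.Lib.Helper13.DR

attribute [local instance] HasDerivedCategory.standard

variable {R : Type u} [CommRing R] (I : Ideal R)

/-- The class of finite stably free modules. -/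
def PcSF : ObjectProperty (ModuleCat.{u} R) :=
  fun X => Module.Finite R X ∧ Module.IsStablyFree R X

instance : (PcSF (R := R)).IsClosedUnderIsomorphisms where
  of_iso e h := ⟨@Module.Finite.equiv _ _ _ _ _ _ _ _ h.1 e.toLinearEquiv,
    @Module.IsStablyFree.equiv _ _ _ _ _ _ _ _ e.toLinearEquiv h.2⟩

lemma pcSF_prod_iff (X Y : ModuleCat.{u} R) (hX : PcSF X) :
    PcSF (ModuleCat.of R (X × Y)) ↔ PcSF Y := by
  obtain ⟨hXf, hXs⟩ := hX
  constructor
  · rintro ⟨hf, hs⟩
    refine ⟨Module.Finite.of_surjective (LinearMap.snd R X Y) LinearMap.snd_surjective, ?_⟩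
    obtain ⟨N, _, _, _, _, _⟩ := Module.IsStablyFree.exist_free_prod R X
    obtain ⟨N'', _, _, _, _, _⟩ := Module.IsStablyFree.exist_free_prod R (X × Y)
    -- `Y × ((X × N) × N'') ≃ ((X × Y) × N'') × N`
    let e : (Y × ((X × N) × N'')) ≃ₗ[R] (((X × Y) × N'') × N) :=
      { toFun := fun p => (((p.2.1.1, p.1), p.2.2), p.2.1.2)
        invFun := fun p => (p.1.1.2, ((p.1.1.1, p.2), p.1.2))
        map_add' := fun _ _ => rfl
        map_smul' := fun _ _ => rfl
        left_inv := fun _ => rfl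
        right_inv := fun _ => rfl }
    haveI : Module.Free R (Y × ((X × N) × N'')) := Module.Free.of_equiv e.symm
    exact Module.IsStablyFree.of_free_prod R Y ((X × N) × N'')
  · rintro ⟨hf, hs⟩
    refine ⟨inferInstanceAs (Module.Finite R (X × Y)), ?_⟩
    obtain ⟨N, _, _, _, _, _⟩ := Module.IsStablyFree.exist_free_prod R X
    obtain ⟨N', _, _, _, _, _⟩ := Module.IsStablyFree.exist_free_prod R Y
    let e : ((X × Y) × (N × N')) ≃ₗ[R] ((X × N) × (Y × N')) :=
      { toFun := fun p => ((p.1.1, p.2.1), (p.1.2, p.2.2))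
        invFun := fun p => ((p.1.1, p.2.1), (p.1.2, p.2.2))
        map_add' := fun _ _ => rfl
        map_smul' := fun _ _ => rfl
        left_inv := fun _ => rfl
        right_inv := fun _ => rfl }
    haveI : Module.Free R ((X × Y) × (N × N')) := Module.Free.of_equiv e.symm
    exact Module.IsStablyFree.of_free_prod R (X × Y) (N × N')

theorem exists_stablyFree_representative_lifting
    (hI : I ≤ Ideal.jacobson (⊥ : Ideal R)) [DRing.HasLBaseChange (Ideal.Quotient.mk I)]
    (K : Dual.D R)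
    (hK : DRing.IsPseudoCoherent' R K) (E : DRing.Cx (R ⧸ I)) (b : ℤ) (hEb : DRing.VanishesAbove E b)
    (hEs : ∀ i : ℤ, Module.Finite (R ⧸ I) (E.X i) ∧ Module.IsStablyFree (R ⧸ I) (E.X i))
    (hE : Nonempty (DRing.toD E ≅ (DRing.LBaseChange (Ideal.Quotient.mk I)).obj K)) :
    ∃ (P : DRing.Cx R) (b' : ℤ), DRing.VanishesAbove P b' ∧
      (∀ i : ℤ, Module.Finite R (P.X i) ∧ Module.IsStablyFree R (P.X i)) ∧
      Nonempty (DRing.toD P ≅ K) ∧ Nonempty ((((ModuleCat.extendScalars (Ideal.Quotient.mk I)).mapHomologicalComplex (ComplexShape.up ℤ)).obj P) ≅ E) ∧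
      ∀ i : ℤ, Module.Free (R ⧸ I) (E.X i) → Module.Free R (P.X i) := by
  have h1 : ∀ X : ModuleCat.{u} R, PcSF X → Module.Projective R X := by
    rintro X ⟨_, hs⟩
    haveI := hs
    infer_instance
  have h3 : ∀ (X Y : ModuleCat.{u} R) (f : X ⟶ Y), PcSF X → PcSF Y →
      LinearMap.range f.hom ⊔ I • (⊤ : Submodule R Y) = ⊤ → Function.Surjective f.hom := by
    rintro X Y f _ ⟨hYf, _⟩ h
    haveI := hYf
    exact surjective_of_range_sup_smul_top hI f.hom h
  have hK' : ∃ (Q : DRing.Cx R) (c : ℤ), DRing.VanishesAbove Q c ∧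
      (∀ i : ℤ, PcSF (Q.X i)) ∧ Nonempty (DRing.toD Q ≅ K) := by
    obtain ⟨Q, c, hQv, hQf, hQ⟩ := hK
    refine ⟨Q, c, hQv, fun i => ?_, hQ⟩
    obtain ⟨hf, hfr⟩ := hQf i
    haveI := hfr
    exact ⟨hf, inferInstance⟩
  have hEt : ∀ i : ℤ, ∃ X : ModuleCat.{u} R, PcSF X ∧
      Nonempty (TensorProduct R (R ⧸ I) X ≃ₗ[R ⧸ I] E.X i) := by
    intro i
    obtain ⟨hf, hs⟩ := hEs i
    haveI := hf
    haveI := hs
    exact exists_lift_stablyFree hI (E.X i)
  obtain ⟨P, b', hPv, hPc, hPK, ⟨eP⟩⟩ := exists_representative_lifting I PcSF h1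
    (fun X Y hX => pcSF_prod_iff X Y hX) h3 K hK' E b hEb hEt hE
  refine ⟨P, b', hPv, hPc, hPK, ⟨eP⟩, ?_⟩
  intro i hfree
  obtain ⟨hf, hs⟩ := hPc i
  haveI := hf
  haveI := hs
  haveI := hfree
  let N := E.X i
  letI : Module R N := Module.compHom N (Ideal.Quotient.mk I)
  haveI : IsScalarTower R (R ⧸ I) N := ⟨fun r s x => by
    change (r • s) • x = Ideal.Quotient.mk I r • (s • x)
    rw [Algebra.smul_def, mul_smul]
    rfl⟩
  -- the iso component
  let ei : (extendScalars (Ideal.Quotient.mk I)).obj (P.X i) ≅ E.X i :=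
    (HomologicalComplex.eval _ _ i).mapIso eP
  let ρ : P.X i →ₗ[R] N :=
    { toFun := fun x => ei.hom.hom ((1 : R ⧸ I) ⊗ₜ[R,Ideal.Quotient.mk I] x)
      map_add' := fun x y =>
        (congrArg ei.hom.hom (TensorProduct.tmul_add _ _ _)).trans (map_add ei.hom.hom _ _)
      map_smul' := fun r x =>
        (congrArg ei.hom.hom (one_tmul_smul I _ r x)).trans (map_smul ei.hom.hom _ _) }
  refine free_of_free_quotient hI (P.X i) N ρ ?_ ?_
  · intro y
    obtain ⟨m, hm⟩ := exists_one_tmul I (P.X i) (ei.inv.hom y)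
    refine ⟨m, ?_⟩
    exact (congrArg ei.hom.hom hm.symm).trans (congr($(ei.inv_hom_id) y))
  · intro x
    rw [← one_tmul_eq_zero_iff I (P.X i) x]
    constructor
    · intro h
      have h2 : ei.inv.hom (ei.hom.hom ((1 : R ⧸ I) ⊗ₜ[R,Ideal.Quotient.mk I] x)) = 0 :=
        (congrArg ei.inv.hom h).trans (map_zero _)
      have h3 : ei.inv.hom (ei.hom.hom ((1 : R ⧸ I) ⊗ₜ[R,Ideal.Quotient.mk I] x)) =
          (1 : R ⧸ I) ⊗ₜ[R,Ideal.Quotient.mk I] x := congr($(ei.hom_inv_id) _)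
      exact h3.symm.trans h2
    · intro h
      exact (congrArg ei.hom.hom h).trans (map_zero _)

end Groth.Agent.Lib.Helper13.LC
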