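import Groth.Agent.Lib.Helper13.ClosedImmersionCover
import Groth.Agent.Lib.Helper24.LimOverBase
import Mathlib.AlgebraicGeometry.Morphisms.FiniteType

set_option autoImplicit false

universe u

namespace Groth.Agent.Lib.Helper13

open AlgebraicGeometry CategoryTheory CategoryTheory.Limits Groth.Agent.Lib.Helper24

/-- Pure algebra: finitely many generators whose images under a surjection `θ` lie in the image
of the base ring force `θ ∘ ρ` to be surjective. -/
lemma exists_finset_generators {R A : Type u} [CommRing R] [CommRing A] (ρA : R →+* A)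
    (hft : ρA.FiniteType) :
    ∃ s : Finset A, ∀ {B : Type u} [CommRing B] (θ : A →+* B), Function.Surjective θ →
      (∀ x ∈ s, θ x ∈ (θ.comp ρA).range) → Function.Surjective (θ.comp ρA) := by
  let _ := ρA.toAlgebra
  obtain ⟨s, hs⟩ := (show Algebra.FiniteType R A from hft).out
  refine ⟨s, fun {B} _ θ hθ h => ?_⟩
  let T : Subalgebra R A :=
    { toSubsemiring := ((θ.comp ρA).range.comap θ).toSubsemiring
      algebraMap_mem' := fun r => ⟨r, rfl⟩ }
  have hT : Algebra.adjoin R (s : Set A) ≤ T := Algebra.adjoin_le fun x hx => h x hx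
  rw [hs] at hT
  intro b
  obtain ⟨a, rfl⟩ := hθ b
  exact hT (Algebra.mem_top (x := a))

lemma appLE_congr_hom {X Y : Scheme.{u}} {f g : X ⟶ Y} (h : f = g) (U : Y.Opens) (V : X.Opens)
    (e : V ≤ f ⁻¹ᵁ U) : f.appLE U V e = g.appLE U V (h ▸ e) := by
  subst h; rfl

lemma bijective_presheaf_map_of_eq {X : Scheme.{u}} {A B : X.Opens} (h : A = B) (e : A ≤ B) :
    Function.Bijective (X.presheaf.map (homOfLE e).op) := by
  subst h
  have : (homOfLE e) = 𝟙 A := rfl
  rw [this]
  simp only [op_id, CategoryTheory.Functor.map_id]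
  exact Function.bijective_id

variable {I : Type u} [SmallCategory I] {S : Scheme.{u}} (D : I ⥤ Scheme.{u})
  (t : D ⟶ (Functor.const I).obj S) (c : Cone D) (hc : IsLimit c) (U : S.Opens)

lemma preimage_le {i j : I} (a : i ⟶ j) : t.app i ⁻¹ᵁ U ≤ D.map a ⁻¹ᵁ (t.app j ⁻¹ᵁ U) := by
  rw [← Scheme.Hom.comp_preimage, limOver_map_comp_app]

lemma preimage_eq {i j : I} (a : i ⟶ j) : t.app i ⁻¹ᵁ U = D.map a ⁻¹ᵁ (t.app j ⁻¹ᵁ U) := by
  rw [← Scheme.Hom.comp_preimage, limOver_map_comp_app]

/-- The transition maps on sections over the preimages of `U`. -/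
noncomputable def θ {i j : I} (a : i ⟶ j) :
    Γ(D.obj j, t.app j ⁻¹ᵁ U) ⟶ Γ(D.obj i, t.app i ⁻¹ᵁ U) :=
  (D.map a).appLE _ _ (preimage_le D t U a)

lemma ρ_θ {i j : I} (a : i ⟶ j) : (t.app j).app U ≫ θ D t U a = (t.app i).app U := by
  rw [θ, Scheme.Hom.app_eq_appLE, Scheme.Hom.appLE_comp_appLE, Scheme.Hom.app_eq_appLE]
  exact appLE_congr_hom (limOver_map_comp_app D t a) _ _ _

lemma θ_comp {i j k : I} (a : i ⟶ j) (b : j ⟶ k) :
    θ D t U b ≫ θ D t U a = θ D t U (a ≫ b) := by
  rw [θ, θ, θ, Scheme.Hom.appLE_comp_appLE]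
  exact appLE_congr_hom (D.map_comp a b).symm _ _ _

lemma θ_eq {i j : I} (a : i ⟶ j) :
    θ D t U a = (D.map a).app (t.app j ⁻¹ᵁ U) ≫
      (D.obj i).presheaf.map (homOfLE (preimage_le D t U a)).op := rfl

lemma θ_surjective [∀ {i j : I} (f : i ⟶ j), IsClosedImmersion (D.map f)] {i j : I} (a : i ⟶ j)
    (hj : IsAffineOpen (t.app j ⁻¹ᵁ U)) : Function.Surjective (θ D t U a) := by
  rw [θ_eq]
  have h1 : Function.Surjective ((D.map a).app (t.app j ⁻¹ᵁ U)) :=
    (D.map a).app_surjective _ hj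
  have h2 := (bijective_presheaf_map_of_eq (preimage_eq D t U a) (preimage_le D t U a)).2
  exact h2.comp h1


section

variable [IsCofiltered I] [∀ {i j : I} (f : i ⟶ j), IsClosedImmersion (D.map f)]

include hc in
lemma exists_θ_eq_ρ (hU : IsAffineOpen U) (j : I) (hVj : IsCompact (X := D.obj j) (t.app j ⁻¹ᵁ U))
    [IsClosedImmersion (c.π.app j ≫ t.app j)] (x : Γ(D.obj j, t.app j ⁻¹ᵁ U)) :
    ∃ (i : I) (a : i ⟶ j) (r : Γ(S, U)), θ D t U a x = (t.app i).app U r := by
  have : ∀ {i j : I} (f : i ⟶ j), IsAffineHom (D.map f) := fun f => inferInstance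
  obtain ⟨r, hr⟩ := (c.π.app j ≫ t.app j).app_surjective U hU ((c.π.app j).app (t.app j ⁻¹ᵁ U) x)
  have hr' : (c.π.app j).app (t.app j ⁻¹ᵁ U) x =
      (c.π.app j).app (t.app j ⁻¹ᵁ U) ((t.app j).app U r) := hr.symm
  obtain ⟨i, a, h⟩ := exists_app_map_eq_map_of_isLimit D c hc hVj x _ hr'
  refine ⟨i, a, r, ?_⟩
  have h2 := congr((D.obj i).presheaf.map (homOfLE (preimage_le D t U a)).op $h)
  have h3 : θ D t U a x = θ D t U a ((t.app j).app U r) := h2
  rw [h3, ← ρ_θ D t U a]
  rfl

/-- The property that the stage `j` is a closed subscheme over the affine open `U`. -/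
def ClosedOver (j : I) (U : S.Opens) : Prop :=
  IsAffineOpen (t.app j ⁻¹ᵁ U) ∧ Function.Surjective ((t.app j).app U)

omit [IsCofiltered I] in
lemma ClosedOver.of_hom {j : I} {U : S.Opens} (h : ClosedOver D t j U) {i : I} (a : i ⟶ j) :
    ClosedOver D t i U := by
  have e : D.map a ≫ t.app j = t.app i := limOver_map_comp_app D t a
  rw [ClosedOver, ← e]
  refine ⟨h.1.preimage (D.map a), ?_⟩
  have h1 : Function.Surjective ((D.map a).app (t.app j ⁻¹ᵁ U)) :=
    (D.map a).app_surjective _ h.1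
  exact h1.comp h.2

attribute [local instance] CategoryTheory.isConnected_of_hasTerminal

include hc in
lemma exists_closedOver [QuasiSeparatedSpace S] [∀ i, CompactSpace (D.obj i)]
    [∀ i, QuasiSeparatedSpace (D.obj i)] [∀ i, LocallyOfFiniteType (t.app i)] (i₀ : I)
    [IsClosedImmersion (c.π.app i₀ ≫ t.app i₀)] (hU : IsAffineOpen U) :
    ∃ j : I, ClosedOver D t j U := by
  classical
  have : ∀ {i j : I} (f : i ⟶ j), IsAffineHom (D.map f) := fun f => inferInstance
  obtain ⟨j₁, hj₁⟩ := limOver_exists_isAffineOpen_preimage D t c hc i₀ U hU (hU.preimage _)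
  have hV : IsAffineOpen (t.app j₁ ⁻¹ᵁ U) := hj₁ j₁ (𝟙 _)
  have hci : IsClosedImmersion (c.π.app j₁ ≫ t.app j₁) := by
    have : c.π.app j₁ ≫ t.app j₁ = c.π.app i₀ ≫ t.app i₀ := limOver_structure_eq D t c j₁ i₀
    rw [this]; infer_instance
  -- generators
  have hft : ((t.app j₁).app U).hom.FiniteType := by
    rw [Scheme.Hom.app_eq_appLE]
    exact (t.app j₁).finiteType_appLE hU hV _
  obtain ⟨s, hs⟩ := exists_finset_generators _ hft
  have key := fun x => exists_θ_eq_ρ D t c hc U hU j₁ hV.isCompact x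
  choose i a r hr using key
  obtain ⟨l, hl⟩ := IsCofiltered.inf_objs_exists (s.image fun x => Over.mk (a x))
  refine ⟨l.left, hj₁ _ l.hom, ?_⟩
  have h1 := hs (θ D t U l.hom).hom (θ_surjective D t U l.hom hV) ?_
  · rw [← CommRingCat.hom_comp, ρ_θ] at h1
    exact h1
  · intro x hx
    obtain ⟨e⟩ := hl (Finset.mem_image_of_mem _ hx)
    have he : e.left ≫ a x = l.hom := by simpa using Over.w e
    rw [← CommRingCat.hom_comp, ρ_θ, ← he, ← θ_comp]
    refine ⟨r x, ?_⟩
    change _ = θ D t U e.left (θ D t U (a x) x)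
    rw [hr, ← ρ_θ D t U e.left]
    rfl


include hc in
/-- Over a qcqs base, a cofiltered limit of qcqs schemes locally of finite type with closed
immersions as transition maps that is a closed subscheme of the base is so at a finite stage. -/
theorem exists_isClosedImmersion_app [CompactSpace S] [QuasiSeparatedSpace S]
    [∀ i, CompactSpace (D.obj i)]
    [∀ i, QuasiSeparatedSpace (D.obj i)] [∀ i, LocallyOfFiniteType (t.app i)] (i₀ : I)
    [IsClosedImmersion (c.π.app i₀ ≫ t.app i₀)] :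
    ∃ i : I, IsClosedImmersion (t.app i) := by
  classical
  let W : S → S.Opens := fun x => (S.affineCover.f (S.affineCover.idx x)).opensRange
  have hW : ∀ x, IsAffineOpen (W x) := fun x => isAffineOpen_opensRange _
  have hxW : ∀ x, (W x : Set S) ∈ nhds x := fun x =>
    (W x).2.mem_nhds (S.affineCover.covers x)
  obtain ⟨T, hT⟩ := CompactSpace.elim_nhds_subcover (fun x => (W x : Set S)) hxW
  have key := fun x => exists_closedOver D t c hc (W x) i₀ (hW x)
  choose j hj using key
  obtain ⟨l, hl⟩ := IsCofiltered.inf_objs_exists (T.image j)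
  refine ⟨l, ?_⟩
  have hl' : ∀ x : T, ClosedOver D t l (W x) := fun x =>
    (hj x).of_hom D t (hl (Finset.mem_image_of_mem j x.2)).some
  refine isClosedImmersion_of_affine_cover (t.app l) (fun x : T => W x) ?_ (fun x => hW x)
    (fun x => (hl' x).1) (fun x => (hl' x).2)
  rw [eq_top_iff]
  intro y _
  have hy : y ∈ ⋃ x ∈ T, (W x : Set S) := hT ▸ Set.mem_univ y
  simp only [Set.mem_iUnion] at hy
  obtain ⟨x, hxT, hyx⟩ := hy
  exact TopologicalSpace.Opens.mem_iSup.mpr ⟨⟨x, hxT⟩, hyx⟩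

end

end Groth.Agent.Lib.Helper13
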