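import Groth.Agent.Lib.Helper13.LimClosedImmersion
import Groth.Agent.Lib.Helper13.ImmersionDescent

set_option autoImplicit false

universe u

namespace Groth.Agent.Lib.Helper13

open AlgebraicGeometry CategoryTheory CategoryTheory.Limits Groth.Agent.Lib.Helper24

variable {I : Type u} [SmallCategory I] [IsCofiltered I] {S : Scheme.{u}} (D : I ⥤ Scheme.{u})
  (t : D ⟶ (Functor.const I).obj S) (c : Cone D) (hc : IsLimit c)

include hc in
set_option backward.isDefEq.respectTransparency false in
/-- Over a quasi-separated base, a cofiltered limit of qcqs schemes locally of finite type with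
closed immersions as transition maps that is a subscheme of the base is so from some stage on. -/
theorem exists_isImmersion_app [QuasiSeparatedSpace S]
    [∀ {i j : I} (f : i ⟶ j), IsClosedImmersion (D.map f)]
    [∀ i, CompactSpace (D.obj i)]
    [∀ i, QuasiSeparatedSpace (D.obj i)] [∀ i, LocallyOfFiniteType (t.app i)] (i₀ : I)
    [IsImmersion (c.π.app i₀ ≫ t.app i₀)] :
    ∃ i₁ : I, ∀ (i : I) (_ : i ⟶ i₁), IsImmersion (t.app i) := by
  have : ∀ {i j : I} (f : i ⟶ j), IsAffineHom (D.map f) := fun f => inferInstance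
  have : CompactSpace c.pt := Scheme.compactSpace_of_isLimit D c hc
  let τ : c.pt ⟶ S := c.π.app i₀ ≫ t.app i₀
  have : IsImmersion τ := inferInstanceAs (IsImmersion (c.π.app i₀ ≫ t.app i₀))
  obtain ⟨U, hUc, hUtop, hUcob⟩ := exists_isCompact_opens_of_isImmersion τ
  -- a stage mapping into `U`
  obtain ⟨j₁, f₁, hj₁⟩ := exists_map_eq_top D c hc (t.app i₀ ⁻¹ᵁ U) (by
    rw [← Scheme.Hom.comp_preimage]; exact hUtop)
  have htop : ∀ m : Over j₁, t.app m.left ⁻¹ᵁ U = ⊤ := by
    intro m
    let a : m.left ⟶ j₁ := m.hom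
    have : t.app m.left = D.map a ≫ D.map f₁ ≫ t.app i₀ := by
      rw [limOver_map_comp_app, limOver_map_comp_app]
    rw [this, Scheme.Hom.comp_preimage, Scheme.Hom.comp_preimage, hj₁]
    rfl
  have hrange : ∀ m : Over j₁, Set.range (t.app m.left) ⊆ Set.range U.ι := by
    intro m
    rintro _ ⟨x, rfl⟩
    have : x ∈ t.app m.left ⁻¹ᵁ U := by rw [htop]; trivial
    simpa using this
  -- the system over `j₁` with base `U`
  let D₁ : Over j₁ ⥤ Scheme.{u} := Over.forget j₁ ⋙ D
  let c₁ : Cone D₁ := c.whisker (Over.forget j₁)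
  let hc₁ : IsLimit c₁ := (Functor.Initial.isLimitWhiskerEquiv (Over.forget j₁) c).symm hc
  let t₁ : D₁ ⟶ (Functor.const (Over j₁)).obj (U : Scheme.{u}) :=
    { app := fun m => IsOpenImmersion.lift U.ι (t.app m.left) (hrange m)
      naturality := fun m m' e => by
        rw [← cancel_mono U.ι]
        simp only [Functor.const_obj_obj, Functor.const_obj_map, Category.comp_id, Category.assoc,
          IsOpenImmersion.lift_fac]
        exact limOver_map_comp_app D t e.left }
  have ht₁ : ∀ m, t₁.app m ≫ U.ι = t.app m.left := fun m => IsOpenImmersion.lift_fac _ _ _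
  have : ∀ {m m' : Over j₁} (e : m ⟶ m'), IsClosedImmersion (D₁.map e) := fun e =>
    inferInstanceAs (IsClosedImmersion (D.map e.left))
  have : ∀ m, CompactSpace (D₁.obj m) := fun m => inferInstanceAs (CompactSpace (D.obj m.left))
  have : ∀ m, QuasiSeparatedSpace (D₁.obj m) := fun m =>
    inferInstanceAs (QuasiSeparatedSpace (D.obj m.left))
  have : ∀ m, LocallyOfFiniteType (t₁.app m) := fun m => by
    have : LocallyOfFiniteType (t₁.app m ≫ U.ι) := by rw [ht₁]; infer_instance
    exact locallyOfFiniteType_of_comp _ U.ι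
  have : CompactSpace ↥(U : Scheme.{u}) := isCompact_iff_compactSpace.mp hUc
  have : QuasiSeparatedSpace ↥(U : Scheme.{u}) :=
    QuasiSeparatedSpace.of_isOpenEmbedding U.ι.isOpenEmbedding
  let m₀ : Over j₁ := Over.mk (𝟙 j₁)
  have hlift : c₁.π.app m₀ ≫ t₁.app m₀ = IsOpenImmersion.lift U.ι τ (by
      rintro _ ⟨x, rfl⟩
      have : x ∈ τ ⁻¹ᵁ U := by rw [hUtop]; trivial
      simpa using this) := by
    rw [← cancel_mono U.ι, Category.assoc, ht₁, IsOpenImmersion.lift_fac]
    exact limOver_structure_eq D t c j₁ i₀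
  have : IsClosedImmersion (c₁.π.app m₀ ≫ t₁.app m₀) := by
    rw [hlift]
    exact isClosedImmersion_lift_of_le_coborderRange _ U hUcob _
  obtain ⟨m, hm⟩ := exists_isClosedImmersion_app D₁ t₁ c₁ hc₁ m₀
  refine ⟨m.left, fun i a => ?_⟩
  have : t.app i = D.map a ≫ t₁.app m ≫ U.ι := by
    rw [ht₁, limOver_map_comp_app]
  rw [this]
  infer_instance

end Groth.Agent.Lib.Helper13
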