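import Groth.Agent.Lib.Helper13.LimClosedImmersion
import Groth.Agent.Lib.Helper13.IntegralDescent

set_option autoImplicit false

universe u

namespace Groth.Agent.Lib.Helper13

open AlgebraicGeometry CategoryTheory CategoryTheory.Limits Groth.Agent.Lib.Helper24 Polynomial

/-- If `θ` is integral and the image of `θ` is elementwise integral over `R`,
then `θ ∘ ρ` is integral. -/
lemma isIntegral_comp_of_forall_isIntegralElem {R A B : Type*} [CommRing R] [CommRing A]
    [CommRing B] (ρ : R →+* A) (θ : A →+* B) (hθ : θ.IsIntegral)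
    (h : ∀ a, (θ.comp ρ).IsIntegralElem (θ a)) : (θ.comp ρ).IsIntegral := by
  let ι : θ.range →+* B := θ.range.subtype
  let θ' : A →+* θ.range := θ.rangeRestrict
  let ρ' : R →+* θ.range := θ'.comp ρ
  have e1 : ι.comp θ' = θ := rfl
  have e2 : ι.comp ρ' = θ.comp ρ := rfl
  have h1 : ρ'.IsIntegral := by
    rintro ⟨_, a, rfl⟩
    refine RingHom.IsIntegralElem.of_map (g := ι) Subtype.val_injective ?_
    rw [e2]
    exact h a
  have h2 : ι.IsIntegral := RingHom.IsIntegral.tower_top θ' ι (by rw [e1]; exact hθ)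
  rw [← e2]
  exact RingHom.IsIntegral.trans ρ' ι h1 h2

/-- A morphism is integral if over an affine open cover of the target the preimages
are affine and the maps on sections are integral. -/
lemma isIntegralHom_of_affine_cover {X Y : Scheme.{u}} (f : X ⟶ Y) {ι : Type*}
    (U : ι → Y.Opens) (hU : iSup U = ⊤) (h1 : ∀ i, IsAffineOpen (U i))
    (h2 : ∀ i, IsAffineOpen (f ⁻¹ᵁ U i)) (h3 : ∀ i, (f.app (U i)).hom.IsIntegral) :
    IsIntegralHom f := by
  refine IsZariskiLocalAtTarget.of_iSup_eq_top U hU fun i => ?_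
  have : IsAffine ↑(U i) := h1 i
  have : IsAffine ↑(f ⁻¹ᵁ U i) := h2 i
  rw [HasAffineProperty.iff_of_isAffine (P := @IsIntegralHom)]
  refine ⟨inferInstance, ?_⟩
  change ((f ∣_ U i).appTop).hom.IsIntegral
  rw [morphismRestrict_appTop]
  have key : ∀ V : Y.Opens, V = U i → (f.app V).hom.IsIntegral := by
    rintro V rfl; exact h3 i
  have h4 := key ((U i).ι ''ᵁ ⊤) (by simp)
  have : IsIso (X.presheaf.map (eqToHom (image_morphismRestrict_preimage f (U i) ⊤)).op) :=
    inferInstance
  have h5 := ((ConcreteCategory.isIso_iff_bijective _).mp this).2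
  exact RingHom.IsIntegral.trans _ _ h4 (RingHom.isIntegral_of_surjective _ h5)

variable {I : Type u} [SmallCategory I] {S : Scheme.{u}} (D : I ⥤ Scheme.{u})
  (t : D ⟶ (Functor.const I).obj S) (c : Cone D) (hc : IsLimit c) (U : S.Opens)

lemma θ_isIntegral [∀ {i j : I} (f : i ⟶ j), IsIntegralHom (D.map f)] {i j : I} (a : i ⟶ j)
    (hj : IsAffineOpen (t.app j ⁻¹ᵁ U)) : (θ D t U a).hom.IsIntegral := by
  rw [θ_eq, CommRingCat.hom_comp]
  have h1 : ((D.map a).app (t.app j ⁻¹ᵁ U)).hom.IsIntegral :=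
    (D.map a).isIntegral_app _ hj
  have h2 := (bijective_presheaf_map_of_eq (preimage_eq D t U a) (preimage_le D t U a)).2
  exact RingHom.IsIntegral.trans _ _ h1 (RingHom.isIntegral_of_surjective _ h2)


section

variable [IsCofiltered I] [∀ {i j : I} (f : i ⟶ j), IsIntegralHom (D.map f)]

include hc in
lemma exists_θ_isIntegralElem (hU : IsAffineOpen U) (j : I)
    (hVj : IsCompact (X := D.obj j) (t.app j ⁻¹ᵁ U))
    [IsIntegralHom (c.π.app j ≫ t.app j)] (x : Γ(D.obj j, t.app j ⁻¹ᵁ U)) :
    ∃ (i : I) (a : i ⟶ j), ((t.app i).app U).hom.IsIntegralElem (θ D t U a x) := by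
  have : ∀ {i j : I} (f : i ⟶ j), IsAffineHom (D.map f) := fun f => inferInstance
  have hint := (c.π.app j ≫ t.app j).isIntegral_app U hU
  obtain ⟨p, hp, hpx⟩ := hint ((c.π.app j).app (t.app j ⁻¹ᵁ U) x)
  let z : Γ(D.obj j, t.app j ⁻¹ᵁ U) := eval₂ ((t.app j).app U).hom x p
  have hz : (c.π.app j).app (t.app j ⁻¹ᵁ U) z = (c.π.app j).app (t.app j ⁻¹ᵁ U) 0 := by
    rw [map_zero]
    have h1 := map_eval₂_of_square ((t.app j).app U).hom ((c.π.app j ≫ t.app j).app U).hom
      (RingHom.id _) ((c.π.app j).app (t.app j ⁻¹ᵁ U)).hom rfl p x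
    rw [Polynomial.map_id] at h1
    exact h1.trans hpx
  obtain ⟨i, a, h⟩ := exists_app_map_eq_map_of_isLimit D c hc hVj z 0 hz
  refine ⟨i, a, ?_⟩
  have h2 := congr((D.obj i).presheaf.map (homOfLE (preimage_le D t U a)).op $h)
  have h3 : θ D t U a z = θ D t U a 0 := h2
  rw [map_zero] at h3
  have hsq : (θ D t U a).hom.comp ((t.app j).app U).hom =
      ((t.app i).app U).hom.comp (RingHom.id _) := by
    rw [RingHom.comp_id, ← CommRingCat.hom_comp, ρ_θ]
  exact isIntegralElem_of_square _ _ _ _ hsq p hp x h3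

/-- The property that the stage `j` is integral over the affine open `U`. -/
def IntegralOver (j : I) (U : S.Opens) : Prop :=
  IsAffineOpen (t.app j ⁻¹ᵁ U) ∧ ((t.app j).app U).hom.IsIntegral

omit [IsCofiltered I] in
lemma IntegralOver.of_hom {j : I} {U : S.Opens} (h : IntegralOver D t j U) {i : I} (a : i ⟶ j) :
    IntegralOver D t i U := by
  refine ⟨preimage_eq D t U a ▸ h.1.preimage (D.map a), ?_⟩
  rw [← ρ_θ D t U a, CommRingCat.hom_comp]
  exact RingHom.IsIntegral.trans _ _ h.2 (θ_isIntegral D t U a h.1)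

include hc in
lemma exists_integralOver [QuasiSeparatedSpace S] [∀ i, CompactSpace (D.obj i)]
    [∀ i, QuasiSeparatedSpace (D.obj i)] [∀ i, LocallyOfFiniteType (t.app i)] (i₀ : I)
    [IsIntegralHom (c.π.app i₀ ≫ t.app i₀)] (hU : IsAffineOpen U) :
    ∃ j : I, IntegralOver D t j U := by
  classical
  have : ∀ {i j : I} (f : i ⟶ j), IsAffineHom (D.map f) := fun f => inferInstance
  obtain ⟨j₁, hj₁⟩ := limOver_exists_isAffineOpen_preimage D t c hc i₀ U hU (hU.preimage _)
  have hV : IsAffineOpen (t.app j₁ ⁻¹ᵁ U) := hj₁ j₁ (𝟙 _)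
  have hci : IsIntegralHom (c.π.app j₁ ≫ t.app j₁) := by
    have : c.π.app j₁ ≫ t.app j₁ = c.π.app i₀ ≫ t.app i₀ := limOver_structure_eq D t c j₁ i₀
    rw [this]; infer_instance
  -- generators
  have hft : ((t.app j₁).app U).hom.FiniteType := by
    rw [Scheme.Hom.app_eq_appLE]
    exact (t.app j₁).finiteType_appLE hU hV _
  obtain ⟨s, hs⟩ := exists_finset_induction_of_finiteType _ hft
  have key := fun x => exists_θ_isIntegralElem D t c hc U hU j₁ hV.isCompact x
  choose i a hr using key
  obtain ⟨l, hl⟩ := IsCofiltered.inf_objs_exists (s.image fun x => Over.mk (a x))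
  refine ⟨l.left, hj₁ _ l.hom, ?_⟩
  have h0 : (θ D t U l.hom).hom.comp ((t.app j₁).app U).hom = ((t.app l.left).app U).hom := by
    rw [← CommRingCat.hom_comp, ρ_θ]
  rw [← h0]
  refine isIntegral_comp_of_forall_isIntegralElem _ _ (θ_isIntegral D t U l.hom hV) ?_
  rw [h0]
  refine hs (fun x => ((t.app l.left).app U).hom.IsIntegralElem (θ D t U l.hom x)) ?_ ?_ ?_ ?_
  · intro r
    have : θ D t U l.hom ((t.app j₁).app U r) = (t.app l.left).app U r :=
      congr(($(ρ_θ D t U l.hom)).hom r)
    change ((t.app l.left).app U).hom.IsIntegralElem (θ D t U l.hom ((t.app j₁).app U r))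
    rw [this]
    exact RingHom.isIntegralElem_map _
  · intro x y hx hy
    rw [map_add]
    exact RingHom.IsIntegralElem.add _ hx hy
  · intro x y hx hy
    rw [map_mul]
    exact RingHom.IsIntegralElem.mul _ hx hy
  · intro x hx
    obtain ⟨e⟩ := hl (Finset.mem_image_of_mem _ hx)
    have he : e.left ≫ a x = l.hom := by simpa using Over.w e
    rw [← he, ← θ_comp]
    have hsq : (θ D t U e.left).hom.comp ((t.app (i x)).app U).hom =
        ((t.app l.left).app U).hom.comp (RingHom.id _) := by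
      rw [RingHom.comp_id, ← CommRingCat.hom_comp, ρ_θ]
    exact isIntegralElem_map_of_square _ _ _ _ hsq _ (hr x)

include hc in
/-- Over a qcqs base, a cofiltered limit of qcqs schemes locally of finite type with integral
transition maps that is integral over the base is finite over the base from some stage on. -/
theorem exists_isFinite_app [CompactSpace S] [QuasiSeparatedSpace S]
    [∀ i, CompactSpace (D.obj i)]
    [∀ i, QuasiSeparatedSpace (D.obj i)] [∀ i, LocallyOfFiniteType (t.app i)] (i₀ : I)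
    [IsIntegralHom (c.π.app i₀ ≫ t.app i₀)] :
    ∃ i₁ : I, ∀ (i : I) (_ : i ⟶ i₁), IsFinite (t.app i) := by
  classical
  let W : S → S.Opens := fun x => (S.affineCover.f (S.affineCover.idx x)).opensRange
  have hW : ∀ x, IsAffineOpen (W x) := fun x => isAffineOpen_opensRange _
  have hxW : ∀ x, (W x : Set S) ∈ nhds x := fun x =>
    (W x).2.mem_nhds (S.affineCover.covers x)
  obtain ⟨T, hT⟩ := CompactSpace.elim_nhds_subcover (fun x => (W x : Set S)) hxW
  have key := fun x => exists_integralOver D t c hc (W x) i₀ (hW x)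
  choose j hj using key
  obtain ⟨l, hl⟩ := IsCofiltered.inf_objs_exists (T.image j)
  refine ⟨l, fun i b => ?_⟩
  have hl' : ∀ x : T, IntegralOver D t i (W x) := fun x =>
    (hj x).of_hom D t (b ≫ (hl (Finset.mem_image_of_mem j x.2)).some)
  have hint : IsIntegralHom (t.app i) := by
    refine isIntegralHom_of_affine_cover (t.app i) (fun x : T => W x) ?_ (fun x => hW x)
      (fun x => (hl' x).1) (fun x => (hl' x).2)
    rw [eq_top_iff]
    intro y _
    have hy : y ∈ ⋃ x ∈ T, (W x : Set S) := hT ▸ Set.mem_univ y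
    simp only [Set.mem_iUnion] at hy
    obtain ⟨x, hxT, hyx⟩ := hy
    exact TopologicalSpace.Opens.mem_iSup.mpr ⟨⟨x, hxT⟩, hyx⟩
  exact (IsFinite.iff_isIntegralHom_and_locallyOfFiniteType _).mpr ⟨hint, inferInstance⟩

end

end Groth.Agent.Lib.Helper13
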