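import Groth.Agent.Lib.Helper13.Coind3
import Groth.Agent.Lib.Helper13.AdjCx
import Mathlib.Algebra.Category.ModuleCat.Descent
import Mathlib.CategoryTheory.Localization.Adjunction

set_option autoImplicit false
universe u
open CategoryTheory CategoryTheory.Limits

namespace Groth.Agent.Lib.Helper13.Coind

attribute [local instance] HasDerivedCategory.standard

variable {A B : Type u} [CommRing A] [CommRing B] [Algebra A B]

section Full

variable (S : Submonoid A) [IsLocalization S B]

include S in
/-- `A`-linear maps between `S⁻¹A`-modules are `S⁻¹A`-linear. -/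
lemma restrictScalars_map_surjective (M N : ModuleCat.{u} B)
    (g : (ModuleCat.restrictScalars.{u} (algebraMap A B)).obj M ⟶
      (ModuleCat.restrictScalars.{u} (algebraMap A B)).obj N) :
    ∃ g' : M ⟶ N, (ModuleCat.restrictScalars.{u} (algebraMap A B)).map g' = g := by
  let _ : Module A M := Module.compHom M (algebraMap A B)
  let _ : Module A N := Module.compHom N (algebraMap A B)
  have : IsScalarTower A B M := ⟨fun a b m => by
    change (a • b) • m = algebraMap A B a • (b • m)
    rw [Algebra.smul_def, mul_smul]⟩
  have : IsScalarTower A B N := ⟨fun a b m => by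
    change (a • b) • m = algebraMap A B a • (b • m)
    rw [Algebra.smul_def, mul_smul]⟩
  let g0 : M →ₗ[A] N := g.hom
  exact ⟨ModuleCat.ofHom (LinearMap.extendScalarsOfIsLocalization S B g0), rfl⟩

include S in
lemma full_restrictScalars : (ModuleCat.restrictScalars.{u} (algebraMap A B)).Full :=
  ⟨fun {M N} g => restrictScalars_map_surjective S M N g⟩

end Full

section Flat

variable (A B)
variable [Module.Flat A B]

instance preservesFiniteLimits_extendScalars :
    PreservesFiniteLimits (ModuleCat.extendScalars.{u, u, u} (algebraMap A B)) :=
  ModuleCat.preservesFiniteLimits_extendScalars_of_flat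
    ((RingHom.flat_algebraMap_iff).2 inferInstance)

/-- Derived base change along a flat map, defined termwise. -/
noncomputable abbrev extD : Dual.D A ⥤ Dual.D B :=
  (ModuleCat.extendScalars.{u, u, u} (algebraMap A B)).mapDerivedCategory

noncomputable instance :
    CatCommSq ((ModuleCat.extendScalars.{u, u, u} (algebraMap A B)).mapHomologicalComplex
      (ComplexShape.up ℤ)) DerivedCategory.Q DerivedCategory.Q (extD A B) :=
  ⟨(ModuleCat.extendScalars.{u, u, u} (algebraMap A B)).mapDerivedCategoryFactors.symm⟩

noncomputable instance :
    CatCommSq ((ModuleCat.restrictScalars.{u} (algebraMap A B)).mapHomologicalComplex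
      (ComplexShape.up ℤ)) DerivedCategory.Q DerivedCategory.Q
      (DRing.restrictD (algebraMap A B)) :=
  ⟨(ModuleCat.restrictScalars.{u} (algebraMap A B)).mapDerivedCategoryFactors.symm⟩

/-- `- ⊗_A B ⊣ restriction` on derived categories, for `B` flat over `A`. -/
noncomputable def extResAdj : extD A B ⊣ DRing.restrictD (algebraMap A B) :=
  (Groth.Agent.Lib.Helper13.Kan.adjCx
    (ModuleCat.extendRestrictScalarsAdj.{u, u, u} (algebraMap A B))
    (ComplexShape.up ℤ)).localization DerivedCategory.Q
    (HomologicalComplex.quasiIso (ModuleCat.{u} A) (ComplexShape.up ℤ)) DerivedCategory.Q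
    (HomologicalComplex.quasiIso (ModuleCat.{u} B) (ComplexShape.up ℤ))
    (extD A B) (DRing.restrictD (algebraMap A B))

end Flat

section Loc

variable (A B)
variable (S : Submonoid A) [IsLocalization S B] [Module.Flat A B]

omit [Module.Flat A B] in
include S in
lemma isIso_counit_app_module (N : ModuleCat.{u} B) :
    IsIso ((ModuleCat.extendRestrictScalarsAdj.{u, u, u} (algebraMap A B)).counit.app N) := by
  have := full_restrictScalars (B := B) S
  infer_instance

include S in
lemma isIso_counit_app_cx (X : DRing.Cx B) :
    IsIso ((Groth.Agent.Lib.Helper13.Kan.adjCx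
      (ModuleCat.extendRestrictScalarsAdj.{u, u, u} (algebraMap A B))
      (ComplexShape.up ℤ)).counit.app X) := by
  have : ∀ i, IsIso (((Groth.Agent.Lib.Helper13.Kan.adjCx
      (ModuleCat.extendRestrictScalarsAdj.{u, u, u} (algebraMap A B))
      (ComplexShape.up ℤ)).counit.app X).f i) := fun i => by
    rw [Groth.Agent.Lib.Helper13.Kan.adjCx_counit_app_f]
    exact isIso_counit_app_module A B S (X.X i)
  exact HomologicalComplex.Hom.isIso_of_components _

include S in
/-- The counit of the derived adjunction is an isomorphism for a localization. -/
theorem isIso_extResAdj_counit : IsIso (extResAdj A B).counit := by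
  have h : ∀ Y : Dual.D B, IsIso ((extResAdj A B).counit.app Y) := by
    intro Y
    let X := DerivedCategory.Q.objPreimage Y
    let e : DerivedCategory.Q.obj X ≅ Y := DerivedCategory.Q.objObjPreimageIso Y
    have h1 : IsIso ((extResAdj A B).counit.app (DerivedCategory.Q.obj X)) := by
      have := isIso_counit_app_cx A B S X
      unfold extResAdj
      rw [Adjunction.localization_counit_app]
      infer_instance
    exact (NatTrans.isIso_app_iff_of_iso (extResAdj A B).counit e).1 h1
  exact NatIso.isIso_of_isIso_app _

include S in
/-- Restriction of scalars along a localization is fully faithful on derived categories. -/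
noncomputable def fullyFaithfulRestrictD : (DRing.restrictD (algebraMap A B)).FullyFaithful :=
  haveI := isIso_extResAdj_counit A B S
  (extResAdj A B).fullyFaithfulROfIsIsoCounit

include S in
/-- The unit `E → RHom_A(B, res E)` is an isomorphism for a localization. -/
theorem isIso_adj_unit : IsIso (adj (algebraMap A B)).unit := by
  have := (fullyFaithfulRestrictD A B S).full
  have := (fullyFaithfulRestrictD A B S).faithful
  infer_instance

end Loc

end Groth.Agent.Lib.Helper13.Coind
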