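import Groth.Agent.Lib.Helper13.LocFF1
import Mathlib.CategoryTheory.Triangulated.Adjunction

set_option autoImplicit false
universe u
open CategoryTheory CategoryTheory.Limits Pretriangulated

namespace Groth.Agent.Lib.Helper13.Coind

attribute [local instance] HasDerivedCategory.standard

section Tri

variable {A B : Type u} [CommRing A] [CommRing B] (φ : A →+* B)

noncomputable instance : (Rco φ).CommShift ℤ := (adj φ).rightAdjointCommShift ℤ

instance : (adj φ).CommShift ℤ := (adj φ).commShift_of_leftAdjoint ℤ

instance : (Rco φ).IsTriangulated := (adj φ).isTriangulated_rightAdjoint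

end Tri

section Step

variable (A B : Type u) [CommRing A] [CommRing B] [Algebra A B]

/-- Right orthogonality to objects restricted from `D(B)`. -/
def Orth (K : Dual.D A) : Prop :=
  ∀ E : Dual.D B, Subsingleton ((DRing.restrictD (algebraMap A B)).obj E ⟶ K)

variable {A B}

lemma orth_of_isZero_Rco {K : Dual.D A} (h : IsZero ((Rco (algebraMap A B)).obj K)) :
    Orth A B K := fun E => by
  rw [((adj (algebraMap A B)).homEquiv E K).subsingleton_congr]
  exact ⟨fun a b => h.eq_of_tgt a b⟩

lemma Orth.shift {K : Dual.D A} (h : Orth A B K) (n : ℤ) : Orth A B (K⟦n⟧) := fun E => by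
  have h1 := h (E⟦-n⟧)
  have e : (DRing.restrictD (algebraMap A B)).obj (E⟦-n⟧) ≅
      ((DRing.restrictD (algebraMap A B)).obj E)⟦-n⟧ :=
    ((DRing.restrictD (algebraMap A B)).commShiftIso (-n)).app E
  have h2 : Subsingleton (((DRing.restrictD (algebraMap A B)).obj E)⟦-n⟧ ⟶ K) :=
    (Iso.homCongr e (Iso.refl K)).subsingleton_congr.1 h1
  exact (subsingleton_shift_iff _ _ n).1 h2

variable (S : Submonoid A) [IsLocalization S B]

include S in
/-- One completion step: the cone of the counit `res (Rco K) → K` is right orthogonal to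
`res D(B)`. -/
theorem exists_step (K : Dual.D A) :
    ∃ (C : Dual.D A) (u : K ⟶ C)
      (w : C ⟶ ((DRing.restrictD (algebraMap A B)).obj ((Rco (algebraMap A B)).obj K))⟦(1 : ℤ)⟧),
      Triangle.mk ((adj (algebraMap A B)).counit.app K) u w ∈ distTriang (Dual.D A) ∧
        Orth A B C := by
  have : Module.Flat A B := IsLocalization.flat B S
  obtain ⟨C, u, w, hT⟩ := distinguished_cocone_triangle ((adj (algebraMap A B)).counit.app K)
  refine ⟨C, u, w, hT, ?_⟩
  apply orth_of_isZero_Rco
  have hT' := (Rco (algebraMap A B)).map_distinguished _ hT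
  have hunit := isIso_adj_unit A B S
  have h1 : (adj (algebraMap A B)).unit.app ((Rco (algebraMap A B)).obj K) ≫
      (Rco (algebraMap A B)).map ((adj (algebraMap A B)).counit.app K) = 𝟙 _ :=
    (adj (algebraMap A B)).right_triangle_components K
  have h2 : IsIso ((Rco (algebraMap A B)).map ((adj (algebraMap A B)).counit.app K)) := by
    have : IsIso ((adj (algebraMap A B)).unit.app ((Rco (algebraMap A B)).obj K)) := inferInstance
    exact IsIso.of_isIso_fac_left h1
  exact (Triangle.isZero₃_iff_isIso₁ _ hT').2 h2

end Step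

end Groth.Agent.Lib.Helper13.Coind
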