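import Groth.Agent.Lib.Helper13.DualBC25
import Groth.Agent.Lib.Helper13.DualBC3
import Groth.Agent.Lib.Helper13.DualBC10
import Groth.Agent.Lib.Helper13.BDX5
import Groth.Agent.Lib.Helper13.FinCoh1
import Mathlib.RingTheory.Spectrum.Prime.Module

/-!
# Two dualizing complexes: local analysis of `Hom(ω', ω[i])`
-/

set_option autoImplicit false
set_option maxHeartbeats 800000
set_option linter.style.haveILetI false
universe u
open CategoryTheory CategoryTheory.Limits TensorProduct
open scoped TensorProduct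

namespace Groth.Agent.Lib.Helper13.LocU

open Groth.Agent.Lib.Helper13.DualBC Groth.Agent.Lib.Helper13.HomBC Groth.Agent.Lib.Helper13.DR
  Groth.Agent.Lib.Helper13.Coind Groth.Agent.Lib.Helper13.Shriek Groth.Agent.Lib.Helper13.BDX
open DerivedCategory

attribute [local instance] HasDerivedCategory.standard

variable {A : Type u} [CommRing A] [IsNoetherianRing A]

lemma isPseudoCoherent'_of_isDualizing (ω : Dual.D A) (hω : Dual.IsDualizing A ω) :
    DRing.IsPseudoCoherent' A ω := by
  obtain ⟨_, ⟨a, b, h2⟩, h3, _, _⟩ := hω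
  exact isPseudoCoherent'_of_bdd_finite ω b (fun i hi =>
    ModuleCat.subsingleton_of_isZero (isZero_HD_of_subsingleton_ext ω i (h2 A i (Or.inr hi)))) h3

variable (ω ω' : Dual.D A) (hω : Dual.IsDualizing A ω) (hω' : Dual.IsDualizing A ω')

include hω hω'

/-- The local shift at a prime. -/
lemma exists_local_shift (p : PrimeSpectrum A) : ∃ n : ℤ,
    Nonempty ((flatBC A (Localization.AtPrime p.asIdeal)).obj ω' ≅
      ((flatBC A (Localization.AtPrime p.asIdeal)).obj ω)⟦n⟧) :=
  dualizing_unique_up_to_shift (Localization.AtPrime p.asIdeal) _ _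
    (isDualizing_flatBC_localization A p.asIdeal.primeCompl ω hω)
    (isDualizing_flatBC_localization A p.asIdeal.primeCompl ω' hω')

/-- Away from the local shift, the localized `Hom` vanishes. -/
lemma subsingleton_tensor_hom_of_ne (p : PrimeSpectrum A) (n : ℤ)
    (ψ : (flatBC A (Localization.AtPrime p.asIdeal)).obj ω' ≅
      ((flatBC A (Localization.AtPrime p.asIdeal)).obj ω)⟦n⟧) (i : ℤ) (hi : i ≠ n) :
    Subsingleton (Localization.AtPrime p.asIdeal ⊗[A] (ω' ⟶ ω⟦i⟧)) := by
  obtain ⟨c, hc⟩ := exists_isGE_of_isDualizing ω hω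
  have hB := isDualizing_flatBC_localization A p.asIdeal.primeCompl ω hω
  have h1 : Subsingleton (((flatBC A (Localization.AtPrime p.asIdeal)).obj ω)⟦n⟧ ⟶
      ((flatBC A (Localization.AtPrime p.asIdeal)).obj ω)⟦i⟧) :=
    subsingleton_hom_shift_shift _ n i (hB.ext_self_subsingleton (i - n) (by lia))
  have h2 : Subsingleton ((flatBC A (Localization.AtPrime p.asIdeal)).obj ω' ⟶
      (flatBC A (Localization.AtPrime p.asIdeal)).obj (ω⟦i⟧)) :=
    (Iso.homCongr ψ (flatBCShiftIso (Localization.AtPrime p.asIdeal) ω i)).subsingleton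
  exact (bijective_bcHom_shift (Localization.AtPrime p.asIdeal) ω'
    (isPseudoCoherent'_of_isDualizing ω' hω') ω c i).1.subsingleton

/-- At the local shift, the localized `Hom` is nonzero. -/
lemma nontrivial_tensor_hom (p : PrimeSpectrum A) (n : ℤ)
    (ψ : (flatBC A (Localization.AtPrime p.asIdeal)).obj ω' ≅
      ((flatBC A (Localization.AtPrime p.asIdeal)).obj ω)⟦n⟧) :
    Nontrivial (Localization.AtPrime p.asIdeal ⊗[A] (ω' ⟶ ω⟦n⟧)) := by
  obtain ⟨c, hc⟩ := exists_isGE_of_isDualizing ω hω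
  have hB' := isDualizing_flatBC_localization A p.asIdeal.primeCompl ω' hω'
  by_contra hcon
  rw [not_nontrivial_iff_subsingleton] at hcon
  have hbij := bijective_bcHom_shift (Localization.AtPrime p.asIdeal) ω'
    (isPseudoCoherent'_of_isDualizing ω' hω') ω c n
  have h2 : Subsingleton ((flatBC A (Localization.AtPrime p.asIdeal)).obj ω' ⟶
      (flatBC A (Localization.AtPrime p.asIdeal)).obj (ω⟦n⟧)) := by
    refine ⟨fun f g => ?_⟩
    obtain ⟨x, rfl⟩ := hbij.2 f
    obtain ⟨y, rfl⟩ := hbij.2 g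
    rw [Subsingleton.elim x y]
  let φ : (flatBC A (Localization.AtPrime p.asIdeal)).obj ω' ≅
      (flatBC A (Localization.AtPrime p.asIdeal)).obj (ω⟦n⟧) :=
    ψ ≪≫ (flatBCShiftIso (Localization.AtPrime p.asIdeal) ω n).symm
  have h3 : φ.hom = 0 := Subsingleton.elim _ _
  have h4 : 𝟙 ((flatBC A (Localization.AtPrime p.asIdeal)).obj ω') = 0 := by
    rw [← φ.hom_inv_id, h3, zero_comp]
  have h5 : (1 : Localization.AtPrime p.asIdeal) = 0 := by
    apply hB'.toEnd_bijective.1
    change (1 : Localization.AtPrime p.asIdeal) • 𝟙 _ = (0 : Localization.AtPrime p.asIdeal) • 𝟙 _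
    rw [one_smul, zero_smul, h4]
  exact one_ne_zero h5

end Groth.Agent.Lib.Helper13.LocU
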