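import Groth.Agent.Lib.Helper13.LocU1
import Groth.Agent.Lib.Helper13.TFD4
import Mathlib.Topology.Connected.Clopen

/-!
# Two dualizing complexes on a connected spectrum: the global shift
-/

set_option autoImplicit false
set_option maxHeartbeats 800000
set_option linter.style.haveILetI false
universe u
open CategoryTheory CategoryTheory.Limits TensorProduct
open scoped TensorProduct

namespace Groth.Agent.Lib.Helper13.LocU

open Groth.Agent.Lib.Helper13.DualBC Groth.Agent.Lib.Helper13.HomBC Groth.Agent.Lib.Helper13.DR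
  Groth.Agent.Lib.Helper13.Coind Groth.Agent.Lib.Helper13.Shriek Groth.Agent.Lib.Helper13.BDX
  Groth.Agent.Lib.Helper13.TFD
open DerivedCategory

attribute [local instance] HasDerivedCategory.standard

variable {A : Type u} [CommRing A] [IsNoetherianRing A]
variable (ω ω' : Dual.D A) (hω : Dual.IsDualizing A ω) (hω' : Dual.IsDualizing A ω')

include hω hω'

/-- `Hom(ω', ω[i])` is a finite module, and vanishes outside a bounded range. -/
lemma finite_and_bounded_hom :
    (∀ i : ℤ, Module.Finite A (ω' ⟶ ω⟦i⟧)) ∧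
      ∃ lo hi : ℤ, ∀ i : ℤ, (i < lo ∨ hi < i) → Subsingleton (ω' ⟶ ω⟦i⟧) := by
  have hfinω := hω.finite_cohomology
  have hfinω' := hω'.finite_cohomology
  obtain ⟨I, a, b, hIinj, hKI, hI, hab, hv, h4, h5, ⟨e⟩⟩ := exists_injective_model ω hω
  obtain ⟨I', a', b', hIinj', hKI', hI', hab', hv', h4', h5', ⟨e'⟩⟩ := exists_injective_model ω' hω'
  have hIfin : ∀ i : ℤ, Module.Finite A (Dual.HD A (Q.obj I) i) := fun i => by
    have := hfinω i
    exact Module.Finite.equiv
      ((DerivedCategory.homologyFunctor (ModuleCat.{u} A) i).mapIso e).symm.toLinearEquiv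
  have hIfin' : ∀ i : ℤ, Module.Finite A (Dual.HD A (Q.obj I') i) := fun i => by
    have := hfinω' i
    exact Module.Finite.equiv
      ((DerivedCategory.homologyFunctor (ModuleCat.{u} A) i).mapIso e').symm.toLinearEquiv
  have key : ∀ i : ℤ, (ω' ⟶ ω⟦i⟧) ≃ₗ[A] (DRing.homCx I' I).homology i := fun i =>
    (Linear.homCongr A e'.symm ((CategoryTheory.shiftFunctor (Dual.D A) i).mapIso e.symm)) ≪≫ₗ
      (homEquiv I' I i).symm
  refine ⟨fun i => ?_, a - b', b - a', fun i hi => ?_⟩
  · have := finite_homology_homCx I a b hv I' hIfin' hIfin i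
    exact Module.Finite.equiv (key i).symm
  · have hz : IsZero ((DRing.homCx I' I).homology i) :=
      ShortComplex.isZero_homology_of_isZero_X₂ _
        (vanishesOutside_homCx I' I a' b' a b hv' hv i hi)
    have := ModuleCat.subsingleton_of_isZero hz
    exact (key i).toEquiv.subsingleton

/-- On a connected spectrum, two dualizing complexes differ locally by the same shift. -/
theorem exists_global_shift [ConnectedSpace (PrimeSpectrum A)] :
    ∃ k : ℤ, (∀ i : ℤ, i ≠ k → Subsingleton (ω' ⟶ ω⟦i⟧)) ∧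
      ∀ p : PrimeSpectrum A, Nonempty ((flatBC A (Localization.AtPrime p.asIdeal)).obj ω' ≅
        ((flatBC A (Localization.AtPrime p.asIdeal)).obj ω)⟦k⟧) := by
  classical
  obtain ⟨hfin, lo, hi, hbd⟩ := finite_and_bounded_hom ω ω' hω hω'
  choose n hn using exists_local_shift ω ω' hω hω'
  have hmem : ∀ (p : PrimeSpectrum A) (i : ℤ),
      p ∈ Module.support A (ω' ⟶ ω⟦i⟧) ↔ i = n p := by
    intro p i
    obtain ⟨ψ⟩ := hn p
    rw [Module.mem_support_iff]
    constructor
    · intro h
      by_contra hne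
      have h1 := subsingleton_tensor_hom_of_ne ω ω' hω hω' p (n p) ψ i hne
      have h2 : Subsingleton (LocalizedModule p.asIdeal.primeCompl (ω' ⟶ ω⟦i⟧)) :=
        (LocalizedModule.equivTensorProduct p.asIdeal.primeCompl (ω' ⟶ ω⟦i⟧)).toEquiv.subsingleton
      exact not_subsingleton _ h2
    · rintro rfl
      have h1 : Nontrivial (Localization.AtPrime p.asIdeal ⊗[A] (ω' ⟶ ω⟦n p⟧)) :=
        nontrivial_tensor_hom ω ω' hω hω' p (n p) ψ
      have h2 : Nontrivial (LocalizedModule p.asIdeal.primeCompl (ω' ⟶ ω⟦n p⟧)) :=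
        (LocalizedModule.equivTensorProduct p.asIdeal.primeCompl
          (ω' ⟶ ω⟦n p⟧)).toEquiv.nontrivial
      exact h2
  have hrange : ∀ p : PrimeSpectrum A, lo ≤ n p ∧ n p ≤ hi := by
    intro p
    by_contra hcon
    have h1 : Subsingleton (ω' ⟶ ω⟦n p⟧) := hbd (n p) (by lia)
    have h2 : p ∈ Module.support A (ω' ⟶ ω⟦n p⟧) := (hmem p (n p)).2 rfl
    rw [Module.support_eq_empty] at h2
    exact h2
  obtain ⟨p₀⟩ : Nonempty (PrimeSpectrum A) := inferInstance
  let k := n p₀
  let S : Set (PrimeSpectrum A) := Module.support A (ω' ⟶ ω⟦k⟧)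
  have hSclosed : IsClosed S := by
    have := hfin k
    exact Module.isClosed_support
  let T : Set (PrimeSpectrum A) :=
    ⋃ i ∈ ((Finset.Icc lo hi).erase k : Finset ℤ), Module.support A (ω' ⟶ ω⟦i⟧)
  have hTclosed : IsClosed T := by
    refine Set.Finite.isClosed_biUnion (Finset.finite_toSet _) (fun i _ => ?_)
    have := hfin i
    exact Module.isClosed_support
  have hST : S = Tᶜ := by
    ext p
    simp only [S, T, Set.mem_compl_iff, Set.mem_iUnion, not_exists]
    constructor
    · intro hp i hi' hpi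
      have h1 := (hmem p k).1 hp
      have h2 := (hmem p i).1 hpi
      rw [Finset.mem_erase] at hi'
      exact hi'.1 (h2.trans h1.symm)
    · intro hp
      rw [hmem p k]
      by_contra hne
      refine hp (n p) ?_ ((hmem p (n p)).2 rfl)
      rw [Finset.mem_erase, Finset.mem_Icc]
      exact ⟨fun h => hne h.symm, hrange p⟩
  have hclopen : IsClopen S := ⟨hSclosed, by rw [hST]; exact hTclosed.isOpen_compl⟩
  have hSuniv : S = Set.univ := by
    rcases isClopen_iff.1 hclopen with h | h
    · exfalso
      have : p₀ ∈ S := (hmem p₀ k).2 rfl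
      rw [h] at this
      exact this
    · exact h
  have hnk : ∀ p, n p = k := fun p => by
    have : p ∈ S := by rw [hSuniv]; trivial
    exact ((hmem p k).1 this).symm
  refine ⟨k, fun i hi' => ?_, fun p => by rw [← hnk p]; exact hn p⟩
  rw [← Module.support_eq_empty_iff (R := A)]
  ext p
  simp only [Set.mem_empty_iff_false, iff_false]
  intro hp
  exact hi' (((hmem p i).1 hp).trans (hnk p))

end Groth.Agent.Lib.Helper13.LocU
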