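import Groth.Agent.Lib.Helper13.LocU2
import Mathlib.RingTheory.PicardGroup

/-!
# Morita-type invertibility of `Hom(X, Y)` for locally isomorphic objects with `End = A`
-/

set_option autoImplicit false
set_option maxHeartbeats 800000
set_option linter.style.haveILetI false
universe u
open CategoryTheory CategoryTheory.Limits TensorProduct
open scoped TensorProduct

namespace Groth.Agent.Lib.Helper13.LocU

open Groth.Agent.Lib.Helper13.DualBC Groth.Agent.Lib.Helper13.HomBC Groth.Agent.Lib.Helper13.DR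
  Groth.Agent.Lib.Helper13.Coind Groth.Agent.Lib.Helper13.Shriek Groth.Agent.Lib.Helper13.BDX
  Groth.Agent.Lib.Helper13.TFD
open DerivedCategory

attribute [local instance] HasDerivedCategory.standard

section Morita

variable {A : Type u} [CommRing A]
variable (X Y : Dual.D A) (hX : Function.Bijective (fun a : A => a • 𝟙 X))

/-- `A ≃ End(X)`. -/
noncomputable def eEnd : A ≃ₗ[A] (X ⟶ X) := LinearEquiv.ofBijective (toEndLin X) hX

lemma eEnd_apply (a : A) : eEnd X hX a = a • 𝟙 X := rfl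

/-- The composition pairing `Hom(Y, X) ⊗ Hom(X, Y) → End(X) = A`. -/
noncomputable def mu : (Y ⟶ X) ⊗[A] (X ⟶ Y) →ₗ[A] A :=
  TensorProduct.lift (LinearMap.mk₂ A (fun (g : Y ⟶ X) (f : X ⟶ Y) => (eEnd X hX).symm (f ≫ g))
    (fun g g' f => by rw [Preadditive.comp_add, map_add])
    (fun a g f => by rw [Linear.comp_smul, map_smul])
    (fun g f f' => by rw [Preadditive.add_comp, map_add])
    (fun a g f => by rw [Linear.smul_comp, map_smul]))

lemma mu_tmul (g : Y ⟶ X) (f : X ⟶ Y) :
    mu X Y hX (g ⊗ₜ f) = (eEnd X hX).symm (f ≫ g) := rfl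

lemma mu_spec (g : Y ⟶ X) (f : X ⟶ Y) : mu X Y hX (g ⊗ₜ f) • 𝟙 X = f ≫ g := by
  rw [mu_tmul, ← eEnd_apply X hX, LinearEquiv.apply_symm_apply]

variable (hY : Function.Bijective (fun a : A => a • 𝟙 Y))

include hY in
lemma mu_smul_comm (x t : (Y ⟶ X) ⊗[A] (X ⟶ Y)) :
    mu X Y hX x • t = mu X Y hX t • x := by
  induction x using TensorProduct.induction_on with
  | zero => rw [map_zero, zero_smul, smul_zero]
  | add x₁ x₂ h₁ h₂ => rw [map_add, add_smul, smul_add, h₁, h₂]
  | tmul g f =>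
    induction t using TensorProduct.induction_on with
    | zero => rw [map_zero, zero_smul, smul_zero]
    | add t₁ t₂ h₁ h₂ => rw [map_add, add_smul, smul_add, h₁, h₂]
    | tmul g' f' =>
      obtain ⟨b, hb⟩ := hY.2 (g ≫ f')
      have hb' : b • 𝟙 Y = g ≫ f' := hb
      -- a • (g' ⊗ f') = g' ⊗ (a • f')
      have h1 : mu X Y hX (g ⊗ₜ f) • f' = b • f := by
        have : mu X Y hX (g ⊗ₜ f) • f' = (mu X Y hX (g ⊗ₜ f) • 𝟙 X) ≫ f' := by
          rw [Linear.smul_comp, Category.id_comp]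
        rw [this, mu_spec, Category.assoc, ← hb', Linear.comp_smul, Category.comp_id]
      have h2 : b • g' = mu X Y hX (g' ⊗ₜ f') • g := by
        have : b • g' = (b • 𝟙 Y) ≫ g' := by rw [Linear.smul_comp, Category.id_comp]
        rw [this, hb', Category.assoc, ← mu_spec X Y hX g' f', Linear.comp_smul, Category.comp_id]
      rw [TensorProduct.smul_tmul', TensorProduct.smul_tmul, h1, ← TensorProduct.smul_tmul, h2,
        TensorProduct.smul_tmul']

include hY in
lemma bijective_mu_of_one (t₀ : (Y ⟶ X) ⊗[A] (X ⟶ Y)) (h : mu X Y hX t₀ = 1) :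
    Function.Bijective (mu X Y hX) := by
  constructor
  · rw [← LinearMap.ker_eq_bot, LinearMap.ker_eq_bot']
    intro x hx
    have := mu_smul_comm X Y hX hY x t₀
    rw [hx, h, zero_smul, one_smul] at this
    exact this.symm
  · intro a
    exact ⟨a • t₀, by rw [map_smul, h, smul_eq_mul, mul_one]⟩

lemma exists_mem_map_comp (B : Type u) [CommRing B] [Algebra A B] [Module.Flat A B]
    (x : B ⊗[A] (X ⟶ Y)) (y : B ⊗[A] (Y ⟶ X)) :
    ∃ c ∈ Ideal.map (algebraMap A B) (LinearMap.range (mu X Y hX) : Ideal A),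
      bcHom B X Y x ≫ bcHom B Y X y = c • 𝟙 ((flatBC A B).obj X) := by
  induction x using TensorProduct.induction_on with
  | zero => exact ⟨0, Ideal.zero_mem _, by rw [map_zero, zero_comp, zero_smul]⟩
  | add x₁ x₂ h₁ h₂ =>
    obtain ⟨c₁, hc₁, e₁⟩ := h₁
    obtain ⟨c₂, hc₂, e₂⟩ := h₂
    exact ⟨c₁ + c₂, Ideal.add_mem _ hc₁ hc₂, by
      rw [map_add, Preadditive.add_comp, e₁, e₂, add_smul]⟩
  | tmul b f =>
    induction y using TensorProduct.induction_on with
    | zero => exact ⟨0, Ideal.zero_mem _, by rw [map_zero, comp_zero, zero_smul]⟩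
    | add y₁ y₂ h₁ h₂ =>
      obtain ⟨c₁, hc₁, e₁⟩ := h₁
      obtain ⟨c₂, hc₂, e₂⟩ := h₂
      exact ⟨c₁ + c₂, Ideal.add_mem _ hc₁ hc₂, by
        rw [map_add, Preadditive.comp_add, e₁, e₂, add_smul]⟩
    | tmul b' g =>
      refine ⟨b' * (b * algebraMap A B (mu X Y hX (g ⊗ₜ f))),
        Ideal.mul_mem_left _ _ (Ideal.mul_mem_left _ _ (Ideal.mem_map_of_mem _ ⟨g ⊗ₜ f, rfl⟩)), ?_⟩
      rw [bcHom_tmul, bcHom_tmul, Linear.smul_comp, Linear.comp_smul, ← Functor.map_comp,
        ← mu_spec X Y hX g f, flatBC_map_smul, CategoryTheory.Functor.map_id, smul_smul, smul_smul]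
      congr 1
      ring

end Morita

section Main

variable {A : Type u} [CommRing A]

/-- Morita-type criterion: if `End(X) = A = End(Y)` and `X`, `Y` are locally isomorphic, then
`Hom(X, Y)` is an invertible module. -/
theorem invertible_hom_of_locally_iso (X Y : Dual.D A)
    (hX : Function.Bijective (fun a : A => a • 𝟙 X))
    (hY : Function.Bijective (fun a : A => a • 𝟙 Y))
    (hXpc : DRing.IsPseudoCoherent' A X) (hYpc : DRing.IsPseudoCoherent' A Y)
    (c₁ c₂ : ℤ) [Y.IsGE c₁] [X.IsGE c₂]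
    (hloc : ∀ p : PrimeSpectrum A,
      Nonempty ((flatBC A (Localization.AtPrime p.asIdeal)).obj X ≅
        (flatBC A (Localization.AtPrime p.asIdeal)).obj Y) ∧
      Function.Injective (fun b : Localization.AtPrime p.asIdeal =>
        b • 𝟙 ((flatBC A (Localization.AtPrime p.asIdeal)).obj X))) :
    Module.Invertible A (X ⟶ Y) := by
  have hsurj : (LinearMap.range (mu X Y hX) : Ideal A) = ⊤ := by
    by_contra hne
    obtain ⟨m, hm, hJm⟩ := Ideal.exists_le_maximal _ hne
    let p : PrimeSpectrum A := ⟨m, hm.isPrime⟩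
    obtain ⟨⟨φ⟩, hinj⟩ := hloc p
    obtain ⟨x, hx⟩ := (bijective_bcHom (Localization.AtPrime p.asIdeal) X hXpc Y c₁).2 φ.hom
    obtain ⟨y, hy⟩ := (bijective_bcHom (Localization.AtPrime p.asIdeal) Y hYpc X c₂).2 φ.inv
    obtain ⟨c, hc, hcc⟩ := exists_mem_map_comp X Y hX (Localization.AtPrime p.asIdeal) x y
    rw [hx, hy, φ.hom_inv_id] at hcc
    have h1 : c = 1 := by
      apply hinj
      change c • 𝟙 _ = (1 : Localization.AtPrime p.asIdeal) • 𝟙 _
      rw [one_smul, ← hcc]
    have h2 : c ∈ IsLocalRing.maximalIdeal (Localization.AtPrime p.asIdeal) := by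
      rw [← Localization.AtPrime.map_eq_maximalIdeal]
      exact Ideal.map_mono hJm hc
    rw [h1] at h2
    exact (Ideal.ne_top_iff_one _).1
      (IsLocalRing.maximalIdeal.isMaximal (Localization.AtPrime p.asIdeal)).ne_top h2
  obtain ⟨t₀, ht₀⟩ : ∃ t₀, mu X Y hX t₀ = 1 := by
    have : (1 : A) ∈ (LinearMap.range (mu X Y hX) : Ideal A) := by rw [hsurj]; trivial
    exact this
  exact Module.Invertible.right
    (LinearEquiv.ofBijective (mu X Y hX) (bijective_mu_of_one X Y hX hY t₀ ht₀))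

end Main

end Groth.Agent.Lib.Helper13.LocU
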