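import Groth.Agent.Lib.Helper13.LocU3
import Groth.Agent.Lib.Helper13.INV2
import Groth.Agent.Lib.Helper13.BDX7
import Groth.Agent.Lib.Helper13.DualBC6

/-!
# Two dualizing complexes on a connected spectrum differ by an invertible twist and a shift
-/

set_option autoImplicit false
set_option maxHeartbeats 800000
set_option linter.style.haveILetI false
universe u
open CategoryTheory CategoryTheory.Limits TensorProduct Opposite
open scoped TensorProduct

namespace Groth.Agent.Lib.Helper13.LocU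

open Groth.Agent.Lib.Helper13.DualBC Groth.Agent.Lib.Helper13.HomBC Groth.Agent.Lib.Helper13.DR
  Groth.Agent.Lib.Helper13.Coind Groth.Agent.Lib.Helper13.Shriek Groth.Agent.Lib.Helper13.BDX
  Groth.Agent.Lib.Helper13.TFD Groth.Agent.Lib.Helper13.INV Groth.Agent.Lib.Helper13.HOp
  Groth.Agent.Lib.Helper13.BD Groth.Agent.Lib.Helper13.PC
open DerivedCategory

attribute [local instance] HasDerivedCategory.standard

variable {A : Type u} [CommRing A] [IsNoetherianRing A]

theorem exists_invertible_twist [ConnectedSpace (PrimeSpectrum A)] (ω ω' : Dual.D A)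
    (hω : Dual.IsDualizing A ω) (hω' : Dual.IsDualizing A ω') :
    ∃ (P : ModuleCat.{u} A) (_ : Module.Invertible A P) (n : ℤ),
      ∀ [DRing.HasLTensor A P], Nonempty (ω' ≅ ((DRing.LTensor A P).obj ω)⟦n⟧) := by
  obtain ⟨k, hk0, hkloc⟩ := exists_global_shift ω ω' hω hω'
  have hΩ : Dual.IsDualizing A (ω⟦k⟧) := isDualizing_shift ω hω k
  -- invertibility of `Hom(ω', ω[k])`
  have hinv : Module.Invertible A (ω' ⟶ ω⟦k⟧) := by
    obtain ⟨c₁, hc₁⟩ := exists_isGE_of_isDualizing (ω⟦k⟧) hΩ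
    obtain ⟨c₂, hc₂⟩ := exists_isGE_of_isDualizing ω' hω'
    refine invertible_hom_of_locally_iso ω' (ω⟦k⟧) hω'.toEnd_bijective hΩ.toEnd_bijective
      (isPseudoCoherent'_of_isDualizing ω' hω') (isPseudoCoherent'_of_isDualizing _ hΩ) c₁ c₂
      (fun p => ⟨?_, ?_⟩)
    · obtain ⟨ψ⟩ := hkloc p
      exact ⟨ψ ≪≫ (flatBCShiftIso (Localization.AtPrime p.asIdeal) ω k).symm⟩
    · exact (isDualizing_flatBC_localization A p.asIdeal.primeCompl ω' hω').toEnd_bijective.1
  -- models
  have hfinω' := hω'.finite_cohomology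
  obtain ⟨I, a, b, hIinj, hKI, hI, hab, hv, h4, h5, ⟨e⟩⟩ := exists_injective_model ω hω
  obtain ⟨I', a', b', hIinj', hKI', hI', hab', hv', h4', h5', ⟨e'⟩⟩ := exists_injective_model ω' hω'
  have hIfin' : ∀ i : ℤ, Module.Finite A (Dual.HD A (Q.obj I') i) := fun i => by
    have := hfinω' i
    exact Module.Finite.equiv
      ((DerivedCategory.homologyFunctor (ModuleCat.{u} A) i).mapIso e').symm.toLinearEquiv
  have key : ∀ i : ℤ, (ω' ⟶ ω⟦i⟧) ≃ₗ[A] (DRing.homCx I' I).homology i := fun i =>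
    (Linear.homCongr A e'.symm ((CategoryTheory.shiftFunctor (Dual.D A) i).mapIso e.symm)) ≪≫ₗ
      (homEquiv I' I i).symm
  let M : DRing.Cx A := DRing.homCx I' I
  have hMz : ∀ i : ℤ, i ≠ k →
      IsZero ((DerivedCategory.homologyFunctor (ModuleCat.{u} A) i).obj (Q.obj M)) := by
    intro i hi
    have h1 := hk0 i hi
    have h2 : Subsingleton (M.homology i) := (key i).symm.toEquiv.subsingleton
    exact (ModuleCat.isZero_of_subsingleton _).of_iso (homologyQIso M i)
  haveI : (Q.obj M : Dual.D A).IsGE k := by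
    rw [DerivedCategory.isGE_iff]
    intro i hi
    exact hMz i (by lia)
  haveI : (Q.obj M : Dual.D A).IsLE k := by
    rw [DerivedCategory.isLE_iff]
    intro i hi
    exact hMz i (by lia)
  obtain ⟨P₀, ⟨eP⟩⟩ := DerivedCategory.exists_iso_singleFunctor_obj_of_isGE_of_isLE
    (Q.obj M : Dual.D A) k
  let eME : (Q.obj M : Dual.D A) ≅ Q.obj (E₀ (A := A) P₀ k) :=
    eP ≪≫ (DerivedCategory.singleFunctorIsoCompQ (ModuleCat.{u} A) k).app P₀
  let lN : P₀ ≃ₗ[A] (ω' ⟶ ω⟦k⟧) :=
    ((HD_E₀_iso (A := A) P₀ k).symm ≪≫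
      (DerivedCategory.homologyFunctor (ModuleCat.{u} A) k).mapIso eME.symm ≪≫
      homologyQIso M k).toLinearEquiv ≪≫ₗ (key k).symm
  haveI : Module.Invertible A P₀ := Module.Invertible.congr lN.symm
  refine ⟨ModuleCat.of A (Module.Dual A P₀),
    inferInstanceAs (Module.Invertible A (Module.Dual A P₀)), k, ?_⟩
  intro inst
  have hbid : BidQis I I' := bidQis_of_finite I hIinj h4 h5 a b hv hab I' hIfin'
  have h1 : IsIso (Q.map (bid I' I)) := by
    rw [isIso_Q_map_iff_quasiIso]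
    exact hbid
  obtain ⟨e1⟩ := nonempty_homCx_single_iso P₀ I k
  exact ⟨e'.symm ≪≫ asIso (Q.map (bid I' I)) ≪≫ ((DJIso I).app (op M)).symm ≪≫
    (DJ I).mapIso eME.symm.op ≪≫ (DJIso I).app (op (E₀ (A := A) P₀ k)) ≪≫ e1 ≪≫
    (CategoryTheory.shiftFunctor (Dual.D A) k).mapIso
      ((DRing.LTensor A (ModuleCat.of A (Module.Dual A P₀))).mapIso e)⟩

end Groth.Agent.Lib.Helper13.LocU
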