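import Groth.Agent.Lib.Helper13.QIsoElem

set_option autoImplicit false
set_option linter.style.haveILetI false
universe u
open CategoryTheory CategoryTheory.Limits

namespace Groth.Agent.Lib.Helper13.MC

open HomologicalComplex
open Groth.Agent.Lib.Helper13.QE

variable {k : Type u} [CommRing k]

section Elem

variable (G : CochainComplex (ModuleCat.{u} k) ℤ)

/-- Cycles lift to the object of cycles. -/
lemma exists_cycle (j : ℤ) (y : G.X j) (hy : (G.d j (j + 1)).hom y = 0) :
    ∃ c : G.cycles j, (G.iCycles j).hom c = y := by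
  let kk : ModuleCat.of k k ⟶ G.X j := ModuleCat.ofHom (LinearMap.toSpanSingleton k (G.X j) y)
  have hk : kk ≫ G.d j (j + 1) = 0 := by
    ext
    change (G.d j (j + 1)).hom ((1 : k) • y) = 0
    rw [one_smul, hy]
  refine ⟨(G.liftCycles kk (j + 1) (by simp) hk).hom (1 : k), ?_⟩
  have := G.liftCycles_i kk (j + 1) (by simp) hk
  have h2 := congr($(this).hom (1 : k))
  refine h2.trans ?_
  change (1 : k) • y = y
  rw [one_smul]

lemma iCycles_injective (j : ℤ) : Function.Injective (G.iCycles j).hom :=
  (ModuleCat.mono_iff_injective _).1 inferInstance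

lemma homologyπ_surjective (j : ℤ) : Function.Surjective (G.homologyπ j).hom :=
  (ModuleCat.epi_iff_surjective _).1 inferInstance

lemma iCycles_toCycles (i j : ℤ) (z : G.X i) :
    (G.iCycles j).hom ((G.toCycles i j).hom z) = (G.d i j).hom z :=
  congr($(G.toCycles_i i j).hom z)

lemma homologyπ_toCycles (i j : ℤ) (z : G.X i) :
    (G.homologyπ j).hom ((G.toCycles i j).hom z) = 0 :=
  congr($(G.toCycles_comp_homologyπ i j).hom z)

/-- The kernel of `homologyπ` consists of boundaries. -/
lemma exists_of_homologyπ_eq_zero (i j : ℤ) (hij : i + 1 = j) (c : G.cycles j)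
    (hc : (G.homologyπ j).hom c = 0) : ∃ z : G.X i, (G.toCycles i j).hom z = c := by
  have hex : (ShortComplex.mk (G.toCycles i j) (G.homologyπ j)
      (G.toCycles_comp_homologyπ i j)).Exact :=
    ShortComplex.exact_of_g_is_cokernel _ (G.homologyIsCokernel i j (by simp [← hij]))
  rw [ShortComplex.moduleCat_exact_iff] at hex
  exact hex c hc

end Elem

section Formality

variable (hproj : ∀ X : ModuleCat.{u} k, Projective X) (G : CochainComplex (ModuleCat.{u} k) ℤ)

/-- The complex of cohomology modules with zero differentials. -/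
noncomputable def Hcx : CochainComplex (ModuleCat.{u} k) ℤ where
  X i := G.homology i
  d _ _ := 0
  shape _ _ _ := rfl
  d_comp_d' _ _ _ _ _ := by simp

include hproj in
lemma exists_section (i : ℤ) : ∃ σ : G.homology i ⟶ G.cycles i, σ ≫ G.homologyπ i = 𝟙 _ := by
  haveI := hproj (G.homology i)
  exact ⟨Projective.factorThru (𝟙 _) (G.homologyπ i), Projective.factorThru_comp _ _⟩

/-- A choice of sections of `cycles → homology`. -/
noncomputable def σ (i : ℤ) : G.homology i ⟶ G.cycles i := (exists_section hproj G i).choose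

lemma σ_π (i : ℤ) : σ hproj G i ≫ G.homologyπ i = 𝟙 _ := (exists_section hproj G i).choose_spec

/-- The formality map `H(G) → G`. -/
noncomputable def sec : Hcx G ⟶ G where
  f i := σ hproj G i ≫ G.iCycles i
  comm' i j _ := by
    change (σ hproj G i ≫ G.iCycles i) ≫ G.d i j = 0 ≫ _
    rw [Category.assoc, G.iCycles_d, comp_zero, zero_comp]

lemma sec_apply (i : ℤ) (x : G.homology i) :
    ((sec hproj G).f i).hom x = (G.iCycles i).hom ((σ hproj G i).hom x) := rfl

lemma π_σ_apply (i : ℤ) (x : G.homology i) :
    (G.homologyπ i).hom ((σ hproj G i).hom x) = x :=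
  congr($(σ_π hproj G i).hom x)

instance quasiIso_sec : QuasiIso (sec hproj G) := by
  refine quasiIso_of_elementwise (sec hproj G) ?_ ?_
  · intro j k hjk p _ q hq
    refine ⟨0, ?_⟩
    -- `p = 0`
    rw [sec_apply] at hq
    have h1 : (σ hproj G k).hom p = (G.toCycles j k).hom q := by
      apply iCycles_injective G k
      rw [hq, iCycles_toCycles]
    have h2 := π_σ_apply hproj G k p
    rw [h1, homologyπ_toCycles] at h2
    rw [← h2]
    rfl
  · intro i j hij y hy
    obtain ⟨c, hc⟩ := exists_cycle G j y (hy (j + 1))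
    let x := (G.homologyπ j).hom c
    have h0 : (G.homologyπ j).hom ((σ hproj G j).hom x - c) = 0 := by
      rw [map_sub, π_σ_apply, sub_self]
    obtain ⟨z, hz⟩ := exists_of_homologyπ_eq_zero G i j hij _ h0
    refine ⟨x, z, fun l => rfl, ?_⟩
    rw [sec_apply, ← iCycles_toCycles, hz, map_sub, hc]
    abel

end Formality

end Groth.Agent.Lib.Helper13.MC
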