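import Groth.Agent.Lib.Helper13.MinCx1
import Mathlib.LinearAlgebra.FiniteDimensional.Lemmas
import Mathlib.LinearAlgebra.Dimension.Finite
import Mathlib.RingTheory.Noetherian.Basic

set_option autoImplicit false
set_option linter.style.haveILetI false
universe u v
open CategoryTheory CategoryTheory.Limits

namespace Groth.Agent.Lib.Helper13.MC

open HomologicalComplex

section General

variable {C : Type u} [Category.{v} C] [Abelian C]

/-- A quasi-isomorphism between complexes with zero differentials is a termwise isomorphism. -/
lemma isIso_f_of_quasiIso_of_d_eq_zero {V W : CochainComplex C ℤ} (f : V ⟶ W) [QuasiIso f]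
    (hV : ∀ i j, V.d i j = 0) (hW : ∀ i j, W.d i j = 0) (i : ℤ) : IsIso (f.f i) := by
  haveI : IsIso (V.iCycles i) := V.isIso_iCycles i (i + 1) (by simp) (hV _ _)
  haveI : IsIso (W.iCycles i) := W.isIso_iCycles i (i + 1) (by simp) (hW _ _)
  haveI : IsIso (V.homologyπ i) := V.isIso_homologyπ (i - 1) i (by simp) (hV _ _)
  haveI : IsIso (W.homologyπ i) := W.isIso_homologyπ (i - 1) i (by simp) (hW _ _)
  haveI : IsIso (homologyMap f i) := inferInstance
  have h1 : cyclesMap f i = V.homologyπ i ≫ homologyMap f i ≫ inv (W.homologyπ i) := by
    rw [← Category.assoc, homologyπ_naturality, Category.assoc, IsIso.hom_inv_id, Category.comp_id]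
  haveI : IsIso (cyclesMap f i) := by rw [h1]; infer_instance
  have h2 : f.f i = inv (V.iCycles i) ≫ cyclesMap f i ≫ W.iCycles i := by
    rw [cyclesMap_i, IsIso.inv_hom_id_assoc]
  rw [h2]
  infer_instance

end General

section Field

variable {κ : Type u} [Field κ] (V : CochainComplex (ModuleCat.{u} κ) ℤ)
  [∀ i, Module.Finite κ (V.X i)]

instance finite_cycles (i : ℤ) : Module.Finite κ (V.cycles i) :=
  Module.Finite.of_injective (V.iCycles i).hom (iCycles_injective V i)

instance finite_homology (i : ℤ) : Module.Finite κ (V.homology i) :=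
  Module.Finite.of_surjective (V.homologyπ i).hom (homologyπ_surjective V i)

lemma finrank_homology_le (i : ℤ) :
    Module.finrank κ (V.homology i) ≤ Module.finrank κ (V.X i) :=
  (LinearMap.finrank_le_finrank_of_surjective (homologyπ_surjective V i)).trans
    (LinearMap.finrank_le_finrank_of_injective (iCycles_injective V i))

/-- If `dim H^i = dim V^i` then the differential out of `V^i` vanishes. -/
lemma d_eq_zero_of_finrank_eq (i j : ℤ)
    (h : Module.finrank κ (V.homology i) = Module.finrank κ (V.X i)) : V.d i j = 0 := by
  have h1 : Module.finrank κ (V.cycles i) = Module.finrank κ (V.X i) :=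
    le_antisymm (LinearMap.finrank_le_finrank_of_injective (iCycles_injective V i))
      (h ▸ LinearMap.finrank_le_finrank_of_surjective (homologyπ_surjective V i))
  have hs : Function.Surjective (V.iCycles i).hom :=
    (LinearMap.injective_iff_surjective_of_finrank_eq_finrank h1).1 (iCycles_injective V i)
  ext x
  obtain ⟨c, rfl⟩ := hs x
  exact congr($(V.iCycles_d i j).hom c)

end Field

end Groth.Agent.Lib.Helper13.MC
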