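import Groth.Agent.Lib.Helper13.MinCx2
import Groth.Agent.Lib.Helper13.ECMLift2
import Groth.Agent.Lib.Helper13.DRingLDerived

set_option autoImplicit false
set_option linter.style.haveILetI false
universe u
open CategoryTheory CategoryTheory.Limits TensorProduct

namespace Groth.Agent.Lib.Helper13.MC

open ModuleCat ChangeOfRings HomologicalComplex DerivedCategory
open Groth.Agent.Lib.Helper13.LC Groth.Agent.Lib.Helper13.KPL Groth.Agent.Lib.Helper13.RT
open Groth.Agent.Lib.Helper13.PC Groth.Agent.Lib.Helper13.DR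

attribute [local instance] HasDerivedCategory.standard

variable {R : Type u} [CommRing R] (I : Ideal R)

/-- Extension of scalars along `R → R/I` preserves finiteness. -/
lemma finite_extendScalars (X : ModuleCat.{u} R) [Module.Finite R X] :
    Module.Finite (R ⧸ I) ((extendScalars (Ideal.Quotient.mk I)).obj X) := by
  let N := (extendScalars (Ideal.Quotient.mk I)).obj X
  letI : Module R N := Module.compHom N (Ideal.Quotient.mk I)
  haveI : IsScalarTower R (R ⧸ I) N := ⟨fun r s x => by
    change (r • s) • x = Ideal.Quotient.mk I r • (s • x)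
    rw [Algebra.smul_def, mul_smul]
    rfl⟩
  let η : X →ₗ[R] N :=
    { toFun := fun x => ((1 : R ⧸ I) ⊗ₜ[R,Ideal.Quotient.mk I] x : N)
      map_add' := fun x y => TensorProduct.tmul_add _ _ _
      map_smul' := fun r x => one_tmul_smul I X r x }
  have hη : Function.Surjective η := fun z => by
    obtain ⟨m, hm⟩ := exists_one_tmul I X z
    exact ⟨m, hm.symm⟩
  haveI : Module.Finite R N := Module.Finite.of_surjective η hη
  exact Module.Finite.of_restrictScalars_finite R (R ⧸ I) N

/-- The rank of a finite free module is the rank of its reduction. -/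
lemma finrank_eq_of_extendScalars_iso [Nontrivial (R ⧸ I)] (X : ModuleCat.{u} R)
    [Module.Finite R X] [Module.Free R X] (N : ModuleCat.{u} (R ⧸ I))
    (e : (extendScalars (Ideal.Quotient.mk I)).obj X ≅ N) :
    Module.finrank R X = Module.finrank (R ⧸ I) N := by
  letI : Module R N := Module.compHom N (Ideal.Quotient.mk I)
  haveI : IsScalarTower R (R ⧸ I) N := ⟨fun r s x => by
    change (r • s) • x = Ideal.Quotient.mk I r • (s • x)
    rw [Algebra.smul_def, mul_smul]
    rfl⟩
  let ρ : X →ₗ[R] N :=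
    { toFun := fun x => e.hom.hom ((1 : R ⧸ I) ⊗ₜ[R,Ideal.Quotient.mk I] x)
      map_add' := fun x y =>
        (congrArg e.hom.hom (TensorProduct.tmul_add _ _ _)).trans (map_add e.hom.hom _ _)
      map_smul' := fun r x =>
        (congrArg e.hom.hom (one_tmul_smul I _ r x)).trans (map_smul e.hom.hom _ _) }
  have hs : Function.Surjective ρ := by
    intro y
    obtain ⟨m, hm⟩ := exists_one_tmul I X (e.inv.hom y)
    exact ⟨m, (congrArg e.hom.hom hm.symm).trans (congr($(e.inv_hom_id) y))⟩
  have hk : ∀ x, ρ x = 0 ↔ x ∈ I • (⊤ : Submodule R X) := by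
    intro x
    rw [← one_tmul_eq_zero_iff I X x]
    constructor
    · intro h
      have h2 : e.inv.hom (e.hom.hom ((1 : R ⧸ I) ⊗ₜ[R,Ideal.Quotient.mk I] x)) = 0 :=
        (congrArg e.inv.hom h).trans (map_zero _)
      have h3 : e.inv.hom (e.hom.hom ((1 : R ⧸ I) ⊗ₜ[R,Ideal.Quotient.mk I] x)) =
          (1 : R ⧸ I) ⊗ₜ[R,Ideal.Quotient.mk I] x := congr($(e.hom_inv_id) _)
      exact h3.symm.trans h2
    · intro h
      exact (congrArg e.hom.hom h).trans (map_zero _)
  obtain ⟨t⟩ := nonempty_tensor_equiv I ρ hs hk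
  haveI : Nontrivial R := (Ideal.Quotient.mk I).domain_nontrivial
  rw [← t.finrank_eq, Module.finrank_baseChange]

/-- Cohomology of the derived base change of a `K`-projective complex. -/
lemma nonempty_homology_LBaseChange_iso [DRing.HasLBaseChange (Ideal.Quotient.mk I)]
    (K : Dual.D R) (P : DRing.Cx R) [P.IsKProjective] (eP : DRing.toD P ≅ K) (i : ℤ) :
    Nonempty ((DerivedCategory.homologyFunctor (ModuleCat.{u} (R ⧸ I)) i).obj
      ((DRing.LBaseChange (Ideal.Quotient.mk I)).obj K) ≅
      (((extendScalars.{u, u, u} (Ideal.Quotient.mk I)).mapHomologicalComplex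
        (ComplexShape.up ℤ)).obj P).homology i) :=
  ⟨(DerivedCategory.homologyFunctor (ModuleCat.{u} (R ⧸ I)) i).mapIso
      ((DRing.LBaseChange (Ideal.Quotient.mk I)).mapIso eP.symm ≪≫
        LBaseChangeIso (Ideal.Quotient.mk I) P) ≪≫ homologyQIso _ i⟩

section Local

variable (R : Type u) [CommRing R] [IsLocalRing R]

theorem minimal_main [DRing.HasLBaseChange (Ideal.Quotient.mk (IsLocalRing.maximalIdeal R))]
    (K : Dual.D R) (hK : DRing.IsPseudoCoherent' R K) :
    let κ := R ⧸ IsLocalRing.maximalIdeal R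
    let Kκ := (DRing.LBaseChange (Ideal.Quotient.mk (IsLocalRing.maximalIdeal R))).obj K
    let Minimal := fun P : DRing.Cx R => (∃ b : ℤ, DRing.VanishesAbove P b) ∧
      (∀ i : ℤ, Module.Free R (P.X i) ∧ Module.Finite R (P.X i) ∧
        Module.finrank R (P.X i) = Module.finrank κ (Dual.HD κ Kκ i)) ∧ Nonempty (DRing.toD P ≅ K)
    (∀ i : ℤ, Module.Finite κ (Dual.HD κ Kκ i)) ∧
      (∃ b : ℤ, ∀ i : ℤ, b < i → Subsingleton (Dual.HD κ Kκ i)) ∧
      (∃ P : DRing.Cx R, Minimal P) ∧
      ∀ P Q : DRing.Cx R, Minimal P → Minimal Q → Nonempty (P ≅ Q) := by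
  intro κ Kκ Minimal
  let I := IsLocalRing.maximalIdeal R
  letI : Field κ := Ideal.Quotient.field I
  have hIne : I ≠ ⊤ := Ideal.IsMaximal.ne_top inferInstance
  have hJ := le_jacobson_of_ne_top I hIne
  have hproj : ∀ X : ModuleCat.{u} κ, Projective X := fun X =>
    (IsProjective.iff_projective (R := κ) (P := X)).1 (Module.Projective.of_free)
  -- a general fact about representatives
  have hrep : ∀ (P : DRing.Cx R) (b : ℤ), DRing.VanishesAbove P b →
      (∀ i, Module.Free R (P.X i) ∧ Module.Finite R (P.X i)) → Nonempty (DRing.toD P ≅ K) →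
      (∀ i : ℤ, Nonempty (Dual.HD κ Kκ i ≃ₗ[κ]
        (((extendScalars.{u, u, u} (Ideal.Quotient.mk I)).mapHomologicalComplex
          (ComplexShape.up ℤ)).obj P).homology i)) := by
    intro P b hPv hPff ⟨eP⟩ i
    haveI : P.IsStrictlyLE b := by
      rw [CochainComplex.isStrictlyLE_iff]
      exact fun i hi => hPv i hi
    haveI : ∀ i, Projective (P.X i) := fun i => by
      haveI := (hPff i).1
      exact (IsProjective.iff_projective (R := R) (P := P.X i)).1 inferInstance
    haveI : P.IsKProjective := CochainComplex.isKProjective_of_projective P b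
    obtain ⟨e⟩ := nonempty_homology_LBaseChange_iso I K P eP i
    exact ⟨e.toLinearEquiv⟩
  have h1 : ∀ X : ModuleCat.{u} R, PcFF X → Module.Projective R X := by
    rintro X ⟨_, hs⟩
    haveI := hs
    infer_instance
  have h3 : ∀ (X Y : ModuleCat.{u} R) (f : X ⟶ Y), PcFF X → PcFF Y →
      LinearMap.range f.hom ⊔ I • (⊤ : Submodule R Y) = ⊤ → Function.Surjective f.hom := by
    rintro X Y f _ ⟨hYf, _⟩ h
    haveI := hYf
    exact surjective_of_range_sup_smul_top hJ f.hom h
  obtain ⟨E, c, hEv, hEff, hE⟩ := hK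
  let G : DRing.Cx κ := ((extendScalars.{u, u, u} (Ideal.Quotient.mk I)).mapHomologicalComplex
    (ComplexShape.up ℤ)).obj E
  haveI hGfin : ∀ i, Module.Finite κ (G.X i) := fun i => by
    haveI := (hEff i).1
    exact finite_extendScalars I (E.X i)
  have hEH := hrep E c hEv (fun i => ⟨(hEff i).2, (hEff i).1⟩) hE
  have hGz : ∀ i, c < i → IsZero (G.homology i) := fun i hi =>
    (HomologicalComplex.ExactAt.of_isZero
      ((extendScalars.{u, u, u} (Ideal.Quotient.mk I)).map_isZero (hEv i hi))).isZero_homology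
  have hfinH : ∀ i : ℤ, Module.Finite κ (Dual.HD κ Kκ i) := fun i => by
    obtain ⟨t⟩ := hEH i
    haveI : Module.Finite κ (G.homology i) := finite_homology G i
    exact Module.Finite.equiv t.symm
  refine ⟨hfinH, ⟨c, fun i hi => ?_⟩, ?_, ?_⟩
  · obtain ⟨t⟩ := hEH i
    haveI : Subsingleton (G.homology i) := ModuleCat.subsingleton_of_isZero (hGz i hi)
    exact t.toEquiv.subsingleton
  · -- existence
    let Z : DRing.Cx κ := Hcx G
    let α : Z ⟶ G := sec hproj G
    haveI : QuasiIso α := quasiIso_sec hproj G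
    have hZb : DRing.VanishesAbove Z c := fun i hi => hGz i hi
    have hZt : ∀ i : ℤ, ∃ X : ModuleCat.{u} R, PcFF X ∧
        Nonempty (TensorProduct R (R ⧸ I) X ≃ₗ[R ⧸ I] Z.X i) := fun i => by
      haveI : Module.Finite κ (G.homology i) := finite_homology G i
      haveI : Module.Free κ (G.homology i) := Module.Free.of_divisionRing _ _
      exact exists_lift_free I hIne (G.homology i)
    obtain ⟨P, b', θ, e, hPv, hPPc, hθ, -⟩ := exists_lift_map I PcFF h1
      (fun X Y hX => pcFF_prod_iff X Y hX) h3 E c hEv (fun i => ⟨(hEff i).1, (hEff i).2⟩)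
      Z c hZb hZt α
    obtain ⟨eE⟩ := hE
    haveI := hθ
    haveI : IsIso (Q.map θ) := by
      rw [isIso_Q_map_iff_quasiIso]; infer_instance
    refine ⟨P, ⟨b', hPv⟩, fun i => ⟨(hPPc i).2, (hPPc i).1, ?_⟩, ⟨asIso (Q.map θ) ≪≫ eE⟩⟩
    haveI := (hPPc i).1
    haveI := (hPPc i).2
    obtain ⟨t⟩ := hEH i
    rw [t.finrank_eq]
    exact finrank_eq_of_extendScalars_iso I (P.X i) (Z.X i)
      ((HomologicalComplex.eval _ _ i).mapIso e)
  · -- uniqueness
    rintro P Q' ⟨⟨bP, hPv⟩, hPt, ⟨eP⟩⟩ ⟨⟨bQ, hQv⟩, hQt, ⟨eQ⟩⟩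
    have hmin : ∀ (P : DRing.Cx R) (b : ℤ), DRing.VanishesAbove P b →
        (∀ i : ℤ, Module.Free R (P.X i) ∧ Module.Finite R (P.X i) ∧
          Module.finrank R (P.X i) = Module.finrank κ (Dual.HD κ Kκ i)) →
        Nonempty (DRing.toD P ≅ K) → ∀ i j,
        (((extendScalars.{u, u, u} (Ideal.Quotient.mk I)).mapHomologicalComplex
          (ComplexShape.up ℤ)).obj P).d i j = 0 := by
      intro P b hPv hPt hP i j
      let V : DRing.Cx κ := ((extendScalars.{u, u, u} (Ideal.Quotient.mk I)).mapHomologicalComplex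
          (ComplexShape.up ℤ)).obj P
      haveI : ∀ i, Module.Finite κ (V.X i) := fun i => by
        haveI := (hPt i).2.1
        exact finite_extendScalars I (P.X i)
      obtain ⟨t⟩ := hrep P b hPv (fun i => ⟨(hPt i).1, (hPt i).2.1⟩) hP i
      apply d_eq_zero_of_finrank_eq V i j
      rw [← t.finrank_eq, ← (hPt i).2.2]
      haveI := (hPt i).1
      haveI := (hPt i).2.1
      exact finrank_eq_of_extendScalars_iso I (P.X i) (V.X i) (Iso.refl _)
    have hdP := hmin P bP hPv hPt ⟨eP⟩
    have hdQ := hmin Q' bQ hQv hQt ⟨eQ⟩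
    haveI : P.IsStrictlyLE bP := by
      rw [CochainComplex.isStrictlyLE_iff]
      exact fun i hi => hPv i hi
    haveI : ∀ i, Projective (P.X i) := fun i => by
      haveI := (hPt i).1
      exact (IsProjective.iff_projective (R := R) (P := P.X i)).1 inferInstance
    haveI : P.IsKProjective := CochainComplex.isKProjective_of_projective P bP
    haveI : Q'.IsStrictlyLE bQ := by
      rw [CochainComplex.isStrictlyLE_iff]
      exact fun i hi => hQv i hi
    haveI : ∀ i, Projective (Q'.X i) := fun i => by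
      haveI := (hQt i).1
      exact (IsProjective.iff_projective (R := R) (P := Q'.X i)).1 inferInstance
    haveI : Q'.IsKProjective := CochainComplex.isKProjective_of_projective Q' bQ
    obtain ⟨f, hf⟩ := exists_Q_map_eq_of_isKProjective (M := P) (N := Q') (eP.hom ≫ eQ.inv)
    haveI : QuasiIso f := by
      rw [← isIso_Q_map_iff_quasiIso, hf]; infer_instance
    obtain ⟨he, hef⟩ := (CochainComplex.IsKProjective.quasiIso_iff f).1 inferInstance
    let he' := (extendScalars.{u, u, u} (Ideal.Quotient.mk I)).mapHomotopyEquiv he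
    haveI : QuasiIso (((extendScalars.{u, u, u} (Ideal.Quotient.mk I)).mapHomologicalComplex
        (ComplexShape.up ℤ)).map f) := by
      have : ((extendScalars.{u, u, u} (Ideal.Quotient.mk I)).mapHomologicalComplex
        (ComplexShape.up ℤ)).map f = he'.hom := by
        rw [← hef]
        rfl
      rw [this]
      infer_instance
    have hiso : ∀ i, IsIso ((((extendScalars.{u, u, u} (Ideal.Quotient.mk I)).mapHomologicalComplex
        (ComplexShape.up ℤ)).map f).f i) := fun i =>
      isIso_f_of_quasiIso_of_d_eq_zero _ hdP hdQ i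
    have hbij : ∀ i, Function.Bijective (f.f i).hom := by
      intro i
      haveI := (hPt i).1
      haveI := (hPt i).2.1
      haveI := (hQt i).1
      haveI := (hQt i).2.1
      have hsurj : Function.Surjective (f.f i).hom := by
        apply surjective_of_range_sup_smul_top hJ
        rw [eq_top_iff]
        intro y _
        haveI := hiso i
        let F := (extendScalars.{u, u, u} (Ideal.Quotient.mk I)).map (f.f i)
        haveI : IsIso F := hiso i
        let z := (inv F).hom ((1 : R ⧸ I) ⊗ₜ[R,Ideal.Quotient.mk I] y)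
        obtain ⟨x, hx⟩ := exists_one_tmul I (P.X i) z
        have h1 : F.hom z = (1 : R ⧸ I) ⊗ₜ[R,Ideal.Quotient.mk I] y :=
          congr($(IsIso.inv_hom_id F).hom ((1 : R ⧸ I) ⊗ₜ[R,Ideal.Quotient.mk I] y))
        have h1' : ((1 : R ⧸ I) ⊗ₜ[R,Ideal.Quotient.mk I] ((f.f i).hom x) :
            (extendScalars (Ideal.Quotient.mk I)).obj (Q'.X i)) =
            (1 : R ⧸ I) ⊗ₜ[R,Ideal.Quotient.mk I] y := by
          rw [← h1, hx]
          rfl
        have h2 : ((1 : R ⧸ I) ⊗ₜ[R,Ideal.Quotient.mk I] (y - (f.f i).hom x) :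
            (extendScalars (Ideal.Quotient.mk I)).obj (Q'.X i)) = 0 :=
          (TensorProduct.tmul_sub _ _ _).trans (sub_eq_zero.2 h1'.symm)
        have h3 := (one_tmul_eq_zero_iff I (Q'.X i) _).1 h2
        have : y = (f.f i).hom x + (y - (f.f i).hom x) := by abel
        rw [this]
        exact Submodule.add_mem_sup ⟨x, rfl⟩ h3
      refine ⟨?_, hsurj⟩
      obtain ⟨g⟩ := FiniteDimensional.nonempty_linearEquiv_of_finrank_eq (R := R)
        (M := Q'.X i) (M' := P.X i) (by rw [(hPt i).2.2, (hQt i).2.2])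
      have hinj := OrzechProperty.injective_of_surjective_endomorphism
        (g.toLinearMap ∘ₗ (f.f i).hom) (g.surjective.comp hsurj)
      exact Function.Injective.of_comp hinj
    haveI : ∀ i, IsIso (f.f i) := fun i => (ConcreteCategory.isIso_iff_bijective _).2 (hbij i)
    haveI : IsIso f := HomologicalComplex.Hom.isIso_of_components f
    exact ⟨asIso f⟩

end Local

end Groth.Agent.Lib.Helper13.MC
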