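import Groth.Agent.Lib.Helper13.CA2
import Groth.Agent.Lib.Helper13.DTenKProj
import Groth.Agent.Lib.Helper13.DTenMix3

/-!
# `- ⊗^L_R M` as a left derived functor in the first variable
-/

set_option autoImplicit false
universe u
open CategoryTheory CategoryTheory.Limits MonoidalCategory

namespace Groth.Agent.Lib.Helper13.MP

open DTen Groth.Agent.Lib.Helper13.DT Groth.Agent.Lib.Helper13.DR Groth.Agent.Lib.Helper13.SF
open Groth.Agent.Lib.Helper13.HOp Groth.Agent.Lib.Helper13.PF Groth.Agent.Lib.Helper13.HT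
open DerivedCategory

attribute [local instance] HasDerivedCategory.standard

variable {R A : Type u} [CommRing R] [CommRing A] (φ : R →+* A)

/-- The counit of the mixed derived tensor product is an isomorphism as soon as the first variable
is K-projective. -/
theorem isIso_εMix_app_left [HasLTenMix φ] (P : DRing.Cx R) (N : DRing.Cx A)
    [CochainComplex.IsKProjective P] : IsIso ((εMix φ).app (P, N)) := by
  have hnat := (εMix φ).naturality (Prod.mkHom (𝟙 P) (resMap N) : (P, res N) ⟶ (P, N))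
  have h1 : IsIso ((εMix φ).app (P, res N)) := isIso_εMix_app_of_isKProjective φ P (res N)
  have h2 : IsIso ((QMix R A ⋙ LTenMix φ).map (Prod.mkHom (𝟙 P) (resMap N) : (P, res N) ⟶ (P, N))) := by
    have : IsIso ((QMix R A).map (Prod.mkHom (𝟙 P) (resMap N) : (P, res N) ⟶ (P, N))) := by
      rw [isIso_prod_iff]
      constructor
      · dsimp
        infer_instance
      · dsimp
        rw [isIso_Q_map_iff_quasiIso]
        infer_instance
    dsimp only [Functor.comp_map]
    infer_instance
  have h3 : IsIso ((mix₂ φ).map (Prod.mkHom (𝟙 P) (resMap N) : (P, res N) ⟶ (P, N))) := by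
    have : CochainComplex.IsKProjective ((extCx φ).obj P) := isKProjective_extCx φ P
    have := quasiIso_whiskerLeft_of_isKProjective ((extCx φ).obj P) (resMap N)
    dsimp [mix₂, mixT, tensorT]
    rw [isIso_Q_map_iff_quasiIso]
    simpa using this
  have h4 : IsIso ((QMix R A ⋙ LTenMix φ).map
      (Prod.mkHom (𝟙 P) (resMap N) : (P, res N) ⟶ (P, N)) ≫ (εMix φ).app (P, N)) := by
    rw [hnat]
    infer_instance
  exact IsIso.of_isIso_comp_left ((QMix R A ⋙ LTenMix φ).map
      (Prod.mkHom (𝟙 P) (resMap N) : (P, res N) ⟶ (P, N))) _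

section Left

variable [HasLTenMix φ] (M₀ : DRing.Cx A)

/-- `K ↦ Q((K ⊗_R A) ⊗_A M₀)`. -/
noncomputable def mixLeft : DRing.Cx R ⥤ Dual.D A where
  obj K := (mix₂ φ).obj (K, M₀)
  map f := (mix₂ φ).map (Prod.mkHom f (𝟙 M₀))
  map_id K := (mix₂ φ).map_id (K, M₀)
  map_comp f g := by
    rw [← Functor.map_comp]
    congr 1

/-- `- ⊗^L_R Q M₀`. -/
noncomputable abbrev G₁ : Dual.D R ⥤ Dual.D A :=
  (Functor.curry.obj (LTenMix φ)).flip.obj (Q.obj M₀)

/-- The counit of `G₁`. -/
noncomputable def ε₁ : Q ⋙ G₁ φ M₀ ⟶ mixLeft φ M₀ where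
  app K := (εMix φ).app (K, M₀)
  naturality K K' f := by
    have h := (εMix φ).naturality (Prod.mkHom f (𝟙 M₀) : (K, M₀) ⟶ (K', M₀))
    refine Eq.trans ?_ h
    congr 1
    dsimp [G₁]
    congr 1
    simp [Prod.mkHom]

instance isRightKanExtension_G₁ : (G₁ φ M₀).IsRightKanExtension (ε₁ φ M₀) :=
  (resolutions (ε₁ φ M₀) (fun P _ => isIso_εMix_app_left φ P M₀)).isRightKanExtension
    (HomologicalComplex.quasiIso (ModuleCat.{u} R) (ComplexShape.up ℤ))

end Left

end Groth.Agent.Lib.Helper13.MP
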