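import Groth.Agent.Lib.Helper13.MixPerf1

/-!
# Comparison of `- ⊗^L_R RHom(A, R)` with `RHom(A, -)`
-/

set_option autoImplicit false
universe u
open CategoryTheory CategoryTheory.Limits MonoidalCategory

namespace Groth.Agent.Lib.Helper13.MP

open DTen Groth.Agent.Lib.Helper13.DT Groth.Agent.Lib.Helper13.DR Groth.Agent.Lib.Helper13.SF
open Groth.Agent.Lib.Helper13.HOp Groth.Agent.Lib.Helper13.PF Groth.Agent.Lib.Helper13.HT
open Groth.Agent.Lib.Helper13.Coind
open DerivedCategory

attribute [local instance] HasDerivedCategory.standard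

variable {R A : Type u} [CommRing R] [CommRing A] (φ : R →+* A)

section

variable (J : DRing.Cx R) (i : 𝟙_ (DRing.Cx R) ⟶ J)

/-- `K ↦ RHom(A, K ⊗ J)`. -/
noncomputable abbrev T' : DRing.Cx R ⥤ Dual.D A := tensorRight J ⋙ Q ⋙ Rco φ

/-- The counit exhibiting `Rco` as a left derived functor. -/
noncomputable def α' : Q ⋙ Rco φ ⟶ T' φ J where
  app K := (Rco φ).map (Q.map ((ρ_ K).inv ≫ K ◁ i))
  naturality K K' f := by
    dsimp
    rw [← Functor.map_comp, ← Functor.map_comp, ← Functor.map_comp, ← Functor.map_comp]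
    congr 2
    rw [← Category.assoc, rightUnitor_inv_naturality, Category.assoc, Category.assoc,
      whisker_exchange]

variable [QuasiIso i]

lemma isIso_α'_app (P : DRing.Cx R) [CochainComplex.IsKProjective P] :
    IsIso ((α' φ J i).app P) := by
  have := quasiIso_whiskerLeft_of_isKProjective P i
  have : IsIso (Q.map ((ρ_ P).inv ≫ P ◁ i)) := by
    rw [isIso_Q_map_iff_quasiIso]
    infer_instance
  dsimp [α']
  infer_instance

instance isRightKanExtension_Rco : (Rco φ).IsRightKanExtension (α' φ J i) :=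
  (resolutions (α' φ J i) (fun P _ => isIso_α'_app φ J i P)).isRightKanExtension
    (HomologicalComplex.quasiIso (ModuleCat.{u} R) (ComplexShape.up ℤ))

/-- The comparison `Q(ext K ⊗_A coext J) ⟶ RHom(A, K ⊗ J)`. -/
noncomputable def γ : mixLeft φ ((coextCx φ).obj J) ⟶ T' φ J where
  app K := Q.map (cA φ K J) ≫ (RcoUnit φ).app (K ⊗ J)
  naturality K K' f := by
    have h1 := cA_naturality φ f J
    have h2 := (RcoUnit φ).naturality (f ▷ J)
    dsimp [mixLeft, mix₂, mixT, tensorT] at h2 ⊢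
    rw [Category.assoc, ← h2, ← Category.assoc, ← Category.assoc, ← Functor.map_comp,
      ← Functor.map_comp]
    congr 2
    rw [← h1]
    congr 1
    simp

variable [HasLTenMix φ]

/-- The comparison `- ⊗^L_R RHom(A, R) ⟶ RHom(A, -)`. -/
noncomputable def τ : G₁ φ ((coextCx φ).obj J) ⟶ Rco φ :=
  (Rco φ).liftOfIsRightKanExtension (α' φ J i) (G₁ φ ((coextCx φ).obj J))
    (ε₁ φ ((coextCx φ).obj J) ≫ γ φ J)

lemma τ_fac (K : DRing.Cx R) :
    (τ φ J i).app (Q.obj K) ≫ (α' φ J i).app K =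
      (ε₁ φ ((coextCx φ).obj J)).app K ≫ (γ φ J).app K :=
  (Rco φ).liftOfIsRightKanExtension_fac_app (α' φ J i) (G₁ φ ((coextCx φ).obj J))
    (ε₁ φ ((coextCx φ).obj J) ≫ γ φ J) K

theorem isIso_τ (hγ : ∀ (P : DRing.Cx R) [CochainComplex.IsKProjective P],
    IsIso ((γ φ J).app P)) : IsIso (τ φ J i) := by
  have : ∀ E : Dual.D R, IsIso ((τ φ J i).app E) := fun E => by
    obtain ⟨P, hP, -, ⟨e⟩⟩ := exists_kprojective_rep E
    rw [← NatTrans.isIso_app_iff_of_iso (τ φ J i) e]
    have h1 := τ_fac φ J i P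
    have h2 := isIso_α'_app φ J i P
    have h3 := isIso_εMix_app_left φ P ((coextCx φ).obj J)
    have h4 := hγ P
    have h5 : IsIso ((τ φ J i).app (Q.obj P) ≫ (α' φ J i).app P) := by
      rw [h1]
      have h3' : IsIso ((ε₁ φ ((coextCx φ).obj J)).app P) := h3
      exact IsIso.comp_isIso
    exact IsIso.of_isIso_comp_right _ ((α' φ J i).app P)
  exact NatIso.isIso_of_isIso_app _

end

end Groth.Agent.Lib.Helper13.MP
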