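import Groth.Agent.Lib.Helper13.MixPerf2

/-!
# `- ⊗^L_R RHom(A, R) ≅ RHom(A, -)` for `A` perfect over `R`
-/

set_option autoImplicit false
universe u
open CategoryTheory CategoryTheory.Limits MonoidalCategory

namespace Groth.Agent.Lib.Helper13.MP

open DTen Groth.Agent.Lib.Helper13.DT Groth.Agent.Lib.Helper13.DR Groth.Agent.Lib.Helper13.SF
open Groth.Agent.Lib.Helper13.HOp Groth.Agent.Lib.Helper13.PF Groth.Agent.Lib.Helper13.HT
open Groth.Agent.Lib.Helper13.Coind
open DerivedCategory

attribute [local instance] HasDerivedCategory.standard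

variable {R A : Type u} [CommRing R] [CommRing A] [Algebra R A]

theorem isIso_γ_app (hperf : DRing.IsPerfect R (Q.obj (singleB R A)))
    (J : DRing.Cx R) [CochainComplex.IsKInjective J]
    (P : DRing.Cx R) [CochainComplex.IsKProjective P] :
    IsIso ((γ (algebraMap R A) J).app P) := by
  obtain ⟨J', y, hJ', hy⟩ := hasKInjRes (A := R) (P ⊗ J)
  -- the chain-level statement
  have hq : QuasiIso (cMap P (singleB R A) J ≫ DRing.homCxMap (singleB R A) y) :=
    quasiIso_cMap_comp_of_isPerfect P J J' y (singleB R A) hperf
  have hstar := pfCx_res_cA_homSingleIso (A := A) P J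
  have hnat := homSingleIso_naturality (A := R) (B := A) y
  have e : pfCx (algebraMap R A) P ((coextCx (algebraMap R A)).obj J) ≫
      (resCx (algebraMap R A)).map (cA (algebraMap R A) P J ≫ (coextCx (algebraMap R A)).map y) ≫
        (homSingleIso (A := R) (B := A) J').hom =
      (P ◁ (homSingleIso (A := R) (B := A) J).hom) ≫
        (cMap P (singleB R A) J ≫ DRing.homCxMap (singleB R A) y) := by
    rw [Functor.map_comp, Category.assoc]
    erw [hnat]
    rw [← Category.assoc ((resCx (algebraMap R A)).map _), ← Category.assoc, ← Category.assoc,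
      Category.assoc (pfCx _ _ _), hstar, Category.assoc]
  have hq2 : QuasiIso ((resCx (algebraMap R A)).map
      (cA (algebraMap R A) P J ≫ (coextCx (algebraMap R A)).map y)) := by
    have h1 : QuasiIso ((P ◁ (homSingleIso (A := R) (B := A) J).hom) ≫
        (cMap P (singleB R A) J ≫ DRing.homCxMap (singleB R A) y)) := inferInstance
    rw [← e] at h1
    have h2 := quasiIso_of_comp_left (pfCx (algebraMap R A) P ((coextCx (algebraMap R A)).obj J))
      ((resCx (algebraMap R A)).map
        (cA (algebraMap R A) P J ≫ (coextCx (algebraMap R A)).map y) ≫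
        (homSingleIso (A := R) (B := A) J').hom)
    exact quasiIso_of_comp_right _ (homSingleIso (A := R) (B := A) J').hom
  have hq3 : QuasiIso (cA (algebraMap R A) P J ≫ (coextCx (algebraMap R A)).map y) :=
    (HomologicalComplex.quasiIso_map_iff_of_preservesHomology _
      (ModuleCat.restrictScalars.{u} (algebraMap R A))).1 hq2
  -- the derived statement
  have hn := (RcoUnit (algebraMap R A)).naturality y
  have i1 : IsIso ((RcoUnit (algebraMap R A)).app J') := isIso_RcoUnit_app (algebraMap R A) J'
  have i2 : IsIso ((Q ⋙ Rco (algebraMap R A)).map y) := by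
    have : IsIso (Q.map y) := by
      rw [isIso_Q_map_iff_quasiIso]
      infer_instance
    dsimp
    infer_instance
  have i3 : IsIso (Q.map (cA (algebraMap R A) P J ≫ (coextCx (algebraMap R A)).map y)) := by
    rw [isIso_Q_map_iff_quasiIso]
    exact hq3
  have hu : (RcoUnit (algebraMap R A)).app (P ⊗ J) =
      (coindCxQ (algebraMap R A)).map y ≫ (RcoUnit (algebraMap R A)).app J' ≫
        inv ((Q ⋙ Rco (algebraMap R A)).map y) := by
    rw [← Category.assoc, hn, Category.assoc, IsIso.hom_inv_id, Category.comp_id]
  dsimp only [γ]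
  rw [hu, ← Category.assoc]
  have i3' : IsIso (Q.map (cA (algebraMap R A) P J) ≫ (coindCxQ (algebraMap R A)).map y) := by
    have := i3
    rw [Functor.map_comp] at this
    exact this
  have i4 : IsIso ((RcoUnit (algebraMap R A)).app J' ≫
      inv ((Q ⋙ Rco (algebraMap R A)).map y)) := IsIso.comp_isIso
  exact @IsIso.comp_isIso _ _ _ _ _ _ _ i3' i4

end Groth.Agent.Lib.Helper13.MP
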