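import Groth.Agent.Lib.Helper13.BaseChangeSq
import Groth.Agent.Lib.Helper13.DRingNilp
import Groth.Agent.S6971

set_option autoImplicit false
universe u
open CategoryTheory CategoryTheory.Limits TensorProduct

namespace Groth.Agent.Lib.Helper13.BS

open Groth.Agent.Lib.Helper13.DR Groth.Agent.Lib.Helper13.PC Groth.Agent.Lib.Helper13.DV
  DerivedCategory

section Ker

variable (S T B : Type u) [CommRing S] [CommRing T] [CommRing B] [Algebra S T] [Algebra S B]

lemma includeRight_surjective (hs : Function.Surjective (algebraMap S T)) :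
    Function.Surjective (Algebra.TensorProduct.includeRight.toRingHom : B →+* T ⊗[S] B) := by
  intro x
  induction x using TensorProduct.induction_on with
  | zero => exact ⟨0, map_zero _⟩
  | tmul t b =>
    obtain ⟨s, rfl⟩ := hs t
    refine ⟨s • b, ?_⟩
    show (1 : T) ⊗ₜ[S] (s • b) = algebraMap S T s ⊗ₜ[S] b
    rw [TensorProduct.tmul_smul, TensorProduct.smul_tmul', Algebra.smul_def, mul_one]
  | add x y hx hy =>
    obtain ⟨a, rfl⟩ := hx
    obtain ⟨b, rfl⟩ := hy
    exact ⟨a + b, map_add _ _ _⟩

lemma ker_includeRight_le (hs : Function.Surjective (algebraMap S T)) :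
    RingHom.ker (Algebra.TensorProduct.includeRight.toRingHom : B →+* T ⊗[S] B) ≤
      (RingHom.ker (algebraMap S T)).map (algebraMap S B) := by
  intro b hb
  set I := RingHom.ker (algebraMap S T) with hI
  have hb' : (1 : T) ⊗ₜ[S] b = 0 := hb
  let e : T ≃ₐ[S] S ⧸ I := (Ideal.quotientKerAlgEquivOfSurjective
    (f := Algebra.ofId S T) hs).symm
  have h1 := congrArg (TensorProduct.congr e.toLinearEquiv (LinearEquiv.refl S B)) hb'
  rw [TensorProduct.congr_tmul, map_zero] at h1
  have he1 : e.toLinearEquiv (1 : T) = 1 := map_one e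
  rw [he1, LinearEquiv.refl_apply] at h1
  have h2 := congrArg (TensorProduct.quotTensorEquivQuotSMul B I) h1
  rw [TensorProduct.quotTensorEquivQuotSMul_mk_one_tmul, map_zero,
    Submodule.Quotient.mk_eq_zero, Ideal.smul_top_eq_map] at h2
  exact h2

lemma isNilpotent_ker_includeRight (hs : Function.Surjective (algebraMap S T))
    (hn : IsNilpotent (RingHom.ker (algebraMap S T))) :
    IsNilpotent (RingHom.ker (Algebra.TensorProduct.includeRight.toRingHom : B →+* T ⊗[S] B)) := by
  obtain ⟨n, hn⟩ := hn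
  refine ⟨n, ?_⟩
  rw [Ideal.zero_eq_bot, ← le_bot_iff]
  calc _ ≤ ((RingHom.ker (algebraMap S T)).map (algebraMap S B)) ^ n :=
        Ideal.pow_right_mono (ker_includeRight_le S T B hs) n
    _ = ⊥ := by rw [← Ideal.map_pow, hn, Ideal.zero_eq_bot, Ideal.map_bot]

end Ker

section Main

attribute [local instance] HasDerivedCategory.standard

variable {R' R : Type u} [CommRing R'] [CommRing R] [Algebra R' R]

/-- Nilpotent descent of tor amplitude, for a bounded above complex of flat modules. -/
theorem hasTorAmplitudeIn_of_extendCx_nilpotent_flat (hφ : Function.Surjective (algebraMap R' R))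
    (hnil : IsNilpotent (RingHom.ker (algebraMap R' R))) (P' : DRing.Cx R') (c : ℤ)
    (hz : ∀ i : ℤ, c < i → IsZero (P'.X i)) (hfl : ∀ i : ℤ, Module.Flat R' (P'.X i)) (a b : ℤ)
    (h : DRing.HasTorAmplitudeIn R a b (Q.obj ((extendCx R' R).obj P'))) :
    DRing.HasTorAmplitudeIn R' a b (Q.obj P') := by
  have hz' : ∀ i : ℤ, c < i → IsZero (((extendCx R' R).obj P').X i) := fun i hi =>
    Functor.map_isZero (ModuleCat.extendScalars.{u, u, u} (algebraMap R' R)) (hz i hi)
  have hfl' : ∀ i : ℤ, Module.Flat R (((extendCx R' R).obj P').X i) := fun i => by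
    have h1 : Pfl R ((ModuleCat.extendScalars.{u, u, u} (algebraMap R' R)).obj (P'.X i)) :=
      Pfl_extendScalars R (hfl i)
    exact h1
  have h1 : ∀ (N : ModuleCat.{u} R) (i : ℤ), (i < a ∨ b < i) →
      IsZero (((tensorCx N).obj ((extendCx R' R).obj P')).homology i) := fun N i hi =>
    tensor_vanishing_of_hasTorAmplitudeIn h _ c hz' hfl' (Iso.refl _) N i hi
  have h2 : ∀ (i : ℤ), (i < a ∨ b < i) → ∀ (N : Type u) [AddCommGroup N] [Module R' N],
      (∀ a ∈ RingHom.ker (algebraMap R' R), ∀ x : N, a • x = 0) →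
      IsZero (((tensorCx (ModuleCat.of R' N)).obj P').homology i) := by
    intro i hi N _ _ hN
    obtain ⟨m, hm⟩ := exists_module_of_ker_smul_eq_zero R' R hφ N hN
    refine IsZero.of_iso (Functor.map_isZero (ModuleCat.restrictScalars.{u} (algebraMap R' R))
      (h1 (ModuleCat.of R N) i hi))
      ((HomologicalComplex.homologyFunctor _ _ i).mapIso (projCxIso R' R N P').symm ≪≫
        restrictCxHomologyIso (algebraMap R' R) _ i)
  have h3 : ∀ (N : ModuleCat.{u} R') (i : ℤ), (i < a ∨ b < i) →
      IsZero (((tensorCx N).obj P').homology i) := fun N i hi =>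
    isZero_homology_tensorCx_of_nilpotent P' hfl _ hnil i (h2 i hi) N
  exact hasTorAmplitudeIn_of_tensor_vanishing P' c hz hfl a b h3

end Main

section S7076

attribute [local instance] HasDerivedCategory.standard
attribute [local instance] Algebra.TensorProduct.rightAlgebra

theorem isRelPerfect_of_LBaseChange_nilpotent (R' A' R : Type u) [CommRing R'] [CommRing A']
    [Algebra R' A'] [CommRing R] [Algebra R' R] [Module.Flat R' A']
    (hs : Function.Surjective (algebraMap R' R)) (hn : IsNilpotent (RingHom.ker (algebraMap R' R)))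
    [DRing.HasLBaseChange (Algebra.TensorProduct.includeRight.toRingHom : A' →+* R ⊗[R'] A')]
    (K' : Dual.D A')
    (hK : Dual2.IsRelPerfect R (R ⊗[R'] A')
      ((DRing.LBaseChange (Algebra.TensorProduct.includeRight.toRingHom : A' →+* R ⊗[R'] A')).obj K')) :
    Dual2.IsRelPerfect R' A' K' := by
  obtain ⟨hpc, a, b, htor⟩ := hK
  have hpc' : DRing.IsPseudoCoherent' A' K' :=
    (Groth.Agent.S6971.result (Algebra.TensorProduct.includeRight.toRingHom : A' →+* R ⊗[R'] A')
      (includeRight_surjective R' R A' hs) (isNilpotent_ker_includeRight R' R A' hs hn) K').1 hpc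
  refine ⟨hpc', a, b, ?_⟩
  obtain ⟨E, c, hEv, hEff, ⟨eE⟩⟩ := hpc'
  have hproj : ∀ i : ℤ, Projective (E.X i) := fun i => by
    have := (hEff i).1
    have := (hEff i).2
    exact (projective_iff _).2 inferInstance
  have : E.IsKProjective := isKProjective_of_forall_projective E c hEv hproj
  let ψ : A' →+* R ⊗[R'] A' := algebraMap A' (R ⊗[R'] A')
  have : DRing.HasLBaseChange ψ :=
    (inferInstance : DRing.HasLBaseChange
      (Algebra.TensorProduct.includeRight.toRingHom : A' →+* R ⊗[R'] A'))
  let e1 : (DRing.LBaseChange ψ).obj K' ≅ Q.obj ((extendCx A' (R ⊗[R'] A')).obj E) :=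
    (DRing.LBaseChange ψ).mapIso eE.symm ≪≫ LBaseChangeIso ψ E
  let P := (DRing.restrictCx (algebraMap R' A')).obj E
  have hz : ∀ i : ℤ, c < i → IsZero (P.X i) := fun i hi =>
    Functor.map_isZero (ModuleCat.restrictScalars.{u} (algebraMap R' A')) (hEv i hi)
  have hfl : ∀ i : ℤ, Module.Flat R' (P.X i) := fun i => by
    have := (hEff i).1
    have := (hEff i).2
    have : Module.Flat A' (E.X i) := inferInstance
    exact flat_restrictScalars R' A' (E.X i)
  have h : DRing.HasTorAmplitudeIn R a b (Q.obj ((extendCx R' R).obj P)) := by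
    refine hasTorAmplitudeIn_of_iso ?_ htor
    exact (DRing.restrictD (algebraMap R (R ⊗[R'] A'))).mapIso e1 ≪≫
      restrictDQIso (algebraMap R (R ⊗[R'] A')) ((extendCx A' (R ⊗[R'] A')).obj E) ≪≫
      Q.mapIso (bcCxIso R' A' R E).symm
  have h' := hasTorAmplitudeIn_of_extendCx_nilpotent_flat hs hn P c hz hfl a b h
  exact hasTorAmplitudeIn_of_iso ((restrictDQIso (algebraMap R' A') E).symm ≪≫
    (DRing.restrictD (algebraMap R' A')).mapIso eE) h'

end S7076

end Groth.Agent.Lib.Helper13.BS
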