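import Groth.Agent.Lib.Helper13.RelDual2

/-!
# The upper shriek along a flat epimorphism of finite type is derived base change
(for bounded below objects)
-/

set_option autoImplicit false
set_option linter.unusedSectionVars false
set_option linter.style.haveILetI false

open CategoryTheory CategoryTheory.Limits CategoryTheory.Functor TensorProduct

universe u

namespace Groth.Agent.Lib.Helper13.OpenImm

open DerivedCategory Groth.Agent.Lib.Helper13.DR Groth.Agent.Lib.Helper13.Coind
  Groth.Agent.Lib.Helper13.Shriek Groth.Agent.Lib.Helper13.Frob Groth.Agent.Lib.Helper13.RelDual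

attribute [local instance] HasDerivedCategory.standard

section Epi

variable (R R' : Type u) [CommRing R] [CommRing R'] [IsNoetherianRing R] [IsNoetherianRing R']
  [Algebra R R'] [Module.Flat R R'] [Algebra.IsEpi R R']

/-- Derived base change only depends on the ring map. -/
noncomputable def LCongr {A B : Type u} [CommRing A] [CommRing B] (φ φ' : A →+* B) (h : φ = φ') :
    DRing.LBaseChange φ ≅ DRing.LBaseChange φ' := by
  subst h
  exact Iso.refl _

/-- **The upper shriek along a flat epimorphism of finite type is derived base change.** -/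
theorem nonempty_Sh_iso_LBaseChange (n : ℕ) (ψ : MvPolynomial (Fin n) R →ₐ[R] R')
    (hψ : Function.Surjective ψ) (K : Dual.D R) (c : ℤ) [K.IsGE c] :
    Nonempty (Sh (algebraMap R (MvPolynomial (Fin n) R)) (ψ : MvPolynomial (Fin n) R →+* R') n K ≅
      (DRing.LBaseChange (algebraMap R R')).obj K) := by
  let T := R' ⊗[R] R'
  let μ : T →+* R' := (Algebra.TensorProduct.lmul' R (S := R')).toRingHom
  let incL : R' →+* T := algebraMap R' T
  let incR : R' →+* T := (Algebra.TensorProduct.includeRight : R' →ₐ[R] R' ⊗[R] R').toRingHom
  have hμinj : Function.Injective μ := by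
    have h := Algebra.IsEpi.injective_lift_mul (R := R) (A := R')
    intro x y hxy
    apply h
    have key : ∀ z : T, (TensorProduct.lift (LinearMap.mul R R')) z = μ z := by
      intro z
      induction z using TensorProduct.induction_on with
      | zero => simp
      | tmul a b =>
        change a * b = Algebra.TensorProduct.lmul' R (S := R') (a ⊗ₜ[R] b)
        rw [Algebra.TensorProduct.lmul'_apply_tmul]
      | add x y hx hy => rw [_root_.map_add, _root_.map_add, hx, hy]
    rw [key, key, hxy]
  have hμL : ∀ a : R', μ (incL a) = a := fun a => by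
    change Algebra.TensorProduct.lmul' R (S := R') (a ⊗ₜ[R] (1 : R')) = a
    rw [Algebra.TensorProduct.lmul'_apply_tmul, mul_one]
  have hμR : ∀ a : R', μ (incR a) = a := fun a => by
    change Algebra.TensorProduct.lmul' R (S := R') ((1 : R') ⊗ₜ[R] a) = a
    rw [Algebra.TensorProduct.lmul'_apply_tmul, one_mul]
  have hLR : incR = incL := RingHom.ext fun a => hμinj (by rw [hμL, hμR])
  have hbij : Function.Bijective incL := by
    refine ⟨fun a b hab => ?_, fun t => ⟨μ t, hμinj (hμL _)⟩⟩
    rw [← hμL a, ← hμL b, hab]
  let e : R' ≃+* T := RingEquiv.ofBijective incL hbij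
  have he : (e : R' →+* T) = incL := rfl
  have hNT : IsNoetherianRing T := isNoetherianRing_of_ringEquiv R' e
  -- flat base change
  obtain ⟨i3⟩ := Sh_flat_baseChange R R' R' n ψ hψ K c
  let N := (DRing.LBaseChange (algebraMap R R')).obj K
  let Y := Sh (algebraMap R (MvPolynomial (Fin n) R)) (ψ : MvPolynomial (Fin n) R →+* R') n K
  obtain ⟨i5⟩ := Sh_finite (algebraMap R' T) (RingHom.Finite.of_surjective _ hbij.2) n
    (bcPres R R' R' n ψ : MvPolynomial (Fin n) R' →+* T)
    (RingHom.ext fun t => by
      change bcPres R R' R' n ψ (MvPolynomial.C t) = _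
      rw [← MvPolynomial.algebraMap_eq, AlgHom.commutes]) N
  -- both sides are restrictions along the inverse isomorphism
  let j1 : (DRing.restrictD (e.symm : T →+* R')).obj Y ≅ (DRing.restrictD (e.symm : T →+* R')).obj N :=
    ((LIso e).app Y).symm ≪≫ (LCongr incR (e : R' →+* T) (hLR.trans he.symm)).symm.app Y ≪≫
      i3 ≪≫ i5 ≪≫ (RIso e).app N
  exact ⟨(restrictDEquiv e.symm).fullyFaithfulFunctor.preimageIso j1⟩

end Epi

end Groth.Agent.Lib.Helper13.OpenImm
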