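import Groth.Agent.Lib.Helper13.OpenImm1
import Groth.Agent.Lib.Helper13.DualBC34
import Groth.Prelude.Def_QFDual

/-!
# `H^0(RHom_C(F, C)) = Hom_C(F, C)` as `F`-modules
-/

set_option autoImplicit false
set_option linter.unusedSectionVars false
set_option linter.style.haveILetI false

open CategoryTheory CategoryTheory.Limits CategoryTheory.Functor TensorProduct

universe u

namespace Groth.Agent.Lib.Helper13.OpenImm

open DerivedCategory Groth.Agent.Lib.Helper13.DR Groth.Agent.Lib.Helper13.Coind
  Groth.Agent.Lib.Helper13.Shriek Groth.Agent.Lib.Helper13.Frob Groth.Agent.Lib.Helper13.RelDual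
  Groth.Agent.Lib.Helper13.FC Groth.Agent.Lib.Helper13.HomBC

attribute [local instance] HasDerivedCategory.standard

section H0

variable (C F : Type u) [CommRing C] [CommRing F] [Algebra C F]

/-- Multiplication by `b` on `F`, as a `C`-linear endomorphism. -/
noncomputable def mulC (b : F) :
    (ModuleCat.restrictScalars.{u} (algebraMap C F)).obj (ModuleCat.of F F) ⟶
      (ModuleCat.restrictScalars.{u} (algebraMap C F)).obj (ModuleCat.of F F) :=
  (ModuleCat.restrictScalars.{u} (algebraMap C F)).map (b • 𝟙 (ModuleCat.of F F))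

/-- The additive bijection `Hom_{D(F)}(F, RHom_C(F, X)) ≃ Hom_{D(C)}(F, X)`. -/
noncomputable def homAdjEquiv (X : Dual.D C) :
    (Dual.inD F F ⟶ (Rco (algebraMap C F)).obj X) ≃+
      (Dual.inD C ((ModuleCat.restrictScalars.{u} (algebraMap C F)).obj (ModuleCat.of F F)) ⟶ X) :=
  ((Coind.adj (algebraMap C F)).homAddEquiv (Dual.inD F F) X).symm.trans
    (Linear.homCongr C (((ModuleCat.restrictScalars.{u}
      (algebraMap C F)).mapDerivedCategorySingleFunctor 0).app (ModuleCat.of F F))
      (Iso.refl X)).toAddEquiv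

lemma homAdjEquiv_smul (X : Dual.D C) (b : F) (f : Dual.inD F F ⟶ (Rco (algebraMap C F)).obj X) :
    homAdjEquiv C F X (b • f) =
      (DerivedCategory.singleFunctor (ModuleCat.{u} C) 0).map (mulC C F b) ≫
        homAdjEquiv C F X f := by
  have h1 : b • f = (DerivedCategory.singleFunctor (ModuleCat.{u} F) 0).map
      (b • 𝟙 (ModuleCat.of F F)) ≫ f := by
    rw [Functor.map_smul, CategoryTheory.Functor.map_id, Linear.smul_comp, Category.id_comp]
  rw [h1]
  change (_ ≫ ((Coind.adj (algebraMap C F)).homEquiv _ _).symm _) ≫ _ = _ ≫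
    ((_ ≫ ((Coind.adj (algebraMap C F)).homEquiv _ _).symm _) ≫ _)
  rw [Adjunction.homEquiv_naturality_left_symm]
  simp only [Iso.refl_hom, Category.comp_id, ← Category.assoc]
  congr 1
  exact (((ModuleCat.restrictScalars.{u}
    (algebraMap C F)).mapDerivedCategorySingleFunctor 0).inv.naturality
    (b • 𝟙 (ModuleCat.of F F))).symm

/-- The morphism of `C`-modules `F → C` attached to a class in `H^0(RHom_C(F, C))`. -/
noncomputable def pre (y : Dual.HD F ((Rco (algebraMap C F)).obj (Dual.inD C C)) 0) :
    (ModuleCat.restrictScalars.{u} (algebraMap C F)).obj (ModuleCat.of F F) ⟶ ModuleCat.of C C :=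
  (DerivedCategory.singleFunctor (ModuleCat.{u} C) 0).preimage
    (homAdjEquiv C F (Dual.inD C C) ((evHEquiv 0 _).symm y))

lemma map_pre (y : Dual.HD F ((Rco (algebraMap C F)).obj (Dual.inD C C)) 0) :
    (DerivedCategory.singleFunctor (ModuleCat.{u} C) 0).map (pre C F y) =
      homAdjEquiv C F (Dual.inD C C) ((evHEquiv 0 _).symm y) :=
  Functor.map_preimage _ _

lemma pre_add (y y' : Dual.HD F ((Rco (algebraMap C F)).obj (Dual.inD C C)) 0) :
    pre C F (y + y') = pre C F y + pre C F y' := by
  apply (DerivedCategory.singleFunctor (ModuleCat.{u} C) 0).map_injective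
  rw [Functor.map_add, map_pre, map_pre, map_pre, _root_.map_add, _root_.map_add]

lemma pre_smul (b : F) (y : Dual.HD F ((Rco (algebraMap C F)).obj (Dual.inD C C)) 0) :
    pre C F (b • y) = mulC C F b ≫ pre C F y := by
  apply (DerivedCategory.singleFunctor (ModuleCat.{u} C) 0).map_injective
  rw [Functor.map_comp, map_pre, map_pre, _root_.map_smul, homAdjEquiv_smul]

lemma pre_injective : Function.Injective (pre C F) := by
  intro y y' h
  have h4 := congrArg (DerivedCategory.singleFunctor (ModuleCat.{u} C) 0).map h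
  rw [map_pre, map_pre] at h4
  exact (evHEquiv 0 _).symm.injective ((homAdjEquiv C F (Dual.inD C C)).injective h4)

lemma pre_surjective : Function.Surjective (pre C F) := by
  intro g
  refine ⟨evHEquiv 0 _ ((homAdjEquiv C F (Dual.inD C C)).symm
    ((DerivedCategory.singleFunctor (ModuleCat.{u} C) 0).map g)), ?_⟩
  apply (DerivedCategory.singleFunctor (ModuleCat.{u} C) 0).map_injective
  rw [map_pre, LinearEquiv.symm_apply_apply, AddEquiv.apply_symm_apply]

/-- The underlying function of the comparison `H^0(RHom_C(F, C)) → Hom_C(F, C)`. -/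
noncomputable def H0Fun (y : Dual.HD F ((Rco (algebraMap C F)).obj (Dual.inD C C)) 0) :
    Disc.Omega C F :=
  ⟨((restrictSelfIso (A := C) (B := F)).inv ≫ pre C F y).hom⟩

lemma H0Fun_add (y y' : Dual.HD F ((Rco (algebraMap C F)).obj (Dual.inD C C)) 0) :
    H0Fun C F (y + y') = H0Fun C F y + H0Fun C F y' := by
  apply Disc.Omega.toLinearMap_injective
  rw [Disc.Omega.add_toLinearMap]
  change ((restrictSelfIso (A := C) (B := F)).inv ≫ pre C F (y + y')).hom =
    ((restrictSelfIso (A := C) (B := F)).inv ≫ pre C F y).hom +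
    ((restrictSelfIso (A := C) (B := F)).inv ≫ pre C F y').hom
  rw [pre_add, Preadditive.comp_add, ModuleCat.hom_add]

lemma H0Fun_smul (b : F) (y : Dual.HD F ((Rco (algebraMap C F)).obj (Dual.inD C C)) 0) :
    H0Fun C F (b • y) = b • H0Fun C F y := by
  apply Disc.Omega.toLinearMap_injective
  apply LinearMap.ext
  intro x
  rw [Disc.Omega.smul_toLinearMap_apply]
  change ((restrictSelfIso (A := C) (B := F)).inv ≫ pre C F (b • y)).hom x =
    ((restrictSelfIso (A := C) (B := F)).inv ≫ pre C F y).hom (b * x)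
  rw [pre_smul]
  rfl

lemma H0Fun_bijective : Function.Bijective (H0Fun C F) := by
  constructor
  · intro y y' h
    have h1 := congrArg Disc.Omega.toLinearMap h
    change ((restrictSelfIso (A := C) (B := F)).inv ≫ pre C F y).hom =
      ((restrictSelfIso (A := C) (B := F)).inv ≫ pre C F y').hom at h1
    have h2 := ModuleCat.hom_ext h1
    exact pre_injective C F ((Iso.cancel_iso_inv_left _ _ _).1 h2)
  · intro φ
    obtain ⟨y, hy⟩ := pre_surjective C F
      ((restrictSelfIso (A := C) (B := F)).hom ≫ ModuleCat.ofHom φ.toLinearMap)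
    refine ⟨y, ?_⟩
    apply Disc.Omega.toLinearMap_injective
    change ((restrictSelfIso (A := C) (B := F)).inv ≫ pre C F y).hom = _
    rw [hy, Iso.inv_hom_id_assoc]
    rfl

/-- `H^0(RHom_C(F, C)) = Hom_C(F, C)` as `F`-modules. -/
noncomputable def H0RcoEquiv :
    Dual.HD F ((Rco (algebraMap C F)).obj (Dual.inD C C)) 0 ≃ₗ[F] Disc.Omega C F :=
  LinearEquiv.ofBijective
    { toFun := H0Fun C F
      map_add' := H0Fun_add C F
      map_smul' := H0Fun_smul C F } (H0Fun_bijective C F)

end H0

end Groth.Agent.Lib.Helper13.OpenImm
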