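import Groth.Prelude.Def_PCoh
import Mathlib.CategoryTheory.Abelian.Refinements
import Mathlib.Algebra.Homology.ShortComplex.ShortExact
import Mathlib.Algebra.Homology.ShortComplex.ExactFunctor

set_option autoImplicit false
set_option linter.unusedSectionVars false

universe v u

namespace Groth.Agent.Lib.Helper13.PC

open CategoryTheory CategoryTheory.Limits PCoh

variable {C : Type u} [Category.{v} C] [Abelian C] (P : ObjectProperty C)

/-- A quotient of an object of finite type is of finite type. -/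
lemma isOfFiniteType_of_epi {F G : C} (p : F ⟶ G) [Epi p] (h : IsOfFiniteType P F) :
    IsOfFiniteType P G := by
  obtain ⟨E, π, hE, hπ⟩ := h
  exact ⟨E, π ≫ p, hE, epi_comp _ _⟩

lemma isOfFiniteType_of_iso {F G : C} (e : F ≅ G) (h : IsOfFiniteType P F) :
    IsOfFiniteType P G := isOfFiniteType_of_epi P e.hom h

/-- Precoherent relative to `P`. -/
def IsPrecoherent (H : C) : Prop :=
  ∀ (E : C) (u : E ⟶ H), P E → IsOfFiniteType P (kernel u)

/-- `0 → F → G → H` exact with `G` of finite type and `H` precoherent: `F` is of finite type. -/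
theorem isOfFiniteType_kernel_of_precoherent (S : ShortComplex C) (hS : S.Exact) [Mono S.f]
    (hG : IsOfFiniteType P S.X₂) (hH : IsPrecoherent P S.X₃) : IsOfFiniteType P S.X₁ := by
  obtain ⟨E, π, hE, hπ⟩ := hG
  let u : E ⟶ S.X₃ := π ≫ S.g
  have hK := hH E u hE
  let k : kernel u ⟶ S.X₁ := hS.lift (kernel.ι u ≫ π) (by
    rw [Category.assoc]; exact kernel.condition u)
  have hk : k ≫ S.f = kernel.ι u ≫ π := hS.lift_f _ _
  suffices Epi k from isOfFiniteType_of_epi P k hK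
  rw [epi_iff_surjective_up_to_refinements]
  intro A y
  obtain ⟨A', p, hp, x, hx⟩ := (epi_iff_surjective_up_to_refinements π).mp hπ (y ≫ S.f)
  have hxu : x ≫ u = 0 := by
    dsimp only [u]
    rw [← Category.assoc, ← hx, Category.assoc, Category.assoc, S.zero, comp_zero, comp_zero]
  refine ⟨A', p, hp, kernel.lift u x hxu, ?_⟩
  rw [← cancel_mono S.f, Category.assoc, Category.assoc, hk, kernel.lift_ι_assoc, hx]


variable {P}

/-- Quasi-liftability along an arbitrary epimorphism onto an object of finite type: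
if `g : G ⟶ H` is epi and `πH : E₃ ⟶ H` with `P E₃`, there are `F'` in `P`, `w : F' ⟶ G`
and an epi `q : F' ⟶ E₃` with `w ≫ g = q ≫ πH`. -/
lemma exists_lift_of_quasiLiftable (hql : IsQuasiLiftable P) {G H E₃ : C} (g : G ⟶ H) [Epi g]
    (πH : E₃ ⟶ H) (hE₃ : P E₃) :
    ∃ (F' : C) (w : F' ⟶ G) (q : F' ⟶ E₃), P F' ∧ Epi q ∧ w ≫ g = q ≫ πH := by
  obtain ⟨F', v, hF', hv⟩ := hql (pullback g πH) E₃ (pullback.snd g πH) inferInstance hE₃
  exact ⟨F', v ≫ pullback.fst g πH, v ≫ pullback.snd g πH, hF', hv, by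
    rw [Category.assoc, Category.assoc, pullback.condition]⟩

/-- Extensions of objects of finite type are of finite type. -/
theorem isOfFiniteType_of_shortExact (hsum : ∀ X Y : C, P X → P Y → P (X ⨯ Y))
    (hql : IsQuasiLiftable P) (S : ShortComplex C) (hS : S.ShortExact)
    (h₁ : IsOfFiniteType P S.X₁) (h₃ : IsOfFiniteType P S.X₃) : IsOfFiniteType P S.X₂ := by
  have := hS.epi_g
  have := hS.mono_f
  obtain ⟨E₁, π₁, hE₁, hπ₁⟩ := h₁
  obtain ⟨E₃, π₃, hE₃, hπ₃⟩ := h₃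
  obtain ⟨F', w, q, hF', hq, hw⟩ := exists_lift_of_quasiLiftable hql S.g π₃ hE₃
  refine ⟨E₁ ⨯ F', prod.fst ≫ π₁ ≫ S.f + prod.snd ≫ w, hsum _ _ hE₁ hF', ?_⟩
  rw [epi_iff_surjective_up_to_refinements]
  intro A y
  -- lift `y ≫ g` to `F'`
  have : Epi (q ≫ π₃) := epi_comp _ _
  obtain ⟨A₁, p₁, hp₁, z, hz⟩ := (epi_iff_surjective_up_to_refinements (q ≫ π₃)).mp this (y ≫ S.g)
  -- the difference lies in `F`
  have hdiff : (p₁ ≫ y - z ≫ w) ≫ S.g = 0 := by
    rw [Preadditive.sub_comp, Category.assoc, Category.assoc, hw, hz, sub_self]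
  let d : A₁ ⟶ S.X₁ := hS.exact.lift _ hdiff
  have hd : d ≫ S.f = p₁ ≫ y - z ≫ w := hS.exact.lift_f _ _
  obtain ⟨A₂, p₂, hp₂, e, he⟩ := (epi_iff_surjective_up_to_refinements π₁).mp hπ₁ d
  refine ⟨A₂, p₂ ≫ p₁, epi_comp _ _, prod.lift e (p₂ ≫ z), ?_⟩
  rw [Preadditive.comp_add, prod.lift_fst_assoc, prod.lift_snd_assoc, ← reassoc_of% he, hd,
    Preadditive.comp_sub, Category.assoc, Category.assoc]
  abel


/-- Extensions of precoherent objects are precoherent. -/
theorem isPrecoherent_of_shortExact (S : ShortComplex C) (hS : S.ShortExact)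
    (h₁ : IsPrecoherent P S.X₁) (h₃ : IsPrecoherent P S.X₃) : IsPrecoherent P S.X₂ := by
  have := hS.mono_f
  intro E u hE
  obtain ⟨E', ρ, hE', hρ⟩ := h₃ E (u ≫ S.g) hE
  let k : kernel (u ≫ S.g) ⟶ S.X₁ := hS.exact.lift (kernel.ι (u ≫ S.g) ≫ u) (by
    rw [Category.assoc]; exact kernel.condition (u ≫ S.g))
  have hk : k ≫ S.f = kernel.ι (u ≫ S.g) ≫ u := hS.exact.lift_f _ _
  have hfin := h₁ E' (ρ ≫ k) hE'
  let φ : kernel (ρ ≫ k) ⟶ kernel u :=
    kernel.lift u (kernel.ι (ρ ≫ k) ≫ ρ ≫ kernel.ι (u ≫ S.g)) (by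
      rw [Category.assoc, Category.assoc, ← hk, ← Category.assoc ρ, kernel.condition_assoc,
        zero_comp])
  have hφ : φ ≫ kernel.ι u = kernel.ι (ρ ≫ k) ≫ ρ ≫ kernel.ι (u ≫ S.g) := kernel.lift_ι _ _ _
  suffices Epi φ from isOfFiniteType_of_epi P φ hfin
  rw [epi_iff_surjective_up_to_refinements]
  intro A y
  let y' : A ⟶ kernel (u ≫ S.g) := kernel.lift (u ≫ S.g) (y ≫ kernel.ι u) (by
    rw [Category.assoc, kernel.condition_assoc, zero_comp, comp_zero])
  have hy' : y' ≫ kernel.ι (u ≫ S.g) = y ≫ kernel.ι u := kernel.lift_ι _ _ _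
  obtain ⟨A₁, p₁, hp₁, z, hz⟩ := (epi_iff_surjective_up_to_refinements ρ).mp hρ y'
  have hz0 : z ≫ ρ ≫ k = 0 := by
    rw [← cancel_mono S.f, zero_comp, Category.assoc, Category.assoc, hk, ← reassoc_of% hz,
      reassoc_of% hy', kernel.condition, comp_zero, comp_zero]
  refine ⟨A₁, p₁, hp₁, kernel.lift (ρ ≫ k) z hz0, ?_⟩
  rw [← cancel_mono (kernel.ι u), Category.assoc, Category.assoc, hφ, kernel.lift_ι_assoc,
    ← reassoc_of% hz, hy']

end Groth.Agent.Lib.Helper13.PC
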