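import Groth.Agent.Lib.Helper13.PCHomology

set_option autoImplicit false
set_option linter.style.haveILetI false

universe w v u

namespace Groth.Agent.Lib.Helper13.PC

open CategoryTheory CategoryTheory.Limits HomologicalComplex CochainComplex PCoh Pretriangulated
  ZeroObject DerivedCategory

section Preadditive

variable {D : Type*} [Category D] [Preadditive D] {A₁ A₂ A₁' A₂' : D}
  (b : BinaryBicone A₁ A₂) (c : BinaryBicone A₁' A₂')
  (hb : b.fst ≫ b.inl + b.snd ≫ b.inr = 𝟙 b.pt) (hc : c.fst ≫ c.inl + c.snd ≫ c.inr = 𝟙 c.pt)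
  (f : b.pt ⟶ c.pt) (a₁ : A₁ ⟶ A₁') (a₂ : A₂ ⟶ A₂')
  (h₁ : f ≫ c.fst = b.fst ≫ a₁) (h₂ : f ≫ c.snd = b.snd ≫ a₂)

include hb hc h₁ h₂

lemma isIso_of_bicone_map [IsIso a₁] [IsIso a₂] : IsIso f := by
  refine ⟨c.fst ≫ inv a₁ ≫ b.inl + c.snd ≫ inv a₂ ≫ b.inr, ?_, ?_⟩
  · rw [Preadditive.comp_add, reassoc_of% h₁, reassoc_of% h₂]
    simpa using hb
  · have e1 : (c.fst ≫ inv a₁ ≫ b.inl + c.snd ≫ inv a₂ ≫ b.inr) ≫ b.fst = c.fst ≫ inv a₁ := by
      simp
    have e2 : (c.fst ≫ inv a₁ ≫ b.inl + c.snd ≫ inv a₂ ≫ b.inr) ≫ b.snd = c.snd ≫ inv a₂ := by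
      simp
    calc (c.fst ≫ inv a₁ ≫ b.inl + c.snd ≫ inv a₂ ≫ b.inr) ≫ f
        = ((c.fst ≫ inv a₁ ≫ b.inl + c.snd ≫ inv a₂ ≫ b.inr) ≫ f) ≫
            (c.fst ≫ c.inl + c.snd ≫ c.inr) := by rw [hc, Category.comp_id]
      _ = 𝟙 c.pt := by
        rw [Preadditive.comp_add, Category.assoc, Category.assoc, reassoc_of% h₁,
          reassoc_of% h₂, reassoc_of% e1, reassoc_of% e2]
        simpa using hc

omit hb in
lemma inl_comp_of_bicone_map : b.inl ≫ f = a₁ ≫ c.inl := by
  calc b.inl ≫ f = (b.inl ≫ f) ≫ (c.fst ≫ c.inl + c.snd ≫ c.inr) := by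
        rw [hc, Category.comp_id]
    _ = a₁ ≫ c.inl := by
      rw [Preadditive.comp_add, Category.assoc, Category.assoc, reassoc_of% h₁, reassoc_of% h₂]
      simp

omit hb in
lemma inr_comp_of_bicone_map : b.inr ≫ f = a₂ ≫ c.inr := by
  calc b.inr ≫ f = (b.inr ≫ f) ≫ (c.fst ≫ c.inl + c.snd ≫ c.inr) := by
        rw [hc, Category.comp_id]
    _ = a₂ ≫ c.inr := by
      rw [Preadditive.comp_add, Category.assoc, Category.assoc, reassoc_of% h₁, reassoc_of% h₂]
      simp

omit hb in
lemma epi_of_bicone_map [Epi a₁] [Epi a₂] : Epi f := by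
  rw [Preadditive.epi_iff_cancel_zero]
  intro Z h hh
  have e1 := inl_comp_of_bicone_map b c hc f a₁ a₂ h₁ h₂
  have e2 := inr_comp_of_bicone_map b c hc f a₁ a₂ h₁ h₂
  have k1 : c.inl ≫ h = 0 := by
    rw [← cancel_epi a₁, ← Category.assoc, ← e1, Category.assoc, hh, comp_zero, comp_zero]
  have k2 : c.inr ≫ h = 0 := by
    rw [← cancel_epi a₂, ← Category.assoc, ← e2, Category.assoc, hh, comp_zero, comp_zero]
  calc h = (c.fst ≫ c.inl + c.snd ≫ c.inr) ≫ h := by rw [hc, Category.id_comp]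
    _ = 0 := by rw [Preadditive.add_comp, Category.assoc, Category.assoc, k1, k2]; simp

end Preadditive


variable {C : Type u} [Category.{v} C] [Abelian C] [HasDerivedCategory.{w} C]

/-- In a distinguished triangle, if `H^j(mor₁)` is epi and `H^{j+1}(mor₁)` is mono then
`H^j(obj₃) = 0`. -/
lemma isZero_homology_obj₃ (T : Triangle (DerivedCategory C)) (hT : T ∈ distTriang _) (j k : ℤ)
    (hjk : j + 1 = k) (h₁ : Epi ((DerivedCategory.homologyFunctor C j).map T.mor₁))
    (h₂ : Mono ((DerivedCategory.homologyFunctor C k).map T.mor₁)) :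
    IsZero ((DerivedCategory.homologyFunctor C j).obj T.obj₃) := by
  have e1 := (HomologySequence.epi_homologyMap_mor₁_iff T hT j).1 h₁
  have e2 := (HomologySequence.mono_homologyMap_mor₁_iff T hT j k hjk).1 h₂
  have ex := HomologySequence.exact₃ T hT j k hjk
  have : Mono (HomologySequence.δ T j k hjk) := ex.mono_g e1
  rw [IsZero.iff_id_eq_zero, ← cancel_mono (HomologySequence.δ T j k hjk), e2]
  simp

variable {P : ObjectProperty C} [P.IsClosedUnderIsomorphisms] [P.ContainsZero]

set_option backward.defeqAttrib.useBackward true in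
/-- The point of a bilimit bicone on two `n`-pseudo-coherent objects is `n`-pseudo-coherent. -/
theorem isNPC_pt_of_isBilimit (hsum : ∀ X Y : C, P X → P Y → P (X ⨯ Y))
    (hqs : IsQuasiStableUnderKernels P) (hql : IsQuasiLiftable P) {n : ℤ}
    {F' F'' : DerivedCategory C} (c : BinaryBicone F' F'') (hc : c.IsBilimit)
    (h' : IsNPC P n F') (h'' : IsNPC P n F'') : IsNPC P n c.pt := by
  have hT : Triangle.mk c.inl c.snd (0 : F'' ⟶ F'⟦(1 : ℤ)⟧) ∈ distTriang _ := by
    refine isomorphic_distinguished _ (binaryBiproductTriangle_distinguished F' F'') _ ?_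
    refine Triangle.isoMk _ _ (Iso.refl _) (biprod.uniqueUpToIso _ _ hc) (Iso.refl _) ?_ ?_ ?_
    · dsimp
      apply biprod.hom_ext <;> simp
    · dsimp
      simp
    · dsimp
      simp
  exact isNPC_obj₂ hsum hqs hql _ hT h' h''


omit [HasDerivedCategory.{w} C] [P.IsClosedUnderIsomorphisms] [P.ContainsZero] in
lemma isStrictPC_of_forall {E : CochainComplex C ℤ} {b : ℤ} (hz : ∀ i : ℤ, b < i → IsZero (E.X i))
    (hP : ∀ i : ℤ, P (E.X i)) (k : ℤ) : IsStrictPC P k E :=
  ⟨⟨b, hz⟩, fun i _ => hP i⟩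

lemma isZero_homology_of_retract {X Y : DerivedCategory C} (i : X ⟶ Y) (r : Y ⟶ X)
    (h : i ≫ r = 𝟙 X) (j : ℤ) (hY : IsZero ((DerivedCategory.homologyFunctor C j).obj Y)) :
    IsZero ((DerivedCategory.homologyFunctor C j).obj X) := by
  have e : 𝟙 ((DerivedCategory.homologyFunctor C j).obj X) =
      (DerivedCategory.homologyFunctor C j).map i ≫ (DerivedCategory.homologyFunctor C j).map r := by
    rw [← Functor.map_comp, h]
    exact (CategoryTheory.Functor.map_id _ _).symm
  rw [IsZero.iff_id_eq_zero, e,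
    hY.eq_of_tgt ((DerivedCategory.homologyFunctor C j).map i) 0, zero_comp]

set_option backward.defeqAttrib.useBackward true in
/-- One step of the descending induction for direct summands. -/
theorem isNPC_fst_step (hsum : ∀ X Y : C, P X → P Y → P (X ⨯ Y))
    (hqs : IsQuasiStableUnderKernels P) (hql : IsQuasiLiftable P) {k : ℤ}
    {F' F'' : DerivedCategory C} (c : BinaryBicone F' F'') (hc : c.IsBilimit)
    (hX : IsNPC P k c.pt) (h' : IsNPC P (k + 1) F') (h'' : IsNPC P (k + 1) F'') :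
    IsNPC P k F' := by
  obtain ⟨E₁, b₁, α₁, hz₁, hP₁, hiso₁, hepi₁⟩ := exists_nIso_of_isNPC hsum hqs hql h'
  obtain ⟨E₂, b₂, α₂, hz₂, hP₂, hiso₂, hepi₂⟩ := exists_nIso_of_isNPC hsum hqs hql h''
  have hS₁ : ∀ m : ℤ, IsStrictPC P m E₁ := isStrictPC_of_forall (fun i hi => hz₁ i (Or.inr hi)) hP₁
  have hS₂ : ∀ m : ℤ, IsStrictPC P m E₂ := isStrictPC_of_forall (fun i hi => hz₂ i (Or.inr hi)) hP₂
  obtain ⟨G', f', g', hT₁⟩ := distinguished_cocone_triangle α₁
  let b := BinaryBiproduct.bicone (Q.obj E₁) (Q.obj E₂)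
  have hb : b.IsBilimit := BinaryBiproduct.isBilimit _ _
  let β : b.pt ⟶ c.pt := b.fst ≫ α₁ ≫ c.inl + b.snd ≫ α₂ ≫ c.inr
  have hβ₁ : β ≫ c.fst = b.fst ≫ α₁ := by simp [β]
  have hβ₂ : β ≫ c.snd = b.snd ≫ α₂ := by simp [β]
  obtain ⟨G, f, g, hT⟩ := distinguished_cocone_triangle β
  -- homology of β
  have tot : ∀ (j : ℤ) {A₁ A₂ : DerivedCategory C} (d : BinaryBicone A₁ A₂) (hd : d.IsBilimit),
      ((DerivedCategory.homologyFunctor C j).mapBinaryBicone d).fst ≫
        ((DerivedCategory.homologyFunctor C j).mapBinaryBicone d).inl +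
      ((DerivedCategory.homologyFunctor C j).mapBinaryBicone d).snd ≫
        ((DerivedCategory.homologyFunctor C j).mapBinaryBicone d).inr = 𝟙 _ := by
    intro j A₁ A₂ d hd
    have := congr_arg (DerivedCategory.homologyFunctor C j).map (Limits.IsBilimit.binary_total hd)
    simp only [Functor.map_add, Functor.map_comp, CategoryTheory.Functor.map_id] at this
    exact this
  have hβiso : ∀ j : ℤ, k + 1 < j → IsIso ((DerivedCategory.homologyFunctor C j).map β) := by
    intro j hj
    have := hiso₁ j hj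
    have := hiso₂ j hj
    exact isIso_of_bicone_map ((DerivedCategory.homologyFunctor C j).mapBinaryBicone b)
      ((DerivedCategory.homologyFunctor C j).mapBinaryBicone c) (tot j b hb) (tot j c hc)
      ((DerivedCategory.homologyFunctor C j).map β)
      ((DerivedCategory.homologyFunctor C j).map α₁) ((DerivedCategory.homologyFunctor C j).map α₂)
      (by simp [← Functor.map_comp, hβ₁]) (by simp [← Functor.map_comp, hβ₂])
  have hβepi : Epi ((DerivedCategory.homologyFunctor C (k + 1)).map β) :=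
    epi_of_bicone_map ((DerivedCategory.homologyFunctor C (k + 1)).mapBinaryBicone b)
      ((DerivedCategory.homologyFunctor C (k + 1)).mapBinaryBicone c) (tot _ c hc)
      ((DerivedCategory.homologyFunctor C (k + 1)).map β)
      ((DerivedCategory.homologyFunctor C (k + 1)).map α₁)
      ((DerivedCategory.homologyFunctor C (k + 1)).map α₂)
      (by simp [← Functor.map_comp, hβ₁]) (by simp [← Functor.map_comp, hβ₂])
  -- G is k-pseudo-coherent and acyclic above k
  have hG : IsNPC P k G := isNPC_obj₃ hsum hqs hql _ hT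
    (isNPC_pt_of_isBilimit hsum hqs hql b hb (isNPC_Q (hS₁ _)) (isNPC_Q (hS₂ _))) hX
  have hGac : ∀ j : ℤ, k < j → IsZero ((DerivedCategory.homologyFunctor C j).obj G) := by
    intro j hj
    refine isZero_homology_obj₃ _ hT j (j + 1) rfl ?_ ?_
    · rcases (show k + 1 ≤ j from hj).lt_or_eq with h | h
      · have := hβiso j h; dsimp; infer_instance
      · subst h; exact hβepi
    · have := hβiso (j + 1) (by lia); dsimp; infer_instance
  have hGft := isOfFiniteType_homology_of_isNPC hqs hG hGac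
  -- G' is a retract of G
  let φ := completeDistinguishedTriangleMorphism _ _ hT hT₁ b.fst c.fst hβ₁
  let ψ := completeDistinguishedTriangleMorphism _ _ hT₁ hT b.inl c.inl
    (by dsimp; simp [β])
  have hψφ : IsIso (ψ ≫ φ).hom₃ := isIso₃_of_isIso₁₂ (ψ ≫ φ) hT₁ hT₁
    (by simp [φ, ψ]; infer_instance) (by simp [φ, ψ]; infer_instance)
  have hepiφ : Epi ((DerivedCategory.homologyFunctor C k).map φ.hom₃) := by
    have : IsIso ((DerivedCategory.homologyFunctor C k).map ψ.hom₃ ≫
        (DerivedCategory.homologyFunctor C k).map φ.hom₃) := by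
      rw [← Functor.map_comp]
      change IsIso ((DerivedCategory.homologyFunctor C k).map (ψ ≫ φ).hom₃)
      infer_instance
    exact epi_of_epi ((DerivedCategory.homologyFunctor C k).map ψ.hom₃) _
  have hG'ft : IsOfFiniteType P ((DerivedCategory.homologyFunctor C k).obj G') :=
    @isOfFiniteType_of_epi C _ _ P _ _ ((DerivedCategory.homologyFunctor C k).map φ.hom₃) hepiφ hGft
  have hG'ac : ∀ j : ℤ, k < j → IsZero ((DerivedCategory.homologyFunctor C j).obj G') := by
    intro j hj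
    refine isZero_homology_obj₃ _ hT₁ j (j + 1) rfl ?_ ?_
    · rcases (show k + 1 ≤ j from hj).lt_or_eq with h | h
      · have := hiso₁ j h; dsimp; infer_instance
      · subst h; exact hepi₁
    · have := hiso₁ (j + 1) (by lia); dsimp; infer_instance
  have hG' : IsNPC P k G' := isNPC_of_isOfFiniteType_homology hsum hql hG'ac hG'ft
  exact isNPC_obj₂ hsum hqs hql _ hT₁ (isNPC_Q (hS₁ _)) hG'


/-- The swapped bicone. -/
def swapBicone {D : Type*} [Category D] [HasZeroMorphisms D] {A₁ A₂ : D} (c : BinaryBicone A₁ A₂) :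
    BinaryBicone A₂ A₁ where
  pt := c.pt
  fst := c.snd
  snd := c.fst
  inl := c.inr
  inr := c.inl

lemma swapBicone_isBilimit {D : Type*} [Category D] [Preadditive D] {A₁ A₂ : D}
    (c : BinaryBicone A₁ A₂) (hc : c.IsBilimit) : Nonempty (swapBicone c).IsBilimit := by
  refine ⟨isBinaryBilimitOfTotal _ ?_⟩
  have := Limits.IsBilimit.binary_total hc
  rw [add_comm] at this
  exact this

/-- Direct summands of `n`-pseudo-coherent objects are `n`-pseudo-coherent. -/
theorem isNPC_of_isBilimit (hsum : ∀ X Y : C, P X → P Y → P (X ⨯ Y))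
    (hqs : IsQuasiStableUnderKernels P) (hql : IsQuasiLiftable P) {n : ℤ}
    {F' F'' : DerivedCategory C} (c : BinaryBicone F' F'') (hc : c.IsBilimit)
    (hX : IsNPC P n c.pt) : IsNPC P n F' ∧ IsNPC P n F'' := by
  obtain ⟨hc'⟩ := swapBicone_isBilimit c hc
  obtain ⟨E, ⟨⟨b, hb⟩, hP⟩, ⟨e⟩⟩ := id hX
  have hXac : ∀ i : ℤ, b < i → IsZero ((DerivedCategory.homologyFunctor C i).obj c.pt) := by
    intro i hi
    have h1 : IsZero (E.homology i) := ShortComplex.isZero_homology_of_isZero_X₂ _ (hb i hi)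
    exact h1.of_iso ((DerivedCategory.homologyFunctor C i).mapIso e.symm ≪≫ homologyQIso E i)
  have key : ∀ k : ℤ, k ≤ max (b + 1) n → n ≤ k → IsNPC P k F' ∧ IsNPC P k F'' := by
    apply Int.leInductionDown
    · intro _
      have hm : b + 1 ≤ max (b + 1) n := le_max_left _ _
      exact ⟨isNPC_of_acyclic (fun i hi => isZero_homology_of_retract c.inl c.fst c.inl_fst i
          (hXac i (by lia))),
        isNPC_of_acyclic (fun i hi => isZero_homology_of_retract c.inr c.snd c.inr_snd i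
          (hXac i (by lia)))⟩
    · intro k hk ih hnk
      obtain ⟨h1, h2⟩ := ih (by lia)
      have hX' : IsNPC P (k - 1) c.pt := hX.of_le hnk
      rw [← show k - 1 + 1 = k by ring] at h1 h2
      exact ⟨isNPC_fst_step hsum hqs hql c hc hX' h1 h2,
        isNPC_fst_step hsum hqs hql (swapBicone c) hc' hX' h2 h1⟩
  exact key n (le_max_right _ _) le_rfl

end Groth.Agent.Lib.Helper13.PC
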