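import Groth.Agent.Lib.Helper13.PCBasic
import Mathlib.CategoryTheory.Abelian.Refinements
import Mathlib.Tactic.LinearCombination
import Mathlib.Tactic.Abel

set_option autoImplicit false

universe v u

namespace Groth.Agent.Lib.Helper13.PC

open CategoryTheory CategoryTheory.Limits PCoh

variable {C : Type u} [Category.{v} C] [Abelian C]
variable {P : ObjectProperty C} [P.IsClosedUnderIsomorphisms]

/-- The cokernel of a map from an object of finite type to a precoherent object is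
precoherent. -/
theorem isPrecoherent_of_exact (hsum : ∀ X Y : C, P X → P Y → P (X ⨯ Y))
    (hql : IsQuasiLiftable P) (S : ShortComplex C) (hS : S.Exact) [Epi S.g]
    (hF : IsOfFiniteType P S.X₁) (hG : IsPrecoherent P S.X₂) : IsPrecoherent P S.X₃ := by
  intro E u hE
  obtain ⟨E', a, q, hE', hq, haq⟩ := exists_lift_of_quasiLiftable hql S.g u hE
  obtain ⟨EF, πF, hEF, hπF⟩ := hF
  let φ : E' ⊞ EF ⟶ S.X₂ := biprod.desc a (πF ≫ S.f)
  have hPsum : P (E' ⊞ EF) := (P.prop_iff_of_iso (biprod.isoProd E' EF)).2 (hsum _ _ hE' hEF)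
  have hker : IsOfFiniteType P (kernel φ) := hG _ φ hPsum
  have hfst : (biprod.fst : E' ⊞ EF ⟶ E') ≫ a = φ - biprod.snd ≫ πF ≫ S.f := by
    apply biprod.hom_ext' <;> simp [φ]
  have hzero : (kernel.ι φ ≫ biprod.fst ≫ q) ≫ u = 0 := by
    rw [Category.assoc, Category.assoc, ← haq, reassoc_of% hfst]
    simp
  let ψ : kernel φ ⟶ kernel u := kernel.lift u (kernel.ι φ ≫ biprod.fst ≫ q) hzero
  have hψ : ψ ≫ kernel.ι u = kernel.ι φ ≫ biprod.fst ≫ q := kernel.lift_ι _ _ _
  have : Epi ψ := by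
    rw [epi_iff_surjective_up_to_refinements]
    intro A x
    obtain ⟨A₁, π₁, hπ₁, y, hy⟩ := surjective_up_to_refinements_of_epi q (x ≫ kernel.ι u)
    have hya : (y ≫ a) ≫ S.g = 0 := by
      rw [Category.assoc, haq, ← reassoc_of% hy]
      simp
    obtain ⟨A₂, π₂, hπ₂, z, hz⟩ := hS.exact_up_to_refinements (y ≫ a) hya
    obtain ⟨A₃, π₃, hπ₃, w, hw⟩ := surjective_up_to_refinements_of_epi πF z
    have h0 : biprod.lift (π₃ ≫ π₂ ≫ y) (-w) ≫ φ = 0 := by
      simp only [φ, biprod.lift_desc, Category.assoc, Preadditive.neg_comp]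
      rw [hz, ← reassoc_of% hw]
      simp
    refine ⟨A₃, π₃ ≫ π₂ ≫ π₁, inferInstance, kernel.lift φ _ h0, ?_⟩
    rw [← cancel_mono (kernel.ι u)]
    simp only [Category.assoc, hψ, kernel.lift_ι_assoc, biprod.lift_fst_assoc, hy]
  exact isOfFiniteType_of_epi P ψ hker

end Groth.Agent.Lib.Helper13.PC
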