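import Groth.Agent.Lib.Helper13.PCBasic
import Mathlib.Algebra.Homology.Augment
import Mathlib.Algebra.Homology.Embedding.RestrictionHomology
import Mathlib.Algebra.Homology.QuasiIso
import Mathlib.Tactic.Ring
import Mathlib.Tactic.Linarith

set_option autoImplicit false

universe v u

namespace Groth.Agent.Lib.Helper13.PC

open CategoryTheory CategoryTheory.Limits PCoh HomologicalComplex

variable {C : Type u} [Category.{v} C] [Abelian C] (P : ObjectProperty C)

section

variable (E : CochainComplex C ℤ) (n : ℤ)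

/-- The restriction of `E` to degrees `≥ n`, indexed by `ℕ`. -/
noncomputable abbrev resGE : CochainComplex C ℕ := E.restriction (ComplexShape.embeddingUpIntGE n)

/-- `(resGE E n).X 0 ≅ E.X n`. -/
noncomputable def resGEXIso (k : ℕ) (m : ℤ) (h : n + k = m) : (resGE E n).X k ≅ E.X m :=
  E.restrictionXIso (ComplexShape.embeddingUpIntGE n) h

lemma resGE_d (k l : ℕ) (m m' : ℤ) (h : n + k = m) (h' : n + l = m') :
    (resGE E n).d k l = (resGEXIso E n k m h).hom ≫ E.d m m' ≫ (resGEXIso E n l m' h').inv := by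
  subst h h'
  simp only [resGEXIso, restrictionXIso, restriction_d, eqToIso.hom, eqToIso.inv]
  erw [eqToHom_refl, eqToHom_refl, Category.id_comp, Category.comp_id]
  rfl

/-- The augmentation map `Z^n(E) ⟶ (resGE E n).X 0`. -/
noncomputable def augMap : E.cycles n ⟶ (resGE E n).X 0 :=
  E.iCycles n ≫ (resGEXIso E n 0 n (by simp)).inv

lemma augMap_d : augMap E n ≫ (resGE E n).d 0 1 = 0 := by
  rw [augMap, resGE_d E n 0 1 n (n + 1) (by simp) (by simp), Category.assoc,
    Iso.inv_hom_id_assoc, iCycles_d_assoc, zero_comp]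

/-- The complex `0 → Z^n(E) → E^n → E^{n+1} → ⋯`. -/
noncomputable def augCx : CochainComplex C ℕ := (resGE E n).augment (augMap E n) (augMap_d E n)


lemma augCx_exactAt_zero : (augCx E n).ExactAt 0 := by
  rw [exactAt_iff' _ 0 0 1 CochainComplex.prev_nat_zero (by simp)]
  have h0 : ((augCx E n).sc' 0 0 1).f = 0 := (augCx E n).shape 0 0 (by simp)
  rw [ShortComplex.exact_iff_mono _ h0]
  change Mono (augMap E n)
  rw [augMap]
  infer_instance

lemma augCx_exactAt_one : (augCx E n).ExactAt 1 := by
  rw [exactAt_iff' _ 0 1 2 (CochainComplex.prev_nat_succ 0) (by simp)]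
  let T : ShortComplex C := ShortComplex.mk (E.iCycles n) (E.d n (n + 1)) (by simp)
  have hT : T.Exact := ShortComplex.exact_of_f_is_kernel _ (E.cyclesIsKernel n (n + 1) (by simp))
  refine ShortComplex.exact_of_iso ?_ hT
  refine ShortComplex.isoMk (Iso.refl _) (resGEXIso E n 0 n (by simp)).symm
    (resGEXIso E n 1 (n + 1) (by simp)).symm ?_ ?_
  · change 𝟙 _ ≫ augMap E n = E.iCycles n ≫ _
    rw [Category.id_comp, augMap]
    rfl
  · change (resGEXIso E n 0 n (by simp)).inv ≫ (resGE E n).d 0 1 = E.d n (n + 1) ≫ _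
    rw [resGE_d E n 0 1 n (n + 1) (by simp) (by simp), Iso.inv_hom_id_assoc]
    rfl

lemma augCx_exactAt_succ_succ (k : ℕ) (h : E.ExactAt (n + k + 1)) :
    (augCx E n).ExactAt (k + 2) := by
  rw [exactAt_iff' _ (k + 1) (k + 2) (k + 3) (CochainComplex.prev_nat_succ (k + 1)) (by simp)]
  rw [exactAt_iff' _ (n + k) (n + k + 1) (n + k + 2) (by simp) (by simp; ring)] at h
  have e := restriction.sc'Iso E (ComplexShape.embeddingUpIntGE n) k (k + 1) (k + 2)
    (i' := n + k) (j' := n + k + 1) (k' := n + k + 2) (by simp) (by simp; ring) (by simp; ring)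
    (by simp) (by simp; ring)
  exact ShortComplex.exact_of_iso e.symm h


/-- The terms of `augCx` in positive degrees. -/
noncomputable def augCx_X_succ_iso (k : ℕ) : (augCx E n).X (k + 1) ≅ E.X (n + k) :=
  resGEXIso E n k (n + k) rfl

end

variable {P} in
/-- If `E` is strictly `n`-pseudo-coherent and acyclic above `n`, then `Z^n(E)` is of finite
type. -/
theorem isOfFiniteType_cycles_of_strictPC [P.IsClosedUnderIsomorphisms]
    (hqs : IsQuasiStableUnderKernels P) (n : ℤ) (E : CochainComplex C ℤ) (hE : IsStrictPC P n E)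
    (hac : ∀ i : ℤ, n < i → IsZero (E.homology i)) : IsOfFiniteType P (E.cycles n) := by
  obtain ⟨⟨b, hb⟩, hP⟩ := hE
  refine hqs (augCx E n) ?_ ?_ ?_
  · intro i
    match i with
    | 0 => exact augCx_exactAt_zero E n
    | 1 => exact augCx_exactAt_one E n
    | k + 2 =>
      refine augCx_exactAt_succ_succ E n k ?_
      rw [exactAt_iff_isZero_homology]
      exact hac _ (by linarith [Int.natCast_nonneg k])
  · refine ⟨(b - n).toNat + 1, fun i hi => ?_⟩
    obtain ⟨k, rfl⟩ : ∃ k, i = k + 1 := ⟨i - 1, by omega⟩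
    refine (hb (n + k) ?_).of_iso (augCx_X_succ_iso E n k)
    have : (b - n).toNat < k := by omega
    have h2 : b - n ≤ ((b - n).toNat : ℤ) := Int.self_le_toNat _
    have h3 : (((b - n).toNat : ℕ) : ℤ) < (k : ℤ) := by exact_mod_cast this
    linarith
  · intro i hi
    obtain ⟨k, rfl⟩ : ∃ k, i = k + 1 := ⟨i - 1, by omega⟩
    exact P.prop_of_iso (augCx_X_succ_iso E n k).symm (hP (n + k) (by linarith [Int.natCast_nonneg k]))

variable {P} in
/-- If `E` is strictly `n`-pseudo-coherent and acyclic above `n`, then `H^n(E)` is of finite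
type. -/
theorem isOfFiniteType_homology_of_strictPC [P.IsClosedUnderIsomorphisms]
    (hqs : IsQuasiStableUnderKernels P) (n : ℤ) (E : CochainComplex C ℤ) (hE : IsStrictPC P n E)
    (hac : ∀ i : ℤ, n < i → IsZero (E.homology i)) : IsOfFiniteType P (E.homology n) :=
  isOfFiniteType_of_epi P (E.homologyπ n) (isOfFiniteType_cycles_of_strictPC hqs n E hE hac)

end Groth.Agent.Lib.Helper13.PC
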