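import Groth.Agent.Lib.Helper13.PCResolve
import Mathlib.Algebra.Homology.DerivedCategory.Fractions
import Mathlib.Algebra.Homology.DerivedCategory.TStructure

set_option autoImplicit false
set_option linter.style.haveILetI false

universe w v u

namespace Groth.Agent.Lib.Helper13.PC

open CategoryTheory CategoryTheory.Limits HomologicalComplex CochainComplex PCoh Pretriangulated
  ZeroObject DerivedCategory

variable {C : Type u} [Category.{v} C] [Abelian C] [HasDerivedCategory.{w} C]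
variable (P : ObjectProperty C)

/-- `F ∈ D(C)` is `n`-pseudo-coherent: isomorphic to a strictly `n`-pseudo-coherent complex. -/
def IsNPC (n : ℤ) (F : DerivedCategory C) : Prop :=
  ∃ E : CochainComplex C ℤ, IsStrictPC P n E ∧ Nonempty (Q.obj E ≅ F)

variable {P}

lemma IsNPC.of_iso {n : ℤ} {F F' : DerivedCategory C} (h : IsNPC P n F) (e : F ≅ F') :
    IsNPC P n F' := by
  obtain ⟨E, hE, ⟨e'⟩⟩ := h
  exact ⟨E, hE, ⟨e' ≪≫ e⟩⟩

omit [HasDerivedCategory.{w} C] in
lemma isStrictPC_of_le {n m : ℤ} (h : n ≤ m) {E : CochainComplex C ℤ} (hE : IsStrictPC P n E) :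
    IsStrictPC P m E :=
  ⟨hE.1, fun i hi => hE.2 i (by lia)⟩

lemma IsNPC.of_le {n m : ℤ} (hnm : n ≤ m) {F : DerivedCategory C} (h : IsNPC P n F) :
    IsNPC P m F := by
  obtain ⟨E, hE, e⟩ := h
  exact ⟨E, isStrictPC_of_le hnm hE, e⟩

lemma isNPC_Q {n : ℤ} {E : CochainComplex C ℤ} (hE : IsStrictPC P n E) : IsNPC P n (Q.obj E) :=
  ⟨E, hE, ⟨Iso.refl _⟩⟩

/-- Shift: if `F` is `n`-pseudo-coherent then `F⟦m⟧` is `(n - m)`-pseudo-coherent. -/
lemma IsNPC.shift {n : ℤ} {F : DerivedCategory C} (h : IsNPC P n F) (m : ℤ) :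
    IsNPC P (n - m) ((CategoryTheory.shiftFunctor (DerivedCategory C) m).obj F) := by
  obtain ⟨E, ⟨⟨b, hb⟩, hP⟩, ⟨e⟩⟩ := h
  refine ⟨(CategoryTheory.shiftFunctor (CochainComplex C ℤ) m).obj E, ⟨⟨b - m, fun i hi => ?_⟩, fun i hi => ?_⟩,
    ⟨((Q.commShiftIso m).app E) ≪≫ (CategoryTheory.shiftFunctor (DerivedCategory C) m).mapIso e⟩⟩
  · exact hb (i + m) (by lia)
  · exact hP (i + m) (by lia)


section HomologyTransfer

lemma epi_map_iff_of_natIso {D₁ D₂ : Type*} [Category D₁] [Category D₂] {F₁ F₂ : D₁ ⥤ D₂}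
    (e : F₁ ≅ F₂) {X Y : D₁} (f : X ⟶ Y) : Epi (F₁.map f) ↔ Epi (F₂.map f) := by
  constructor
  · intro h
    have : F₂.map f = e.inv.app X ≫ F₁.map f ≫ e.hom.app Y := by simp
    rw [this]; infer_instance
  · intro h
    have : F₁.map f = e.hom.app X ≫ F₂.map f ≫ e.inv.app Y := by simp
    rw [this]; infer_instance

lemma mono_map_iff_of_natIso {D₁ D₂ : Type*} [Category D₁] [Category D₂] {F₁ F₂ : D₁ ⥤ D₂}
    (e : F₁ ≅ F₂) {X Y : D₁} (f : X ⟶ Y) : Mono (F₁.map f) ↔ Mono (F₂.map f) := by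
  constructor
  · intro h
    have : F₂.map f = e.inv.app X ≫ F₁.map f ≫ e.hom.app Y := by simp
    rw [this]; infer_instance
  · intro h
    have : F₁.map f = e.hom.app X ≫ F₂.map f ≫ e.inv.app Y := by simp
    rw [this]; infer_instance

variable {K L : CochainComplex C ℤ} (g : K ⟶ L) (i : ℤ)

lemma isIso_homologyFunctor_map_Q_iff :
    IsIso ((DerivedCategory.homologyFunctor C i).map (Q.map g)) ↔ IsIso (homologyMap g i) :=
  NatIso.isIso_map_iff (homologyFunctorFactors C i) g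

lemma epi_homologyFunctor_map_Q_iff :
    Epi ((DerivedCategory.homologyFunctor C i).map (Q.map g)) ↔ Epi (homologyMap g i) :=
  epi_map_iff_of_natIso (homologyFunctorFactors C i) g

lemma mono_homologyFunctor_map_Q_iff :
    Mono ((DerivedCategory.homologyFunctor C i).map (Q.map g)) ↔ Mono (homologyMap g i) :=
  mono_map_iff_of_natIso (homologyFunctorFactors C i) g

/-- `H^i(Q(K)) ≅ H^i(K)`. -/
noncomputable def homologyQIso (K : CochainComplex C ℤ) (i : ℤ) :
    (DerivedCategory.homologyFunctor C i).obj (Q.obj K) ≅ K.homology i :=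
  (homologyFunctorFactors C i).app K

end HomologyTransfer


section Criterion

variable [P.IsClosedUnderIsomorphisms] [P.ContainsZero]

/-- Chain-level criterion: if `g : E ⟶ Y` is an `n`-quasi-isomorphism with `E` strictly
`n`-pseudo-coherent then `Q(Y)` is `n`-pseudo-coherent. -/
lemma isNPC_Q_of_nQuasiIso (hsum : ∀ X Y : C, P X → P Y → P (X ⨯ Y)) {n : ℤ}
    {E Y : CochainComplex C ℤ} (hE : IsStrictPC P n E) (g : E ⟶ Y)
    (hiso : ∀ i : ℤ, n < i → IsIso (homologyMap g i)) (hepi : Epi (homologyMap g n)) :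
    IsNPC P n (Q.obj Y) := by
  obtain ⟨⟨b, hb⟩, hP⟩ := hE
  obtain ⟨M', ι, hM', hq⟩ := exists_twist_quasiIso g n hiso hepi
  refine ⟨twist g ι, ⟨⟨max b n, fun i hi => ?_⟩, fun i hi => ?_⟩, ⟨asIso (Q.map (twistDesc g ι))⟩⟩
  · change IsZero (_ ⊞ _)
    rw [biprod_isZero_iff]
    exact ⟨hM' i (by have := le_max_right b n; lia), hb i (by have := le_max_left b n; lia)⟩
  · exact prop_twist_X P hsum g ι i (P.prop_of_isZero (hM' i hi)) (hP i hi)

/-- Criterion: if `α : Q(E) ⟶ F` is an `n`-isomorphism with `E` strictly `n`-pseudo-coherent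
then `F` is `n`-pseudo-coherent. -/
theorem isNPC_of_nIso (hsum : ∀ X Y : C, P X → P Y → P (X ⨯ Y)) {n : ℤ}
    {E : CochainComplex C ℤ} (hE : IsStrictPC P n E) {F : DerivedCategory C} (α : Q.obj E ⟶ F)
    (hiso : ∀ i : ℤ, n < i → IsIso ((DerivedCategory.homologyFunctor C i).map α))
    (hepi : Epi ((DerivedCategory.homologyFunctor C n).map α)) : IsNPC P n F := by
  let e : Q.obj (Q.objPreimage F) ≅ F := Q.objObjPreimageIso F
  obtain ⟨Y', g, s, hs, hfac⟩ := left_fac (α ≫ e.inv)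
  have hg : Q.map g = α ≫ e.inv ≫ Q.map s := by
    rw [← Category.assoc, hfac, Category.assoc, IsIso.inv_hom_id, Category.comp_id]
  have h1 : ∀ i : ℤ, n < i → IsIso (homologyMap g i) := fun i hi => by
    rw [← isIso_homologyFunctor_map_Q_iff, hg, Functor.map_comp]
    have := hiso i hi
    infer_instance
  have h2 : Epi (homologyMap g n) := by
    rw [← epi_homologyFunctor_map_Q_iff, hg, Functor.map_comp]
    infer_instance
  exact (isNPC_Q_of_nQuasiIso hsum hE g h1 h2).of_iso ((asIso (Q.map s)).symm ≪≫ e)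

/-- Conversely an `n`-pseudo-coherent object receives an `n`-isomorphism from a strictly perfect
complex supported in `[n, b]`. -/
theorem exists_nIso_of_isNPC (hsum : ∀ X Y : C, P X → P Y → P (X ⨯ Y))
    (hqs : IsQuasiStableUnderKernels P) (hql : IsQuasiLiftable P) {n : ℤ}
    {F : DerivedCategory C} (hF : IsNPC P n F) :
    ∃ (E : CochainComplex C ℤ) (b : ℤ) (α : Q.obj E ⟶ F),
      (∀ i : ℤ, i < n ∨ b < i → IsZero (E.X i)) ∧ (∀ i : ℤ, P (E.X i)) ∧
      (∀ i : ℤ, n < i → IsIso ((DerivedCategory.homologyFunctor C i).map α)) ∧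
      Epi ((DerivedCategory.homologyFunctor C n).map α) := by
  obtain ⟨E₀, ⟨⟨b, hb⟩, hP⟩, ⟨e⟩⟩ := hF
  have hE : ∀ i : ℤ, b < i → E₀.ExactAt i := fun i hi => by
    rw [exactAt_iff_isZero_homology]
    exact ShortComplex.isZero_homology_of_isZero_X₂ _ (hb i hi)
  obtain ⟨G, g, hGP, hz, hiso, hepi⟩ := exists_nQuasiIso_of_oracle P hsum hql E₀ n b hE
    (fun k hk G g hP' hz hiso hepi => by
      have := isOfFiniteType_homology_cone_of_quasiIso hsum hqs g (𝟙 E₀) k b
        (fun i hi => hP i (by lia)) hb hP' (fun i hi => hz i (Or.inr hi))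
      exact this hiso hepi)
  refine ⟨G, b, Q.map g ≫ e.hom, hz, hGP, fun i hi => ?_, ?_⟩
  · rw [Functor.map_comp]
    have := (isIso_homologyFunctor_map_Q_iff g i).2 (hiso i hi)
    infer_instance
  · rw [Functor.map_comp]
    have := (epi_homologyFunctor_map_Q_iff g n).2 hepi
    infer_instance

end Criterion

end Groth.Agent.Lib.Helper13.PC
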