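import Groth.Agent.Lib.Helper13.PCBase1
import Groth.Agent.Lib.Helper13.DRingDescent3

set_option autoImplicit false
universe u
open CategoryTheory CategoryTheory.Limits TensorProduct

namespace Groth.Agent.Lib.Helper13.PM

open Groth.Agent.Lib.Helper13.DR Groth.Agent.Lib.Helper13.PC Groth.Agent.Lib.Helper13.BS
open DerivedCategory

attribute [local instance] HasDerivedCategory.standard

section Pushout

variable (R A R' A' : Type u) [CommRing R] [CommRing A] [Algebra R A] [CommRing R'] [Algebra R R']
  [CommRing A'] [Algebra R A'] [Algebra A A'] [Algebra R' A'] [IsScalarTower R A A']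
  [IsScalarTower R R' A'] [Algebra.IsPushout R R' A A']

/-- Faithfully flat descent of pseudo-coherence of the module `A` along a pushout square. -/
theorem isPCHom_of_isPushout_faithfullyFlat [Module.FaithfullyFlat R R']
    (h : IsPCHom (algebraMap R' A')) : IsPCHom (algebraMap R A) := by
  intro n
  let M : ModuleCat.{u} R := (ModuleCat.restrictScalars.{u} (algebraMap R A)).obj (ModuleCat.of A A)
  let K : DRing.Cx R := (HomologicalComplex.single (ModuleCat.{u} R) (ComplexShape.up ℤ) 0).obj M
  let eK : (DerivedCategory.singleFunctor (ModuleCat.{u} R) 0).obj M ≅ Q.obj K :=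
    (DerivedCategory.singleFunctorIsoCompQ (ModuleCat.{u} R) 0).app M
  have e2 : (ModuleCat.extendScalars.{u, u, u} (algebraMap R R')).obj M ≅
      (ModuleCat.restrictScalars.{u} (algebraMap R' A')).obj (ModuleCat.of A' A') :=
    pbcIso R A R' A' (ModuleCat.of A A) ≪≫
      (ModuleCat.restrictScalars.{u} (algebraMap R' A')).mapIso (extendSelfIso A A')
  have key := isNPC_of_jointlyFaithful (jointlyFaithful_of_faithfullyFlat R R')
    (jointlyDetectsFinite_of_faithfullyFlat R R') K n (fun _ => by
      refine IsNPC.of_iso (h n) ?_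
      exact (DerivedCategory.singleFunctor (ModuleCat.{u} R') 0).mapIso e2.symm ≪≫
        (((ModuleCat.extendScalars.{u, u, u} (algebraMap R R')).mapDerivedCategorySingleFunctor
          0).app M).symm ≪≫ (flatBC R R').mapIso eK ≪≫ flatBCQIso R R' K)
  exact key.of_iso eK.symm

end Pushout

section

attribute [local instance] MvPolynomial.algebraMvPolynomial

variable (A B A' B' : Type u) [CommRing A] [CommRing B] [CommRing A'] [CommRing B'] [Algebra A B]
  [Algebra A A'] [Algebra A B'] [Algebra B B'] [Algebra A' B'] [IsScalarTower A B B']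
  [IsScalarTower A A' B'] [Algebra.IsPushout A A' B B']

/-- Base change of a presentation along a pushout square, with the transfer of pseudo-coherence
in both directions. -/
theorem exists_presentation_pushout {n : ℕ} (φ : MvPolynomial (Fin n) A →ₐ[A] B)
    (hφ : Function.Surjective φ) :
    ∃ φ' : MvPolynomial (Fin n) A' →ₐ[A'] B', Function.Surjective φ' ∧
      (Module.Flat A A' → IsPCHom (φ : MvPolynomial (Fin n) A →+* B) →
        IsPCHom (φ' : MvPolynomial (Fin n) A' →+* B')) ∧
      (Module.FaithfullyFlat A A' → IsPCHom (φ' : MvPolynomial (Fin n) A' →+* B') →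
        IsPCHom (φ : MvPolynomial (Fin n) A →+* B)) := by
  let φ' : MvPolynomial (Fin n) A' →ₐ[A'] B' :=
    MvPolynomial.aeval (fun i => algebraMap B B' (φ (MvPolynomial.X i)))
  letI : Algebra (MvPolynomial (Fin n) A) B := (φ : MvPolynomial (Fin n) A →+* B).toAlgebra
  letI : Algebra (MvPolynomial (Fin n) A') B' := (φ' : MvPolynomial (Fin n) A' →+* B').toAlgebra
  letI : Algebra (MvPolynomial (Fin n) A) B' :=
    ((algebraMap B B').comp (φ : MvPolynomial (Fin n) A →+* B)).toAlgebra
  haveI : IsScalarTower A (MvPolynomial (Fin n) A) B :=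
    IsScalarTower.of_algebraMap_eq (fun a => (φ.commutes a).symm)
  haveI : IsScalarTower A' (MvPolynomial (Fin n) A') B' :=
    IsScalarTower.of_algebraMap_eq (fun a => (φ'.commutes a).symm)
  haveI : IsScalarTower (MvPolynomial (Fin n) A) B B' :=
    IsScalarTower.of_algebraMap_eq (fun x => rfl)
  have hcomp : ((φ' : MvPolynomial (Fin n) A' →+* B').comp
      (MvPolynomial.map (algebraMap A A'))) =
      (algebraMap B B').comp (φ : MvPolynomial (Fin n) A →+* B) := by
    apply MvPolynomial.ringHom_ext
    · intro a
      simp only [RingHom.comp_apply, MvPolynomial.map_C]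
      change φ' (MvPolynomial.C (algebraMap A A' a)) = algebraMap B B' (φ (MvPolynomial.C a))
      rw [← MvPolynomial.algebraMap_eq, ← MvPolynomial.algebraMap_eq, φ'.commutes, φ.commutes,
        ← IsScalarTower.algebraMap_apply, ← IsScalarTower.algebraMap_apply]
    · intro i
      simp only [RingHom.comp_apply, MvPolynomial.map_X]
      change φ' (MvPolynomial.X i) = _
      simp [φ']
  haveI : IsScalarTower (MvPolynomial (Fin n) A) (MvPolynomial (Fin n) A') B' :=
    IsScalarTower.of_algebraMap_eq (fun x => (RingHom.congr_fun hcomp x).symm)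
  haveI : IsScalarTower A (MvPolynomial (Fin n) A) B' :=
    IsScalarTower.of_algebraMap_eq (fun a => by
      change algebraMap A B' a = algebraMap B B' (φ (algebraMap A _ a))
      rw [φ.commutes, ← IsScalarTower.algebraMap_apply])
  haveI : IsScalarTower A (MvPolynomial (Fin n) A') B' :=
    IsScalarTower.of_algebraMap_eq (fun a => by
      rw [IsScalarTower.algebraMap_apply A A' (MvPolynomial (Fin n) A'),
        ← IsScalarTower.algebraMap_apply A' (MvPolynomial (Fin n) A') B',
        ← IsScalarTower.algebraMap_apply A A' B'])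
  have hAB : Algebra.IsPushout A B A' B' := Algebra.IsPushout.symm inferInstance
  have hpush : Algebra.IsPushout (MvPolynomial (Fin n) A) B (MvPolynomial (Fin n) A') B' :=
    (Algebra.IsPushout.comp_iff (R := A) (S := MvPolynomial (Fin n) A) (T := B) (R' := A')
      (S' := MvPolynomial (Fin n) A') (T' := B')).1 hAB
  haveI : Algebra.IsPushout (MvPolynomial (Fin n) A) (MvPolynomial (Fin n) A') B B' := hpush.symm
  have hbc : IsBaseChange (MvPolynomial (Fin n) A)
      (IsScalarTower.toAlgHom A A' (MvPolynomial (Fin n) A')).toLinearMap :=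
    Algebra.IsPushout.out (R := A) (S := MvPolynomial (Fin n) A) (R' := A')
      (S' := MvPolynomial (Fin n) A')
  refine ⟨φ', ?_, ?_, ?_⟩
  · -- surjectivity
    intro z
    have hz : z ∈ (φ'.range : Subalgebra A' B') := by
      refine (Algebra.IsPushout.out (R := A) (S := A') (R' := B) (S' := B')).inductionOn z
        (fun z => z ∈ (φ'.range : Subalgebra A' B')) (zero_mem _) ?_ ?_ ?_
      · intro b
        obtain ⟨p, rfl⟩ := hφ b
        exact ⟨MvPolynomial.map (algebraMap A A') p, RingHom.congr_fun hcomp p⟩
      · intro a' y hy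
        exact Subalgebra.smul_mem _ hy a'
      · intro y₁ y₂ h₁ h₂
        exact add_mem h₁ h₂
    exact hz
  · intro hfl hpc
    haveI : Module.Flat (MvPolynomial (Fin n) A) (MvPolynomial (Fin n) A') :=
      Module.Flat.isBaseChange (R := A) (S := MvPolynomial (Fin n) A) (M := A')
        (MvPolynomial (Fin n) A') hbc
    exact isPCHom_of_isPushout_flat (MvPolynomial (Fin n) A) B (MvPolynomial (Fin n) A') B' hpc
  · intro hfl hpc
    haveI : Module.FaithfullyFlat (MvPolynomial (Fin n) A) (MvPolynomial (Fin n) A') :=
      Module.FaithfullyFlat.of_linearEquiv (MvPolynomial (Fin n) A)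
        (MvPolynomial (Fin n) A ⊗[A] A') hbc.equiv.symm
    exact isPCHom_of_isPushout_faithfullyFlat (MvPolynomial (Fin n) A) B (MvPolynomial (Fin n) A')
      B' hpc

end

end Groth.Agent.Lib.Helper13.PM
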