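import Groth.Agent.Lib.Helper13.PCDesc1
import Groth.Agent.Lib.Helper13.FlatBC2
import Mathlib.RingTheory.Finiteness.Descent
import Mathlib.AlgebraicGeometry.Morphisms.FlatDescent

set_option autoImplicit false
universe u
open CategoryTheory CategoryTheory.Limits TensorProduct AlgebraicGeometry

namespace Groth.Agent.Lib.Helper13.PM

open Groth.Agent.Lib.Helper13.DR Groth.Agent.Lib.Helper13.PC Groth.Agent.Lib.Helper13.BS
  Groth.Agent.Lib.Helper13.PS
open DerivedCategory

attribute [local instance] HasDerivedCategory.standard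

section Ring

variable (A B A' B' : Type u) [CommRing A] [CommRing B] [CommRing A'] [CommRing B'] [Algebra A B]
  [Algebra A A'] [Algebra A B'] [Algebra B B'] [Algebra A' B'] [IsScalarTower A B B']
  [IsScalarTower A A' B'] [Algebra.IsPushout A A' B B'] [Module.FaithfullyFlat A A']

theorem isPseudoCoherentHom_of_isPushout_faithfullyFlat (h : MoreMor.IsPseudoCoherentHom A' B') :
    MoreMor.IsPseudoCoherentHom A B := by
  have hfp' : Algebra.FinitePresentation A' B' := finitePresentation_of_isPseudoCoherentHom A' B' h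
  have hft' : Algebra.FiniteType A' B' := inferInstance
  have hAB : Algebra.IsPushout A B A' B' := Algebra.IsPushout.symm inferInstance
  have hft : Algebra.FiniteType A B := by
    have := RingHom.FiniteType.codescendsAlong_faithfullyFlat (R := A) (S := B) (R' := A')
      (S' := B') (RingHom.faithfullyFlat_algebraMap_iff.2 inferInstance)
      (RingHom.finiteType_algebraMap.2 hft')
    exact RingHom.finiteType_algebraMap.1 this
  obtain ⟨n, φ, hφ⟩ := exists_presentation A B
  obtain ⟨φ', hφ', -, hdesc⟩ := exists_presentation_pushout A B A' B' φ hφ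
  have hA := (isPseudoCoherentHom_iff_relPC A' B').1 h
  have h1 := isPCHom_of_isRelPseudoCoherentModuleAll φ' hφ' hA
  exact (isPseudoCoherentHom_iff_exists_isPCHom A B).2 ⟨n, φ, hφ, hdesc inferInstance h1⟩

theorem hasFiniteTorDim_of_isPushout_faithfullyFlat (h : DRing.HasFiniteTorDim A' B') :
    DRing.HasFiniteTorDim A B := by
  obtain ⟨a, b, hab⟩ := (hasFiniteTorDim_iff A' B').1 h
  rw [hasFiniteTorDim_iff]
  let M : ModuleCat.{u} A := ModuleCat.of A B
  let K : DRing.Cx A := (HomologicalComplex.single (ModuleCat.{u} A) (ComplexShape.up ℤ) 0).obj M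
  let eK : Dual.inD A B ≅ Q.obj K :=
    (DerivedCategory.singleFunctorIsoCompQ (ModuleCat.{u} A) 0).app M
  have e : (ModuleCat.extendScalars.{u, u, u} (algebraMap A A')).obj (ModuleCat.of A B) ≅
      ModuleCat.of A' B' :=
    (ModuleCat.extendScalars.{u, u, u} (algebraMap A A')).mapIso (algebraRestrictIso A B) ≪≫
      pbcIso A B A' B' (ModuleCat.of B B) ≪≫
      (ModuleCat.restrictScalars.{u} (algebraMap A' B')).mapIso (extendSelfIso B B') ≪≫
      (algebraRestrictIso A' B').symm
  have key := hasTorAmplitudeIn_of_jointlyFaithful (jointlyFaithful_of_faithfullyFlat A A') K a b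
    (fun _ => by
      refine hasTorAmplitudeIn_of_iso ?_ hab
      exact (DerivedCategory.singleFunctor (ModuleCat.{u} A') 0).mapIso e.symm ≪≫
        (((ModuleCat.extendScalars.{u, u, u} (algebraMap A A')).mapDerivedCategorySingleFunctor
          0).app M).symm ≪≫ (flatBC A A').mapIso eK ≪≫ flatBCQIso A A' K)
  exact ⟨a, b, hasTorAmplitudeIn_of_iso eK.symm key⟩

end Ring

lemma qpc_codescendsAlong_faithfullyFlat : RingHom.CodescendsAlong QPC RingHom.FaithfullyFlat := by
  intro R S R' S' _ _ _ _ _ _ _ _ _ _ _ hpush hff h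
  rw [qpc_algebraMap_iff] at h ⊢
  haveI : Module.FaithfullyFlat R R' := RingHom.faithfullyFlat_algebraMap_iff.1 hff
  haveI : Algebra.IsPushout R R' S S' := hpush.symm
  exact isPseudoCoherentHom_of_isPushout_faithfullyFlat R S R' S' h

lemma qftd_codescendsAlong_faithfullyFlat : RingHom.CodescendsAlong QFTD RingHom.FaithfullyFlat := by
  intro R S R' S' _ _ _ _ _ _ _ _ _ _ _ hpush hff h
  rw [qftd_algebraMap_iff] at h ⊢
  haveI : Module.FaithfullyFlat R R' := RingHom.faithfullyFlat_algebraMap_iff.1 hff
  haveI : Algebra.IsPushout R R' S S' := hpush.symm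
  exact hasFiniteTorDim_of_isPushout_faithfullyFlat R S R' S' h

lemma qperf_codescendsAlong_faithfullyFlat :
    RingHom.CodescendsAlong QPerf RingHom.FaithfullyFlat := by
  intro R S R' S' _ _ _ _ _ _ _ _ _ _ _ hpush hff h
  exact ⟨qpc_codescendsAlong_faithfullyFlat hff h.1, qftd_codescendsAlong_faithfullyFlat hff h.2⟩

end Groth.Agent.Lib.Helper13.PM
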