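import Groth.Agent.Lib.Helper13.PCDesc2
import Mathlib.AlgebraicGeometry.Morphisms.FlatDescent
import Mathlib.AlgebraicGeometry.Morphisms.Descent

set_option autoImplicit false
universe u
open CategoryTheory CategoryTheory.Limits TensorProduct AlgebraicGeometry MorphismProperty

namespace Groth.Agent.Lib.Helper13.PM

attribute [local instance] HasDerivedCategory.standard

set_option backward.isDefEq.respectTransparency.types false in
theorem descendsAlong_fpqc_of_flatBaseChange
    {Q : ∀ {R S : Type u} [CommRing R] [CommRing S], (R →+* S) → Prop}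
    {P : MorphismProperty Scheme.{u}} [HasRingHomProperty P Q]
    (hQ : StableUnderFlatBaseChange Q)
    (hcod : RingHom.CodescendsAlong Q RingHom.FaithfullyFlat) :
    P.DescendsAlong (@Surjective ⊓ @Flat ⊓ @QuasiCompact) := by
  apply IsZariskiLocalAtTarget.descendsAlong
  intro R X Y f g hf h
  have hflat : Flat f := hf.1.2
  have hsurjf : Surjective f := hf.1.1
  wlog hX : ∃ T, X = Spec T generalizing X
  · have _ : CompactSpace X := by simpa [← quasiCompact_iff_compactSpace f] using hf.2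
    obtain ⟨Y', p, hsurj, hP', hY⟩ := X.exists_hom_isAffine_of_isZariskiLocalAtSource @IsLocalIso
    have hpflat : Flat p := IsLocalIso.le_of_isZariskiLocalAtSource @Flat _ _ _ hP'
    have hcompflat : Flat ((Y'.isoSpec.inv ≫ p) ≫ f) := inferInstance
    have hcompsurj : Surjective ((Y'.isoSpec.inv ≫ p) ≫ f) := inferInstance
    refine this (f := (Y'.isoSpec.inv ≫ p) ≫ f) ⟨⟨hcompsurj, hcompflat⟩, inferInstance⟩ ?_
      hcompflat hcompsurj ⟨_, rfl⟩
    rw [← pullbackRightPullbackFstIso_inv_fst f g _, P.cancel_left_of_respectsIso]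
    exact pullback_fst_of_flat hQ _ _ h
  obtain ⟨T, rfl⟩ := hX
  obtain ⟨φ, rfl⟩ := Spec.map_surjective f
  wlog hY : ∃ S, Y = Spec S generalizing Y
  · rw [IsZariskiLocalAtSource.iff_of_openCover (P := P) Y.affineCover]
    intro i
    have heq : pullback.fst (Spec.map φ) (Y.affineCover.f i ≫ g) =
        pullback.map _ _ _ _ (𝟙 _) (Y.affineCover.f i) (𝟙 _) (by simp) (by simp) ≫
          pullback.fst (Spec.map φ) g := (pullback.lift_fst _ _ _).symm
    exact this _ (heq ▸ AlgebraicGeometry.IsZariskiLocalAtSource.comp h _) ⟨_, rfl⟩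
  obtain ⟨S, rfl⟩ := hY
  refine of_pullback_fst_Spec_of_codescendsAlong (P := P) (P' := @Surjective ⊓ @Flat)
    (Q := Q) (Q' := RingHom.FaithfullyFlat) hcod ?_ ?_ hf.1 h
  · intro R S f ⟨hf₁, hf₂⟩
    rw [RingHom.FaithfullyFlat.iff_flat_and_comap_surjective]
    refine ⟨?_, (Spec.map f).surjective⟩
    rwa [HasRingHomProperty.Spec_iff (P := @Flat)] at hf₂
  · intro R S f
    exact HasRingHomProperty.Spec_iff (P := P)

instance : PCMor.{u}.DescendsAlong (@Surjective ⊓ @Flat ⊓ @QuasiCompact) :=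
  descendsAlong_fpqc_of_flatBaseChange qpc_stableUnderFlatBaseChange
    qpc_codescendsAlong_faithfullyFlat

instance : PerfMor.{u}.DescendsAlong (@Surjective ⊓ @Flat ⊓ @QuasiCompact) :=
  descendsAlong_fpqc_of_flatBaseChange qperf_stableUnderFlatBaseChange
    qperf_codescendsAlong_faithfullyFlat

theorem isPseudoCoherentMor_of_fpqc_baseChange {X S X' S' : Scheme.{u}} (f : X ⟶ S) (f' : X' ⟶ S')
    (g' : X' ⟶ X) (g : S' ⟶ S) [Flat g] [Surjective g] [QuasiCompact g]
    (hc : IsPullback g' f' f g) (hf' : MoreMor.IsPseudoCoherentMor f') :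
    MoreMor.IsPseudoCoherentMor f :=
  MorphismProperty.of_isPullback_of_descendsAlong (P := PCMor.{u})
    (Q := @Surjective ⊓ @Flat ⊓ @QuasiCompact) hc.flip ⟨⟨inferInstance, inferInstance⟩, inferInstance⟩
    hf'

theorem isPerfectMor_of_fpqc_baseChange {X S X' S' : Scheme.{u}} (f : X ⟶ S) (f' : X' ⟶ S')
    (g' : X' ⟶ X) (g : S' ⟶ S) [Flat g] [Surjective g] [QuasiCompact g]
    (hc : IsPullback g' f' f g) (hf' : MoreMor.IsPerfectMor f') :
    MoreMor.IsPerfectMor f :=
  MorphismProperty.of_isPullback_of_descendsAlong (P := PerfMor.{u})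
    (Q := @Surjective ⊓ @Flat ⊓ @QuasiCompact) hc.flip ⟨⟨inferInstance, inferInstance⟩, inferInstance⟩
    hf'

end Groth.Agent.Lib.Helper13.PM
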