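import Groth.Agent.Lib.Helper13.PCPerfect
import Groth.Agent.Lib.Helper13.PCSingle
import Mathlib.Algebra.Homology.DerivedCategory.Linear

set_option autoImplicit false
universe t w v u
open CategoryTheory CategoryTheory.Limits

namespace Groth.Agent.Lib.Helper13.PC

open DerivedCategory

variable {R : Type t} [CommRing R] {C : Type u} [Category.{v} C] [Abelian C] [Linear R C]
  [HasDerivedCategory.{w} C]

section ToSingle

variable (P : CochainComplex C ℤ) (n : ℤ)

/-- The submodule of cocycles `P^n → M` (maps killing the image of `d^{n-1}`). -/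
def cocycleSubmodule (M : C) : Submodule R (P.X n ⟶ M) where
  carrier := {f | P.d (n - 1) n ≫ f = 0}
  add_mem' := fun {f g} hf hg => by
    show P.d (n - 1) n ≫ (f + g) = 0
    rw [Preadditive.comp_add, hf, hg, add_zero]
  zero_mem' := comp_zero
  smul_mem' := fun a f hf => by
    show P.d (n - 1) n ≫ (a • f) = 0
    rw [Linear.comp_smul, hf, smul_zero]

variable {P n}

omit [HasDerivedCategory.{w} C] in
lemma mem_cocycleSubmodule {M : C} (f : P.X n ⟶ M) :
    f ∈ cocycleSubmodule (R := R) P n M ↔ P.d (n - 1) n ≫ f = 0 := Iff.rfl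

/-- The chain map `P → M[-n]` attached to a cocycle. -/
noncomputable def toSingle {M : C} (f : P.X n ⟶ M) (hf : P.d (n - 1) n ≫ f = 0) :
    P ⟶ (HomologicalComplex.single C (ComplexShape.up ℤ) n).obj M :=
  HomologicalComplex.mkHomToSingle f (fun k hk => by
    have : k = n - 1 := by simp at hk; lia
    subst this
    exact hf)

omit [HasDerivedCategory.{w} C] [Linear R C] in
lemma toSingle_f {M : C} (f : P.X n ⟶ M) (hf : P.d (n - 1) n ≫ f = 0) :
    (toSingle f hf).f n = f ≫ (HomologicalComplex.singleObjXSelf (ComplexShape.up ℤ) n M).inv :=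
  HomologicalComplex.mkHomToSingle_f _ _

omit [HasDerivedCategory.{w} C] [Linear R C] in
lemma eq_toSingle {M : C} (g : P ⟶ (HomologicalComplex.single C (ComplexShape.up ℤ) n).obj M) :
    ∃ (f : P.X n ⟶ M) (hf : P.d (n - 1) n ≫ f = 0), g = toSingle f hf := by
  refine ⟨g.f n ≫ (HomologicalComplex.singleObjXSelf (ComplexShape.up ℤ) n M).hom, ?_, ?_⟩
  · rw [← Category.assoc, ← g.comm (n - 1) n]
    have hz : IsZero (((HomologicalComplex.single C (ComplexShape.up ℤ) n).obj M).X (n - 1)) :=
      HomologicalComplex.isZero_single_obj_X _ _ _ _ (by lia)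
    rw [hz.eq_of_tgt (g.f (n - 1)) 0, zero_comp, zero_comp]
  · apply HomologicalComplex.to_single_hom_ext
    rw [toSingle_f, Category.assoc, Iso.hom_inv_id, Category.comp_id]

/-- The class in `D(C)` of a cocycle `P^n → M`. -/
noncomputable def cls {M : C} (f : P.X n ⟶ M) (hf : P.d (n - 1) n ≫ f = 0) :
    Q.obj P ⟶ (DerivedCategory.singleFunctor C n).obj M :=
  Q.map (toSingle f hf) ≫ (singleIsoQ n M).inv

lemma exists_cls_eq [P.IsKProjective] {M : C}
    (e : Q.obj P ⟶ (DerivedCategory.singleFunctor C n).obj M) :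
    ∃ (f : P.X n ⟶ M) (hf : P.d (n - 1) n ≫ f = 0), cls f hf = e := by
  obtain ⟨g, hg⟩ := exists_Q_map_eq (e ≫ (singleIsoQ n M).hom)
  obtain ⟨f, hf, rfl⟩ := eq_toSingle g
  refine ⟨f, hf, ?_⟩
  rw [cls, hg, Category.assoc, Iso.hom_inv_id, Category.comp_id]

omit [Linear R C] in
lemma cls_comp {M M' : C} (f : P.X n ⟶ M) (hf : P.d (n - 1) n ≫ f = 0) (φ : M ⟶ M') :
    cls f hf ≫ (DerivedCategory.singleFunctor C n).map φ =
      cls (f ≫ φ) (by rw [← Category.assoc, hf, zero_comp]) := by
  have h1 : toSingle f hf ≫ (HomologicalComplex.single C (ComplexShape.up ℤ) n).map φ =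
      toSingle (f ≫ φ) (by rw [← Category.assoc, hf, zero_comp]) := by
    apply HomologicalComplex.to_single_hom_ext
    rw [HomologicalComplex.comp_f, toSingle_f, toSingle_f, HomologicalComplex.single_map_f_self]
    simp
  have h2 := (singleFunctorIsoCompQ C n).inv.naturality φ
  dsimp only [cls, singleIsoQ]
  rw [← h1, Q.map_comp, Category.assoc, Category.assoc]
  congr 1
  exact h2.symm

/-- The class map as a linear map on cocycles. -/
noncomputable def clsLin (P : CochainComplex C ℤ) (n : ℤ) (M : C) :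
    cocycleSubmodule (R := R) P n M →ₗ[R] (Q.obj P ⟶ (DerivedCategory.singleFunctor C n).obj M) where
  toFun f := cls f.1 f.2
  map_add' f g := by
    have h1 : toSingle (f.1 + g.1) (f + g).2 = toSingle f.1 f.2 + toSingle g.1 g.2 := by
      apply HomologicalComplex.to_single_hom_ext
      rw [HomologicalComplex.add_f_apply, toSingle_f, toSingle_f, toSingle_f, Preadditive.add_comp]
    show Q.map (toSingle (f.1 + g.1) (f + g).2) ≫ _ = _
    rw [h1, Functor.map_add, Preadditive.add_comp]
    rfl
  map_smul' a f := by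
    have h1 : toSingle (a • f.1) (a • f).2 = a • toSingle f.1 f.2 := by
      apply HomologicalComplex.to_single_hom_ext
      rw [HomologicalComplex.smul_f_apply, toSingle_f, toSingle_f, Linear.smul_comp]
    show Q.map (toSingle (a • f.1) (a • f).2) ≫ _ = _
    rw [h1, Functor.map_smul, Linear.smul_comp]
    rfl

lemma clsLin_apply (P : CochainComplex C ℤ) (n : ℤ) (M : C)
    (f : cocycleSubmodule (R := R) P n M) : clsLin P n M f = cls f.1 f.2 := rfl

lemma clsLin_surjective (P : CochainComplex C ℤ) [P.IsKProjective] (n : ℤ) (M : C) :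
    Function.Surjective (clsLin (R := R) P n M) := by
  intro e
  obtain ⟨f, hf, rfl⟩ := exists_cls_eq e
  exact ⟨⟨f, hf⟩, rfl⟩

end ToSingle

end Groth.Agent.Lib.Helper13.PC
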