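import Groth.Agent.Lib.Helper13.PCTriangle

set_option autoImplicit false
set_option linter.style.haveILetI false

universe w v u

namespace Groth.Agent.Lib.Helper13.PC

open CategoryTheory CategoryTheory.Limits HomologicalComplex CochainComplex PCoh Pretriangulated
  ZeroObject DerivedCategory

variable {C : Type u} [Category.{v} C] [Abelian C] [HasDerivedCategory.{w} C]
variable {P : ObjectProperty C} [P.IsClosedUnderIsomorphisms] [P.ContainsZero]

/-- An object acyclic in degrees `≥ n` is `n`-pseudo-coherent. -/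
lemma isNPC_of_acyclic {n : ℤ} {F : DerivedCategory C}
    (hac : ∀ i : ℤ, n ≤ i → IsZero ((DerivedCategory.homologyFunctor C i).obj F)) :
    IsNPC P n F := by
  have : F.IsLE (n - 1) := by
    rw [DerivedCategory.isLE_iff]
    exact fun i hi => hac i (by lia)
  obtain ⟨K, hK, ⟨e⟩⟩ := F.exists_iso_Q_obj_of_isLE (n - 1)
  exact ⟨K, ⟨⟨n - 1, fun i hi => K.isZero_of_isStrictlyLE (n - 1) i hi⟩,
    fun i hi => P.prop_of_isZero (K.isZero_of_isStrictlyLE (n - 1) i (by lia))⟩, ⟨e.symm⟩⟩

omit [P.ContainsZero] in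
/-- If `F` is `n`-pseudo-coherent and acyclic in degrees `> n` then `H^n(F)` is of finite type. -/
theorem isOfFiniteType_homology_of_isNPC (hqs : IsQuasiStableUnderKernels P) {n : ℤ}
    {F : DerivedCategory C} (hF : IsNPC P n F)
    (hac : ∀ i : ℤ, n < i → IsZero ((DerivedCategory.homologyFunctor C i).obj F)) :
    IsOfFiniteType P ((DerivedCategory.homologyFunctor C n).obj F) := by
  obtain ⟨E, hE, ⟨e⟩⟩ := hF
  have iso : ∀ i : ℤ, E.homology i ≅ (DerivedCategory.homologyFunctor C i).obj F := fun i =>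
    (homologyQIso E i).symm ≪≫ (DerivedCategory.homologyFunctor C i).mapIso e
  exact isOfFiniteType_of_iso P (iso n)
    (isOfFiniteType_homology_of_strictPC hqs n E hE (fun i hi => (hac i hi).of_iso (iso i)))

/-- If `F` is acyclic in degrees `> n` and `H^n(F)` is of finite type then `F` is
`n`-pseudo-coherent. -/
theorem isNPC_of_isOfFiniteType_homology (hsum : ∀ X Y : C, P X → P Y → P (X ⨯ Y))
    (hql : IsQuasiLiftable P) {n : ℤ} {F : DerivedCategory C}
    (hac : ∀ i : ℤ, n < i → IsZero ((DerivedCategory.homologyFunctor C i).obj F))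
    (hft : IsOfFiniteType P ((DerivedCategory.homologyFunctor C n).obj F)) : IsNPC P n F := by
  have : F.IsLE n := by
    rw [DerivedCategory.isLE_iff]
    exact hac
  obtain ⟨K, hK, ⟨e⟩⟩ := F.exists_iso_Q_obj_of_isLE n
  have iso : K.homology n ≅ (DerivedCategory.homologyFunctor C n).obj F :=
    (homologyQIso K n).symm ≪≫ (DerivedCategory.homologyFunctor C n).mapIso e.symm
  obtain ⟨Q₀, π₀, hQ₀, hπ₀⟩ := isOfFiniteType_of_iso P iso.symm hft
  obtain ⟨Q', w, q, hQ', hq, hwq⟩ := exists_lift_of_quasiLiftable hql (K.homologyπ n) π₀ hQ₀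
  have hw : Epi (w ≫ K.homologyπ n) := by rw [hwq]; exact epi_comp _ _
  have hS : IsStrictPC P n ((HomologicalComplex.single C (ComplexShape.up ℤ) n).obj Q') := by
    refine ⟨⟨n, fun i hi => isZero_single_obj_X _ n Q' i (by lia)⟩, fun i hi => ?_⟩
    by_cases h : i = n
    · subst h
      exact (P.prop_iff_of_iso (singleObjXSelf _ i Q')).2 hQ'
    · exact P.prop_of_isZero (isZero_single_obj_X _ n Q' i h)
  refine (isNPC_Q_of_nQuasiIso hsum hS (singleToCycles n w) (fun i hi => ?_)
    (epi_homologyMap_singleToCycles n w hw)).of_iso e.symm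
  have h1 : IsZero (((HomologicalComplex.single C (ComplexShape.up ℤ) n).obj Q').homology i) :=
    ShortComplex.isZero_homology_of_isZero_X₂ _ (isZero_single_obj_X (ComplexShape.up ℤ) n Q' i (by lia))
  have h2 : IsZero (K.homology i) :=
    ShortComplex.isZero_homology_of_isZero_X₂ _ (K.isZero_of_isStrictlyLE n i hi)
  exact ⟨0, h1.eq_of_src _ _, h2.eq_of_src _ _⟩

end Groth.Agent.Lib.Helper13.PC
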