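import Groth.Agent.Lib.Helper13.PCProj

/-!
# Null-homotopies out of acyclic complexes with projective top term; maps in `K(C)` vs `D(C)`
-/

set_option autoImplicit false
universe w v u
open CategoryTheory CategoryTheory.Limits
open PCoh

namespace Groth.Agent.Lib.Helper13.PC

open DerivedCategory HomologicalComplex CochainComplex.HomComplex

variable {C : Type u} [Category.{v} C] [Abelian C]

lemma mono_fromOpcycles_of_isZero_homology (X : CochainComplex C ℤ) (i j : ℤ) (hij : i + 1 = j)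
    (h : IsZero (X.homology i)) : Mono (X.fromOpcycles i j) := by
  refine Preadditive.mono_of_cancel_zero _ (fun {A} g hg => ?_)
  have hl := X.homologyIsKernel i j (by simp [← hij])
  have := KernelFork.IsLimit.lift' hl g hg
  obtain ⟨l, hl'⟩ := this
  rw [← hl']
  dsimp
  rw [h.eq_of_tgt l 0, zero_comp]

set_option backward.defeqAttrib.useBackward true in
set_option backward.isDefEq.respectTransparency false in
lemma exact_fromOpcycles_d (X : CochainComplex C ℤ) (i j k : ℤ) (hij : i + 1 = j) (hjk : j + 1 = k)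
    (h : X.ExactAt j) :
    (ShortComplex.mk (X.fromOpcycles i j) (X.d j k) (by simp)).Exact := by
  rw [X.exactAt_iff' i j k (by simp [← hij]) (by simp [← hjk])] at h
  let φ : X.sc' i j k ⟶ ShortComplex.mk (X.fromOpcycles i j) (X.d j k) (by simp) :=
    { τ₁ := X.pOpcycles i
      τ₂ := 𝟙 _
      τ₃ := 𝟙 _
      comm₁₂ := by dsimp; simp
      comm₂₃ := by dsimp; simp }
  have : Epi φ.τ₁ := by dsimp [φ]; infer_instance
  have : IsIso φ.τ₂ := by dsimp [φ]; infer_instance
  have : Mono φ.τ₃ := by dsimp [φ]; infer_instance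
  exact (ShortComplex.exact_iff_of_epi_of_isIso_of_mono φ).1 h


set_option backward.defeqAttrib.useBackward true in
set_option backward.isDefEq.respectTransparency false in
lemma epi_d_of_exactAt_of_isZero (X : CochainComplex C ℤ) (j k : ℤ) (hjk : j + 1 = k)
    (h : X.ExactAt k) (hz : IsZero (X.X (k + 1))) : Epi (X.d j k) := by
  rw [X.exactAt_iff' j k (k + 1) (by simp [← hjk]) (by simp)] at h
  exact h.epi_f (hz.eq_of_tgt _ _)

/-- Chain maps from an acyclic complex `X` with `X^i = 0` for `i > t` and `X^t` projective to a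
complex `K` with `K^i = 0` for `i ≤ t - 3` are null-homotopic. -/
theorem nonempty_homotopy_zero_of_acyclic (X K : CochainComplex C ℤ) (t2 t1 t : ℤ)
    (h21 : t2 + 1 = t1) (h10 : t1 + 1 = t) (hX : ∀ i : ℤ, X.ExactAt i)
    (hXt : ∀ i : ℤ, t < i → IsZero (X.X i)) (hproj : Projective (X.X t))
    (hK : ∀ i : ℤ, i < t2 → IsZero (K.X i)) (f : X ⟶ K) : Nonempty (Homotopy f 0) := by
  have hepi : Epi (X.d t1 t) := epi_d_of_exactAt_of_isZero X t1 t h10 (hX t) (hXt _ (by lia))
  let s : X.X t ⟶ X.X t1 := Projective.factorThru (𝟙 _) (X.d t1 t)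
  have hs : s ≫ X.d t1 t = 𝟙 _ := Projective.factorThru_comp _ _
  let e : X.X t1 ⟶ X.X t1 := 𝟙 _ - X.d t1 t ≫ s
  have he : e ≫ X.d t1 t = 0 := by
    dsimp only [e]
    rw [Preadditive.sub_comp, Category.id_comp, Category.assoc, hs, Category.comp_id, sub_self]
  have hS := exact_fromOpcycles_d X t2 t1 t h21 h10 (hX t1)
  have hmono : Mono (X.fromOpcycles t2 t1) :=
    mono_fromOpcycles_of_isZero_homology X t2 t1 h21 (hX t2).isZero_homology
  have : Mono (ShortComplex.mk (X.fromOpcycles t2 t1) (X.d t1 t) (by simp)).f := hmono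
  let l : X.X t1 ⟶ X.opcycles t2 := hS.lift e he
  have hl : l ≫ X.fromOpcycles t2 t1 = e := hS.lift_f e he
  have h0 : X.d (t2 - 1) t2 ≫ f.f t2 = 0 := by
    rw [← f.comm, (hK (t2 - 1) (by lia)).eq_of_tgt (f.f (t2 - 1)) 0, zero_comp]
  let φ : X.opcycles t2 ⟶ K.X t2 := X.descOpcycles (f.f t2) (t2 - 1) (by simp) h0
  have hφ : X.pOpcycles t2 ≫ φ = f.f t2 := X.p_descOpcycles _ _ _ _
  have hφd : φ ≫ K.d t2 t1 = X.fromOpcycles t2 t1 ≫ f.f t1 := by
    rw [← cancel_epi (X.pOpcycles t2), reassoc_of% hφ, p_fromOpcycles_assoc, f.comm]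
  have hdl : X.d t2 t1 ≫ l = X.pOpcycles t2 := by
    rw [← cancel_mono (X.fromOpcycles t2 t1), Category.assoc, hl, p_fromOpcycles]
    dsimp only [e]
    rw [Preadditive.comp_sub, Category.comp_id, X.d_comp_d_assoc, zero_comp, sub_zero]
  let ht : X.X t ⟶ K.X t1 := s ≫ f.f t1
  let h1 : X.X t1 ⟶ K.X t2 := l ≫ φ
  refine ⟨(Cochain.equivHomotopy _ _).symm
    ⟨Cochain.single ht (-1) + Cochain.single h1 (-1), ?_⟩⟩
  rw [δ_add, Cochain.δ_single ht (-1) 0 (by simp) t1 t h10 h10,
    Cochain.δ_single h1 (-1) 0 (by simp) t2 t1 h21 h21]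
  ext p
  by_cases hp : t < p
  · exact (hXt p hp).eq_of_src _ _
  by_cases hp2 : p < t2
  · exact (hK p hp2).eq_of_tgt _ _
  simp only [Cochain.add_v, Cochain.ofHom_v, Int.negOnePow_zero, one_smul,
    HomologicalComplex.zero_f, add_zero]
  obtain rfl | rfl | rfl : p = t ∨ p = t1 ∨ p = t2 := by lia
  · have h1' : p ≠ t1 := by lia
    have h2' : p ≠ t2 := by lia
    rw [Cochain.single_v, Cochain.single_v_eq_zero _ _ _ _ _ h1',
      Cochain.single_v_eq_zero _ _ _ _ _ h1', Cochain.single_v_eq_zero _ _ _ _ _ h2']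
    dsimp only [ht]
    rw [add_zero, add_zero, add_zero, Category.assoc, f.comm, reassoc_of% hs]
  · have h1' : p ≠ t := by lia
    have h2' : p ≠ t2 := by lia
    rw [Cochain.single_v_eq_zero _ _ _ _ _ h1', Cochain.single_v, Cochain.single_v,
      Cochain.single_v_eq_zero _ _ _ _ _ h2']
    dsimp only [ht, h1]
    rw [zero_add, add_zero, Category.assoc, hφd, reassoc_of% hl]
    dsimp only [e]
    rw [Preadditive.sub_comp, Category.id_comp, Category.assoc]
    abel
  · have h1' : p ≠ t := by lia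
    have h2' : p ≠ t1 := by lia
    rw [Cochain.single_v_eq_zero _ _ _ _ _ h1', Cochain.single_v_eq_zero _ _ _ _ _ h2',
      Cochain.single_v_eq_zero _ _ _ _ _ h2', Cochain.single_v]
    dsimp only [h1]
    rw [zero_add, zero_add, zero_add, reassoc_of% hdl, hφ]

section KvsD

open CochainComplex Pretriangulated

/-- All maps `qX ⟶ qK` in `K(C)` vanish if all chain maps are null-homotopic. -/
lemma subsingleton_quotient_hom (X K : CochainComplex C ℤ)
    (h : ∀ f : X ⟶ K, Nonempty (Homotopy f 0)) :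
    Subsingleton ((HomotopyCategory.quotient C (ComplexShape.up ℤ)).obj X ⟶
      (HomotopyCategory.quotient C (ComplexShape.up ℤ)).obj K) := by
  have key : ∀ φ : (HomotopyCategory.quotient C (ComplexShape.up ℤ)).obj X ⟶
      (HomotopyCategory.quotient C (ComplexShape.up ℤ)).obj K, φ = 0 := fun φ => by
    obtain ⟨f, rfl⟩ := (HomotopyCategory.quotient _ _).map_surjective φ
    obtain ⟨hh⟩ := h f
    rw [HomotopyCategory.eq_of_homotopy _ _ hh, Functor.map_zero]
  exact ⟨fun φ ψ => by rw [key φ, key ψ]⟩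

/-- In a category with a shift by `ℤ`: if `Hom(X, Y⟦1⟧) = 0` then `Hom(X⟦-1⟧, Y) = 0`. -/
lemma subsingleton_hom_shift_neg_one {D : Type*} [Category D] [Preadditive D] [HasShift D ℤ]
    (X Y : D) (h : Subsingleton (X ⟶ Y⟦(1 : ℤ)⟧)) : Subsingleton (X⟦(-1 : ℤ)⟧ ⟶ Y) := by
  refine ⟨fun φ ψ => ?_⟩
  apply (CategoryTheory.shiftFunctor D (1 : ℤ)).map_injective
  rw [← cancel_epi ((shiftFunctorCompIsoId D (-1 : ℤ) 1 (by simp)).inv.app X)]
  exact h.elim _ _


variable [HasDerivedCategory.{w} C] [EnoughProjectives C]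

set_option backward.defeqAttrib.useBackward true in
set_option backward.isDefEq.respectTransparency false in
/-- S7105 (abstract form): for `M` in degrees `≤ 0` with `M^0` projective and `K` in degrees
`≥ -1`, the map `Hom_{K(C)}(M, K) ⟶ Hom_{D(C)}(M, K)` is bijective. -/
theorem Qh_map_bijective_of_projective_top (M K : CochainComplex C ℤ)
    (hM : ∀ i : ℤ, 0 < i → IsZero (M.X i)) (hM0 : Projective (M.X 0))
    (hK : ∀ i : ℤ, i ≤ -2 → IsZero (K.X i)) :
    Function.Bijective (fun φ : (HomotopyCategory.quotient C (ComplexShape.up ℤ)).obj M ⟶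
      (HomotopyCategory.quotient C (ComplexShape.up ℤ)).obj K => DerivedCategory.Qh.map φ) := by
  have hMh : ∀ i : ℤ, 0 < i → IsZero (M.homology i) := fun i hi =>
    ShortComplex.isZero_homology_of_isZero_X₂ _ (hM i hi)
  have hPC : IsPC (Pproj C) (Q.obj M) := isPC_Pproj_of_bounded _ 0
    (fun i hi => (hMh i hi).of_iso (homologyQIso M i))
  obtain ⟨P, u, hP, hPz, hq⟩ := exists_strictPCAll_quasiIso Pproj_prod hqs_Pproj hql_Pproj M hPC 1
    (fun i hi => hMh i (by lia))
  have : P.IsKProjective :=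
    isKProjective_of_forall_projective P 0 (fun i hi => hPz i (by lia)) hP
  have hCac : ∀ i : ℤ, (mappingCone u).ExactAt i := fun i =>
    exactAt_mappingCone u i (i + 1) rfl inferInstance inferInstance
  have hCz : ∀ i : ℤ, 0 < i → IsZero ((mappingCone u).X i) := fun i hi => by
    refine IsZero.of_iso ?_ (homotopyCofiber.XIsoBiprod u i (i + 1) rfl)
    rw [biprod_isZero_iff]
    exact ⟨hPz _ (by lia), hM i hi⟩
  have hC0 : Projective ((mappingCone u).X 0) :=
    prop_mappingCone_X (Pproj C) Pproj_prod u 0 1 rfl ((hPz 1 le_rfl).projective) hM0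
  have h1 : Subsingleton ((HomotopyCategory.quotient C (ComplexShape.up ℤ)).obj (mappingCone u) ⟶
      (HomotopyCategory.quotient C (ComplexShape.up ℤ)).obj K) :=
    subsingleton_quotient_hom _ _ (fun f => nonempty_homotopy_zero_of_acyclic (mappingCone u) K
      (-2) (-1) 0 rfl rfl hCac hCz hC0 (fun i hi => hK i (by lia)) f)
  have h2' : Subsingleton ((HomotopyCategory.quotient C (ComplexShape.up ℤ)).obj (mappingCone u) ⟶
      (HomotopyCategory.quotient C (ComplexShape.up ℤ)).obj (K⟦(1 : ℤ)⟧)) :=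
    subsingleton_quotient_hom _ _ (fun f => nonempty_homotopy_zero_of_acyclic (mappingCone u)
      (K⟦(1 : ℤ)⟧) (-2) (-1) 0 rfl rfl hCac hCz hC0 (fun i hi => hK (i + 1) (by lia)) f)
  have h2 : Subsingleton ((HomotopyCategory.quotient C (ComplexShape.up ℤ)).obj (mappingCone u) ⟶
      ((HomotopyCategory.quotient C (ComplexShape.up ℤ)).obj K)⟦(1 : ℤ)⟧) := by
    refine ⟨fun φ ψ => ?_⟩
    rw [← cancel_mono (((HomotopyCategory.quotient C (ComplexShape.up ℤ)).commShiftIso
      (1 : ℤ)).inv.app K)]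
    exact h2'.elim _ _
  have h3 := subsingleton_hom_shift_neg_one _ _ h2
  let T := mappingCone.triangleh u
  have hT : T ∈ distTriang _ := HomotopyCategory.mappingCone_triangleh_distinguished u
  -- precomposition with `u` is bijective on maps to `K` in `K(C)`
  have hinj : ∀ g₁ g₂ : T.obj₂ ⟶ (HomotopyCategory.quotient C (ComplexShape.up ℤ)).obj K,
      T.mor₁ ≫ g₁ = T.mor₁ ≫ g₂ → g₁ = g₂ := fun g₁ g₂ h => by
    obtain ⟨c, hc⟩ := Triangle.yoneda_exact₂ T hT (g₁ - g₂)
      (by rw [Preadditive.comp_sub, h, sub_self])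
    rw [h1.elim c 0, comp_zero, sub_eq_zero] at hc
    exact hc
  have hsurj : ∀ g' : T.obj₁ ⟶ (HomotopyCategory.quotient C (ComplexShape.up ℤ)).obj K,
      ∃ g : T.obj₂ ⟶ _, T.mor₁ ≫ g = g' := fun g' => by
    obtain ⟨g, hg⟩ := Triangle.yoneda_exact₂ T.invRotate (inv_rot_of_distTriang T hT) g'
      (h3.elim _ _)
    exact ⟨g, hg.symm⟩
  have hu : IsIso (Qh.map T.mor₁) := by
    rw [isIso_Qh_map_iff]
    exact (HomotopyCategory.quotient_map_mem_quasiIso_iff u).2 hq
  have hbij := CochainComplex.IsKProjective.Qh_map_bijective P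
    ((HomotopyCategory.quotient _ _).obj K)
  constructor
  · intro g₁ g₂ h
    dsimp only at h
    apply hinj
    apply hbij.injective
    rw [Functor.map_comp, Functor.map_comp, h]
  · intro y
    obtain ⟨g', hg'⟩ := hbij.surjective (Qh.map T.mor₁ ≫ y)
    obtain ⟨g, rfl⟩ := hsurj g'
    refine ⟨g, ?_⟩
    dsimp only
    rw [← cancel_epi (Qh.map T.mor₁), ← Functor.map_comp, hg']

end KvsD

section KvsD2

open CochainComplex Pretriangulated

variable [HasDerivedCategory.{w} C] [EnoughProjectives C]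

lemma exists_Q_map_eq_of_projective_top (M K : CochainComplex C ℤ)
    (hM : ∀ i : ℤ, 0 < i → IsZero (M.X i)) (hM0 : Projective (M.X 0))
    (hK : ∀ i : ℤ, i ≤ -2 → IsZero (K.X i)) (φ : Q.obj M ⟶ Q.obj K) :
    ∃ f : M ⟶ K, Q.map f = φ := by
  obtain ⟨g, hg⟩ := (Qh_map_bijective_of_projective_top M K hM hM0 hK).surjective
    ((quotientCompQhIso C).hom.app M ≫ φ ≫ (quotientCompQhIso C).inv.app K)
  obtain ⟨f, rfl⟩ := (HomotopyCategory.quotient _ _).map_surjective g
  refine ⟨f, ?_⟩
  have := quotientCompQhIso_hom_naturality f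
  dsimp only at hg
  rw [hg] at this
  simpa using this.symm

lemma nonempty_homotopy_of_Q_map_eq_of_projective_top (M K : CochainComplex C ℤ)
    (hM : ∀ i : ℤ, 0 < i → IsZero (M.X i)) (hM0 : Projective (M.X 0))
    (hK : ∀ i : ℤ, i ≤ -2 → IsZero (K.X i)) (f g : M ⟶ K) (h : Q.map f = Q.map g) :
    Nonempty (Homotopy f g) := by
  have h' : Qh.map ((HomotopyCategory.quotient _ _).map f) =
      Qh.map ((HomotopyCategory.quotient _ _).map g) := by
    have h1 := quotientCompQhIso_hom_naturality f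
    have h2 := quotientCompQhIso_hom_naturality g
    rw [h, ← h2] at h1
    exact (cancel_mono _).1 h1
  have := (Qh_map_bijective_of_projective_top M K hM hM0 hK).injective h'
  exact ⟨HomotopyCategory.homotopyOfEq _ _ this⟩


/-- S7106 (abstract form). -/
theorem comp_eq_zero_iff_exists_homotopy_degree_zero (M K : CochainComplex C ℤ)
    (hM : ∀ i : ℤ, 0 < i → IsZero (M.X i)) (hM0 : Projective (M.X 0))
    (hK : ∀ i : ℤ, i ≠ -1 → i ≠ 0 → IsZero (K.X i)) (hK0 : Projective (K.X 0)) (a : M ⟶ K) :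
    (∀ (N : C) (ξ : Q.obj K ⟶ (DerivedCategory.singleFunctor C (-1)).obj N), Q.map a ≫ ξ = 0) ↔
      ∃ h : M.X 0 ⟶ K.X (-1), a.f (-1) + M.d (-1) 0 ≫ h = 0 := by
  have hS : ∀ (N : C) (i : ℤ), i ≤ -2 →
      IsZero (((HomologicalComplex.single C (ComplexShape.up ℤ) (-1)).obj N).X i) :=
    fun N i hi => isZero_single_obj_X _ _ _ _ (by lia)
  constructor
  · intro H
    let N := K.X (-1)
    let ξ' : K ⟶ (HomologicalComplex.single C (ComplexShape.up ℤ) (-1)).obj N :=
      mkHomToSingle (𝟙 _) (fun i hi => (hK i (by simp at hi; lia) (by simp at hi; lia)).eq_of_src _ _)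
    have h1 : Q.map (a ≫ ξ') = Q.map 0 := by
      have := H N (Q.map ξ' ≫ (singleIsoQ (-1) N).inv)
      rw [← Category.assoc, ← Functor.map_comp] at this
      rw [← cancel_mono (singleIsoQ (-1) N).inv, this, Functor.map_zero, zero_comp]
    obtain ⟨hh⟩ := nonempty_homotopy_of_Q_map_eq_of_projective_top M _ hM hM0 (hS N) _ _ h1
    refine ⟨-(hh.hom 0 (-1) ≫ (singleObjXSelf (ComplexShape.up ℤ) (-1) N).hom), ?_⟩
    have h2 := hh.comm (-1)
    rw [dNext_eq hh.hom (show (ComplexShape.up ℤ).Rel (-1) 0 by simp),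
      prevD_eq hh.hom (show (ComplexShape.up ℤ).Rel (-2) (-1) by simp), single_obj_d, comp_zero,
      HomologicalComplex.zero_f, add_zero, add_zero, HomologicalComplex.comp_f,
      mkHomToSingle_f, Category.id_comp] at h2
    rw [Preadditive.comp_neg, ← Category.assoc, ← h2]
    simp
  · rintro ⟨h, hh⟩ N ξ
    obtain ⟨ξ', hξ'⟩ := exists_Q_map_eq_of_projective_top K _
      (fun i hi => hK i (by lia) (by lia)) hK0 (hS N) (ξ ≫ (singleIsoQ (-1) N).hom)
    let k' : M.X 0 ⟶ ((HomologicalComplex.single C (ComplexShape.up ℤ) (-1)).obj N).X (-1) :=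
      -(h ≫ ξ'.f (-1))
    have hhom : Nonempty (Homotopy (a ≫ ξ') 0) := by
      refine ⟨(Cochain.equivHomotopy _ _).symm ⟨Cochain.single k' (-1), ?_⟩⟩
      rw [Cochain.δ_single k' (-1) 0 (by simp) (-1) 0 (by simp) (by simp)]
      ext p
      by_cases hp : p = -1
      · subst hp
        have h0 : (-1 : ℤ) ≠ 0 := by lia
        simp only [Cochain.add_v, Cochain.ofHom_v, Int.negOnePow_zero, one_smul,
          HomologicalComplex.zero_f, add_zero, HomologicalComplex.comp_f]
        rw [Cochain.single_v_eq_zero _ _ _ _ _ h0, Cochain.single_v, zero_add]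
        dsimp only [k']
        rw [Preadditive.comp_neg, ← Category.assoc, ← Preadditive.neg_comp,
          ← eq_neg_of_add_eq_zero_left hh]
      · exact (isZero_single_obj_X (ComplexShape.up ℤ) (-1) N p hp).eq_of_tgt _ _
    obtain ⟨hh'⟩ := hhom
    rw [← cancel_mono (singleIsoQ (-1) N).hom, Category.assoc, ← hξ', ← Functor.map_comp,
      DerivedCategory.Q_map_eq_of_homotopy (h := hh'), Functor.map_zero, zero_comp]

end KvsD2

end Groth.Agent.Lib.Helper13.PC
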