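import Groth.Agent.Lib.Helper13.RelPCLoc2

set_option autoImplicit false
universe u
open CategoryTheory CategoryTheory.Limits
open PCoh

namespace Groth.Agent.Lib.Helper13.DR

open Groth.Agent.Lib.Helper13.PC Groth.Agent.Lib.Helper13.BS
open DerivedCategory

attribute [local instance] HasDerivedCategory.standard

section

variable {R : Type u} [CommRing R] {n : ℕ}

/-- The presentation `R[y, x_1, …, x_n] → S`, `y ↦ 1/F`, for any localization `S` of `R[x]`
away from `F`. -/
noncomputable def awayPresG (F : MvPolynomial (Fin n) R) (S : Type u) [CommRing S]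
    [Algebra (MvPolynomial (Fin n) R) S] [Algebra R S] [IsScalarTower R (MvPolynomial (Fin n) R) S]
    [IsLocalization.Away F S] :
    MvPolynomial (Fin (n + 1)) R →ₐ[R] S :=
  ((Polynomial.aeval (IsLocalization.Away.invSelf (S := S) F)).restrictScalars
    R).comp (MvPolynomial.finSuccEquiv R n).toAlgHom

lemma isPCHom_awayPresG (F : MvPolynomial (Fin n) R) (S : Type u) [CommRing S]
    [Algebra (MvPolynomial (Fin n) R) S] [Algebra R S] [IsScalarTower R (MvPolynomial (Fin n) R) S]
    [IsLocalization.Away F S] :
    IsPCHom (awayPresG F S : MvPolynomial (Fin (n + 1)) R →+* S) := by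
  have h1 := isPCHom_of_ringEquiv (MvPolynomial.finSuccEquiv R n).toRingEquiv
  have h2 := isPCHom_awayInv (MvPolynomial (Fin n) R) F S
  refine (h1.comp h2).of_eq ?_
  refine RingHom.ext (fun x => ?_)
  rfl

lemma awayPresG_surjective (F : MvPolynomial (Fin n) R) (S : Type u) [CommRing S]
    [Algebra (MvPolynomial (Fin n) R) S] [Algebra R S] [IsScalarTower R (MvPolynomial (Fin n) R) S]
    [IsLocalization.Away F S] : Function.Surjective (awayPresG F S) := by
  intro z
  obtain ⟨k, a, hz⟩ := IsLocalization.Away.surj F z
  refine ⟨(MvPolynomial.finSuccEquiv R n).symm (Polynomial.C a * Polynomial.X ^ k), ?_⟩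
  change Polynomial.aeval _ ((MvPolynomial.finSuccEquiv R n)
    ((MvPolynomial.finSuccEquiv R n).symm (Polynomial.C a * Polynomial.X ^ k))) = z
  rw [AlgEquiv.apply_symm_apply, map_mul, map_pow, Polynomial.aeval_C, Polynomial.aeval_X, ← hz,
    mul_assoc, ← mul_pow, IsLocalization.Away.mul_invSelf, one_pow, mul_one]

end

section BaseAway

attribute [local instance] MvPolynomial.algebraMvPolynomial

/-- Relative pseudo-coherence over a principal localization `R_f` of the base implies relative
pseudo-coherence over `R`. -/
theorem isRelPC_of_isRelPC_awayBase {R B : Type u} [CommRing R] [CommRing B] (f : R)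
    [Algebra R B] [Algebra (Localization.Away f) B] [IsScalarTower R (Localization.Away f) B]
    (m : ℤ) (L : Dual.D B) (h : DerCA.IsRelPseudoCoherent (Localization.Away f) B m L) :
    DerCA.IsRelPseudoCoherent R B m L := by
  obtain ⟨n, α, hα, h'⟩ := h
  rw [DerCA.IsRelPseudoCoherentVia, isPseudoCoherent_iff] at h'
  have : IsScalarTower R (MvPolynomial (Fin n) R) (MvPolynomial (Fin n) (Localization.Away f)) :=
    IsScalarTower.of_algebraMap_eq (fun x => by
      change _ = MvPolynomial.map _ (algebraMap R (MvPolynomial (Fin n) R) x)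
      rw [MvPolynomial.algebraMap_eq, MvPolynomial.map_C]
      rfl)
  have : IsLocalization.Away (MvPolynomial.C f : MvPolynomial (Fin n) R)
      (MvPolynomial (Fin n) (Localization.Away f)) := by
    have h1 : IsLocalization ((Submonoid.powers f).map (MvPolynomial.C (σ := Fin n)))
        (MvPolynomial (Fin n) (Localization.Away f)) := inferInstance
    rw [Submonoid.map_powers] at h1
    exact h1
  let δ := awayPresG (R := R) (MvPolynomial.C f : MvPolynomial (Fin n) R)
    (MvPolynomial (Fin n) (Localization.Away f))
  have hδ : Function.Surjective δ := awayPresG_surjective _ _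
  refine ⟨n + 1, (α.restrictScalars R).comp δ, hα.comp hδ, ?_⟩
  rw [DerCA.IsRelPseudoCoherentVia, isPseudoCoherent_iff]
  obtain ⟨e⟩ := nonempty_restrictD_comp
    (δ : MvPolynomial (Fin (n + 1)) R →+* MvPolynomial (Fin n) (Localization.Away f))
    (α : MvPolynomial (Fin n) (Localization.Away f) →+* B) L
  exact ((isNPC_restrictD_iff (isPCHom_awayPresG _ _) m _).1 h').of_iso e

end BaseAway

end Groth.Agent.Lib.Helper13.DR
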