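import Groth.Agent.Lib.Helper13.RelFP1
import Groth.Agent.Lib.Helper13.RelPCLoc3
import Groth.Agent.Lib.Helper13.DRingPCHom
import Mathlib.RingTheory.RingHom.FiniteType
import Mathlib.RingTheory.LocalProperties.Basic

set_option autoImplicit false
universe u
open CategoryTheory CategoryTheory.Limits TensorProduct
open PCoh

namespace Groth.Agent.Lib.Helper13.PM

open Groth.Agent.Lib.Helper13.DR Groth.Agent.Lib.Helper13.PC Groth.Agent.Lib.Helper13.BS
open DerivedCategory

attribute [local instance] HasDerivedCategory.standard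

section Bridge

variable (A B : Type u) [CommRing A] [CommRing B] [Algebra A B]

theorem isPseudoCoherentHom_iff_exists_isPCHom :
    MoreMor.IsPseudoCoherentHom A B ↔
      ∃ (n : ℕ) (φ : MvPolynomial (Fin n) A →ₐ[A] B), Function.Surjective φ ∧
        IsPCHom (φ : MvPolynomial (Fin n) A →+* B) := by
  constructor
  · rintro ⟨n, φ, hφ, hpc⟩
    refine ⟨n, φ, hφ, ?_⟩
    letI := φ.toRingHom.toAlgebra
    exact isPC_resSingle_self_of_algebra (MvPolynomial (Fin n) A) B hpc
  · rintro ⟨n, φ, hφ, h⟩
    refine ⟨n, φ, hφ, ?_⟩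
    letI := φ.toRingHom.toAlgebra
    exact (isPseudoCoherent'_iff _).2 (isPC_of_iso h
      ((DerivedCategory.singleFunctor (ModuleCat.{u} (MvPolynomial (Fin n) A)) 0).mapIso
        (algebraRestrictIso (MvPolynomial (Fin n) A) B).symm))

theorem isPseudoCoherentHom_iff_relPC :
    MoreMor.IsPseudoCoherentHom A B ↔ DerCA.IsRelPseudoCoherentModuleAll A B B := by
  rw [isPseudoCoherentHom_iff_exists_isPCHom]
  constructor
  · rintro ⟨n, φ, hφ, h⟩ m
    rw [isRelPseudoCoherent_iff φ hφ m]
    exact IsNPC.of_iso (h m)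
      (restrictDSingleIso (φ : MvPolynomial (Fin n) A →+* B) (ModuleCat.of B B)).symm
  · intro hA
    obtain ⟨n, φ, hφ, -⟩ := id (hA 0)
    exact ⟨n, φ, hφ, isPCHom_of_isRelPseudoCoherentModuleAll φ hφ hA⟩

lemma isPseudoCoherentHom_of_bijective (h : Function.Bijective (algebraMap A B)) :
    MoreMor.IsPseudoCoherentHom A B := by
  rw [isPseudoCoherentHom_iff_exists_isPCHom]
  let e0 : MvPolynomial (Fin 0) A ≃ₐ[A] A := MvPolynomial.isEmptyAlgEquiv A (Fin 0)
  let e1 : A ≃ₐ[A] B := AlgEquiv.ofBijective (Algebra.ofId A B) h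
  let e := e0.trans e1
  exact ⟨0, e.toAlgHom, e.surjective, (isPCHom_of_ringEquiv e.toRingEquiv).of_eq rfl⟩

end Bridge

section Trans

variable (R A B : Type u) [CommRing R] [CommRing A] [CommRing B] [Algebra R A] [Algebra A B]
  [Algebra R B] [IsScalarTower R A B]

theorem isPseudoCoherentHom_trans (h1 : MoreMor.IsPseudoCoherentHom R A)
    (h2 : MoreMor.IsPseudoCoherentHom A B) : MoreMor.IsPseudoCoherentHom R B := by
  have : Algebra.FinitePresentation R A := finitePresentation_of_isPseudoCoherentHom R A h1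
  have : Algebra.FinitePresentation A B := finitePresentation_of_isPseudoCoherentHom A B h2
  have : Algebra.FiniteType R A := inferInstance
  have : Algebra.FiniteType A B := inferInstance
  rw [isPseudoCoherentHom_iff_relPC] at h1 h2 ⊢
  intro m
  exact (isRelPC_iff_of_isRelPCModule h1 _ m).1 (h2 m)

theorem isPseudoCoherentHom_of_trans (h1 : MoreMor.IsPseudoCoherentHom R A)
    (h3 : MoreMor.IsPseudoCoherentHom R B) : MoreMor.IsPseudoCoherentHom A B := by
  have : Algebra.FinitePresentation R A := finitePresentation_of_isPseudoCoherentHom R A h1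
  have : Algebra.FinitePresentation R B := finitePresentation_of_isPseudoCoherentHom R B h3
  have : Algebra.FiniteType R A := inferInstance
  have : Algebra.FiniteType R B := inferInstance
  have : Algebra.FiniteType A B := Algebra.FiniteType.of_restrictScalars_finiteType R A B
  rw [isPseudoCoherentHom_iff_relPC] at h1 h3 ⊢
  intro m
  exact (isRelPC_iff_of_isRelPCModule h1 _ m).2 (h3 m)

end Trans

section Away

variable (A B : Type u) [CommRing A] [CommRing B] [Algebra A B]

/-- `B_g ⊗_B B ≅ B_g` in `D(B_g)`. -/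
noncomputable def awaySelfIso (g : B) :
    Q.obj ((extendCx B (Localization.Away g)).obj
      ((HomologicalComplex.single (ModuleCat.{u} B) (ComplexShape.up ℤ) 0).obj (ModuleCat.of B B))) ≅
      Dual.inD (Localization.Away g) (Localization.Away g) :=
  (flatBCQIso B (Localization.Away g) _).symm ≪≫
    (flatBC B (Localization.Away g)).mapIso
      ((DerivedCategory.singleFunctorIsoCompQ (ModuleCat.{u} B) 0).app (ModuleCat.of B B)).symm ≪≫
    ((ModuleCat.extendScalars.{u, u, u} (algebraMap B (Localization.Away g))).mapDerivedCategorySingleFunctor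
      0).app (ModuleCat.of B B) ≪≫
    (DerivedCategory.singleFunctor (ModuleCat.{u} (Localization.Away g)) 0).mapIso
      (extendSelfIso B (Localization.Away g))

theorem isPseudoCoherentHom_away (g : B) (h : MoreMor.IsPseudoCoherentHom A B) :
    MoreMor.IsPseudoCoherentHom A (Localization.Away g) := by
  rw [isPseudoCoherentHom_iff_relPC] at h ⊢
  intro m
  let K : DRing.Cx B :=
    (HomologicalComplex.single (ModuleCat.{u} B) (ComplexShape.up ℤ) 0).obj (ModuleCat.of B B)
  let eK : Dual.inD B B ≅ Q.obj K :=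
    (DerivedCategory.singleFunctorIsoCompQ (ModuleCat.{u} B) 0).app (ModuleCat.of B B)
  exact isRelPC_of_iso (awaySelfIso B g) (isRelPC_away_of_isRelPC K m g (isRelPC_of_iso eK (h m)))

theorem isPseudoCoherentHom_of_away_span [Algebra.FiniteType A B] {r : ℕ} (g : Fin r → B)
    (hg : Ideal.span (Set.range g) = ⊤)
    (h : ∀ i, MoreMor.IsPseudoCoherentHom A (Localization.Away (g i))) :
    MoreMor.IsPseudoCoherentHom A B := by
  rw [isPseudoCoherentHom_iff_relPC]
  intro m
  let K : DRing.Cx B :=
    (HomologicalComplex.single (ModuleCat.{u} B) (ComplexShape.up ℤ) 0).obj (ModuleCat.of B B)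
  let eK : Dual.inD B B ≅ Q.obj K :=
    (DerivedCategory.singleFunctorIsoCompQ (ModuleCat.{u} B) 0).app (ModuleCat.of B B)
  refine isRelPC_of_iso eK.symm (isRelPC_of_away K m g hg (fun i => ?_))
  have hi := (isPseudoCoherentHom_iff_relPC A (Localization.Away (g i))).1 (h i) m
  exact isRelPC_of_iso (awaySelfIso B (g i)).symm hi

end Away

end Groth.Agent.Lib.Helper13.PM
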