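import Groth.Agent.Lib.Helper13.RelPCBC
import Mathlib.Algebra.Polynomial.Lifts

set_option autoImplicit false
universe u
open CategoryTheory CategoryTheory.Limits
open PCoh

namespace Groth.Agent.Lib.Helper13.DR

open Groth.Agent.Lib.Helper13.PC Groth.Agent.Lib.Helper13.BS
open DerivedCategory

attribute [local instance] HasDerivedCategory.standard

/-- A finite projective algebra is a pseudo-coherent ring map. -/
lemma isPCHom_of_finite_projective {A B : Type u} [CommRing A] [CommRing B] [Algebra A B]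
    [Module.Finite A B] [Module.Projective A B] : IsPCHom (algebraMap A B) := by
  refine isPC_single_of_Pfp (M := (ModuleCat.restrictScalars.{u} (algebraMap A B)).obj
    (ModuleCat.of B B)) ⟨?_, ?_⟩
  · exact Module.Finite.equiv (restrEquiv (A := A) B).symm
  · exact Module.Projective.of_equiv (restrEquiv (A := A) B).symm

open Polynomial in
/-- `P[T]/(Q)` is pseudo-coherent over `P[T]` for `Q` monic. -/
lemma isPCHom_adjoinRoot_mk {P : Type u} [CommRing P] (Q : P[X]) (hQ : Q.Monic) :
    IsPCHom (AdjoinRoot.mk Q) :=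
  isPCHom_quotient_span_singleton P[X] Q hQ.isRegular

open Polynomial in
/-- `P[T]/(Q)` is pseudo-coherent over `P` for `Q` monic. -/
lemma isPCHom_adjoinRoot_of {P : Type u} [CommRing P] (Q : P[X]) (hQ : Q.Monic) :
    IsPCHom (AdjoinRoot.of Q) := by
  have := hQ.free_adjoinRoot
  have := hQ.finite_adjoinRoot
  exact isPCHom_of_finite_projective (A := P) (B := AdjoinRoot Q)

open Polynomial in
/-- Key step: restriction along `P[T] → B`, `T ↦ b` with `b` integral over `P`, detects
`m`-pseudo-coherence exactly as restriction along `P → B`. -/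
lemma isNPC_restrictD_eval₂_iff {P B : Type u} [CommRing P] [CommRing B] (φ : P →+* B) (b : B)
    (Q : P[X]) (hQ : Q.Monic) (hb : Q.eval₂ φ b = 0) (K : Dual.D B) (m : ℤ) :
    IsNPC (Pff P[X]) m ((DRing.restrictD (Polynomial.eval₂RingHom φ b)).obj K) ↔
      IsNPC (Pff P) m ((DRing.restrictD φ).obj K) := by
  let l : AdjoinRoot Q →+* B := AdjoinRoot.lift φ b hb
  have h1 : l.comp (AdjoinRoot.mk Q) = Polynomial.eval₂RingHom φ b :=
    RingHom.ext (fun g => AdjoinRoot.lift_mk hb g)
  have h2 : l.comp (AdjoinRoot.of Q) = φ :=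
    RingHom.ext (fun x => AdjoinRoot.lift_of hb)
  obtain ⟨e1⟩ := nonempty_restrictD_comp (AdjoinRoot.mk Q) l K
  obtain ⟨e2⟩ := nonempty_restrictD_comp (AdjoinRoot.of Q) l K
  rw [h1] at e1
  rw [h2] at e2
  have h3 := isNPC_restrictD_iff (isPCHom_adjoinRoot_mk Q hQ) m ((DRing.restrictD l).obj K)
  have h4 := isNPC_restrictD_iff (isPCHom_adjoinRoot_of Q hQ) m ((DRing.restrictD l).obj K)
  constructor
  · intro h
    exact (h4.1 (h3.2 (h.of_iso e1.symm))).of_iso e2
  · intro h
    exact (h3.1 (h4.2 (h.of_iso e2.symm))).of_iso e1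

/-- Transport of `m`-pseudo-coherence of a restriction along a ring isomorphism. -/
lemma isNPC_restrictD_comp_ringEquiv_iff {P P' B : Type u} [CommRing P] [CommRing P'] [CommRing B]
    (e : P ≃+* P') (ψ : P' →+* B) (ψ' : P →+* B) (h : ψ.comp (e : P →+* P') = ψ')
    (K : Dual.D B) (m : ℤ) :
    IsNPC (Pff P) m ((DRing.restrictD ψ').obj K) ↔ IsNPC (Pff P') m ((DRing.restrictD ψ).obj K) := by
  subst h
  obtain ⟨e1⟩ := nonempty_restrictD_comp (e : P →+* P') ψ K
  have h1 := isNPC_restrictD_iff (isPCHom_of_ringEquiv e) m ((DRing.restrictD ψ).obj K)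
  exact ⟨fun h => h1.2 (h.of_iso e1.symm), fun h => (h1.1 h).of_iso e1⟩

/-- Restriction along `P[t_1, …, t_k] → B`, `t_j ↦ b_j` with the `b_j` integral over `P`, detects
`m`-pseudo-coherence exactly as restriction along `P → B`. -/
theorem isNPC_restrictD_mvEval₂_iff : ∀ (k : ℕ) {P B : Type u} [CommRing P] [CommRing B]
    (φ : P →+* B) (b : Fin k → B)
    (_ : ∀ j, ∃ Q : Polynomial P, Q.Monic ∧ Q.eval₂ φ (b j) = 0) (K : Dual.D B) (m : ℤ),
    IsNPC (Pff (MvPolynomial (Fin k) P)) m
        ((DRing.restrictD (MvPolynomial.eval₂Hom φ b)).obj K) ↔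
      IsNPC (Pff P) m ((DRing.restrictD φ).obj K)
  | 0, P, B, _, _, φ, b, _, K, m => by
    refine isNPC_restrictD_comp_ringEquiv_iff (MvPolynomial.isEmptyRingEquiv P (Fin 0)) φ _ ?_ K m
    apply MvPolynomial.ringHom_ext
    · intro p
      change φ (MvPolynomial.isEmptyRingEquiv P (Fin 0) (MvPolynomial.C p)) =
        MvPolynomial.eval₂Hom φ b (MvPolynomial.C p)
      rw [MvPolynomial.eval₂Hom_C, ← MvPolynomial.isEmptyRingEquiv_symm_apply (R := P) (σ := Fin 0) p,
        RingEquiv.apply_symm_apply]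
    · intro i
      exact i.elim0
  | k + 1, P, B, _, _, φ, b, hb, K, m => by
    let φ' : MvPolynomial (Fin k) P →+* B := MvPolynomial.eval₂Hom φ (fun j => b j.succ)
    obtain ⟨Q, hQ, hQb⟩ := hb 0
    have hQ' : (Q.map (MvPolynomial.C : P →+* MvPolynomial (Fin k) P)).Monic := hQ.map _
    have hQb' : (Q.map (MvPolynomial.C : P →+* MvPolynomial (Fin k) P)).eval₂ φ' (b 0) = 0 := by
      rw [Polynomial.eval₂_map]
      have : φ'.comp (MvPolynomial.C : P →+* MvPolynomial (Fin k) P) = φ := by
        ext p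
        simp [φ']
      rw [this, hQb]
    rw [← isNPC_restrictD_mvEval₂_iff k φ (fun j => b j.succ) (fun j => hb j.succ) K m,
      ← isNPC_restrictD_eval₂_iff φ' (b 0) _ hQ' hQb' K m]
    refine isNPC_restrictD_comp_ringEquiv_iff (MvPolynomial.finSuccEquiv P k).toRingEquiv
      (Polynomial.eval₂RingHom φ' (b 0)) _ ?_ K m
    apply MvPolynomial.ringHom_ext
    · intro p
      simp [MvPolynomial.finSuccEquiv_apply, φ']
    · intro i
      refine Fin.cases ?_ (fun j => ?_) i
      · simp [MvPolynomial.finSuccEquiv_X_zero]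
      · simp [MvPolynomial.finSuccEquiv_X_succ, φ']

/-- Relative pseudo-coherence along a finite map of finite type algebras can be tested after
restriction of scalars. -/
theorem isRelPC_iff_restrict_of_finite {R A B : Type u} [CommRing R] [CommRing A] [CommRing B]
    [Algebra R A] [Algebra A B] [Algebra R B] [IsScalarTower R A B] [Algebra.FiniteType R A]
    [Module.Finite A B] (K : Dual.D B) (m : ℤ) :
    DerCA.IsRelPseudoCoherent R B m K ↔
      DerCA.IsRelPseudoCoherent R A m ((DRing.restrictD (algebraMap A B)).obj K) := by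
  obtain ⟨n, α, hα⟩ := exists_presentation R A
  obtain ⟨k, b, hb⟩ := Module.Finite.exists_fin (R := A) (M := B)
  let φ : MvPolynomial (Fin n) R →+* B :=
    (algebraMap A B).comp (α : MvPolynomial (Fin n) R →+* A)
  have hint : ∀ j, ∃ Q : Polynomial (MvPolynomial (Fin n) R), Q.Monic ∧ Q.eval₂ φ (b j) = 0 := by
    intro j
    have h1 : IsIntegral A (b j) := Algebra.IsIntegral.isIntegral (b j)
    obtain ⟨q, hq, hq0⟩ := h1
    have hl : q ∈ Polynomial.lifts (α : MvPolynomial (Fin n) R →+* A) := by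
      rw [Polynomial.lifts_iff_coeff_lifts]
      intro i
      obtain ⟨p, hp⟩ := hα (q.coeff i)
      exact ⟨p, hp⟩
    obtain ⟨Q, hQ1, -, hQ3⟩ := Polynomial.lifts_and_natDegree_eq_and_monic hl hq
    refine ⟨Q, hQ3, ?_⟩
    rw [← Polynomial.eval₂_map, hQ1]
    exact hq0
  let e : MvPolynomial (Fin (k + n)) R ≃ₐ[R] MvPolynomial (Fin k) (MvPolynomial (Fin n) R) :=
    (MvPolynomial.renameEquiv R finSumFinEquiv.symm).trans (MvPolynomial.sumAlgEquiv R (Fin k) (Fin n))
  let γ₀ : MvPolynomial (Fin k) (MvPolynomial (Fin n) R) →ₐ[R] B :=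
    { MvPolynomial.eval₂Hom φ b with
      commutes' := fun r => by
        change MvPolynomial.eval₂Hom φ b (algebraMap R _ r) = _
        rw [MvPolynomial.algebraMap_apply, MvPolynomial.eval₂Hom_C]
        change algebraMap A B (α (algebraMap R _ r)) = _
        rw [AlgHom.commutes, ← IsScalarTower.algebraMap_apply] }
  have hγ₀ : Function.Surjective γ₀ := by
    intro y
    have hy : y ∈ Submodule.span A (Set.range b) := by rw [hb]; trivial
    obtain ⟨c, hc⟩ := (Submodule.mem_span_range_iff_exists_fun A).1 hy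
    choose p hp using fun j => hα (c j)
    refine ⟨∑ j, MvPolynomial.C (p j) * MvPolynomial.X j, ?_⟩
    change MvPolynomial.eval₂Hom φ b _ = y
    rw [map_sum, ← hc]
    refine Finset.sum_congr rfl (fun j _ => ?_)
    rw [map_mul, MvPolynomial.eval₂Hom_C, MvPolynomial.eval₂Hom_X']
    change algebraMap A B (α (p j)) * b j = _
    rw [hp j, Algebra.smul_def]
  let γ : MvPolynomial (Fin (k + n)) R →ₐ[R] B := γ₀.comp e.toAlgHom
  have hγ : Function.Surjective γ := hγ₀.comp e.surjective
  rw [isRelPseudoCoherent_iff γ hγ m, isRelPseudoCoherent_iff α hα m]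
  rw [isNPC_restrictD_comp_ringEquiv_iff e.toRingEquiv
    (γ₀ : MvPolynomial (Fin k) (MvPolynomial (Fin n) R) →+* B)
    (γ : MvPolynomial (Fin (k + n)) R →+* B) rfl K m]
  refine (isNPC_restrictD_mvEval₂_iff k φ b hint K m).trans ?_
  obtain ⟨e1⟩ := nonempty_restrictD_comp (α : MvPolynomial (Fin n) R →+* A) (algebraMap A B) K
  exact ⟨fun h => h.of_iso e1.symm, fun h => h.of_iso e1⟩

end Groth.Agent.Lib.Helper13.DR
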