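import Groth.Agent.Lib.Helper13.PerfMor2
import Groth.Agent.Lib.Helper13.RelPCFin
import Groth.Agent.S7069
import Mathlib.AlgebraicGeometry.Morphisms.Finite
import Mathlib.AlgebraicGeometry.Noetherian

set_option autoImplicit false
universe u
open CategoryTheory CategoryTheory.Limits TensorProduct AlgebraicGeometry TopologicalSpace

namespace Groth.Agent.Lib.Helper13.PM

open Groth.Agent.Lib.Helper13.DR Groth.Agent.Lib.Helper13.PC
open DerivedCategory

attribute [local instance] HasDerivedCategory.standard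

lemma qpc_of_comp {R S T : Type u} [CommRing R] [CommRing S] [CommRing T] (f : R →+* S)
    (g : S →+* T) (hf : QPC f) (hgf : QPC (g.comp f)) : QPC g := by
  letI := f.toAlgebra
  letI := g.toAlgebra
  letI := (g.comp f).toAlgebra
  haveI : IsScalarTower R S T := IsScalarTower.of_algebraMap_eq (fun x => rfl)
  exact isPseudoCoherentHom_of_trans R S T hf hgf

theorem isPseudoCoherentMor_of_comp {X Y S : Scheme.{u}} (f : X ⟶ Y) (g : Y ⟶ S)
    (hX : MoreMor.IsPseudoCoherentMor (f ≫ g)) (hY : MoreMor.IsPseudoCoherentMor g) :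
    MoreMor.IsPseudoCoherentMor f := by
  rw [isPseudoCoherentMor_iff_exists]
  intro x
  obtain ⟨W, hW, hxW, -⟩ := Opens.isBasis_iff_nbhd.mp S.isBasis_affineOpens
    (Opens.mem_top <| g (f x))
  obtain ⟨V, hV, hxV, hVW⟩ := Opens.isBasis_iff_nbhd.mp Y.isBasis_affineOpens
    (show f x ∈ g ⁻¹ᵁ W from hxW)
  obtain ⟨U, hU, hxU, hUV⟩ := Opens.isBasis_iff_nbhd.mp X.isBasis_affineOpens
    (show x ∈ f ⁻¹ᵁ V from hxV)
  refine ⟨U, V, hUV, hU, hV, hxU, ?_⟩
  have hUW : U ≤ (f ≫ g) ⁻¹ᵁ W := fun y hy => hVW (hUV hy)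
  have h1 : QPC (g.appLE W V hVW).hom := hY V W hV hW hVW
  have h2 : QPC ((f ≫ g).appLE W U hUW).hom := hX U W hU hW hUW
  have hcomp : (f ≫ g).appLE W U hUW = g.appLE W V hVW ≫ f.appLE V U hUV :=
    (Scheme.Hom.appLE_comp_appLE f g W V U hVW hUV).symm
  rw [hcomp, CommRingCat.hom_comp] at h2
  exact qpc_of_comp _ _ h1 h2

section Finite

variable (A B : Type u) [CommRing A] [CommRing B] [Algebra A B] [Module.Finite A B]

theorem isPseudoCoherentHom_iff_of_finite :
    MoreMor.IsPseudoCoherentHom A B ↔ DRing.IsPseudoCoherentModule' A B := by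
  have hAA : Algebra.FiniteType A A := inferInstance
  rw [isPseudoCoherentHom_iff_relPC]
  have key : ∀ m : ℤ, DerCA.IsRelPseudoCoherent A B m (Dual.inD B B) ↔
      IsNPC (Pff A) m (Dual.inD A B) := by
    intro m
    rw [isRelPC_iff_restrict_of_finite (R := A) (A := A) (B := B) (Dual.inD B B) m]
    let e0 : MvPolynomial (Fin 0) A ≃ₐ[A] A := MvPolynomial.isEmptyAlgEquiv A (Fin 0)
    rw [isRelPseudoCoherent_iff e0.toAlgHom e0.surjective m]
    have h0 : IsPCHom ((e0.toAlgHom : MvPolynomial (Fin 0) A →ₐ[A] A) :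
        MvPolynomial (Fin 0) A →+* A) := (isPCHom_of_ringEquiv e0.toRingEquiv).of_eq rfl
    rw [← isNPC_restrictD_iff h0 m]
    exact ⟨fun h => h.of_iso (restrictDSingleIso (algebraMap A B) (ModuleCat.of B B) ≪≫
        (DerivedCategory.singleFunctor (ModuleCat.{u} A) 0).mapIso (algebraRestrictIso A B).symm),
      fun h => h.of_iso ((restrictDSingleIso (algebraMap A B) (ModuleCat.of B B) ≪≫
        (DerivedCategory.singleFunctor (ModuleCat.{u} A) 0).mapIso
          (algebraRestrictIso A B).symm).symm)⟩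
  constructor
  · intro h
    exact (isPseudoCoherent'_iff _).2 (fun m => (key m).1 (h m))
  · intro h m
    exact (key m).2 ((isPseudoCoherent'_iff _).1 h m)

end Finite

end Groth.Agent.Lib.Helper13.PM

namespace Groth.Agent.Lib.Helper13.PM

attribute [local instance] HasDerivedCategory.standard

theorem isPseudoCoherentMor_iff_of_isFinite {X S : Scheme.{u}} (f : X ⟶ S) [IsFinite f] :
    MoreMor.IsPseudoCoherentMor f ↔ ∀ (V : S.Opens), IsAffineOpen V →
      (letI := (f.app V).hom.toAlgebra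
       DRing.IsPseudoCoherentModule' Γ(S, V) Γ(X, f ⁻¹ᵁ V)) := by
  have key : ∀ (V : S.Opens) (hV : IsAffineOpen V),
      (letI := (f.appLE V (f ⁻¹ᵁ V) le_rfl).hom.toAlgebra
       MoreMor.IsPseudoCoherentHom Γ(S, V) Γ(X, f ⁻¹ᵁ V)) ↔
      (letI := (f.app V).hom.toAlgebra
       DRing.IsPseudoCoherentModule' Γ(S, V) Γ(X, f ⁻¹ᵁ V)) := by
    intro V hV
    have happ : f.appLE V (f ⁻¹ᵁ V) le_rfl = f.app V := (Scheme.Hom.app_eq_appLE f).symm
    rw [happ]
    letI := (f.app V).hom.toAlgebra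
    haveI : Module.Finite Γ(S, V) Γ(X, f ⁻¹ᵁ V) := IsFinite.finite_app f V hV
    exact isPseudoCoherentHom_iff_of_finite Γ(S, V) Γ(X, f ⁻¹ᵁ V)
  constructor
  · intro h V hV
    exact (key V hV).1 (h (f ⁻¹ᵁ V) V (hV.preimage f) hV le_rfl)
  · intro h
    rw [isPseudoCoherentMor_iff_exists]
    intro x
    obtain ⟨V, hV, hxV, -⟩ := Opens.isBasis_iff_nbhd.mp S.isBasis_affineOpens
      (Opens.mem_top <| f x)
    exact ⟨f ⁻¹ᵁ V, V, le_rfl, hV.preimage f, hV, hxV, (key V hV).2 (h V hV)⟩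

theorem isRegularRing_of_stalks {S : Scheme.{u}} [IsLocallyNoetherian S]
    (hreg : ∀ s : S, IsRegularLocalRing (S.presheaf.stalk s)) (V : S.Opens)
    (hV : IsAffineOpen V) : IsRegularRing Γ(S, V) := by
  haveI : IsNoetherianRing Γ(S, V) := IsLocallyNoetherian.component_noetherian ⟨V, hV⟩
  refine ⟨fun p hp => ?_⟩
  let y : PrimeSpectrum Γ(S, V) := ⟨p, hp⟩
  have hy : hV.fromSpec y ∈ V := by
    rw [← SetLike.mem_coe, ← hV.range_fromSpec]
    exact ⟨y, rfl⟩
  letI := TopCat.Presheaf.algebra_section_stalk S.presheaf ⟨hV.fromSpec y, hy⟩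
  haveI : IsLocalization.AtPrime (S.presheaf.stalk (hV.fromSpec y)) p :=
    hV.isLocalization_stalk' y hy
  haveI := hreg (hV.fromSpec y)
  exact IsRegularLocalRing.of_ringEquiv
    (IsLocalization.algEquiv p.primeCompl (S.presheaf.stalk (hV.fromSpec y))
      (Localization.AtPrime p)).toRingEquiv

theorem isPerfectMor_of_regular {X S : Scheme.{u}} (f : X ⟶ S) [LocallyOfFiniteType f]
    [IsLocallyNoetherian S]
    (hreg : ∀ s : S, IsRegularLocalRing (S.presheaf.stalk s))
    (hdim : ∀ V : S.Opens, IsAffineOpen V → ringKrullDim Γ(S, V) < ⊤) :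
    MoreMor.IsPerfectMor f := by
  intro U V hU hV hUV
  letI := (f.appLE V U hUV).hom.toAlgebra
  haveI : IsRegularRing Γ(S, V) := isRegularRing_of_stalks hreg V hV
  haveI : Algebra.FiniteType Γ(S, V) Γ(X, U) :=
    HasRingHomProperty.appLE (P := @LocallyOfFiniteType) f inferInstance ⟨V, hV⟩ ⟨U, hU⟩ hUV
  exact Groth.Agent.S7069.result Γ(S, V) Γ(X, U) (hdim V hV)

end Groth.Agent.Lib.Helper13.PM
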