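import Groth.Agent.Lib.Helper13.PCTwist
import Groth.Agent.Lib.Helper13.PCCycles
import Mathlib.Algebra.Homology.DerivedCategory.Basic
import Mathlib.Algebra.Homology.DerivedCategory.HomologySequence

set_option autoImplicit false
set_option linter.style.haveILetI false

universe v u

namespace Groth.Agent.Lib.Helper13.PC

open CategoryTheory CategoryTheory.Limits HomologicalComplex CochainComplex PCoh Pretriangulated ZeroObject

variable {C : Type u} [Category.{v} C] [Abelian C]

section ConeMap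

variable {K₁ L₁ K₂ L₂ : CochainComplex C ℤ} (φ₁ : K₁ ⟶ L₁) (φ₂ : K₂ ⟶ L₂)
  (a : K₁ ⟶ K₂) (b : L₁ ⟶ L₂) (comm : φ₁ ≫ b = a ≫ φ₂)

/-- The map of mapping cones induced by a commutative square of quasi-isomorphisms is a
quasi-isomorphism. -/
lemma quasiIso_mappingCone_map [QuasiIso a] [QuasiIso b] :
    QuasiIso (mappingCone.map φ₁ φ₂ a b comm) := by
  letI := HasDerivedCategory.standard C
  rw [← DerivedCategory.isIso_Q_map_iff_quasiIso]
  exact isIso₃_of_isIso₁₂
    (DerivedCategory.Q.mapTriangle.map (mappingCone.triangleMap φ₁ φ₂ a b comm))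
    (DerivedCategory.mappingCone_triangle_distinguished φ₁)
    (DerivedCategory.mappingCone_triangle_distinguished φ₂)
    (by simp only [Functor.mapTriangle_map_hom₁, mappingCone.triangleMap_hom₁]
        exact (DerivedCategory.isIso_Q_map_iff_quasiIso C a).2 inferInstance)
    (by simp only [Functor.mapTriangle_map_hom₂, mappingCone.triangleMap_hom₂]
        exact (DerivedCategory.isIso_Q_map_iff_quasiIso C b).2 inferInstance)

end ConeMap

section PropLemmas

variable (P : ObjectProperty C) [P.IsClosedUnderIsomorphisms]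

include P in
lemma prop_biprod (hsum : ∀ X Y : C, P X → P Y → P (X ⨯ Y)) {X Y : C} (hX : P X) (hY : P Y) :
    P (X ⊞ Y) :=
  (P.prop_iff_of_iso (biprod.isoProd X Y)).2 (hsum X Y hX hY)

lemma prop_mappingCone_X (hsum : ∀ X Y : C, P X → P Y → P (X ⨯ Y)) {K L : CochainComplex C ℤ}
    (φ : K ⟶ L) (i j : ℤ) (hij : i + 1 = j) (hK : P (K.X j)) (hL : P (L.X i)) :
    P ((mappingCone φ).X i) :=
  (P.prop_iff_of_iso (homotopyCofiber.XIsoBiprod φ i j hij)).2 (prop_biprod P hsum hK hL)

lemma prop_twist_X (hsum : ∀ X Y : C, P X → P Y → P (X ⨯ Y)) {E F M' : CochainComplex C ℤ}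
    (u : E ⟶ F) (ι : M' ⟶ mappingCone u) (i : ℤ) (hM : P (M'.X i)) (hE : P (E.X i)) :
    P ((twist u ι).X i) :=
  prop_biprod P hsum hM hE

end PropLemmas


section Induction

variable (P : ObjectProperty C) [P.IsClosedUnderIsomorphisms] [P.ContainsZero]

/-- One step of the descending induction: a `(k+1)`-quasi-isomorphism from a strictly perfect
complex can be improved to a `k`-quasi-isomorphism, as soon as `H^k` of its cone is of finite
type. -/
lemma exists_step (hsum : ∀ X Y : C, P X → P Y → P (X ⨯ Y)) (hql : IsQuasiLiftable P)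
    {E G : CochainComplex C ℤ} (g : G ⟶ E) (k b : ℤ)
    (hP : ∀ i : ℤ, P (G.X i)) (hz : ∀ i : ℤ, i ≤ k ∨ b < i → IsZero (G.X i)) (hkb : k ≤ b)
    (hiso : ∀ i : ℤ, k + 1 < i → IsIso (homologyMap g i)) (hepi : Epi (homologyMap g (k + 1)))
    (hcone : IsOfFiniteType P ((mappingCone g).homology k)) :
    ∃ (G' : CochainComplex C ℤ) (g' : G' ⟶ E), (∀ i : ℤ, P (G'.X i)) ∧
      (∀ i : ℤ, i < k ∨ b < i → IsZero (G'.X i)) ∧
      (∀ i : ℤ, k < i → IsIso (homologyMap g' i)) ∧ Epi (homologyMap g' k) := by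
  obtain ⟨Q₀, π₀, hQ₀, hπ₀⟩ := hcone
  obtain ⟨Q', w, q, hQ', hq, hwq⟩ := exists_lift_of_quasiLiftable hql
    ((mappingCone g).homologyπ k) π₀ hQ₀
  have hw : Epi (w ≫ (mappingCone g).homologyπ k) := by
    rw [hwq]; exact epi_comp _ _
  have hex : ∀ j : ℤ, k < j → (mappingCone g).ExactAt j := fun j hj => by
    have := hiso (j + 1) (by lia)
    have : Epi (homologyMap g j) := by
      rcases (show k + 1 ≤ j from hj).lt_or_eq with h | h
      · have := hiso j h; infer_instance
      · subst h; exact hepi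
    exact exactAt_mappingCone g j (j + 1) rfl inferInstance inferInstance
  obtain ⟨h₁, h₂⟩ := nQuasiIso_twistDesc g (singleToCycles k w) k
    (fun j hj => isZero_single_obj_X _ k Q' j (by lia))
    (epi_homologyMap_singleToCycles k w hw) hex
  refine ⟨_, twistDesc g (singleToCycles k w), fun i => ?_, fun i hi => ?_, h₁, h₂⟩
  · apply prop_twist_X P hsum _ _ _ _ (hP i)
    by_cases h : i = k
    · subst h
      exact (P.prop_iff_of_iso (singleObjXSelf _ i Q')).2 hQ'
    · exact P.prop_of_isZero (isZero_single_obj_X _ k Q' i h)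
  · change IsZero (_ ⊞ _)
    rw [biprod_isZero_iff]
    exact ⟨isZero_single_obj_X _ k Q' i (by lia), hz i (by lia)⟩

/-- Descending induction: if `E` is acyclic in degrees `> b` and the cones of all
`(k+1)`-quasi-isomorphisms from strictly perfect complexes have `H^k` of finite type
(`k ≥ n`), then `E` receives an `n`-quasi-isomorphism from a strictly perfect complex
supported in `[n, b]`. -/
theorem exists_nQuasiIso_of_oracle (hsum : ∀ X Y : C, P X → P Y → P (X ⨯ Y))
    (hql : IsQuasiLiftable P) (E : CochainComplex C ℤ) (n b : ℤ)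
    (hE : ∀ i : ℤ, b < i → E.ExactAt i)
    (horacle : ∀ k : ℤ, n ≤ k → ∀ (G : CochainComplex C ℤ) (g : G ⟶ E), (∀ i : ℤ, P (G.X i)) →
      (∀ i : ℤ, i ≤ k ∨ b < i → IsZero (G.X i)) → (∀ i : ℤ, k + 1 < i → IsIso (homologyMap g i)) →
      Epi (homologyMap g (k + 1)) → IsOfFiniteType P ((mappingCone g).homology k)) :
    ∃ (G : CochainComplex C ℤ) (g : G ⟶ E), (∀ i : ℤ, P (G.X i)) ∧
      (∀ i : ℤ, i < n ∨ b < i → IsZero (G.X i)) ∧
      (∀ i : ℤ, n < i → IsIso (homologyMap g i)) ∧ Epi (homologyMap g n) := by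
  have hzero : ∀ i : ℤ, IsZero ((0 : CochainComplex C ℤ).X i) := fun i =>
    (HomologicalComplex.eval C _ i).map_isZero (isZero_zero _)
  have base : ∀ k : ℤ, b ≤ k → (∀ i : ℤ, k < i → IsIso (homologyMap (0 : (0 : CochainComplex C ℤ) ⟶ E) i)) ∧
      Epi (homologyMap (0 : (0 : CochainComplex C ℤ) ⟶ E) (k + 1)) := by
    intro k hk
    have hH : ∀ i : ℤ, k < i → IsZero (E.homology i) := fun i hi =>
      (hE i (by lia)).isZero_homology
    have hH0 : ∀ i : ℤ, IsZero ((0 : CochainComplex C ℤ).homology i) := fun i =>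
      ShortComplex.isZero_homology_of_isZero_X₂ _ (hzero i)
    refine ⟨fun i hi => ?_, ⟨fun _ _ _ => (hH (k + 1) (by lia)).eq_of_src _ _⟩⟩
    exact ⟨0, (hH0 i).eq_of_src _ _, (hH i hi).eq_of_src _ _⟩
  have key : ∀ (m : ℕ) (k : ℤ), k = b - m → n - 1 ≤ k →
      ∃ (G : CochainComplex C ℤ) (g : G ⟶ E), (∀ i : ℤ, P (G.X i)) ∧
        (∀ i : ℤ, i ≤ k ∨ b < i → IsZero (G.X i)) ∧
        (∀ i : ℤ, k + 1 < i → IsIso (homologyMap g i)) ∧ Epi (homologyMap g (k + 1)) := by
    intro m
    induction m with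
    | zero =>
      intro k hk _
      obtain rfl : k = b := by simpa using hk
      exact ⟨0, 0, fun i => P.prop_of_isZero (hzero i), fun i _ => hzero i,
        fun i hi => (base k le_rfl).1 i (by lia), (base k le_rfl).2⟩
    | succ m ih =>
      intro k hk hnk
      obtain ⟨G, g, hP, hz, hiso, hepi⟩ := ih (k + 1) (by push_cast at hk; lia) (by lia)
      obtain ⟨G', g', hP', hz', hiso', hepi'⟩ := exists_step P hsum hql g (k + 1) b hP hz
        (by push_cast at hk; lia) hiso hepi (horacle (k + 1) (by lia) G g hP hz hiso hepi)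
      exact ⟨G', g', hP', fun i hi => hz' i (by lia), hiso', hepi'⟩
  by_cases hnb : n - 1 ≤ b
  · obtain ⟨G, g, hP, hz, hiso, hepi⟩ := key (b - (n - 1)).toNat (n - 1)
      (by rw [Int.toNat_of_nonneg (by lia)]; ring) le_rfl
    refine ⟨G, g, hP, fun i hi => hz i (by lia), fun i hi => hiso i (by lia), ?_⟩
    rwa [show n - 1 + 1 = n by ring] at hepi
  · refine ⟨0, 0, fun i => P.prop_of_isZero (hzero i), fun i _ => hzero i,
      fun i hi => (base (n - 1) (by lia)).1 i (by lia), ?_⟩
    have := (base (n - 1) (by lia)).2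
    rwa [show n - 1 + 1 = n by ring] at this

end Induction


section Resolution

variable {P : ObjectProperty C} [P.IsClosedUnderIsomorphisms] [P.ContainsZero]

lemma isIso_homologyMap_comp_of_quasiIso {G E F : CochainComplex C ℤ} (g : G ⟶ E) (u : E ⟶ F)
    [QuasiIso u] (i : ℤ) (h : IsIso (homologyMap g i)) : IsIso (homologyMap (g ≫ u) i) := by
  rw [homologyMap_comp]; infer_instance

lemma epi_homologyMap_comp_of_quasiIso {G E F : CochainComplex C ℤ} (g : G ⟶ E) (u : E ⟶ F)
    [QuasiIso u] (i : ℤ) (h : Epi (homologyMap g i)) : Epi (homologyMap (g ≫ u) i) := by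
  rw [homologyMap_comp]; infer_instance

omit [P.ContainsZero] in
/-- The oracle for the resolution lemma. -/
lemma isOfFiniteType_homology_cone_of_quasiIso (hsum : ∀ X Y : C, P X → P Y → P (X ⨯ Y))
    (hqs : IsQuasiStableUnderKernels P) {G E F : CochainComplex C ℤ} (g : G ⟶ E) (u : E ⟶ F)
    [QuasiIso u] (k b : ℤ) (hFP : ∀ i : ℤ, k ≤ i → P (F.X i)) (hFb : ∀ i : ℤ, b < i → IsZero (F.X i))
    (hP : ∀ i : ℤ, P (G.X i)) (hz : ∀ i : ℤ, b < i → IsZero (G.X i))
    (hiso : ∀ i : ℤ, k + 1 < i → IsIso (homologyMap g i)) (hepi : Epi (homologyMap g (k + 1))) :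
    IsOfFiniteType P ((mappingCone g).homology k) := by
  have hS : IsStrictPC P k (mappingCone (g ≫ u)) := by
    refine ⟨⟨b, fun i hi => ?_⟩, fun i hi => ?_⟩
    · rw [mappingCone.isZero_X_iff]
      exact ⟨hz _ (by lia), hFb _ hi⟩
    · exact prop_mappingCone_X P hsum _ i (i + 1) rfl (hP _) (hFP i hi)
  have hac : ∀ i : ℤ, k < i → IsZero ((mappingCone (g ≫ u)).homology i) := fun i hi => by
    have h1 := isIso_homologyMap_comp_of_quasiIso g u (i + 1) (hiso (i + 1) (by lia))
    have h2 : Epi (homologyMap (g ≫ u) i) := by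
      apply epi_homologyMap_comp_of_quasiIso
      rcases (show k + 1 ≤ i from hi).lt_or_eq with h | h
      · have := hiso i h; infer_instance
      · subst h; exact hepi
    exact (exactAt_mappingCone (g ≫ u) i (i + 1) rfl inferInstance h2).isZero_homology
  have h3 := isOfFiniteType_homology_of_strictPC hqs k _ hS hac
  have := quasiIso_mappingCone_map g (g ≫ u) (𝟙 G) u (by simp)
  exact isOfFiniteType_of_iso P
    (asIso (homologyMap (mappingCone.map g (g ≫ u) (𝟙 G) u (by simp)) k)).symm h3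

/-- The resolution lemma (strong form): if `u : E ⟶ F` is a quasi-isomorphism to a strictly
`n`-pseudo-coherent complex, then `E` receives a quasi-isomorphism from a strictly
`n`-pseudo-coherent complex. -/
theorem exists_strictPC_quasiIso (hsum : ∀ X Y : C, P X → P Y → P (X ⨯ Y))
    (hqs : IsQuasiStableUnderKernels P) (hql : IsQuasiLiftable P) (n : ℤ)
    {E F : CochainComplex C ℤ} (hF : IsStrictPC P n F) (u : E ⟶ F) [QuasiIso u] :
    ∃ (F' : CochainComplex C ℤ) (v : F' ⟶ E), IsStrictPC P n F' ∧ QuasiIso v := by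
  obtain ⟨⟨b, hb⟩, hFP⟩ := hF
  have hE : ∀ i : ℤ, b < i → E.ExactAt i := fun i hi => by
    rw [exactAt_iff_isZero_homology]
    have h1 : IsZero (F.homology i) := ShortComplex.isZero_homology_of_isZero_X₂ _ (hb i hi)
    exact h1.of_iso (asIso (homologyMap u i))
  obtain ⟨G, g, hP, hz, hiso, hepi⟩ := exists_nQuasiIso_of_oracle P hsum hql E n b hE
    (fun k hk G g hP hz hiso hepi => isOfFiniteType_homology_cone_of_quasiIso hsum hqs g u k b
      (fun i hi => hFP i (by lia)) hb hP (fun i hi => hz i (Or.inr hi)) hiso hepi)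
  obtain ⟨M', ι, hM', hq⟩ := exists_twist_quasiIso g n hiso hepi
  refine ⟨twist g ι, twistDesc g ι, ⟨⟨max b n, fun i hi => ?_⟩, fun i hi => ?_⟩, hq⟩
  · change IsZero (_ ⊞ _)
    rw [biprod_isZero_iff]
    exact ⟨hM' i (by have := le_max_right b n; lia), hz i (Or.inr (by have := le_max_left b n; lia))⟩
  · exact prop_twist_X P hsum g ι i (P.prop_of_isZero (hM' i hi)) (hP i)

end Resolution

end Groth.Agent.Lib.Helper13.PC
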