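import Groth.Agent.Lib.Helper13.PCBiprod

set_option autoImplicit false
set_option linter.style.haveILetI false

universe w v u

namespace Groth.Agent.Lib.Helper13.PC

open CategoryTheory CategoryTheory.Limits HomologicalComplex CochainComplex PCoh Pretriangulated
  ZeroObject DerivedCategory

variable {C : Type u} [Category.{v} C] [Abelian C] [HasDerivedCategory.{w} C]
variable {P : ObjectProperty C} [P.IsClosedUnderIsomorphisms] [P.ContainsZero]

/-- The derived-category oracle: if `Q(X)` is `k`-pseudo-coherent and `g : G ⟶ X` is a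
`(k+1)`-quasi-isomorphism from a strictly perfect complex, then `H^k` of the cone of `g` is of
finite type. -/
lemma isOfFiniteType_homology_cone_of_isNPC (hsum : ∀ X Y : C, P X → P Y → P (X ⨯ Y))
    (hqs : IsQuasiStableUnderKernels P) (hql : IsQuasiLiftable P) {G X : CochainComplex C ℤ}
    (g : G ⟶ X) (k b : ℤ) (hX : IsNPC P k (Q.obj X))
    (hP : ∀ i : ℤ, P (G.X i)) (hz : ∀ i : ℤ, b < i → IsZero (G.X i))
    (hiso : ∀ i : ℤ, k + 1 < i → IsIso (homologyMap g i)) (hepi : Epi (homologyMap g (k + 1))) :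
    IsOfFiniteType P ((mappingCone g).homology k) := by
  have h1 : IsNPC P k (Q.obj (mappingCone g)) :=
    isNPC_obj₃ hsum hqs hql _ (mappingCone_triangle_distinguished g)
      (isNPC_Q (isStrictPC_of_forall hz hP _)) hX
  have hac : ∀ i : ℤ, k < i →
      IsZero ((DerivedCategory.homologyFunctor C i).obj (Q.obj (mappingCone g))) := fun i hi => by
    have h1 := hiso (i + 1) (by lia)
    have h2 : Epi (homologyMap g i) := by
      rcases (show k + 1 ≤ i from hi).lt_or_eq with h | h
      · have := hiso i h; infer_instance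
      · subst h; exact hepi
    exact (exactAt_mappingCone g i (i + 1) rfl inferInstance h2).isZero_homology.of_iso
      (homologyQIso _ i)
  exact isOfFiniteType_of_iso P (homologyQIso _ k) (isOfFiniteType_homology_of_isNPC hqs h1 hac)

/-- Strong resolution lemma: if `Q(X)` is `n`-pseudo-coherent and `X` is acyclic in degrees
`≥ m`, then `X` receives a quasi-isomorphism from a strictly `n`-pseudo-coherent complex
vanishing in degrees `≥ m`. -/
theorem exists_strictPC_quasiIso_of_isNPC (hsum : ∀ X Y : C, P X → P Y → P (X ⨯ Y))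
    (hqs : IsQuasiStableUnderKernels P) (hql : IsQuasiLiftable P) {n m : ℤ}
    {X : CochainComplex C ℤ} (hX : IsNPC P n (Q.obj X)) (hac : ∀ i : ℤ, m ≤ i → X.ExactAt i) :
    ∃ (X' : CochainComplex C ℤ) (v : X' ⟶ X), IsStrictPC P n X' ∧
      (∀ i : ℤ, m ≤ i → IsZero (X'.X i)) ∧ QuasiIso v := by
  by_cases hnm : n < m
  · obtain ⟨G, g, hP, hz, hiso, hepi⟩ := exists_nQuasiIso_of_oracle P hsum hql X n (m - 1)
      (fun i hi => hac i (by lia))
      (fun k hk G g hP hz hiso hepi => isOfFiniteType_homology_cone_of_isNPC hsum hqs hql g k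
        (m - 1) (hX.of_le hk) hP (fun i hi => hz i (Or.inr hi)) hiso hepi)
    obtain ⟨M', ι, hM', hq⟩ := exists_twist_quasiIso g n hiso hepi
    have hzero : ∀ i : ℤ, m ≤ i → IsZero ((twist g ι).X i) := fun i hi => by
      change IsZero (_ ⊞ _)
      rw [biprod_isZero_iff]
      exact ⟨hM' i (by lia), hz i (Or.inr (by lia))⟩
    exact ⟨twist g ι, twistDesc g ι, ⟨⟨m - 1, fun i hi => hzero i (by lia)⟩, fun i hi =>
      prop_twist_X P hsum g ι i (P.prop_of_isZero (hM' i hi)) (hP i)⟩, hzero, hq⟩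
  · have : X.IsLE (m - 1) := by
      rw [CochainComplex.isLE_iff]
      exact fun i hi => hac i (by lia)
    have hzero : ∀ i : ℤ, m ≤ i → IsZero ((X.truncLE (m - 1)).X i) := fun i hi =>
      CochainComplex.isZero_of_isStrictlyLE _ (m - 1) i (by lia)
    exact ⟨X.truncLE (m - 1), X.ιTruncLE (m - 1), ⟨⟨m - 1, fun i hi => hzero i (by lia)⟩,
      fun i hi => P.prop_of_isZero (hzero i (by lia))⟩, hzero, inferInstance⟩


/-- Factorisation of an `i`-quasi-isomorphism between `n`-pseudo-coherent complexes through a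
strictly `n`-pseudo-coherent complex. -/
theorem exists_strictPC_factorisation (hsum : ∀ X Y : C, P X → P Y → P (X ⨯ Y))
    (hqs : IsQuasiStableUnderKernels P) (hql : IsQuasiLiftable P) (n i : ℤ)
    {E F : CochainComplex C ℤ} (hE : IsStrictPC P n E) (hF : IsNPC P n (Q.obj F)) (u : E ⟶ F)
    (hiso : ∀ j : ℤ, i < j → IsIso (homologyMap u j)) (hepi : Epi (homologyMap u i)) :
    ∃ (E' : CochainComplex C ℤ) (v : E ⟶ E') (u' : E' ⟶ F), v ≫ u' = u ∧ IsStrictPC P n E' ∧
      QuasiIso u' ∧ (∀ j : ℤ, Mono (v.f j)) ∧ (∀ j : ℤ, i ≤ j → IsIso (v.f j)) := by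
  have hM : IsNPC P n (Q.obj (mappingCone u)) :=
    isNPC_obj₃ hsum hqs hql _ (mappingCone_triangle_distinguished u)
      ((isNPC_Q hE).of_le (by lia)) hF
  have hex : ∀ j : ℤ, i ≤ j → (mappingCone u).ExactAt j := fun j hj => by
    have := hiso (j + 1) (by lia)
    have : Epi (homologyMap u j) := by
      rcases hj.lt_or_eq with h | h
      · have := hiso j h; infer_instance
      · subst h; exact hepi
    exact exactAt_mappingCone u j (j + 1) rfl inferInstance inferInstance
  obtain ⟨M'', ι, ⟨⟨bM, hbM⟩, hPM⟩, hzM, hι⟩ :=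
    exists_strictPC_quasiIso_of_isNPC hsum hqs hql hM hex
  obtain ⟨⟨bE, hbE⟩, hPE⟩ := hE
  refine ⟨twist u ι, twistInr u ι, twistDesc u ι, twistInr_desc u ι,
    ⟨⟨max bM bE, fun j hj => ?_⟩, fun j hj => ?_⟩, quasiIso_twistDesc u ι, fun j => inferInstance,
    fun j hj => isIso_twistInr_f u ι j (hzM j hj)⟩
  · change IsZero (_ ⊞ _)
    rw [biprod_isZero_iff]
    exact ⟨hbM j (by have := le_max_left bM bE; lia), hbE j (by have := le_max_right bM bE; lia)⟩
  · exact prop_twist_X P hsum u ι j (hPM j hj) (hPE j hj)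

end Groth.Agent.Lib.Helper13.PC
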