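import Groth.Agent.Lib.Helper13.PCSingle
import Mathlib.Algebra.Homology.DerivedCategory.ShortExact
import Mathlib.Algebra.Homology.HomologicalComplexAbelian

set_option autoImplicit false
set_option linter.style.haveILetI false

universe w v u

namespace Groth.Agent.Lib.Helper13.PC

open CategoryTheory CategoryTheory.Limits HomologicalComplex CochainComplex PCoh Pretriangulated
  ZeroObject DerivedCategory

variable {C : Type u} [Category.{v} C] [Abelian C] [HasDerivedCategory.{w} C]

omit [HasDerivedCategory.{w} C] in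
/-- The inclusion of the top term `F^b[-b] ⟶ F` when `F^{b+1} = 0`. -/
noncomputable def topInclusion (F : CochainComplex C ℤ) (b : ℤ) (hF : IsZero (F.X (b + 1))) :
    (HomologicalComplex.single C (ComplexShape.up ℤ) b).obj (F.X b) ⟶ F :=
  mkHomFromSingle (𝟙 _) (fun k hk => by
    obtain rfl : b + 1 = k := hk
    exact hF.eq_of_tgt _ _)

/-- Removing the top term of a complex: there is a complex `F'` with `F'^b = 0`, `F'^k ≅ F^k`
for `k ≠ b`, and a distinguished triangle `F^b[-b] ⟶ F ⟶ F' ⟶`. -/
theorem exists_top_quotient (F : CochainComplex C ℤ) (b : ℤ) (hF : IsZero (F.X (b + 1))) :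
    ∃ (F' : CochainComplex C ℤ), IsZero (F'.X b) ∧ (∀ k : ℤ, k ≠ b → Nonempty (F.X k ≅ F'.X k)) ∧
      ∃ (T : Triangle (DerivedCategory C)), T ∈ distTriang _ ∧
        Nonempty (T.obj₁ ≅ Q.obj ((HomologicalComplex.single C (ComplexShape.up ℤ) b).obj (F.X b))) ∧
        Nonempty (T.obj₂ ≅ Q.obj F) ∧ Nonempty (T.obj₃ ≅ Q.obj F') := by
  let i := topInclusion F b hF
  have hi : ∀ k : ℤ, Mono (i.f k) := fun k => by
    by_cases h : k = b
    · subst h
      have : i.f k = (singleObjXSelf (ComplexShape.up ℤ) k (F.X k)).hom := by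
        simp [i, topInclusion]
      rw [this]; infer_instance
    · exact ⟨fun _ _ _ => (isZero_single_obj_X (ComplexShape.up ℤ) b (F.X b) k h).eq_of_tgt _ _⟩
  have : Mono i := HomologicalComplex.mono_of_mono_f i hi
  let S : ShortComplex (CochainComplex C ℤ) := ShortComplex.mk i (cokernel.π i) (cokernel.condition i)
  have hS : S.ShortExact :=
    { exact := ShortComplex.exact_cokernel i
      mono_f := this
      epi_g := inferInstanceAs (Epi (cokernel.π i)) }
  have hSk : ∀ k : ℤ, (S.map (HomologicalComplex.eval C (ComplexShape.up ℤ) k)).ShortExact :=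
    fun k => hS.map_of_exact _
  refine ⟨cokernel i, ?_, fun k hk => ?_, triangleOfSES hS, triangleOfSES_distinguished hS,
    ⟨Iso.refl _⟩, ⟨Iso.refl _⟩, ⟨Iso.refl _⟩⟩
  · have h1 : IsIso (S.map (HomologicalComplex.eval C (ComplexShape.up ℤ) b)).f := by
      change IsIso (i.f b)
      have : i.f b = (singleObjXSelf (ComplexShape.up ℤ) b (F.X b)).hom := by
        simp [i, topInclusion]
      rw [this]; infer_instance
    exact (hSk b).isIso_f_iff.1 h1
  · have h1 : IsIso (S.map (HomologicalComplex.eval C (ComplexShape.up ℤ) k)).g :=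
      (hSk k).isIso_g_iff.2 (isZero_single_obj_X (ComplexShape.up ℤ) b (F.X b) k hk)
    exact ⟨@asIso _ _ _ _ (S.map (HomologicalComplex.eval C (ComplexShape.up ℤ) k)).g h1⟩


variable {P : ObjectProperty C} [P.IsClosedUnderIsomorphisms] [P.ContainsZero]

/-- If `F` is a bounded above complex and `F^i[0]` is `(n-i)`-pseudo-coherent for all `i ≥ n`,
then `F` is `n`-pseudo-coherent. -/
theorem isNPC_of_termwise (hsum : ∀ X Y : C, P X → P Y → P (X ⨯ Y))
    (hqs : IsQuasiStableUnderKernels P) (hql : IsQuasiLiftable P) {n : ℤ}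
    (F : CochainComplex C ℤ) (b : ℤ) (hb : ∀ i : ℤ, b < i → IsZero (F.X i))
    (hfp : ∀ i : ℤ, n ≤ i → IsNPC P (n - i) ((DerivedCategory.singleFunctor C 0).obj (F.X i))) :
    IsNPC P n (Q.obj F) := by
  have key : ∀ (j : ℕ) (F : CochainComplex C ℤ), (∀ i : ℤ, n - 1 + j < i → IsZero (F.X i)) →
      (∀ i : ℤ, n ≤ i → IsNPC P (n - i) ((DerivedCategory.singleFunctor C 0).obj (F.X i))) →
      IsNPC P n (Q.obj F) := by
    intro j
    induction j with
    | zero =>
      intro F hF _
      have hz : ∀ i : ℤ, n ≤ i → IsZero (F.X i) := fun i hi => hF i (by simp; lia)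
      exact isNPC_Q ⟨⟨n - 1, fun i hi => hz i (by lia)⟩, fun i hi => P.prop_of_isZero (hz i hi)⟩
    | succ j ih =>
      intro F hF hfp
      obtain ⟨b, hbj⟩ : ∃ b : ℤ, b = n + j := ⟨_, rfl⟩
      have hF' : ∀ i : ℤ, b < i → IsZero (F.X i) := fun i hi => hF i (by push_cast; lia)
      obtain ⟨F', hF'b, hiso, T, hT, ⟨e₁⟩, ⟨e₂⟩, ⟨e₃⟩⟩ := exists_top_quotient F b (hF' _ (by lia))
      have h1 : IsNPC P n T.obj₁ := by
        have := (hfp b (by lia)).single_shift b
        rw [show n - b + b = n by ring] at this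
        exact this.of_iso (singleIsoQ b _ ≪≫ e₁.symm)
      have h3 : IsNPC P n T.obj₃ := by
        refine (ih F' (fun i hi => ?_) (fun i hi => ?_)).of_iso e₃.symm
        · by_cases h : i = b
          · subst h; exact hF'b
          · obtain ⟨e⟩ := hiso i h
            exact (hF' i (by lia)).of_iso e.symm
        · by_cases h : i = b
          · subst h; exact isNPC_single_of_isZero hF'b _ _
          · obtain ⟨e⟩ := hiso i h
            exact (hfp i hi).of_iso ((DerivedCategory.singleFunctor C 0).mapIso e)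
      exact (isNPC_obj₂ hsum hqs hql T hT h1 h3).of_iso e₂
  by_cases hnb : n - 1 ≤ b
  · refine key (b - (n - 1)).toNat F (fun i hi => hb i ?_) hfp
    rw [Int.toNat_of_nonneg (by lia)] at hi
    lia
  · exact key 0 F (fun i hi => hb i (by simp at hi; lia)) hfp

end Groth.Agent.Lib.Helper13.PC
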