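import Groth.Agent.Lib.Helper13.BcRHom1
import Groth.Agent.Lib.Helper13.ResExt1
import Groth.Agent.Lib.Helper13.RHomModel1
import Groth.Agent.Lib.Helper13.CMap1

/-!
# Reduction of the base change map for `RHom` to a chain-level map
-/

set_option autoImplicit false
set_option maxHeartbeats 800000
set_option linter.style.haveILetI false
universe u
open CategoryTheory CategoryTheory.Limits MonoidalCategory

namespace Groth.Agent.Lib.Helper13.PM

open Groth.Agent.Lib.Helper13.PC Groth.Agent.Lib.Helper13.SF Groth.Agent.Lib.Helper13.Kan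
open Groth.Agent.Lib.Helper13.DR Groth.Agent.Lib.Helper13.HT Groth.Agent.Lib.Helper13.DT
open Groth.Agent.Lib.Helper13.ET Groth.Agent.Lib.Helper13.DV Groth.Agent.Lib.Helper13.RE
open DerivedCategory DTen

attribute [local instance] HasDerivedCategory.standard

section Adj

variable {A : Type u} [CommRing A] [HasLTen A] [HasRHom A]

lemma adj_symm (K L M : Dual.D A) (x : K ⟶ (RHomR A L).obj M) :
    (rhomHomEquiv K L M).symm x = (LTen₂ A).map (Prod.mkHom x (𝟙 L)) ≫ ev L M := by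
  erw [Adjunction.homEquiv_counit]
  rfl

lemma adj_symm_comp_left {K K' : Dual.D A} (L M : Dual.D A) (a : K' ⟶ K)
    (x : K ⟶ (RHomR A L).obj M) :
    (rhomHomEquiv K' L M).symm (a ≫ x) =
      (LTen₂ A).map (Prod.mkHom a (𝟙 L)) ≫ (rhomHomEquiv K L M).symm x := by
  rw [adj_symm, adj_symm, ← Category.assoc, LTen₂_map_comp, Category.comp_id]

lemma adj_symm_comp_right {M M' : Dual.D A} (K L : Dual.D A) (x : K ⟶ (RHomR A L).obj M)
    (k : M ⟶ M') :
    (rhomHomEquiv K L M').symm (x ≫ (RHomR A L).map k) = (rhomHomEquiv K L M).symm x ≫ k :=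
  Adjunction.homEquiv_naturality_right_symm _ _ _

lemma adj_symm_apply (K L M : Dual.D A) (g : (LTen₂ A).obj (K, L) ⟶ M) :
    (LTen₂ A).map (Prod.mkHom (rhomHomEquiv K L M g) (𝟙 L)) ≫ ev L M = g := by
  rw [← adj_symm, Equiv.symm_apply_apply]

omit [HasRHom A] in
lemma LTen₂_swap {a a' b b' : Dual.D A} (f : a ⟶ a') (g : b ⟶ b') :
    (LTen₂ A).map (Prod.mkHom f (𝟙 b)) ≫ (LTen₂ A).map (Prod.mkHom (𝟙 a') g) =
      (LTen₂ A).map (Prod.mkHom (𝟙 a) g) ≫ (LTen₂ A).map (Prod.mkHom f (𝟙 b')) := by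
  rw [LTen₂_map_comp, LTen₂_map_comp, Category.comp_id, Category.id_comp, Category.comp_id,
    Category.id_comp]

omit [HasRHom A] in
lemma LTen₂_split {a a' b b' : Dual.D A} (f : a ⟶ a') (g : b ⟶ b') :
    (LTen₂ A).map (Prod.mkHom f g) =
      (LTen₂ A).map (Prod.mkHom f (𝟙 b)) ≫ (LTen₂ A).map (Prod.mkHom (𝟙 a') g) := by
  rw [LTen₂_map_comp, Category.comp_id, Category.id_comp]

end Adj

variable {R R' : Type u} [CommRing R] [CommRing R'] (φ : R →+* R')

/-- The chain-level structure map `res (ext X) ⊗ P ⟶ res (ext (X ⊗ P))`. -/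
noncomputable def st (X P : DRing.Cx R) :
    (resCx φ).obj ((extCx φ).obj X) ⊗ P ⟶ (resCx φ).obj ((extCx φ).obj (X ⊗ P)) :=
  resExtCx φ ((extCx φ).obj X) P ≫ (resCx φ).map (extTenIso φ X P).inv

/-- The chain-level base change map for `Hom`. -/
noncomputable def cHat {H P L : DRing.Cx R} (q : H ⟶ DRing.homCx P L) :
    (resCx φ).obj ((extCx φ).obj H) ⟶ DRing.homCx P ((resCx φ).obj ((extCx φ).obj L)) :=
  curryHom (st φ H P ≫ (resCx φ).map ((extCx φ).map (uncurryHom q)))

variable [HasLTen R] [HasLTen R'] [HasLBase φ]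

/-- The `R'`-side adjunct. -/
noncomputable def gMap {H P L : DRing.Cx R} (q : H ⟶ DRing.homCx P L) :
    (LTen₂ R').obj ((LBase φ).obj (Q.obj H), (LBase φ).obj (Q.obj P)) ⟶
      Q.obj ((extCx φ).obj L) :=
  (LTen₂ R').map (Prod.mkHom ((baseCmp φ).app H) ((baseCmp φ).app P)) ≫
    (ε R').app ((extCx φ).obj H, (extCx φ).obj P) ≫
      Q.map ((extTenIso φ H P).inv ≫ (extCx φ).map (uncurryHom q))

variable [HasRHom R] [HasRHom R'] [HasResTen φ] [ResLegIso φ]

lemma betaPP_eq {H P L : DRing.Cx R} (q : H ⟶ DRing.homCx P L) :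
    ((LBase φ).map (Q.map q ≫ rhoCx P L) ≫ bcRHom φ (Q.obj P) (Q.obj L)) ≫
      (RHomR R' ((LBase φ).obj (Q.obj P))).map ((baseCmp φ).app L) =
    rhomHomEquiv _ _ _ (gMap φ q) := by
  refine (Equiv.symm_apply_eq _).mp ?_
  rw [adj_symm_comp_right, adj_symm_comp_left, adj_symm]
  have := isIso_psiSharp φ (Q.obj H) (Q.obj P)
  rw [← cancel_epi (psiSharp φ (Q.obj H) (Q.obj P))]
  have n1 := psiSharp_naturality φ (Q.map q ≫ rhoCx P L) (𝟙 (Q.obj P))
  rw [CategoryTheory.Functor.map_id] at n1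
  have c1 := psiSharp_bcRHom_ev φ (Q.obj P) (Q.obj L)
  have a1 := homEquiv_symm_Q_map_comp_rhoCx q
  rw [adj_symm] at a1
  have f1 := psiSharp_fac φ H P
  have b1 := (baseCmp φ).naturality (uncurryHom q)
  dsimp at b1
  dsimp only [gMap]
  simp only [Category.assoc]
  rw [← reassoc_of% n1, reassoc_of% c1, ← Functor.map_comp_assoc, a1, reassoc_of% f1,
    ← Functor.map_comp, Iso.hom_inv_id_assoc, Functor.map_comp, Category.assoc]
  erw [b1]
  rfl

omit [HasLBase φ] [HasRHom R] in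
/-- `resPF` and adjuncts. -/
lemma resPF_adjunct (W' K' M' : Dual.D R') (g : (LTen₂ R').obj (W', K') ⟶ M') :
    (LTen₂ R).map (Prod.mkHom ((DRing.restrictD φ).map (rhomHomEquiv W' K' M' g))
        (𝟙 ((DRing.restrictD φ).obj K'))) ≫
      (resPF φ).app ((RHomR R' K').obj M', K') ≫ (DRing.restrictD φ).map (ev K' M') =
    (resPF φ).app (W', K') ≫ (DRing.restrictD φ).map g := by
  have h3 := (resPF φ).naturality (Prod.mkHom (rhomHomEquiv W' K' M' g) (𝟙 K'))
  dsimp at h3
  rw [CategoryTheory.Functor.map_id] at h3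
  rw [reassoc_of% h3, ← Functor.map_comp, adj_symm_apply]

omit [HasRHom R] [HasRHom R'] in
/-- `resPF` at images of complexes under base change. -/
lemma resPF_baseCmp (H P : DRing.Cx R) {Z : DRing.Cx R'}
    (m : (tensorT R').obj ((extCx φ).obj H, (extCx φ).obj P) ⟶ Z) :
    (resPF φ).app ((LBase φ).obj (Q.obj H), (LBase φ).obj (Q.obj P)) ≫
      (DRing.restrictD φ).map ((LTen₂ R').map (Prod.mkHom ((baseCmp φ).app H) ((baseCmp φ).app P)) ≫
        (ε R').app ((extCx φ).obj H, (extCx φ).obj P) ≫ Q.map m) ≫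
        (resFactors φ).hom.app Z =
    (LTen₂ R).map (Prod.mkHom
        ((DRing.restrictD φ).map ((baseCmp φ).app H) ≫ (resFactors φ).hom.app ((extCx φ).obj H))
        ((DRing.restrictD φ).map ((baseCmp φ).app P) ≫ (resFactors φ).hom.app ((extCx φ).obj P))) ≫
      (ε R).app ((resCx φ).obj ((extCx φ).obj H), (resCx φ).obj ((extCx φ).obj P)) ≫
        Q.map (resTenCx φ ((extCx φ).obj H) ((extCx φ).obj P) ≫ (resCx φ).map m) := by
  have hL2 := (resPF φ).naturality (Prod.mkHom ((baseCmp φ).app H) ((baseCmp φ).app P))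
  have hL3 : (resPF φ).app (Q.obj ((extCx φ).obj H), Q.obj ((extCx φ).obj P)) ≫
      (resβB φ).app ((extCx φ).obj H, (extCx φ).obj P) =
      (resβA φ).app ((extCx φ).obj H, (extCx φ).obj P) :=
    resPF_fac φ ((extCx φ).obj H, (extCx φ).obj P)
  have hR3 : (DRing.restrictD φ).map (Q.map m) ≫ (resFactors φ).hom.app Z =
      (resFactors φ).hom.app ((tensorT R').obj ((extCx φ).obj H, (extCx φ).obj P)) ≫
        Q.map ((resCx φ).map m) := (resFactors φ).hom.naturality m
  dsimp at hL2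
  have hB : (DRing.restrictD φ).map ((ε R').app ((extCx φ).obj H, (extCx φ).obj P)) ≫
      (resFactors φ).hom.app ((tensorT R').obj ((extCx φ).obj H, (extCx φ).obj P)) =
      (resβB φ).app ((extCx φ).obj H, (extCx φ).obj P) := rfl
  rw [Functor.map_comp, Functor.map_comp, Category.assoc, Category.assoc, hR3,
    ← reassoc_of% hL2, reassoc_of% hB, reassoc_of% hL3]
  dsimp only [resβA]
  simp only [Category.assoc]
  rw [← Category.assoc ((LTen₂ R).map _), LTen₂_map_comp, Functor.map_comp]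

omit [HasLTen R] [HasLTen R'] [HasRHom R] [HasRHom R'] [HasResTen φ] [ResLegIso φ] in
lemma unit_baseCmp_resFactors (P : DRing.Cx R) :
    (baseAdj φ).unit.app (Q.obj P) ≫ (DRing.restrictD φ).map ((baseCmp φ).app P) ≫
      (resFactors φ).hom.app ((extCx φ).obj P) = Q.map ((unitCx φ).app P) := by
  rw [← Category.assoc, baseCmp_fac]
  dsimp [baseγ]
  rw [Category.assoc, ← NatTrans.comp_app, Iso.inv_hom_id, NatTrans.id_app]
  exact Category.comp_id _

/-- The key computation: the restriction of the `R'`-side map followed by `rhomBC` is the chain-level map `cHat`. -/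
theorem res_betaPP_rhomBC {H P L : DRing.Cx R} (q : H ⟶ DRing.homCx P L) :
    ((DRing.restrictD φ).map (rhomHomEquiv _ _ _ (gMap φ q)) ≫
        rhomBC φ (Q.obj P) (Q.obj ((extCx φ).obj L))) ≫
      (RHomR R (Q.obj P)).map ((resFactors φ).hom.app ((extCx φ).obj L)) =
    ((DRing.restrictD φ).map ((baseCmp φ).app H) ≫ (resFactors φ).hom.app ((extCx φ).obj H)) ≫
      (Q.map (cHat φ q) ≫ rhoCx P ((resCx φ).obj ((extCx φ).obj L))) := by
  apply (rhomHomEquiv _ _ _).symm.injective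
  rw [adj_symm_comp_right, adj_symm_comp_left, adj_symm_comp_left]
  erw [homEquiv_symm_Q_map_comp_rhoCx (cHat φ q)]
  have hb : (rhomHomEquiv _ _ _).symm (rhomBC φ (Q.obj P) (Q.obj ((extCx φ).obj L))) =
      rhomBCCore φ (Q.obj P) (Q.obj ((extCx φ).obj L)) := by
    dsimp only [rhomBC]
    exact Equiv.symm_apply_apply _ _
  rw [hb]
  dsimp only [rhomBCCore, cHat]
  rw [uncurryHom_curryHom]
  have s1 := LTen₂_swap
    ((DRing.restrictD φ).map (rhomHomEquiv ((LBase φ).obj (Q.obj H)) ((LBase φ).obj (Q.obj P))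
          (Q.obj ((extCx φ).obj L)) (gMap φ q))) ((baseAdj φ).unit.app (Q.obj P))
  have s2 := resPF_adjunct φ ((LBase φ).obj (Q.obj H)) ((LBase φ).obj (Q.obj P))
    (Q.obj ((extCx φ).obj L)) (gMap φ q)
  simp only [Category.assoc]
  rw [reassoc_of% s1, reassoc_of% s2]
  dsimp only [gMap]
  rw [resPF_baseCmp φ H P, ← Category.assoc ((LTen₂ R).map _), LTen₂_map_comp, Category.id_comp,
    unit_baseCmp_resFactors]
  have s3 : (LTen₂ R).map (Prod.mkHom
      ((DRing.restrictD φ).map ((baseCmp φ).app H) ≫ (resFactors φ).hom.app ((extCx φ).obj H))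
      (Q.map ((unitCx φ).app P))) =
      (LTen₂ R).map (Prod.mkHom
        ((DRing.restrictD φ).map ((baseCmp φ).app H) ≫ (resFactors φ).hom.app ((extCx φ).obj H))
        (𝟙 (Q.obj P))) ≫
      (LTen₂ R).map (Prod.mkHom (𝟙 (Q.obj ((resCx φ).obj ((extCx φ).obj H))))
        (Q.map ((unitCx φ).app P))) := LTen₂_split _ _
  rw [s3, Category.assoc,
    reassoc_of% (ε_naturality_right ((resCx φ).obj ((extCx φ).obj H)) ((unitCx φ).app P)),
    ← Functor.map_comp]
  congr 3

end Groth.Agent.Lib.Helper13.PM
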