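import Groth.Agent.Lib.Helper13.ResExt1
import Groth.Agent.Lib.Helper13.WhiskerCochain

/-!
# Associativity of the lax monoidal structure of restriction of scalars on complexes
-/

set_option autoImplicit false
set_option maxHeartbeats 800000
set_option linter.style.haveILetI false
universe u
open CategoryTheory CategoryTheory.Limits MonoidalCategory TensorProduct

namespace Groth.Agent.Lib.Helper13.PM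

open HomologicalComplex DTen Groth.Agent.Lib.Helper13.RE Groth.Agent.Lib.Helper13.HT

variable {R R' : Type u} [CommRing R] [CommRing R'] (φ : R →+* R')

/-- Module-level associativity of `resTen₀app`. -/
lemma resTen₀app_assoc (M₁ M₂ M₃ : ModuleCat.{u} R') :
    (resTen₀app φ M₁ M₂ ▷ (resM φ).obj M₃) ≫ resTen₀app φ (M₁ ⊗ M₂) M₃ ≫
        (resM φ).map (α_ M₁ M₂ M₃).hom =
      (α_ ((resM φ).obj M₁) ((resM φ).obj M₂) ((resM φ).obj M₃)).hom ≫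
        ((resM φ).obj M₁ ◁ resTen₀app φ M₂ M₃) ≫ resTen₀app φ M₁ (M₂ ⊗ M₃) := by
  apply ModuleCat.hom_ext
  apply TensorProduct.ext_threefold
  intro x y z
  rfl


section Abstract

variable {C : Type*} [Category C] [MonoidalCategory C]

lemma chaseL {a b c ab ab' m T T' U V mc abc' : C}
    (ι₁ : a ⊗ b ⟶ ab) (ι₂ : ab ⊗ c ⟶ T) (f₁ : T ⟶ T') (g : ab ⟶ ab') (ι₂' : ab' ⊗ c ⟶ T')
    (f₂ : T' ⟶ U) (f₃ : U ⟶ V) (r : a ⊗ b ⟶ m) (μ : m ⟶ ab') (r' : ab' ⊗ c ⟶ abc')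
    (ν : abc' ⟶ U) (r'' : m ⊗ c ⟶ mc) (κ : mc ⟶ abc')
    (e6 : ι₂ ≫ f₁ = (g ▷ c) ≫ ι₂') (e8 : ι₁ ≫ g = r ≫ μ) (e7 : ι₂' ≫ f₂ = r' ≫ ν)
    (e9 : (μ ▷ c) ≫ r' = r'' ≫ κ) :
    (ι₁ ▷ c) ≫ ι₂ ≫ f₁ ≫ f₂ ≫ f₃ = (r ▷ c) ≫ r'' ≫ κ ≫ ν ≫ f₃ := by
  rw [reassoc_of% e6, ← MonoidalCategory.comp_whiskerRight_assoc, e8,
    MonoidalCategory.comp_whiskerRight_assoc, reassoc_of% e7, reassoc_of% e9]

lemma chaseR {a b c ab bc bc' T T₂ T₂' V : C} {n' : C}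
    (ι₁ : a ⊗ b ⟶ ab) (ι₂ : ab ⊗ c ⟶ T) (A : T ⟶ T₂) (h₁ : T₂ ⟶ T₂') (h₂ : T₂' ⟶ V)
    (j₁ : b ⊗ c ⟶ bc) (j₂ : a ⊗ bc ⟶ T₂) (k : bc ⟶ bc') (j₂' : a ⊗ bc' ⟶ T₂')
    (s : b ⊗ c ⟶ n') (σ : n' ⟶ bc') (s' : a ⊗ bc' ⟶ V)
    (e1 : (ι₁ ▷ c) ≫ ι₂ ≫ A = (α_ a b c).hom ≫ (a ◁ j₁) ≫ j₂)
    (e2 : j₂ ≫ h₁ = (a ◁ k) ≫ j₂') (e3 : j₂' ≫ h₂ = s')
    (e4 : j₁ ≫ k = s ≫ σ) :
    (ι₁ ▷ c) ≫ ι₂ ≫ A ≫ h₁ ≫ h₂ = (α_ a b c).hom ≫ (a ◁ s) ≫ (a ◁ σ) ≫ s' := by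
  rw [reassoc_of% e1, reassoc_of% e2, e3, ← MonoidalCategory.whiskerLeft_comp_assoc, e4,
    MonoidalCategory.whiskerLeft_comp_assoc]

lemma chaseFinal {V a b c m mc U₁ n' : C} {abc' U : C}
    (X₁ X₂ : (a ⊗ b) ⊗ c ⟶ V) (r : a ⊗ b ⟶ m) (r'' : m ⊗ c ⟶ mc) (κ : mc ⟶ abc') (ν : abc' ⟶ U)
    (f₃ : U ⟶ V) (A' : mc ⟶ U₁) (W' : U₁ ⟶ V) (s : b ⊗ c ⟶ n') (s₂ : a ⊗ n' ⟶ U₁)
    (hL : X₁ = (r ▷ c) ≫ r'' ≫ κ ≫ ν ≫ f₃)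
    (e11 : κ ≫ ν ≫ f₃ = A' ≫ W')
    (e12 : (r ▷ c) ≫ r'' ≫ A' = (α_ a b c).hom ≫ (a ◁ s) ≫ s₂)
    (hR : X₂ = (α_ a b c).hom ≫ (a ◁ s) ≫ s₂ ≫ W') : X₁ = X₂ := by
  rw [hL, hR, e11, reassoc_of% e12]

end Abstract

section Assoc

variable {A : Type u} [CommRing A]

/-- The component formula for the associator of complexes of modules. -/
lemma ι₁₂_associator_hom (K₁ K₂ K₃ : DRing.Cx A) (i₁ i₂ i₃ i₁₂ i₂₃ n : ℤ) (h₁₂ : i₁ + i₂ = i₁₂)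
    (h₂₃ : i₂ + i₃ = i₂₃) (h : i₁₂ + i₃ = n) :
    (ιTensorObj K₁ K₂ i₁ i₂ i₁₂ h₁₂ ▷ K₃.X i₃) ≫ ιTensorObj (K₁ ⊗ K₂) K₃ i₁₂ i₃ n h ≫
        (α_ K₁ K₂ K₃).hom.f n =
      (α_ (K₁.X i₁) (K₂.X i₂) (K₃.X i₃)).hom ≫ (K₁.X i₁ ◁ ιTensorObj K₂ K₃ i₂ i₃ i₂₃ h₂₃) ≫
        ιTensorObj K₁ (K₂ ⊗ K₃) i₁ i₂₃ n (by omega) := by
  have hr : ComplexShape.r (ComplexShape.up ℤ) (ComplexShape.up ℤ) (ComplexShape.up ℤ)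
      (ComplexShape.up ℤ) (ComplexShape.up ℤ) (i₁, i₂, i₃) = n := by
    change i₁ + i₂ + i₃ = n
    omega
  have key := ι_mapBifunctorAssociatorX_hom (curriedAssociatorNatIso (ModuleCat.{u} A)) K₁ K₂ K₃
    (ComplexShape.up ℤ) (ComplexShape.up ℤ) (ComplexShape.up ℤ) i₁ i₂ i₃ n hr
  rw [mapBifunctor₁₂.ι_eq _ _ K₁ K₂ K₃ (ComplexShape.up ℤ) (ComplexShape.up ℤ) i₁ i₂ i₃ i₁₂ n h₁₂ h,
    mapBifunctor₂₃.ι_eq _ _ K₁ K₂ K₃ (ComplexShape.up ℤ) (ComplexShape.up ℤ) (ComplexShape.up ℤ)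
      i₁ i₂ i₃ i₂₃ n h₂₃ (by change i₁ + i₂₃ = n; omega)] at key
  simp only [curriedAssociatorNatIso_hom_app_app_app, curriedTensor_obj_obj, curriedTensor_map_app,
    curriedTensor_obj_map, Category.assoc] at key
  exact key


/-- Maps out of a degree of `(K₁ ⊗ K₂) ⊗ K₃` are determined by the triple summands. -/
lemma hom_ext₁₂ (K₁ K₂ K₃ : DRing.Cx A) (n : ℤ) {Z : ModuleCat.{u} A}
    {f g : ((K₁ ⊗ K₂) ⊗ K₃).X n ⟶ Z}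
    (hfg : ∀ (i₁ i₂ i₃ i₁₂ : ℤ) (h₁₂ : i₁ + i₂ = i₁₂) (h : i₁₂ + i₃ = n),
      (ιTensorObj K₁ K₂ i₁ i₂ i₁₂ h₁₂ ▷ K₃.X i₃) ≫ ιTensorObj (K₁ ⊗ K₂) K₃ i₁₂ i₃ n h ≫ f =
        (ιTensorObj K₁ K₂ i₁ i₂ i₁₂ h₁₂ ▷ K₃.X i₃) ≫ ιTensorObj (K₁ ⊗ K₂) K₃ i₁₂ i₃ n h ≫ g) :
    f = g := by
  refine mapBifunctor₁₂.hom_ext (F₁₂ := curriedTensor (ModuleCat.{u} A))
    (G := curriedTensor (ModuleCat.{u} A)) (K₁ := K₁) (K₂ := K₂) (K₃ := K₃)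
    (c₁₂ := ComplexShape.up ℤ) (c₄ := ComplexShape.up ℤ) (fun i₁ i₂ i₃ hr => ?_)
  have hr' : i₁ + i₂ + i₃ = n := hr
  have := hfg i₁ i₂ i₃ (i₁ + i₂) rfl hr'
  rw [mapBifunctor₁₂.ι_eq _ _ K₁ K₂ K₃ (ComplexShape.up ℤ) (ComplexShape.up ℤ) i₁ i₂ i₃ (i₁ + i₂) n
    rfl hr']
  simp only [curriedTensor_obj_obj, curriedTensor_map_app, Category.assoc]
  exact this

end Assoc

/-- **Associativity** of the lax monoidal structure `resTenCx` of restriction of scalars. -/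
theorem resTenCx_assoc (Y B C : DRing.Cx R') :
    (resTenCx φ Y B ▷ (resCx φ).obj C) ≫ resTenCx φ (Y ⊗ B) C ≫ (resCx φ).map (α_ Y B C).hom =
      (α_ ((resCx φ).obj Y) ((resCx φ).obj B) ((resCx φ).obj C)).hom ≫
        ((resCx φ).obj Y ◁ resTenCx φ B C) ≫ resTenCx φ Y (B ⊗ C) := by
  refine HomologicalComplex.hom_ext _ _ (fun n => ?_)
  refine hom_ext₁₂ _ _ _ n (fun i₁ i₂ i₃ i₁₂ h₁₂ h => ?_)
  have h₂₃ : i₂ + i₃ = i₂ + i₃ := rfl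
  have hn : i₁ + (i₂ + i₃) = n := by omega
  -- the right hand side
  have hR : (ιTensorObj ((resCx φ).obj Y) ((resCx φ).obj B) i₁ i₂ i₁₂ h₁₂ ▷ ((resCx φ).obj C).X i₃) ≫
      ιTensorObj ((resCx φ).obj Y ⊗ (resCx φ).obj B) ((resCx φ).obj C) i₁₂ i₃ n h ≫
        ((α_ ((resCx φ).obj Y) ((resCx φ).obj B) ((resCx φ).obj C)).hom ≫
          ((resCx φ).obj Y ◁ resTenCx φ B C) ≫ resTenCx φ Y (B ⊗ C)).f n =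
      (α_ ((resM φ).obj (Y.X i₁)) ((resM φ).obj (B.X i₂)) ((resM φ).obj (C.X i₃))).hom ≫
        ((resM φ).obj (Y.X i₁) ◁ resTen₀app φ (B.X i₂) (C.X i₃)) ≫
          resTen₀app φ (Y.X i₁) (B.X i₂ ⊗ C.X i₃) ≫
            (resM φ).map ((Y.X i₁ ◁ ιTensorObj B C i₂ i₃ (i₂ + i₃) rfl) ≫
              ιTensorObj Y (B ⊗ C) i₁ (i₂ + i₃) n hn) := by
    rw [HomologicalComplex.comp_f, HomologicalComplex.comp_f]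
    have e1 := ι₁₂_associator_hom ((resCx φ).obj Y) ((resCx φ).obj B) ((resCx φ).obj C)
      i₁ i₂ i₃ i₁₂ (i₂ + i₃) n h₁₂ rfl h
    rw [← Category.assoc, ← Category.assoc, ← Category.assoc, Category.assoc _ _
      ((α_ ((resCx φ).obj Y) ((resCx φ).obj B) ((resCx φ).obj C)).hom.f n), e1]
    simp only [Category.assoc]
    have e2 : ιTensorObj ((resCx φ).obj Y) ((resCx φ).obj B ⊗ (resCx φ).obj C) i₁ (i₂ + i₃) n hn ≫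
        ((resCx φ).obj Y ◁ resTenCx φ B C).f n =
        (((resCx φ).obj Y).X i₁ ◁ (resTenCx φ B C).f (i₂ + i₃)) ≫
          ιTensorObj ((resCx φ).obj Y) ((resCx φ).obj (B ⊗ C)) i₁ (i₂ + i₃) n hn :=
      ι_whiskerLeft_f ((resCx φ).obj Y) (resTenCx φ B C) i₁ (i₂ + i₃) n hn
    have e3 : ιTensorObj ((resCx φ).obj Y) ((resCx φ).obj (B ⊗ C)) i₁ (i₂ + i₃) n hn ≫
        (resTenCx φ Y (B ⊗ C)).f n =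
        resTen₀app φ (Y.X i₁) ((B ⊗ C).X (i₂ + i₃)) ≫
          (resM φ).map (ιTensorObj Y (B ⊗ C) i₁ (i₂ + i₃) n hn) :=
      ι_resTenCx φ Y (B ⊗ C) i₁ (i₂ + i₃) n hn
    have e4 : ιTensorObj ((resCx φ).obj B) ((resCx φ).obj C) i₂ i₃ (i₂ + i₃) rfl ≫
        (resTenCx φ B C).f (i₂ + i₃) =
        resTen₀app φ (B.X i₂) (C.X i₃) ≫ (resM φ).map (ιTensorObj B C i₂ i₃ (i₂ + i₃) rfl) :=
      ι_resTenCx φ B C i₂ i₃ (i₂ + i₃) rfl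
    have e5 : ((resM φ).obj (Y.X i₁) ◁ (resM φ).map (ιTensorObj B C i₂ i₃ (i₂ + i₃) rfl)) ≫
        resTen₀app φ (Y.X i₁) ((B ⊗ C).X (i₂ + i₃)) =
        resTen₀app φ (Y.X i₁) (B.X i₂ ⊗ C.X i₃) ≫
          (resM φ).map (Y.X i₁ ◁ ιTensorObj B C i₂ i₃ (i₂ + i₃) rfl) := by
      have := resTen₀app_naturality φ (𝟙 (Y.X i₁)) (ιTensorObj B C i₂ i₃ (i₂ + i₃) rfl)
      rw [CategoryTheory.Functor.map_id, id_tensorHom, id_tensorHom] at this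
      exact this
    rw [reassoc_of% e2, e3, ← MonoidalCategory.whiskerLeft_comp_assoc, e4]
    erw [MonoidalCategory.whiskerLeft_comp_assoc]
    erw [reassoc_of% e5]
    simp only [Functor.map_comp]
    rfl
  have e6 : ιTensorObj ((resCx φ).obj Y ⊗ (resCx φ).obj B) ((resCx φ).obj C) i₁₂ i₃ n h ≫
      (resTenCx φ Y B ▷ (resCx φ).obj C).f n =
      ((resTenCx φ Y B).f i₁₂ ▷ ((resCx φ).obj C).X i₃) ≫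
        ιTensorObj ((resCx φ).obj (Y ⊗ B)) ((resCx φ).obj C) i₁₂ i₃ n h :=
    ι_whiskerRight_f (resTenCx φ Y B) ((resCx φ).obj C) i₁₂ i₃ n h
  have e7 : ιTensorObj ((resCx φ).obj (Y ⊗ B)) ((resCx φ).obj C) i₁₂ i₃ n h ≫
      (resTenCx φ (Y ⊗ B) C).f n =
      resTen₀app φ ((Y ⊗ B).X i₁₂) (C.X i₃) ≫
        (resM φ).map (ιTensorObj (Y ⊗ B) C i₁₂ i₃ n h) :=
    ι_resTenCx φ (Y ⊗ B) C i₁₂ i₃ n h
  have e8 : ιTensorObj ((resCx φ).obj Y) ((resCx φ).obj B) i₁ i₂ i₁₂ h₁₂ ≫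
      (resTenCx φ Y B).f i₁₂ =
      resTen₀app φ (Y.X i₁) (B.X i₂) ≫ (resM φ).map (ιTensorObj Y B i₁ i₂ i₁₂ h₁₂) :=
    ι_resTenCx φ Y B i₁ i₂ i₁₂ h₁₂
  have e9 : ((resM φ).map (ιTensorObj Y B i₁ i₂ i₁₂ h₁₂) ▷ (resM φ).obj (C.X i₃)) ≫
      resTen₀app φ ((Y ⊗ B).X i₁₂) (C.X i₃) =
      resTen₀app φ (Y.X i₁ ⊗ B.X i₂) (C.X i₃) ≫
        (resM φ).map (ιTensorObj Y B i₁ i₂ i₁₂ h₁₂ ▷ C.X i₃) := by
    have := resTen₀app_naturality φ (ιTensorObj Y B i₁ i₂ i₁₂ h₁₂) (𝟙 (C.X i₃))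
    rw [CategoryTheory.Functor.map_id, tensorHom_id, tensorHom_id] at this
    exact this
  have e11 := ι₁₂_associator_hom Y B C i₁ i₂ i₃ i₁₂ (i₂ + i₃) n h₁₂ rfl h
  have e11' : (resM φ).map (ιTensorObj Y B i₁ i₂ i₁₂ h₁₂ ▷ C.X i₃) ≫
      (resM φ).map (ιTensorObj (Y ⊗ B) C i₁₂ i₃ n h) ≫ (resM φ).map ((α_ Y B C).hom.f n) =
      (resM φ).map (α_ (Y.X i₁) (B.X i₂) (C.X i₃)).hom ≫
        (resM φ).map ((Y.X i₁ ◁ ιTensorObj B C i₂ i₃ (i₂ + i₃) rfl) ≫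
              ιTensorObj Y (B ⊗ C) i₁ (i₂ + i₃) n hn) := by
    simp only [← Functor.map_comp]
    exact congrArg _ e11
  have e12 := resTen₀app_assoc φ (Y.X i₁) (B.X i₂) (C.X i₃)
  have hL := chaseL (ιTensorObj ((resCx φ).obj Y) ((resCx φ).obj B) i₁ i₂ i₁₂ h₁₂)
    (ιTensorObj ((resCx φ).obj Y ⊗ (resCx φ).obj B) ((resCx φ).obj C) i₁₂ i₃ n h)
    ((resTenCx φ Y B ▷ (resCx φ).obj C).f n) ((resTenCx φ Y B).f i₁₂)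
    (ιTensorObj ((resCx φ).obj (Y ⊗ B)) ((resCx φ).obj C) i₁₂ i₃ n h)
    ((resTenCx φ (Y ⊗ B) C).f n) ((resM φ).map ((α_ Y B C).hom.f n))
    (resTen₀app φ (Y.X i₁) (B.X i₂)) ((resM φ).map (ιTensorObj Y B i₁ i₂ i₁₂ h₁₂))
    (resTen₀app φ ((Y ⊗ B).X i₁₂) (C.X i₃)) ((resM φ).map (ιTensorObj (Y ⊗ B) C i₁₂ i₃ n h))
    (resTen₀app φ (Y.X i₁ ⊗ B.X i₂) (C.X i₃))
    ((resM φ).map (ιTensorObj Y B i₁ i₂ i₁₂ h₁₂ ▷ C.X i₃)) e6 e8 e7 e9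
  exact chaseFinal _ _ _ _ _ _ _ _ _ _ _ hL e11' e12 hR

end Groth.Agent.Lib.Helper13.PM
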