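import Groth.Agent.Lib.Helper13.PM1
import Groth.Agent.Lib.Helper13.PM2

/-!
# The chain-level identification `S ⊗ X ≅ res (ext X)` and its compatibility with `st`
-/

set_option autoImplicit false
set_option maxHeartbeats 800000
set_option linter.style.haveILetI false
set_option linter.unusedSectionVars false
universe u
open CategoryTheory CategoryTheory.Limits MonoidalCategory

namespace Groth.Agent.Lib.Helper13.PM

section Abstract

variable {C D : Type*} [Category C] [Category D] [MonoidalCategory C] [MonoidalCategory D]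
  (G : D ⥤ C) (F : C ⥤ D) (u : ∀ X : C, X ⟶ G.obj (F.obj X))
  (μ : ∀ Y B : D, G.obj Y ⊗ G.obj B ⟶ G.obj (Y ⊗ B))
  (δ : ∀ X P : C, F.obj (X ⊗ P) ≅ F.obj X ⊗ F.obj P)

/-- abstract `resExtCx` -/
def rEA (Y : D) (K : C) : G.obj Y ⊗ K ⟶ G.obj (Y ⊗ F.obj K) :=
  (G.obj Y ◁ u K) ≫ μ Y (F.obj K)

/-- abstract `st` -/
def stA (X P : C) : G.obj (F.obj X) ⊗ P ⟶ G.obj (F.obj (X ⊗ P)) :=
  rEA G F u μ (F.obj X) P ≫ G.map (δ X P).inv

/-- abstract `ι` -/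
def ιA (X : C) : G.obj (𝟙_ D) ⊗ X ⟶ G.obj (F.obj X) :=
  rEA G F u μ (𝟙_ D) X ≫ G.map (λ_ (F.obj X)).hom

variable (μ_nat : ∀ {Y Y' Z Z' : D} (f : Y ⟶ Z) (g : Y' ⟶ Z'),
    (G.map f ⊗ₘ G.map g) ≫ μ Z Z' = μ Y Y' ≫ G.map (f ⊗ₘ g))

include μ_nat in
lemma μ_nat_left {Y Z : D} (f : Y ⟶ Z) (B : D) :
    (G.map f ▷ G.obj B) ≫ μ Z B = μ Y B ≫ G.map (f ▷ B) := by
  have := μ_nat f (𝟙 B)
  rwa [G.map_id, tensorHom_id, tensorHom_id] at this

include μ_nat in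
lemma μ_nat_right (Y : D) {B B' : D} (g : B ⟶ B') :
    (G.obj Y ◁ G.map g) ≫ μ Y B' = μ Y B ≫ G.map (Y ◁ g) := by
  have := μ_nat (𝟙 Y) g
  rwa [G.map_id, id_tensorHom, id_tensorHom] at this

include μ_nat in
lemma rEA_nat_left {Y Z : D} (f : Y ⟶ Z) (K : C) :
    (G.map f ▷ K) ≫ rEA G F u μ Z K = rEA G F u μ Y K ≫ G.map (f ▷ F.obj K) := by
  dsimp only [rEA]
  rw [← Category.assoc, ← whisker_exchange, Category.assoc, μ_nat_left G μ μ_nat, Category.assoc]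

variable (u_nat : ∀ {X X' : C} (f : X ⟶ X'), f ≫ u X' = u X ≫ G.map (F.map f))

include μ_nat u_nat in
lemma rEA_nat_right (Y : D) {K K' : C} (f : K ⟶ K') :
    (G.obj Y ◁ f) ≫ rEA G F u μ Y K' = rEA G F u μ Y K ≫ G.map (Y ◁ F.map f) := by
  dsimp only [rEA]
  rw [← Category.assoc, ← MonoidalCategory.whiskerLeft_comp, u_nat,
    MonoidalCategory.whiskerLeft_comp, Category.assoc, μ_nat_right G μ μ_nat, Category.assoc]

include μ_nat u_nat in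
lemma ιA_nat {X X' : C} (f : X ⟶ X') :
    (G.obj (𝟙_ D) ◁ f) ≫ ιA G F u μ X' = ιA G F u μ X ≫ G.map (F.map f) := by
  dsimp only [ιA]
  rw [← Category.assoc, rEA_nat_right G F u μ μ_nat u_nat, Category.assoc, Category.assoc,
    ← G.map_comp, ← G.map_comp, leftUnitor_naturality]

variable (AS : ∀ Y B C' : D, (μ Y B ▷ G.obj C') ≫ μ (Y ⊗ B) C' ≫ G.map (α_ Y B C').hom =
    (α_ (G.obj Y) (G.obj B) (G.obj C')).hom ≫ (G.obj Y ◁ μ B C') ≫ μ Y (B ⊗ C'))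
  (U : ∀ X P : C, u (X ⊗ P) ≫ G.map (δ X P).hom = (u X ⊗ₘ u P) ≫ μ (F.obj X) (F.obj P))

include μ_nat AS U in
lemma PFassoc (Y : D) (X P : C) :
    (rEA G F u μ Y X ▷ P) ≫ rEA G F u μ (Y ⊗ F.obj X) P ≫ G.map (α_ Y (F.obj X) (F.obj P)).hom =
      (α_ (G.obj Y) X P).hom ≫ rEA G F u μ Y (X ⊗ P) ≫ G.map (Y ◁ (δ X P).hom) := by
  dsimp only [rEA]
  have hR : (G.obj Y ◁ u (X ⊗ P)) ≫ μ Y (F.obj (X ⊗ P)) ≫ G.map (Y ◁ (δ X P).hom) =
      (G.obj Y ◁ (u X ⊗ₘ u P)) ≫ (G.obj Y ◁ μ (F.obj X) (F.obj P)) ≫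
        μ Y (F.obj X ⊗ F.obj P) := by
    rw [← μ_nat_right G μ μ_nat, ← Category.assoc, ← MonoidalCategory.whiskerLeft_comp, U,
      MonoidalCategory.whiskerLeft_comp, Category.assoc]
  have hA : ((G.obj Y ◁ u X) ▷ P) ≫ ((G.obj Y ⊗ G.obj (F.obj X)) ◁ u P) ≫
      (α_ (G.obj Y) (G.obj (F.obj X)) (G.obj (F.obj P))).hom =
      (α_ (G.obj Y) X P).hom ≫ (G.obj Y ◁ (u X ⊗ₘ u P)) := by
    rw [associator_naturality_right, associator_naturality_middle_assoc,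
      ← MonoidalCategory.whiskerLeft_comp, MonoidalCategory.tensorHom_def]
  simp only [Category.assoc]
  rw [hR, ← reassoc_of% hA, comp_whiskerRight, Category.assoc]
  congr 1
  rw [← whisker_exchange_assoc, AS]

include μ_nat AS U in
lemma C_abs (X P : C) :
    (ιA G F u μ X ▷ P) ≫ stA G F u μ δ X P =
      (α_ (G.obj (𝟙_ D)) X P).hom ≫ ιA G F u μ (X ⊗ P) := by
  have h1 := PFassoc G F u μ δ μ_nat AS U (𝟙_ D) X P
  have h2 := rEA_nat_left G F u μ μ_nat (λ_ (F.obj X)).hom P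
  have h3 : (λ_ (F.obj X)).hom ▷ F.obj P =
      (α_ (𝟙_ D) (F.obj X) (F.obj P)).hom ≫ (λ_ (F.obj X ⊗ F.obj P)).hom := by
    rw [leftUnitor_tensor_hom, Iso.hom_inv_id_assoc]
  have h4 : (𝟙_ D ◁ (δ X P).hom) ≫ (λ_ (F.obj X ⊗ F.obj P)).hom =
      (λ_ (F.obj (X ⊗ P))).hom ≫ (δ X P).hom := leftUnitor_naturality _
  dsimp only [ιA, stA]
  rw [comp_whiskerRight, Category.assoc, reassoc_of% h2, h3, G.map_comp, Category.assoc,
    reassoc_of% h1]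
  congr 2
  rw [← G.map_comp, ← G.map_comp, reassoc_of% h4, Iso.hom_inv_id, Category.comp_id]

end Abstract

open Groth.Agent.Lib.Helper13.RE Groth.Agent.Lib.Helper13.ET Groth.Agent.Lib.Helper13.HT
open Groth.Agent.Lib.Helper13.PC Groth.Agent.Lib.Helper13.DV Groth.Agent.Lib.Helper13.HOp DTen

variable {R R' : Type u} [CommRing R] [CommRing R'] (φ : R →+* R')

/-- The complex `S = res 𝟙`, i.e. `R'` in degree `0` as a complex of `R`-modules. -/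
noncomputable abbrev SCx : DRing.Cx R := (resCx φ).obj (𝟙_ (DRing.Cx R'))

/-- The chain-level identification `S ⊗ X ⟶ res (ext X)`. -/
noncomputable def ιCx (X : DRing.Cx R) : SCx φ ⊗ X ⟶ (resCx φ).obj ((extCx φ).obj X) :=
  resExtCx φ (𝟙_ (DRing.Cx R')) X ≫ (resCx φ).map (λ_ ((extCx φ).obj X)).hom

instance isIso_ιCx (X : DRing.Cx R) : IsIso (ιCx φ X) := by
  dsimp only [ιCx]
  infer_instance

lemma ιCx_naturality {X X' : DRing.Cx R} (f : X ⟶ X') :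
    (SCx φ ◁ f) ≫ ιCx φ X' = ιCx φ X ≫ (resCx φ).map ((extCx φ).map f) :=
  ιA_nat (resCx φ) (extCx φ) (fun X => (unitCx φ).app X) (fun Y B => resTenCx φ Y B)
    (fun f g => resTenCx_naturality φ f g) (fun f => (unitCx φ).naturality f) f

lemma ιCx_st (X P : DRing.Cx R) :
    (ιCx φ X ▷ P) ≫ st φ X P = (α_ (SCx φ) X P).hom ≫ ιCx φ (X ⊗ P) :=
  C_abs (resCx φ) (extCx φ) (fun X => (unitCx φ).app X) (fun Y B => resTenCx φ Y B)
    (fun X P => extTenIso φ X P) (fun f g => resTenCx_naturality φ f g)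
    (fun Y B C => resTenCx_assoc φ Y B C) (fun X P => unitCx_comp_res_extTenIso φ X P) X P

/-- The chain-level map `S ⊗ H ⟶ Hom•(P, S ⊗ L)`. -/
noncomputable def cS {H P L : DRing.Cx R} (q : H ⟶ DRing.homCx P L) :
    SCx φ ⊗ H ⟶ DRing.homCx P (SCx φ ⊗ L) :=
  curryHom ((α_ (SCx φ) H P).hom ≫ (SCx φ ◁ uncurryHom q))

lemma ιCx_cHat {H P L : DRing.Cx R} (q : H ⟶ DRing.homCx P L) :
    ιCx φ H ≫ cHat φ q = cS φ q ≫ DRing.homCxMap P (ιCx φ L) := by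
  apply uncurryHom_injective
  rw [uncurryHom_comp, uncurryHom_comp_homCxMap]
  dsimp only [cHat, cS]
  rw [uncurryHom_curryHom, uncurryHom_curryHom, reassoc_of% (ιCx_st φ H P), Category.assoc,
    ιCx_naturality]

end Groth.Agent.Lib.Helper13.PM
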