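import Groth.Agent.Lib.Helper13.RHomModel2
import Mathlib.Algebra.Homology.DerivedCategory.KInjective

/-!
# The chain-level model of `RHom(QP, QL)` for K-injective `L`
-/

set_option autoImplicit false
universe w v u
open CategoryTheory CategoryTheory.Limits MonoidalCategory Pretriangulated

namespace Groth.Agent.Lib.Helper13.KP

variable {C : Type u} [Category.{v} C] [Abelian C] [HasDerivedCategory.{w} C]

open DerivedCategory

lemma exists_Q_map_eq_of_isKInjective {K L : CochainComplex C ℤ} [L.IsKInjective]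
    (φ : Q.obj K ⟶ Q.obj L) : ∃ f : K ⟶ L, Q.map f = φ := by
  obtain ⟨g, hg⟩ := (CochainComplex.IsKInjective.Qh_map_bijective
    ((HomotopyCategory.quotient _ _).obj K) L).surjective
    ((quotientCompQhIso C).hom.app K ≫ φ ≫ (quotientCompQhIso C).inv.app L)
  obtain ⟨f, rfl⟩ := (HomotopyCategory.quotient _ _).map_surjective g
  refine ⟨f, ?_⟩
  have := quotientCompQhIso_hom_naturality f
  rw [hg] at this
  simpa using this.symm

lemma nonempty_homotopy_of_Q_map_eq_of_isKInjective {K L : CochainComplex C ℤ} [L.IsKInjective]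
    {f g : K ⟶ L} (h : Q.map f = Q.map g) : Nonempty (Homotopy f g) := by
  have h1 : Qh.map ((HomotopyCategory.quotient _ _).map f) =
      Qh.map ((HomotopyCategory.quotient _ _).map g) := by
    have hf := quotientCompQhIso_hom_naturality f
    have hg := quotientCompQhIso_hom_naturality g
    rw [h] at hf
    have := hf.trans hg.symm
    exact (cancel_mono _).1 this
  have h2 := (CochainComplex.IsKInjective.Qh_map_bijective
    ((HomotopyCategory.quotient _ _).obj K) L).injective h1
  exact ⟨HomotopyCategory.homotopyOfEq _ _ h2⟩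

end Groth.Agent.Lib.Helper13.KP

namespace Groth.Agent.Lib.Helper13.DV

open DTen Groth.Agent.Lib.Helper13.HT Groth.Agent.Lib.Helper13.SF Groth.Agent.Lib.Helper13.KP
open Groth.Agent.Lib.Helper13.DT

attribute [local instance] HasDerivedCategory.standard

variable {A : Type u} [CommRing A] [HasLTen A]

/-- The counit `QP ⊗^L QK ⟶ Q(P ⊗ K)` is an isomorphism when `P` is K-projective. -/
theorem isIso_ε_app_left (P K : DRing.Cx A) [P.IsKProjective] : IsIso ((ε A).app (P, K)) := by
  have nat := ε_naturality_right P (resMap K)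
  have h2 := isIso_ε_app_of_isKProjective A P (res K)
  have h1 : IsIso ((LTen₂ A).map (Prod.mkHom (𝟙 (DerivedCategory.Q.obj P))
      (DerivedCategory.Q.map (resMap K)))) :=
    inferInstanceAs (IsIso (((LTen A).obj (DerivedCategory.Q.obj P)).map
      (DerivedCategory.Q.map (resMap K))))
  have h3 : IsIso (DerivedCategory.Q.map (P ◁ resMap K)) := by
    have : QuasiIso (P ◁ resMap K) := by
      have := quasiIso_whiskerRight_of_kflat P (isKFlat_of_isKProjective P) (resMap K)
      rw [whiskerLeft_eq_braid]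
      infer_instance
    infer_instance
  have h4 : IsIso ((LTen₂ A).map (Prod.mkHom (𝟙 (DerivedCategory.Q.obj P))
      (DerivedCategory.Q.map (resMap K))) ≫ (ε A).app (P, K)) := by
    rw [nat]
    infer_instance
  exact IsIso.of_isIso_comp_left ((LTen₂ A).map (Prod.mkHom (𝟙 (DerivedCategory.Q.obj P))
      (DerivedCategory.Q.map (resMap K)))) _

variable [HasRHom A]

/-- The comparison map `Q(Hom•(P, L)) ⟶ RHom(QP, QL)` is an isomorphism for K-injective `L`. -/
theorem isIso_rhoCx_of_isKInjective (P L : DRing.Cx A) [L.IsKInjective] : IsIso (rhoCx P L) := by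
  apply isIso_of_yoneda_map_bijective
  intro W
  obtain ⟨X, hX, -, ⟨eW⟩⟩ := exists_kprojective_rep W
  have hε : IsIso ((ε A).app (X, P)) := isIso_ε_app_left X P
  constructor
  · intro φ φ' h
    dsimp only at h
    obtain ⟨u, hu⟩ := exists_Q_map_eq (eW.hom ≫ φ)
    obtain ⟨u', hu'⟩ := exists_Q_map_eq (eW.hom ≫ φ')
    have h1 : DerivedCategory.Q.map u ≫ rhoCx P L = DerivedCategory.Q.map u' ≫ rhoCx P L := by
      rw [hu, hu', Category.assoc, Category.assoc, h]
    have h2 := congrArg (rhomHomEquiv _ _ _).symm h1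
    rw [homEquiv_symm_Q_map_comp_rhoCx, homEquiv_symm_Q_map_comp_rhoCx, cancel_epi] at h2
    obtain ⟨H⟩ := nonempty_homotopy_of_Q_map_eq_of_isKInjective h2
    obtain ⟨H'⟩ := nonempty_homotopy_of_uncurryHom H
    have h3 := Q_map_eq_of_homotopy H'
    rw [hu, hu', cancel_epi] at h3
    exact h3
  · intro ψ
    obtain ⟨v, hv⟩ := exists_Q_map_eq_of_isKInjective (K := (tensorT A).obj (X, P)) (L := L)
      (inv ((ε A).app (X, P)) ≫ (rhomHomEquiv _ _ _).symm (eW.hom ≫ ψ))
    refine ⟨eW.inv ≫ DerivedCategory.Q.map (curryHom v), ?_⟩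
    dsimp only
    rw [Category.assoc, Iso.inv_comp_eq]
    apply (rhomHomEquiv _ _ _).symm.injective
    rw [homEquiv_symm_Q_map_comp_rhoCx, uncurryHom_curryHom, hv, IsIso.hom_inv_id_assoc]

end Groth.Agent.Lib.Helper13.DV
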