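import Groth.Agent.Lib.Helper13.GlobalMix1
import Groth.Agent.Lib.Helper13.DTenAssoc
import Groth.Agent.Lib.Helper13.DTenDev5
import Groth.Agent.Lib.Helper13.RHomModel3
import Groth.Agent.S13576

/-!
# Global instances: the derived triple tensor product and the symmetric monoidal binder
-/

set_option autoImplicit false
set_option maxHeartbeats 800000
set_option linter.unusedSectionVars false
set_option linter.style.haveILetI false

universe u
open CategoryTheory CategoryTheory.Limits MonoidalCategory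

namespace Groth.Agent.Lib.Helper13.PM

open DTen Groth.Agent.Lib.Helper13.DT Groth.Agent.Lib.Helper13.DR Groth.Agent.Lib.Helper13.SF
open Groth.Agent.Lib.Helper13.DerAbsL Groth.Agent.Lib.Helper13.DV
open DerivedCategory

attribute [local instance] HasDerivedCategory.standard

variable (A : Type u) [CommRing A]

/-- triples of K-projective complexes -/
def PTriple : DRing.Cx A × (DRing.Cx A × DRing.Cx A) → Prop :=
  fun X => CochainComplex.IsKProjective X.1 ∧ CochainComplex.IsKProjective X.2.1 ∧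
    CochainComplex.IsKProjective X.2.2

lemma isColocalObj_QQQ (X : DRing.Cx A × (DRing.Cx A × DRing.Cx A)) (hX : PTriple A X) :
    IsColocalObj (QQQ A) X := by
  obtain ⟨h1, h2, h3⟩ := hX
  rintro ⟨K, N, M⟩ ⟨f, g, h⟩
  obtain ⟨f', hf'⟩ := Groth.Agent.Lib.Helper13.KP.exists_Q_map_eq (K := X.1) (L := K) f
  obtain ⟨g', hg'⟩ := Groth.Agent.Lib.Helper13.KP.exists_Q_map_eq (K := X.2.1) (L := N) g
  obtain ⟨h', hh'⟩ := Groth.Agent.Lib.Helper13.KP.exists_Q_map_eq (K := X.2.2) (L := M) h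
  refine ⟨(Prod.mkHom f' (Prod.mkHom g' h' : X.2 ⟶ (N, M)) : X ⟶ (K, (N, M))), ?_⟩
  change (Prod.mkHom (Q.map f') (Prod.mkHom (Q.map g') (Q.map h')) :
    ((QQQ A).obj X ⟶ (QQQ A).obj (K, (N, M)))) = _
  rw [hf', hg', hh']

lemma enoughColocal_QQQ : EnoughColocal (QQQ A) (qis₃ A) (PTriple A) := by
  rintro ⟨K, N, M⟩
  obtain ⟨P, f, hP, -, hf⟩ := exists_kprojective_resolution K
  obtain ⟨P', f', hP', -, hf'⟩ := exists_kprojective_resolution N
  obtain ⟨P'', f'', hP'', -, hf''⟩ := exists_kprojective_resolution M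
  refine ⟨(P, (P', P'')), (Prod.mkHom f (Prod.mkHom f' f'' : (P', P'') ⟶ (N, M)) :
    (P, (P', P'')) ⟶ (K, (N, M))), ⟨?_, ?_, ?_⟩, ⟨hP, hP', hP''⟩,
    isColocalObj_QQQ A _ ⟨hP, hP', hP''⟩⟩
  · exact hf
  · exact hf'
  · exact hf''

lemma compat_QQQ : Compat (QQQ A) (PTriple A) (tensor₃ A) := by
  rintro ⟨I₁, I₂, I₃⟩ ⟨K₁, K₂, K₃⟩ ⟨f₁, f₂, f₃⟩ ⟨g₁, g₂, g₃⟩ ⟨h₁, h₂, h₃⟩ h
  have e1 : Q.map f₁ = Q.map g₁ := congrArg Prod.fst h
  have e2 : Q.map f₂ = Q.map g₂ := congrArg (fun x => x.2.1) h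
  have e3 : Q.map f₃ = Q.map g₃ := congrArg (fun x => x.2.2) h
  haveI : CochainComplex.IsKProjective I₁ := h₁
  haveI : CochainComplex.IsKProjective I₂ := h₂
  haveI : CochainComplex.IsKProjective I₃ := h₃
  have H1 := Groth.Agent.Lib.Helper13.PC.exists_homotopy_of_Q_map_eq f₁ g₁ e1
  have H2 := Groth.Agent.Lib.Helper13.PC.exists_homotopy_of_Q_map_eq f₂ g₂ e2
  have H3 := Groth.Agent.Lib.Helper13.PC.exists_homotopy_of_Q_map_eq f₃ g₃ e3
  obtain ⟨H⟩ := nonempty_homotopy_tensorHom H1 (nonempty_homotopy_tensorHom H2 H3)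
  have k1 : (tensorT₃ A).map ((f₁, f₂, f₃) : (I₁, I₂, I₃) ⟶ (K₁, K₂, K₃)) = f₁ ⊗ₘ (f₂ ⊗ₘ f₃) := by
    dsimp [tensorT₃]
    rw [← MonoidalCategory.tensorHom_def, ← MonoidalCategory.tensorHom_def]
  have k2 : (tensorT₃ A).map ((g₁, g₂, g₃) : (I₁, I₂, I₃) ⟶ (K₁, K₂, K₃)) = g₁ ⊗ₘ (g₂ ⊗ₘ g₃) := by
    dsimp [tensorT₃]
    rw [← MonoidalCategory.tensorHom_def, ← MonoidalCategory.tensorHom_def]
  change Q.map ((tensorT₃ A).map ((f₁, f₂, f₃) : (I₁, I₂, I₃) ⟶ (K₁, K₂, K₃))) =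
    Q.map ((tensorT₃ A).map ((g₁, g₂, g₃) : (I₁, I₂, I₃) ⟶ (K₁, K₂, K₃)))
  rw [k1, k2]
  exact DerivedCategory.Q_map_eq_of_homotopy _ H

/-- The derived triple tensor product exists over every commutative ring. -/
instance hasLTen₃ : HasLTen₃ A :=
  DerAbsL.hasLeftDerivedFunctor (L := QQQ A) (W := qis₃ A) (enoughColocal_QQQ A) (compat_QQQ A)

variable [HasLTen A]

/-- The symmetric monoidal binder holds over every commutative ring. -/
instance isSymMonoidal : IsSymMonoidal A where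
  isIso_symm := by
    have : ∀ X, IsIso ((symm A).app X) := fun X => Groth.Agent.S13576.result A X.1 X.2
    exact NatIso.isIso_of_isIso_app _
  isIso_unitL := by
    have : ∀ X, IsIso ((unitL A).app X) := fun X => by
      obtain ⟨P, hP, -, ⟨e⟩⟩ := exists_kprojective_rep X
      rw [← NatTrans.isIso_app_iff_of_iso (unitL A) e, unitL_app]
      have := isIso_ε_app_right (𝟙_ (DRing.Cx A)) P
      infer_instance
    exact NatIso.isIso_of_isIso_app _
  isIso_unitR := by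
    have : ∀ X, IsIso ((unitR A).app X) := fun X => by
      obtain ⟨P, hP, -, ⟨e⟩⟩ := exists_kprojective_rep X
      rw [← NatTrans.isIso_app_iff_of_iso (unitR A) e, unitR_app]
      have := isIso_ε_app_left P (𝟙_ (DRing.Cx A))
      infer_instance
    exact NatIso.isIso_of_isIso_app _
  isIso_assocL := by
    have : ∀ X, IsIso ((assocL A).app X) := fun X => isIso_assocL_app A X.1 X.2.1 X.2.2
    exact NatIso.isIso_of_isIso_app _
  isIso_assocR := by
    have : ∀ X, IsIso ((assocR A).app X) := fun X => isIso_assocR_app A X.1 X.2.1 X.2.2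
    exact NatIso.isIso_of_isIso_app _

end Groth.Agent.Lib.Helper13.PM
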