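import Groth.Agent.Lib.Helper13.RcoBC1

/-!
# Base change of `RHom_P(A, P)` along a tor-independent pushout, for a perfect quotient
-/

set_option autoImplicit false
universe u
open CategoryTheory CategoryTheory.Limits TensorProduct

namespace Groth.Agent.Lib.Helper13.RcoBC

open Groth.Agent.Lib.Helper13.BD Groth.Agent.Lib.Helper13.DR Groth.Agent.Lib.Helper13.PC
  Groth.Agent.Lib.Helper13.Coind Groth.Agent.Lib.Helper13.DualExt Groth.Agent.Lib.Helper13.Shriek
  Groth.Agent.Lib.Helper13.RelDual Groth.Agent.Lib.Helper13.HomBC Groth.Agent.Lib.Helper13.HDual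
open DerivedCategory Pretriangulated

attribute [local instance] HasDerivedCategory.standard

section Dual

variable (P A : Type u) [CommRing P] [CommRing A] [Algebra P A]

/-- `RHom_P(A, P)` restricted to `P` is the dual of any K-projective resolution of `A`. -/
theorem nonempty_dual_iso_res_Rco (E : DRing.Cx P) [E.IsKProjective]
    (e : DRing.toD E ≅ Dual.inD P A) :
    Nonempty (Q.obj (DRing.homCx E (VA P)) ≅ (DRing.restrictD (algebraMap P A)).obj
      ((Rco (algebraMap P A)).obj (Dual.inD P P))) := by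
  let e' : DRing.toD (singleB P A) ≅ DRing.toD E :=
    ((DerivedCategory.singleFunctorIsoCompQ (ModuleCat.{u} P) 0).app (ModuleCat.of P A)).symm ≪≫
      e.symm
  obtain ⟨i1⟩ := nonempty_RHomCx_iso_homCx_of_iso (singleB P A) E e' (VA P)
  obtain ⟨i2⟩ := nonempty_RHomCx_singleB_iso P A (DRing.toD (VA P))
  let i3 : DRing.toD (VA P) ≅ Dual.inD P P :=
    ((DerivedCategory.singleFunctorIsoCompQ (ModuleCat.{u} P) 0).app (ModuleCat.of P P)).symm
  exact ⟨i1.symm ≪≫ i2 ≪≫ (DRing.restrictD (algebraMap P A)).mapIso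
      ((Rco (algebraMap P A)).mapIso i3)⟩

/-- `A[0]|_P ≅ A[0]`. -/
noncomputable def resSelfIso :
    (DRing.restrictD (algebraMap P A)).obj (Dual.inD A A) ≅ Dual.inD P A :=
  restrictDSingleIso (algebraMap P A) (ModuleCat.of A A) ≪≫
    (DerivedCategory.singleFunctor (ModuleCat.{u} P) 0).mapIso (TI.eMA P A).symm

end Dual

section Main

variable (P A P' A' : Type u) [CommRing P] [CommRing A] [Algebra P A] [CommRing P'] [Algebra P P']
  [CommRing A'] [Algebra P A'] [Algebra A A'] [Algebra P' A'] [IsScalarTower P A A']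
  [IsScalarTower P P' A'] [Algebra.IsPushout P P' A A']

/-- The base change of a finite projective resolution of `A` resolves `A'`. -/
theorem nonempty_toD_ext_iso (hq : QuasiIso ((extC (algebraMap P P')).map (TI.PA P A).π'))
    (F : DRing.Cx P) [F.IsKProjective] (e : DRing.toD F ≅ Dual.inD P A) :
    Nonempty (DRing.toD ((extC (algebraMap P P')).obj F) ≅ Dual.inD P' A') := by
  have hcmp := TI.isIso_cmp' P A P' A' hq (LBaseChangeAdj _) (LBaseChangeAdj _)
    (TI.hsq P A P' A') (Dual.inD A A)
  have := isIso_αQ_app (algebraMap P P') F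
  exact ⟨(asIso ((αQ (algebraMap P P')).app F)).symm ≪≫
    (DRing.LBaseChange (algebraMap P P')).mapIso (e ≪≫ (resSelfIso P A).symm) ≪≫
    asIso (TrivBC.cmp (LBaseChangeAdj _) (LBaseChangeAdj _) (TI.hsq P A P' A') (Dual.inD A A)) ≪≫
    (DRing.restrictD (algebraMap P' A')).mapIso (LSelfIso A A') ≪≫ resSelfIso P' A'⟩

/-- **Base change of `RHom_P(A, P)`** along a tor-independent pushout square, when `A` is a
perfect quotient of `P`. -/
theorem nonempty_LBaseChange_Rco_iso (hs : Function.Surjective (algebraMap P A))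
    (hperf : DRing.IsPerfectModule P A)
    (hq : QuasiIso ((extC (algebraMap P P')).map (TI.PA P A).π')) :
    Nonempty ((DRing.LBaseChange (algebraMap A A')).obj
        ((Rco (algebraMap P A)).obj (Dual.inD P P)) ≅
      (Rco (algebraMap P' A')).obj (Dual.inD P' P')) := by
  obtain ⟨F, a, b, hv, hfp, ⟨e⟩⟩ := hperf
  have hF : F.IsKProjective := isKProjective_of_perfect F a b hv hfp
  have hFd : (DRing.homCx F (VA P)).IsKProjective :=
    isKProjective_of_perfect _ (-b) (-a) (vanishesOutside_dual F a b hv)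
      (termwiseFiniteProjective_dual F hfp)
  -- the base-changed resolution
  let F' := (extC (algebraMap P P')).obj F
  have hv' : DRing.VanishesOutside F' a b := vanishesOutside_ext P' F a b hv
  have hfp' : DRing.TermwiseFiniteProjective F' := termwiseFiniteProjective_ext P' F hfp
  have hF' : F'.IsKProjective := isKProjective_of_perfect F' a b hv' hfp'
  obtain ⟨e'⟩ := nonempty_toD_ext_iso P A P' A' hq F e
  have hperf' : DRing.IsPerfectModule P' A' := ⟨F', a, b, hv', hfp', ⟨e'⟩⟩
  have hs' : Function.Surjective (algebraMap P' A') :=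
    surjective_algebraMap_of_isPushout P A P' A' hs
  -- the two dual descriptions
  obtain ⟨iE⟩ := nonempty_dual_iso_res_Rco P A F e
  obtain ⟨iE'⟩ := nonempty_dual_iso_res_Rco P' A' F' e'
  set ω := (Rco (algebraMap P A)).obj (Dual.inD P P) with hω
  set ω' := (Rco (algebraMap P' A')).obj (Dual.inD P' P') with hω'
  set X := (DRing.LBaseChange (algebraMap A A')).obj ω with hX
  have hcmp := TI.isIso_cmp' P A P' A' hq (LBaseChangeAdj _) (LBaseChangeAdj _)
    (TI.hsq P A P' A') ω
  have hα := isIso_αQ_app (algebraMap P P') (DRing.homCx F (VA P))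
  -- `θ`
  let θ : (DRing.restrictD (algebraMap P' A')).obj X ≅
      (DRing.restrictD (algebraMap P' A')).obj ω' :=
    (asIso (TrivBC.cmp (LBaseChangeAdj _) (LBaseChangeAdj _) (TI.hsq P A P' A') ω)).symm ≪≫
    (DRing.LBaseChange (algebraMap P P')).mapIso iE.symm ≪≫
    asIso ((αQ (algebraMap P P')).app (DRing.homCx F (VA P))) ≪≫
    Q.mapIso (dualExtIso P' F hfp) ≪≫ iE'
  -- the candidate map
  let adj' := Coind.adj (algebraMap P' A')
  let ε' := adj'.counit.app (Dual.inD P' P')
  let g : X ⟶ ω' := adj'.homEquiv X (Dual.inD P' P') (θ.hom ≫ ε')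
  have hg : (DRing.restrictD (algebraMap P' A')).map g ≫ ε' = θ.hom ≫ ε' := by
    have := adj'.homEquiv_counit (X := X) (Y := Dual.inD P' P') (g := g)
    rw [← this]
    exact (adj'.homEquiv X (Dual.inD P' P')).symm_apply_apply _
  let u : (DRing.restrictD (algebraMap P' A')).obj ω' ⟶
      (DRing.restrictD (algebraMap P' A')).obj ω' :=
    θ.inv ≫ (DRing.restrictD (algebraMap P' A')).map g
  have hu : u ≫ ε' = ε' := by
    change (θ.inv ≫ _) ≫ ε' = ε'
    rw [Category.assoc, hg, Iso.inv_hom_id_assoc]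
  -- every map `E' → P'` is a multiple of `ε'`
  have hend' := RcoEnd.bijective_smul_id P' A' hs' hperf'
  have hε' : adj'.homEquiv ω' (Dual.inD P' P') ε' = 𝟙 ω' := by
    apply (adj'.homEquiv ω' (Dual.inD P' P')).symm.injective
    rw [Equiv.symm_apply_apply, Adjunction.homEquiv_counit, CategoryTheory.Functor.map_id,
      Category.id_comp]
  have key : ∀ s : (DRing.restrictD (algebraMap P' A')).obj ω' ⟶ Dual.inD P' P',
      u ≫ s = s := by
    intro s
    obtain ⟨a', ha'⟩ := hend'.2 (adj'.homEquiv ω' (Dual.inD P' P') s)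
    obtain ⟨p', rfl⟩ := hs' a'
    have hs1 : s = p' • ε' := by
      apply (adj'.homEquiv ω' (Dual.inD P' P')).injective
      rw [adj_homEquiv_smul, hε']
      exact ha'.symm
    rw [hs1, Linear.comp_smul, hu]
  -- bijectivity on all `Hom(-, P'⟦i⟧)`
  have hbij : ∀ i : ℤ, Function.Bijective
      (fun t : (DRing.restrictD (algebraMap P' A')).obj ω' ⟶ (Dual.inD P' P')⟦i⟧ => u ≫ t) := by
    intro i
    by_cases hi : i = 0
    · subst hi
      let z := (shiftFunctorZero (Dual.D P') ℤ).app (Dual.inD P' P')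
      have hid : ∀ t : (DRing.restrictD (algebraMap P' A')).obj ω' ⟶ (Dual.inD P' P')⟦(0 : ℤ)⟧,
          u ≫ t = t := by
        intro t
        have := key (t ≫ z.hom)
        rw [← Category.assoc] at this
        exact (cancel_mono z.hom).1 this
      exact ⟨fun t t' h => by simpa only [hid] using h, fun t => ⟨t, hid t⟩⟩
    · obtain ⟨L⟩ := RcoEnd.nonempty_hom_res_Rco_equiv P' A' hperf' i
      have hz : IsZero ((DerivedCategory.homologyFunctor (ModuleCat.{u} P') i).obj
          (Dual.inD P' A')) := PC.isZero_homology_single 0 i hi _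
      have s0 : Subsingleton (Dual.HD P' (Dual.inD P' A') i) :=
        ModuleCat.subsingleton_of_isZero hz
      have s1 : Subsingleton ((DRing.restrictD (algebraMap P' A')).obj ω' ⟶
          (Dual.inD P' P')⟦i⟧) := L.toEquiv.subsingleton
      exact ⟨fun t t' _ => Subsingleton.elim t t', fun t => ⟨t, Subsingleton.elim _ _⟩⟩
  have hE' : DRing.IsPerfect P' ((DRing.restrictD (algebraMap P' A')).obj ω') :=
    isPerfect_res_Rco P' A' hperf'
  have hiu : IsIso u := isIso_of_bijective_precomp u hE' hE' hbij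
  have hig' : IsIso ((DRing.restrictD (algebraMap P' A')).map g) := by
    have : (DRing.restrictD (algebraMap P' A')).map g = θ.hom ≫ u := by
      change _ = θ.hom ≫ θ.inv ≫ _
      rw [Iso.hom_inv_id_assoc]
    rw [this]
    infer_instance
  have hig : IsIso g := isIso_of_isIso_restrictD (algebraMap P' A') g hig'
  exact ⟨asIso g⟩

end Main

end Groth.Agent.Lib.Helper13.RcoBC
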