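import Groth.Agent.Lib.Helper13.PM3
import Groth.Agent.Lib.Helper13.PM4
import Groth.Agent.Lib.Helper13.DTenDev1
import Groth.Agent.Lib.Helper13.RHomModel3
import Groth.Agent.Lib.Helper13.RcoBC2
import Groth.Agent.S13892

/-!
# The base change map for `RHom` along a ring map `R → R'` with `R'` perfect over `R`
-/

set_option autoImplicit false
set_option maxHeartbeats 800000
set_option linter.style.haveILetI false
set_option linter.unusedSectionVars false
universe u
open CategoryTheory CategoryTheory.Limits MonoidalCategory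

namespace Groth.Agent.Lib.Helper13.PM

open Groth.Agent.Lib.Helper13.PC Groth.Agent.Lib.Helper13.SF Groth.Agent.Lib.Helper13.Kan
open Groth.Agent.Lib.Helper13.DR Groth.Agent.Lib.Helper13.HT Groth.Agent.Lib.Helper13.DT
open Groth.Agent.Lib.Helper13.ET Groth.Agent.Lib.Helper13.DV Groth.Agent.Lib.Helper13.RE
open Groth.Agent.Lib.Helper13.HOp
open DerivedCategory DTen

attribute [local instance] HasDerivedCategory.standard

section Bridge

variable {A : Type u} [CommRing A] [HasLTen A]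

/-- Chain-level characterisation of the derived associator. -/
lemma associator_hom_fac (S H P : DRing.Cx A) :
    (DTen.associator (Q.obj S) (Q.obj H) (Q.obj P)).hom ≫
      (LTen₂ A).map (Prod.mkHom (𝟙 (Q.obj S)) ((ε A).app (H, P))) ≫ (ε A).app (S, H ⊗ P) =
    (LTen₂ A).map (Prod.mkHom ((ε A).app (S, H)) (𝟙 (Q.obj P))) ≫ (ε A).app (S ⊗ H, P) ≫
      Q.map (α_ S H P).hom := by
  have h1 := assocR_fac A (S, (H, P))
  have h2 := assocL_fac A (S, (H, P))
  have h3 := associator_hom_assocR (Q.obj S) (Q.obj H) (Q.obj P)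
  change _ ≫ (βR A).app (S, (H, P)) = (βL A).app (S, (H, P))
  rw [← h1, ← h2]
  exact (Category.assoc _ _ _).symm.trans (congrArg (· ≫ (ε₃ A).app (S, (H, P))) h3)

variable [HasRHom A]

lemma bridge {S H P L : DRing.Cx A} (q : H ⟶ DRing.homCx P L) :
    ((LTen₂ A).map (Prod.mkHom (𝟙 (Q.obj S)) (Q.map q ≫ rhoCx P L)) ≫
        evalTen (Q.obj S) (Q.obj L) (Q.obj P)) ≫ (RHomR A (Q.obj P)).map ((ε A).app (S, L)) =
      (ε A).app (S, H) ≫ (Q.map (curryHom ((α_ S H P).hom ≫ (S ◁ uncurryHom q))) ≫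
        rhoCx P (S ⊗ L)) := by
  apply (rhomHomEquiv _ _ _).symm.injective
  rw [adj_symm_comp_right, adj_symm_comp_left, adj_symm_comp_left]
  erw [homEquiv_symm_Q_map_comp_rhoCx]
  rw [uncurryHom_curryHom]
  have hb : (rhomHomEquiv _ _ _).symm (evalTen (Q.obj S) (Q.obj L) (Q.obj P)) =
      evalTenAux (Q.obj S) (Q.obj L) (Q.obj P) := by
    dsimp only [evalTen]
    exact Equiv.symm_apply_apply _ _
  rw [hb]
  dsimp only [evalTenAux]
  have n1 := associator_naturality (𝟙 (Q.obj S)) (Q.map q ≫ rhoCx P L) (𝟙 (Q.obj P))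
  have a1 := homEquiv_symm_Q_map_comp_rhoCx q
  rw [adj_symm] at a1
  have e1 := ε_naturality_right S (uncurryHom q)
  have f1 := associator_hom_fac S H P
  simp only [Category.assoc]
  rw [reassoc_of% n1, ← Category.assoc ((LTen₂ A).map _) ((LTen₂ A).map _), LTen₂_map_comp,
    Category.comp_id, a1, ← Category.comp_id (𝟙 (Q.obj S)), ← LTen₂_map_comp, Category.assoc,
    e1, reassoc_of% f1, Functor.map_comp]
  rfl

end Bridge

section Main

variable {R R' : Type u} [CommRing R] [CommRing R'] (φ : R →+* R')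
  [HasLTen R] [HasLTen R'] [HasRHom R] [HasRHom R'] [HasLBase φ] [HasResTen φ] [ResLegIso φ]

omit [HasLTen R] [HasRHom R] in
lemma isPerfect_of_iso {K K' : Dual.D R} (e : K ≅ K') (h : DRing.IsPerfect R K) :
    DRing.IsPerfect R K' := by
  obtain ⟨E, a, b, h1, h2, ⟨i⟩⟩ := h
  exact ⟨E, a, b, h1, h2, ⟨i ≪≫ e⟩⟩

omit [HasLTen R'] [HasRHom R'] [HasLBase φ] [HasResTen φ] [ResLegIso φ] in
theorem quasiIso_cS (hS : DRing.IsPerfect R (Q.obj (SCx φ))) {H P L : DRing.Cx R}
    [P.IsKProjective] [L.IsKProjective] [H.IsKProjective] (q : H ⟶ DRing.homCx P L) [QuasiIso q] :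
    QuasiIso (cS φ q) := by
  rw [← isIso_Q_map_iff_quasiIso]
  have hb := bridge (S := SCx φ) q
  have i1 : IsIso (Q.map q) := by
    rw [isIso_Q_map_iff_quasiIso]
    infer_instance
  have i2 := isIso_rhoCx P L
  have i3 : IsIso ((LTen₂ R).map (Prod.mkHom (𝟙 (Q.obj (SCx φ))) (Q.map q ≫ rhoCx P L))) :=
    isIso_LTen₂_map _ _
  have i4 : IsIso (evalTen (Q.obj (SCx φ)) (Q.obj L) (Q.obj P)) :=
    Groth.Agent.S13892.result R _ _ _ hS
  have i5 := isIso_ε_app_right (SCx φ) L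
  have i6 := isIso_ε_app_right (SCx φ) H
  have i7 := isIso_rhoCx P (SCx φ ⊗ L)
  have i8 : IsIso ((ε R).app (SCx φ, H) ≫ (Q.map (cS φ q) ≫ rhoCx P (SCx φ ⊗ L))) := by
    have : IsIso (((LTen₂ R).map (Prod.mkHom (𝟙 (Q.obj (SCx φ))) (Q.map q ≫ rhoCx P L)) ≫
        evalTen (Q.obj (SCx φ)) (Q.obj L) (Q.obj P)) ≫
          (RHomR R (Q.obj P)).map ((ε R).app (SCx φ, L))) := inferInstance
    rw [hb] at this
    exact this
  have i9 : IsIso (Q.map (cS φ q) ≫ rhoCx P (SCx φ ⊗ L)) :=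
    IsIso.of_isIso_comp_left ((ε R).app (SCx φ, H)) _
  exact IsIso.of_isIso_comp_right _ (rhoCx P (SCx φ ⊗ L))

theorem isIso_bcRHom_QQ (hS : DRing.IsPerfect R (Q.obj (SCx φ))) (P L : DRing.Cx R)
    [P.IsKProjective] [L.IsKProjective] : IsIso (bcRHom φ (Q.obj P) (Q.obj L)) := by
  obtain ⟨H, q, hH, -, hq⟩ := exists_kprojective_resolution (DRing.homCx P L)
  have hcS := quasiIso_cS φ hS q
  have hD := ιCx_cHat φ q
  have hc : QuasiIso (cHat φ q) := by
    have e : cHat φ q = inv (ιCx φ H) ≫ cS φ q ≫ DRing.homCxMap P (ιCx φ L) := by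
      rw [← hD, IsIso.inv_hom_id_assoc]
    have : IsIso (DRing.homCxMap P (ιCx φ L)) :=
      (inferInstance : IsIso ((DRing.homCxFunctor P).map (ιCx φ L)))
    rw [e]
    infer_instance
  have hQc : IsIso (Q.map (cHat φ q)) := by
    rw [isIso_Q_map_iff_quasiIso]
    exact hc
  have k := res_betaPP_rhomBC φ q
  have b1 := isIso_baseCmp_app_of_isKProjective φ H
  have b2 := isIso_baseCmp_app_of_isKProjective φ L
  have r1 := isIso_rhoCx P ((resCx φ).obj ((extCx φ).obj L))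
  have j1 : IsIso (((DRing.restrictD φ).map (rhomHomEquiv _ _ _ (gMap φ q)) ≫
      rhomBC φ (Q.obj P) (Q.obj ((extCx φ).obj L))) ≫
      (RHomR R (Q.obj P)).map ((resFactors φ).hom.app ((extCx φ).obj L))) := by
    rw [k]
    infer_instance
  have j2 : IsIso ((DRing.restrictD φ).map (rhomHomEquiv _ _ _ (gMap φ q)) ≫
      rhomBC φ (Q.obj P) (Q.obj ((extCx φ).obj L))) :=
    IsIso.of_isIso_comp_right _
      ((RHomR R (Q.obj P)).map ((resFactors φ).hom.app ((extCx φ).obj L)))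
  have j3 : IsIso ((DRing.restrictD φ).map (rhomHomEquiv _ _ _ (gMap φ q))) :=
    IsIso.of_isIso_comp_right _ (rhomBC φ (Q.obj P) (Q.obj ((extCx φ).obj L)))
  have j4 : IsIso (rhomHomEquiv _ _ _ (gMap φ q)) := Groth.Agent.Lib.Helper13.RcoBC.isIso_of_isIso_restrictD φ _ j3
  have k2 := betaPP_eq φ q
  rw [← k2] at j4
  have i1 : IsIso (Q.map q) := by
    rw [isIso_Q_map_iff_quasiIso]
    infer_instance
  have i2 := isIso_rhoCx P L
  have j5 : IsIso ((LBase φ).map (Q.map q ≫ rhoCx P L) ≫ bcRHom φ (Q.obj P) (Q.obj L)) :=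
    IsIso.of_isIso_comp_right _
      ((RHomR R' ((LBase φ).obj (Q.obj P))).map ((baseCmp φ).app L))
  exact IsIso.of_isIso_comp_left ((LBase φ).map (Q.map q ≫ rhoCx P L)) _

/-- `bcRHom` is natural in `M`. -/
lemma bcRHom_naturality_right (K : Dual.D R) {M M' : Dual.D R} (f : M ⟶ M') :
    (LBase φ).map ((RHomR R K).map f) ≫ bcRHom φ K M' =
      bcRHom φ K M ≫ (RHomR R' ((LBase φ).obj K)).map ((LBase φ).map f) := by
  apply (rhomHomEquiv _ _ _).symm.injective
  rw [adj_symm_comp_left, adj_symm_comp_right, adj_symm, adj_symm]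
  have := isIso_psiSharp φ ((RHomR R K).obj M) K
  rw [← cancel_epi (psiSharp φ ((RHomR R K).obj M) K)]
  have n1 := psiSharp_naturality φ ((RHomR R K).map f) (𝟙 K)
  rw [CategoryTheory.Functor.map_id] at n1
  have c1 := psiSharp_bcRHom_ev φ K M
  have c2 := psiSharp_bcRHom_ev φ K M'
  have r1 : (LTen₂ R).map (Prod.mkHom ((RHomR R K).map f) (𝟙 K)) ≫ ev K M' = ev K M ≫ f :=
    (rhomAdj R K).counit.naturality f
  simp only [Category.assoc]
  rw [← reassoc_of% n1, c2, reassoc_of% c1, ← Functor.map_comp, ← Functor.map_comp, r1]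

/-- The base change map for `RHom` is an isomorphism as soon as `R'` is perfect over `R`. -/
theorem isIso_bcRHom_of_isPerfect_unit (hS : DRing.IsPerfect R (Q.obj (SCx φ))) (K M : Dual.D R) :
    IsIso (bcRHom φ K M) := by
  obtain ⟨P, hP, -, ⟨eK⟩⟩ := exists_kprojective_rep K
  obtain ⟨L, hL, -, ⟨eM⟩⟩ := exists_kprojective_rep M
  have h0 := isIso_bcRHom_QQ φ hS P L
  have n1 := bcRHom_naturality_right φ (Q.obj P) eM.hom
  have h1 : IsIso (bcRHom φ (Q.obj P) M) := by
    have : IsIso ((LBase φ).map ((RHomR R (Q.obj P)).map eM.hom) ≫ bcRHom φ (Q.obj P) M) := by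
      rw [n1]
      infer_instance
    exact IsIso.of_isIso_comp_left ((LBase φ).map ((RHomR R (Q.obj P)).map eM.hom)) _
  exact (NatTrans.isIso_app_iff_of_iso (bcNat φ M) eK.op).2 h1

end Main

end Groth.Agent.Lib.Helper13.PM
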