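import Groth.Agent.Lib.Helper13.DRingExt3
import Groth.Agent.Lib.Helper13.DCNak3

set_option autoImplicit false
set_option maxHeartbeats 800000
set_option linter.style.haveILetI false
universe u
open CategoryTheory CategoryTheory.Limits Pretriangulated

namespace Groth.Agent.Lib.Helper13.PSF

open Groth.Agent.Lib.Helper13.PC Groth.Agent.Lib.Helper13.DR Groth.Agent.Lib.Helper13.DCN
open DerivedCategory
attribute [local instance] HasDerivedCategory.standard

variable {A : Type u} [CommRing A] (I : Ideal A)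

/-- `M ↦ M[0]`. -/
noncomputable abbrev sF : ModuleCat.{u} A ⥤ Dual.D A :=
  DerivedCategory.singleFunctor (ModuleCat.{u} A) 0

/-- Artin–Rees vanishing: every map `M[0] ⟶ W` from a finite module dies on `I^n M` for some `n`. -/
def ARV : ObjectProperty (Dual.D A) := fun W =>
  ∀ (M : ModuleCat.{u} A), Module.Finite A M → ∀ (φ : sF.obj M ⟶ W),
    ∃ n : ℕ, ∀ (L : ModuleCat.{u} A) (g : L ⟶ M),
      (∀ x, g.hom x ∈ (I ^ n • ⊤ : Submodule A M)) → sF.map g ≫ φ = 0

instance : (ARV I).IsClosedUnderIsomorphisms where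
  of_iso {X Y} e h := by
    intro M hM φ
    obtain ⟨n, hn⟩ := h M hM (φ ≫ e.inv)
    refine ⟨n, fun L g hg => ?_⟩
    have := hn L g hg
    rw [← Category.assoc] at this
    have h2 := congrArg (fun t => t ≫ e.hom) this
    simpa using h2

lemma arv_zero (Z : Dual.D A) (hZ : IsZero Z) : ARV I Z :=
  fun _ _ _ => ⟨0, fun _ _ _ => hZ.eq_of_tgt _ _⟩

lemma map_pow_smul_top (M : Type u) [AddCommGroup M] [Module A M] (n n' : ℕ) :
    (I ^ n' • (⊤ : Submodule A ↥(I ^ n • ⊤ : Submodule A M))).map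
      (I ^ n • ⊤ : Submodule A M).subtype = I ^ (n' + n) • ⊤ := by
  rw [Submodule.map_smul'', Submodule.map_top, Submodule.range_subtype, pow_add,
    Submodule.mul_smul]

lemma arv_ext [IsNoetherianRing A] (T : Triangle (Dual.D A)) (hT : T ∈ distTriang (Dual.D A))
    (h₁ : ARV I T.obj₁) (h₃ : ARV I T.obj₃) : ARV I T.obj₂ := by
  intro M hM φ
  obtain ⟨n, hn⟩ := h₃ M hM (φ ≫ T.mor₂)
  let Mn : ModuleCat.{u} A := ModuleCat.of A ↥(I ^ n • ⊤ : Submodule A M)
  let jn : Mn ⟶ M := ModuleCat.ofHom (I ^ n • ⊤ : Submodule A M).subtype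
  have h0 : (sF.map jn ≫ φ) ≫ T.mor₂ = 0 := by
    rw [Category.assoc]
    exact hn Mn jn (fun x => x.2)
  obtain ⟨ψ, hψ⟩ := Triangle.coyoneda_exact₂ T hT (sF.map jn ≫ φ) h0
  have hMn : Module.Finite A Mn := by
    change Module.Finite A ↥(I ^ n • ⊤ : Submodule A M)
    infer_instance
  obtain ⟨n', hn'⟩ := h₁ Mn hMn ψ
  refine ⟨n' + n, fun L g hg => ?_⟩
  have hle : (I ^ (n' + n) • ⊤ : Submodule A M) ≤ I ^ n • ⊤ :=
    Submodule.smul_mono_left (Ideal.pow_le_pow_right (by lia))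
  let g' : L ⟶ Mn := ModuleCat.ofHom (LinearMap.codRestrict _ g.hom (fun x => hle (hg x)))
  have hg' : g' ≫ jn = g := by
    ext x
    rfl
  have hmem : ∀ x, g'.hom x ∈ (I ^ n' • ⊤ : Submodule A Mn) := by
    intro x
    have hx := hg x
    rw [← map_pow_smul_top I M n n'] at hx
    obtain ⟨z, hz, hzx⟩ := hx
    have : g'.hom x = z := Subtype.ext hzx.symm
    rw [this]
    exact hz
  rw [← hg', Functor.map_comp, Category.assoc, hψ, ← Category.assoc, hn' L g' hmem, zero_comp]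

lemma arv_single [IsNoetherianRing A] (N : ModuleCat.{u} A) (k : ℕ)
    (hk : ∀ a ∈ I ^ k, ∀ y : N, a • y = 0) (p : ℕ) :
    ARV I ((shiftFunctor (Dual.D A) (p : ℤ)).obj (sF.obj N)) := by
  intro M hM φ
  obtain ⟨c, hc⟩ := extARProp I N p M hM
  refine ⟨k + c, fun L g hg => ?_⟩
  obtain ⟨e', he'⟩ := hc (k + c) k le_rfl φ
  have hbot : (I ^ k • ⊤ : Submodule A N) = ⊥ := by
    rw [eq_bot_iff, Submodule.smul_le]
    intro a ha y _
    rw [hk a ha y]
    exact Submodule.zero_mem _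
  have hsub : Subsingleton ↥(I ^ k • ⊤ : Submodule A N) := by
    rw [hbot]
    infer_instance
  have hz : IsZero ((shiftFunctor (Dual.D A) (p : ℤ)).obj
      (sF.obj (ModuleCat.of A ↥(I ^ k • ⊤ : Submodule A N)))) :=
    Functor.map_isZero _ (Functor.map_isZero _ (ModuleCat.isZero_of_subsingleton _))
  have he0 : e' = 0 := hz.eq_of_tgt _ _
  rw [he0, zero_comp] at he'
  let Mn : ModuleCat.{u} A := ModuleCat.of A ↥(I ^ (k + c) • ⊤ : Submodule A M)
  let jn : Mn ⟶ M := ModuleCat.ofHom (I ^ (k + c) • ⊤ : Submodule A M).subtype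
  let g' : L ⟶ Mn := ModuleCat.ofHom (LinearMap.codRestrict _ g.hom hg)
  have hg' : g' ≫ jn = g := by
    ext x
    rfl
  rw [← hg', Functor.map_comp, Category.assoc]
  have : sF.map jn ≫ φ = 0 := he'.symm
  rw [this, comp_zero]

/-- Objects with bounded cohomology killed by a power of `I` have the Artin–Rees vanishing
property. -/
theorem arv_of_bdd_tors [IsNoetherianRing A] (l : List A) (F : Dual.D A) (a : ℤ) (hB : Bdd a F)
    (hT : Tors {s | s ∈ l} F) : ARV (Ideal.span {s | s ∈ l}) F := by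
  refine devissage_homology (ARV (Ideal.span {s | s ∈ l})) (arv_ext _) (arv_zero _) F a 0 hB
    (fun i => ?_)
  by_cases hi : i < a ∨ 0 < i
  · exact arv_zero _ _ (Functor.map_isZero _ (hB i hi))
  · obtain ⟨k, hk⟩ := exists_pow_smul_eq_zero l ((Hi i).obj F) (fun s hs => by
      obtain ⟨N, hN⟩ := hT s hs
      exact ⟨N, fun x => hN i x⟩)
    obtain ⟨p, hp⟩ : ∃ p : ℕ, (p : ℤ) = -i := ⟨(-i).toNat, Int.toNat_of_nonneg (by lia)⟩
    have h1 := arv_single (Ideal.span {s | s ∈ l}) ((Hi i).obj F) k hk p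
    have e : (shiftFunctor (Dual.D A) (p : ℤ)).obj (sF.obj ((Hi i).obj F)) ≅
        (DerivedCategory.singleFunctor (ModuleCat.{u} A) i).obj ((Hi i).obj F) := by
      have e' := (inDShiftIso (A := A) (p : ℤ)).app ((Hi i).obj F)
      have hpi : -(p : ℤ) = i := by lia
      rw [hpi] at e'
      exact e'
    exact (ARV (Ideal.span {s | s ∈ l})).prop_of_iso e h1

end Groth.Agent.Lib.Helper13.PSF
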