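import Groth.Agent.Lib.Helper13.DCNak3
import Groth.Agent.Lib.Helper13.ACF6

set_option autoImplicit false
set_option maxHeartbeats 800000
set_option linter.style.haveILetI false
universe u
open CategoryTheory CategoryTheory.Limits MonoidalCategory Pretriangulated
open CochainComplex HomologicalComplex

namespace Groth.Agent.Lib.Helper13.PSF

open Groth.Agent.Lib.Helper13.PC Groth.Agent.Lib.Helper13.DR Groth.Agent.Lib.Helper13.DCN
  Groth.Agent.Lib.Helper13.DT
open DerivedCategory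
attribute [local instance] HasDerivedCategory.standard

variable {A : Type u} [CommRing A]

/-- Maps to an object killed by all scalars of `l` factor through the iterated cone. -/
theorem exists_factor_iterCone {l : List A} {Y W : Dual.D A} (hl : IterCone l Y W) :
    ∃ ι : Y ⟶ W, ∀ (K' : Dual.D A), (∀ f ∈ l, f • 𝟙 K' = 0) → ∀ g : Y ⟶ K',
      ∃ g' : W ⟶ K', ι ≫ g' = g := by
  induction hl with
  | nil Y => exact ⟨𝟙 Y, fun K' _ g => ⟨g, Category.id_comp g⟩⟩
  | cons f l Y Z W g₀ h hT hl ih =>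
    obtain ⟨ι', hι'⟩ := ih
    refine ⟨g₀ ≫ ι', fun K' hK g => ?_⟩
    have h0 : (f • 𝟙 Y) ≫ g = 0 := by
      have h1 : (f • 𝟙 Y) ≫ g = g ≫ (f • 𝟙 K') := by
        rw [Linear.smul_comp, Linear.comp_smul, Category.id_comp, Category.comp_id]
      rw [h1, hK f List.mem_cons_self, comp_zero]
    obtain ⟨g₁, hg₁⟩ := Triangle.yoneda_exact₂ _ hT g h0
    obtain ⟨g', hg'⟩ := hι' K' (fun f' hf' => hK f' (List.mem_cons_of_mem _ hf')) g₁
    refine ⟨g', ?_⟩
    rw [Category.assoc, hg', hg₁]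
    rfl

/-- A scalar killing the module `N` kills `P ⊗ N` (termwise tensor). -/
lemma smul_id_tensorCx_eq_zero_of_module (N : ModuleCat.{u} A) (P : DRing.Cx A) (a : A)
    (h : ∀ x : N, a • x = 0) : a • 𝟙 ((tensorCx N).obj P) = 0 := by
  refine HomologicalComplex.hom_ext _ _ (fun p => ?_)
  have h0 : a • 𝟙 N = 0 := by
    ext y
    exact h y
  have h1 : (a • 𝟙 ((tensorCx N).obj P)).f p = (P.X p) ◁ (a • 𝟙 N) := by
    change a • 𝟙 (P.X p ⊗ N) = (P.X p) ◁ (a • 𝟙 N)
    apply ModuleCat.MonoidalCategory.tensor_ext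
    intro x y
    change a • (x ⊗ₜ[A] y) = x ⊗ₜ[A] (a • y)
    rw [TensorProduct.tmul_smul]
  rw [h1, h0]
  simp
  rfl

end Groth.Agent.Lib.Helper13.PSF
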