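import Groth.Agent.Lib.Helper13.PSF1
import Groth.Agent.Lib.Helper13.PSF2

set_option autoImplicit false
set_option maxHeartbeats 800000
set_option linter.style.haveILetI false
universe u
open CategoryTheory CategoryTheory.Limits MonoidalCategory Pretriangulated
open CochainComplex CochainComplex.HomComplex HomologicalComplex
open scoped TensorProduct

namespace Groth.Agent.Lib.Helper13.PSF

open DTen Groth.Agent.Lib.Helper13.HT Groth.Agent.Lib.Helper13.SF Groth.Agent.Lib.Helper13.KP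
  Groth.Agent.Lib.Helper13.DT Groth.Agent.Lib.Helper13.DV Groth.Agent.Lib.Helper13.DCN
  Groth.Agent.Lib.Helper13.DR Groth.Agent.Lib.Helper13.PC Groth.Agent.Lib.Helper13
  Groth.Agent.Lib.Helper13.Coind Groth.Agent.Lib.Helper13.FC
  Groth.Agent.Lib.Helper2.RGTors Groth.Agent.Lib.Helper2.TorsExt
  Groth.Agent.Lib.Helper7.DerivedComplete Groth.Agent.Lib.Helper7.DerivedCompleteMT
  Groth.Agent.Lib.Helper7.FComplete Groth.Agent.Lib.Helper13.LDC Groth.Agent.Lib.Helper13.ACF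

attribute [local instance] HasDerivedCategory.standard

section Abstract

variable {C : Type*} [Category C]

lemma abstract_calc {X0 X1 X2 X3 X4 X5 T2 : C} (g₁ : X0 ⟶ X1) (a : X1 ⟶ X2) (b : X2 ⟶ X3)
    (c : X3 ⟶ X4) (d : X4 ⟶ X5) (t : X1 ⟶ T2) (s2i : T2 ⟶ X3) (Qj : X0 ⟶ X5) (u : X4 ⟶ T2)
    [IsIso d] (hnat : a ≫ b = t ≫ s2i) (hu : u ≫ s2i ≫ c = 𝟙 X4)
    (hg : Qj ≫ inv d ≫ u = g₁ ≫ t) : (g₁ ≫ a) ≫ b ≫ c ≫ d = Qj := by
  calc (g₁ ≫ a) ≫ b ≫ c ≫ d = g₁ ≫ (a ≫ b) ≫ c ≫ d := by simp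
    _ = g₁ ≫ (t ≫ s2i) ≫ c ≫ d := by rw [hnat]
    _ = (g₁ ≫ t) ≫ s2i ≫ c ≫ d := by simp
    _ = (Qj ≫ inv d ≫ u) ≫ s2i ≫ c ≫ d := by rw [hg]
    _ = Qj ≫ inv d ≫ (u ≫ s2i ≫ c) ≫ d := by simp
    _ = Qj := by rw [hu]; simp

lemma abstract_hu {D : Type*} [Category D] (F : C ⥤ D) {X Y Z : C} (l : X ≅ Y) (s : X ≅ Z) :
    (F.map l.inv ≫ F.map s.hom) ≫ F.map s.inv ≫ F.map l.hom = 𝟙 _ := by
  simp only [Category.assoc, ← Functor.map_comp]
  simp

lemma abstract_nat {D : Type*} [Category D] (F : C ⥤ D) {X X' Z Z' : C} (s₁ : X ≅ Z)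
    (s₂ : X' ≅ Z') (w : X ⟶ X') (t : Z ⟶ Z') (h : s₁.hom ≫ t = w ≫ s₂.hom) :
    F.map s₁.inv ≫ F.map w = F.map t ≫ F.map s₂.inv := by
  have h2 : s₁.inv ≫ w = t ≫ s₂.inv := by
    rw [Iso.inv_comp_eq, ← Category.assoc, Iso.eq_comp_inv]
    exact h.symm
  rw [← Functor.map_comp, h2, Functor.map_comp]

end Abstract

variable {A : Type u} [CommRing A] [IsNoetherianRing A] (I : Ideal A)
  (M : Type u) [AddCommGroup M] [Module A M] [Module.Finite A M]

/-- The key factorisation at the level of a K-projective resolution `P ⟶ M[0]`: for `n ≫ 0`, the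
inclusion `I^n M ⟶ M` lifts in `D(A)` to `I[0] ⊗ P`. -/
theorem exists_factor_tensor :
    ∃ (P : DRing.Cx A) (_ : P.IsKProjective) (π : P ⟶ sg0 (ModuleCat.of A M)) (_ : QuasiIso π)
      (n : ℕ) (_ : 0 < n)
      (g' : DerivedCategory.Q.obj (sg0 (ModuleCat.of A ↥(I ^ n • (⊤ : Submodule A M)))) ⟶
        DerivedCategory.Q.obj (sg0 (ModuleCat.of A ↥I) ⊗ P)),
      g' ≫ DerivedCategory.Q.map
            ((HomologicalComplex.single (ModuleCat.{u} A) (ComplexShape.up ℤ) 0).map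
              (ModuleCat.ofHom I.subtype) ▷ P) ≫
          DerivedCategory.Q.map (λ_ P).hom ≫ DerivedCategory.Q.map π =
        DerivedCategory.Q.map
          ((HomologicalComplex.single (ModuleCat.{u} A) (ComplexShape.up ℤ) 0).map
            (ModuleCat.ofHom (I ^ n • (⊤ : Submodule A M)).subtype)) := by
  obtain ⟨P, c, hPc, hPf, hPproj, π, hπ⟩ := exists_finiteFree_resolution (A := A) M
  refine ⟨P, hPproj, π, hπ, ?_⟩
  have hfl : ∀ i : ℤ, Module.Flat A (P.X i) := fun i => by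
    obtain ⟨h1, h2⟩ := hPf i
    infer_instance
  let MA : ModuleCat.{u} A := ModuleCat.of A A
  let S := subSC MA I
  have hS : S.ShortExact := subSC_shortExact MA I
  let SC := tensorCxSC P S
  have hSC : SC.ShortExact := tensorCxSC_shortExact P hfl S hS
  let T := DerivedCategory.triangleOfSES hSC
  have hT : T ∈ distTriang _ := DerivedCategory.triangleOfSES_distinguished hSC
  -- generators of `I`
  obtain ⟨s, hs⟩ := (isNoetherian_def.mp (inferInstance : IsNoetherian A A)) I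
  classical
  let l := s.toList
  have hl : {x | x ∈ l} = (s : Set A) := by
    ext x
    simp [l]
  have hspan : Ideal.span {x | x ∈ l} = I := by
    rw [hl]
    exact hs
  -- the iterated cone
  let Mm : ModuleCat.{u} A := ModuleCat.of A M
  let Y : Dual.D A := sF.obj Mm
  obtain ⟨W, hW⟩ := exists_iterCone l Y
  have hBY : Bdd 0 Y := fun i hi => isZero_homology_single 0 i (by lia) Mm
  have hTY : Tors (∅ : Set A) Y := fun s hs => absurd hs (Set.notMem_empty s)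
  obtain ⟨hBW, hTW⟩ := bdd_tors_iterCone hW 0 ∅ hBY hTY
  rw [Set.empty_union] at hTW
  have hARV := arv_of_bdd_tors l W _ hBW hTW
  rw [hspan] at hARV
  obtain ⟨ι, hι⟩ := exists_factor_iterCone hW
  obtain ⟨n, hn⟩ := hARV Mm (inferInstanceAs (Module.Finite A M)) ι
  refine ⟨n + 1, Nat.succ_pos n, ?_⟩
  -- the third vertex is killed by `I`
  have hK' : ∀ f ∈ l, f • 𝟙 T.obj₃ = 0 := by
    intro f hf
    have hfI : f ∈ I := by
      rw [← hspan]
      exact Ideal.subset_span hf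
    have h1 : f • 𝟙 ((tensorCx S.X₃).obj P) = 0 := by
      apply smul_id_tensorCx_eq_zero_of_module
      intro x
      obtain ⟨a, rfl⟩ := Submodule.Quotient.mk_surjective _ x
      change f • (Submodule.Quotient.mk a : A ⧸ (I : Submodule A A)) = 0
      rw [← Submodule.Quotient.mk_smul, Submodule.Quotient.mk_eq_zero]
      exact Ideal.mul_mem_right _ _ hfI
    have h2 : DerivedCategory.Q.map (f • 𝟙 ((tensorCx S.X₃).obj P)) = f • 𝟙 T.obj₃ := by
      rw [CategoryTheory.Functor.map_smul, CategoryTheory.Functor.map_id]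
      rfl
    rw [← h2, h1, Functor.map_zero]
    rfl
  have iπ : IsIso (DerivedCategory.Q.map π) := by
    rw [DerivedCategory.isIso_Q_map_iff_quasiIso]
    exact hπ
  let MI : ModuleCat.{u} A := ModuleCat.of A ↥I
  let iI : MI ⟶ MA := ModuleCat.ofHom I.subtype
  let σ₁ : sg0 MI ⊗ P ≅ (tensorCx MI).obj P := singleTensorIso P MI
  let σ₂ : sg0 MA ⊗ P ≅ (tensorCx MA).obj P := singleTensorIso P MA
  let lam : sg0 MA ⊗ P ≅ P := λ_ P
  let u : DerivedCategory.Q.obj P ⟶ T.obj₂ :=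
    DerivedCategory.Q.map lam.inv ≫ DerivedCategory.Q.map σ₂.hom
  let e0 : ∀ L : ModuleCat.{u} A, sF.obj L ≅ DerivedCategory.Q.obj (sg0 L) := fun L =>
    (DerivedCategory.singleFunctorIsoCompQ (ModuleCat.{u} A) 0).app L
  have e0nat : ∀ {L L' : ModuleCat.{u} A} (g : L ⟶ L'), sF.map g ≫ (e0 L').hom =
      (e0 L).hom ≫ DerivedCategory.Q.map
        ((HomologicalComplex.single (ModuleCat.{u} A) (ComplexShape.up ℤ) 0).map g) :=
    fun g => (DerivedCategory.singleFunctorIsoCompQ (ModuleCat.{u} A) 0).hom.naturality g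
  let θ : Y ⟶ T.obj₃ := (e0 Mm).hom ≫ inv (DerivedCategory.Q.map π) ≫ u ≫ T.mor₂
  obtain ⟨θ', hθ'⟩ := hι T.obj₃ hK' θ
  let Mn : ModuleCat.{u} A := ModuleCat.of A ↥(I ^ (n + 1) • (⊤ : Submodule A M))
  let j : Mn ⟶ Mm := ModuleCat.ofHom (I ^ (n + 1) • (⊤ : Submodule A M)).subtype
  have hj : sF.map j ≫ ι = 0 := by
    refine hn Mn j (fun x => ?_)
    have hle : (I ^ (n + 1) • ⊤ : Submodule A M) ≤ I ^ n • ⊤ :=
      Submodule.smul_mono_left (Ideal.pow_le_pow_right (Nat.le_succ n))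
    exact hle x.2
  let Qj := DerivedCategory.Q.map
    ((HomologicalComplex.single (ModuleCat.{u} A) (ComplexShape.up ℤ) 0).map j)
  have hzero : (Qj ≫ inv (DerivedCategory.Q.map π) ≫ u) ≫ T.mor₂ = 0 := by
    have h1 : Qj = (e0 Mn).inv ≫ sF.map j ≫ (e0 Mm).hom := by
      rw [e0nat j, Iso.inv_hom_id_assoc]
    have h2 : (Qj ≫ inv (DerivedCategory.Q.map π) ≫ u) ≫ T.mor₂ =
        (e0 Mn).inv ≫ sF.map j ≫ θ := by
      rw [h1]
      simp only [θ, Category.assoc]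
    rw [h2, ← hθ', ← Category.assoc (sF.map j), hj, zero_comp, comp_zero]
  obtain ⟨g₁, hg₁⟩ := Triangle.coyoneda_exact₂ T hT _ hzero
  refine ⟨g₁ ≫ DerivedCategory.Q.map σ₁.inv, ?_⟩
  let wI : sg0 MI ⊗ P ⟶ sg0 MA ⊗ P :=
    (HomologicalComplex.single (ModuleCat.{u} A) (ComplexShape.up ℤ) 0).map iI ▷ P
  let tI : (tensorCx MI).obj P ⟶ (tensorCx MA).obj P := tensorCxMap P iI
  have hnat : DerivedCategory.Q.map σ₁.inv ≫ DerivedCategory.Q.map wI =
      DerivedCategory.Q.map tI ≫ DerivedCategory.Q.map σ₂.inv :=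
    abstract_nat DerivedCategory.Q σ₁ σ₂ wI tI (singleTensorIso_hom_naturality P iI)
  have hu : u ≫ DerivedCategory.Q.map σ₂.inv ≫ DerivedCategory.Q.map lam.hom = 𝟙 _ :=
    abstract_hu DerivedCategory.Q lam σ₂
  have hg₁' : Qj ≫ inv (DerivedCategory.Q.map π) ≫ u = g₁ ≫ DerivedCategory.Q.map tI := hg₁
  exact abstract_calc g₁ (DerivedCategory.Q.map σ₁.inv) (DerivedCategory.Q.map wI)
    (DerivedCategory.Q.map lam.hom) (DerivedCategory.Q.map π) (DerivedCategory.Q.map tI)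
    (DerivedCategory.Q.map σ₂.inv) Qj u hnat hu hg₁'

end Groth.Agent.Lib.Helper13.PSF
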