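import Groth.Agent.Lib.Helper13.PSF3

set_option autoImplicit false
set_option maxHeartbeats 800000
set_option linter.style.haveILetI false
universe u
open CategoryTheory CategoryTheory.Limits MonoidalCategory Pretriangulated
open CochainComplex CochainComplex.HomComplex HomologicalComplex
open scoped TensorProduct

namespace Groth.Agent.Lib.Helper13.PSF

open DTen Groth.Agent.Lib.Helper13.HT Groth.Agent.Lib.Helper13.SF Groth.Agent.Lib.Helper13.KP
  Groth.Agent.Lib.Helper13.DT Groth.Agent.Lib.Helper13.DV Groth.Agent.Lib.Helper13.DCN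
  Groth.Agent.Lib.Helper13.DR Groth.Agent.Lib.Helper13.PC Groth.Agent.Lib.Helper13
  Groth.Agent.Lib.Helper13.Coind Groth.Agent.Lib.Helper13.FC
  Groth.Agent.Lib.Helper2.RGTors Groth.Agent.Lib.Helper2.TorsExt
  Groth.Agent.Lib.Helper7.DerivedComplete Groth.Agent.Lib.Helper7.DerivedCompleteMT
  Groth.Agent.Lib.Helper7.FComplete Groth.Agent.Lib.Helper13.LDC Groth.Agent.Lib.Helper13.ACF

attribute [local instance] HasDerivedCategory.standard

section Abstract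

variable {C : Type*} [Category C]

lemma abstract_final {X0 X1 L1 L2 L3 L4 X2 X3 X4 : C} (g' : X0 ⟶ X1) (e : L1 ⟶ X1) [IsIso e]
    (m1 : L1 ⟶ L2) (m2 : L2 ⟶ L4) (m3 : L1 ⟶ L3) (m4 : L3 ⟶ L4) (uM : L4 ⟶ X4) (uP : L3 ⟶ X3)
    (d : X3 ⟶ X4) (e' : L3 ⟶ X2) (c : X2 ⟶ X3) (b : X1 ⟶ X2) (Qj : X0 ⟶ X4)
    (h1 : m1 ≫ m2 = m3 ≫ m4) (h2 : m4 ≫ uM = uP ≫ d) (h3 : uP = e' ≫ c)
    (h4 : m3 ≫ e' = e ≫ b) (hg : g' ≫ b ≫ c ≫ d = Qj) :
    (g' ≫ inv e ≫ m1) ≫ m2 ≫ uM = Qj := by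
  calc (g' ≫ inv e ≫ m1) ≫ m2 ≫ uM = g' ≫ inv e ≫ (m1 ≫ m2) ≫ uM := by simp
    _ = g' ≫ inv e ≫ m3 ≫ (m4 ≫ uM) := by rw [h1]; simp
    _ = g' ≫ inv e ≫ (m3 ≫ e') ≫ c ≫ d := by rw [h2, h3]; simp
    _ = g' ≫ b ≫ c ≫ d := by rw [h4]; simp
    _ = Qj := hg

end Abstract

variable {A : Type u} [CommRing A] [IsNoetherianRing A] [DTen.HasLTen A] [DTen.KFlatComputes A]
  (I : Ideal A) (M : Type u) [AddCommGroup M] [Module A M] [Module.Finite A M]

theorem main :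
    ∃ (n : ℕ) (_ : 0 < n)
      (g : DerivedCategory.Q.obj ((HomologicalComplex.single (ModuleCat.{u} A) (ComplexShape.up ℤ) 0).obj
              (ModuleCat.of A ↥(I ^ n • (⊤ : Submodule A M)))) ⟶
            (DTen.LTen₂ A).obj (DerivedCategory.Q.obj ((HomologicalComplex.single (ModuleCat.{u} A) (ComplexShape.up ℤ) 0).obj
              (ModuleCat.of A ↥I)),
              DerivedCategory.Q.obj ((HomologicalComplex.single (ModuleCat.{u} A) (ComplexShape.up ℤ) 0).obj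
              (ModuleCat.of A M)))),
      g ≫ (DTen.LTen₂ A).map (Prod.mkHom
              (DerivedCategory.Q.map ((HomologicalComplex.single (ModuleCat.{u} A) (ComplexShape.up ℤ) 0).map
                (ModuleCat.ofHom I.subtype)))
              (𝟙 _)) ≫
          (DTen.unitL A).app (DerivedCategory.Q.obj ((HomologicalComplex.single (ModuleCat.{u} A) (ComplexShape.up ℤ) 0).obj
              (ModuleCat.of A M))) =
        DerivedCategory.Q.map ((HomologicalComplex.single (ModuleCat.{u} A) (ComplexShape.up ℤ) 0).map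
          (ModuleCat.ofHom (I ^ n • (⊤ : Submodule A M)).subtype)) := by
  obtain ⟨P, hP, π, hπ, n, hn, g', hg'⟩ := exists_factor_tensor I M
  have hflat : KFlat P := isKFlat_of_isKProjective P
  let MI : ModuleCat.{u} A := ModuleCat.of A ↥I
  let MA : ModuleCat.{u} A := ModuleCat.of A A
  let Mm : ModuleCat.{u} A := ModuleCat.of A M
  let iI : sg0 MI ⟶ sg0 MA :=
    (HomologicalComplex.single (ModuleCat.{u} A) (ComplexShape.up ℤ) 0).map
      (ModuleCat.ofHom I.subtype)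
  have iε : IsIso ((DTen.ε A).app (sg0 MI, P)) :=
    DTen.KFlatComputes.isIso_counit _ _ (Or.inr hflat)
  let e : (DTen.LTen₂ A).obj (DerivedCategory.Q.obj (sg0 MI), DerivedCategory.Q.obj P) ⟶
      DerivedCategory.Q.obj (sg0 MI ⊗ P) := (DTen.ε A).app (sg0 MI, P)
  have ie : IsIso e := iε
  let e' : (DTen.LTen₂ A).obj (DerivedCategory.Q.obj (sg0 MA), DerivedCategory.Q.obj P) ⟶
      DerivedCategory.Q.obj (sg0 MA ⊗ P) := (DTen.ε A).app (sg0 MA, P)
  let m1 : (DTen.LTen₂ A).obj (DerivedCategory.Q.obj (sg0 MI), DerivedCategory.Q.obj P) ⟶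
      (DTen.LTen₂ A).obj (DerivedCategory.Q.obj (sg0 MI), DerivedCategory.Q.obj (sg0 Mm)) :=
    (DTen.LTen₂ A).map (Prod.mkHom (𝟙 _) (DerivedCategory.Q.map π))
  let m2 : (DTen.LTen₂ A).obj (DerivedCategory.Q.obj (sg0 MI), DerivedCategory.Q.obj (sg0 Mm)) ⟶
      (DTen.LTen₂ A).obj (DerivedCategory.Q.obj (sg0 MA), DerivedCategory.Q.obj (sg0 Mm)) :=
    (DTen.LTen₂ A).map (Prod.mkHom (DerivedCategory.Q.map iI) (𝟙 _))
  let m3 : (DTen.LTen₂ A).obj (DerivedCategory.Q.obj (sg0 MI), DerivedCategory.Q.obj P) ⟶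
      (DTen.LTen₂ A).obj (DerivedCategory.Q.obj (sg0 MA), DerivedCategory.Q.obj P) :=
    (DTen.LTen₂ A).map (Prod.mkHom (DerivedCategory.Q.map iI) (𝟙 _))
  let m4 : (DTen.LTen₂ A).obj (DerivedCategory.Q.obj (sg0 MA), DerivedCategory.Q.obj P) ⟶
      (DTen.LTen₂ A).obj (DerivedCategory.Q.obj (sg0 MA), DerivedCategory.Q.obj (sg0 Mm)) :=
    (DTen.LTen₂ A).map (Prod.mkHom (𝟙 _) (DerivedCategory.Q.map π))
  have h1 : m1 ≫ m2 = m3 ≫ m4 := by
    simp only [m1, m2, m3, m4]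
    rw [← Functor.map_comp, ← Functor.map_comp]
    congr 1
  let uM : (DTen.LTen₂ A).obj (DerivedCategory.Q.obj (sg0 MA), DerivedCategory.Q.obj (sg0 Mm)) ⟶
      DerivedCategory.Q.obj (sg0 Mm) := (DTen.unitL A).app (DerivedCategory.Q.obj (sg0 Mm))
  let uP : (DTen.LTen₂ A).obj (DerivedCategory.Q.obj (sg0 MA), DerivedCategory.Q.obj P) ⟶
      DerivedCategory.Q.obj P := (DTen.unitL A).app (DerivedCategory.Q.obj P)
  have h2 : m4 ≫ uM = uP ≫ DerivedCategory.Q.map π :=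
    (DTen.unitL A).naturality (DerivedCategory.Q.map π)
  let lam : sg0 MA ⊗ P ≅ P := λ_ P
  have h3 : uP = e' ≫ DerivedCategory.Q.map lam.hom := DTen.unitL_app A P
  let wI : sg0 MI ⊗ P ⟶ sg0 MA ⊗ P := iI ▷ P
  have h4 : m3 ≫ e' = e ≫ DerivedCategory.Q.map wI := by
    have nat := (DTen.ε A).naturality (Prod.mkHom iI (𝟙 P))
    have h5 : (DTen.tensor₂ A).map (Prod.mkHom iI (𝟙 P)) = DerivedCategory.Q.map wI := by
      simp [wI]
    rw [h5] at nat
    have h6 : (DTen.QQ A ⋙ LTen₂ A).map (Prod.mkHom iI (𝟙 P)) = m3 := by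
      change (LTen₂ A).map (Prod.mkHom (DerivedCategory.Q.map iI)
        (DerivedCategory.Q.map (𝟙 P))) = m3
      rw [CategoryTheory.Functor.map_id]
    rw [h6] at nat
    exact nat
  refine ⟨n, hn, g' ≫ inv e ≫ m1, ?_⟩
  exact abstract_final g' e m1 m2 m3 m4 uM uP (DerivedCategory.Q.map π) e'
    (DerivedCategory.Q.map lam.hom) (DerivedCategory.Q.map wI) _ h1 h2 h3 h4 hg'

end Groth.Agent.Lib.Helper13.PSF
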