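import Groth.Agent.Lib.Helper13.TPZ4
import Groth.Agent.Lib.Helper2.ProSys

set_option autoImplicit false
set_option maxHeartbeats 800000
set_option linter.style.haveILetI false
universe u v' u'
open CategoryTheory CategoryTheory.Limits MonoidalCategory Pretriangulated Opposite
open CochainComplex CochainComplex.HomComplex HomologicalComplex
open scoped TensorProduct

namespace Groth.Agent.Lib.Helper13.PZ

open DTen Groth.Agent.Lib.Helper13.HT Groth.Agent.Lib.Helper13.SF Groth.Agent.Lib.Helper13.KP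
  Groth.Agent.Lib.Helper13.DT Groth.Agent.Lib.Helper13.DV Groth.Agent.Lib.Helper13.DCN
  Groth.Agent.Lib.Helper13.DR Groth.Agent.Lib.Helper13.PC Groth.Agent.Lib.Helper13
  Groth.Agent.Lib.Helper13.Coind Groth.Agent.Lib.Helper13.FC
  Groth.Agent.Lib.Helper2.RGTors Groth.Agent.Lib.Helper2.TorsExt
  Groth.Agent.Lib.Helper7.DerivedComplete Groth.Agent.Lib.Helper7.DerivedCompleteMT
  Groth.Agent.Lib.Helper7.FComplete Groth.Agent.Lib.Helper13.LDC Groth.Agent.Lib.Helper13.ACF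
  Groth.Agent.Lib.Helper13.PSF Groth.Agent.Lib.Helper13.TB Groth.Agent.Lib.Helper13.TPZ
  Groth.Agent.Lib.Helper2.ProSys

attribute [local instance] HasDerivedCategory.standard

section Abstract

variable {C : Type*} [Category C]

/-- Transfer of pro-isomorphisms along a zigzag of levelwise isomorphisms. -/
lemma isProIso_of_zigzag {X1 X2 X3 Y : ARSys.PS C} (τ : X2 ⟶ X1) (τ' : X2 ⟶ X3)
    (hτ : ∀ n : ℕ, IsIso (τ.app (op n))) (hτ' : ∀ n : ℕ, IsIso (τ'.app (op n)))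
    (a : X1 ⟶ Y) (a' : X3 ⟶ Y) (h : ∀ n : ℕ, τ.app (op n) ≫ a.app (op n) = τ'.app (op n) ≫ a'.app (op n))
    (ha : DerCA.IsProIso a) : DerCA.IsProIso a' := by
  intro n
  obtain ⟨m, hm, b, hb1, hb2⟩ := ha n
  have := hτ n
  have := hτ' n
  have := hτ m
  have := hτ' m
  refine ⟨m, hm, b ≫ inv (τ.app (op n)) ≫ τ'.app (op n), ?_, ?_⟩
  · have e1 : a'.app (op m) = inv (τ'.app (op m)) ≫ τ.app (op m) ≫ a.app (op m) := by
      rw [h m, IsIso.inv_hom_id_assoc]
    have e2 : τ.app (op m) ≫ ARSys.tr X1 hm = ARSys.tr X2 hm ≫ τ.app (op n) := tr_nat τ hm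
    have e3 : τ'.app (op m) ≫ ARSys.tr X3 hm = ARSys.tr X2 hm ≫ τ'.app (op n) := tr_nat τ' hm
    calc a'.app (op m) ≫ b ≫ inv (τ.app (op n)) ≫ τ'.app (op n)
        = inv (τ'.app (op m)) ≫ τ.app (op m) ≫ (a.app (op m) ≫ b) ≫ inv (τ.app (op n)) ≫
            τ'.app (op n) := by rw [e1]; simp only [Category.assoc]
      _ = inv (τ'.app (op m)) ≫ (τ.app (op m) ≫ ARSys.tr X1 hm) ≫ inv (τ.app (op n)) ≫
            τ'.app (op n) := by rw [hb1]; simp only [Category.assoc]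
      _ = inv (τ'.app (op m)) ≫ ARSys.tr X2 hm ≫ τ'.app (op n) := by
          rw [e2]; simp only [Category.assoc, IsIso.hom_inv_id_assoc]
      _ = ARSys.tr X3 hm := by rw [← e3, IsIso.inv_hom_id_assoc]
  · calc (b ≫ inv (τ.app (op n)) ≫ τ'.app (op n)) ≫ a'.app (op n)
        = b ≫ inv (τ.app (op n)) ≫ (τ'.app (op n) ≫ a'.app (op n)) := by
          simp only [Category.assoc]
      _ = b ≫ a.app (op n) := by rw [← h n, IsIso.inv_hom_id_assoc]
      _ = ARSys.tr Y hm := hb2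

/-- It suffices to check the pro-isomorphism condition from some index on. -/
lemma isProIso_of_ge {X Y : ARSys.PS C} (a : X ⟶ Y) (n₀ : ℕ)
    (h : ∀ n : ℕ, n₀ ≤ n → ∃ (m : ℕ) (hm : n ≤ m) (b : Y.obj (op m) ⟶ X.obj (op n)),
      a.app (op m) ≫ b = ARSys.tr X hm ∧ b ≫ a.app (op n) = ARSys.tr Y hm) :
    DerCA.IsProIso a := by
  intro n
  obtain ⟨m, hm, b, hb1, hb2⟩ := h (max n n₀) (le_max_right _ _)
  have hn : n ≤ max n n₀ := le_max_left _ _
  refine ⟨m, hn.trans hm, b ≫ ARSys.tr X hn, ?_, ?_⟩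
  · rw [← Category.assoc, hb1, tr_comp]
  · rw [Category.assoc, ← tr_nat a hn, ← Category.assoc, hb2, tr_comp]

end Abstract

section Tri

variable {D : Type u'} [Category.{v'} D] [Preadditive D] [HasZeroObject D] [HasShift D ℤ]
  [∀ n : ℤ, CategoryTheory.Functor.Additive (CategoryTheory.shiftFunctor D n)] [Pretriangulated D]

/-- The abstract lemma behind the torsion step. -/
lemma AL (T : Triangle D) (hT : T ∈ distTriang D) {X' Y' Y : D} (p' : T.obj₂ ⟶ X')
    (τ : X' ⟶ T.obj₃) (α' : X' ⟶ Y') (α : T.obj₃ ⟶ Y) (t : Y' ⟶ Y)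
    (hp : p' ≫ τ = T.mor₂) (hα : α' ≫ t = τ ≫ α) (hτ : τ ≫ T.mor₃ = 0)
    (h1 : IsIso (p' ≫ α')) (h2 : IsIso (T.mor₂ ≫ α)) :
    α' ≫ inv (p' ≫ α') ≫ T.mor₂ = τ ∧ (inv (p' ≫ α') ≫ T.mor₂) ≫ α = t := by
  have second : (inv (p' ≫ α') ≫ T.mor₂) ≫ α = t := by
    rw [Category.assoc, IsIso.inv_comp_eq, Category.assoc, hα, ← Category.assoc, hp]
  refine ⟨?_, second⟩
  have hDd : (τ - α' ≫ inv (p' ≫ α') ≫ T.mor₂) ≫ T.mor₃ = 0 := by
    rw [Preadditive.sub_comp, hτ, Category.assoc, Category.assoc,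
      comp_distTriang_mor_zero₂₃ _ hT, comp_zero, comp_zero, sub_zero]
  obtain ⟨D'', hD''⟩ := Triangle.coyoneda_exact₃ T hT _ hDd
  have hDα : (τ - α' ≫ inv (p' ≫ α') ≫ T.mor₂) ≫ α = 0 := by
    rw [Preadditive.sub_comp, Category.assoc, second, hα, sub_self]
  have h0 : D'' ≫ (T.mor₂ ≫ α) = 0 := by
    rw [← Category.assoc, ← hD'', hDα]
  have hD0 : D'' = 0 := by
    rw [← cancel_mono (T.mor₂ ≫ α), h0, zero_comp]
  rw [hD0, zero_comp] at hD''
  exact (sub_eq_zero.1 hD'').symm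

end Tri

variable {A : Type u} [CommRing A]

section Sys

variable (F Sy : ℕᵒᵖ ⥤ DRing.Cx A) (π : F ⟶ Sy)

/-- The comparison map of systems `Q(K ⊗ F_n) ⟶ Q(K ⊗ S_n)`. -/
noncomputable def aK (K : DRing.Cx A) :
    F ⋙ tensorLeft K ⋙ DerivedCategory.Q ⟶ Sy ⋙ tensorLeft K ⋙ DerivedCategory.Q :=
  Functor.whiskerRight π (tensorLeft K ⋙ DerivedCategory.Q)

lemma aK_app (K : DRing.Cx A) (n : ℕᵒᵖ) :
    (aK F Sy π K).app n = DerivedCategory.Q.map (K ◁ π.app n) := rfl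

/-- The property that the comparison map is a pro-isomorphism. -/
def PP (K : DRing.Cx A) : Prop := DerCA.IsProIso (aK F Sy π K)

/-- Functoriality of the systems in the complex. -/
noncomputable def sysMap {K K' : DRing.Cx A} (g : K ⟶ K') (G : ℕᵒᵖ ⥤ DRing.Cx A) :
    G ⋙ tensorLeft K ⋙ DerivedCategory.Q ⟶ G ⋙ tensorLeft K' ⋙ DerivedCategory.Q where
  app n := DerivedCategory.Q.map (g ▷ G.obj n)
  naturality n m φ := by
    change DerivedCategory.Q.map (K ◁ G.map φ) ≫ DerivedCategory.Q.map (g ▷ G.obj m) =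
      DerivedCategory.Q.map (g ▷ G.obj n) ≫ DerivedCategory.Q.map (K' ◁ G.map φ)
    rw [← Functor.map_comp, ← Functor.map_comp, whisker_exchange]

lemma sysMap_app {K K' : DRing.Cx A} (g : K ⟶ K') (G : ℕᵒᵖ ⥤ DRing.Cx A) (n : ℕᵒᵖ) :
    (sysMap g G).app n = DerivedCategory.Q.map (g ▷ G.obj n) := rfl

lemma tr_sys (K : DRing.Cx A) (G : ℕᵒᵖ ⥤ DRing.Cx A) {n m : ℕ} (h : n ≤ m) :
    ARSys.tr (G ⋙ tensorLeft K ⋙ DerivedCategory.Q) h =
      DerivedCategory.Q.map (K ◁ G.map (homOfLE h).op) := rfl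

lemma sysMap_comp_aK {K K' : DRing.Cx A} (g : K ⟶ K') (n : ℕᵒᵖ) :
    (sysMap g F).app n ≫ (aK F Sy π K').app n = (aK F Sy π K).app n ≫ (sysMap g Sy).app n := by
  change DerivedCategory.Q.map (g ▷ F.obj n) ≫ DerivedCategory.Q.map (K' ◁ π.app n) =
    DerivedCategory.Q.map (K ◁ π.app n) ≫ DerivedCategory.Q.map (g ▷ Sy.obj n)
  rw [← Functor.map_comp, ← Functor.map_comp, whisker_exchange]

lemma PP_of_iso {K K' : DRing.Cx A} (e : K ≅ K') (h : PP F Sy π K) : PP F Sy π K' := by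
  have i1 : ∀ n : ℕ, IsIso ((sysMap e.hom F).app (op n)) := fun n => by
    rw [sysMap_app]; infer_instance
  have i2 : ∀ n : ℕ, IsIso ((sysMap e.hom Sy).app (op n)) := fun n => by
    rw [sysMap_app]; infer_instance
  refine isProIso_of_iso_square (aK F Sy π K) (aK F Sy π K')
    (fun n => @asIso _ _ _ _ _ (i1 n)) (fun n => @asIso _ _ _ _ _ (i2 n)) ?_ ?_ ?_ h
  · intro n m hnm
    exact (tr_nat (sysMap e.hom F) hnm).symm
  · intro n m hnm
    exact (tr_nat (sysMap e.hom Sy) hnm).symm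
  · intro n
    exact (sysMap_comp_aK F Sy π e.hom (op n)).symm

lemma PP_of_isZero (K : DRing.Cx A) (hK : IsZero K) : PP F Sy π K := by
  apply isProIso_of_isZero
  · intro n
    exact Functor.map_isZero DerivedCategory.Q
      (Functor.map_isZero (tensorRight (F.obj (op n))) hK)
  · intro n
    exact Functor.map_isZero DerivedCategory.Q
      (Functor.map_isZero (tensorRight (Sy.obj (op n))) hK)

/-- The morphism of short complexes `S ⊗ P ⟶ S ⊗ P'`. -/
noncomputable def scMap (S : ShortComplex (DRing.Cx A)) {P P' : DRing.Cx A} (g : P ⟶ P') :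
    S.map (tensorRight P) ⟶ S.map (tensorRight P') where
  τ₁ := S.X₁ ◁ g
  τ₂ := S.X₂ ◁ g
  τ₃ := S.X₃ ◁ g
  comm₁₂ := by
    change (S.X₁ ◁ g) ≫ (S.f ▷ P') = (S.f ▷ P) ≫ (S.X₂ ◁ g)
    exact whisker_exchange S.f g
  comm₂₃ := by
    change (S.X₂ ◁ g) ≫ (S.g ▷ P') = (S.g ▷ P) ≫ (S.X₃ ◁ g)
    exact whisker_exchange S.g g

/-- The connecting maps, as a map of systems. -/
noncomputable def sysδ (S : ShortComplex (DRing.Cx A))
    (σ : ∀ n, (S.map (HomologicalComplex.eval _ _ n)).Splitting) (G : ℕᵒᵖ ⥤ DRing.Cx A) :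
    G ⋙ tensorLeft S.X₃ ⋙ DerivedCategory.Q ⟶
      (G ⋙ tensorLeft S.X₁ ⋙ DerivedCategory.Q) ⋙ shiftFunctor (Dual.D A) (1 : ℤ) where
  app n := DerivedCategory.triangleOfSESδ (shortExact_map_tensorRight S σ (G.obj n))
  naturality n m φ :=
    (DerivedCategory.triangleOfSESδ_naturality (shortExact_map_tensorRight S σ (G.obj n))
      (shortExact_map_tensorRight S σ (G.obj m)) (scMap S (G.map φ))).symm

theorem PP_mid (S : ShortComplex (DRing.Cx A))
    (σ : ∀ n, (S.map (HomologicalComplex.eval _ _ n)).Splitting)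
    (h₁ : PP F Sy π S.X₁) (h₃ : PP F Sy π S.X₃) : PP F Sy π S.X₂ := by
  refine isProIso_mid (sysMap S.f F) (sysMap S.g F) (sysδ S σ F) (sysMap S.f Sy) (sysMap S.g Sy)
    (sysδ S σ Sy) ?_ ?_ (aK F Sy π S.X₁) (aK F Sy π S.X₂) (aK F Sy π S.X₃) ?_ ?_ ?_ h₁ h₃
  · intro n
    exact DerivedCategory.triangleOfSES_distinguished
      (shortExact_map_tensorRight S σ (F.obj (op n)))
  · intro n
    exact DerivedCategory.triangleOfSES_distinguished
      (shortExact_map_tensorRight S σ (Sy.obj (op n)))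
  · intro n
    exact sysMap_comp_aK F Sy π S.f (op n)
  · intro n
    exact sysMap_comp_aK F Sy π S.g (op n)
  · intro n
    exact DerivedCategory.triangleOfSESδ_naturality
      (shortExact_map_tensorRight S σ (F.obj (op n)))
      (shortExact_map_tensorRight S σ (Sy.obj (op n))) (scMap S (π.app (op n)))

end Sys

end Groth.Agent.Lib.Helper13.PZ
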