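import Groth.Agent.Lib.Helper13.PZ1
import Groth.Prelude.Def_ega3
import Groth.Prelude.Def_DerCA

set_option autoImplicit false
set_option maxHeartbeats 800000
set_option linter.style.haveILetI false
universe u v' u'
open CategoryTheory CategoryTheory.Limits MonoidalCategory Pretriangulated Opposite
open CochainComplex CochainComplex.HomComplex HomologicalComplex
open scoped TensorProduct

namespace Groth.Agent.Lib.Helper13.PZ

open DTen Groth.Agent.Lib.Helper13.HT Groth.Agent.Lib.Helper13.SF Groth.Agent.Lib.Helper13.KP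
  Groth.Agent.Lib.Helper13.DT Groth.Agent.Lib.Helper13.DV Groth.Agent.Lib.Helper13.DCN
  Groth.Agent.Lib.Helper13.DR Groth.Agent.Lib.Helper13.PC Groth.Agent.Lib.Helper13
  Groth.Agent.Lib.Helper13.Coind Groth.Agent.Lib.Helper13.FC
  Groth.Agent.Lib.Helper2.RGTors Groth.Agent.Lib.Helper2.TorsExt
  Groth.Agent.Lib.Helper7.DerivedComplete Groth.Agent.Lib.Helper7.DerivedCompleteMT
  Groth.Agent.Lib.Helper7.FComplete Groth.Agent.Lib.Helper13.LDC Groth.Agent.Lib.Helper13.ACF
  Groth.Agent.Lib.Helper13.PSF Groth.Agent.Lib.Helper13.TB Groth.Agent.Lib.Helper13.TPZ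
  Groth.Agent.Lib.Helper2.ProSys

attribute [local instance] HasDerivedCategory.standard


variable {A : Type u} [CommRing A]

section Res

variable (S₀ : ℕᵒᵖ ⥤ ModuleCat.{u} A)

/-- Chosen projective resolutions of the terms of a system of modules. -/
noncomputable def PR (n : ℕ) : ProjectiveResolution (S₀.obj (op n)) := projectiveResolution _

noncomputable def homPR (n : ℕ) :
    ProjectiveResolution.Hom (PR S₀ (n + 1)) (PR S₀ n)
      (S₀.map (homOfLE (Nat.le_add_right n 1)).op) where
  hom := ProjectiveResolution.lift _ _ _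
  hom_f_zero_comp_π_f_zero := by
    have := ProjectiveResolution.lift_commutes_zero
      (S₀.map (homOfLE (Nat.le_add_right n 1)).op) (PR S₀ (n + 1)) (PR S₀ n)
    simpa using this

/-- The system of resolutions. -/
noncomputable def FF : ℕᵒᵖ ⥤ DRing.Cx A :=
  Functor.ofOpSequence (X := fun n => (PR S₀ n).cochainComplex) (fun n => (homPR S₀ n).hom')

noncomputable abbrev SyS : ℕᵒᵖ ⥤ DRing.Cx A :=
  S₀ ⋙ HomologicalComplex.single (ModuleCat.{u} A) (ComplexShape.up ℤ) 0

noncomputable def ππ : FF S₀ ⟶ SyS S₀ :=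
  NatTrans.ofOpSequence (fun n => (PR S₀ n).π') (fun n => by
    have h1 : (FF S₀).map (homOfLE (n.le_add_right 1)).op = (homPR S₀ n).hom' :=
      Functor.ofOpSequence_map_homOfLE_succ _ n
    rw [h1]
    exact (homPR S₀ n).hom'_comp_π')

instance FF_isKProjective (n : ℕᵒᵖ) : ((FF S₀).obj n).IsKProjective :=
  inferInstanceAs ((PR S₀ n.unop).cochainComplex.IsKProjective)

instance FF_isStrictlyLE (n : ℕᵒᵖ) : ((FF S₀).obj n).IsStrictlyLE 0 :=
  inferInstanceAs ((PR S₀ n.unop).cochainComplex.IsStrictlyLE 0)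

instance quasiIso_ππ (n : ℕᵒᵖ) : QuasiIso ((ππ S₀).app n) :=
  inferInstanceAs (QuasiIso (PR S₀ n.unop).π')

lemma FF_kflat (n : ℕᵒᵖ) : KFlat ((FF S₀).obj n) := isKFlat_of_isKProjective _

lemma FF_flat (n : ℕᵒᵖ) (i : ℤ) : Module.Flat A (((FF S₀).obj n).X i) := by
  have h : Projective ((PR S₀ n.unop).cochainComplex.X i) := inferInstance
  have h2 : Module.Projective A ((PR S₀ n.unop).cochainComplex.X i) :=
    (IsProjective.iff_projective (R := A) (P := (PR S₀ n.unop).cochainComplex.X i)).2 h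
  exact inferInstanceAs (Module.Flat A ((PR S₀ n.unop).cochainComplex.X i))

end Res

section Mod

/-- `U ⊗ V ⟶ U ⊗ V/N` is an isomorphism when `U` is killed by `J` and `N ⊆ J V`. -/
lemma isIso_whiskerLeft_mkQ (J : Ideal A) (U V : ModuleCat.{u} A) (N : Submodule A V)
    (hU : ∀ a ∈ J, ∀ x : U, a • x = 0) (hN : N ≤ J • (⊤ : Submodule A V)) :
    IsIso (U ◁ (ModuleCat.ofHom N.mkQ : V ⟶ ModuleCat.of A (V ⧸ N))) := by
  rw [ConcreteCategory.isIso_iff_bijective]
  change Function.Bijective (LinearMap.lTensor U N.mkQ)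
  have h0 : LinearMap.lTensor U N.subtype = 0 := by
    apply TensorProduct.ext'
    intro x y
    change x ⊗ₜ[A] (y : V) = 0
    refine Submodule.smul_induction_on (hN y.2) (fun a ha v _ => ?_) (fun v w hv hw => ?_)
    · rw [← TensorProduct.smul_tmul, hU a ha x, TensorProduct.zero_tmul]
    · rw [TensorProduct.tmul_add, hv, hw, add_zero]
  have hex : Function.Exact (LinearMap.lTensor U N.subtype) (LinearMap.lTensor U N.mkQ) :=
    lTensor_exact U (LinearMap.exact_subtype_mkQ N) N.mkQ_surjective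
  refine ⟨?_, LinearMap.lTensor_surjective U N.mkQ_surjective⟩
  rw [injective_iff_map_eq_zero]
  intro z hz
  obtain ⟨w, rfl⟩ := (hex z).1 hz
  rw [h0]
  rfl

end Mod

section Adic

variable (I : Ideal A) (M : ModuleCat.{u} A)

/-- The cone of projections `M ⟶ M / I^(n+1) M`. -/
noncomputable def adicCone : (Functor.const ℕᵒᵖ).obj M ⟶ CohIII.adicSystem I M :=
  NatTrans.ofOpSequence (fun n => ModuleCat.ofHom (I ^ (n + 1) • (⊤ : Submodule A M)).mkQ)
    (fun n => by
      have h1 : (CohIII.adicSystem I M).map (homOfLE (n.le_add_right 1)).op =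
          ModuleCat.ofHom (Submodule.factor
            (Submodule.smul_mono_left (Ideal.pow_le_pow_right (Nat.le_succ (n + 1))))) :=
        Functor.ofOpSequence_map_homOfLE_succ _ n
      rw [h1]
      rfl)

lemma adic_le {n m : ℕ} (h : n ≤ m) :
    (I ^ (m + 1) • (⊤ : Submodule A M)) ≤ I ^ (n + 1) • (⊤ : Submodule A M) :=
  Submodule.smul_mono_left (Ideal.pow_le_pow_right (Nat.succ_le_succ h))

lemma adic_map {n m : ℕ} (h : n ≤ m) :
    (CohIII.adicSystem I M).map (homOfLE h).op =
      ModuleCat.ofHom (Submodule.mapQ (I ^ (m + 1) • (⊤ : Submodule A M))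
        (I ^ (n + 1) • (⊤ : Submodule A M)) LinearMap.id (by simpa using adic_le I M h)) := by
  have nat := (adicCone I M).naturality (homOfLE h).op
  have key : (adicCone I M).app (op m) ≫ (CohIII.adicSystem I M).map (homOfLE h).op =
      (adicCone I M).app (op m) ≫ ModuleCat.ofHom (Submodule.mapQ (I ^ (m + 1) • (⊤ : Submodule A M))
        (I ^ (n + 1) • (⊤ : Submodule A M)) LinearMap.id (by simpa using adic_le I M h)) :=
    nat.symm.trans rfl
  have hepi : Epi ((adicCone I M).app (op m)) :=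
    (ModuleCat.epi_iff_surjective _).2 (Submodule.mkQ_surjective _)
  exact (cancel_epi ((adicCone I M).app (op m))).1 key

lemma adic_killed (n : ℕ) :
    ∀ a ∈ I ^ (n + 1), ∀ y : ((CohIII.adicSystem I M).obj (op n) : ModuleCat.{u} A), a • y = 0 := by
  intro a ha y
  change M ⧸ (I ^ (n + 1) • (⊤ : Submodule A M)) at y
  obtain ⟨x, rfl⟩ := Submodule.Quotient.mk_surjective _ y
  change a • (Submodule.Quotient.mk x : M ⧸ (I ^ (n + 1) • (⊤ : Submodule A M))) = 0
  rw [← Submodule.Quotient.mk_smul, Submodule.Quotient.mk_eq_zero]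
  exact Submodule.smul_mem_smul ha Submodule.mem_top

end Adic

section Bridge

variable [HasLTen A] (F Sy : ℕᵒᵖ ⥤ DRing.Cx A) (π : F ⟶ Sy)
  (hF : ∀ n : ℕ, (F.obj (op n)).IsKProjective) (hπ : ∀ n : ℕ, QuasiIso (π.app (op n)))

include hF hπ in
theorem isProIso_εLeft_of_PP (K : DRing.Cx A) (h : PP F Sy π K) :
    DerCA.IsProIso (Functor.whiskerLeft Sy (DTen.εLeft A K)) := by
  have i1 : ∀ n : ℕ, IsIso ((ε A).app (K, F.obj (op n))) := fun n => by
    haveI := hF n
    exact isIso_ε_app_right K (F.obj (op n))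
  have i2 : ∀ n : ℕ, IsIso (DerivedCategory.Q.map (π.app (op n))) := fun n => by
    rw [DerivedCategory.isIso_Q_map_iff_quasiIso]
    exact hπ n
  let L : Dual.D A ⥤ Dual.D A := (LTen A).obj (DerivedCategory.Q.obj K)
  refine isProIso_of_iso_square (aK F Sy π K) (Functor.whiskerLeft Sy (DTen.εLeft A K))
    (fun n => (@asIso _ _ _ _ _ (i1 n)).symm ≪≫ L.mapIso (@asIso _ _ _ _ _ (i2 n)))
    (fun n => Iso.refl _) ?_ ?_ ?_ h
  · intro n m hnm
    have := i1 n
    have := i1 m
    let g := F.map (homOfLE hnm).op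
    let s := Sy.map (homOfLE hnm).op
    have nat1 : L.map (DerivedCategory.Q.map g) ≫ (ε A).app (K, F.obj (op n)) =
        (ε A).app (K, F.obj (op m)) ≫ DerivedCategory.Q.map (K ◁ g) :=
      (DTen.εLeft A K).naturality g
    have nat2 : g ≫ π.app (op n) = π.app (op m) ≫ s := π.naturality (homOfLE hnm).op
    have e1 : DerivedCategory.Q.map (K ◁ g) ≫ inv ((ε A).app (K, F.obj (op n))) =
        inv ((ε A).app (K, F.obj (op m))) ≫ L.map (DerivedCategory.Q.map g) := by
      rw [IsIso.comp_inv_eq, Category.assoc, nat1, IsIso.inv_hom_id_assoc]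
    have e2 : L.map (DerivedCategory.Q.map g) ≫ L.map (DerivedCategory.Q.map (π.app (op n))) =
        L.map (DerivedCategory.Q.map (π.app (op m))) ≫ L.map (DerivedCategory.Q.map s) := by
      rw [← L.map_comp, ← DerivedCategory.Q.map_comp, nat2, DerivedCategory.Q.map_comp,
        L.map_comp]
    change DerivedCategory.Q.map (K ◁ g) ≫ inv ((ε A).app (K, F.obj (op n))) ≫
        L.map (DerivedCategory.Q.map (π.app (op n))) =
      (inv ((ε A).app (K, F.obj (op m))) ≫ L.map (DerivedCategory.Q.map (π.app (op m)))) ≫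
        L.map (DerivedCategory.Q.map s)
    rw [← Category.assoc, e1, Category.assoc, e2, Category.assoc]
  · intro n m hnm
    rw [Iso.refl_hom, Iso.refl_hom, Category.comp_id, Category.id_comp]
  · intro n
    have := i1 n
    have nat3 : L.map (DerivedCategory.Q.map (π.app (op n))) ≫ (ε A).app (K, Sy.obj (op n)) =
        (ε A).app (K, F.obj (op n)) ≫ DerivedCategory.Q.map (K ◁ π.app (op n)) :=
      (DTen.εLeft A K).naturality (π.app (op n))
    change DerivedCategory.Q.map (K ◁ π.app (op n)) ≫ 𝟙 _ =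
      (inv ((ε A).app (K, F.obj (op n))) ≫ L.map (DerivedCategory.Q.map (π.app (op n)))) ≫
        (ε A).app (K, Sy.obj (op n))
    rw [Category.comp_id, Category.assoc, nat3, IsIso.inv_hom_id_assoc]

end Bridge

end Groth.Agent.Lib.Helper13.PZ
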