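import Groth.Agent.Lib.Helper13.PZ2

set_option autoImplicit false
set_option maxHeartbeats 800000
set_option linter.style.haveILetI false
universe u v' u'
open CategoryTheory CategoryTheory.Limits MonoidalCategory Pretriangulated Opposite
open CochainComplex CochainComplex.HomComplex HomologicalComplex
open scoped TensorProduct

namespace Groth.Agent.Lib.Helper13.PZ

open DTen Groth.Agent.Lib.Helper13.HT Groth.Agent.Lib.Helper13.SF Groth.Agent.Lib.Helper13.KP
  Groth.Agent.Lib.Helper13.DT Groth.Agent.Lib.Helper13.DV Groth.Agent.Lib.Helper13.DCN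
  Groth.Agent.Lib.Helper13.DR Groth.Agent.Lib.Helper13.PC Groth.Agent.Lib.Helper13
  Groth.Agent.Lib.Helper13.Coind Groth.Agent.Lib.Helper13.FC
  Groth.Agent.Lib.Helper2.RGTors Groth.Agent.Lib.Helper2.TorsExt
  Groth.Agent.Lib.Helper7.DerivedComplete Groth.Agent.Lib.Helper7.DerivedCompleteMT
  Groth.Agent.Lib.Helper7.FComplete Groth.Agent.Lib.Helper13.LDC Groth.Agent.Lib.Helper13.ACF
  Groth.Agent.Lib.Helper13.PSF Groth.Agent.Lib.Helper13.TB Groth.Agent.Lib.Helper13.TPZ
  Groth.Agent.Lib.Helper2.ProSys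

attribute [local instance] HasDerivedCategory.standard


variable {A : Type u} [CommRing A]

section Top

variable (K : DRing.Cx A) (b : ℤ) (hK : IsZero (K.X (b + 1)))

/-- The short complex `K^b[-b] ⟶ K ⟶ K'` removing the top term. -/
noncomputable def topSC : ShortComplex (DRing.Cx A) :=
  ShortComplex.mk (topInclusion K b hK) (cokernel.π _) (cokernel.condition _)

lemma topInclusion_f_self :
    (topInclusion K b hK).f b = (singleObjXSelf (ComplexShape.up ℤ) b (K.X b)).hom := by
  simp [topInclusion]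

lemma topSC_shortExact : (topSC K b hK).ShortExact := by
  let i := topInclusion K b hK
  have hi : ∀ k : ℤ, Mono (i.f k) := fun k => by
    by_cases h : k = b
    · subst h
      have : i.f k = (singleObjXSelf (ComplexShape.up ℤ) k (K.X k)).hom :=
        topInclusion_f_self K k hK
      rw [this]; infer_instance
    · exact ⟨fun _ _ _ => (isZero_single_obj_X (ComplexShape.up ℤ) b (K.X b) k h).eq_of_tgt _ _⟩
  have : Mono i := HomologicalComplex.mono_of_mono_f i hi
  exact
    { exact := ShortComplex.exact_cokernel i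
      mono_f := this
      epi_g := inferInstanceAs (Epi (cokernel.π i)) }

lemma topSC_shortExact_eval (k : ℤ) :
    ((topSC K b hK).map (HomologicalComplex.eval _ (ComplexShape.up ℤ) k)).ShortExact :=
  (topSC_shortExact K b hK).map_of_exact _

lemma topSC_isIso_f : IsIso ((topSC K b hK).map (HomologicalComplex.eval _ (ComplexShape.up ℤ) b)).f := by
  change IsIso ((topInclusion K b hK).f b)
  rw [topInclusion_f_self]
  infer_instance

lemma topSC_isZero : IsZero ((topSC K b hK).X₃.X b) :=
  (topSC_shortExact_eval K b hK b).isIso_f_iff.1 (topSC_isIso_f K b hK)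

lemma topSC_isIso_g (k : ℤ) (hk : k ≠ b) :
    IsIso ((topSC K b hK).map (HomologicalComplex.eval _ (ComplexShape.up ℤ) k)).g :=
  (topSC_shortExact_eval K b hK k).isIso_g_iff.2
    (isZero_single_obj_X (ComplexShape.up ℤ) b (K.X b) k hk)

noncomputable def topSCIso (k : ℤ) (hk : k ≠ b) : K.X k ≅ (topSC K b hK).X₃.X k :=
  @asIso _ _ _ _ ((topSC K b hK).map (HomologicalComplex.eval _ (ComplexShape.up ℤ) k)).g
    (topSC_isIso_g K b hK k hk)

lemma topSC_nonempty_splitting (k : ℤ) :
    Nonempty ((topSC K b hK).map (HomologicalComplex.eval _ (ComplexShape.up ℤ) k)).Splitting := by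
  by_cases h : k = b
  · subst h
    exact ⟨ShortComplex.Splitting.ofIsIsoOfIsZero _ (topSC_isIso_f K k hK) (topSC_isZero K k hK)⟩
  · exact ⟨ShortComplex.Splitting.ofIsZeroOfIsIso _
      (isZero_single_obj_X (ComplexShape.up ℤ) b (K.X b) k h) (topSC_isIso_g K b hK k h)⟩

noncomputable def topSC_splitting (k : ℤ) :
    ((topSC K b hK).map (HomologicalComplex.eval _ (ComplexShape.up ℤ) k)).Splitting :=
  (topSC_nonempty_splitting K b hK k).some

end Top

lemma finite_of_isZero (M : ModuleCat.{u} A) (h : IsZero M) : Module.Finite A M := by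
  haveI := ModuleCat.subsingleton_of_isZero h
  exact Module.Finite.of_surjective (0 : A →ₗ[A] M) (fun y => ⟨0, Subsingleton.elim _ _⟩)

section Dev

variable (F Sy : ℕᵒᵖ ⥤ DRing.Cx A) (π : F ⟶ Sy)

theorem PP_of_single
    (hs : ∀ (i : ℤ) (M : ModuleCat.{u} A), Module.Finite A M →
      PP F Sy π ((HomologicalComplex.single (ModuleCat.{u} A) (ComplexShape.up ℤ) i).obj M))
    (K : DRing.Cx A) (a b : ℤ) (hK : DRing.VanishesOutside K a b)
    (hf : ∀ i : ℤ, Module.Finite A (K.X i)) : PP F Sy π K := by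
  have key : ∀ (j : ℕ) (K : DRing.Cx A), (∀ i : ℤ, i < a ∨ a - 1 + j < i → IsZero (K.X i)) →
      (∀ i : ℤ, Module.Finite A (K.X i)) → PP F Sy π K := by
    intro j
    induction j with
    | zero =>
      intro K hK _
      have hz : ∀ i : ℤ, IsZero (K.X i) := fun i => hK i (by simp; lia)
      have hK0 : IsZero K := by
        rw [IsZero.iff_id_eq_zero]
        refine HomologicalComplex.hom_ext _ _ (fun i => ?_)
        exact (hz i).eq_of_src _ _
      exact PP_of_isZero F Sy π K hK0
    | succ j ih =>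
      intro K hK hfin
      obtain ⟨b, hbj⟩ : ∃ b : ℤ, b = a + j := ⟨_, rfl⟩
      have hK' : ∀ i : ℤ, b < i → IsZero (K.X i) := fun i hi => hK i (Or.inr (by push_cast; lia))
      have hKb : IsZero (K.X (b + 1)) := hK' _ (by lia)
      have h1 : PP F Sy π (topSC K b hKb).X₁ := hs b (K.X b) (hfin b)
      have h3 : PP F Sy π (topSC K b hKb).X₃ := by
        refine ih _ (fun i hi => ?_) (fun i => ?_)
        · by_cases h : i = b
          · subst h; exact topSC_isZero K i hKb
          · refine (hK i ?_).of_iso (topSCIso K b hKb i h).symm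
            rcases hi with hi | hi
            · exact Or.inl hi
            · exact Or.inr (by push_cast; lia)
        · by_cases h : i = b
          · subst h
            exact finite_of_isZero _ (topSC_isZero K i hKb)
          · haveI := hfin i
            exact Module.Finite.equiv (topSCIso K b hKb i h).toLinearEquiv
      exact PP_mid F Sy π (topSC K b hKb) (topSC_splitting K b hKb) h1 h3
  by_cases hab : a - 1 ≤ b
  · refine key (b - (a - 1)).toNat K (fun i hi => hK i ?_) hf
    rw [Int.toNat_of_nonneg (by lia)] at hi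
    rcases hi with hi | hi
    · exact Or.inl hi
    · exact Or.inr (by lia)
  · refine key 0 K (fun i hi => hK i ?_) hf
    by_cases h : i < a
    · exact Or.inl h
    · exact Or.inr (by lia)

end Dev

section PsiL

variable (U : DRing.Cx A) (hU : KFlat U)

include hU in
lemma inverts_tensorLeft_Q :
    (HomologicalComplex.quasiIso (ModuleCat.{u} A) (ComplexShape.up ℤ)).IsInvertedBy
      (tensorLeft U ⋙ DerivedCategory.Q) := by
  intro X Y f hf
  have : QuasiIso f := (HomologicalComplex.mem_quasiIso_iff f).1 hf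
  have h2 : QuasiIso (U ◁ f) := quasiIso_whiskerLeft_of_kflat_left U hU f
  change IsIso (DerivedCategory.Q.map (U ◁ f))
  rw [DerivedCategory.isIso_Q_map_iff_quasiIso]
  exact h2

noncomputable def PsiL : Dual.D A ⥤ Dual.D A :=
  Localization.lift (tensorLeft U ⋙ DerivedCategory.Q) (inverts_tensorLeft_Q U hU)
    DerivedCategory.Q

noncomputable def psiLIso : DerivedCategory.Q ⋙ PsiL U hU ≅ tensorLeft U ⋙ DerivedCategory.Q :=
  Localization.fac _ _ _

lemma psi_square (K : DRing.Cx A) {V W : DRing.Cx A} (g : V ⟶ W) :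
    (PsiL U hU).map (DerivedCategory.Q.map (K ◁ g)) ≫
        ((psiLIso U hU).app (K ⊗ W)).hom ≫ DerivedCategory.Q.map (α_ U K W).inv =
      (((psiLIso U hU).app (K ⊗ V)).hom ≫ DerivedCategory.Q.map (α_ U K V).inv) ≫
        DerivedCategory.Q.map ((U ⊗ K) ◁ g) := by
  have nat : (PsiL U hU).map (DerivedCategory.Q.map (K ◁ g)) ≫ (psiLIso U hU).hom.app (K ⊗ W) =
      (psiLIso U hU).hom.app (K ⊗ V) ≫ DerivedCategory.Q.map (U ◁ K ◁ g) :=
    (psiLIso U hU).hom.naturality (K ◁ g)
  have as : U ◁ K ◁ g ≫ (α_ U K W).inv = (α_ U K V).inv ≫ (U ⊗ K) ◁ g :=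
    associator_inv_naturality_right U K g
  change (PsiL U hU).map (DerivedCategory.Q.map (K ◁ g)) ≫
        (psiLIso U hU).hom.app (K ⊗ W) ≫ DerivedCategory.Q.map (α_ U K W).inv =
      ((psiLIso U hU).hom.app (K ⊗ V) ≫ DerivedCategory.Q.map (α_ U K V).inv) ≫
        DerivedCategory.Q.map ((U ⊗ K) ◁ g)
  rw [← Category.assoc, nat, Category.assoc, ← Functor.map_comp, as, Functor.map_comp,
    Category.assoc]

variable (F Sy : ℕᵒᵖ ⥤ DRing.Cx A) (π : F ⟶ Sy)

include hU in
theorem PP_tensorLeft (K : DRing.Cx A) (h : PP F Sy π K) : PP F Sy π (U ⊗ K) := by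
  have h' := isProIso_whiskerRight h (PsiL U hU)
  refine isProIso_of_iso_square (Functor.whiskerRight (aK F Sy π K) (PsiL U hU))
    (aK F Sy π (U ⊗ K))
    (fun n => (psiLIso U hU).app (K ⊗ F.obj (op n)) ≪≫
      DerivedCategory.Q.mapIso (α_ U K (F.obj (op n))).symm)
    (fun n => (psiLIso U hU).app (K ⊗ Sy.obj (op n)) ≪≫
      DerivedCategory.Q.mapIso (α_ U K (Sy.obj (op n))).symm) ?_ ?_ ?_ h'
  · intro n m hnm
    exact psi_square U hU K (F.map (homOfLE hnm).op)
  · intro n m hnm
    exact psi_square U hU K (Sy.map (homOfLE hnm).op)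
  · intro n
    exact psi_square U hU K (π.app (op n))

end PsiL

section Single

variable (A)

/-- The complex `A[-b]`. -/
noncomputable abbrev Ub (b : ℤ) : DRing.Cx A :=
  (HomologicalComplex.single (ModuleCat.{u} A) (ComplexShape.up ℤ) b).obj (ModuleCat.of A A)

lemma kflat_Ub (b : ℤ) : KFlat (Ub A b) := by
  haveI : (Ub A b).IsStrictlyLE b :=
    inferInstanceAs (((CochainComplex.singleFunctor (ModuleCat.{u} A) b).obj
      (ModuleCat.of A A)).IsStrictlyLE b)
  haveI : ∀ n, Projective ((Ub A b).X n) := fun n => by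
    by_cases h : n = b
    · subst h
      have : Projective (ModuleCat.of A A) := (IsProjective.iff_projective _).1 inferInstance
      exact Projective.of_iso (singleObjXSelf (ComplexShape.up ℤ) n (ModuleCat.of A A)).symm this
    · exact (isZero_single_obj_X (ComplexShape.up ℤ) b _ n h).projective
  haveI : (Ub A b).IsKProjective := CochainComplex.isKProjective_of_projective _ b
  exact isKFlat_of_isKProjective _

variable {A}

/-- `M[-b] ≅ A[-b] ⊗ M[0]`. -/
noncomputable def singleIso (b : ℤ) (M : ModuleCat.{u} A) :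
    (HomologicalComplex.single (ModuleCat.{u} A) (ComplexShape.up ℤ) b).obj M ≅ Ub A b ⊗ sg0 M :=
  (HomologicalComplex.single (ModuleCat.{u} A) (ComplexShape.up ℤ) b).mapIso (λ_ M).symm ≪≫
    ((HomologicalComplex.singleMapHomologicalComplex (tensorRight M) (ComplexShape.up ℤ) b).app
      (ModuleCat.of A A)).symm ≪≫ tensorSingleIso (Ub A b) M

variable (F Sy : ℕᵒᵖ ⥤ DRing.Cx A) (π : F ⟶ Sy)

theorem PP_of_sg0
    (hmod : ∀ M : ModuleCat.{u} A, Module.Finite A M → PP F Sy π (sg0 M))
    (K : DRing.Cx A) (a b : ℤ) (hK : DRing.VanishesOutside K a b)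
    (hf : ∀ i : ℤ, Module.Finite A (K.X i)) : PP F Sy π K :=
  PP_of_single F Sy π (fun i M hM => PP_of_iso F Sy π (singleIso i M).symm
    (PP_tensorLeft (Ub A i) (kflat_Ub A i) F Sy π (sg0 M) (hmod M hM))) K a b hK hf

end Single

end Groth.Agent.Lib.Helper13.PZ
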