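import Groth.Agent.Lib.Helper13.PZ3

set_option autoImplicit false
set_option maxHeartbeats 800000
set_option linter.style.haveILetI false
universe u v' u'
open CategoryTheory CategoryTheory.Limits MonoidalCategory Pretriangulated Opposite
open CochainComplex CochainComplex.HomComplex HomologicalComplex
open scoped TensorProduct

namespace Groth.Agent.Lib.Helper13.PZ

open DTen Groth.Agent.Lib.Helper13.HT Groth.Agent.Lib.Helper13.SF Groth.Agent.Lib.Helper13.KP
  Groth.Agent.Lib.Helper13.DT Groth.Agent.Lib.Helper13.DV Groth.Agent.Lib.Helper13.DCN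
  Groth.Agent.Lib.Helper13.DR Groth.Agent.Lib.Helper13.PC Groth.Agent.Lib.Helper13
  Groth.Agent.Lib.Helper13.Coind Groth.Agent.Lib.Helper13.FC
  Groth.Agent.Lib.Helper2.RGTors Groth.Agent.Lib.Helper2.TorsExt
  Groth.Agent.Lib.Helper7.DerivedComplete Groth.Agent.Lib.Helper7.DerivedCompleteMT
  Groth.Agent.Lib.Helper7.FComplete Groth.Agent.Lib.Helper13.LDC Groth.Agent.Lib.Helper13.ACF
  Groth.Agent.Lib.Helper13.PSF Groth.Agent.Lib.Helper13.TB Groth.Agent.Lib.Helper13.TPZ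
  Groth.Agent.Lib.Helper2.ProSys

attribute [local instance] HasDerivedCategory.standard


variable {A : Type u} [CommRing A]

/-- Functoriality of `tensorCxSC` in the short complex. -/
noncomputable def tensorCxSCMap (E : DRing.Cx A) {S S' : ShortComplex (ModuleCat.{u} A)}
    (φ : S ⟶ S') : tensorCxSC E S ⟶ tensorCxSC E S' where
  τ₁ := tensorCxMap E φ.τ₁
  τ₂ := tensorCxMap E φ.τ₂
  τ₃ := tensorCxMap E φ.τ₃
  comm₁₂ := by
    change tensorCxMap E φ.τ₁ ≫ tensorCxMap E S'.f = tensorCxMap E S.f ≫ tensorCxMap E φ.τ₂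
    rw [← tensorCxMap_comp, ← tensorCxMap_comp, φ.comm₁₂]
  comm₂₃ := by
    change tensorCxMap E φ.τ₂ ≫ tensorCxMap E S'.g = tensorCxMap E S.g ≫ tensorCxMap E φ.τ₃
    rw [← tensorCxMap_comp, ← tensorCxMap_comp, φ.comm₂₃]

variable [IsNoetherianRing A] (I : Ideal A)

/-- The submodule `I^(n+1)` of `A`. -/
abbrev Nn (n : ℕ) : Submodule A (ModuleCat.of A A) :=
  I ^ (n + 1) • (⊤ : Submodule A (ModuleCat.of A A))

section G

variable (k c n m : ℕ) (hmdef : m = n + k * c)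

include hmdef in
lemma gMap_mem (x : ↥(Nn I m)) :
    (⟨x.1, adic_le I (ModuleCat.of A A) (by rw [hmdef]; exact Nat.le_add_right _ _) x.2⟩ : ↥(Nn I n)) ∈
      ((I ^ k) ^ c • (⊤ : Submodule A ↥(Nn I n))) := by
  rw [Submodule.mem_smul_top_iff, ← Submodule.mul_smul, ← pow_mul, ← pow_add]
  have e : k * c + (n + 1) = m + 1 := by rw [hmdef]; ring
  rw [e]
  exact x.2


noncomputable def gMap : ↥(Nn I m) →ₗ[A] ↥((I ^ k) ^ c • (⊤ : Submodule A ↥(Nn I n))) :=
  LinearMap.codRestrict _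
    (Submodule.inclusion (adic_le I (ModuleCat.of A A) (by rw [hmdef]; exact Nat.le_add_right _ _)))
    (fun x => gMap_mem I k c n m hmdef x)

lemma gMap_comp : ((I ^ k) ^ c • (⊤ : Submodule A ↥(Nn I n))).subtype ∘ₗ gMap I k c n m hmdef =
    Submodule.inclusion (adic_le I (ModuleCat.of A A) (by rw [hmdef]; exact Nat.le_add_right _ _)) :=
  rfl

lemma hfac_lemma (hm : n ≤ m) :
    (subSCMap (ModuleCat.of A A) (adic_le I (ModuleCat.of A A) hm)).τ₁ =
      (ModuleCat.ofHom (gMap I k c n m hmdef) :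
        ModuleCat.of A ↥(Nn I m) ⟶ ModuleCat.of A ↥((I ^ k) ^ c • (⊤ : Submodule A ↥(Nn I n)))) ≫
      ModuleCat.ofHom ((I ^ k) ^ c • (⊤ : Submodule A ↥(Nn I n))).subtype := by
  rw [← ModuleCat.ofHom_comp, gMap_comp]
  rfl

end G

lemma Q_tensorCxMap_comp_eq_zero (P : DRing.Cx A) {X X' X'' : ModuleCat.{u} A} (f : X ⟶ X'')
    (g : X ⟶ X') (j : X' ⟶ X'') (h : f = g ≫ j)
    (h1 : DerivedCategory.Q.map (tensorCxMap P j) = 0) :
    DerivedCategory.Q.map (tensorCxMap P f) = 0 := by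
  subst h
  exact (congrArg DerivedCategory.Q.map (tensorCxMap_comp P g j)).trans
    ((DerivedCategory.Q.map_comp _ _).trans (by rw [h1, comp_zero]))

section Core

variable (k : ℕ) (Z : ModuleCat.{u} A) (hZ : ∀ a ∈ I ^ k, ∀ z : Z, a • z = 0)
  (P : DRing.Cx A) (hPK : KFlat P) (hfl : ∀ i : ℤ, Module.Flat A (P.X i))
  (ρ : P ⟶ sg0 Z) [QuasiIso ρ]

include hZ hPK hfl in
theorem core_tors (n : ℕ) (hn : k ≤ n + 1) :
    ∃ (m : ℕ) (hm : n ≤ m)
      (b : DerivedCategory.Q.obj ((tensorCx (subSC (ModuleCat.of A A) (Nn I m)).X₃).obj (sg0 Z)) ⟶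
        DerivedCategory.Q.obj ((tensorCx (subSC (ModuleCat.of A A) (Nn I n)).X₃).obj P)),
      DerivedCategory.Q.map ((tensorCx (subSC (ModuleCat.of A A) (Nn I m)).X₃).map ρ) ≫ b =
          DerivedCategory.Q.map
            (tensorCxMap P (subSCMap (ModuleCat.of A A) (adic_le I (ModuleCat.of A A) hm)).τ₃) ∧
        b ≫ DerivedCategory.Q.map ((tensorCx (subSC (ModuleCat.of A A) (Nn I n)).X₃).map ρ) =
          DerivedCategory.Q.map (tensorCxMap (sg0 Z)
            (subSCMap (ModuleCat.of A A) (adic_le I (ModuleCat.of A A) hm)).τ₃) := by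
  classical
  let MA : ModuleCat.{u} A := ModuleCat.of A A
  haveI : IsNoetherian A MA := inferInstanceAs (IsNoetherian A A)
  haveI : Module.Finite A ↥(Nn I n) := inferInstance
  obtain ⟨c, hc, key⟩ := exists_Q_map_whiskerRight_eq_zero (I ^ k) ↥(Nn I n)
  obtain ⟨m, hmdef⟩ : ∃ m : ℕ, m = n + k * c := ⟨_, rfl⟩
  have hm : n ≤ m := by rw [hmdef]; exact Nat.le_add_right _ _
  have hle : Nn I m ≤ Nn I n := adic_le I MA hm
  refine ⟨m, hm, ?_⟩
  let Sn := subSC MA (Nn I n)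
  let Sm := subSC MA (Nn I m)
  let φ : Sm ⟶ Sn := subSCMap MA hle
  have hSn : (tensorCxSC P Sn).ShortExact :=
    tensorCxSC_shortExact P hfl Sn (subSC_shortExact MA (Nn I n))
  have hSm : (tensorCxSC P Sm).ShortExact :=
    tensorCxSC_shortExact P hfl Sm (subSC_shortExact MA (Nn I m))
  let T := DerivedCategory.triangleOfSES hSn
  have hT : T ∈ distTriang _ := DerivedCategory.triangleOfSES_distinguished hSn
  -- the uniform Artin-Rees vanishing
  let X : ModuleCat.{u} A := ModuleCat.of A ↥(Nn I n)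
  let X' : ModuleCat.{u} A := ModuleCat.of A ↥((I ^ k) ^ c • (⊤ : Submodule A ↥(Nn I n)))
  let j' : X' ⟶ X := ModuleCat.ofHom ((I ^ k) ^ c • (⊤ : Submodule A ↥(Nn I n))).subtype
  have h0 := key Z hZ P hPK ρ inferInstance
  have h1 : DerivedCategory.Q.map (tensorCxMap P j') = 0 := by
    have nat := singleTensorIso_hom_naturality P j'
    have e : tensorCxMap P j' = (singleTensorIso P X').inv ≫
        ((HomologicalComplex.single (ModuleCat.{u} A) (ComplexShape.up ℤ) 0).map j' ▷ P) ≫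
          (singleTensorIso P X).hom := by
      rw [← nat, Iso.inv_hom_id_assoc]
    rw [e, Functor.map_comp, Functor.map_comp, h0, zero_comp, comp_zero]
  have hw : DerivedCategory.Q.map (tensorCxMap P φ.τ₁) = 0 :=
    Q_tensorCxMap_comp_eq_zero P φ.τ₁ (ModuleCat.ofHom (gMap I k c n m hmdef)) j'
      (hfac_lemma I k c n m hmdef hm) h1
  have hδ := DerivedCategory.triangleOfSESδ_naturality hSm hSn (tensorCxSCMap P φ)
  have hτ : DerivedCategory.Q.map (tensorCxMap P φ.τ₃) ≫ T.mor₃ = 0 := by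
    refine hδ.symm.trans ?_
    change _ ≫ (CategoryTheory.shiftFunctor (Dual.D A) (1 : ℤ)).map
      (DerivedCategory.Q.map (tensorCxMap P φ.τ₁)) = 0
    rw [hw, Functor.map_zero, comp_zero]
  let pm : MA ⟶ Sm.X₃ := ModuleCat.ofHom (Nn I m).mkQ
  let pn : MA ⟶ Sn.X₃ := ModuleCat.ofHom (Nn I n).mkQ
  have epq : pm ≫ φ.τ₃ = pn := ModuleCat.hom_ext (LinearMap.ext (fun x => rfl))
  let p' : T.obj₂ ⟶ DerivedCategory.Q.obj ((tensorCx Sm.X₃).obj P) :=
    DerivedCategory.Q.map (tensorCxMap P pm)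
  let τ : DerivedCategory.Q.obj ((tensorCx Sm.X₃).obj P) ⟶ T.obj₃ :=
    DerivedCategory.Q.map (tensorCxMap P φ.τ₃)
  let α' := DerivedCategory.Q.map ((tensorCx Sm.X₃).map ρ)
  let α : T.obj₃ ⟶ DerivedCategory.Q.obj ((tensorCx Sn.X₃).obj (sg0 Z)) :=
    DerivedCategory.Q.map ((tensorCx Sn.X₃).map ρ)
  let t := DerivedCategory.Q.map (tensorCxMap (sg0 Z) φ.τ₃)
  have hp : p' ≫ τ = T.mor₂ := by
    have e2 : tensorCxMap P pm ≫ tensorCxMap P φ.τ₃ = tensorCxMap P pn :=
      (tensorCxMap_comp P pm φ.τ₃).symm.trans (congrArg (fun f => tensorCxMap P f) epq)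
    exact (DerivedCategory.Q.map_comp _ _).symm.trans (congrArg DerivedCategory.Q.map e2)
  have hα : α' ≫ t = τ ≫ α := by
    change DerivedCategory.Q.map ((tensorCx Sm.X₃).map ρ) ≫
        DerivedCategory.Q.map (tensorCxMap (sg0 Z) φ.τ₃) =
      DerivedCategory.Q.map (tensorCxMap P φ.τ₃) ≫ DerivedCategory.Q.map ((tensorCx Sn.X₃).map ρ)
    exact (DerivedCategory.Q.map_comp _ _).symm.trans
      ((congrArg DerivedCategory.Q.map (tensorCxMap_naturality φ.τ₃ ρ)).trans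
        (DerivedCategory.Q.map_comp _ _))
  have hβ : ∀ (j : ℕ) (_ : k ≤ j + 1),
      IsIso (DerivedCategory.Q.map (tensorCxMap P (subSC MA (Nn I j)).g) ≫
        DerivedCategory.Q.map ((tensorCx (subSC MA (Nn I j)).X₃).map ρ)) := by
    intro j hj
    have e : DerivedCategory.Q.map (tensorCxMap P (subSC MA (Nn I j)).g) ≫
        DerivedCategory.Q.map ((tensorCx (subSC MA (Nn I j)).X₃).map ρ) =
        DerivedCategory.Q.map ((tensorCx MA).map ρ) ≫
          DerivedCategory.Q.map (tensorCxMap (sg0 Z) (subSC MA (Nn I j)).g) :=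
      (DerivedCategory.Q.map_comp _ _).symm.trans
        ((congrArg DerivedCategory.Q.map (tensorCxMap_naturality (subSC MA (Nn I j)).g ρ).symm).trans
          (DerivedCategory.Q.map_comp _ _))
    rw [e]
    haveI : Module.Flat A MA := inferInstanceAs (Module.Flat A A)
    have q1 : QuasiIso ((tensorCx MA).map ρ) := quasiIso_tensorCx_map MA ρ
    have i1 : IsIso (DerivedCategory.Q.map ((tensorCx MA).map ρ)) := by
      rw [DerivedCategory.isIso_Q_map_iff_quasiIso]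
      exact q1
    have i2 : IsIso (tensorCxMap (sg0 Z) (subSC MA (Nn I j)).g) :=
      isIso_tensorCxMap_sg0 Z _ (isIso_whiskerLeft_mkQ (I ^ k) Z MA (Nn I j) hZ
        (Submodule.smul_mono_left (Ideal.pow_le_pow_right hj)))
    have i3 : IsIso (DerivedCategory.Q.map (tensorCxMap (sg0 Z) (subSC MA (Nn I j)).g)) :=
      Functor.map_isIso _ _
    exact @IsIso.comp_isIso _ _ _ _ _ _ _ i1 i3
  have hkm : k ≤ m + 1 := le_trans hn (Nat.succ_le_succ hm)
  haveI := hβ m hkm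
  obtain ⟨e1, e2⟩ := AL T hT p' τ α' α t hp hα hτ (hβ m hkm) (hβ n hn)
  exact ⟨@inv _ _ _ _ (p' ≫ α') (hβ m hkm) ≫ T.mor₂, e1, e2⟩

end Core

end Groth.Agent.Lib.Helper13.PZ
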