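import Groth.Agent.Lib.Helper13.PZ4

set_option autoImplicit false
set_option maxHeartbeats 800000
set_option linter.style.haveILetI false
universe u v' u'
open CategoryTheory CategoryTheory.Limits MonoidalCategory Pretriangulated Opposite
open CochainComplex CochainComplex.HomComplex HomologicalComplex
open scoped TensorProduct

namespace Groth.Agent.Lib.Helper13.PZ

open DTen Groth.Agent.Lib.Helper13.HT Groth.Agent.Lib.Helper13.SF Groth.Agent.Lib.Helper13.KP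
  Groth.Agent.Lib.Helper13.DT Groth.Agent.Lib.Helper13.DV Groth.Agent.Lib.Helper13.DCN
  Groth.Agent.Lib.Helper13.DR Groth.Agent.Lib.Helper13.PC Groth.Agent.Lib.Helper13
  Groth.Agent.Lib.Helper13.Coind Groth.Agent.Lib.Helper13.FC
  Groth.Agent.Lib.Helper2.RGTors Groth.Agent.Lib.Helper2.TorsExt
  Groth.Agent.Lib.Helper7.DerivedComplete Groth.Agent.Lib.Helper7.DerivedCompleteMT
  Groth.Agent.Lib.Helper7.FComplete Groth.Agent.Lib.Helper13.LDC Groth.Agent.Lib.Helper13.ACF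
  Groth.Agent.Lib.Helper13.PSF Groth.Agent.Lib.Helper13.TB Groth.Agent.Lib.Helper13.TPZ
  Groth.Agent.Lib.Helper2.ProSys

attribute [local instance] HasDerivedCategory.standard


section AbsT

variable {C : Type u'} [Category.{v'} C]

lemma abstract_tA {X1 X2 X3 X4 X5 X6 : C} (u₁ : X1 ⟶ X2) (iZ : X2 ⟶ X3) (b0 : X3 ⟶ X4)
    (iPn : X4 ⟶ X5) (iPmi : X1 ⟶ X6) (a₁ : X6 ⟶ X3) (c : X6 ⟶ X4) (iPm : X6 ⟶ X1) (v : X1 ⟶ X5)
    (n1 : u₁ ≫ iZ = iPmi ≫ a₁) (h1 : a₁ ≫ b0 = c) (n2 : c ≫ iPn = iPm ≫ v)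
    (n3 : iPmi ≫ iPm = 𝟙 _) : u₁ ≫ iZ ≫ b0 ≫ iPn = v := by
  calc u₁ ≫ iZ ≫ b0 ≫ iPn = (u₁ ≫ iZ) ≫ b0 ≫ iPn := by simp only [Category.assoc]
    _ = iPmi ≫ (a₁ ≫ b0) ≫ iPn := by rw [n1]; simp only [Category.assoc]
    _ = iPmi ≫ iPm ≫ v := by rw [h1, n2]
    _ = v := by rw [← Category.assoc, n3, Category.id_comp]

lemma abstract_tB {X1 X2 X3 X4 X5 X6 : C} (iZmi : X1 ⟶ X2) (b0 : X2 ⟶ X3) (iPn : X3 ⟶ X4)
    (u₂ : X4 ⟶ X5) (a₂ : X3 ⟶ X6) (iZn : X6 ⟶ X5) (c' : X2 ⟶ X6) (iZm : X2 ⟶ X1) (v' : X1 ⟶ X5)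
    (n1 : iPn ≫ u₂ = a₂ ≫ iZn) (h2 : b0 ≫ a₂ = c') (n2 : c' ≫ iZn = iZm ≫ v')
    (n3 : iZmi ≫ iZm = 𝟙 _) : (iZmi ≫ b0 ≫ iPn) ≫ u₂ = v' := by
  calc (iZmi ≫ b0 ≫ iPn) ≫ u₂ = iZmi ≫ b0 ≫ (iPn ≫ u₂) := by simp only [Category.assoc]
    _ = iZmi ≫ (b0 ≫ a₂) ≫ iZn := by rw [n1]; simp only [Category.assoc]
    _ = iZmi ≫ iZm ≫ v' := by rw [h2, n2]
    _ = v' := by rw [← Category.assoc, n3, Category.id_comp]

end AbsT

variable {A : Type u} [CommRing A] [IsNoetherianRing A] (I : Ideal A)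

section Core

variable (k : ℕ) (Z : ModuleCat.{u} A) (hZ : ∀ a ∈ I ^ k, ∀ z : Z, a • z = 0)
  (P : DRing.Cx A) (hPK : KFlat P) (hfl : ∀ i : ℤ, Module.Flat A (P.X i))
  (ρ : P ⟶ sg0 Z) [QuasiIso ρ]

include hZ hPK hfl in
theorem isProIso_sysMap_tors :
    DerCA.IsProIso (sysMap ρ (SyS (CohIII.adicSystem I (ModuleCat.of A A)))) := by
  let MA : ModuleCat.{u} A := ModuleCat.of A A
  let S₀ := CohIII.adicSystem I MA
  apply isProIso_of_ge _ (k - 1)
  intro n hn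
  obtain ⟨m, hm, b0, h1, h2⟩ := core_tors I k Z hZ P hPK hfl ρ n (by lia)
  let Rn : ModuleCat.{u} A := S₀.obj (op n)
  let Rm : ModuleCat.{u} A := S₀.obj (op m)
  let s : Rm ⟶ Rn := S₀.map (homOfLE hm).op
  have hs : s = (subSCMap MA (adic_le I MA hm)).τ₃ := adic_map I MA hm
  let sg : sg0 Rm ⟶ sg0 Rn :=
    (HomologicalComplex.single (ModuleCat.{u} A) (ComplexShape.up ℤ) 0).map s
  have h1' : DerivedCategory.Q.map ((tensorCx Rm).map ρ) ≫ b0 =
      DerivedCategory.Q.map (tensorCxMap P s) := by rw [hs]; exact h1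
  have h2' : b0 ≫ DerivedCategory.Q.map ((tensorCx Rn).map ρ) =
      DerivedCategory.Q.map (tensorCxMap (sg0 Z) s) := by rw [hs]; exact h2
  have n1 : ∀ R : ModuleCat.{u} A, DerivedCategory.Q.map (ρ ▷ sg0 R) ≫
      DerivedCategory.Q.map (tensorSingleIso (sg0 Z) R).inv =
      DerivedCategory.Q.map (tensorSingleIso P R).inv ≫
        DerivedCategory.Q.map ((tensorCx R).map ρ) := by
    intro R
    have nat := tensorSingleIso_hom_naturality ρ R
    have e : (ρ ▷ sg0 R) ≫ (tensorSingleIso (sg0 Z) R).inv =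
        (tensorSingleIso P R).inv ≫ (tensorCx R).map ρ := by
      rw [Iso.comp_inv_eq, Category.assoc, nat, Iso.inv_hom_id_assoc]
    rw [← Functor.map_comp, e, Functor.map_comp]
  have n2 : ∀ E : DRing.Cx A, DerivedCategory.Q.map (tensorCxMap E s) ≫
      DerivedCategory.Q.map (tensorSingleIso E Rn).hom =
      DerivedCategory.Q.map (tensorSingleIso E Rm).hom ≫ DerivedCategory.Q.map (E ◁ sg) := by
    intro E
    rw [← Functor.map_comp, ← Functor.map_comp, tensorSingleIso_hom_naturality_right]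
  have n3 : ∀ (E : DRing.Cx A) (R : ModuleCat.{u} A),
      DerivedCategory.Q.map (tensorSingleIso E R).inv ≫
        DerivedCategory.Q.map (tensorSingleIso E R).hom = 𝟙 _ := by
    intro E R
    rw [← Functor.map_comp, Iso.inv_hom_id, CategoryTheory.Functor.map_id]
  have n4 : ∀ (E : DRing.Cx A) (R : ModuleCat.{u} A),
      DerivedCategory.Q.map (tensorSingleIso E R).hom ≫
        DerivedCategory.Q.map (tensorSingleIso E R).inv = 𝟙 _ := by
    intro E R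
    rw [← Functor.map_comp, Iso.hom_inv_id, CategoryTheory.Functor.map_id]
  refine ⟨m, hm, DerivedCategory.Q.map (tensorSingleIso (sg0 Z) Rm).inv ≫ b0 ≫
    DerivedCategory.Q.map (tensorSingleIso P Rn).hom, ?_, ?_⟩
  · exact abstract_tA (DerivedCategory.Q.map (ρ ▷ sg0 Rm)) _ b0 _ _ _ _ _
      (DerivedCategory.Q.map (P ◁ sg)) (n1 Rm) h1' (n2 P) (n3 P Rm)
  · have n1' : DerivedCategory.Q.map (tensorSingleIso P Rn).hom ≫
        DerivedCategory.Q.map (ρ ▷ sg0 Rn) =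
        DerivedCategory.Q.map ((tensorCx Rn).map ρ) ≫
          DerivedCategory.Q.map (tensorSingleIso (sg0 Z) Rn).hom :=
      (DerivedCategory.Q.map_comp _ _).symm.trans
        ((congrArg DerivedCategory.Q.map (tensorSingleIso_hom_naturality ρ Rn).symm).trans
          (DerivedCategory.Q.map_comp _ _))
    exact abstract_tB _ b0 _ (DerivedCategory.Q.map (ρ ▷ sg0 Rn)) _ _ _ _
      (DerivedCategory.Q.map (sg0 Z ◁ sg)) n1' h2' (n2 (sg0 Z)) (n3 (sg0 Z) Rm)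

end Core

section Tors

variable (k : ℕ) (Z : Type u) [AddCommGroup Z] [Module A Z] [Module.Finite A Z]
  (hZ : ∀ a ∈ I ^ k, ∀ z : Z, a • z = 0)

include hZ in
theorem PP_tors :
    PP (FF (CohIII.adicSystem I (ModuleCat.of A A))) (SyS (CohIII.adicSystem I (ModuleCat.of A A)))
      (ππ (CohIII.adicSystem I (ModuleCat.of A A))) (sg0 (ModuleCat.of A Z)) := by
  let S₀ := CohIII.adicSystem I (ModuleCat.of A A)
  obtain ⟨P, c, hPc, hPf, hPproj, ρ, hρ⟩ := exists_finiteFree_resolution (A := A) Z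
  have hfl : ∀ i : ℤ, Module.Flat A (P.X i) := fun i => by
    obtain ⟨h1, h2⟩ := hPf i
    infer_instance
  have hPK : KFlat P := isKFlat_of_isKProjective P
  have h := isProIso_sysMap_tors I k (ModuleCat.of A Z) hZ P hPK hfl ρ
  refine isProIso_of_zigzag (aK (FF S₀) (SyS S₀) (ππ S₀) P) (sysMap ρ (FF S₀)) ?_ ?_
    (sysMap ρ (SyS S₀)) (aK (FF S₀) (SyS S₀) (ππ S₀) (sg0 (ModuleCat.of A Z))) ?_ h
  · intro n
    rw [aK_app, DerivedCategory.isIso_Q_map_iff_quasiIso]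
    exact quasiIso_whiskerLeft_of_kflat_left P hPK ((ππ S₀).app (op n))
  · intro n
    rw [sysMap_app, DerivedCategory.isIso_Q_map_iff_quasiIso]
    exact quasiIso_whiskerRight_of_kflat ((FF S₀).obj (op n)) (FF_kflat S₀ (op n)) ρ
  · intro n
    exact (sysMap_comp_aK (FF S₀) (SyS S₀) (ππ S₀) ρ (op n)).symm

end Tors

end Groth.Agent.Lib.Helper13.PZ
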