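import Groth.Agent.Lib.Helper13.PZ5

set_option autoImplicit false
set_option maxHeartbeats 800000
set_option linter.style.haveILetI false
universe u v' u'
open CategoryTheory CategoryTheory.Limits MonoidalCategory Pretriangulated Opposite
open CochainComplex CochainComplex.HomComplex HomologicalComplex
open scoped TensorProduct

namespace Groth.Agent.Lib.Helper13.PZ

open DTen Groth.Agent.Lib.Helper13.HT Groth.Agent.Lib.Helper13.SF Groth.Agent.Lib.Helper13.KP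
  Groth.Agent.Lib.Helper13.DT Groth.Agent.Lib.Helper13.DV Groth.Agent.Lib.Helper13.DCN
  Groth.Agent.Lib.Helper13.DR Groth.Agent.Lib.Helper13.PC Groth.Agent.Lib.Helper13
  Groth.Agent.Lib.Helper13.Coind Groth.Agent.Lib.Helper13.FC
  Groth.Agent.Lib.Helper2.RGTors Groth.Agent.Lib.Helper2.TorsExt
  Groth.Agent.Lib.Helper7.DerivedComplete Groth.Agent.Lib.Helper7.DerivedCompleteMT
  Groth.Agent.Lib.Helper7.FComplete Groth.Agent.Lib.Helper13.LDC Groth.Agent.Lib.Helper13.ACF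
  Groth.Agent.Lib.Helper13.PSF Groth.Agent.Lib.Helper13.TB Groth.Agent.Lib.Helper13.TPZ
  Groth.Agent.Lib.Helper2.ProSys

attribute [local instance] HasDerivedCategory.standard


section Abs

variable {C : Type u'} [Category.{v'} C]

lemma abstract_assembly {XMm XMn XZm XZn YMm YMn YZm YZn : C}
    (aMm : XMm ⟶ YMm) (aMn : XMn ⟶ YMn) (aZm : XZm ⟶ YZm) (aZn : XZn ⟶ YZn)
    (xm : XMm ⟶ XZm) (xn : XMn ⟶ XZn) (ym : YMm ⟶ YZm) (yn : YMn ⟶ YZn)
    (trXM : XMm ⟶ XMn) (trXZ : XZm ⟶ XZn) (trYM : YMm ⟶ YMn) (trYZ : YZm ⟶ YZn)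
    (bZ : YZm ⟶ XZn) (r' : XZn ⟶ XMn)
    (c1 : xm ≫ aZm = aMm ≫ ym) (nx : xm ≫ trXZ = trXM ≫ xn) (ny : ym ≫ trYZ = trYM ≫ yn)
    (hb1 : aZm ≫ bZ = trXZ) (hb2 : bZ ≫ aZn = trYZ) (hur : xn ≫ r' = 𝟙 _)
    (hD : r' ≫ aMn ≫ yn = aZn) [Mono yn] :
    aMm ≫ (ym ≫ bZ ≫ r') = trXM ∧ (ym ≫ bZ ≫ r') ≫ aMn = trYM := by
  constructor
  · calc aMm ≫ (ym ≫ bZ ≫ r') = (aMm ≫ ym) ≫ bZ ≫ r' := by simp only [Category.assoc]
      _ = xm ≫ (aZm ≫ bZ) ≫ r' := by rw [← c1]; simp only [Category.assoc]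
      _ = (xm ≫ trXZ) ≫ r' := by rw [hb1]; simp only [Category.assoc]
      _ = trXM := by rw [nx, Category.assoc, hur, Category.comp_id]
  · rw [← cancel_mono yn]
    calc ((ym ≫ bZ ≫ r') ≫ aMn) ≫ yn = ym ≫ bZ ≫ (r' ≫ aMn ≫ yn) := by
          simp only [Category.assoc]
      _ = ym ≫ trYZ := by rw [hD, hb2]
      _ = trYM ≫ yn := ny

end Abs

section AbsTri

variable {D : Type u'} [Category.{v'} D] [Preadditive D] [HasZeroObject D] [HasShift D ℤ]
  [∀ n : ℤ, CategoryTheory.Functor.Additive (CategoryTheory.shiftFunctor D n)] [Pretriangulated D]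

lemma abstract_hD (T : Triangle D) (hT : T ∈ distTriang D) {XMn XZn YMn YZn : D}
    (sM : XMn ≅ T.obj₂) (sZ : XZn ≅ T.obj₃) (xn : XMn ⟶ XZn)
    (hx : sM.hom ≫ T.mor₂ = xn ≫ sZ.hom) (r : T.obj₃ ⟶ T.obj₂) (hr : T.mor₂ ≫ r = 𝟙 _)
    (aMn : XMn ⟶ YMn) (aZn : XZn ⟶ YZn) (yn : YMn ⟶ YZn) (hc : xn ≫ aZn = aMn ≫ yn)
    (hvan : ∀ f : T.obj₁⟦(1 : ℤ)⟧ ⟶ YZn, f = 0) :
    xn ≫ (sZ.hom ≫ r ≫ sM.inv) = 𝟙 _ ∧ (sZ.hom ≫ r ≫ sM.inv) ≫ aMn ≫ yn = aZn := by
  have first : xn ≫ (sZ.hom ≫ r ≫ sM.inv) = 𝟙 _ := by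
    rw [← Category.assoc, ← hx, Category.assoc, ← Category.assoc T.mor₂, hr, Category.id_comp,
      Iso.hom_inv_id]
  refine ⟨first, ?_⟩
  have hxD : xn ≫ (aZn - (sZ.hom ≫ r ≫ sM.inv) ≫ aMn ≫ yn) = 0 := by
    rw [Preadditive.comp_sub, ← Category.assoc xn, first, Category.id_comp, hc, sub_self]
  have hx' : T.mor₂ ≫ sZ.inv = sM.inv ≫ xn := by
    rw [Iso.comp_inv_eq, Category.assoc, ← hx, Iso.inv_hom_id_assoc]
  have h0 : T.mor₂ ≫ (sZ.inv ≫ (aZn - (sZ.hom ≫ r ≫ sM.inv) ≫ aMn ≫ yn)) = 0 := by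
    rw [← Category.assoc, hx', Category.assoc, hxD, comp_zero]
  obtain ⟨D', hD'⟩ := Triangle.yoneda_exact₃ T hT _ h0
  rw [hvan D', comp_zero] at hD'
  have h1 : aZn - (sZ.hom ≫ r ≫ sM.inv) ≫ aMn ≫ yn = 0 := by
    rw [← cancel_epi sZ.inv, hD', comp_zero]
  exact (sub_eq_zero.1 h1).symm

end AbsTri

variable {A : Type u} [CommRing A] [IsNoetherianRing A] (I : Ideal A)
  (M : Type u) [AddCommGroup M] [Module A M] [Module.Finite A M]

theorem PP_mod :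
    PP (FF (CohIII.adicSystem I (ModuleCat.of A A))) (SyS (CohIII.adicSystem I (ModuleCat.of A A)))
      (ππ (CohIII.adicSystem I (ModuleCat.of A A))) (sg0 (ModuleCat.of A M)) := by
  let MA : ModuleCat.{u} A := ModuleCat.of A A
  let S₀ := CohIII.adicSystem I MA
  let Mm : ModuleCat.{u} A := ModuleCat.of A M
  intro n
  let Rn : ModuleCat.{u} A := S₀.obj (op n)
  have hRn : ∀ a ∈ I ^ (n + 1), ∀ y : Rn, a • y = 0 := adic_killed I MA n
  let Fn : DRing.Cx A := (FF S₀).obj (op n)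
  let πn : Fn ⟶ sg0 Rn := (ππ S₀).app (op n)
  have hFn : KFlat Fn := FF_kflat S₀ (op n)
  obtain ⟨c, hc, key⟩ := exists_Q_map_whiskerRight_eq_zero (I ^ (n + 1)) M
  let M' : Submodule A M := (I ^ (n + 1)) ^ c • ⊤
  let Z : ModuleCat.{u} A := ModuleCat.of A (M ⧸ M')
  let X₁ : ModuleCat.{u} A := ModuleCat.of A ↥M'
  let j : X₁ ⟶ Mm := ModuleCat.ofHom M'.subtype
  let q : Mm ⟶ Z := ModuleCat.ofHom M'.mkQ
  have h0 : DerivedCategory.Q.map
      ((HomologicalComplex.single (ModuleCat.{u} A) (ComplexShape.up ℤ) 0).map j ▷ Fn) = 0 :=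
    key Rn hRn Fn hFn πn (quasiIso_ππ S₀ (op n))
  have hZ : ∀ a ∈ I ^ ((n + 1) * c), ∀ z : M ⧸ M', a • z = 0 := by
    intro a ha z
    obtain ⟨x, rfl⟩ := Submodule.Quotient.mk_surjective _ z
    rw [← Submodule.Quotient.mk_smul, Submodule.Quotient.mk_eq_zero]
    rw [pow_mul] at ha
    exact Submodule.smul_mem_smul ha Submodule.mem_top
  obtain ⟨m, hm, bZ, hb1, hb2⟩ := PP_tors I ((n + 1) * c) (M ⧸ M') hZ n
  refine ⟨m, hm, ?_⟩
  -- the triangle in the first variable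
  let S := subSC Mm M'
  have hS : S.ShortExact := subSC_shortExact Mm M'
  have hfl : ∀ i : ℤ, Module.Flat A (Fn.X i) := FF_flat S₀ (op n)
  have hSC : (tensorCxSC Fn S).ShortExact := tensorCxSC_shortExact Fn hfl S hS
  let T := DerivedCategory.triangleOfSES hSC
  have hT : T ∈ distTriang _ := DerivedCategory.triangleOfSES_distinguished hSC
  have hT1 : T.mor₁ = 0 := by
    have nat := singleTensorIso_hom_naturality Fn j
    have e : tensorCxMap Fn j = (singleTensorIso Fn X₁).inv ≫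
        ((HomologicalComplex.single (ModuleCat.{u} A) (ComplexShape.up ℤ) 0).map j ▷ Fn) ≫
          (singleTensorIso Fn Mm).hom := by
      rw [← nat, Iso.inv_hom_id_assoc]
    change DerivedCategory.Q.map (tensorCxMap Fn j) = 0
    rw [e, Functor.map_comp, Functor.map_comp, h0, zero_comp, comp_zero]
  obtain ⟨r, hr⟩ := Triangle.yoneda_exact₂ T hT (𝟙 T.obj₂) (by rw [hT1, zero_comp])
  -- the maps
  let sq : sg0 Mm ⟶ sg0 Z :=
    (HomologicalComplex.single (ModuleCat.{u} A) (ComplexShape.up ℤ) 0).map q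
  let sM : DerivedCategory.Q.obj (sg0 Mm ⊗ Fn) ≅ T.obj₂ :=
    DerivedCategory.Q.mapIso (singleTensorIso Fn Mm)
  let sZ : DerivedCategory.Q.obj (sg0 Z ⊗ Fn) ≅ T.obj₃ :=
    DerivedCategory.Q.mapIso (singleTensorIso Fn Z)
  let xn : DerivedCategory.Q.obj (sg0 Mm ⊗ Fn) ⟶ DerivedCategory.Q.obj (sg0 Z ⊗ Fn) :=
    DerivedCategory.Q.map (sq ▷ Fn)
  have hx : sM.hom ≫ T.mor₂ = xn ≫ sZ.hom := by
    change DerivedCategory.Q.map (singleTensorIso Fn Mm).hom ≫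
        DerivedCategory.Q.map (tensorCxMap Fn q) =
      DerivedCategory.Q.map (sq ▷ Fn) ≫ DerivedCategory.Q.map (singleTensorIso Fn Z).hom
    exact (DerivedCategory.Q.map_comp _ _).symm.trans
      ((congrArg DerivedCategory.Q.map (singleTensorIso_hom_naturality Fn q)).trans
        (DerivedCategory.Q.map_comp _ _))
  let aMn : DerivedCategory.Q.obj (sg0 Mm ⊗ Fn) ⟶ DerivedCategory.Q.obj (sg0 Mm ⊗ sg0 Rn) :=
    DerivedCategory.Q.map (sg0 Mm ◁ πn)
  let aZn : DerivedCategory.Q.obj (sg0 Z ⊗ Fn) ⟶ DerivedCategory.Q.obj (sg0 Z ⊗ sg0 Rn) :=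
    DerivedCategory.Q.map (sg0 Z ◁ πn)
  let yn : DerivedCategory.Q.obj (sg0 Mm ⊗ sg0 Rn) ⟶ DerivedCategory.Q.obj (sg0 Z ⊗ sg0 Rn) :=
    DerivedCategory.Q.map (sq ▷ sg0 Rn)
  have hcn : xn ≫ aZn = aMn ≫ yn :=
    (DerivedCategory.Q.map_comp _ _).symm.trans
      ((congrArg DerivedCategory.Q.map (whisker_exchange sq πn).symm).trans
        (DerivedCategory.Q.map_comp _ _))
  -- vanishing of maps from the shifted first vertex
  have hvan : ∀ f : T.obj₁⟦(1 : ℤ)⟧ ⟶ DerivedCategory.Q.obj (sg0 Z ⊗ sg0 Rn), f = 0 := by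
    intro f
    have hstr : ((tensorCx X₁).obj Fn).IsStrictlyLE 0 := by
      rw [CochainComplex.isStrictlyLE_iff]
      intro i hi
      exact Functor.map_isZero (tensorRight X₁) (CochainComplex.isZero_of_isStrictlyLE Fn 0 i hi)
    have hle : DerivedCategory.TStructure.t.IsLE (T.obj₁⟦(1 : ℤ)⟧) (-1) := by
      haveI : DerivedCategory.TStructure.t.IsLE T.obj₁ 0 :=
        inferInstanceAs ((DerivedCategory.Q.obj ((tensorCx X₁).obj Fn)).IsLE 0)
      exact DerivedCategory.TStructure.t.isLE_shift T.obj₁ 0 1 (-1) (by lia)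
    have hstr2 : ((tensorCx Z).obj (sg0 Rn)).IsStrictlyGE 0 := by
      rw [CochainComplex.isStrictlyGE_iff]
      intro i hi
      exact Functor.map_isZero (tensorRight Z)
        (isZero_single_obj_X (ComplexShape.up ℤ) 0 Rn i (by lia))
    have hge : DerivedCategory.TStructure.t.IsGE
        (DerivedCategory.Q.obj (sg0 Z ⊗ sg0 Rn)) 0 := by
      haveI : DerivedCategory.TStructure.t.IsGE
          (DerivedCategory.Q.obj ((tensorCx Z).obj (sg0 Rn))) 0 :=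
        inferInstanceAs ((DerivedCategory.Q.obj ((tensorCx Z).obj (sg0 Rn))).IsGE 0)
      exact DerivedCategory.TStructure.t.isGE_of_iso
        (DerivedCategory.Q.mapIso (singleTensorIso (sg0 Rn) Z)).symm 0
    exact DerivedCategory.TStructure.t.zero_of_isLE_of_isGE f (-1) 0 (by lia) hle hge
  obtain ⟨hur, hD⟩ := abstract_hD T hT sM sZ xn hx r hr.symm aMn aZn yn hcn hvan
  -- `yn` is an isomorphism
  have hM'le : M' ≤ (I ^ (n + 1)) • (⊤ : Submodule A M) :=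
    Submodule.smul_mono_left (Ideal.pow_le_self (Nat.pos_iff_ne_zero.1 hc))
  have iq : IsIso (tensorCxMap (sg0 Rn) q) :=
    isIso_tensorCxMap_sg0 Rn q (isIso_whiskerLeft_mkQ (I ^ (n + 1)) Rn Mm M' hRn hM'le)
  have iyn : IsIso yn := by
    have nat := singleTensorIso_hom_naturality (sg0 Rn) q
    have e : sq ▷ sg0 Rn = (singleTensorIso (sg0 Rn) Mm).hom ≫ tensorCxMap (sg0 Rn) q ≫
        (singleTensorIso (sg0 Rn) Z).inv := by
      rw [← Category.assoc, nat, Category.assoc, Iso.hom_inv_id, Category.comp_id]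
    have : IsIso (sq ▷ sg0 Rn) := by
      rw [e]
      infer_instance
    exact Functor.map_isIso _ _
  -- assembly
  let Rm : ModuleCat.{u} A := S₀.obj (op m)
  let F := FF S₀
  let Sy := SyS S₀
  let π := ππ S₀
  exact ⟨_, abstract_assembly ((aK F Sy π (sg0 Mm)).app (op m)) aMn
    ((aK F Sy π (sg0 Z)).app (op m)) aZn ((sysMap sq F).app (op m)) xn
    ((sysMap sq Sy).app (op m)) yn _ _ _ _ bZ (sZ.hom ≫ r ≫ sM.inv)
    (sysMap_comp_aK F Sy π sq (op m)) (tr_nat (sysMap sq F) hm) (tr_nat (sysMap sq Sy) hm)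
    hb1 hb2 hur hD⟩

end Groth.Agent.Lib.Helper13.PZ
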