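import Groth.Agent.Lib.Helper13.PerfMor4
import Groth.Agent.Lib.Helper13.FlatBC2
import Mathlib.RingTheory.PolynomialAlgebra
import Mathlib.RingTheory.Polynomial.Ideal
import Mathlib.RingTheory.Smooth.Flat

set_option autoImplicit false
universe u
open CategoryTheory CategoryTheory.Limits TensorProduct AlgebraicGeometry TopologicalSpace

namespace Groth.Agent.Lib.Helper13.PM

open Groth.Agent.Lib.Helper13.DR Groth.Agent.Lib.Helper13.PC Groth.Agent.Lib.Helper13.KP
open DerivedCategory

attribute [local instance] HasDerivedCategory.standard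

lemma isKoszulRegularSeq_of_isWeaklyRegular {A : Type u} [CommRing A] (rs : List A)
    (hreg : RingTheory.Sequence.IsWeaklyRegular A rs) : LCI.IsKoszulRegularSeq A rs := by
  intro i hi
  have heq := Groth.Agent.Lib.Helper11.Kz.koszul_eq rs
  exact (Groth.Agent.Lib.Helper11.Kz.koszulRegular_of_isWeaklyRegular rs hreg i hi).of_iso
    ((HomologicalComplex.homologyFunctor _ _ i).mapIso (eqToIso heq))

section Poly

open Polynomial

attribute [local instance] Polynomial.algebra

/-- Evaluation `C[X] → C` at a point is a perfect ring map. -/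
theorem qperf_evalRingHom {C : Type u} [CommRing C] (c : C) : QPerf (Polynomial.evalRingHom c) := by
  letI := (Polynomial.evalRingHom c).toAlgebra
  have hreg : RingTheory.Sequence.IsWeaklyRegular C[X] [X - Polynomial.C c] := by
    rw [RingTheory.Sequence.isWeaklyRegular_singleton_iff]
    exact (Polynomial.monic_X_sub_C c).isRegular.left.isSMulRegular
  have hs : Function.Surjective (algebraMap C[X] C) := fun y => ⟨Polynomial.C y, by
    change Polynomial.evalRingHom c (Polynomial.C y) = y
    simp⟩
  have hker : RingHom.ker (algebraMap C[X] C) = Ideal.ofList [X - Polynomial.C c] := by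
    change RingHom.ker (Polynomial.evalRingHom c) = _
    rw [Polynomial.ker_evalRingHom]
    simp [Ideal.ofList]
  exact qperf_algebraMap_iff.2 (isPerfectHom_of_koszulRegular C[X] C _
    (isKoszulRegularSeq_of_isWeaklyRegular _ hreg) hs hker)

/-- One-variable cancellation. -/
theorem qperf_eval₂ {A C : Type u} [CommRing A] [CommRing C] (f : A →+* C) (c : C) (hf : QPerf f) :
    QPerf (Polynomial.eval₂RingHom f c) := by
  algebraize [f]
  have hf' : QPerf (algebraMap A C) := hf
  have h1 : QPerf (algebraMap A[X] C[X]) :=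
    qperf_stableUnderFlatBaseChange A C A[X] C[X] inferInstance hf'
  have h3 := qperf_stableUnderComposition _ _ h1 (qperf_evalRingHom c)
  convert h3 using 1
  apply Polynomial.ringHom_ext
  · intro a
    simp [RingHom.algebraMap_toAlgebra]
  · simp

end Poly

/-- Cancellation for polynomial rings in several variables. -/
theorem qperf_mvPolynomial_cancel : ∀ (n : ℕ) {A C : Type u} [CommRing A] [CommRing C] (f : A →+* C)
    (φ : MvPolynomial (Fin n) A →+* C), φ.comp MvPolynomial.C = f → QPerf f → QPerf φ
  | 0, A, C, _, _, f, φ, hφ, hf => by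
    let e : MvPolynomial (Fin 0) A ≃+* A := MvPolynomial.isEmptyRingEquiv A (Fin 0)
    have h := qperf_respectsIso.right f e hf
    convert h using 1
    apply MvPolynomial.ringHom_ext
    · intro a
      have h1 : e (MvPolynomial.C a) = a := by
        exact (MvPolynomial.isEmptyAlgEquiv A (Fin 0)).commutes a
      change φ (MvPolynomial.C a) = f (e (MvPolynomial.C a))
      rw [h1, ← hφ]
      rfl
    · intro i
      exact Fin.elim0 i
  | n + 1, A, C, _, _, f, φ, hφ, hf => by
    let e := MvPolynomial.finSuccEquiv A n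
    let ψ : Polynomial (MvPolynomial (Fin n) A) →+* C := φ.comp e.symm.toRingEquiv.toRingHom
    let φn : MvPolynomial (Fin n) A →+* C := ψ.comp Polynomial.C
    have hφn : φn.comp MvPolynomial.C = f := by
      ext a
      have h1 : e.symm (Polynomial.C (MvPolynomial.C a)) = MvPolynomial.C a := by
        have := e.symm.commutes a
        simpa [MvPolynomial.algebraMap_eq, Polynomial.algebraMap_apply] using this
      change φ (e.symm (Polynomial.C (MvPolynomial.C a))) = f a
      rw [h1, ← hφ]
      rfl
    have h1 : QPerf φn := qperf_mvPolynomial_cancel n f φn hφn hf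
    have h2 : QPerf (Polynomial.eval₂RingHom φn (ψ Polynomial.X)) := qperf_eval₂ φn _ h1
    have h3 : ψ = Polynomial.eval₂RingHom φn (ψ Polynomial.X) := by
      apply Polynomial.ringHom_ext
      · intro a
        simp [φn]
      · simp
    rw [← h3] at h2
    have h4 := qperf_respectsIso.right ψ e.toRingEquiv h2
    convert h4 using 1
    refine RingHom.ext fun x => ?_
    simp [ψ, e]

section Etale

attribute [local instance] Algebra.TensorProduct.rightAlgebra

/-- Cancellation for étale algebras: if `P → B` is étale and `P → C` is perfect then so is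
any `P`-algebra map `B → C`. -/
theorem qperf_cancel_etale (P B C : Type u) [CommRing P] [CommRing B] [CommRing C]
    [Algebra P B] [Algebra P C] [Algebra B C] [IsScalarTower P B C] [Algebra.Etale P B]
    (h : QPerf (algebraMap P C)) : QPerf (algebraMap B C) := by
  let T := C ⊗[P] B
  have h1 : QPerf (algebraMap B T) :=
    qperf_stableUnderFlatBaseChange P C B T inferInstance h
  let m : T →ₐ[C] C := Algebra.TensorProduct.lift (AlgHom.id C C) (IsScalarTower.toAlgHom P B C)
    (fun _ _ => Commute.all _ _)
  have hm : Function.Surjective m := fun c => ⟨c ⊗ₜ 1, by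
    change Algebra.TensorProduct.lift (AlgHom.id C C) (IsScalarTower.toAlgHom P B C)
      (fun _ _ => Commute.all _ _) (c ⊗ₜ[P] (1 : B)) = c
    rw [Algebra.TensorProduct.lift_tmul]
    simp⟩
  have h2 : QPerf (m : T →+* C) := by
    letI := m.toAlgebra
    have : IsScalarTower C T C := .of_algebraMap_eq' m.comp_algebraMap.symm
    obtain ⟨e, he, hfe⟩ :=
      (Ideal.isIdempotentElem_iff_of_fg _
        (Algebra.FinitePresentation.ker_fG_of_surjective m hm)).mp
        ((Algebra.FormallyEtale.iff_of_surjective hm).mp (.of_restrictScalars (R := C)))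
    have := IsLocalization.away_of_isIdempotentElem he.one_sub (hfe.trans (by simp)) hm
    exact qperf_holdsForLocalizationAway C (1 - e)
  have h3 := qperf_stableUnderComposition _ _ h1 h2
  convert h3 using 1
  refine RingHom.ext fun b => ?_
  change algebraMap B C b = Algebra.TensorProduct.lift (AlgHom.id C C) (IsScalarTower.toAlgHom P B C)
    (fun _ _ => Commute.all _ _) ((1 : C) ⊗ₜ[P] b)
  rw [Algebra.TensorProduct.lift_tmul]
  simp

end Etale

/-- Cancellation for smooth ring maps: if `f : A → B` is smooth and `g ∘ f` is perfect then `g` is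
perfect. -/
theorem qperf_cancel_smooth {A B C : Type u} [CommRing A] [CommRing B] [CommRing C]
    (f : A →+* B) (g : B →+* C) (hf : f.Smooth) (h : QPerf (g.comp f)) : QPerf g := by
  algebraize [f]
  have hloc : ∀ p : Ideal B, p.IsPrime → ∃ b ∉ p, QPerf (Localization.awayMap g b) := by
    intro p hp
    obtain ⟨b, hb, n, _, _, _⟩ := Algebra.IsSmoothAt.exists_isStandardEtale_mvPolynomial
      (R := A) (S := B) (p := p)
    refine ⟨b, hb, ?_⟩
    let Bb := Localization.Away b
    let Cb := Localization.Away (g b)
    let ψ : MvPolynomial (Fin n) A →+* Cb :=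
      (Localization.awayMap g b).comp (algebraMap (MvPolynomial (Fin n) A) Bb)
    have h0 : QPerf ((algebraMap C Cb).comp (g.comp f)) :=
      qperf_stableUnderComposition _ _ h (qperf_holdsForLocalizationAway Cb (g b))
    have hψ : ψ.comp MvPolynomial.C = (algebraMap C Cb).comp (g.comp f) := by
      refine RingHom.ext fun a => ?_
      change Localization.awayMap g b (algebraMap (MvPolynomial (Fin n) A) Bb
        (algebraMap A (MvPolynomial (Fin n) A) a)) = algebraMap C Cb (g (f a))
      rw [← IsScalarTower.algebraMap_apply A (MvPolynomial (Fin n) A) Bb,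
        IsScalarTower.algebraMap_apply A B Bb]
      exact IsLocalization.map_eq _ _
    have h1 : QPerf ψ := qperf_mvPolynomial_cancel n _ ψ hψ h0
    letI : Algebra (MvPolynomial (Fin n) A) Cb := ψ.toAlgebra
    letI : Algebra Bb Cb := (Localization.awayMap g b).toAlgebra
    haveI : IsScalarTower (MvPolynomial (Fin n) A) Bb Cb :=
      IsScalarTower.of_algebraMap_eq (fun x => rfl)
    exact qperf_cancel_etale (MvPolynomial (Fin n) A) Bb Cb h1
  let s : Set B := {b | QPerf (Localization.awayMap g b)}
  have hs : Ideal.span s = ⊤ := by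
    by_contra hne
    obtain ⟨m, hm, hle⟩ := Ideal.exists_le_maximal _ hne
    obtain ⟨b, hb, hq⟩ := hloc m hm.isPrime
    exact hb (hle (Ideal.subset_span hq))
  exact qperf_isLocal.ofLocalizationSpan g s hs (fun r => r.2)

theorem isPerfectMor_of_comp_of_smooth {X Y S : Scheme.{u}} (f : X ⟶ Y) (g : Y ⟶ S) [Smooth g]
    (h : MoreMor.IsPerfectMor (f ≫ g)) : MoreMor.IsPerfectMor f := by
  rw [isPerfectMor_iff_exists]
  intro x
  obtain ⟨W, hW, hxW, -⟩ := Opens.isBasis_iff_nbhd.mp S.isBasis_affineOpens
    (Opens.mem_top <| g (f x))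
  obtain ⟨V, hV, hxV, hVW⟩ := Opens.isBasis_iff_nbhd.mp Y.isBasis_affineOpens
    (show f x ∈ g ⁻¹ᵁ W from hxW)
  obtain ⟨U, hU, hxU, hUV⟩ := Opens.isBasis_iff_nbhd.mp X.isBasis_affineOpens
    (show x ∈ f ⁻¹ᵁ V from hxV)
  refine ⟨U, V, hUV, hU, hV, hxU, ?_⟩
  have hUW : U ≤ (f ≫ g) ⁻¹ᵁ W := fun y hy => hVW (hUV hy)
  have h1 : RingHom.Smooth (g.appLE W V hVW).hom :=
    (HasRingHomProperty.iff_appLE (P := @Smooth)).1 ‹Smooth g› ⟨W, hW⟩ ⟨V, hV⟩ hVW
  have h2 : QPerf ((f ≫ g).appLE W U hUW).hom := h U W hU hW hUW
  have hcomp : (f ≫ g).appLE W U hUW = g.appLE W V hVW ≫ f.appLE V U hUV :=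
    (Scheme.Hom.appLE_comp_appLE f g W V U hVW hUV).symm
  rw [hcomp, CommRingCat.hom_comp] at h2
  exact qperf_cancel_smooth _ _ h1 h2

end Groth.Agent.Lib.Helper13.PM
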