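import Groth.Agent.Lib.Helper13.KoszulPerf2
import Groth.Agent.Lib.Helper13.PerfMor2
import Groth.Agent.S7070
import Groth.Prelude.Def_Mor2
import Mathlib.AlgebraicGeometry.Morphisms.ClosedImmersion
import Mathlib.AlgebraicGeometry.Morphisms.FinitePresentation
import Mathlib.AlgebraicGeometry.IdealSheaf.Basic

set_option autoImplicit false
universe u
open CategoryTheory CategoryTheory.Limits TensorProduct AlgebraicGeometry

namespace Groth.Agent.Lib.Helper13.PM

open Groth.Agent.Lib.Helper13.DR Groth.Agent.Lib.Helper13.PC Groth.Agent.Lib.Helper13.KP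
open DerivedCategory

attribute [local instance] HasDerivedCategory.standard

section Ring

variable (A B : Type u) [CommRing A] [CommRing B] [Algebra A B]

/-- A surjective ring map with `B` a perfect `A`-module is a perfect ring map. -/
theorem isPerfectHom_of_surjective_of_isPerfectModule (hs : Function.Surjective (algebraMap A B))
    (h : DRing.IsPerfectModule A B) : MoreMor.IsPerfectHom A B := by
  refine ⟨?_, ?_⟩
  · rw [isPseudoCoherentHom_iff_exists_isPCHom]
    let e0 : MvPolynomial (Fin 0) A ≃ₐ[A] A := MvPolynomial.isEmptyAlgEquiv A (Fin 0)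
    let φ : MvPolynomial (Fin 0) A →ₐ[A] B := (Algebra.ofId A B).comp e0.toAlgHom
    have h1 : IsPCHom (algebraMap A B) :=
      isPC_of_iso (fun m => isNPC_of_isPerfect h m)
        ((DerivedCategory.singleFunctor (ModuleCat.{u} A) 0).mapIso (algebraRestrictIso A B))
    refine ⟨0, φ, hs.comp e0.surjective, ?_⟩
    exact ((isPCHom_of_ringEquiv e0.toRingEquiv).comp h1).of_eq rfl
  · obtain ⟨a, b, hab⟩ := exists_hasTorAmplitudeIn_of_isPerfect h
    exact (hasFiniteTorDim_iff A B).2 ⟨a, b, hab⟩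

theorem isPerfectHom_of_regular (rs : List A) (hreg : RingTheory.Sequence.IsRegular A rs)
    (hs : Function.Surjective (algebraMap A B))
    (hker : RingHom.ker (algebraMap A B) = Ideal.ofList rs) : MoreMor.IsPerfectHom A B := by
  apply isPerfectHom_of_surjective_of_isPerfectModule A B hs
  have hK : LCI.IsKoszulRegularSeq A rs := by
    intro i hi
    have heq := Groth.Agent.Lib.Helper11.Kz.koszul_eq rs
    exact (Groth.Agent.Lib.Helper11.Kz.koszulRegular_of_isWeaklyRegular rs
      hreg.toIsWeaklyRegular i hi).of_iso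
      ((HomologicalComplex.homologyFunctor _ _ i).mapIso (eqToIso heq))
  have h1 := isPerfectModule_quotient_of_koszulRegular A rs hK
  have h1' : IsPerf (Pfp A) (Dual.inD A (A ⧸ Ideal.ofList rs)) := h1
  let e : (A ⧸ Ideal.ofList rs) ≃+* B :=
    (Ideal.quotEquivOfEq hker.symm).trans (RingHom.quotientKerEquivOfSurjective hs)
  have iso : ModuleCat.of A (A ⧸ Ideal.ofList rs) ≅ ModuleCat.of A B :=
    isoOfAddEquiv _ _ e.toAddEquiv (fun p x => by
      obtain ⟨y, rfl⟩ := Ideal.Quotient.mk_surjective x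
      change e (p • Ideal.Quotient.mk _ y) = p • e (Ideal.Quotient.mk _ y)
      rw [Algebra.smul_def, Algebra.smul_def, map_mul]
      rfl)
  exact h1'.of_iso ((DerivedCategory.singleFunctor (ModuleCat.{u} A) 0).mapIso iso)

end Ring

theorem isPerfectMor_of_isRegularClosedImmersion {Z X : Scheme.{u}} (i : Z ⟶ X)
    (hi : Mor2.IsRegularClosedImmersion i) : MoreMor.IsPerfectMor i := by
  obtain ⟨hci, hloc⟩ := hi
  rw [isPerfectMor_iff_exists]
  intro z
  obtain ⟨U, hU, hzU, rs, hreg, hker⟩ := hloc z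
  refine ⟨i ⁻¹ᵁ U, U, le_rfl, hU.preimage i, hU, hzU, ?_⟩
  letI := (i.appLE U (i ⁻¹ᵁ U) le_rfl).hom.toAlgebra
  have happ : i.appLE U (i ⁻¹ᵁ U) le_rfl = i.app U := (Scheme.Hom.app_eq_appLE i).symm
  refine isPerfectHom_of_regular Γ(X, U) Γ(Z, i ⁻¹ᵁ U) rs hreg ?_ ?_
  · change Function.Surjective (i.appLE U (i ⁻¹ᵁ U) le_rfl).hom
    rw [happ]
    exact i.app_surjective U hU
  · change RingHom.ker (i.appLE U (i ⁻¹ᵁ U) le_rfl).hom = _
    rw [happ, ← hker]
    exact (Scheme.Hom.ker_apply i ⟨U, hU⟩).symm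

theorem lci_mor {X S : Scheme.{u}} (f : X ⟶ S)
    (hf : (∀ (U : X.Opens) (V : S.Opens) (hU : IsAffineOpen U) (hV : IsAffineOpen V)
        (hUV : U ≤ f ⁻¹ᵁ V),
        letI := (f.appLE V U hUV).hom.toAlgebra
        LCI.IsLCI Γ(S, V) Γ(X, U))) :
    LocallyOfFinitePresentation f ∧ MoreMor.IsPseudoCoherentMor f ∧ MoreMor.IsPerfectMor f := by
  have hperf : MoreMor.IsPerfectMor f := fun U V hU hV hUV => by
    letI := (f.appLE V U hUV).hom.toAlgebra
    exact Groth.Agent.S7070.result Γ(S, V) Γ(X, U) (hf U V hU hV hUV)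
  have hpc : MoreMor.IsPseudoCoherentMor f := fun U V hU hV hUV => (hperf U V hU hV hUV).1
  refine ⟨?_, hpc, hperf⟩
  rw [HasRingHomProperty.iff_appLE (P := @LocallyOfFinitePresentation)]
  intro U V e
  exact qpc_finitePresentation _ (hpc V.1 U.1 V.2 U.2 e)

end Groth.Agent.Lib.Helper13.PM
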