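import Groth.Agent.Lib.Helper13.PerfMor3
import Groth.Agent.Lib.Helper13.PCMor5
import Groth.Agent.Lib.Helper13.RelPCFin
import Mathlib.RingTheory.Unramified.LocalStructure
import Mathlib.AlgebraicGeometry.Morphisms.Smooth
import Mathlib.AlgebraicGeometry.Morphisms.Etale
import Groth.Prelude.Def_RegImm

set_option autoImplicit false
universe u
open CategoryTheory CategoryTheory.Limits TensorProduct AlgebraicGeometry

namespace Groth.Agent.Lib.Helper13.PM

open Groth.Agent.Lib.Helper13.DR Groth.Agent.Lib.Helper13.PC Groth.Agent.Lib.Helper13.KP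
open DerivedCategory

attribute [local instance] HasDerivedCategory.standard

section Ring

variable (A B : Type u) [CommRing A] [CommRing B] [Algebra A B]

/-- A finite projective algebra is a perfect ring map. -/
theorem isPerfectHom_of_finite_projective [Module.Finite A B] [Module.Projective A B] :
    MoreMor.IsPerfectHom A B := by
  refine ⟨?_, hasFiniteTorDim_of_flat A B⟩
  rw [isPseudoCoherentHom_iff_of_finite]
  exact (isPseudoCoherent'_iff _).2 (isPC_single_of_Pfp (M := ModuleCat.of A B)
    ⟨inferInstance, inferInstance⟩)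

/-- A polynomial algebra is a perfect ring map. -/
theorem isPerfectHom_mvPolynomial (n : ℕ) : MoreMor.IsPerfectHom A (MvPolynomial (Fin n) A) := by
  refine ⟨?_, hasFiniteTorDim_of_flat A _⟩
  rw [isPseudoCoherentHom_iff_exists_isPCHom]
  refine ⟨n, AlgHom.id A _, Function.surjective_id, ?_⟩
  exact (isPCHom_of_ringEquiv (RingEquiv.refl (MvPolynomial (Fin n) A))).of_eq rfl

end Ring

lemma qperf_algebraMap_iff {R S : Type u} [CommRing R] [CommRing S] [Algebra R S] :
    QPerf (algebraMap R S) ↔ MoreMor.IsPerfectHom R S :=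
  and_congr qpc_algebraMap_iff qftd_algebraMap_iff

lemma qperf_respectsIso : RingHom.RespectsIso QPerf := qperf_isLocal.respectsIso

lemma qperf_holdsForLocalizationAway : RingHom.HoldsForLocalizationAway QPerf :=
  fun _ S _ _ _ r _ => ⟨qpc_holdsForLocalizationAway S r, qftd_holdsForLocalizationAway S r⟩

open Polynomial in
/-- Standard étale algebras are perfect ring maps. -/
theorem qperf_of_isStandardEtale {R S : Type u} [CommRing R] [CommRing S] [Algebra R S]
    [Algebra.IsStandardEtale R S] : QPerf (algebraMap R S) := by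
  have P : StandardEtalePresentation R S :=
    Algebra.IsStandardEtale.nonempty_standardEtalePresentation.some
  let S' := Localization.Away (AdjoinRoot.mk P.f P.g)
  let e : S ≃ₐ[R] S' := P.equivRing.trans P.P.equivAwayAdjoinRoot
  have := P.monic_f.free_adjoinRoot
  have := P.monic_f.finite_adjoinRoot
  have h1 : QPerf (algebraMap R (AdjoinRoot P.f)) :=
    qperf_algebraMap_iff.2 (isPerfectHom_of_finite_projective R (AdjoinRoot P.f))
  have h2 : QPerf (algebraMap (AdjoinRoot P.f) S') :=
    qperf_holdsForLocalizationAway S' (AdjoinRoot.mk P.f P.g)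
  have h3 : QPerf (algebraMap R S') := by
    rw [IsScalarTower.algebraMap_eq R (AdjoinRoot P.f) S']
    exact qperf_stableUnderComposition _ _ h1 h2
  have h4 := qperf_respectsIso.left (algebraMap R S') e.symm.toRingEquiv h3
  convert h4 using 1
  ext x
  simp

/-- Smooth ring maps are perfect. -/
theorem qperf_of_smooth {R S : Type u} [CommRing R] [CommRing S] (f : R →+* S) (hf : f.Smooth) :
    QPerf f := by
  algebraize [f]
  have hloc : ∀ p : Ideal S, p.IsPrime → ∃ g ∉ p,
      QPerf ((algebraMap S (Localization.Away g)).comp f) := by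
    intro p hp
    obtain ⟨g, hg, n, _, _, _⟩ := Algebra.IsSmoothAt.exists_isStandardEtale_mvPolynomial
      (R := R) (S := S) (p := p)
    refine ⟨g, hg, ?_⟩
    have h1 : QPerf (algebraMap R (MvPolynomial (Fin n) R)) :=
      qperf_algebraMap_iff.2 (isPerfectHom_mvPolynomial R n)
    have h2 : QPerf (algebraMap (MvPolynomial (Fin n) R) (Localization.Away g)) :=
      qperf_of_isStandardEtale
    have h3 := qperf_stableUnderComposition _ _ h1 h2
    rw [← IsScalarTower.algebraMap_eq R (MvPolynomial (Fin n) R) (Localization.Away g)] at h3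
    rw [IsScalarTower.algebraMap_eq R S (Localization.Away g)] at h3
    exact h3
  let s : Set S := {g | QPerf ((algebraMap S (Localization.Away g)).comp f)}
  have hs : Ideal.span s = ⊤ := by
    by_contra hne
    obtain ⟨m, hm, hle⟩ := Ideal.exists_le_maximal _ hne
    obtain ⟨g, hg, hq⟩ := hloc m hm.isPrime
    exact hg (hle (Ideal.subset_span hq))
  exact qperf_isLocal.ofLocalizationSpanTarget f s hs (fun r => r.2)

theorem isPerfectHom_of_koszulRegular (A B : Type u) [CommRing A] [CommRing B] [Algebra A B]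
    (rs : List A) (hK : LCI.IsKoszulRegularSeq A rs)
    (hs : Function.Surjective (algebraMap A B))
    (hker : RingHom.ker (algebraMap A B) = Ideal.ofList rs) : MoreMor.IsPerfectHom A B := by
  apply isPerfectHom_of_surjective_of_isPerfectModule A B hs
  have h1 := isPerfectModule_quotient_of_koszulRegular A rs hK
  have h1' : IsPerf (Pfp A) (Dual.inD A (A ⧸ Ideal.ofList rs)) := h1
  let e : (A ⧸ Ideal.ofList rs) ≃+* B :=
    (Ideal.quotEquivOfEq hker.symm).trans (RingHom.quotientKerEquivOfSurjective hs)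
  have iso : ModuleCat.of A (A ⧸ Ideal.ofList rs) ≅ ModuleCat.of A B :=
    isoOfAddEquiv _ _ e.toAddEquiv (fun p x => by
      obtain ⟨y, rfl⟩ := Ideal.Quotient.mk_surjective x
      change e (p • Ideal.Quotient.mk _ y) = p • e (Ideal.Quotient.mk _ y)
      rw [Algebra.smul_def, Algebra.smul_def, map_mul]
      rfl)
  exact h1'.of_iso ((DerivedCategory.singleFunctor (ModuleCat.{u} A) 0).mapIso iso)

theorem isPerfectMor_of_smooth {X Y : Scheme.{u}} (f : X ⟶ Y) [Smooth f] :
    MoreMor.IsPerfectMor f := by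
  intro U V hU hV hUV
  exact qperf_of_smooth _
    ((HasRingHomProperty.iff_appLE (P := @Smooth)).1 ‹Smooth f› ⟨V, hV⟩ ⟨U, hU⟩ hUV)

theorem isPseudoCoherentMor_of_smooth {X Y : Scheme.{u}} (f : X ⟶ Y) [Smooth f] :
    MoreMor.IsPseudoCoherentMor f :=
  fun U V hU hV hUV => (isPerfectMor_of_smooth f U V hU hV hUV).1

private lemma app_surjective_aux {Z X : Scheme.{u}} (i : Z ⟶ X) (U V : X.Opens) (W : Z.Opens)
    (hV : V = U) (hW : W = i ⁻¹ᵁ U) (e : W ≤ i ⁻¹ᵁ V)
    (h : Function.Surjective (i.appLE V W e).hom) : Function.Surjective (i.app U).hom := by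
  subst hV hW
  rwa [Scheme.Hom.app_eq_appLE]

theorem isPerfectMor_of_koszulRegularImmersion {Z X : Scheme.{u}} (i : Z ⟶ X)
    (hi : RegImm.IsRegularImmersion .koszul i) : MoreMor.IsPerfectMor i := by
  rw [isPerfectMor_iff_exists]
  intro z
  obtain ⟨U, hzU, hcl, rs, hseq, hker⟩ := hi.2 z
  haveI : IsAffine U.1.toScheme := U.2
  have haff : IsAffineOpen (i ⁻¹ᵁ U.1) := isAffine_of_isAffineHom (i ∣_ U.1)
  refine ⟨i ⁻¹ᵁ U.1, U.1, le_rfl, haff, U.2, hzU, ?_⟩
  letI := (i.appLE U.1 (i ⁻¹ᵁ U.1) le_rfl).hom.toAlgebra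
  have happ : i.appLE U.1 (i ⁻¹ᵁ U.1) le_rfl = i.app U.1 := (Scheme.Hom.app_eq_appLE i).symm
  have hsurj : Function.Surjective (i.app U.1).hom := by
    have h1 := (i ∣_ U.1).app_surjective ⊤ (isAffineOpen_top _)
    rw [morphismRestrict_app'] at h1
    refine app_surjective_aux i U.1 _ _ ?_ ?_ _ h1
    · simp
    · simp
  refine isPerfectHom_of_koszulRegular Γ(X, U.1) Γ(Z, i ⁻¹ᵁ U.1) rs hseq ?_ ?_
  · change Function.Surjective (i.appLE U.1 (i ⁻¹ᵁ U.1) le_rfl).hom
    rw [happ]
    exact hsurj
  · change RingHom.ker (i.appLE U.1 (i ⁻¹ᵁ U.1) le_rfl).hom = _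
    rw [happ, hker]

/-- A morphism that is Koszul at every point (lci in the factorisation sense) is perfect. -/
theorem isPerfectMor_of_forall_isKoszulAt {X Y : Scheme.{u}} (f : X ⟶ Y)
    (hf : ∀ x : X, Synt.IsKoszulAt f x) : MoreMor.IsPerfectMor f := by
  choose U P i π hxU _ hi hπ hfac using hf
  have hsup : iSup U = ⊤ := top_le_iff.mp fun x _ => TopologicalSpace.Opens.mem_iSup.2 ⟨x, hxU x⟩
  refine IsZariskiLocalAtSource.of_iSup_eq_top (P := PerfMor.{u}) U hsup fun x => ?_
  rw [← hfac x]
  haveI := hπ x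
  exact isPerfectMor_comp (i x) (π x) (isPerfectMor_of_koszulRegularImmersion (i x) (hi x))
    (isPerfectMor_of_smooth (π x))

end Groth.Agent.Lib.Helper13.PM
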