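import Mathlib.Algebra.Polynomial.AlgebraMap
import Mathlib.Algebra.Polynomial.Eval.SMul
import Mathlib.LinearAlgebra.TensorProduct.RightExactness
import Mathlib.RingTheory.TensorProduct.Basic
import Mathlib.Algebra.Polynomial.Module.AEval

set_option autoImplicit false
universe u
open TensorProduct Polynomial

namespace Groth.Agent.Lib.Helper13.PS

variable (R : Type u) [CommRing R] (M : Type u) [AddCommGroup M] [Module R M] [Module R[X] M]
  [IsScalarTower R R[X] M]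

/-- multiplication by `X` on `M`, as an `R`-linear map. -/
noncomputable def xM : M →ₗ[R] M :=
  (Algebra.lsmul R R M (X : R[X]))

@[simp] lemma xM_apply (m : M) : xM R M m = (X : R[X]) • m := rfl

/-- `p ⊗ m ↦ X p ⊗ m - p ⊗ X m`. -/
noncomputable def ξT : R[X] ⊗[R] M →ₗ[R] R[X] ⊗[R] M :=
  LinearMap.rTensor M (LinearMap.mulLeft R (X : R[X])) - LinearMap.lTensor R[X] (xM R M)

/-- `p ⊗ m ↦ p • m`. -/
noncomputable def νT : R[X] ⊗[R] M →ₗ[R] M :=
  TensorProduct.lift (Algebra.lsmul R R M).toLinearMap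

@[simp] lemma ξT_tmul (p : R[X]) (m : M) :
    ξT R M (p ⊗ₜ m) = (X * p) ⊗ₜ m - p ⊗ₜ ((X : R[X]) • m) := rfl

@[simp] lemma νT_tmul (p : R[X]) (m : M) : νT R M (p ⊗ₜ m) = p • m := rfl

/-- The auxiliary maps `g n m = ∑_{j<n} X^j ⊗ X^{n-1-j} m`. -/
noncomputable def gAux : ℕ → (M →ₗ[R] R[X] ⊗[R] M)
  | 0 => 0
  | n + 1 => TensorProduct.mk R R[X] M (X ^ n) + (gAux n) ∘ₗ (xM R M)

lemma gAux_succ (n : ℕ) (m : M) :
    gAux R M (n + 1) m = (X ^ n : R[X]) ⊗ₜ m + gAux R M n ((X : R[X]) • m) := rfl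

lemma ξT_gAux (n : ℕ) (m : M) :
    ξT R M (gAux R M n m) = (X ^ n : R[X]) ⊗ₜ m - (1 : R[X]) ⊗ₜ ((X ^ n : R[X]) • m) := by
  induction n generalizing m with
  | zero => simp [gAux]
  | succ n ih =>
    rw [gAux_succ, map_add, ih, ξT_tmul, pow_succ', mul_smul]
    rw [smul_comm (X : R[X]) (X ^ n : R[X]) m]
    abel

/-- The contracting map `D`. -/
noncomputable def DT : R[X] ⊗[R] M →ₗ[R] R[X] ⊗[R] M :=
  TensorProduct.lift (Polynomial.lsum (fun n => LinearMap.toSpanSingleton R _ (gAux R M n)))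

lemma DT_monomial_tmul (n : ℕ) (a : R) (m : M) :
    DT R M (monomial n a ⊗ₜ m) = a • gAux R M n m := by
  simp [DT, Polynomial.lsum_apply, LinearMap.toSpanSingleton_apply]

lemma DT_X_pow_tmul (n : ℕ) (m : M) : DT R M ((X ^ n : R[X]) ⊗ₜ m) = gAux R M n m := by
  rw [← monomial_one_right_eq_X_pow, DT_monomial_tmul, one_smul]

omit [Module R[X] M] [IsScalarTower R R[X] M] in
/-- Reduction of linear identities on `R[X] ⊗ M` to the generators `X^n ⊗ m`. -/
lemma linearMap_ext_X_pow {T : Type u} [AddCommGroup T] [Module R T]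
    (f g : R[X] ⊗[R] M →ₗ[R] T)
    (h : ∀ (n : ℕ) (m : M), f ((X ^ n : R[X]) ⊗ₜ m) = g ((X ^ n : R[X]) ⊗ₜ m)) : f = g := by
  apply TensorProduct.ext'
  intro p m
  induction p using Polynomial.induction_on' with
  | add p q hp hq => rw [TensorProduct.add_tmul, map_add, map_add, hp, hq]
  | monomial n a =>
    rw [← C_mul_X_pow_eq_monomial, ← smul_eq_C_mul, ← TensorProduct.smul_tmul', map_smul, map_smul,
      h]

lemma DT_ξT (z : R[X] ⊗[R] M) : DT R M (ξT R M z) = z := by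
  have h : (DT R M) ∘ₗ (ξT R M) = LinearMap.id := by
    apply linearMap_ext_X_pow
    intro n m
    change DT R M (ξT R M ((X ^ n : R[X]) ⊗ₜ m)) = (X ^ n : R[X]) ⊗ₜ m
    rw [ξT_tmul, map_sub, ← pow_succ', DT_X_pow_tmul, DT_X_pow_tmul, gAux_succ]
    abel
  exact LinearMap.congr_fun h z

lemma decomp (z : R[X] ⊗[R] M) :
    z = ξT R M (DT R M z) + (1 : R[X]) ⊗ₜ[R] (νT R M z) := by
  have h : LinearMap.id = (ξT R M) ∘ₗ (DT R M) +
      (TensorProduct.mk R R[X] M (1 : R[X])) ∘ₗ (νT R M) := by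
    apply linearMap_ext_X_pow
    intro n m
    change (X ^ n : R[X]) ⊗ₜ m = ξT R M (DT R M ((X ^ n : R[X]) ⊗ₜ m)) +
      (1 : R[X]) ⊗ₜ[R] (νT R M ((X ^ n : R[X]) ⊗ₜ m))
    rw [DT_X_pow_tmul, ξT_gAux, νT_tmul]
    abel
  exact LinearMap.congr_fun h z

lemma νT_ξT (z : R[X] ⊗[R] M) : νT R M (ξT R M z) = 0 := by
  have h : (νT R M) ∘ₗ (ξT R M) = 0 := by
    apply linearMap_ext_X_pow
    intro n m
    change νT R M (ξT R M ((X ^ n : R[X]) ⊗ₜ m)) = 0
    rw [ξT_tmul, map_sub, νT_tmul, νT_tmul, mul_smul, smul_comm, sub_self]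
  exact LinearMap.congr_fun h z

lemma ξT_injective : Function.Injective (ξT R M) :=
  Function.LeftInverse.injective (g := DT R M) (DT_ξT R M)

lemma exists_of_νT_eq_zero (z : R[X] ⊗[R] M) (h : νT R M z = 0) : ∃ w, ξT R M w = z :=
  ⟨DT R M z, by
    have := decomp R M z
    rw [h, TensorProduct.tmul_zero, add_zero] at this
    exact this.symm⟩

lemma νT_one_tmul (m : M) : νT R M ((1 : R[X]) ⊗ₜ m) = m := by
  rw [νT_tmul, one_smul]

end Groth.Agent.Lib.Helper13.PS
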