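import Groth.Agent.Lib.Helper13.PolySES1
import Groth.Agent.Lib.Helper13.PolyZero3

set_option autoImplicit false
universe u
open CategoryTheory CategoryTheory.Limits TensorProduct Polynomial ChangeOfRings

namespace Groth.Agent.Lib.Helper13.PS

open Groth.Agent.Lib.Helper13.DR

variable (R : Type u) [CommRing R] (M : ModuleCat.{u} R[X])

/-- The `R`-module structure on an `R[X]`-module. -/
noncomputable abbrev modR : Module R M := Module.compHom M (algebraMap R R[X])

lemma towerR : @IsScalarTower R R[X] M _ _ (modR R M).toSMul :=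
  letI := modR R M
  IsScalarTower.of_algebraMap_smul (fun _ _ => rfl)

/-- `M|_R`. -/
noncomputable abbrev resN : ModuleCat.{u} R :=
  (ModuleCat.restrictScalars.{u} (algebraMap R R[X])).obj M

/-- multiplication by `X` on `M|_R`. -/
noncomputable def xN : resN R M ⟶ resN R M :=
  letI := modR R M
  haveI := towerR R M
  ModuleCat.ofHom (xM R M)

/-- multiplication `R[X] ⊗_R M → M`. -/
noncomputable def νM : (ModuleCat.extendScalars.{u, u, u} (algebraMap R R[X])).obj (resN R M) ⟶ M :=
  (ModuleCat.extendRestrictScalarsAdj.{u, u, u} (algebraMap R R[X])).counit.app M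

/-- `p ⊗ m ↦ X p ⊗ m - p ⊗ X m`. -/
noncomputable def ξM : (ModuleCat.extendScalars.{u, u, u} (algebraMap R R[X])).obj (resN R M) ⟶
    (ModuleCat.extendScalars.{u, u, u} (algebraMap R R[X])).obj (resN R M) :=
  (X : R[X]) • 𝟙 _ - (ModuleCat.extendScalars.{u, u, u} (algebraMap R R[X])).map (xN R M)

lemma νM_tmul (p : R[X]) (m : resN R M) :
    (νM R M).hom ((p ⊗ₜ[R] m :
      (ModuleCat.extendScalars.{u, u, u} (algebraMap R R[X])).obj (resN R M))) =
      p • (show M from m) := rfl

lemma ξM_tmul (p : R[X]) (m : resN R M) :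
    (ξM R M).hom ((p ⊗ₜ[R] m :
      (ModuleCat.extendScalars.{u, u, u} (algebraMap R R[X])).obj (resN R M))) =
      (((X * p) ⊗ₜ[R] m :
        (ModuleCat.extendScalars.{u, u, u} (algebraMap R R[X])).obj (resN R M)) -
      ((p ⊗ₜ[R] (show resN R M from ((X : R[X]) • (show M from m))) :
        (ModuleCat.extendScalars.{u, u, u} (algebraMap R R[X])).obj (resN R M)))) := rfl

section Apply

/-- `ξT` for the module `M|_R`. -/
noncomputable def ξT' : R[X] ⊗[R] (resN R M) →ₗ[R] R[X] ⊗[R] (resN R M) :=
  letI := modR R M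
  haveI := towerR R M
  ξT R M

/-- `νT` for the module `M|_R`. -/
noncomputable def νT' : R[X] ⊗[R] (resN R M) →ₗ[R] (resN R M) :=
  letI := modR R M
  haveI := towerR R M
  νT R M

lemma ξT'_injective : Function.Injective (ξT' R M) :=
  letI := modR R M
  haveI := towerR R M
  ξT_injective R M

lemma νT'_ξT' (z : R[X] ⊗[R] (resN R M)) : νT' R M (ξT' R M z) = 0 :=
  @νT_ξT R _ M _ (modR R M) _ (towerR R M) z

lemma exists_of_νT'_eq_zero (z : R[X] ⊗[R] (resN R M)) (h : νT' R M z = 0) :
    ∃ w, ξT' R M w = z :=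
  @exists_of_νT_eq_zero R _ M _ (modR R M) _ (towerR R M) z h

lemma νM_apply (z : (ModuleCat.extendScalars.{u, u, u} (algebraMap R R[X])).obj (resN R M)) :
    ((νM R M).hom z : M) = νT' R M (extendScalarsEquiv R[X] (resN R M) z) := by
  let L : (ModuleCat.extendScalars.{u, u, u} (algebraMap R R[X])).obj (resN R M) → M :=
    fun z => (νM R M).hom z
  let Rr : (ModuleCat.extendScalars.{u, u, u} (algebraMap R R[X])).obj (resN R M) → M :=
    fun z => νT' R M (extendScalarsEquiv R[X] (resN R M) z)
  have hL : ∀ a b, L (a + b) = L a + L b := fun a b => by simp only [L, map_add]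
  have hR : ∀ a b, Rr (a + b) = Rr a + Rr b := fun a b => by simp only [Rr, map_add]; rfl
  have hL0 : L 0 = 0 := by simp only [L, map_zero]
  have hR0 : Rr 0 = 0 := by simp only [Rr, map_zero]; rfl
  have key : ∀ w, L w = Rr w := by
    intro w
    induction w using TensorProduct.induction_on with
    | zero => exact hL0.trans hR0.symm
    | tmul p n => rfl
    | add a b ha hb => exact (hL a b).trans ((congrArg₂ (· + ·) ha hb).trans (hR a b).symm)
  exact key z

lemma ξM_apply (z : (ModuleCat.extendScalars.{u, u, u} (algebraMap R R[X])).obj (resN R M)) :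
    extendScalarsEquiv R[X] (resN R M) ((ξM R M).hom z) =
      ξT' R M (extendScalarsEquiv R[X] (resN R M) z) := by
  let L : (ModuleCat.extendScalars.{u, u, u} (algebraMap R R[X])).obj (resN R M) →
      R[X] ⊗[R] (resN R M) :=
    fun z => extendScalarsEquiv R[X] (resN R M) ((ξM R M).hom z)
  let Rr : (ModuleCat.extendScalars.{u, u, u} (algebraMap R R[X])).obj (resN R M) →
      R[X] ⊗[R] (resN R M) :=
    fun z => ξT' R M (extendScalarsEquiv R[X] (resN R M) z)
  have hL : ∀ a b, L (a + b) = L a + L b := fun a b => by simp only [L, map_add]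
  have hR : ∀ a b, Rr (a + b) = Rr a + Rr b := fun a b => by simp only [Rr, map_add]
  have hL0 : L 0 = 0 := by simp only [L, map_zero]
  have hR0 : Rr 0 = 0 := by simp only [Rr, map_zero]
  have key : ∀ w, L w = Rr w := by
    intro w
    induction w using TensorProduct.induction_on with
    | zero => exact hL0.trans hR0.symm
    | tmul p n => rfl
    | add a b ha hb => exact (hL a b).trans ((congrArg₂ (· + ·) ha hb).trans (hR a b).symm)
  exact key z

lemma νT'_one_tmul (m : resN R M) : νT' R M ((1 : R[X]) ⊗ₜ[R] m) = m :=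
  @νT_one_tmul R _ M _ (modR R M) _ (towerR R M) m

lemma ξM_νM : ξM R M ≫ νM R M = 0 := by
  refine ModuleCat.hom_ext (LinearMap.ext fun z => ?_)
  change (νM R M).hom ((ξM R M).hom z) = 0
  rw [νM_apply, ξM_apply, νT'_ξT']
  rfl

/-- The short exact sequence `0 → R[X] ⊗_R M → R[X] ⊗_R M → M → 0` of `R[X]`-modules. -/
noncomputable def sesP : ShortComplex (ModuleCat.{u} R[X]) :=
  ShortComplex.mk (ξM R M) (νM R M) (ξM_νM R M)

lemma sesP_shortExact : (sesP R M).ShortExact := by
  refine { exact := ?_, mono_f := ?_, epi_g := ?_ }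
  · rw [ShortComplex.ShortExact.moduleCat_exact_iff_function_exact]
    intro z
    constructor
    · intro hz
      have hz' : νT' R M (extendScalarsEquiv R[X] (resN R M) z) = 0 := by
        rw [← νM_apply]; exact hz
      obtain ⟨w, hw⟩ := exists_of_νT'_eq_zero R M _ hz'
      refine ⟨(extendScalarsEquiv R[X] (resN R M)).symm w, ?_⟩
      apply (extendScalarsEquiv R[X] (resN R M)).injective
      change extendScalarsEquiv R[X] (resN R M) ((ξM R M).hom _) = _
      rw [ξM_apply, LinearEquiv.apply_symm_apply, hw]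
    · rintro ⟨w, rfl⟩
      change (νM R M).hom ((ξM R M).hom w) = 0
      rw [νM_apply, ξM_apply, νT'_ξT']
      rfl
  · rw [ModuleCat.mono_iff_injective]
    intro a b hab
    change (ξM R M).hom a = (ξM R M).hom b at hab
    have h2 := congrArg (extendScalarsEquiv R[X] (resN R M)) hab
    rw [ξM_apply, ξM_apply] at h2
    exact (extendScalarsEquiv R[X] (resN R M)).injective (ξT'_injective R M h2)
  · rw [ModuleCat.epi_iff_surjective]
    intro m
    refine ⟨(extendScalarsEquiv R[X] (resN R M)).symm ((1 : R[X]) ⊗ₜ[R] (show resN R M from m)), ?_⟩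
    change (νM R M).hom _ = m
    rw [νM_apply, LinearEquiv.apply_symm_apply, νT'_one_tmul]

end Apply

end Groth.Agent.Lib.Helper13.PS
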