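import Mathlib.Algebra.Polynomial.Inductions
import Mathlib.Algebra.Polynomial.AlgebraMap
import Mathlib.Algebra.Polynomial.Eval.SMul
import Mathlib.LinearAlgebra.TensorProduct.RightExactness
import Mathlib.RingTheory.TensorProduct.Basic

set_option autoImplicit false
universe u
open TensorProduct Polynomial

namespace Groth.Agent.Lib.Helper13.PZ

variable (R : Type u) [CommRing R] (N : Type u) [AddCommGroup N] [Module R N]

/-- `divX` as an `R`-linear map. -/
noncomputable def divXLin : R[X] →ₗ[R] R[X] where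
  toFun := divX
  map_add' _ _ := divX_add
  map_smul' a p := by
    simp only [RingHom.id_apply, smul_eq_C_mul, divX_C_mul]

/-- multiplication by `X` on `R[X] ⊗ N`. -/
noncomputable def mulXT : R[X] ⊗[R] N →ₗ[R] R[X] ⊗[R] N :=
  LinearMap.rTensor N (LinearMap.mulLeft R (X : R[X]))

/-- `divX` on `R[X] ⊗ N`. -/
noncomputable def divXT : R[X] ⊗[R] N →ₗ[R] R[X] ⊗[R] N :=
  LinearMap.rTensor N (divXLin R)

/-- evaluation at zero `R[X] ⊗ N → N`. -/
noncomputable def ev0T : R[X] ⊗[R] N →ₗ[R] N :=
  (TensorProduct.lid R N).toLinearMap ∘ₗ LinearMap.rTensor N (Polynomial.leval (0 : R))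

@[simp] lemma mulXT_tmul (p : R[X]) (n : N) : mulXT R N (p ⊗ₜ n) = (X * p) ⊗ₜ n := rfl

@[simp] lemma divXT_tmul (p : R[X]) (n : N) : divXT R N (p ⊗ₜ n) = divX p ⊗ₜ n := rfl

@[simp] lemma ev0T_tmul (p : R[X]) (n : N) : ev0T R N (p ⊗ₜ n) = p.eval 0 • n := by
  simp [ev0T, leval]

lemma divXT_mulXT (z : R[X] ⊗[R] N) : divXT R N (mulXT R N z) = z := by
  induction z using TensorProduct.induction_on with
  | zero => simp
  | tmul p n =>
    rw [mulXT_tmul, divXT_tmul]
    congr 1
    rw [mul_comm X p]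
    ext k
    rw [coeff_divX, coeff_mul_X]
  | add a b ha hb => rw [map_add, map_add, ha, hb]

lemma decomp (z : R[X] ⊗[R] N) :
    z = mulXT R N (divXT R N z) + (1 : R[X]) ⊗ₜ[R] (ev0T R N z) := by
  induction z using TensorProduct.induction_on with
  | zero => simp
  | tmul p n =>
    rw [divXT_tmul, mulXT_tmul, ev0T_tmul, ← TensorProduct.smul_tmul, ← TensorProduct.add_tmul]
    congr 1
    rw [← coeff_zero_eq_eval_zero, smul_eq_C_mul, mul_one]
    exact (X_mul_divX_add p).symm
  | add a b ha hb =>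
    rw [map_add, map_add, map_add, TensorProduct.tmul_add]
    nth_rewrite 1 [ha, hb]
    abel

lemma ev0T_mulXT (z : R[X] ⊗[R] N) : ev0T R N (mulXT R N z) = 0 := by
  induction z using TensorProduct.induction_on with
  | zero => simp
  | tmul p n => simp
  | add a b ha hb => rw [map_add, map_add, ha, hb, add_zero]

lemma mulXT_injective : Function.Injective (mulXT R N) :=
  Function.LeftInverse.injective (g := divXT R N) (divXT_mulXT R N)

lemma exists_of_ev0T_eq_zero (z : R[X] ⊗[R] N) (h : ev0T R N z = 0) : ∃ w, mulXT R N w = z :=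
  ⟨divXT R N z, by
    have := decomp R N z
    rw [h, TensorProduct.tmul_zero, add_zero] at this
    exact this.symm⟩

lemma ev0T_surjective : Function.Surjective (ev0T R N) := fun n => ⟨1 ⊗ₜ n, by simp⟩

end Groth.Agent.Lib.Helper13.PZ
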