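import Groth.Agent.Lib.Helper13.PolyZero1
import Groth.Agent.Lib.Helper13.DRingFlatBC

set_option autoImplicit false
universe u
open CategoryTheory CategoryTheory.Limits TensorProduct Polynomial

namespace Groth.Agent.Lib.Helper13.PZ

open Groth.Agent.Lib.Helper13.DR

variable (R : Type u) [CommRing R]

lemma ev_comp_c : (Polynomial.evalRingHom (0 : R)).comp (algebraMap R R[X]) = RingHom.id R := by
  ext r
  simp

/-- `N → (N|_{R[X]})|_R`, the identity. -/
noncomputable def νPre (N : ModuleCat.{u} R) :
    N ⟶ (ModuleCat.restrictScalars.{u} (algebraMap R R[X])).obj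
      ((ModuleCat.restrictScalars.{u} (Polynomial.evalRingHom (0 : R))).obj N) :=
  (ModuleCat.restrictScalarsId'App _ (ev_comp_c R) N).inv ≫
    (ModuleCat.restrictScalarsComp'App (algebraMap R R[X]) (Polynomial.evalRingHom (0 : R)) _ rfl
      N).hom

lemma νPre_apply (N : ModuleCat.{u} R) (n : N) : (νPre R N).hom n = n := rfl

/-- The augmentation `R[X] ⊗_R N → N`, `p ⊗ n ↦ p(0) n`, as a map of `R[X]`-modules. -/
noncomputable def ν (N : ModuleCat.{u} R) :
    (ModuleCat.extendScalars.{u, u, u} (algebraMap R R[X])).obj N ⟶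
      (ModuleCat.restrictScalars.{u} (Polynomial.evalRingHom (0 : R))).obj N :=
  ((ModuleCat.extendRestrictScalarsAdj.{u, u, u} (algebraMap R R[X])).homEquiv N _).symm (νPre R N)

lemma ν_one_tmul (N : ModuleCat.{u} R) (n : N) :
    (ν R N).hom (((1 : R[X]) ⊗ₜ[R] n :
      (ModuleCat.extendScalars.{u, u, u} (algebraMap R R[X])).obj N)) = n := by
  have h := ModuleCat.extendRestrictScalarsAdj_homEquiv_apply (f := algebraMap R R[X]) (ν R N) n
  rw [ν, Equiv.apply_symm_apply] at h
  exact h.symm.trans (νPre_apply R N n)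

lemma ν_naturality {N N' : ModuleCat.{u} R} (g : N ⟶ N') :
    (ModuleCat.extendScalars.{u, u, u} (algebraMap R R[X])).map g ≫ ν R N' =
      ν R N ≫ (ModuleCat.restrictScalars.{u} (Polynomial.evalRingHom (0 : R))).map g := by
  apply ModuleCat.ExtendScalars.hom_ext
  intro n
  have h1 := ν_one_tmul R N n
  have h2 := ν_one_tmul R N' (g n)
  change (ν R N').hom (((ModuleCat.extendScalars.{u, u, u} (algebraMap R R[X])).map g).hom
    (((1 : R[X]) ⊗ₜ[R] n : (ModuleCat.extendScalars.{u, u, u} (algebraMap R R[X])).obj N))) =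
    g.hom ((ν R N).hom (((1 : R[X]) ⊗ₜ[R] n :
      (ModuleCat.extendScalars.{u, u, u} (algebraMap R R[X])).obj N)))
  rw [h1]
  exact h2

/-- The augmentation as a natural transformation. -/
noncomputable def νNat : ModuleCat.extendScalars.{u, u, u} (algebraMap R R[X]) ⟶
    ModuleCat.restrictScalars.{u} (Polynomial.evalRingHom (0 : R)) where
  app N := ν R N
  naturality _ _ g := ν_naturality R g

section SES

variable (N : ModuleCat.{u} R)

lemma smul_eq_mulXT (w : R[X] ⊗[R] N) : (X : R[X]) • w = mulXT R N w := by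
  induction w using TensorProduct.induction_on with
  | zero => simp
  | tmul p n => rw [TensorProduct.smul_tmul', smul_eq_mul, mulXT_tmul]
  | add a b ha hb => rw [smul_add, map_add, ha, hb]

lemma ν_tmul (p : R[X]) (n : N) :
    ((ν R N).hom ((p ⊗ₜ[R] n : (ModuleCat.extendScalars.{u, u, u} (algebraMap R R[X])).obj N)) : N) =
      p.eval 0 • n := rfl

lemma ν_apply (z : (ModuleCat.extendScalars.{u, u, u} (algebraMap R R[X])).obj N) :
    ((ν R N).hom z : N) = ev0T R N (extendScalarsEquiv R[X] N z) := by
  let L : (ModuleCat.extendScalars.{u, u, u} (algebraMap R R[X])).obj N → N :=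
    fun z => (ν R N).hom z
  let Rr : (ModuleCat.extendScalars.{u, u, u} (algebraMap R R[X])).obj N → N :=
    fun z => ev0T R N (extendScalarsEquiv R[X] N z)
  have hL : ∀ a b, L (a + b) = L a + L b := fun a b => by simp only [L, map_add]; rfl
  have hR : ∀ a b, Rr (a + b) = Rr a + Rr b := fun a b => by simp only [Rr, map_add]
  have hL0 : L 0 = 0 := by simp only [L, map_zero]; rfl
  have hR0 : Rr 0 = 0 := by simp only [Rr, map_zero]
  have key : ∀ w, L w = Rr w := by
    intro w
    induction w using TensorProduct.induction_on with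
    | zero => exact hL0.trans hR0.symm
    | tmul p n => exact (ν_tmul R N p n).trans (ev0T_tmul R N p n).symm
    | add a b ha hb => exact (hL a b).trans ((congrArg₂ (· + ·) ha hb).trans (hR a b).symm)
  exact key z

/-- multiplication by `X` on `R[X] ⊗_R N`. -/
noncomputable def ξM : (ModuleCat.extendScalars.{u, u, u} (algebraMap R R[X])).obj N ⟶
    (ModuleCat.extendScalars.{u, u, u} (algebraMap R R[X])).obj N :=
  (X : R[X]) • 𝟙 _

lemma ξM_apply (z : (ModuleCat.extendScalars.{u, u, u} (algebraMap R R[X])).obj N) :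
    extendScalarsEquiv R[X] N ((ξM R N).hom z) = mulXT R N (extendScalarsEquiv R[X] N z) := by
  have h1 : (ξM R N).hom z = (X : R[X]) • z := rfl
  rw [h1, map_smul, smul_eq_mulXT]

lemma ξM_ν : ξM R N ≫ ν R N = 0 := by
  refine ModuleCat.hom_ext (LinearMap.ext fun z => ?_)
  change (ν R N).hom ((ξM R N).hom z) = 0
  rw [ν_apply, ξM_apply, ev0T_mulXT]
  rfl

/-- The short exact sequence `0 → N[X] → N[X] → N → 0` of `R[X]`-modules. -/
noncomputable def sesM : ShortComplex (ModuleCat.{u} R[X]) :=
  ShortComplex.mk (ξM R N) (ν R N) (ξM_ν R N)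

lemma sesM_shortExact : (sesM R N).ShortExact := by
  refine { exact := ?_, mono_f := ?_, epi_g := ?_ }
  · rw [ShortComplex.ShortExact.moduleCat_exact_iff_function_exact]
    intro z
    constructor
    · intro hz
      have hz' : ev0T R N (extendScalarsEquiv R[X] N z) = 0 := by
        rw [← ν_apply]; exact hz
      obtain ⟨w, hw⟩ := exists_of_ev0T_eq_zero R N _ hz'
      refine ⟨(extendScalarsEquiv R[X] N).symm w, ?_⟩
      apply (extendScalarsEquiv R[X] N).injective
      change extendScalarsEquiv R[X] N ((ξM R N).hom _) = _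
      rw [ξM_apply, LinearEquiv.apply_symm_apply, hw]
    · rintro ⟨w, rfl⟩
      change (ν R N).hom ((ξM R N).hom w) = 0
      rw [ν_apply, ξM_apply, ev0T_mulXT]
      rfl
  · rw [ModuleCat.mono_iff_injective]
    intro a b hab
    change (ξM R N).hom a = (ξM R N).hom b at hab
    have h2 := congrArg (extendScalarsEquiv R[X] N) hab
    rw [ξM_apply, ξM_apply] at h2
    exact (extendScalarsEquiv R[X] N).injective (mulXT_injective R N h2)
  · rw [ModuleCat.epi_iff_surjective]
    intro n
    exact ⟨_, ν_one_tmul R N n⟩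

end SES

end Groth.Agent.Lib.Helper13.PZ
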