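import Groth.Agent.Lib.Helper13.ExtTen1
import Groth.Agent.Lib.Helper13.DRingProjFormula

/-!
# The projection formula `M ⊗_R res N ≅ res (ext M ⊗_A N)` on modules, as an isomorphism of bifunctors
-/

set_option autoImplicit false
universe u
open CategoryTheory CategoryTheory.Limits MonoidalCategory TensorProduct

namespace Groth.Agent.Lib.Helper13.PF

open DTen Groth.Agent.Lib.Helper13.ET

variable {R A : Type u} [CommRing R] [CommRing A] (φ : R →+* A)

/-- `(M, N) ↦ M ⊗_R res N`. -/
noncomputable abbrev pfSrc : ModuleCat.{u} R ⥤ ModuleCat.{u} A ⥤ ModuleCat.{u} R :=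
  curriedTensor (ModuleCat.{u} R) ⋙ (Functor.whiskeringLeft _ _ _).obj (resM φ)

/-- `(M, N) ↦ res (ext M ⊗_A N)`. -/
noncomputable abbrev pfTgt : ModuleCat.{u} R ⥤ ModuleCat.{u} A ⥤ ModuleCat.{u} R :=
  (extM φ ⋙ curriedTensor (ModuleCat.{u} A)) ⋙ (Functor.whiskeringRight _ _ _).obj (resM φ)

/-- The module-level projection formula map `m ⊗ n ↦ (1 ⊗ m) ⊗ n`. -/
noncomputable def pfApp (M : ModuleCat.{u} R) (N : ModuleCat.{u} A) :
    M ⊗ (resM φ).obj N ⟶ (resM φ).obj ((extM φ).obj M ⊗ N) :=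
  ((ModuleCat.extendRestrictScalarsAdj.{u, u, u} φ).unit.app M ▷ (resM φ).obj N) ≫
    resTen₀app φ ((extM φ).obj M) N

lemma pfApp_tmul (M : ModuleCat.{u} R) (N : ModuleCat.{u} A) (m : M) (n : N) :
    (pfApp φ M N).hom (m ⊗ₜ (show (resM φ).obj N from n)) =
      (show (resM φ).obj ((extM φ).obj M ⊗ N) from
        (((1 : A) ⊗ₜ[R] m : (extM φ).obj M) ⊗ₜ[A] n : ((extM φ).obj M ⊗ N : ModuleCat.{u} A))) :=
  rfl

lemma pfApp_naturality {M M' : ModuleCat.{u} R} {N N' : ModuleCat.{u} A} (f : M ⟶ M') (g : N ⟶ N') :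
    (f ⊗ₘ (resM φ).map g) ≫ pfApp φ M' N' =
      pfApp φ M N ≫ (resM φ).map ((extM φ).map f ⊗ₘ g) := by
  apply ModuleCat.hom_ext
  apply TensorProduct.ext'
  intro m n
  rfl

instance isIso_pfApp (M : ModuleCat.{u} R) (N : ModuleCat.{u} A) : IsIso (pfApp φ M N) := by
  let _ : Algebra R A := φ.toAlgebra
  let _ : Module R N := Module.compHom N φ
  have : IsScalarTower R A N := ⟨fun r a n => by
    change (φ r * a) • n = φ r • (a • n)
    rw [mul_smul]⟩
  let e : (resM φ).obj ((extM φ).obj M ⊗ N) ≅ M ⊗ (resM φ).obj N :=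
    Groth.Agent.Lib.Helper13.DR.projIso R A N M
  have h : pfApp φ M N ≫ e.hom = 𝟙 _ := by
    apply ModuleCat.hom_ext
    apply TensorProduct.ext'
    intro m n
    change Groth.Agent.Lib.Helper13.DR.projEquivA R A N M
      (((1 : A) ⊗ₜ[R] m : (ModuleCat.extendScalars.{u, u, u} (algebraMap R A)).obj M) ⊗ₜ[A] n) = _
    rw [Groth.Agent.Lib.Helper13.DR.projEquivA_tmul, one_smul]
    rfl
  have h2 : pfApp φ M N = e.inv := by
    rw [← Category.comp_id (pfApp φ M N), ← e.hom_inv_id, ← Category.assoc, h, Category.id_comp]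
  rw [h2]
  infer_instance

/-- The projection formula maps as a natural transformation of bifunctors. -/
noncomputable def pfNat : pfSrc φ ⟶ pfTgt φ where
  app M :=
    { app := fun N => pfApp φ M N
      naturality := fun N N' g => by
        ext : 1
        exact TensorProduct.ext' (fun m n => rfl) }
  naturality M M' f := by
    ext N : 2
    exact ModuleCat.hom_ext (TensorProduct.ext' (fun m n => rfl))

@[simp] lemma pfNat_app_app (M : ModuleCat.{u} R) (N : ModuleCat.{u} A) :
    ((pfNat φ).app M).app N = pfApp φ M N := rfl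

instance isIso_pfNat : IsIso (pfNat φ) := by
  have : ∀ M, IsIso ((pfNat φ).app M) := fun M => by
    have : ∀ N, IsIso (((pfNat φ).app M).app N) := fun N => isIso_pfApp φ M N
    exact NatIso.isIso_of_isIso_app _
  exact NatIso.isIso_of_isIso_app _

/-- The projection formula as an isomorphism of bifunctors. -/
noncomputable def pfIso : pfSrc φ ≅ pfTgt φ := asIso (pfNat φ)

@[simp] lemma pfIso_hom : (pfIso φ).hom = pfNat φ := rfl

end Groth.Agent.Lib.Helper13.PF
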