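import Groth.Agent.Lib.Helper13.ProjF1

/-!
# The projection formula `P ⊗_R res N ≅ res (ext P ⊗_A N)` for complexes
-/

set_option autoImplicit false
universe u
open CategoryTheory CategoryTheory.Limits MonoidalCategory TensorProduct HomologicalComplex

namespace Groth.Agent.Lib.Helper13.PF

open DTen Groth.Agent.Lib.Helper13.ET

variable {R A : Type u} [CommRing R] [CommRing A] (φ : R →+* A)

/-- The chain-level projection formula map. -/
noncomputable def pfCx (P : DRing.Cx R) (N : DRing.Cx A) :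
    P ⊗ (resCx φ).obj N ⟶ (resCx φ).obj ((extCx φ).obj P ⊗ N) :=
  ((unitCx φ).app P ▷ (resCx φ).obj N) ≫ resTenCx φ ((extCx φ).obj P) N

lemma ι_pfCx (P : DRing.Cx R) (N : DRing.Cx A) (p q n : ℤ) (h : p + q = n) :
    ιTensorObj P ((resCx φ).obj N) p q n h ≫ (pfCx φ P N).f n =
      pfApp φ (P.X p) (N.X q) ≫ (resM φ).map (ιTensorObj ((extCx φ).obj P) N p q n h) := by
  have e1 := ι_resTenCx φ ((extCx φ).obj P) N p q n h
  have e2 := HomologicalComplex.ι_mapBifunctorMap ((unitCx φ).app P) (𝟙 ((resCx φ).obj N))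
    (curriedTensor (ModuleCat.{u} R)) (ComplexShape.up ℤ) p q n h
  dsimp only [pfCx]
  rw [HomologicalComplex.comp_f, ← Category.assoc]
  have e3 : ιTensorObj P ((resCx φ).obj N) p q n h ≫
      ((unitCx φ).app P ▷ (resCx φ).obj N).f n =
      ((ModuleCat.extendRestrictScalarsAdj.{u, u, u} φ).unit.app (P.X p) ▷ (resM φ).obj (N.X q)) ≫
        ιTensorObj ((resCx φ).obj ((extCx φ).obj P)) ((resCx φ).obj N) p q n h := by
    refine e2.trans ?_
    simp
    rfl
  rw [e3]
  refine (Category.assoc _ _ _).trans ?_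
  erw [e1]
  exact (Category.assoc _ _ _).symm

/-- The degreewise inverse of `pfCx`. -/
noncomputable def pfCxInv (P : DRing.Cx R) (N : DRing.Cx A) (n : ℤ) :
    ((resCx φ).obj ((extCx φ).obj P ⊗ N)).X n ⟶ (P ⊗ (resCx φ).obj N).X n :=
  (TotMap.mapTotalXIso (resM φ) (tenBicx ((extCx φ).obj P) N) (ComplexShape.up ℤ) n).hom ≫
    HomologicalComplex₂.totalDesc
      ((TotMap.map₂ (resM φ) (ComplexShape.up ℤ) (ComplexShape.up ℤ)).obj
        (tenBicx ((extCx φ).obj P) N))
      (fun p q (h : p + q = n) =>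
        @inv _ _ _ _ (pfApp φ (P.X p) (N.X q)) (isIso_pfApp φ (P.X p) (N.X q)) ≫
          ιTensorObj P ((resCx φ).obj N) p q n h)

lemma map_ι_pfCxInv (P : DRing.Cx R) (N : DRing.Cx A) (p q n : ℤ) (h : p + q = n) :
    (resM φ).map (ιTensorObj ((extCx φ).obj P) N p q n h) ≫ pfCxInv φ P N n =
      inv (pfApp φ (P.X p) (N.X q)) ≫ ιTensorObj P ((resCx φ).obj N) p q n h := by
  dsimp only [pfCxInv]
  erw [TotMap.map_ιTotal_mapTotalXIso_hom_assoc (resM φ) (tenBicx ((extCx φ).obj P) N)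
    (ComplexShape.up ℤ) p q n h]
  exact HomologicalComplex₂.ι_totalDesc
    ((TotMap.map₂ (resM φ) (ComplexShape.up ℤ) (ComplexShape.up ℤ)).obj
      (tenBicx ((extCx φ).obj P) N)) _ p q h

lemma pfCx_f_pfCxInv (P : DRing.Cx R) (N : DRing.Cx A) (n : ℤ) :
    (pfCx φ P N).f n ≫ pfCxInv φ P N n = 𝟙 _ := by
  apply HomologicalComplex.mapBifunctor.hom_ext
  intro p q h
  have h' : p + q = n := h
  have e1 := ι_pfCx φ P N p q n h'
  have e2 := map_ι_pfCxInv φ P N p q n h'
  erw [Category.comp_id, ← Category.assoc, e1, Category.assoc, e2, IsIso.hom_inv_id_assoc]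

lemma pfCxInv_pfCx_f (P : DRing.Cx R) (N : DRing.Cx A) (n : ℤ) :
    pfCxInv φ P N n ≫ (pfCx φ P N).f n = 𝟙 _ := by
  dsimp only [pfCxInv]
  rw [Category.assoc, ← cancel_epi
    (TotMap.mapTotalXIso (resM φ) (tenBicx ((extCx φ).obj P) N) (ComplexShape.up ℤ) n).inv,
    Iso.inv_hom_id_assoc]
  refine HomologicalComplex₂.total.hom_ext _ (fun p q h => ?_)
  have h' : p + q = n := h
  have e1 := ι_pfCx φ P N p q n h'
  erw [HomologicalComplex₂.ι_totalDesc_assoc, Category.assoc, e1, IsIso.inv_hom_id_assoc,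
    Category.comp_id]
  exact (TotMap.ιTotal_mapTotalXIso_inv (resM φ) (tenBicx ((extCx φ).obj P) N)
    (ComplexShape.up ℤ) p q n h).symm

instance isIso_pfCx (P : DRing.Cx R) (N : DRing.Cx A) : IsIso (pfCx φ P N) := by
  have : ∀ n, IsIso ((pfCx φ P N).f n) := fun n =>
    ⟨pfCxInv φ P N n, pfCx_f_pfCxInv φ P N n, pfCxInv_pfCx_f φ P N n⟩
  exact HomologicalComplex.Hom.isIso_of_components _

lemma pfCx_naturality {P P' : DRing.Cx R} (f : P ⟶ P') (N : DRing.Cx A) :
    (f ▷ (resCx φ).obj N) ≫ pfCx φ P' N =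
      pfCx φ P N ≫ (resCx φ).map ((extCx φ).map f ▷ N) := by
  dsimp only [pfCx]
  have e1 := (unitCx φ).naturality f
  have e2 := resTenCx_naturality φ ((extCx φ).map f) (𝟙 N)
  rw [← Category.assoc, ← comp_whiskerRight]
  erw [e1]
  rw [comp_whiskerRight, Category.assoc, Category.assoc, tensorHom_id] at *
  rw [← e2, CategoryTheory.Functor.map_id, tensorHom_id]
  rfl

end Groth.Agent.Lib.Helper13.PF
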