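import Groth.Agent.Lib.Helper13.LiftCx6
import Mathlib.RingTheory.Idempotents
import Mathlib.Algebra.Module.Projective
import Mathlib.Algebra.Module.Torsion.Basic

set_option autoImplicit false
set_option linter.style.haveILetI false
universe u
open CategoryTheory TensorProduct

namespace Groth.Agent.Lib.Helper13.PLN

variable {R : Type u} [CommRing R] (I : Ideal R)

/-- Nakayama for nilpotent ideals. -/
lemma eq_top_of_sup_smul_top_nilpotent (hI : IsNilpotent I) {Y : Type*} [AddCommGroup Y]
    [Module R Y] (N : Submodule R Y) (h : N ⊔ I • (⊤ : Submodule R Y) = ⊤) : N = ⊤ := by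
  obtain ⟨n, hn⟩ := hI
  have key : ∀ k : ℕ, N ⊔ (I ^ k) • (⊤ : Submodule R Y) = ⊤ := by
    intro k
    induction k with
    | zero => simp
    | succ k ih =>
      rw [eq_top_iff]
      calc ⊤ = N ⊔ (I ^ k) • (⊤ : Submodule R Y) := ih.symm
        _ = N ⊔ (I ^ k) • (N ⊔ I • (⊤ : Submodule R Y)) := by rw [h]
        _ ≤ N ⊔ (I ^ (k + 1)) • (⊤ : Submodule R Y) := by
            rw [Submodule.smul_sup]
            refine sup_le le_sup_left (sup_le ?_ ?_)
            · exact le_sup_of_le_left Submodule.smul_le_right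
            · rw [← Submodule.mul_smul, ← pow_succ]
              exact le_sup_right
  have := key n
  rw [hn] at this
  simpa using this

lemma surjective_of_range_sup_smul_top_nilpotent (hI : IsNilpotent I)
    {X Y : Type*} [AddCommGroup X] [Module R X] [AddCommGroup Y] [Module R Y]
    (f : X →ₗ[R] Y) (h : LinearMap.range f ⊔ I • (⊤ : Submodule R Y) = ⊤) :
    Function.Surjective f := by
  rw [← LinearMap.range_eq_top]
  exact eq_top_of_sup_smul_top_nilpotent I hI _ h

section EndQ

variable (F : Type u) [AddCommGroup F] [Module R F]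

/-- The ring homomorphism `End(F) → End(F/IF)`. -/
noncomputable def endQ : Module.End R F →+* Module.End R (F ⧸ (I • ⊤ : Submodule R F)) where
  toFun g := Submodule.mapQ _ _ g (Submodule.smul_top_le_comap_smul_top I g)
  map_one' := by
    apply Submodule.linearMap_qext
    ext x
    rfl
  map_mul' g h := by
    apply Submodule.linearMap_qext
    ext x
    rfl
  map_zero' := by
    apply Submodule.linearMap_qext
    ext x
    rfl
  map_add' g h := by
    apply Submodule.linearMap_qext
    ext x
    rfl

lemma endQ_mk (g : Module.End R F) (x : F) :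
    endQ I F g (Submodule.Quotient.mk x) = Submodule.Quotient.mk (g x) := rfl

lemma range_pow_le_of_endQ_eq_zero (g : Module.End R F) (hg : endQ I F g = 0) (k : ℕ) :
    LinearMap.range (g ^ k) ≤ (I ^ k) • (⊤ : Submodule R F) := by
  have h1 : ∀ x : F, g x ∈ I • (⊤ : Submodule R F) := fun x => by
    have := congrArg (fun φ => φ (Submodule.Quotient.mk x)) hg
    simp only [endQ_mk, LinearMap.zero_apply] at this
    exact (Submodule.Quotient.mk_eq_zero _).1 this
  induction k with
  | zero => simp
  | succ k ih =>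
    rintro _ ⟨x, rfl⟩
    have h0 : (g ^ (k + 1)) x = g ((g ^ k) x) := by rw [pow_succ', Module.End.mul_apply]
    rw [h0]
    have h2 : (g ^ k) x ∈ (I ^ k) • (⊤ : Submodule R F) := ih ⟨x, rfl⟩
    have h3 : g ((g ^ k) x) ∈ Submodule.map g ((I ^ k) • (⊤ : Submodule R F)) :=
      Submodule.mem_map_of_mem h2
    rw [Submodule.map_smul''] at h3
    have h4 : Submodule.map g ⊤ ≤ I • (⊤ : Submodule R F) := by
      rintro _ ⟨y, -, rfl⟩
      exact h1 y
    have h5 := Submodule.smul_mono (le_refl (I ^ k)) h4 h3
    rwa [← Submodule.mul_smul, ← pow_succ] at h5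

lemma isNilpotent_of_endQ_eq_zero (hI : IsNilpotent I) (g : Module.End R F)
    (hg : endQ I F g = 0) : IsNilpotent g := by
  obtain ⟨n, hn⟩ := hI
  refine ⟨n, ?_⟩
  have := range_pow_le_of_endQ_eq_zero I F g hg n
  rw [hn] at this
  ext x
  have hx : (g ^ n) x ∈ (⊥ : Ideal R) • (⊤ : Submodule R F) := this ⟨x, rfl⟩
  simpa using hx

end EndQ

section Lift

variable {I}

lemma exists_idempotent_lift (hI : IsNilpotent I) (F : Type u) [AddCommGroup F] [Module R F]
    [Module.Projective R F] (eb : Module.End R (F ⧸ (I • ⊤ : Submodule R F)))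
    (hidem : IsIdempotentElem eb) :
    ∃ e : Module.End R F, IsIdempotentElem e ∧
      ∀ x : F, eb (Submodule.Quotient.mk x) = Submodule.Quotient.mk (e x) := by
  obtain ⟨g, hg⟩ := Module.projective_lifting_property (I • ⊤ : Submodule R F).mkQ
    (eb ∘ₗ (I • ⊤ : Submodule R F).mkQ) (Submodule.mkQ_surjective _)
  have hrange : eb ∈ (endQ I F).range := by
    refine ⟨g, ?_⟩
    refine LinearMap.ext (fun x => ?_)
    obtain ⟨y, rfl⟩ := Submodule.mkQ_surjective _ x
    exact congrArg (fun φ => φ y) hg
  obtain ⟨e, he, hee⟩ := exists_isIdempotentElem_eq_of_ker_isNilpotent (endQ I F)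
    (fun x hx => isNilpotent_of_endQ_eq_zero I F hI x (RingHom.mem_ker.1 hx)) eb hrange hidem
  refine ⟨e, he, fun x => ?_⟩
  rw [← hee]
  rfl

theorem exists_projective_lift_of_surjective (hI : IsNilpotent I) (N : Type u) [AddCommGroup N]
    [Module (R ⧸ I) N] [Module R N] [IsScalarTower R (R ⧸ I) N] [Module.Projective (R ⧸ I) N]
    (F : Type u) [AddCommGroup F] [Module R F] [Module.Projective R F] (π : F →ₗ[R] N)
    (hπ : Function.Surjective π) :
    ∃ X : ModuleCat.{u} R, Module.Projective R X ∧
      Nonempty (TensorProduct R (R ⧸ I) X ≃ₗ[R ⧸ I] N) := by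
  classical
  let S : Submodule R F := I • ⊤
  have hIN : ∀ r ∈ I, ∀ x : N, r • x = 0 := fun r hr x => by
    rw [← algebraMap_smul (R ⧸ I) r x, Ideal.Quotient.algebraMap_eq,
      Ideal.Quotient.eq_zero_iff_mem.2 hr, zero_smul]
  have hS : S ≤ LinearMap.ker π := by
    refine Submodule.smul_le.2 (fun r hr x _ => ?_)
    rw [LinearMap.mem_ker, map_smul]
    exact hIN r hr _
  let πb : F ⧸ S →ₗ[R] N := S.liftQ π hS
  have hπb : ∀ x : F, πb (S.mkQ x) = π x := fun x => rfl
  have hπbs : Function.Surjective πb := fun y => by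
    obtain ⟨x, hx⟩ := hπ y
    exact ⟨S.mkQ x, hx⟩
  let πb' : (F ⧸ S) →ₗ[R ⧸ I] N :=
    LinearMap.extendScalarsOfSurjective Ideal.Quotient.mk_surjective πb
  obtain ⟨s, hs⟩ := Module.projective_lifting_property πb' LinearMap.id hπbs
  let sR : N →ₗ[R] F ⧸ S := s.restrictScalars R
  have hsR : ∀ y : N, πb (sR y) = y := fun y => congrArg (fun φ => φ y) hs
  let eb : Module.End R (F ⧸ S) := sR ∘ₗ πb
  have hidem : IsIdempotentElem eb := by
    refine LinearMap.ext (fun x => ?_)
    change sR (πb (sR (πb x))) = sR (πb x)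
    rw [hsR]
  obtain ⟨e, he, heb⟩ := exists_idempotent_lift hI F eb hidem
  have he2 : ∀ x : F, e (e x) = e x := fun x => congrArg (fun φ => φ x) he.eq
  let P : Submodule R F := LinearMap.range e
  have hfix : ∀ z : P, e z.1 = z.1 := fun z => by
    obtain ⟨y, hy⟩ := z.2
    rw [← hy, he2]
  haveI : Module.Projective R P := by
    refine Module.Projective.of_split P.subtype e.rangeRestrict ?_
    ext z
    exact hfix z
  let ρ : P →ₗ[R] N := π ∘ₗ P.subtype
  have hρs : Function.Surjective ρ := fun x => by
    obtain ⟨y, hy⟩ := Submodule.mkQ_surjective S (sR x)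
    refine ⟨⟨e y, y, rfl⟩, ?_⟩
    change π (e y) = x
    rw [← hπb]
    change πb (Submodule.Quotient.mk (e y)) = x
    rw [← heb]
    change πb (sR (πb (S.mkQ y))) = x
    rw [hy, hsR, hsR]
  have hρk : ∀ z : P, ρ z = 0 ↔ z ∈ I • (⊤ : Submodule R P) := by
    intro z
    constructor
    · intro hz
      have h1 : S.mkQ z.1 = 0 := by
        have h2 : eb (Submodule.Quotient.mk z.1) = 0 := by
          change sR (πb (S.mkQ z.1)) = 0
          rw [hπb]
          change sR (ρ z) = 0
          rw [hz, map_zero]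
        rwa [heb, hfix] at h2
      have h3 : z.1 ∈ S := (Submodule.Quotient.mk_eq_zero S).1 h1
      have h4 : e.rangeRestrict z.1 ∈ Submodule.map e.rangeRestrict S :=
        Submodule.mem_map_of_mem h3
      rw [Submodule.map_smul''] at h4
      have h5 : e.rangeRestrict z.1 = z := Subtype.ext (hfix z)
      rw [h5] at h4
      exact Submodule.smul_mono le_rfl le_top h4
    · intro hz
      refine Submodule.smul_induction_on hz ?_ ?_
      · intro r hr w _
        rw [map_smul]
        exact hIN r hr _
      · intro x y hx hy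
        rw [map_add, hx, hy, add_zero]
  exact ⟨ModuleCat.of R P, ‹_›, LC.nonempty_tensor_equiv I ρ hρs hρk⟩

/-- Projective modules lift along a nilpotent ideal. -/
theorem exists_projective_lift (hI : IsNilpotent I) (N : Type u) [AddCommGroup N]
    [Module (R ⧸ I) N] [Module.Projective (R ⧸ I) N] :
    ∃ X : ModuleCat.{u} R, Module.Projective R X ∧
      Nonempty (TensorProduct R (R ⧸ I) X ≃ₗ[R ⧸ I] N) := by
  letI : Module R N := Module.compHom N (Ideal.Quotient.mk I)
  haveI : IsScalarTower R (R ⧸ I) N := IsScalarTower.of_compHom R (R ⧸ I) N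
  exact exists_projective_lift_of_surjective hI N (N →₀ R) (Finsupp.linearCombination R id)
    (Finsupp.linearCombination_id_surjective R N)

end Lift

end Groth.Agent.Lib.Helper13.PLN
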