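import Groth.Agent.Lib.Helper13.ProjLiftNilp
import Groth.Agent.Lib.Helper13.LiftCx5
import Groth.Agent.Lib.Helper13.DRingNilpPC
import Groth.Agent.Lib.Helper13.SemiFree4

set_option autoImplicit false
set_option linter.style.haveILetI false
universe u
open CategoryTheory CategoryTheory.Limits TensorProduct

namespace Groth.Agent.Lib.Helper13.PLN

open Groth.Agent.Lib.Helper13.PC Groth.Agent.Lib.Helper13.SF Groth.Agent.Lib.Helper13.DR
open DerivedCategory
attribute [local instance] HasDerivedCategory.standard

variable {R : Type u} [CommRing R] (I : Ideal R)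

/-- The class of projective modules. -/
def PcProj : ObjectProperty (ModuleCat.{u} R) := fun X => Module.Projective R X

instance : (PcProj (R := R)).IsClosedUnderIsomorphisms where
  of_iso {X Y} e hX := by
    haveI : Module.Projective R X := hX
    exact Module.Projective.of_equiv e.toLinearEquiv

theorem exists_projective_representative_lifting (hI : IsNilpotent I)
    [DRing.HasLBaseChange (Ideal.Quotient.mk I)] (K : Dual.D R)
    (E : DRing.Cx (R ⧸ I)) (b : ℤ) (hEb : DRing.VanishesAbove E b)
    (hEp : ∀ i : ℤ, Module.Projective (R ⧸ I) (E.X i))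
    (hE : Nonempty (DRing.toD E ≅ (DRing.LBaseChange (Ideal.Quotient.mk I)).obj K)) :
    ∃ (P : DRing.Cx R) (b' : ℤ), DRing.VanishesAbove P b' ∧
      (∀ i : ℤ, Module.Projective R (P.X i)) ∧
      Nonempty (DRing.toD P ≅ K) ∧
      Nonempty ((((ModuleCat.extendScalars (Ideal.Quotient.mk I)).mapHomologicalComplex
        (ComplexShape.up ℤ)).obj P) ≅ E) := by
  obtain ⟨eE⟩ := hE
  obtain ⟨P', hKP, hproj, ⟨eP⟩⟩ := exists_kprojective_rep K
  haveI := hKP
  have hfl : ∀ i : ℤ, Module.Flat R (P'.X i) := fun i => by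
    have := (projective_iff _).1 (hproj i)
    infer_instance
  let G : DRing.Cx (R ⧸ I) := ((ModuleCat.extendScalars.{u, u, u}
    (Ideal.Quotient.mk I)).mapHomologicalComplex (ComplexShape.up ℤ)).obj P'
  let iso₁ : Q.obj E ≅ Q.obj G :=
    eE ≪≫ (DRing.LBaseChange (Ideal.Quotient.mk I)).mapIso eP.symm ≪≫
      LBaseChangeIso (Ideal.Quotient.mk I) P'
  have hh : ∀ i : ℤ, b < i → IsZero (G.homology i) := fun i hi => by
    have h1 : IsZero (E.homology i) :=
      (HomologicalComplex.ExactAt.of_isZero (hEb i hi)).isZero_homology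
    exact h1.of_iso ((homologyQIso G i).symm ≪≫
      (DerivedCategory.homologyFunctor _ i).mapIso iso₁.symm ≪≫ homologyQIso E i)
  have hK : ∀ i : ℤ, b < i → IsZero (P'.homology i) := fun i hi =>
    isZero_homology_of_extendCx_nilpotent (R' := R) (R := R ⧸ I) Ideal.Quotient.mk_surjective
      (by rwa [Ideal.Quotient.algebraMap_eq, Ideal.mk_ker]) P' hfl b hh i hi
  obtain ⟨Q₀, hQproj, hQz, ⟨eQ⟩⟩ := exists_projective_rep K b (fun i hi =>
    (hK i hi).of_iso ((DerivedCategory.homologyFunctor _ i).mapIso eP.symm ≪≫ homologyQIso P' i))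
  have hprod : ∀ X Y : ModuleCat.{u} R, PcProj X →
      (PcProj (ModuleCat.of R (X × Y)) ↔ PcProj Y) := by
    intro X Y hX
    haveI : Module.Projective R X := hX
    constructor
    · intro h
      haveI : Module.Projective R (X × Y) := h
      exact Module.Projective.of_split (LinearMap.inr R X Y) (LinearMap.snd R X Y)
        (LinearMap.snd_comp_inr R X Y)
    · intro h
      haveI : Module.Projective R Y := h
      change Module.Projective R (X × Y)
      infer_instance
  exact LC.exists_representative_lifting (I := I) PcProj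
    (fun X hX => hX) hprod
    (fun X Y f _ _ h => surjective_of_range_sup_smul_top_nilpotent I hI f.hom h)
    K ⟨Q₀, b, hQz, fun i => (projective_iff _).1 (hQproj i), ⟨eQ⟩⟩ E b hEb
    (fun i => by
      haveI := hEp i
      obtain ⟨X, hX, hX'⟩ := exists_projective_lift hI (E.X i)
      exact ⟨X, hX, hX'⟩) ⟨eE⟩

end Groth.Agent.Lib.Helper13.PLN
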