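import Groth.Agent.Lib.Helper13.LimitDescent
import Groth.Agent.Lib.Helper13.QuasiFiniteBaseChange

set_option autoImplicit false
set_option linter.unusedSectionVars false

universe u

namespace Groth.Agent.Lib.Helper13.LimitDescent

open AlgebraicGeometry CategoryTheory CategoryTheory.Limits Groth.Agent.Lib.Helper5
  Groth.Agent.Lib.Helper13

variable {I : Type u} [SmallCategory I] [IsCofiltered I] {D : I ⥤ Scheme.{u}} {c : Cone D}
  (hc : IsLimit c) [∀ {i j} (f : i ⟶ j), IsAffineHom (D.map f)]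
  {i₀ : I} [CompactSpace (D.obj i₀)]
  {X₀ Y₀ : Scheme.{u}} {f₀ : X₀ ⟶ Y₀} {g₀ : Y₀ ⟶ D.obj i₀}
  [QuasiCompact (f₀ ≫ g₀)] [LocallyOfFiniteType f₀]
  {X Y : Scheme.{u}} {f : X ⟶ Y} {g : Y ⟶ c.pt} {qY : Y ⟶ Y₀} {qX : X ⟶ X₀}

include hc in
set_option backward.isDefEq.respectTransparency false in
/-- Locally quasi-finite morphisms descend to a finite stage. -/
theorem exists_locallyQuasiFinite_stage (hY : IsPullback qY g g₀ (c.π.app i₀))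
    (hX : IsPullback qX f f₀ qY) [LocallyQuasiFinite f] :
    ∃ j : Over i₀, LocallyQuasiFinite (fj D i₀ f₀ g₀ j) := by
  let DX := bcDiagram D i₀ (f₀ ≫ g₀)
  let cX := bcCone D c i₀ (f₀ ≫ g₀)
  let hcX : Limits.IsLimit cX := isLimitBcCone D c hc i₀ (f₀ ≫ g₀)
  have : ∀ j, CompactSpace (DX.obj j) := fun j => compactSpace_Xj D i₀ f₀ g₀ j
  let j₀ : Over i₀ := Over.mk (𝟙 i₀)
  let U : (DX.obj j₀).Opens := (pXj D i₀ f₀ g₀ j₀) ⁻¹ᵁ f₀.quasiFiniteLocus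
  have hU : cX.π.app j₀ ⁻¹ᵁ U = ⊤ := by
    rw [← top_le_iff]
    rintro z -
    obtain ⟨x, rfl⟩ := (isoX hY hX).hom.homeomorph.surjective z
    change f₀.QuasiFiniteAt ((pXj D i₀ f₀ g₀ j₀) (cX.π.app j₀ ((isoX hY hX).hom x)))
    have h1 : (pXj D i₀ f₀ g₀ j₀) (cX.π.app j₀ ((isoX hY hX).hom x)) = qX x :=
      congr($(πX_pXj hY hX j₀) x)
    rw [h1]
    exact quasiFiniteAt_of_isPullback hX x (f.quasiFiniteAt x)
  obtain ⟨j, fj₀, hj⟩ := exists_map_eq_top DX cX hcX U hU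
  refine ⟨j, ?_⟩
  have : LocallyOfFiniteType (fj D i₀ f₀ g₀ j) :=
    MorphismProperty.of_isPullback (isPullback_Xj D i₀ f₀ g₀ j) inferInstance
  rw [← Scheme.Hom.quasiFiniteLocus_eq_top_iff, ← top_le_iff]
  rintro z -
  apply quasiFiniteAt_of_isPullback' (isPullback_Xj D i₀ f₀ g₀ j) z
  have hz : z ∈ DX.map fj₀ ⁻¹ᵁ U := hj ▸ trivial
  have h2 : DX.map fj₀ ≫ pXj D i₀ f₀ g₀ j₀ = pXj D i₀ f₀ g₀ j := by
    simp [DX, bcDiagram]
  have h3 : (pXj D i₀ f₀ g₀ j₀) (DX.map fj₀ z) = (pXj D i₀ f₀ g₀ j) z := congr($h2 z)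
  rw [← h3]
  exact hz

end Groth.Agent.Lib.Helper13.LimitDescent
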