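import Groth.Agent.Lib.Helper13.QuasiFinitePoint
import Groth.Agent.Lib.Helper13.ConstructibleCover
import Mathlib.AlgebraicGeometry.Limits

set_option autoImplicit false

namespace Groth.Agent.Lib.Helper13

open CategoryTheory CategoryTheory.Limits AlgebraicGeometry

universe u

/-- Per-point construction of a quasi-finite multisection. -/
theorem exists_affine_quasiFinite_over_point' {X S : Scheme.{u}} (f : X ⟶ S)
    [LocallyOfFinitePresentation f] [Surjective f]
    {U : S.Opens} (hU : IsAffineOpen U) (y : Spec Γ(S, U)) :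
    ∃ (Z : Scheme.{u}) (h : Z ⟶ X) (g' : Z ⟶ Spec Γ(S, U)), IsAffine Z ∧
      g' ≫ hU.fromSpec = h ≫ f ∧ LocallyOfFinitePresentation g' ∧ LocallyQuasiFinite g' ∧
      y ∈ Set.range g' := by
  obtain ⟨x, hx⟩ := f.surjective (hU.fromSpec y)
  have hxU : f x ∈ U := by
    rw [hx, ← SetLike.mem_coe, ← hU.range_fromSpec]
    exact ⟨y, rfl⟩
  obtain ⟨_, ⟨V : X.Opens, hV, rfl⟩, hxV, hVU⟩ :=
    X.isBasis_affineOpens.exists_subset_of_mem_open hxU (U.2.preimage f.continuous)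
  let φ := f.appLE U V hVU
  have hφ : φ.hom.FinitePresentation := f.finitePresentation_appLE hU hV hVU
  let x' : Spec Γ(X, V) := hV.primeIdealOf ⟨x, hxV⟩
  have hx' : hV.fromSpec x' = x := hV.fromSpec_primeIdealOf ⟨x, hxV⟩
  have hy : Spec.map φ x' = y := by
    apply hU.fromSpec.isOpenEmbedding.injective
    rw [← Scheme.Hom.comp_apply, IsAffineOpen.SpecMap_appLE_fromSpec f hU hV hVU,
      Scheme.Hom.comp_apply, hx', hx]
  obtain ⟨Z, i, hZ, h1, h2, h3⟩ := exists_affine_quasiFinite_over_point φ hφ y ⟨x', hy⟩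
  refine ⟨Z, i ≫ hV.fromSpec, i ≫ Spec.map φ, hZ, ?_, h1, h2, h3⟩
  rw [Category.assoc, Category.assoc, IsAffineOpen.SpecMap_appLE_fromSpec f hU hV hVU]

/-- Gluing: a jointly surjective family of lfp, locally quasi-finite maps through `X`. -/
theorem exists_of_family {X S : Scheme.{u}} (f : X ⟶ S) {ι : Type u} (Z : ι → Scheme.{u})
    (h : ∀ j, Z j ⟶ X) (H1 : ∀ j, LocallyOfFinitePresentation (h j ≫ f))
    (H2 : ∀ j, LocallyQuasiFinite (h j ≫ f)) (H3 : ∀ s : S, ∃ j, s ∈ Set.range (h j ≫ f)) :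
    ∃ (S' : Scheme.{u}) (g : S' ⟶ S) (hh : S' ⟶ X), hh ≫ f = g ∧
      LocallyOfFinitePresentation g ∧ LocallyQuasiFinite g ∧ Surjective g ∧
      ((Finite ι ∧ ∀ j, IsAffine (Z j)) → IsAffine S') := by
  refine ⟨∐ Z, Sigma.desc h ≫ f, Sigma.desc h, rfl, ?_, ?_, ⟨?_⟩, ?_⟩
  · rw [IsZariskiLocalAtSource.iff_of_openCover (P := @LocallyOfFinitePresentation)
      (sigmaOpenCover Z)]
    intro j
    change LocallyOfFinitePresentation (Sigma.ι Z j ≫ Sigma.desc h ≫ f)
    rw [← Category.assoc, Sigma.ι_desc]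
    exact H1 j
  · rw [IsZariskiLocalAtSource.iff_of_openCover (P := @LocallyQuasiFinite) (sigmaOpenCover Z)]
    intro j
    change LocallyQuasiFinite (Sigma.ι Z j ≫ Sigma.desc h ≫ f)
    rw [← Category.assoc, Sigma.ι_desc]
    exact H2 j
  · intro s
    obtain ⟨j, z, hz⟩ := H3 s
    refine ⟨Sigma.ι Z j z, ?_⟩
    rw [← Scheme.Hom.comp_apply, ← Category.assoc, Sigma.ι_desc]
    exact hz
  · rintro ⟨_, _⟩
    infer_instance

end Groth.Agent.Lib.Helper13
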