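import Mathlib.AlgebraicGeometry.ZariskisMainTheorem
import Mathlib.AlgebraicGeometry.Morphisms.QuasiFinite
import Mathlib.AlgebraicGeometry.Morphisms.FinitePresentation
import Groth.Agent.Lib.Helper13.IsolatingPrime

set_option autoImplicit false

namespace Groth.Agent.Lib.Helper13

open CategoryTheory CategoryTheory.Limits AlgebraicGeometry

universe u

/-- A point which is alone in its fibre is a quasi-finite point. -/
lemma quasiFiniteAt_of_preimage_singleton {Z S : Scheme.{u}} (g : Z ⟶ S) [LocallyOfFiniteType g]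
    (z : Z) (hz : g ⁻¹' {g z} = {z}) : g.QuasiFiniteAt z := by
  rw [Scheme.Hom.quasiFiniteAt_iff_isOpen_singleton_asFiber]
  have : Subsingleton (g ⁻¹' {g z}) := by
    rw [hz]; infer_instance
  have : Subsingleton (g.fiber (g z)) := (g.fiberHomeo (g z)).injective.subsingleton
  exact isOpen_discrete _

/-- Spec-level construction: for a finitely presented ring map `φ : A ⟶ B` and a point `y` of
`Spec A` in the image of `Spec B`, there is an affine scheme `Z` with a morphism to `Spec B` whose
composition to `Spec A` is locally of finite presentation, locally quasi-finite, and hits `y`. -/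
theorem exists_affine_quasiFinite_over_point {A B : CommRingCat.{u}} (φ : A ⟶ B)
    (hφ : φ.hom.FinitePresentation) (y : Spec A) (hy : y ∈ Set.range (Spec.map φ)) :
    ∃ (Z : Scheme.{u}) (i : Z ⟶ Spec B), IsAffine Z ∧
      LocallyOfFinitePresentation (i ≫ Spec.map φ) ∧ LocallyQuasiFinite (i ≫ Spec.map φ) ∧
      y ∈ Set.range (i ≫ Spec.map φ) := by
  algebraize [φ.hom]
  have : Algebra.FiniteType A B := inferInstance
  obtain ⟨x₀, hx₀⟩ := hy
  have hne : (y.asIdeal.primesOver B).Nonempty :=
    ⟨x₀.asIdeal, x₀.2, ⟨by rw [← hx₀]; rfl⟩⟩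
  obtain ⟨q, hq, T, hTq, hT⟩ := exists_finset_isolating_prime y.asIdeal hne
  have := hq.1
  let J : Ideal B := Ideal.span (T : Set B)
  have hJq : J ≤ q := Ideal.span_le.mpr hTq
  let ψ : B ⟶ CommRingCat.of (B ⧸ J) := CommRingCat.ofHom (Ideal.Quotient.mk J)
  let g₀ : Spec (CommRingCat.of (B ⧸ J)) ⟶ Spec A := Spec.map ψ ≫ Spec.map φ
  have hψ : ψ.hom.FinitePresentation := by
    apply RingHom.FinitePresentation.of_surjective _ Ideal.Quotient.mk_surjective
    rw [Ideal.mk_ker]
    exact ⟨T, rfl⟩
  have hg₀ : LocallyOfFinitePresentation g₀ := by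
    have h1 : LocallyOfFinitePresentation (Spec.map ψ) :=
      (HasRingHomProperty.Spec_iff (P := @LocallyOfFinitePresentation)).mpr hψ
    have h2 : LocallyOfFinitePresentation (Spec.map φ) :=
      (HasRingHomProperty.Spec_iff (P := @LocallyOfFinitePresentation)).mpr hφ
    infer_instance
  -- the point
  let z₀ : Spec (CommRingCat.of (B ⧸ J)) :=
    ⟨q.map (Ideal.Quotient.mk J), Ideal.map_isPrime_of_surjective Ideal.Quotient.mk_surjective
      (by rwa [Ideal.mk_ker])⟩
  have hcomap : (q.map (Ideal.Quotient.mk J)).comap (Ideal.Quotient.mk J) = q := by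
    rw [Ideal.comap_map_of_surjective _ Ideal.Quotient.mk_surjective, ← RingHom.ker_eq_comap_bot,
      Ideal.mk_ker, sup_eq_left.mpr hJq]
  have hz₀y : g₀ z₀ = y := by
    refine PrimeSpectrum.ext ?_
    change ((q.map (Ideal.Quotient.mk J)).comap (Ideal.Quotient.mk J)).comap (algebraMap A B) = _
    rw [hcomap]
    exact (hq.2.over).symm
  have hfib : g₀ ⁻¹' {g₀ z₀} = {z₀} := by
    ext z'
    simp only [Set.mem_preimage, Set.mem_singleton_iff]
    constructor
    · intro hz'
      rw [hz₀y] at hz'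
      let q' : Ideal B := z'.asIdeal.comap (Ideal.Quotient.mk J)
      have hq' : q' ∈ y.asIdeal.primesOver B := by
        refine ⟨Ideal.comap_isPrime _ _, ⟨?_⟩⟩
        rw [← hz']
        rfl
      have hTq' : (T : Set B) ⊆ q' := by
        intro t ht
        change Ideal.Quotient.mk J t ∈ z'.asIdeal
        rw [Ideal.Quotient.eq_zero_iff_mem.mpr (Ideal.subset_span ht)]
        exact zero_mem _
      have := hT q' hq' hTq'
      refine PrimeSpectrum.ext ?_
      change z'.asIdeal = q.map (Ideal.Quotient.mk J)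
      rw [← this, Ideal.map_comap_of_surjective _ Ideal.Quotient.mk_surjective]
    · rintro rfl; rfl
  have hqf : g₀.QuasiFiniteAt z₀ := quasiFiniteAt_of_preimage_singleton g₀ z₀ hfib
  -- shrink to an affine open inside the quasi-finite locus
  obtain ⟨_, ⟨W : (Spec (CommRingCat.of (B ⧸ J))).Opens, hW, rfl⟩, hzW, hWle⟩ :=
    (Spec (CommRingCat.of (B ⧸ J))).isBasis_affineOpens.exists_subset_of_mem_open
      (show z₀ ∈ (g₀.quasiFiniteLocus : Set _) from hqf) g₀.quasiFiniteLocus.2
  refine ⟨W, W.ι ≫ Spec.map ψ, hW, ?_, ?_, ?_⟩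
  · rw [Category.assoc]
    change LocallyOfFinitePresentation (W.ι ≫ g₀)
    infer_instance
  · rw [Category.assoc]
    change LocallyQuasiFinite (W.ι ≫ g₀)
    rw [← Scheme.Hom.quasiFiniteLocus_eq_top_iff, Scheme.Hom.quasiFiniteLocus_comp, ← top_le_iff]
    rintro ⟨w, hw⟩ -
    exact hWle hw
  · refine ⟨⟨z₀, hzW⟩, ?_⟩
    rw [Category.assoc]
    exact hz₀y

end Groth.Agent.Lib.Helper13
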