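import Groth.Agent.Lib.Helper13.RGam1

/-!
# `RΓ_I K = 0` when some `f ∈ I` acts invertibly on `K`
-/

set_option autoImplicit false
universe u
open CategoryTheory CategoryTheory.Limits

namespace Groth.Agent.Lib.Helper13.RG

open Groth.Agent.Lib.Helper17 Groth.Agent.Lib.Helper17.DerKInj Groth.Agent.Lib.Helper17.DerAbs
open DerivedCategory

attribute [local instance] HasDerivedCategory.standard

variable {A : Type u} [CommRing A] (I : Ideal A)

lemma homologyMap_smul_id (K : DRing.Cx A) (f : A) (n : ℤ) :
    HomologicalComplex.homologyMap (f • 𝟙 K) n = f • 𝟙 (K.homology n) := by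
  have hc : HomologicalComplex.cyclesMap (f • 𝟙 K) n = f • 𝟙 (K.cycles n) := by
    rw [← cancel_mono (K.iCycles n), HomologicalComplex.cyclesMap_i, Linear.smul_comp,
      Category.id_comp]
    change K.iCycles n ≫ (f • 𝟙 (K.X n)) = _
    rw [Linear.comp_smul, Category.comp_id]
  rw [← cancel_epi (K.homologyπ n), HomologicalComplex.homologyπ_naturality, hc, Linear.smul_comp,
    Linear.comp_smul, Category.id_comp, Category.comp_id]

lemma gamCx_map_smul_id (f : A) (J : DRing.Cx A) :
    (gamCx I).map (f • 𝟙 J) = f • 𝟙 ((gamCx I).obj J) := by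
  refine HomologicalComplex.hom_ext _ _ (fun n => ?_)
  apply ModuleCat.hom_ext
  apply LinearMap.ext
  intro x
  rfl

lemma exists_pow_smul_eq_zero {f : A} (hf : f ∈ I) (M : ModuleCat.{u} A)
    (x : (DRing.gammaI I).obj M) : ∃ m : ℕ, f ^ m • x = 0 := by
  obtain ⟨m, hm⟩ := (show (x : DRing.torsionSub I M).1 ∈ DRing.torsionSub I M from x.2)
  refine ⟨m, ?_⟩
  apply Subtype.ext
  exact hm (f ^ m) (Ideal.pow_mem_pow hf m)

/-- The complex `Γ_I J` is acyclic as soon as `f • 𝟙` is a quasi-isomorphism on it for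
some `f ∈ I`. -/
lemma isZero_homology_gamCx {f : A} (hf : f ∈ I) (J : DRing.Cx A)
    (h : QuasiIso (f • 𝟙 ((gamCx I).obj J))) (n : ℤ) :
    IsZero (((gamCx I).obj J).homology n) := by
  set G := (gamCx I).obj J with hG
  have h1 : IsIso (f • 𝟙 (G.homology n)) := by
    rw [← homologyMap_smul_id]
    infer_instance
  have hinj : Function.Injective (fun x : G.homology n => f • x) :=
    ((ConcreteCategory.isIso_iff_bijective (f • 𝟙 (G.homology n))).1 h1).injective
  have hinj' : ∀ m : ℕ, Function.Injective (fun x : G.homology n => f ^ m • x) := by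
    intro m
    induction m with
    | zero => intro x y hxy; simpa using hxy
    | succ m ih =>
      intro x y hxy
      apply ih
      apply hinj
      change f • (f ^ m • x) = f • (f ^ m • y)
      have e1 : ∀ t : G.homology n, f • (f ^ m • t) = f ^ (m + 1) • t := fun t => by
        rw [smul_smul, pow_succ, mul_comm]
      rw [e1, e1]
      exact hxy
  have : Subsingleton (G.homology n) := by
    refine ⟨fun x y => ?_⟩
    suffices h0 : ∀ x : G.homology n, x = 0 by rw [h0 x, h0 y]
    intro x
    obtain ⟨z, rfl⟩ := (ModuleCat.epi_iff_surjective (G.homologyπ n)).1 inferInstance x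
    obtain ⟨m, hm⟩ := exists_pow_smul_eq_zero I hf (J.X n) ((G.iCycles n).hom z)
    have hz : f ^ m • z = 0 := by
      apply (ModuleCat.mono_iff_injective (G.iCycles n)).1 inferInstance
      rw [map_smul, map_zero]
      exact hm
    apply hinj' m
    change f ^ m • (G.homologyπ n).hom z = f ^ m • 0
    rw [← map_smul, hz, map_zero, smul_zero]
  exact ModuleCat.isZero_of_subsingleton _

variable [DRing.HasRgammaI I]

/-- `RΓ_I K = 0` if some `f ∈ I` acts invertibly on `K`. -/
theorem isZero_RgammaI_of_isIso_smul {f : A} (hf : f ∈ I) (K : Dual.D A)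
    (h : IsIso (f • 𝟙 K)) : IsZero ((DRing.RgammaI I).obj K) := by
  obtain ⟨J, g, hJ, hg⟩ := hasKInjRes (A := A) (Q.objPreimage K)
  have : J.IsKInjective := hJ
  have hg' : IsIso (Q.map g) := by
    rw [DerivedCategory.isIso_Q_map_iff_quasiIso]; exact hg
  let e : K ≅ Q.obj J := (Q.objObjPreimageIso K).symm ≪≫ asIso (Q.map g)
  have h1 : IsIso (Q.map (f • 𝟙 J)) := by
    have : Q.map (f • 𝟙 J) = e.inv ≫ (f • 𝟙 K) ≫ e.hom := by
      rw [Functor.map_smul, CategoryTheory.Functor.map_id, Linear.smul_comp, Linear.comp_smul,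
        Category.id_comp, e.inv_hom_id]
    rw [this]
    infer_instance
  have h2 : IsIso (Q.map ((gamCx I).map (f • 𝟙 J))) := by
    have hn := RgamIso_naturality I (f • 𝟙 J)
    have : Q.map ((gamCx I).map (f • 𝟙 J)) =
        (RgamIso I J).hom ≫ (DRing.RgammaI I).map (Q.map (f • 𝟙 J)) ≫ (RgamIso I J).inv := by
      rw [← Category.assoc, ← hn, Category.assoc, Iso.hom_inv_id, Category.comp_id]
    rw [this]
    infer_instance
  rw [gamCx_map_smul_id, DerivedCategory.isIso_Q_map_iff_quasiIso] at h2
  have h3 : IsZero (Q.obj ((gamCx I).obj J)) := by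
    apply Groth.Agent.Lib.Helper13.PC.isZero_of_forall_isZero_homology
    intro n
    exact (isZero_homology_gamCx I hf J h2 n).of_iso
      ((DerivedCategory.homologyFunctorFactors (ModuleCat.{u} A) n).app _)
  exact (h3.of_iso (RgamIso I J).symm).of_iso ((DRing.RgammaI I).mapIso e)

end Groth.Agent.Lib.Helper13.RG
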