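import Groth.Agent.Lib.Helper13.ExtTen1
import Groth.Agent.Lib.Helper13.DTenAssoc
import Groth.Agent.Lib.Helper13.DTenDev1

/-!
# Derived base change is strong monoidal
-/

set_option autoImplicit false
universe u
open CategoryTheory CategoryTheory.Limits MonoidalCategory

namespace Groth.Agent.Lib.Helper13.DV

open Groth.Agent.Lib.Helper13.PC Groth.Agent.Lib.Helper13.SF Groth.Agent.Lib.Helper13.Kan
open Groth.Agent.Lib.Helper13.DR Groth.Agent.Lib.Helper13.HT Groth.Agent.Lib.Helper13.DT
open Groth.Agent.Lib.Helper13.ET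
open DerivedCategory DTen

attribute [local instance] HasDerivedCategory.standard

variable {R R' : Type u} [CommRing R] [CommRing R'] (φ : R →+* R')
  [HasLTen R] [HasLTen R'] [HasLBase φ] [HasResTen φ] [ResLegIso φ]

/-- `ψ_{W,K} : W ⊗^L K ⟶ res (LB W ⊗^L LB K)`. -/
noncomputable def psi (W K : Dual.D R) :
    (LTen₂ R).obj (W, K) ⟶
      (DRing.restrictD φ).obj ((LTen₂ R').obj ((LBase φ).obj W, (LBase φ).obj K)) :=
  (LTen₂ R).map (Prod.mkHom ((baseAdj φ).unit.app W) ((baseAdj φ).unit.app K)) ≫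
    (resPF φ).app ((LBase φ).obj W, (LBase φ).obj K)

/-- The oplax monoidal comparison of derived base change. -/
noncomputable def psiSharp (W K : Dual.D R) :
    (LBase φ).obj ((LTen₂ R).obj (W, K)) ⟶ (LTen₂ R').obj ((LBase φ).obj W, (LBase φ).obj K) :=
  ((baseAdj φ).homEquiv _ _).symm (psi φ W K)

lemma psi_naturality {W W' K K' : Dual.D R} (f : W ⟶ W') (g : K ⟶ K') :
    (LTen₂ R).map (Prod.mkHom f g) ≫ psi φ W' K' =
      psi φ W K ≫ (DRing.restrictD φ).map
        ((LTen₂ R').map (Prod.mkHom ((LBase φ).map f) ((LBase φ).map g))) := by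
  have h1 := (baseAdj φ).unit.naturality f
  have h2 := (baseAdj φ).unit.naturality g
  have h3 := (resPF φ).naturality (Prod.mkHom ((LBase φ).map f) ((LBase φ).map g))
  dsimp at h1 h2 h3
  dsimp only [psi]
  rw [Category.assoc, ← h3, ← Category.assoc, ← Category.assoc, LTen₂_map_comp, LTen₂_map_comp,
    h1, h2]

lemma psiSharp_naturality {W W' K K' : Dual.D R} (f : W ⟶ W') (g : K ⟶ K') :
    (LBase φ).map ((LTen₂ R).map (Prod.mkHom f g)) ≫ psiSharp φ W' K' =
      psiSharp φ W K ≫ (LTen₂ R').map (Prod.mkHom ((LBase φ).map f) ((LBase φ).map g)) := by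
  dsimp only [psiSharp]
  rw [← Adjunction.homEquiv_naturality_left_symm, ← Adjunction.homEquiv_naturality_right_symm,
    psi_naturality]


lemma unit_comp_map_psiSharp (W K : Dual.D R) :
    (baseAdj φ).unit.app ((LTen₂ R).obj (W, K)) ≫ (DRing.restrictD φ).map (psiSharp φ W K) =
      psi φ W K := by
  have h := ((baseAdj φ).homEquiv _ _).apply_symm_apply (psi φ W K)
  rw [Adjunction.homEquiv_unit] at h
  exact h

lemma psiSharp_fac (P P' : DRing.Cx R) :
    psiSharp φ (Q.obj P) (Q.obj P') ≫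
        (LTen₂ R').map (Prod.mkHom ((baseCmp φ).app P) ((baseCmp φ).app P')) ≫
          (ε R').app ((extCx φ).obj P, (extCx φ).obj P') =
      (LBase φ).map ((ε R).app (P, P')) ≫ (baseCmp φ).app ((tensorT R).obj (P, P')) ≫
        Q.map (extTenIso φ P P').hom := by
  apply ((baseAdj φ).homEquiv _ _).injective
  rw [Adjunction.homEquiv_unit, Adjunction.homEquiv_unit]
  rw [← cancel_mono ((resFactors φ).hom.app ((tensorT R').obj ((extCx φ).obj P, (extCx φ).obj P')))]
  have hR1 := (baseAdj φ).unit.naturality ((ε R).app (P, P'))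
  have hR2 := baseCmp_fac φ ((tensorT R).obj (P, P'))
  have hR3 := (resFactors φ).hom.naturality (extTenIso φ P P').hom
  have hR4 := unitCx_comp_res_extTenIso φ P P'
  have hL1 := unit_comp_map_psiSharp φ (Q.obj P) (Q.obj P')
  have hL2 := (resPF φ).naturality (Prod.mkHom ((baseCmp φ).app P) ((baseCmp φ).app P'))
  have hL3 := resPF_fac φ ((extCx φ).obj P, (extCx φ).obj P')
  have hL4 := baseCmp_fac φ P
  have hL5 := baseCmp_fac φ P'
  have hL6 := (ε R).naturality (Prod.mkHom ((unitCx φ).app P) ((unitCx φ).app P'))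
  dsimp at hR1 hR2 hR3 hL2 hL3 hL4 hL5 hL6
  have hγ : ∀ K : DRing.Cx R, (baseγ φ).app K ≫ (resFactors φ).hom.app ((extCx φ).obj K) =
      Q.map ((unitCx φ).app K) := fun K => by
    dsimp [baseγ]
    rw [Category.assoc, ← NatTrans.comp_app, Iso.inv_hom_id, NatTrans.id_app]
    exact Category.comp_id _
  have hRHS : ((baseAdj φ).unit.app ((LTen₂ R).obj (Q.obj P, Q.obj P')) ≫
        (DRing.restrictD φ).map
          ((LBase φ).map ((ε R).app (P, P')) ≫
            (baseCmp φ).app ((tensorT R).obj (P, P')) ≫ Q.map (extTenIso φ P P').hom)) ≫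
      (resFactors φ).hom.app ((tensorT R').obj ((extCx φ).obj P, (extCx φ).obj P')) =
      (ε R).app (P, P') ≫ Q.map (((unitCx φ).app P ⊗ₘ (unitCx φ).app P') ≫
        resTenCx φ ((extCx φ).obj P) ((extCx φ).obj P')) := by
    rw [Functor.map_comp, Functor.map_comp, ← hR4, Functor.map_comp]
    simp only [Category.assoc]
    erw [hR3]
    rw [← Category.assoc ((baseAdj φ).unit.app _), ← hR1]
    simp only [Category.assoc]
    erw [reassoc_of% hR2, reassoc_of% (hγ (P ⊗ P'))]
    rfl
  rw [hRHS]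
  rw [Functor.map_comp, Functor.map_comp, ← Category.assoc ((baseAdj φ).unit.app _), hL1]
  dsimp only [psi]
  simp only [Category.assoc]
  rw [← reassoc_of% hL2, ← Category.assoc ((LTen₂ R).map _), LTen₂_map_comp, hL4, hL5]
  have hB : (DRing.restrictD φ).map ((ε R').app ((extCx φ).obj P, (extCx φ).obj P')) ≫
      (resFactors φ).hom.app ((tensorT R').obj ((extCx φ).obj P, (extCx φ).obj P')) =
      (resβB φ).app ((extCx φ).obj P, (extCx φ).obj P') := rfl
  rw [hB, hL3]
  dsimp only [resβA]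
  rw [← Category.assoc ((LTen₂ R).map _), LTen₂_map_comp, hγ, hγ, reassoc_of% hL6,
    ← Functor.map_comp, MonoidalCategory.tensorHom_def]
  rfl


omit [HasLBase φ] [HasResTen φ] [ResLegIso φ] [HasLTen R'] in
lemma isIso_LTen₂_map {a a' b b' : Dual.D R} (f : a ⟶ a') (g : b ⟶ b') [IsIso f] [IsIso g] :
    IsIso ((LTen₂ R).map (Prod.mkHom f g)) := by
  have : IsIso (Prod.mkHom f g : ((a, b) : Dual.D R × Dual.D R) ⟶ (a', b')) := by
    rw [isIso_prod_iff]
    exact ⟨inferInstanceAs (IsIso f), inferInstanceAs (IsIso g)⟩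
  infer_instance

/-- Derived base change is strong monoidal: the oplax comparison is an isomorphism. -/
theorem isIso_psiSharp (W K : Dual.D R) : IsIso (psiSharp φ W K) := by
  obtain ⟨P, hP, -, ⟨e₁⟩⟩ := exists_kprojective_rep W
  obtain ⟨P', hP', -, ⟨e₂⟩⟩ := exists_kprojective_rep K
  have hnat := psiSharp_naturality φ e₁.hom e₂.hom
  have key : IsIso (psiSharp φ (Q.obj P) (Q.obj P')) := by
    have h := psiSharp_fac φ P P'
    have h1 := isIso_baseCmp_app_of_isKProjective φ P
    have h2 := isIso_baseCmp_app_of_isKProjective φ P'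
    have : CochainComplex.IsKProjective ((tensorT R).obj (P, P')) :=
      inferInstanceAs (CochainComplex.IsKProjective (P ⊗ P'))
    have h3 := isIso_baseCmp_app_of_isKProjective φ ((tensorT R).obj (P, P'))
    have : ((extCx φ).obj P).IsKProjective := isKProjective_extCx φ P
    have : ((extCx φ).obj P').IsKProjective := isKProjective_extCx φ P'
    have h4 := isIso_ε_app_of_isKProjective R' ((extCx φ).obj P) ((extCx φ).obj P')
    have h5 := isIso_ε_app_of_isKProjective R P P'
    have h6 := isIso_LTen₂_map (R := R') ((baseCmp φ).app P) ((baseCmp φ).app P')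
    have hR : IsIso ((LBase φ).map ((ε R).app (P, P')) ≫ (baseCmp φ).app ((tensorT R).obj (P, P')) ≫
        Q.map (extTenIso φ P P').hom) := inferInstance
    rw [← h] at hR
    exact @IsIso.of_isIso_comp_right _ _ _ _ _ (psiSharp φ (Q.obj P) (Q.obj P'))
      ((LTen₂ R').map (Prod.mkHom ((baseCmp φ).app P) ((baseCmp φ).app P')) ≫
          (ε R').app ((extCx φ).obj P, (extCx φ).obj P')) inferInstance hR
  have h7 := isIso_LTen₂_map (R := R) e₁.hom e₂.hom
  have h8 := isIso_LTen₂_map (R := R') ((LBase φ).map e₁.hom) ((LBase φ).map e₂.hom)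
  have h9 : IsIso ((LBase φ).map ((LTen₂ R).map (Prod.mkHom e₁.hom e₂.hom)) ≫ psiSharp φ W K) := by
    rw [hnat]
    infer_instance
  exact @IsIso.of_isIso_comp_left _ _ _ _ _ ((LBase φ).map ((LTen₂ R).map (Prod.mkHom e₁.hom e₂.hom)))
    (psiSharp φ W K) inferInstance h9


section RHomBC

variable [HasRHom R] [HasRHom R']

/-- The key computation: composing with `rhomBC` is, through the adjunctions, precomposition with `psiSharp`. -/
lemma comp_rhomBC (K : Dual.D R) (M : Dual.D R') (W : Dual.D R)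
    (g : (LTen₂ R').obj ((LBase φ).obj W, (LBase φ).obj K) ⟶ M) :
    (baseAdj φ).homEquiv W _ (rhomHomEquiv ((LBase φ).obj W) ((LBase φ).obj K) M g) ≫ rhomBC φ K M =
      rhomHomEquiv W K ((DRing.restrictD φ).obj M)
        ((baseAdj φ).homEquiv _ _ (psiSharp φ W K ≫ g)) := by
  set g' := rhomHomEquiv ((LBase φ).obj W) ((LBase φ).obj K) M g with hg'
  have hg : (LTen₂ R').map (Prod.mkHom g' (𝟙 ((LBase φ).obj K))) ≫ ev ((LBase φ).obj K) M = g := by
    have := ((rhomAdj R' ((LBase φ).obj K)).homEquiv _ _).symm_apply_apply g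
    rw [Adjunction.homEquiv_counit] at this
    exact this
  dsimp only [rhomBC]
  rw [← Adjunction.homEquiv_naturality_left]
  congr 1
  change (LTen₂ R).map (Prod.mkHom ((baseAdj φ).homEquiv W _ g') (𝟙 K)) ≫ rhomBCCore φ K M = _
  rw [Adjunction.homEquiv_unit, Adjunction.homEquiv_unit, Functor.map_comp, ← Category.assoc,
    unit_comp_map_psiSharp, ← hg, Functor.map_comp]
  dsimp only [rhomBCCore, psi]
  have h3 := (resPF φ).naturality (Prod.mkHom g' (𝟙 ((LBase φ).obj K)))
  dsimp at h3
  trans (LTen₂ R).map (Prod.mkHom ((baseAdj φ).unit.app W ≫ (DRing.restrictD φ).map g')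
      ((baseAdj φ).unit.app K)) ≫
    (resPF φ).app ((RHomR R' ((LBase φ).obj K)).obj M, (LBase φ).obj K) ≫
      (DRing.restrictD φ).map (DTen.ev ((LBase φ).obj K) M)
  · rw [← Category.assoc ((LTen₂ R).map _), LTen₂_map_comp, Category.comp_id, Category.id_comp]
  · simp only [Category.assoc]
    rw [← reassoc_of% h3]
    conv_rhs => rw [← Category.assoc, LTen₂_map_comp, CategoryTheory.Functor.map_id]
    erw [Category.comp_id]

/-- The comparison `res RHom_{R'}(K ⊗^L R', M) ⟶ RHom_R(K, res M)` is an isomorphism. -/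
theorem isIso_rhomBC (K : Dual.D R) (M : Dual.D R') : IsIso (rhomBC φ K M) := by
  refine isIso_of_yoneda_map_bijective _ (fun W => ?_)
  have := isIso_psiSharp φ W K
  let E : ((LTen₂ R').obj ((LBase φ).obj W, (LBase φ).obj K) ⟶ M) ≃
      (W ⟶ (DRing.restrictD φ).obj ((RHomR R' ((LBase φ).obj K)).obj M)) :=
    (rhomHomEquiv ((LBase φ).obj W) ((LBase φ).obj K) M).trans ((baseAdj φ).homEquiv W _)
  let E' : ((LTen₂ R').obj ((LBase φ).obj W, (LBase φ).obj K) ⟶ M) ≃
      (W ⟶ (RHomR R K).obj ((DRing.restrictD φ).obj M)) :=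
    ((Iso.homFromEquiv (asIso (psiSharp φ W K))).symm.trans ((baseAdj φ).homEquiv _ _)).trans
      (rhomHomEquiv W K ((DRing.restrictD φ).obj M))
  have h : (fun x : W ⟶ _ => x ≫ rhomBC φ K M) = E' ∘ E.symm := by
    funext x
    obtain ⟨g, rfl⟩ := E.surjective x
    rw [Function.comp_apply, Equiv.symm_apply_apply]
    exact comp_rhomBC φ K M W g
  rw [h]
  exact E'.bijective.comp E.symm.bijective

end RHomBC

end Groth.Agent.Lib.Helper13.DV
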