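import Groth.Agent.Lib.Helper13.RHomLoc3

/-!
# `RHom(A_f, RHom(A_g, K)) ≅ RHom(A_{fg}, K)`
-/

set_option autoImplicit false
universe u
open CategoryTheory CategoryTheory.Limits

namespace Groth.Agent.Lib.Helper13.Coind

open Groth.Agent.Lib.Helper17 Groth.Agent.Lib.Helper17.DerKInj Groth.Agent.Lib.Helper17.DerAbs

attribute [local instance] HasDerivedCategory.standard

variable {A : Type u} [CommRing A]

/-- `res RHom_A(A_h, -)`. -/
noncomputable abbrev RR (h : A) : Dual.D A ⥤ Dual.D A :=
  Rco (algebraMap A (Localization.Away h)) ⋙ DRing.restrictD (algebraMap A (Localization.Away h))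

/-- The counit `res RHom_A(A_h, Y) → Y`. -/
noncomputable abbrev cc (h : A) (Y : Dual.D A) : (RR h).obj Y ⟶ Y :=
  (adj (algebraMap A (Localization.Away h))).counit.app Y

lemma isUnit_algebraMap_of_mem_powers_left (f g s : A) (hs : s ∈ Submonoid.powers f) :
    IsUnit (algebraMap A (Localization (Submonoid.powers (f * g))) s) := by
  obtain ⟨k, rfl⟩ := hs
  have h1 : IsUnit (algebraMap A (Localization (Submonoid.powers (f * g))) (f * g)) :=
    IsLocalization.map_units _ (⟨f * g, Submonoid.mem_powers _⟩ : Submonoid.powers (f * g))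
  rw [map_mul] at h1
  rw [map_pow]
  exact (isUnit_of_mul_isUnit_left h1).pow k

lemma isUnit_algebraMap_of_mem_powers_right (f g s : A) (hs : s ∈ Submonoid.powers g) :
    IsUnit (algebraMap A (Localization (Submonoid.powers (f * g))) s) := by
  obtain ⟨k, rfl⟩ := hs
  have h1 : IsUnit (algebraMap A (Localization (Submonoid.powers (f * g))) (f * g)) :=
    IsLocalization.map_units _ (⟨f * g, Submonoid.mem_powers _⟩ : Submonoid.powers (f * g))
  rw [map_mul] at h1
  rw [map_pow]
  exact (isUnit_of_mul_isUnit_right h1).pow k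

/-- The iterated coinduction is `fg`-local. -/
theorem exists_iso_restrictD_RR_RR (f g : A) (K : Dual.D A) :
    ∃ X'' : Dual.D (Localization.Away (f * g)), Nonempty ((RR f).obj ((RR g).obj K) ≅
      (DRing.restrictD (algebraMap A (Localization.Away (f * g)))).obj X'') := by
  obtain ⟨J₀, ι, hJ₀, hι⟩ := (hasKInjRes (A := A)) (DerivedCategory.Q.objPreimage K)
  have hι' : IsIso (DerivedCategory.Q.map ι) := by
    rw [DerivedCategory.isIso_Q_map_iff_quasiIso]; exact hι
  let e : K ≅ DerivedCategory.Q.obj J₀ :=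
    (DerivedCategory.Q.objObjPreimageIso K).symm ≪≫ asIso (DerivedCategory.Q.map ι)
  let φf := algebraMap A (Localization.Away f)
  let φg := algebraMap A (Localization.Away g)
  let M₁ := ((ModuleCat.coextendScalars.{u, u, u} φg).mapHomologicalComplex
    (ComplexShape.up ℤ)).obj J₀
  have hM₁ : CochainComplex.IsKInjective M₁ := isKInjective_coextCx J₀
  let J₁ := ((ModuleCat.restrictScalars.{u} φg).mapHomologicalComplex (ComplexShape.up ℤ)).obj M₁
  have hJ₁ : CochainComplex.IsKInjective J₁ := isKInjective_resCx M₁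
  let M₂ := ((ModuleCat.coextendScalars.{u, u, u} φf).mapHomologicalComplex
    (ComplexShape.up ℤ)).obj J₁
  let K₀ := ((ModuleCat.restrictScalars.{u} φf).mapHomologicalComplex (ComplexShape.up ℤ)).obj M₂
  have hbij : ∀ (i : ℤ), ∀ s ∈ Submonoid.powers (f * g),
      Function.Bijective (fun x : K₀.X i => s • x) := by
    intro i s hs
    have hf : f ∈ bijSubmonoid (K₀.X i) :=
      bijective_smul_restrict (Submonoid.powers f) f (Submonoid.mem_powers f) (M₂.X i)
    have hg : g ∈ bijSubmonoid (K₀.X i) :=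
      bijective_smul_res_coext (B := Localization.Away f) g (J₁.X i)
        (bijective_smul_restrict (Submonoid.powers g) g (Submonoid.mem_powers g) (M₁.X i))
    exact (Submonoid.powers_le.2 (mul_mem hf hg)) hs
  obtain ⟨E, ⟨eE⟩⟩ := exists_iso_restrictD (Submonoid.powers (f * g)) K₀ hbij
  refine ⟨E, ⟨?_ ≪≫ eE⟩⟩
  have i1 : (Rco φg).obj K ≅ DerivedCategory.Q.obj M₁ :=
    (Rco φg).mapIso e ≪≫ (RcoIso φg J₀).symm
  have i2 : (RR g).obj K ≅ DerivedCategory.Q.obj J₁ :=
    (DRing.restrictD φg).mapIso i1 ≪≫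
      (ModuleCat.restrictScalars.{u} φg).mapDerivedCategoryFactors.app M₁
  have i3 : (Rco φf).obj ((RR g).obj K) ≅ DerivedCategory.Q.obj M₂ :=
    (Rco φf).mapIso i2 ≪≫ (RcoIso φf J₁).symm
  exact (DRing.restrictD φf).mapIso i3 ≪≫
      (ModuleCat.restrictScalars.{u} φf).mapDerivedCategoryFactors.app M₂

/-- `res RHom(A_f, res RHom(A_g, K)) ≅ res RHom(A_{fg}, K)`. -/
theorem nonempty_RR_RR_iso (f g : A) (K : Dual.D A) :
    Nonempty ((RR f).obj ((RR g).obj K) ≅ (RR (f * g)).obj K) := by
  let P : Dual.D A → Prop := fun V => ∃ V'' : Dual.D (Localization.Away (f * g)),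
    Nonempty (V ≅ (DRing.restrictD (algebraMap A (Localization.Away (f * g)))).obj V'')
  refine nonempty_iso_of_universal (cc f ((RR g).obj K) ≫ cc g K) (cc (f * g) K) P
    (exists_iso_restrictD_RR_RR f g K) ⟨_, ⟨Iso.refl _⟩⟩ ?_ ?_
  · rintro V ⟨V'', ⟨eV⟩⟩
    obtain ⟨Vf, ⟨ef⟩⟩ := exists_iso_restrictD_of_isUnit (Submonoid.powers f)
      (Submonoid.powers (f * g)) (isUnit_algebraMap_of_mem_powers_left f g) V''
    obtain ⟨Vg, ⟨eg⟩⟩ := exists_iso_restrictD_of_isUnit (Submonoid.powers g)
      (Submonoid.powers (f * g)) (isUnit_algebraMap_of_mem_powers_right f g) V''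
    have h1 := bijective_comp_counit_loc (Submonoid.powers f) V Vf (eV ≪≫ ef) ((RR g).obj K)
    have h2 := bijective_comp_counit_loc (Submonoid.powers g) V Vg (eV ≪≫ eg) K
    have := h2.comp h1
    convert this using 1
    funext u
    simp
  · rintro V ⟨V'', ⟨eV⟩⟩
    exact bijective_comp_counit_loc (Submonoid.powers (f * g)) V V'' eV K

end Groth.Agent.Lib.Helper13.Coind
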