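import Mathlib
import Groth.Agent.Lib.Helper11.PCFlatBC
import Groth.Agent.Lib.Helper13.PCMor1
import Groth.Agent.Lib.Helper13.RelPCFin
import Groth.Agent.S7068
import Groth.Agent.S9456

/-!
# Finitely presented modules flat over the base are pseudo-coherent (helper13)
-/

set_option autoImplicit false
set_option linter.unusedSectionVars false
set_option linter.unusedVariables false
set_option linter.style.haveILetI false
universe u
open CategoryTheory CategoryTheory.Limits TensorProduct

attribute [local instance] HasDerivedCategory.standard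

namespace Groth.Agent.Lib.Helper13.RP

open Groth.Agent.Lib.Helper13.DR Groth.Agent.Lib.Helper13.PC PCoh Groth.Agent.Lib.Helper11.PCFlatBC

/-- Absolute pseudo-coherence is pseudo-coherence relative to the ring itself. -/
lemma isPseudoCoherent_iff_isRelPC_self (C : Type u) [CommRing C] (m : ℤ) (L : Dual.D C) :
    DRing.IsPseudoCoherent C m L ↔ DerCA.IsRelPseudoCoherent C C m L := by
  let e : MvPolynomial (Fin 0) C ≃ₐ[C] C := MvPolynomial.isEmptyAlgEquiv C (Fin 0)
  rw [isRelPseudoCoherent_iff e.toAlgHom e.surjective m L, isPseudoCoherent_iff]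
  exact isNPC_restrictD_iff ((isPCHom_of_ringEquiv e.toRingEquiv).of_eq rfl) m L

/-- For a pseudo-coherent ring map `R → A`, pseudo-coherence over `A` is pseudo-coherence relative
to `R`. -/
lemma isPseudoCoherent_iff_isRelPC (R A : Type u) [CommRing R] [CommRing A] [Algebra R A]
    [Algebra.FiniteType R A] (hRA : MoreMor.IsPseudoCoherentHom R A) (m : ℤ) (L : Dual.D A) :
    DRing.IsPseudoCoherent A m L ↔ DerCA.IsRelPseudoCoherent R A m L := by
  rw [Groth.Agent.Lib.Helper13.PM.isPseudoCoherentHom_iff_relPC] at hRA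
  rw [isPseudoCoherent_iff_isRelPC_self A m L,
    isRelPC_iff_of_isRelPCModule (R := R) (A := A) (B := A) hRA L m]

section Final

attribute [local instance] MvPolynomial.algebraMvPolynomial

/-- Module version of `Helper11.PCFlatBC.isPseudoCoherentHom_of_model`. -/
theorem isNPC_restrict_of_model (R₀ A S₀ B : Type u) [CommRing R₀] [CommRing A] [CommRing S₀]
    [CommRing B] [Algebra R₀ A] [Algebra R₀ S₀] [Algebra S₀ B] [Algebra A B] [Algebra R₀ B]
    [IsScalarTower R₀ A B] [IsScalarTower R₀ S₀ B] [Algebra.IsPushout R₀ A S₀ B]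
    [IsNoetherianRing R₀] [Algebra.FiniteType R₀ S₀]
    (M₀ : Type u) [AddCommGroup M₀] [Module S₀ M₀] [Module R₀ M₀] [IsScalarTower R₀ S₀ M₀]
    [Module.Finite S₀ M₀] [Module.Flat R₀ M₀]
    (M : Type u) [AddCommGroup M] [Module B M] [Module S₀ M] [IsScalarTower S₀ B M]
    (f : M₀ →ₗ[S₀] M) (hf : IsBaseChange B f) :
    ∃ (n : ℕ) (φ : MvPolynomial (Fin n) A →ₐ[A] B), Function.Surjective φ ∧
      ∀ m : ℤ, IsNPC (Pff (MvPolynomial (Fin n) A)) m
        ((DerivedCategory.singleFunctor (ModuleCat.{u} (MvPolynomial (Fin n) A)) 0).obj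
          ((ModuleCat.restrictScalars.{u} (φ : MvPolynomial (Fin n) A →+* B)).obj
            (ModuleCat.of B M))) := by
  obtain ⟨n, ψ₀, hψ₀⟩ :=
    (Algebra.FiniteType.iff_quotient_mvPolynomial'' (R := R₀) (S := S₀)).1 inferInstance
  let φ : MvPolynomial (Fin n) A →ₐ[A] B :=
    MvPolynomial.aeval (fun i => algebraMap S₀ B (ψ₀ (MvPolynomial.X i)))
  have hcomp : (φ : MvPolynomial (Fin n) A →+* B).comp (MvPolynomial.map (algebraMap R₀ A)) =
      (algebraMap S₀ B).comp (ψ₀ : MvPolynomial (Fin n) R₀ →+* S₀) := by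
    apply MvPolynomial.ringHom_ext
    · intro a
      simp only [RingHom.comp_apply, MvPolynomial.map_C]
      change φ (MvPolynomial.C (algebraMap R₀ A a)) = algebraMap S₀ B (ψ₀ (MvPolynomial.C a))
      rw [← MvPolynomial.algebraMap_eq, ← MvPolynomial.algebraMap_eq, φ.commutes, ψ₀.commutes,
        ← IsScalarTower.algebraMap_apply, ← IsScalarTower.algebraMap_apply]
    · intro i
      simp only [RingHom.comp_apply, MvPolynomial.map_X]
      change φ (MvPolynomial.X i) = _
      simp [φ]
  have hφ : Function.Surjective φ := by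
    intro z
    have hz : z ∈ (φ.range : Subalgebra A B) := by
      refine (Algebra.IsPushout.out (R := R₀) (S := A) (R' := S₀) (S' := B)).inductionOn z
        (fun z => z ∈ (φ.range : Subalgebra A B)) (zero_mem _) ?_ ?_ ?_
      · intro b
        obtain ⟨p, rfl⟩ := hψ₀ b
        exact ⟨MvPolynomial.map (algebraMap R₀ A) p, RingHom.congr_fun hcomp p⟩
      · intro a y hy
        exact Subalgebra.smul_mem _ hy a
      · intro y₁ y₂ h₁ h₂
        exact add_mem h₁ h₂
    exact hz
  refine ⟨n, φ, hφ, ?_⟩
  letI : Module (MvPolynomial (Fin n) R₀) M₀ :=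
    Module.compHom M₀ (ψ₀ : MvPolynomial (Fin n) R₀ →+* S₀)
  haveI : IsScalarTower R₀ (MvPolynomial (Fin n) R₀) M₀ := ⟨fun r p m => by
    change ψ₀ (r • p) • m = r • (ψ₀ p • m)
    rw [map_smul, smul_assoc]⟩
  letI : Algebra (MvPolynomial (Fin n) R₀) S₀ := (ψ₀ : MvPolynomial (Fin n) R₀ →+* S₀).toAlgebra
  haveI : IsScalarTower (MvPolynomial (Fin n) R₀) S₀ M₀ := ⟨fun p s m => by
    change (ψ₀ p * s) • m = ψ₀ p • (s • m)
    rw [mul_smul]⟩
  haveI : Module.Finite (MvPolynomial (Fin n) R₀) S₀ :=
    Module.Finite.of_surjective (Algebra.linearMap (MvPolynomial (Fin n) R₀) S₀) hψ₀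
  haveI : Module.Finite (MvPolynomial (Fin n) R₀) M₀ :=
    Module.Finite.trans S₀ M₀
  let N : ModuleCat.{u} (MvPolynomial (Fin n) A) :=
    (ModuleCat.restrictScalars.{u} (φ : MvPolynomial (Fin n) A →+* B)).obj (ModuleCat.of B M)
  have hN : ∀ (p : MvPolynomial (Fin n) A) (x : N), p • x = (show M from (φ p • (show M from x))) :=
    fun p x => rfl
  letI : Module (MvPolynomial (Fin n) R₀) N :=
    Module.compHom N (algebraMap (MvPolynomial (Fin n) R₀) (MvPolynomial (Fin n) A))
  haveI : IsScalarTower (MvPolynomial (Fin n) R₀) (MvPolynomial (Fin n) A) N := ⟨fun p q x => by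
    change (p • q) • x = (algebraMap (MvPolynomial (Fin n) R₀) (MvPolynomial (Fin n) A) p) • (q • x)
    rw [Algebra.smul_def, mul_smul]⟩
  let f' : M₀ →ₗ[MvPolynomial (Fin n) R₀] N :=
    { toFun := fun m => (show N from f m)
      map_add' := f.map_add
      map_smul' := fun p m => by
        change (show M from f (ψ₀ p • m)) = (show M from
          (φ (algebraMap (MvPolynomial (Fin n) R₀) (MvPolynomial (Fin n) A) p)) • (show M from f m))
        rw [f.map_smul]
        have h1 : φ (algebraMap (MvPolynomial (Fin n) R₀) (MvPolynomial (Fin n) A) p) =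
            algebraMap S₀ B (ψ₀ p) := RingHom.congr_fun hcomp p
        rw [h1, algebraMap_smul] }
  let g : MvPolynomial (Fin n) A ⊗[MvPolynomial (Fin n) R₀] M₀ →ₗ[MvPolynomial (Fin n) A] N :=
    LinearMap.liftBaseChange (MvPolynomial (Fin n) A) f'
  let c₁ := Algebra.IsPushout.cancelBaseChange R₀ A (MvPolynomial (Fin n) R₀)
    (MvPolynomial (Fin n) A) M₀
  let c₂ := Algebra.IsPushout.cancelBaseChange R₀ A S₀ B M₀
  have key : ∀ x, (show M from g (c₁.symm x)) = hf.equiv (c₂.symm x) := by
    intro x
    induction x with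
    | zero =>
      rw [map_zero, map_zero, map_zero, map_zero]
      rfl
    | add x y hx hy =>
      rw [map_add, map_add, map_add, map_add]
      exact congrArg₂ (· + ·) hx hy
    | tmul a m =>
      simp only [c₁, c₂, Algebra.IsPushout.cancelBaseChange_symm_tmul, g,
        LinearMap.liftBaseChange_tmul, IsBaseChange.equiv_tmul]
      change (show M from (φ (algebraMap A (MvPolynomial (Fin n) A) a)) • (show M from f m))
        = algebraMap A B a • f m
      rw [φ.commutes a]
  have hg : Function.Bijective g := by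
    have : (g : _ → N) = (fun y : M => (show N from y)) ∘ (hf.equiv ∘ c₂.symm) ∘ c₁ := by
      funext x
      obtain ⟨y, rfl⟩ := c₁.symm.surjective x
      simp only [Function.comp_apply, LinearEquiv.apply_symm_apply]
      exact key y
    rw [this]
    exact Function.bijective_id.comp
      ((hf.equiv.bijective.comp c₂.symm.bijective).comp c₁.bijective)
  let eqv : (MvPolynomial (Fin n) A ⊗[MvPolynomial (Fin n) R₀] M₀) ≃ₗ[MvPolynomial (Fin n) A] N :=
    LinearEquiv.ofBijective g hg
  haveI : IsNoetherianRing (MvPolynomial (Fin n) R₀) := inferInstance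
  haveI : Module.Flat R₀ (MvPolynomial (Fin n) R₀) := inferInstance
  intro m
  exact (isNPC_tensor R₀ A (MvPolynomial (Fin n) R₀) (MvPolynomial (Fin n) A) (1 - m).toNat m
    (by lia) M₀).of_iso ((DerivedCategory.singleFunctor (ModuleCat.{u} (MvPolynomial (Fin n) A)) 0).mapIso
      (LinearEquiv.toModuleIso eqv))

end Final

end Groth.Agent.Lib.Helper13.RP
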