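import Groth.Agent.Lib.Helper13.TensorTerms
import Groth.Agent.Lib.Helper13.TorDim2
import Groth.Agent.Lib.Helper13.DRingTor5

set_option autoImplicit false
universe u
open CategoryTheory CategoryTheory.Limits MonoidalCategory Pretriangulated

namespace Groth.Agent.Lib.Helper13.DV

open Groth.Agent.Lib.Helper13.DR Groth.Agent.Lib.Helper13.PC Groth.Agent.Lib.Helper13.TB PCoh

attribute [local instance] HasDerivedCategory.standard

section

variable {A : Type u} [CommRing A]

lemma isPseudoCoherent'_of_iso {K L : Dual.D A} (e : K ≅ L) (h : DRing.IsPseudoCoherent' A K) :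
    DRing.IsPseudoCoherent' A L :=
  (isPseudoCoherent'_iff L).2 (isPC_of_iso ((isPseudoCoherent'_iff K).1 h) e)

open ZeroObject in
lemma isPseudoCoherent'_zero {Z : Dual.D A} (hZ : IsZero Z) : DRing.IsPseudoCoherent' A Z := by
  refine ⟨(0 : DRing.Cx A), 0, fun i _ => (HomologicalComplex.eval _ _ i).map_isZero (isZero_zero _),
    fun i => ?_, ⟨((DerivedCategory.Q (C := ModuleCat.{u} A)).map_isZero (isZero_zero _)).iso hZ⟩⟩
  have hz : IsZero ((0 : DRing.Cx A).X i) := (HomologicalComplex.eval _ _ i).map_isZero (isZero_zero _)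
  have := ModuleCat.subsingleton_of_isZero hz
  exact ⟨inferInstance, inferInstance⟩

lemma isPseudoCoherent'_shift {K : Dual.D A} (h : DRing.IsPseudoCoherent' A K) (m : ℤ) :
    DRing.IsPseudoCoherent' A ((CategoryTheory.shiftFunctor (Dual.D A) m).obj K) := by
  rw [isPseudoCoherent'_iff] at h ⊢
  intro n
  have := IsNPC.shift (P := Pff A) (h (n + m)) m
  rwa [show n + m - m = n by ring] at this

lemma isPseudoCoherent'_obj₂ (T : Triangle (Dual.D A)) (hT : T ∈ distTriang _)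
    (h₁ : DRing.IsPseudoCoherent' A T.obj₁) (h₃ : DRing.IsPseudoCoherent' A T.obj₃) :
    DRing.IsPseudoCoherent' A T.obj₂ := by
  rw [isPseudoCoherent'_iff] at h₁ h₃ ⊢
  intro n
  exact isNPC_obj₂ Pff_prod hqs_Pff hql_Pff T hT (h₁ n) (h₃ n)

lemma isPseudoCoherent'_of_biprod (X Y : Dual.D A) (h : DRing.IsPseudoCoherent' A (X ⊞ Y)) :
    DRing.IsPseudoCoherent' A X ∧ DRing.IsPseudoCoherent' A Y := by
  rw [isPseudoCoherent'_iff] at h
  rw [isPseudoCoherent'_iff, isPseudoCoherent'_iff]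
  have key := fun n => isNPC_of_isBilimit Pff_prod hqs_Pff hql_Pff (BinaryBiproduct.bicone X Y)
    (BinaryBiproduct.isBilimit X Y) (h n)
  exact ⟨fun n => (key n).1, fun n => (key n).2⟩

end

section Rel

variable (R A : Type u) [CommRing R] [CommRing A] [Algebra R A]

lemma isRelPerfect_of_iso {K L : Dual.D A} (e : K ≅ L) (h : Dual2.IsRelPerfect R A K) :
    Dual2.IsRelPerfect R A L :=
  ⟨isPseudoCoherent'_of_iso e h.1,
    hasFiniteTorDimCx_of_iso ((DRing.restrictD (algebraMap R A)).mapIso e) h.2⟩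

lemma isRelPerfect_of_isZero {Z : Dual.D A} (hZ : IsZero Z) : Dual2.IsRelPerfect R A Z :=
  ⟨isPseudoCoherent'_zero hZ, 0, 0,
    hasTorAmplitudeIn_of_isZero ((DRing.restrictD (algebraMap R A)).map_isZero hZ) 0 0⟩

lemma isRelPerfect_shift {K : Dual.D A} (h : Dual2.IsRelPerfect R A K) (m : ℤ) :
    Dual2.IsRelPerfect R A ((CategoryTheory.shiftFunctor (Dual.D A) m).obj K) := by
  obtain ⟨h1, a, b, h2⟩ := h
  refine ⟨isPseudoCoherent'_shift h1 m, a - m, b - m, ?_⟩
  exact hasTorAmplitudeIn_of_iso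
    (((DRing.restrictD (algebraMap R A)).commShiftIso m).app K).symm
    (hasTorAmplitudeIn_shift h2 m)

lemma isRelPerfect_obj₂ (T : Triangle (Dual.D A)) (hT : T ∈ distTriang _)
    (h₁ : Dual2.IsRelPerfect R A T.obj₁) (h₃ : Dual2.IsRelPerfect R A T.obj₃) :
    Dual2.IsRelPerfect R A T.obj₂ := by
  obtain ⟨p₁, a₁, b₁, t₁⟩ := h₁
  obtain ⟨p₃, a₃, b₃, t₃⟩ := h₃
  refine ⟨isPseudoCoherent'_obj₂ T hT p₁ p₃, min a₁ a₃, max b₁ b₃, ?_⟩
  have hT' := (DRing.restrictD (algebraMap R A)).map_distinguished T hT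
  exact hasTorAmplitudeIn_obj₂ _ hT' _ _
    (hasTorAmplitudeIn_mono (K := (DRing.restrictD (algebraMap R A)).obj T.obj₁)
      (min_le_left _ _) (le_max_left _ _) t₁)
    (hasTorAmplitudeIn_mono (K := (DRing.restrictD (algebraMap R A)).obj T.obj₃)
      (min_le_right _ _) (le_max_right _ _) t₃)

lemma isRelPerfect_of_biprod (X Y : Dual.D A) (h : Dual2.IsRelPerfect R A (X ⊞ Y)) :
    Dual2.IsRelPerfect R A X ∧ Dual2.IsRelPerfect R A Y := by
  obtain ⟨p, a, b, t⟩ := h
  obtain ⟨pX, pY⟩ := isPseudoCoherent'_of_biprod X Y p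
  have := preservesBinaryBiproducts_of_preservesBiproducts (DRing.restrictD (algebraMap R A))
  have t' := hasTorAmplitudeIn_of_iso ((DRing.restrictD (algebraMap R A)).mapBiprod X Y) t
  exact ⟨⟨pX, a, b, hasTorAmplitudeIn_of_biprod_left t'⟩,
    ⟨pY, a, b, hasTorAmplitudeIn_of_biprod_right t'⟩⟩

theorem isRelPerfect_isTriangulated_and_saturated :
    ObjectProperty.IsTriangulated (C := Dual.D A) (fun K => Dual2.IsRelPerfect R A K) ∧
      ObjectProperty.IsClosedUnderIsomorphisms (C := Dual.D A)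
        (fun K => Dual2.IsRelPerfect R A K) ∧
      ∀ X Y : Dual.D A, Dual2.IsRelPerfect R A (X ⊞ Y) →
        Dual2.IsRelPerfect R A X ∧ Dual2.IsRelPerfect R A Y := by
  refine ⟨?_, ?_, isRelPerfect_of_biprod R A⟩
  · have h0 : ObjectProperty.ContainsZero (fun K : Dual.D A => Dual2.IsRelPerfect R A K) :=
      ⟨⟨_, isZero_zero _, isRelPerfect_of_isZero R A (isZero_zero _)⟩⟩
    have hs : ObjectProperty.IsStableUnderShift
        (fun K : Dual.D A => Dual2.IsRelPerfect R A K) ℤ :=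
      { isStableUnderShiftBy := fun a => ⟨fun X hX => isRelPerfect_shift R A hX a⟩ }
    have ht : ObjectProperty.IsTriangulatedClosed₂
        (fun K : Dual.D A => Dual2.IsRelPerfect R A K) :=
      ⟨fun T hT h₁ h₃ => ObjectProperty.le_isoClosure _ _ (isRelPerfect_obj₂ R A T hT h₁ h₃)⟩
    exact { }
  · exact ⟨fun e hX => isRelPerfect_of_iso R A e hX⟩

end Rel

end Groth.Agent.Lib.Helper13.DV
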