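import Mathlib
import Groth.Agent.Lib.Helper13.RP1
import Groth.Agent.Lib.Helper13.RelPerfTri
import Groth.Agent.Lib.Helper13.RelPerf2
import Groth.Agent.Lib.Helper13.DRingTor3
import Groth.Agent.Lib.Helper13.PCTruncProp

/-!
# Relatively perfect complexes over flat finitely presented algebras (helper13)
-/

set_option autoImplicit false
set_option linter.unusedSectionVars false
set_option linter.unusedVariables false
set_option linter.style.haveILetI false
set_option maxHeartbeats 1600000
universe u
open CategoryTheory CategoryTheory.Limits TensorProduct MonoidalCategory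

attribute [local instance] HasDerivedCategory.standard

namespace Groth.Agent.Lib.Helper13.RP

open Groth.Agent.Lib.Helper13.DR Groth.Agent.Lib.Helper13.PC PCoh DerivedCategory

variable (R A : Type u) [CommRing R] [CommRing A] [Algebra R A]

/-- A finitely presented `A`-module which is flat over `R` is a pseudo-coherent `A`-module, when
`R → A` is flat of finite presentation. -/
theorem isPseudoCoherent'_inD_of_fp_flat [Module.Flat R A] [Algebra.FinitePresentation R A]
    (M : Type u) [AddCommGroup M] [Module A M]
    [Module R M] [IsScalarTower R A M] [Module.FinitePresentation A M] [Module.Flat R M] :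
    DRing.IsPseudoCoherent' A (Dual.inD A M) := by
  obtain ⟨R₀, _, _, S₀, _, _, _, _, _, _, M₀, _, _, _, _, _, _, f, hR₀, hS₀, hM₀, hfl, hpo, hf⟩ :=
    Groth.Agent.S9456.result R A M
  haveI : IsNoetherianRing R₀ := Algebra.FiniteType.isNoetherianRing ℤ R₀
  obtain ⟨n, φ, hφ, h⟩ := isNPC_restrict_of_model R₀ R S₀ A M₀ M f hf
  rw [isPseudoCoherent'_iff_forall]
  intro m
  have h1 := isPseudoCoherent_iff_isRelPC R A (Groth.Agent.S7068.result R A).1 m (Dual.inD A M)
  have h2 := isRelPseudoCoherent_iff φ hφ m (Dual.inD A M)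
  rw [h1, h2]
  exact (h m).of_iso
    (restrictDSingleIso (φ : MvPolynomial (Fin n) R →+* A) (ModuleCat.of A M)).symm

/-- The property of `A`-modules: finitely presented over `A` and flat over `R`. -/
def Pfpfl : ObjectProperty (ModuleCat.{u} A) := fun M =>
  Module.FinitePresentation A M ∧
    Module.Flat R ((ModuleCat.restrictScalars.{u} (algebraMap R A)).obj M)

instance : (Pfpfl R A).IsClosedUnderIsomorphisms where
  of_iso {X Y} e h := by
    obtain ⟨h1, h2⟩ := h
    refine ⟨Module.FinitePresentation.of_equiv e.toLinearEquiv, ?_⟩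
    exact Module.Flat.of_linearEquiv
      ((ModuleCat.restrictScalars.{u} (algebraMap R A)).mapIso e).toLinearEquiv.symm

instance : (Pfpfl R A).ContainsZero where
  exists_zero := by
    refine ⟨ModuleCat.of A PUnit.{u + 1}, ModuleCat.isZero_of_subsingleton _, ?_, ?_⟩
    · change Module.FinitePresentation A PUnit.{u + 1}
      infer_instance
    · have : Subsingleton ((ModuleCat.restrictScalars.{u} (algebraMap R A)).obj
          (ModuleCat.of A PUnit.{u + 1})) := (inferInstance : Subsingleton PUnit.{u + 1})
      infer_instance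

variable {R A}

lemma isPseudoCoherent'_single_of_Pfpfl [Module.Flat R A] [Algebra.FinitePresentation R A]
    (M : ModuleCat.{u} A) (h : Pfpfl R A M) :
    DRing.IsPseudoCoherent' A ((DerivedCategory.singleFunctor (ModuleCat.{u} A) 0).obj M) := by
  obtain ⟨h1, h2⟩ := h
  letI : Module R M := Module.compHom M (algebraMap R A)
  haveI : IsScalarTower R A M := ⟨fun r a m => by
    change (r • a) • m = algebraMap R A r • (a • m)
    rw [Algebra.smul_def, mul_smul]⟩
  haveI : Module.Flat R M := h2
  exact isPseudoCoherent'_inD_of_fp_flat R A M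

/-- A bounded complex of finitely presented `A`-modules flat over `R` is `R`-perfect. -/
theorem isRelPerfect_of_Pfpfl [Module.Flat R A] [Algebra.FinitePresentation R A]
    (E : DRing.Cx A) (a b : ℤ) (hv : DRing.VanishesOutside E a b) (hE : ∀ i, Pfpfl R A (E.X i)) :
    Dual2.IsRelPerfect R A (Q.obj E) := by
  constructor
  · rw [isPseudoCoherent'_iff]
    intro n
    exact isNPC_of_termwise Pff_prod hqs_Pff hql_Pff E b (fun i hi => hv i (Or.inr hi))
      (fun i _ => (isPseudoCoherent'_iff _).1 (isPseudoCoherent'_single_of_Pfpfl _ (hE i)) (n - i))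
  · exact ⟨a, b, (DRing.restrictCx (algebraMap R A)).obj E,
      fun i hi => (ModuleCat.restrictScalars.{u} (algebraMap R A)).map_isZero (hv i hi),
      fun i => (hE i).2, ⟨(restrictDQIso (algebraMap R A) E).symm⟩⟩

/-- The restriction of opcycles. -/
noncomputable def restrictCxOpcyclesIso (F : DRing.Cx A) (i : ℤ) :
    ((DRing.restrictCx (algebraMap R A)).obj F).opcycles i ≅
      (ModuleCat.restrictScalars.{u} (algebraMap R A)).obj (F.opcycles i) :=
  (F.sc i).mapOpcyclesIso (ModuleCat.restrictScalars.{u} (algebraMap R A))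

lemma finitePresentation_opcycles (F : DRing.Cx A) (i : ℤ)
    (h : Module.FinitePresentation A (F.X i))
    (h' : Module.Finite A (F.X ((ComplexShape.up ℤ).prev i))) :
    Module.FinitePresentation A (F.opcycles i) := by
  let e := (F.sc i).moduleCatOpcyclesIso
  have h1 : Module.FinitePresentation A ((F.sc i).X₂ ⧸ LinearMap.range (F.sc i).f.hom) := by
    haveI : Module.FinitePresentation A (F.sc i).X₂ := h
    refine Module.finitePresentation_of_surjective (Submodule.mkQ _)
      (Submodule.mkQ_surjective _) ?_
    rw [Submodule.ker_mkQ]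
    haveI : Module.Finite A (F.sc i).X₁ := h'
    rw [LinearMap.range_eq_map]
    exact Submodule.FG.map _ Module.Finite.fg_top
  exact Module.FinitePresentation.of_equiv e.toLinearEquiv.symm

/-- An `R`-perfect object is represented by a bounded complex of finitely presented `A`-modules flat
over `R`. -/
theorem exists_Pfpfl_of_isRelPerfect [Module.Flat R A] (K : Dual.D A)
    (hK : Dual2.IsRelPerfect R A K) :
    ∃ (E : DRing.Cx A) (a b : ℤ), DRing.VanishesOutside E a b ∧ (∀ i, Pfpfl R A (E.X i)) ∧
      Nonempty (Q.obj E ≅ K) := by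
  obtain ⟨⟨F, c, hc, hff, ⟨e⟩⟩, a, b, htor⟩ := hK
  let C := (DRing.restrictCx (algebraMap R A)).obj F
  have hCz : ∀ i : ℤ, c < i → IsZero (C.X i) := fun i hi =>
    (ModuleCat.restrictScalars.{u} (algebraMap R A)).map_isZero (hc i hi)
  have hCfl : ∀ i : ℤ, Module.Flat R (C.X i) := fun i => by
    haveI := (hff i).2
    haveI : Module.Flat A (F.X i) := inferInstance
    exact Groth.Agent.Lib.Helper13.DV.flat_restrictScalars R A (F.X i)
  have eC : Q.obj C ≅ (DRing.restrictD (algebraMap R A)).obj K :=
    (restrictDQIso (algebraMap R A) F).symm ≪≫ (DRing.restrictD (algebraMap R A)).mapIso e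
  have hten : ∀ (N : ModuleCat.{u} R) (i : ℤ), i < a ∨ b < i →
      IsZero (((tensorCx N).obj C).homology i) := fun N i hi =>
    tensor_vanishing_of_hasTorAmplitudeIn htor C c hCz hCfl eC N i hi
  have hCH : ∀ i : ℤ, i < a → IsZero (C.homology i) := fun i hi =>
    (hten (𝟙_ _) i (Or.inl hi)).of_iso
      ((HomologicalComplex.homologyFunctor _ _ i).mapIso (tensorCxUnitIso C).symm)
  have hFH : ∀ i : ℤ, i < a → IsZero (F.homology i) := fun i hi =>
    isZero_of_isZero_restrictScalars (algebraMap R A) _
      ((hCH i hi).of_iso (restrictCxHomologyIso (algebraMap R A) F i).symm)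
  have hop : Pfl R (C.opcycles a) :=
    flat_opcycles_of_tensor_exact C a (hCfl a)
      (by rw [HomologicalComplex.exactAt_iff_isZero_homology]; exact hCH _ (by lia))
      (fun N => by
        rw [HomologicalComplex.exactAt_iff_isZero_homology]; exact hten N _ (Or.inl (by lia)))
  have hFP : ∀ i : ℤ, Pfpfl R A (F.X i) := fun i => by
    haveI := (hff i).1
    haveI := (hff i).2
    exact ⟨Module.finitePresentation_of_projective A (F.X i), hCfl i⟩
  have hopF : Pfpfl R A (F.opcycles a) := by
    refine ⟨finitePresentation_opcycles F a (hFP a).1 ((hff _).1), ?_⟩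
    exact (Pfl R).prop_of_iso (restrictCxOpcyclesIso F a) hop
  obtain ⟨E, g, hqg, hzE, hPE⟩ := exists_truncGE_of_prop (Pfpfl R A) F a c hc hFP hFH hopF
  have : IsIso (Q.map g) := by rw [isIso_Q_map_iff_quasiIso]; exact hqg
  exact ⟨E, a, c, hzE, hPE, ⟨(asIso (Q.map g)).symm ≪≫ e⟩⟩

end Groth.Agent.Lib.Helper13.RP
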