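import Groth.Agent.Lib.Helper13.RelDual1
import Groth.Agent.Lib.Helper13.HomDual2
import Groth.Agent.Lib.Helper13.HomBC6

/-!
# Endomorphisms of `RHom_P(A, P)` for a perfect quotient `A` of `P`
-/

set_option autoImplicit false
universe u
open CategoryTheory CategoryTheory.Limits

namespace Groth.Agent.Lib.Helper13.RcoEnd

open Groth.Agent.Lib.Helper13.BD Groth.Agent.Lib.Helper13.DR Groth.Agent.Lib.Helper13.PC
  Groth.Agent.Lib.Helper13.Coind Groth.Agent.Lib.Helper13.Shriek Groth.Agent.Lib.Helper13.HDual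
  Groth.Agent.Lib.Helper13.RelDual Groth.Agent.Lib.Helper13.HomBC
open DerivedCategory

attribute [local instance] HasDerivedCategory.standard

/-- Ring trick: a module with a bilinear unital product which is free of rank one is generated
by the unit. -/
lemma bijective_smul_unit_of_linearEquiv {A M : Type*} [CommRing A] [AddCommGroup M] [Module A M]
    (mul : M → M → M) (u : M)
    (mul_smul_right : ∀ (a : A) (x y : M), mul x (a • y) = a • mul x y)
    (mul_unit : ∀ x, mul x u = x)
    (Φ : M ≃ₗ[A] A) : Function.Bijective (fun a : A => a • u) := by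
  set e := Φ.symm 1 with he0
  have he : ∀ x : M, x = Φ x • e := fun x => by
    apply Φ.injective
    rw [map_smul, he0, LinearEquiv.apply_symm_apply, smul_eq_mul, mul_one]
  set c := Φ u with hc
  set d := Φ (mul e e) with hd
  have h1 : e = (c * d) • e := by
    calc e = mul e u := (mul_unit e).symm
      _ = mul e (c • e) := by rw [← he u]
      _ = c • mul e e := mul_smul_right _ _ _
      _ = c • (d • e) := by rw [← he (mul e e)]
      _ = (c * d) • e := by rw [smul_smul]
  have h2 : c * d = 1 := by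
    have := congrArg Φ h1
    rw [map_smul, he0, LinearEquiv.apply_symm_apply, smul_eq_mul, mul_one] at this
    exact this.symm
  constructor
  · intro a b hab
    have h3 : a * c = b * c := by
      have := congrArg Φ hab
      simpa only [map_smul, smul_eq_mul] using this
    calc a = (a * c) * d := by rw [mul_assoc, h2, mul_one]
      _ = (b * c) * d := by rw [h3]
      _ = b := by rw [mul_assoc, h2, mul_one]
  · intro x
    refine ⟨Φ x * d, ?_⟩
    apply Φ.injective
    change Φ ((Φ x * d) • u) = Φ x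
    rw [map_smul, smul_eq_mul, mul_assoc, mul_comm d, h2, mul_one]

variable (P A : Type u) [CommRing P] [CommRing A] [Algebra P A]

/-- `RHom_P(A, P)` restricted to `P` is the dual of a finite projective resolution of `A`. -/
theorem exists_dual_iso_res_Rco (h : DRing.IsPerfectModule P A) :
    ∃ (F : DRing.Cx P) (a b : ℤ), DRing.VanishesOutside F a b ∧
      DRing.TermwiseFiniteProjective F ∧ Nonempty (DRing.toD F ≅ Dual.inD P A) ∧
      Nonempty (Q.obj (DRing.homCx F (VA P)) ≅ (DRing.restrictD (algebraMap P A)).obj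
        ((Rco (algebraMap P A)).obj (Dual.inD P P))) := by
  obtain ⟨E, a, b, hv, hfp, ⟨e⟩⟩ := h
  have : E.IsKProjective := isKProjective_of_perfect E a b hv hfp
  let e' : DRing.toD (singleB P A) ≅ DRing.toD E :=
    ((DerivedCategory.singleFunctorIsoCompQ (ModuleCat.{u} P) 0).app (ModuleCat.of P A)).symm ≪≫
      e.symm
  obtain ⟨i1⟩ := nonempty_RHomCx_iso_homCx_of_iso (singleB P A) E e' (VA P)
  obtain ⟨i2⟩ := nonempty_RHomCx_singleB_iso P A (DRing.toD (VA P))
  let i3 : DRing.toD (VA P) ≅ Dual.inD P P :=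
    ((DerivedCategory.singleFunctorIsoCompQ (ModuleCat.{u} P) 0).app (ModuleCat.of P P)).symm
  exact ⟨E, a, b, hv, hfp, ⟨e⟩,
    ⟨i1.symm ≪≫ i2 ≪≫ (DRing.restrictD (algebraMap P A)).mapIso
      ((Rco (algebraMap P A)).mapIso i3)⟩⟩

/-- `Hom_{D(P)}(RHom_P(A, P), P⟦i⟧) ≃ H^i(A[0])`. -/
theorem nonempty_hom_res_Rco_equiv (h : DRing.IsPerfectModule P A) (i : ℤ) :
    Nonempty (((DRing.restrictD (algebraMap P A)).obj
        ((Rco (algebraMap P A)).obj (Dual.inD P P)) ⟶ (Dual.inD P P)⟦i⟧) ≃ₗ[P]
      Dual.HD P (Dual.inD P A) i) := by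
  obtain ⟨F, a, b, hv, hfp, ⟨e⟩, ⟨iE⟩⟩ := exists_dual_iso_res_Rco P A h
  have hG : (DRing.homCx F (VA P)).IsKProjective :=
    isKProjective_of_perfect _ (-b) (-a) (vanishesOutside_dual F a b hv)
      (termwiseFiniteProjective_dual F hfp)
  exact ⟨Linear.homCongr P iE.symm (Iso.refl _) ≪≫ₗ dualHomEquiv F hfp i ≪≫ₗ
    (homologyQIso F i).symm.toLinearEquiv ≪≫ₗ
    ((DerivedCategory.homologyFunctor (ModuleCat.{u} P) i).mapIso e).toLinearEquiv⟩

/-- `RHom_P(A, P)` has no self-maps of nonzero degree. -/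
theorem subsingleton_hom_shift (h : DRing.IsPerfectModule P A) (i : ℤ) (hi : i ≠ 0) :
    Subsingleton ((Rco (algebraMap P A)).obj (Dual.inD P P) ⟶
      ((Rco (algebraMap P A)).obj (Dual.inD P P))⟦i⟧) := by
  obtain ⟨L⟩ := nonempty_hom_res_Rco_equiv P A h i
  have hz : IsZero ((DerivedCategory.homologyFunctor (ModuleCat.{u} P) i).obj (Dual.inD P A)) :=
    PC.isZero_homology_single 0 i hi _
  have s0 : Subsingleton (Dual.HD P (Dual.inD P A) i) := ModuleCat.subsingleton_of_isZero hz
  have s1 := L.toEquiv.subsingleton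
  have s2 := ((Coind.adj (algebraMap P A)).homEquiv ((Rco (algebraMap P A)).obj (Dual.inD P P))
    ((Dual.inD P P)⟦i⟧)).symm.subsingleton
  exact (Iso.homCongr (Iso.refl ((Rco (algebraMap P A)).obj (Dual.inD P P)))
    (RcoShift (algebraMap P A) i (Dual.inD P P)).symm).subsingleton

/-- `A → End(RHom_P(A, P))` is bijective. -/
theorem bijective_smul_id (hs : Function.Surjective (algebraMap P A))
    (h : DRing.IsPerfectModule P A) :
    Function.Bijective (fun a : A => a • 𝟙 ((Rco (algebraMap P A)).obj (Dual.inD P P))) := by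
  obtain ⟨L⟩ := nonempty_hom_res_Rco_equiv P A h 0
  let ω := (Rco (algebraMap P A)).obj (Dual.inD P P)
  let L' : ((DRing.restrictD (algebraMap P A)).obj ω ⟶ Dual.inD P P) ≃ₗ[P] A :=
    Linear.homCongr P (Iso.refl _) ((shiftFunctorZero (Dual.D P) ℤ).app (Dual.inD P P)).symm ≪≫ₗ
      L ≪≫ₗ (homologySingleIso 0 (ModuleCat.of P A)).toLinearEquiv
  let T := (Coind.adj (algebraMap P A)).homAddEquiv ω (Dual.inD P P)
  have hT : ∀ (p : P) (f : ω ⟶ ω), T.symm (algebraMap P A p • f) = p • T.symm f := by
    intro p f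
    apply T.injective
    rw [AddEquiv.apply_symm_apply]
    have := adj_homEquiv_smul ω (Dual.inD P P) p (T.symm f)
    change T (p • T.symm f) = algebraMap P A p • T (T.symm f) at this
    rw [this, AddEquiv.apply_symm_apply]
  let Φ : (ω ⟶ ω) ≃ₗ[A] A :=
    { toFun := fun f => L' (T.symm f)
      map_add' := fun f g => by rw [map_add, map_add]
      map_smul' := fun a f => by
        obtain ⟨p, rfl⟩ := hs a
        rw [hT, map_smul, RingHom.id_apply, Algebra.smul_def, smul_eq_mul]
      invFun := fun x => T (L'.symm x)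
      left_inv := fun f => by simp
      right_inv := fun x => by simp }
  exact bijective_smul_unit_of_linearEquiv (fun f g => f ≫ g) (𝟙 ω)
    (fun a f g => Linear.comp_smul _ _ _ f a g) (fun f => Category.comp_id f) Φ

end Groth.Agent.Lib.Helper13.RcoEnd
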