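import Groth.Agent.Lib.Helper13.PCHomotopy
import Mathlib.CategoryTheory.Abelian.Projective.Dimension

set_option autoImplicit false
universe w v u
open CategoryTheory CategoryTheory.Limits

namespace Groth.Agent.Lib.Helper13.RP

open Groth.Agent.Lib.Helper13.PC HomologicalComplex

variable {C : Type u} [Category.{v} C] [Abelian C]

lemma fromOpcycles_pOpcycles (P : CochainComplex C ℤ) (i j : ℤ) :
    P.fromOpcycles i j ≫ P.pOpcycles j = 0 := by
  rw [← cancel_epi (P.pOpcycles i), p_fromOpcycles_assoc, d_pOpcycles, comp_zero]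

set_option backward.defeqAttrib.useBackward true in
set_option backward.isDefEq.respectTransparency false in
/-- The short exact sequence `0 → Z^i → P^j → Z^j → 0` of opcycles when `H^i(P) = 0`. -/
lemma shortExact_opcycles (P : CochainComplex C ℤ) (i j : ℤ) (hij : i + 1 = j)
    (h : IsZero (P.homology i)) :
    (ShortComplex.mk (P.fromOpcycles i j) (P.pOpcycles j)
      (fromOpcycles_pOpcycles P i j)).ShortExact := by
  have hmono : Mono (P.fromOpcycles i j) := mono_fromOpcycles_of_isZero_homology P i j hij h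
  have h1 : (ShortComplex.mk (P.d i j) (P.pOpcycles j) (P.d_pOpcycles i j)).Exact :=
    ShortComplex.exact_of_g_is_cokernel _ (P.opcyclesIsCokernel i j (by simp [← hij]))
  let φ : ShortComplex.mk (P.d i j) (P.pOpcycles j) (P.d_pOpcycles i j) ⟶
      ShortComplex.mk (P.fromOpcycles i j) (P.pOpcycles j) (fromOpcycles_pOpcycles P i j) :=
    { τ₁ := P.pOpcycles i
      τ₂ := 𝟙 _
      τ₃ := 𝟙 _
      comm₁₂ := by dsimp; simp
      comm₂₃ := by dsimp; simp }
  have : Epi φ.τ₁ := by dsimp [φ]; infer_instance
  have : IsIso φ.τ₂ := by dsimp [φ]; infer_instance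
  have : Mono φ.τ₃ := by dsimp [φ]; infer_instance
  have h2 := (ShortComplex.exact_iff_of_epi_of_isIso_of_mono φ).1 h1
  exact { exact := h2, mono_f := hmono, epi_g := by dsimp; infer_instance }

/-- Syzygies: if `P` is termwise projective, acyclic below `a`, and `Z^a` has projective dimension
`≤ d`, then `Z^{a-k}` has projective dimension `≤ d - k`. -/
lemma hasProjectiveDimensionLT_opcycles (P : CochainComplex C ℤ)
    (hP : ∀ i : ℤ, Projective (P.X i)) (a : ℤ) (hac : ∀ i : ℤ, i < a → IsZero (P.homology i))
    (d : ℕ) (hd : HasProjectiveDimensionLT (P.opcycles a) (d + 1)) :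
    ∀ k : ℕ, HasProjectiveDimensionLT (P.opcycles (a - k)) ((d - k) + 1) := by
  intro k
  induction k with
  | zero => simpa using hd
  | succ k ih =>
    have hS := shortExact_opcycles P (a - (k + 1 : ℕ)) (a - k) (by push_cast; ring)
      (hac _ (by push_cast; lia))
    have h2 : HasProjectiveDimensionLT (P.X (a - k)) ((d - (k + 1)) + 1) := by
      have := hP (a - k)
      exact hasProjectiveDimensionLT_of_ge _ 1 _ (by lia)
    have h3 : HasProjectiveDimensionLT (P.opcycles (a - k)) ((d - (k + 1)) + 1 + 1) :=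
      hasProjectiveDimensionLT_of_ge _ ((d - k) + 1) _ (by lia)
    exact hS.hasProjectiveDimensionLT_X₁ ((d - (k + 1)) + 1) h2 h3

lemma projective_opcycles_of_pd (P : CochainComplex C ℤ)
    (hP : ∀ i : ℤ, Projective (P.X i)) (a : ℤ) (hac : ∀ i : ℤ, i < a → IsZero (P.homology i))
    (d : ℕ) (hd : HasProjectiveDimensionLT (P.opcycles a) (d + 1)) (k : ℕ) (hk : d ≤ k) :
    Projective (P.opcycles (a - k)) := by
  have := hasProjectiveDimensionLT_opcycles P hP a hac d hd k
  rw [show d - k = 0 by lia] at this
  exact projective_iff_hasProjectiveDimensionLT_one.2 this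

end Groth.Agent.Lib.Helper13.RP
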