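import Groth.Agent.Lib.Helper13.RegPerf1
import Groth.Agent.Lib.Helper13.FibreGlDim2
import Groth.Agent.Lib.Helper13.PCTruncProp
import Mathlib.RingTheory.Spectrum.Prime.FreeLocus

set_option autoImplicit false
universe u
open CategoryTheory CategoryTheory.Limits TensorProduct

namespace Groth.Agent.Lib.Helper13.RP

open Groth.Agent.Lib.Helper13.DR Groth.Agent.Lib.Helper13.PC Groth.Agent.Lib.Helper13.DV
  DerivedCategory

attribute [local instance] HasDerivedCategory.standard

section Loc

variable (R : Type u) [CommRing R] (p : PrimeSpectrum R) (E : DRing.Cx R)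

/-- Base change to the local ring at `p` commutes with opcycles. -/
noncomputable def opcyclesLocIso (j : ℤ) :
    ((extendCx R (Localization.AtPrime p.asIdeal)).obj E).opcycles j ≅
      (ModuleCat.extendScalars.{u, u, u}
        (algebraMap R (Localization.AtPrime p.asIdeal))).obj (E.opcycles j) :=
  (E.sc j).mapOpcyclesIso
    (ModuleCat.extendScalars.{u, u, u} (algebraMap R (Localization.AtPrime p.asIdeal)))

lemma finite_opcycles (hfin : ∀ i : ℤ, Module.Finite R (E.X i)) (j : ℤ) :
    Module.Finite R (E.opcycles j) := by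
  have := hfin j
  have hs : Function.Surjective (E.pOpcycles j).hom :=
    (ModuleCat.epi_iff_surjective _).1 inferInstance
  exact Module.Finite.of_surjective (E.pOpcycles j).hom hs

lemma free_iff_projective_of_local (S : Type u) [CommRing S] [IsLocalRing S] (N : Type u)
    [AddCommGroup N] [Module S N] [Module.Finite S N] :
    Module.Free S N ↔ Module.Projective S N :=
  ⟨fun _ => Module.Projective.of_free, fun _ => Module.free_of_flat_of_isLocalRing⟩

lemma mem_freeLocus_iff_projective (Z : ModuleCat.{u} R) [Module.Finite R Z]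
    (X : ModuleCat.{u} (Localization.AtPrime p.asIdeal))
    (e : X ≅ (ModuleCat.extendScalars.{u, u, u}
        (algebraMap R (Localization.AtPrime p.asIdeal))).obj Z) :
    p ∈ Module.freeLocus R Z ↔ Projective X := by
  rw [Module.mem_freeLocus_iff_tensor p (Localization.AtPrime p.asIdeal),
    free_iff_projective_of_local, projective_iff]
  let e' := e.toLinearEquiv ≪≫ₗ extendScalarsEquiv (Localization.AtPrime p.asIdeal) Z
  exact ⟨fun h => Module.Projective.of_equiv e'.symm, fun h => Module.Projective.of_equiv e'⟩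

lemma mem_freeLocus_opcycles_iff (hfin : ∀ i : ℤ, Module.Finite R (E.X i)) (j : ℤ) :
    p ∈ Module.freeLocus R (E.opcycles j) ↔
      Projective (((extendCx R (Localization.AtPrime p.asIdeal)).obj E).opcycles j) := by
  have := finite_opcycles R E hfin j
  exact mem_freeLocus_iff_projective R p (E.opcycles j) _ (opcyclesLocIso R p E j)

end Loc

section Main

variable (R : Type u) [CommRing R] [IsNoetherianRing R]

theorem exists_projective_opcycles
    (hreg : ∀ p : PrimeSpectrum R, IsRegularLocalRing (Localization.AtPrime p.asIdeal))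
    (E : DRing.Cx R) (hff : ∀ i : ℤ, Pff R (E.X i)) (a : ℤ)
    (hac : ∀ i : ℤ, i < a → IsZero (E.homology i)) :
    ∃ k : ℕ, Projective (E.opcycles (a - k)) := by
  have hfin : ∀ i : ℤ, Module.Finite R (E.X i) := fun i => (hff i).1
  let U : ℕ → Set (PrimeSpectrum R) := fun k => Module.freeLocus R (E.opcycles (a - k))
  have hfinZ : ∀ j : ℤ, Module.Finite R (E.opcycles j) := finite_opcycles R E hfin
  have hfpZ : ∀ j : ℤ, Module.FinitePresentation R (E.opcycles j) := fun j => by
    have := hfinZ j
    exact Module.finitePresentation_of_finite R _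
  have hopen : ∀ k, IsOpen (U k) := fun k => by
    have := hfpZ (a - k)
    exact Module.isOpen_freeLocus
  have hproj : ∀ (p : PrimeSpectrum R) (i : ℤ),
      Projective (((extendCx R (Localization.AtPrime p.asIdeal)).obj E).X i) := fun p i =>
    projective_of_Pfp (Pff_le_Pfp (Pff_extendScalars (Localization.AtPrime p.asIdeal) (hff i)))
  have hacp : ∀ (p : PrimeSpectrum R) (i : ℤ), i < a →
      IsZero (((extendCx R (Localization.AtPrime p.asIdeal)).obj E).homology i) := fun p i hi =>
    IsZero.of_iso (Functor.map_isZero _ (hac i hi))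
      (DR.extendCxHomologyIso R (Localization.AtPrime p.asIdeal) E i)
  have hmono : ∀ k k' : ℕ, k ≤ k' → U k ⊆ U k' := by
    intro k k' hkk' p hp
    change p ∈ Module.freeLocus R (E.opcycles (a - k)) at hp
    change p ∈ Module.freeLocus R (E.opcycles (a - k'))
    rw [mem_freeLocus_opcycles_iff R p E hfin] at hp ⊢
    have h1 : HasProjectiveDimensionLT
        (((extendCx R (Localization.AtPrime p.asIdeal)).obj E).opcycles (a - k)) (0 + 1) :=
      projective_iff_hasProjectiveDimensionLT_one.1 hp
    have h2 := projective_opcycles_of_pd _ (hproj p) (a - k)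
      (fun i hi => hacp p i (by lia)) 0 h1 (k' - k) (Nat.zero_le _)
    rwa [show a - (k : ℤ) - ((k' - k : ℕ) : ℤ) = a - k' by
      rw [Nat.cast_sub hkk']; ring] at h2
  have hcover : (Set.univ : Set (PrimeSpectrum R)) ⊆ ⋃ k, U k := by
    intro p _
    have := hreg p
    let Rp := Localization.AtPrime p.asIdeal
    let Ep := (extendCx R Rp).obj E
    let d : ℕ := (IsLocalRing.maximalIdeal Rp).spanFinrank
    have hd : ringKrullDim Rp = d := by
      have hsf : ((IsLocalRing.maximalIdeal Rp).spanFinrank : WithBot ℕ∞) = ringKrullDim Rp :=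
        IsRegularLocalRing.spanFinrank_maximalIdeal
      rw [← hsf]
    have hfinEp : ∀ i : ℤ, Module.Finite Rp (Ep.X i) := fun i =>
      (Pff_extendScalars Rp (hff i)).1
    have := finite_opcycles Rp Ep hfinEp a
    have hpd : HasProjectiveDimensionLT (Ep.opcycles a) (d + 1) :=
      Groth.Agent.Lib.Helper4.hasProjectiveDimensionLT_of_isRegularLocalRing_of_finite Rp d hd
        (Ep.opcycles a)
    have h2 := projective_opcycles_of_pd Ep (hproj p) a (hacp p) d hpd d le_rfl
    rw [Set.mem_iUnion]
    refine ⟨d, ?_⟩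
    change p ∈ Module.freeLocus R (E.opcycles (a - d))
    rw [mem_freeLocus_opcycles_iff R p E hfin]
    exact h2
  obtain ⟨k, hk⟩ := isCompact_univ.elim_directed_cover U hopen hcover
    (Monotone.directed_le (fun k k' h => hmono k k' h))
  refine ⟨k, ?_⟩
  have := hfpZ (a - k)
  rw [projective_iff, ← Module.freeLocus_eq_univ_iff]
  exact Set.eq_univ_of_univ_subset hk

end Main

section Perf

variable (R : Type u) [CommRing R] [IsNoetherianRing R]

/-- Over a regular ring, bounded below pseudo-coherent objects are perfect. -/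
theorem isPerfect_of_regular
    (hreg : ∀ p : PrimeSpectrum R, IsRegularLocalRing (Localization.AtPrime p.asIdeal))
    (K : Dual.D R) (hpc : DRing.IsPseudoCoherent' R K) (a : ℤ)
    (hK : ∀ i : ℤ, i < a → Subsingleton (Dual.HD R K i)) : DRing.IsPerfect R K := by
  obtain ⟨E, c, hEv, hff, ⟨eE⟩⟩ := hpc
  have hac : ∀ i : ℤ, i < a → IsZero (E.homology i) := fun i hi => by
    have := hK i hi
    have hz : IsZero ((DerivedCategory.homologyFunctor (ModuleCat.{u} R) i).obj K) :=
      ModuleCat.isZero_of_subsingleton _
    exact hz.of_iso ((homologyQIso E i).symm ≪≫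
      (DerivedCategory.homologyFunctor (ModuleCat.{u} R) i).mapIso eE)
  obtain ⟨k, hproj⟩ := exists_projective_opcycles R hreg E hff a hac
  have hfin : ∀ i : ℤ, Module.Finite R (E.X i) := fun i => (hff i).1
  have hop : Pfp R (E.opcycles (a - k)) :=
    ⟨finite_opcycles R E hfin _, (projective_iff _).1 hproj⟩
  obtain ⟨E', f, hf, hv, hP⟩ := exists_truncGE_of_prop (Pfp R) E (a - k) c hEv
    (fun i => Pff_le_Pfp (hff i)) (fun i hi => hac i (by lia)) hop
  have : IsIso (Q.map f) := by rw [isIso_Q_map_iff_quasiIso]; exact hf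
  exact ⟨E', a - k, c, hv, hP, ⟨(asIso (Q.map f)).symm ≪≫ eE⟩⟩

end Perf

end Groth.Agent.Lib.Helper13.RP
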