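import Groth.Agent.Lib.Helper13.RelDual1

/-!
# The relative dualizing complex of a flat finite type ring map: the diagonal condition
-/

set_option autoImplicit false
set_option linter.unusedSectionVars false

open CategoryTheory CategoryTheory.Limits CategoryTheory.Functor TensorProduct

universe u

namespace Groth.Agent.Lib.Helper13.RelDual

open DerivedCategory Groth.Agent.Lib.Helper13.DR Groth.Agent.Lib.Helper13.Coind
  Groth.Agent.Lib.Helper13.Shriek Groth.Agent.Lib.Helper13.Frob

attribute [local instance] HasDerivedCategory.standard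

section Equiv

variable {T A : Type u} [CommRing T] [CommRing A]

/-- Coinduction after base change along an automorphism compatible with the map. -/
theorem nonempty_Rco_LEquiv (e : T ≃+* T) (μ : T →+* A) (h : μ = μ.comp (e : T →+* T))
    (Y : Dual.D T) :
    Nonempty ((Rco μ).obj ((DRing.LBaseChange (e : T →+* T)).obj Y) ≅ (Rco μ).obj Y) :=
  ⟨(Rco μ).mapIso ((LIso e).app Y ≪≫ ((RIso e).app Y).symm) ≪≫ (RComp (e : T →+* T) μ μ h).app Y⟩

/-- Coinduction along the identity. -/
noncomputable def RId : Rco (RingHom.id A) ≅ 𝟭 (Dual.D A) :=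
  (Coind.adj (RingHom.id A)).rightAdjointUniq (Adjunction.id.ofNatIsoLeft restrictDId.symm)

end Equiv

section Diag

variable (R A : Type u) [CommRing R] [CommRing A] [IsNoetherianRing R] [IsNoetherianRing A]
  [Algebra R A] [Module.Flat R A]

/-- The diagonal condition for `φ^!(R)`. -/
theorem nonempty_Rmu_Sh_iso (n : ℕ) (ψ : MvPolynomial (Fin n) R →ₐ[R] A)
    (hψ : Function.Surjective ψ) :
    Nonempty ((Rco (Algebra.TensorProduct.lmul' R (S := A)).toRingHom).obj
      ((DRing.LBaseChange
        (Algebra.TensorProduct.includeLeftRingHom : A →+* A ⊗[R] A)).obj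
        (Sh (algebraMap R (MvPolynomial (Fin n) R))
          (ψ : MvPolynomial (Fin n) R →+* A) n (Dual.inD R R))) ≅ Dual.inD A A) := by
  let T := A ⊗[R] A
  let μ : T →+* A := (Algebra.TensorProduct.lmul' R (S := A)).toRingHom
  let incL : A →+* T := Algebra.TensorProduct.includeLeftRingHom
  let incR : A →+* T := (Algebra.TensorProduct.includeRight : A →ₐ[R] A ⊗[R] A).toRingHom
  let cm : T ≃+* T := (Algebra.TensorProduct.comm R A A).toRingEquiv
  let ω := Sh (algebraMap R (MvPolynomial (Fin n) R)) (ψ : MvPolynomial (Fin n) R →+* A) n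
    (Dual.inD R R)
  have hcm : incL = (cm : T →+* T).comp incR := RingHom.ext fun a => by
    change a ⊗ₜ[R] (1 : A) = Algebra.TensorProduct.comm R A A ((1 : A) ⊗ₜ[R] a)
    rw [Algebra.TensorProduct.comm_tmul]
  have hμ : μ = μ.comp (cm : T →+* T) := RingHom.ext fun z => by
    change Algebra.TensorProduct.lmul' R (S := A) z =
      Algebra.TensorProduct.lmul' R (S := A) (Algebra.TensorProduct.comm R A A z)
    induction z using TensorProduct.induction_on with
    | zero => rw [map_zero, map_zero, map_zero]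
    | tmul a b =>
      rw [Algebra.TensorProduct.comm_tmul, Algebra.TensorProduct.lmul'_apply_tmul,
        Algebra.TensorProduct.lmul'_apply_tmul, mul_comm]
    | add x y hx hy => rw [_root_.map_add, _root_.map_add, _root_.map_add, hx, hy]
  -- step 1: replace the left coprojection by the right one
  let i1 : (DRing.LBaseChange incL).obj ω ≅
      (DRing.LBaseChange (cm : T →+* T)).obj ((DRing.LBaseChange incR).obj ω) :=
    ((LComp incR (cm : T →+* T) incL hcm).app ω).symm
  obtain ⟨i2⟩ := nonempty_Rco_LEquiv cm μ hμ ((DRing.LBaseChange incR).obj ω)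
  -- step 2: flat base change
  have hGE : (Dual.inD R R).IsGE 0 := inferInstance
  obtain ⟨i3⟩ := Sh_flat_baseChange R A A n ψ hψ (Dual.inD R R) 0
  let K' := (DRing.LBaseChange (algebraMap R A)).obj (Dual.inD R R)
  have hK' : K'.IsGE 0 := isGE_LBaseChange R A (Dual.inD R R) 0
  -- step 3: composition with the multiplication map
  let _ : Algebra T A := μ.toAlgebra
  have : IsScalarTower A T A := IsScalarTower.of_algebraMap_eq fun a => by
    change a = Algebra.TensorProduct.lmul' R (S := A) (a ⊗ₜ[R] (1 : A))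
    rw [Algebra.TensorProduct.lmul'_apply_tmul, mul_one]
  let χ : MvPolynomial (Fin 0) T →ₐ[T] A := MvPolynomial.aeval (fun i => i.elim0)
  let θ : MvPolynomial (Fin 0) A →ₐ[A] A := MvPolynomial.aeval (fun i => i.elim0)
  have hμs : Function.Surjective μ := fun a => ⟨a ⊗ₜ[R] (1 : A), by
    change Algebra.TensorProduct.lmul' R (S := A) (a ⊗ₜ[R] (1 : A)) = a
    rw [Algebra.TensorProduct.lmul'_apply_tmul, mul_one]⟩
  have hχ : Function.Surjective χ := fun a => by
    obtain ⟨t, ht⟩ := hμs a
    exact ⟨MvPolynomial.C t, by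
      change MvPolynomial.aeval _ (MvPolynomial.C t) = a
      rw [MvPolynomial.aeval_C]
      exact ht⟩
  have hθ : Function.Surjective θ := fun a => ⟨MvPolynomial.C a, by
    change MvPolynomial.aeval _ (MvPolynomial.C a) = a
    rw [MvPolynomial.aeval_C]
    rfl⟩
  obtain ⟨i4⟩ := Sh_comp n 0 0 (bcPres R A A n ψ) (bcPres_surjective R A A n ψ hψ) χ hχ θ hθ K' 0
  obtain ⟨i5⟩ := Sh_finite (algebraMap T A) (RingHom.Finite.of_surjective _ hμs) 0
    (χ : MvPolynomial (Fin 0) T →+* A)
    (RingHom.ext fun t => by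
      change MvPolynomial.aeval _ (MvPolynomial.C t) = _
      rw [MvPolynomial.aeval_C])
    (Sh (algebraMap A (MvPolynomial (Fin n) A))
      (bcPres R A A n ψ : MvPolynomial (Fin n) A →+* A ⊗[R] A) n K')
  obtain ⟨i6⟩ := Sh_finite (RingHom.id A) (RingHom.Finite.of_surjective _ (fun a => ⟨a, rfl⟩)) 0
    (θ : MvPolynomial (Fin 0) A →+* A)
    (RingHom.ext fun a => by
      change MvPolynomial.aeval _ (MvPolynomial.C a) = _
      rw [MvPolynomial.aeval_C]
      rfl) K'
  exact ⟨(Rco μ).mapIso i1 ≪≫ i2 ≪≫ (Rco μ).mapIso i3 ≪≫ i5.symm ≪≫ i4.symm ≪≫ i6 ≪≫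
    RId.app K' ≪≫ LBaseChangeSelfIso R A⟩

end Diag

end Groth.Agent.Lib.Helper13.RelDual
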