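import Groth.Agent.Lib.Helper13.TorIndep7
import Groth.Agent.Lib.Helper13.BaseChangeSq2
import Groth.Agent.Lib.Helper13.DRingTensorSES
import Groth.Agent.Lib.Helper13.RelPerf2

/-!
# Tor-independence from flatness over a common base
-/

set_option autoImplicit false
set_option linter.unusedSectionVars false

open CategoryTheory CategoryTheory.Limits TensorProduct

universe u

namespace Groth.Agent.Lib.Helper13.TI

open DerivedCategory Groth.Agent.Lib.Helper13.DR Groth.Agent.Lib.Helper13.BS
  Groth.Agent.Lib.Helper13.PC
open CochainComplex HomologicalComplex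

attribute [local instance] HasDerivedCategory.standard

section Flat

variable {R : Type u} [CommRing R] (k : Type u) [CommRing k] [Algebra R k]

/-- A quasi-isomorphism between bounded above complexes of flat modules stays a
quasi-isomorphism after base change. -/
theorem quasiIso_extendCx_map {F F' : DRing.Cx R} (f : F ⟶ F') [QuasiIso f] (c : ℤ)
    (hc : ∀ i : ℤ, c < i → IsZero (F.X i)) (hc' : ∀ i : ℤ, c < i → IsZero (F'.X i))
    (hfl : ∀ i : ℤ, Module.Flat R (F.X i)) (hfl' : ∀ i : ℤ, Module.Flat R (F'.X i)) :
    QuasiIso ((extendCx R k).map f) := by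
  apply quasiIso_of_acyclic_mappingCone
  intro i
  have h1 : ((tensorCx (ModuleCat.of R k)).obj (mappingCone f)).ExactAt i := by
    refine exactAt_tensorCx_of_acyclic (mappingCone f) c (fun j hj => ?_)
      (flat_mappingCone_X f hfl hfl') (fun j => ?_) _ i
    · rw [mappingCone.isZero_X_iff]
      exact ⟨hc _ (by lia), hc' _ hj⟩
    · exact exactAt_mappingCone f j (j + 1) rfl inferInstance inferInstance
  have h2 := (exactAt_tensorCx_iff_exactAt_extendCx R k (mappingCone f) i).1 h1
  rw [exactAt_iff_isZero_homology] at h2 ⊢
  exact h2.of_iso ((HomologicalComplex.homologyFunctor _ _ i).mapIso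
    (mappingCone.mapHomologicalComplexIso f
      (ModuleCat.extendScalars.{u, u, u} (algebraMap R k))).symm)

end Flat

section Square

variable (R P k P' : Type u) [CommRing R] [CommRing P] [Algebra R P] [CommRing k] [Algebra R k]
  [CommRing P'] [Algebra R P'] [Algebra P P'] [Algebra k P'] [IsScalarTower R P P']
  [IsScalarTower R k P'] [Algebra.IsPushout R k P P']

include k in
/-- Base change along `P → P' = P ⊗_R k` of a quasi-isomorphism between bounded above complexes
of `P`-modules with `R`-flat terms is a quasi-isomorphism. -/
theorem quasiIso_extC_map_of_flat {F F' : DRing.Cx P} (f : F ⟶ F') [QuasiIso f] (c : ℤ)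
    (hc : ∀ i : ℤ, c < i → IsZero (F.X i)) (hc' : ∀ i : ℤ, c < i → IsZero (F'.X i))
    (hfl : ∀ i : ℤ, Module.Flat R ((ModuleCat.restrictScalars.{u} (algebraMap R P)).obj (F.X i)))
    (hfl' : ∀ i : ℤ, Module.Flat R ((ModuleCat.restrictScalars.{u} (algebraMap R P)).obj (F'.X i))) :
    QuasiIso ((extC (algebraMap P P')).map f) := by
  have h1 : QuasiIso ((DRing.restrictCx (algebraMap R P)).map f) :=
    (HomologicalComplex.quasiIso_map_iff_of_preservesHomology f
      (ModuleCat.restrictScalars.{u} (algebraMap R P))).2 inferInstance
  have h2 : QuasiIso ((extendCx R k).map ((DRing.restrictCx (algebraMap R P)).map f)) :=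
    quasiIso_extendCx_map k _ c
      (fun i hi => Functor.map_isZero (ModuleCat.restrictScalars.{u} (algebraMap R P)) (hc i hi))
      (fun i hi => Functor.map_isZero (ModuleCat.restrictScalars.{u} (algebraMap R P)) (hc' i hi))
      hfl hfl'
  have nat := (NatIso.mapHomologicalComplex (pbcNatIso R P k P') (ComplexShape.up ℤ)).hom.naturality f
  have h3 : QuasiIso ((DRing.restrictCx (algebraMap k P')).map ((extendCx P P').map f)) := by
    have h4 : QuasiIso ((extendCx R k).map ((DRing.restrictCx (algebraMap R P)).map f) ≫
        (pbcCxIso R P k P' F').hom) := inferInstance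
    have h5 : (extendCx R k).map ((DRing.restrictCx (algebraMap R P)).map f) ≫
        (pbcCxIso R P k P' F').hom = (pbcCxIso R P k P' F).hom ≫
        (DRing.restrictCx (algebraMap k P')).map ((extendCx P P').map f) := nat
    rw [h5] at h4
    exact quasiIso_of_comp_left (pbcCxIso R P k P' F).hom _
  exact (HomologicalComplex.quasiIso_map_iff_of_preservesHomology ((extendCx P P').map f)
    (ModuleCat.restrictScalars.{u} (algebraMap k P'))).1 h3

include k in
/-- Tor-independence of `A` and `P' = P ⊗_R k` over `P`, when `P` and `A` are flat over `R`: the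
base change of a projective resolution of `A` stays a resolution. -/
theorem quasiIso_ext_π'_of_flat (A : Type u) [CommRing A] [Algebra P A] [Algebra R A]
    [IsScalarTower R P A] [Module.Flat R P] [Module.Flat R A] :
    QuasiIso ((extC (algebraMap P P')).map (PA P A).π') := by
  refine quasiIso_extC_map_of_flat R P k P' (PA P A).π' 0
    (fun i hi => TB.isZero_cochainComplex_X (PA P A) i hi)
    (fun i hi => HomologicalComplex.isZero_single_obj_X (ComplexShape.up ℤ) 0 (MA P A) i (by omega))
    (fun i => ?_) (fun i => ?_)
  · have := TB.flat_cochainComplex_X (PA P A) i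
    exact Groth.Agent.Lib.Helper13.DV.flat_restrictScalars R P _
  · by_cases hi : i = 0
    · subst hi
      let e1 : ((ModuleCat.restrictScalars.{u} (algebraMap R P)).obj
          (((CochainComplex.singleFunctor (ModuleCat.{u} P) 0).obj (MA P A)).X 0)) ≃ₗ[R]
          ((ModuleCat.restrictScalars.{u} (algebraMap R P)).obj (MA P A)) :=
        ((ModuleCat.restrictScalars.{u} (algebraMap R P)).mapIso
          (HomologicalComplex.singleObjXSelf (ComplexShape.up ℤ) 0 (MA P A))).toLinearEquiv
      let e2 : ((ModuleCat.restrictScalars.{u} (algebraMap R P)).obj (MA P A)) ≃ₗ[R] A :=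
        { toFun := fun a => a
          invFun := fun a => a
          map_add' := fun _ _ => rfl
          map_smul' := fun r a => by
            change algebraMap P A (algebraMap R P r) * (show A from a) = r • (show A from a)
            rw [← IsScalarTower.algebraMap_apply, Algebra.smul_def]
          left_inv := fun _ => rfl
          right_inv := fun _ => rfl }
      exact Module.Flat.of_linearEquiv (e1.trans e2)
    · have hz : IsZero ((ModuleCat.restrictScalars.{u} (algebraMap R P)).obj
          (((CochainComplex.singleFunctor (ModuleCat.{u} P) 0).obj (MA P A)).X i)) :=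
        Functor.map_isZero _
          (HomologicalComplex.isZero_single_obj_X (ComplexShape.up ℤ) 0 (MA P A) i hi)
      have := ModuleCat.subsingleton_of_isZero hz
      infer_instance

end Square

end Groth.Agent.Lib.Helper13.TI
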