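import Groth.Agent.Lib.Helper13.RcoBC2
import Groth.Agent.Lib.Helper13.TorIndep8
import Groth.Agent.Lib.Helper13.DualBC6
import Groth.Agent.S11185

/-!
# The relative dualizing complex of a flat finite type ring map: fibres
-/

set_option autoImplicit false
universe u
open CategoryTheory CategoryTheory.Limits TensorProduct

namespace Groth.Agent.Lib.Helper13.RelDual

open Groth.Agent.Lib.Helper13.BD Groth.Agent.Lib.Helper13.DR Groth.Agent.Lib.Helper13.PC
  Groth.Agent.Lib.Helper13.Coind Groth.Agent.Lib.Helper13.Shriek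
open DerivedCategory

attribute [local instance] HasDerivedCategory.standard

/-- `k[0]` is a dualizing complex for a field `k`. -/
theorem isDualizing_field (k : Type u) [Field k] : Dual.IsDualizing k (Dual.inD k k) := by
  refine Groth.Agent.S11185.result k (fun p => ?_) ?_
  · have hle : p.asIdeal.primeCompl ≤ IsUnit.submonoid k := fun x hx => by
      have : x ≠ 0 := fun h0 => hx (h0 ▸ p.asIdeal.zero_mem)
      exact isUnit_iff_ne_zero.2 this
    let e : k ≃ₐ[k] Localization.AtPrime p.asIdeal := IsLocalization.atUnits k _ hle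
    exact IsRegularLocalRing.of_ringEquiv e.toRingEquiv
  · rw [ringKrullDim_eq_zero_of_field]
    decide

section Fibre

open MvPolynomial

attribute [local instance] MvPolynomial.algebraMvPolynomial Algebra.TensorProduct.rightAlgebra

variable (R A : Type u) [CommRing R] [CommRing A] [IsNoetherianRing R] [IsNoetherianRing A]
  [Algebra R A] [Module.Flat R A]

/-- `A` is a perfect module over a polynomial ring surjecting onto it, when `A` is flat over the
base. -/
theorem isPerfectModule_of_flat (n : ℕ) (ψ : MvPolynomial (Fin n) R →ₐ[R] A)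
    (hψ : Function.Surjective ψ) :
    letI : Algebra (MvPolynomial (Fin n) R) A := ψ.toRingHom.toAlgebra
    DRing.IsPerfectModule (MvPolynomial (Fin n) R) A := by
  let P := MvPolynomial (Fin n) R
  letI : Algebra P A := ψ.toRingHom.toAlgebra
  have : IsScalarTower R P A := IsScalarTower.of_algebraMap_eq fun r => (ψ.commutes r).symm
  have hfinA : Module.Finite P A := Module.Finite.of_surjective (Algebra.linearMap P A) hψ
  exact Groth.Agent.Lib.Helper13.PS.isPerfectModule_of_hasFiniteTorDim R A n
    ((isPseudoCoherentModule'_iff_of_isNoetherianRing (A := P) A).2 hfinA)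
    ⟨0, (Groth.Agent.Lib.Helper13.TB.hasTorDimLE_zero_iff_flat R A).2 inferInstance⟩

/-- **Fibres of the relative dualizing complex**: for a flat finite type `R → A` presented by
`ψ : R[x₁,…,xₙ] → A` and a field `k` over `R`, the base change of `RHom_P(A, P)[n]` to `k ⊗_R A`
is a dualizing complex. -/
theorem isDualizing_fibre (n : ℕ) (ψ : MvPolynomial (Fin n) R →ₐ[R] A)
    (hψ : Function.Surjective ψ) (k : Type u) [Field k] [Algebra R k] :
    Dual.IsDualizing (k ⊗[R] A)
      ((DRing.LBaseChange (Algebra.TensorProduct.includeRight : A →ₐ[R] k ⊗[R] A).toRingHom).obj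
        (((Rco ψ.toRingHom).obj (Dual.inD (MvPolynomial (Fin n) R) (MvPolynomial (Fin n) R)))⟦(n : ℤ)⟧)) := by
  let P := MvPolynomial (Fin n) R
  let P' := MvPolynomial (Fin n) k
  let A' := k ⊗[R] A
  letI : Algebra P A := ψ.toRingHom.toAlgebra
  have : IsScalarTower R P A := IsScalarTower.of_algebraMap_eq fun r => (ψ.commutes r).symm
  have hperf : DRing.IsPerfectModule P A := isPerfectModule_of_flat R A n ψ hψ
  let ψ' : P' →ₐ[k] A' := MvPolynomial.aeval (fun i => (1 : k) ⊗ₜ[R] ψ (MvPolynomial.X i))
  letI : Algebra P' A' := ψ'.toRingHom.toAlgebra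
  letI : Algebra P A' := ((algebraMap A A').comp (algebraMap P A)).toAlgebra
  haveI : IsScalarTower P A A' := IsScalarTower.of_algebraMap_eq (fun _ => rfl)
  haveI : IsScalarTower k P' A' := IsScalarTower.of_algebraMap_eq (fun c => (ψ'.commutes c).symm)
  have hcomm : ((algebraMap A A').comp ψ.toRingHom : P →+* A') =
      ψ'.toRingHom.comp (MvPolynomial.map (algebraMap R k)) := by
    apply MvPolynomial.ringHom_ext
    · intro r
      change (1 : k) ⊗ₜ[R] ψ (MvPolynomial.C r) = ψ' (MvPolynomial.map (algebraMap R k) (MvPolynomial.C r))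
      rw [MvPolynomial.map_C, show ψ' (MvPolynomial.C (algebraMap R k r)) =
        algebraMap k A' (algebraMap R k r) from ψ'.commutes _,
        show ψ (MvPolynomial.C r) = algebraMap R A r from ψ.commutes r,
        Algebra.TensorProduct.algebraMap_apply, Algebra.algebraMap_self, RingHom.id_apply,
        Algebra.algebraMap_eq_smul_one r, Algebra.algebraMap_eq_smul_one r,
        TensorProduct.smul_tmul]
    · intro i
      change (1 : k) ⊗ₜ[R] ψ (MvPolynomial.X i) = ψ' (MvPolynomial.map (algebraMap R k) (MvPolynomial.X i))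
      rw [MvPolynomial.map_X]
      change _ = MvPolynomial.aeval (fun i => (1 : k) ⊗ₜ[R] ψ (MvPolynomial.X i)) (MvPolynomial.X i)
      rw [MvPolynomial.aeval_X]
  haveI : IsScalarTower P P' A' := IsScalarTower.of_algebraMap_eq (fun p => by
    exact RingHom.congr_fun hcomm p)
  haveI : IsScalarTower R P' A' := IsScalarTower.of_algebraMap_eq (fun r => by
    rw [IsScalarTower.algebraMap_apply R k A', IsScalarTower.algebraMap_apply R k P',
      ← IsScalarTower.algebraMap_apply k P' A'])
  haveI : IsScalarTower R A A' := Algebra.TensorProduct.right_isScalarTower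
  haveI h1 : Algebra.IsPushout R A k A' := inferInstance
  haveI h2 : Algebra.IsPushout P A P' A' :=
    (Algebra.IsPushout.comp_iff R P k (S' := P') (T := A) (T' := A')).1 h1
  haveI h3 : Algebra.IsPushout P P' A A' := Algebra.IsPushout.symm h2
  have hq := Groth.Agent.Lib.Helper13.TI.quasiIso_ext_π'_of_flat R P k P' A
  obtain ⟨ι⟩ := Groth.Agent.Lib.Helper13.RcoBC.nonempty_LBaseChange_Rco_iso P A P' A' hψ hperf hq
  have hs' : Function.Surjective ψ'.toRingHom :=
    Groth.Agent.Lib.Helper13.RcoBC.surjective_algebraMap_of_isPushout P A P' A' hψ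
  haveI : IsNoetherianRing A' := isNoetherianRing_of_surjective P' A' ψ'.toRingHom hs'
  have hd := Groth.Agent.Lib.Helper13.DualBC.isDualizing_Sh k A' n ψ'.toRingHom hs'
    (Dual.inD k k) (isDualizing_field k) (n : ℤ)
  refine Groth.Agent.Lib.Helper13.DualBC.isDualizing_of_iso ?_ hd
  exact (CategoryTheory.shiftFunctor (Dual.D A') (n : ℤ)).mapIso
      ((Rco ψ'.toRingHom).mapIso (LBaseChangeSelfIso k P') ≪≫ ι.symm) ≪≫
    (LShift (algebraMap A A') (n : ℤ) ((Rco (algebraMap P A)).obj (Dual.inD P P))).symm

end Fibre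

end Groth.Agent.Lib.Helper13.RelDual
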