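import Groth.Agent.Lib.Helper13.RelDual3

/-!
# The relative dualizing complex of a flat finite type ring map: summary of properties
-/

set_option autoImplicit false
universe u
open CategoryTheory CategoryTheory.Limits TensorProduct

namespace Groth.Agent.Lib.Helper13.RelDual

open Groth.Agent.Lib.Helper13.BD Groth.Agent.Lib.Helper13.DR Groth.Agent.Lib.Helper13.PC
  Groth.Agent.Lib.Helper13.Coind Groth.Agent.Lib.Helper13.Shriek
open DerivedCategory

attribute [local instance] HasDerivedCategory.standard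

section EndProps

variable {A : Type u} [CommRing A]

/-- The endomorphism properties `A ≅ End(K)`, `Ext^i(K, K) = 0` pass to shifts and isomorphic
objects. -/
theorem endProps_of_iso_shift (K L : Dual.D A) (n : ℤ) (e : L ≅ K⟦n⟧)
    (h4 : Function.Bijective (fun a : A => a • 𝟙 K))
    (h5 : ∀ i : ℤ, i ≠ 0 → Subsingleton (K ⟶ K⟦i⟧)) :
    Function.Bijective (fun a : A => a • 𝟙 L) ∧ ∀ i : ℤ, i ≠ 0 → Subsingleton (L ⟶ L⟦i⟧) := by
  have h4' : Function.Bijective (fun a : A => a • 𝟙 (K⟦n⟧)) := by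
    have : (fun a : A => a • 𝟙 (K⟦n⟧)) =
        ((shiftFunctor (Dual.D A) n).map : (K ⟶ K) → (K⟦n⟧ ⟶ K⟦n⟧)) ∘ (fun a : A => a • 𝟙 K) := by
      funext a
      change _ = (shiftFunctor (Dual.D A) n).map (a • 𝟙 K)
      rw [Functor.map_smul, CategoryTheory.Functor.map_id]
    rw [this]
    exact (Functor.FullyFaithful.ofFullyFaithful
      (shiftFunctor (Dual.D A) n)).homEquiv.bijective.comp h4
  have h5' : ∀ i : ℤ, i ≠ 0 → Subsingleton (K⟦n⟧ ⟶ (K⟦n⟧)⟦i⟧) := by
    intro i hi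
    have := h5 i hi
    let e1 : (K⟦n⟧ ⟶ (K⟦n⟧)⟦i⟧) ≃ (K⟦n⟧ ⟶ (K⟦i⟧)⟦n⟧) :=
      Iso.homCongr (Iso.refl _) ((shiftFunctorComm (Dual.D A) n i).app K)
    let e2 : (K ⟶ K⟦i⟧) ≃ (K⟦n⟧ ⟶ (K⟦i⟧)⟦n⟧) :=
      (Functor.FullyFaithful.ofFullyFaithful (shiftFunctor (Dual.D A) n)).homEquiv
    exact (e1.trans e2.symm).subsingleton
  constructor
  · have hc : (fun a : A => a • 𝟙 L) = (Iso.homCongr e.symm e.symm) ∘ (fun a : A => a • 𝟙 (K⟦n⟧)) := by
      funext a
      simp [Iso.homCongr]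
    rw [hc]
    exact (Iso.homCongr e.symm e.symm).bijective.comp h4'
  · intro i hi
    have := h5' i hi
    exact (Iso.homCongr e ((shiftFunctor (Dual.D A) i).mapIso e)).subsingleton

end EndProps

section Summary

variable (R A : Type u) [CommRing R] [CommRing A] [IsNoetherianRing R] [IsNoetherianRing A]
  [Algebra R A] [Module.Flat R A]

/-- All the properties of `ω_{A/R}` for `R → A` flat of finite type, for any object isomorphic to
`RHom_P(A, P)[n]`. -/
theorem properties_of_iso (n : ℕ) (ψ : MvPolynomial (Fin n) R →ₐ[R] A)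
    (hψ : Function.Surjective ψ) (K : Dual.D A)
    (e : K ≅ ((Rco ψ.toRingHom).obj
      (Dual.inD (MvPolynomial (Fin n) R) (MvPolynomial (Fin n) R)))⟦(n : ℤ)⟧) :
    (∃ a b : ℤ, ∀ i : ℤ, (i < a ∨ b < i) → Subsingleton (Dual.HD A K i)) ∧
    (∀ i : ℤ, Module.Finite A (Dual.HD A K i)) ∧
    DRing.HasFiniteTorDimCx R ((DRing.restrictD (algebraMap R A)).obj K) ∧
    (Function.Bijective (fun a : A => a • 𝟙 K) ∧ ∀ i : ℤ, i ≠ 0 → Subsingleton (K ⟶ K⟦i⟧)) := by
  let P := MvPolynomial (Fin n) R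
  letI : Algebra P A := ψ.toRingHom.toAlgebra
  have hperf : DRing.IsPerfectModule P A := isPerfectModule_of_flat R A n ψ hψ
  have hrel := isRelPerfect_Sh R A n ψ hψ
  let eS : K ≅ Sh (algebraMap R P) (ψ : P →+* A) n (Dual.inD R R) :=
    e ≪≫ (shiftFunctor (Dual.D A) (n : ℤ)).mapIso
      ((Rco (algebraMap P A)).mapIso (LBaseChangeSelfIso R P)).symm
  obtain ⟨a, b, hab⟩ := hrel.2
  have htor : DRing.HasTorAmplitudeIn R a b ((DRing.restrictD (algebraMap R A)).obj K) :=
    hasTorAmplitudeIn_of_iso ((DRing.restrictD (algebraMap R A)).mapIso eS).symm hab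
  refine ⟨⟨a, b, fun i hi => ?_⟩, fun i => ?_, ⟨a, b, htor⟩, ?_⟩
  · have hz := isZero_HD_of_hasTorAmplitudeIn htor i hi
    obtain ⟨e'⟩ := nonempty_homology_restrictD_iso (algebraMap R A) K i
    exact ModuleCat.subsingleton_of_isZero
      (isZero_of_isZero_restrictScalars (algebraMap R A) _ (hz.of_iso e'.symm))
  · have h2 := (isPseudoCoherent'_iff _).1 hrel.1 i
    have h3 : Module.Finite A ((DerivedCategory.homologyFunctor (ModuleCat.{u} A) i).obj
        (Sh (algebraMap R P) (ψ : P →+* A) n (Dual.inD R R))) :=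
      ((isPseudoCoherent_iff_of_isNoetherianRing i _).1 ((isPseudoCoherent_iff i _).2 h2)).2 i
        le_rfl
    exact Module.Finite.equiv
      ((DerivedCategory.homologyFunctor (ModuleCat.{u} A) i).mapIso eS).symm.toLinearEquiv
  · exact endProps_of_iso_shift ((Rco (algebraMap P A)).obj (Dual.inD P P)) K (n : ℤ) e
      (Groth.Agent.Lib.Helper13.RcoEnd.bijective_smul_id P A hψ hperf)
      (fun i hi => Groth.Agent.Lib.Helper13.RcoEnd.subsingleton_hom_shift P A hperf i hi)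

end Summary

end Groth.Agent.Lib.Helper13.RelDual
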