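import Groth.Agent.Lib.Helper13.RelDual4

/-!
# The relative dualizing complex of a flat finite type ring map: fibres `A ⊗ k`
-/

set_option autoImplicit false
set_option linter.style.haveILetI false
universe u
open CategoryTheory CategoryTheory.Limits TensorProduct

namespace Groth.Agent.Lib.Helper13.RelDual

open Groth.Agent.Lib.Helper13.BD Groth.Agent.Lib.Helper13.DR Groth.Agent.Lib.Helper13.PC
  Groth.Agent.Lib.Helper13.Coind Groth.Agent.Lib.Helper13.Shriek
open DerivedCategory

attribute [local instance] HasDerivedCategory.standard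

section Fibre

open MvPolynomial

attribute [local instance] MvPolynomial.algebraMvPolynomial Algebra.TensorProduct.rightAlgebra

variable (R A : Type u) [CommRing R] [CommRing A] [IsNoetherianRing R] [IsNoetherianRing A]
  [Algebra R A] [Module.Flat R A]

/-- **Fibres of the relative dualizing complex**, with the fibre written `A ⊗_R k`. -/
theorem isDualizing_fibre' (n : ℕ) (ψ : MvPolynomial (Fin n) R →ₐ[R] A)
    (hψ : Function.Surjective ψ) (k : Type u) [Field k] [Algebra R k] :
    IsNoetherianRing (A ⊗[R] k) ∧ Dual.IsDualizing (A ⊗[R] k)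
      ((DRing.LBaseChange (algebraMap A (A ⊗[R] k))).obj
        (((Rco ψ.toRingHom).obj (Dual.inD (MvPolynomial (Fin n) R) (MvPolynomial (Fin n) R)))⟦(n : ℤ)⟧)) := by
  let P := MvPolynomial (Fin n) R
  let P' := MvPolynomial (Fin n) k
  let A' := A ⊗[R] k
  letI : Algebra P A := ψ.toRingHom.toAlgebra
  have : IsScalarTower R P A := IsScalarTower.of_algebraMap_eq fun r => (ψ.commutes r).symm
  have hperf : DRing.IsPerfectModule P A := isPerfectModule_of_flat R A n ψ hψ
  let ψ' : P' →ₐ[k] A' := MvPolynomial.aeval (fun i => ψ (MvPolynomial.X i) ⊗ₜ[R] (1 : k))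
  letI : Algebra P' A' := ψ'.toRingHom.toAlgebra
  haveI : IsScalarTower P A A' := inferInstance
  haveI : IsScalarTower k P' A' := IsScalarTower.of_algebraMap_eq (fun c => (ψ'.commutes c).symm)
  have hcomm : ((algebraMap A A').comp ψ.toRingHom : P →+* A') =
      ψ'.toRingHom.comp (MvPolynomial.map (algebraMap R k)) := by
    apply MvPolynomial.ringHom_ext
    · intro r
      change ψ (MvPolynomial.C r) ⊗ₜ[R] (1 : k) = ψ' (MvPolynomial.map (algebraMap R k) (MvPolynomial.C r))
      rw [MvPolynomial.map_C, show ψ' (MvPolynomial.C (algebraMap R k r)) =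
        algebraMap k A' (algebraMap R k r) from ψ'.commutes _,
        show ψ (MvPolynomial.C r) = algebraMap R A r from ψ.commutes r,
        Algebra.TensorProduct.right_algebraMap_apply,
        Algebra.algebraMap_eq_smul_one r, Algebra.algebraMap_eq_smul_one r,
        TensorProduct.smul_tmul]
    · intro i
      change ψ (MvPolynomial.X i) ⊗ₜ[R] (1 : k) = ψ' (MvPolynomial.map (algebraMap R k) (MvPolynomial.X i))
      rw [MvPolynomial.map_X]
      change _ = MvPolynomial.aeval (fun i => ψ (MvPolynomial.X i) ⊗ₜ[R] (1 : k)) (MvPolynomial.X i)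
      rw [MvPolynomial.aeval_X]
  haveI : IsScalarTower P P' A' := IsScalarTower.of_algebraMap_eq (fun p => by
    rw [IsScalarTower.algebraMap_apply P A A']
    exact RingHom.congr_fun hcomm p)
  haveI : IsScalarTower R k A' := Algebra.TensorProduct.right_isScalarTower
  haveI : IsScalarTower R P' A' := IsScalarTower.of_algebraMap_eq (fun r => by
    rw [IsScalarTower.algebraMap_apply R k A', IsScalarTower.algebraMap_apply R k P',
      ← IsScalarTower.algebraMap_apply k P' A'])
  haveI h1 : Algebra.IsPushout R A k A' := inferInstance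
  haveI h2 : Algebra.IsPushout P A P' A' :=
    (Algebra.IsPushout.comp_iff R P k (S' := P') (T := A) (T' := A')).1 h1
  haveI h3 : Algebra.IsPushout P P' A A' := Algebra.IsPushout.symm h2
  have hq := Groth.Agent.Lib.Helper13.TI.quasiIso_ext_π'_of_flat R P k P' A
  obtain ⟨ι⟩ := Groth.Agent.Lib.Helper13.RcoBC.nonempty_LBaseChange_Rco_iso P A P' A' hψ hperf hq
  have hs' : Function.Surjective ψ'.toRingHom :=
    Groth.Agent.Lib.Helper13.RcoBC.surjective_algebraMap_of_isPushout P A P' A' hψ
  haveI : IsNoetherianRing A' := isNoetherianRing_of_surjective P' A' ψ'.toRingHom hs'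
  refine ⟨inferInstance, ?_⟩
  have hd := Groth.Agent.Lib.Helper13.DualBC.isDualizing_Sh k A' n ψ'.toRingHom hs'
    (Dual.inD k k) (isDualizing_field k) (n : ℤ)
  refine Groth.Agent.Lib.Helper13.DualBC.isDualizing_of_iso ?_ hd
  exact (CategoryTheory.shiftFunctor (Dual.D A') (n : ℤ)).mapIso
      ((Rco ψ'.toRingHom).mapIso (LBaseChangeSelfIso k P') ≪≫ ι.symm) ≪≫
    (LShift (algebraMap A A') (n : ℤ) ((Rco (algebraMap P A)).obj (Dual.inD P P))).symm

end Fibre

end Groth.Agent.Lib.Helper13.RelDual
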