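import Groth.Agent.Lib.Helper13.RelDual5
import Groth.Agent.Lib.Helper13.MinCx3
import Groth.Agent.Lib.Helper13.LciInv3
import Groth.Agent.Lib.Helper13.DualBC36

/-!
# Descent of invertibility along local homomorphisms
-/

set_option autoImplicit false
set_option linter.style.haveILetI false
universe u
open CategoryTheory CategoryTheory.Limits TensorProduct

namespace Groth.Agent.Lib.Helper13.RelDual

open Groth.Agent.Lib.Helper13.BD Groth.Agent.Lib.Helper13.DR Groth.Agent.Lib.Helper13.PC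
  Groth.Agent.Lib.Helper13.Coind Groth.Agent.Lib.Helper13.Shriek
open DerivedCategory

attribute [local instance] HasDerivedCategory.standard

section Self

variable {A B : Type u} [CommRing A] [CommRing B]

/-- `L_χ(A[0]) ≅ B[0]` for any ring map `χ : A → B`. -/
noncomputable def LSelfIso' (χ : A →+* B) :
    (DRing.LBaseChange χ).obj (Dual.inD A A) ≅ Dual.inD B B :=
  letI := χ.toAlgebra
  Groth.Agent.Lib.Helper13.RcoBC.LSelfIso A B

/-- `L_χ(A[m]) ≅ B[m]` for any ring map `χ : A → B`. -/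
noncomputable def LShiftSelfIso (χ : A →+* B) (m : ℤ) :
    (DRing.LBaseChange χ).obj ((Dual.inD A A)⟦m⟧) ≅ (Dual.inD B B)⟦m⟧ :=
  LShift χ m _ ≪≫ (CategoryTheory.shiftFunctor (Dual.D B) m).mapIso (LSelfIso' χ)

end Self

section FieldExt

variable (K L : Type u) [Field K] [Field L] (φ : K →+* L)

/-- If the base change of `V ∈ D(K)` to a field extension is `L[-c]`, then `V` has cohomology of
dimension one in degree `c` and zero elsewhere. -/
lemma finrank_HD_of_LBaseChange_iso (V : Dual.D K) (c : ℤ)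
    (h : Nonempty ((DRing.LBaseChange φ).obj V ≅ (Dual.inD L L)⟦-c⟧)) (i : ℤ) :
    Module.finrank K (Dual.HD K V i) = if i = c then 1 else 0 := by
  letI := φ.toAlgebra
  obtain ⟨ι⟩ := h
  let e1 : Dual.HD L ((DRing.LBaseChange (algebraMap K L)).obj V) i ≃ₗ[L]
      L ⊗[K] (Dual.HD K V i) :=
    ((DerivedCategory.homologyFunctor _ i).mapIso ((LBaseChangeFlatIso K L).app V)).toLinearEquiv ≪≫ₗ
    (flatBCHomologyIso K L V i).toLinearEquiv ≪≫ₗ extendScalarsEquiv L _
  have h1 : Module.finrank L (Dual.HD L ((DRing.LBaseChange (algebraMap K L)).obj V) i) =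
      Module.finrank K (Dual.HD K V i) := by
    rw [e1.finrank_eq, Module.finrank_baseChange]
  rw [← h1]
  have h2 := ((DerivedCategory.homologyFunctor _ i).mapIso ι).toLinearEquiv.finrank_eq
  refine h2.trans ?_
  split_ifs with hi
  · subst hi
    rw [(Groth.Agent.Lib.Helper13.LciInv.HDinDShiftEquiv L i).finrank_eq, Module.finrank_self]
  · have := Groth.Agent.Lib.Helper13.LciInv.subsingleton_HD_inD_shift L c i hi
    exact Module.finrank_zero_of_subsingleton

end FieldExt

section Single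

variable (B : Type u) [CommRing B]

/-- A complex of free modules of rank one in degree `c` and zero elsewhere is `B[-c]`. -/
lemma nonempty_toD_iso_shift_of_finrank [Nontrivial B] (P : DRing.Cx B) (c : ℤ)
    (hP : ∀ i : ℤ, Module.Free B (P.X i) ∧ Module.Finite B (P.X i) ∧
      Module.finrank B (P.X i) = if i = c then 1 else 0) :
    Nonempty (DRing.toD P ≅ (Dual.inD B B)⟦-c⟧) := by
  have hz : ∀ i : ℤ, i ≠ c → IsZero (P.X i) := by
    intro i hi
    obtain ⟨h1, h2, h3⟩ := hP i
    rw [if_neg hi] at h3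
    have : Subsingleton (P.X i) := (Module.finrank_eq_zero_iff_of_free B (P.X i)).1 h3
    exact ModuleCat.isZero_of_subsingleton _
  haveI : P.IsStrictlyGE c := by
    rw [CochainComplex.isStrictlyGE_iff]
    exact fun i hi => hz i (by omega)
  haveI : P.IsStrictlyLE c := by
    rw [CochainComplex.isStrictlyLE_iff]
    exact fun i hi => hz i (by omega)
  obtain ⟨M, ⟨e⟩⟩ := CochainComplex.exists_iso_single P c
  obtain ⟨h1, h2, h3⟩ := hP c
  rw [if_pos rfl] at h3
  obtain ⟨ε⟩ : Nonempty (B ≃ₗ[B] P.X c) := Module.nonempty_linearEquiv_iff_finrank_eq_one.2 h3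
  let eM : M ≅ ModuleCat.of B B :=
    (HomologicalComplex.singleObjXSelf (ComplexShape.up ℤ) c M).symm ≪≫
      ((HomologicalComplex.eval _ _ c).mapIso e).symm ≪≫ ε.symm.toModuleIso
  exact ⟨Q.mapIso e ≪≫
    ((DerivedCategory.singleFunctorIsoCompQ (ModuleCat.{u} B) c).app M).symm ≪≫
    (DerivedCategory.singleFunctor _ c).mapIso eM ≪≫
    (((DerivedCategory.singleFunctors (ModuleCat.{u} B)).shiftIso (-c) c 0 (by simp)).app _).symm⟩

end Single

section LocalDescent

variable (B C : Type u) [CommRing B] [CommRing C] [IsLocalRing B] [IsLocalRing C]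

/-- **Descent of invertibility along a local homomorphism**: if `X ∈ D(B)` is pseudo-coherent and
`X ⊗^L_B C ≅ C[-c]` for a local homomorphism of local rings `B → C`, then `X ≅ B[-c]`. -/
theorem nonempty_iso_shift_of_local (lam : B →+* C) [IsLocalHom lam] (X : Dual.D B)
    (hpc : DRing.IsPseudoCoherent' B X) (c : ℤ)
    (h : Nonempty ((DRing.LBaseChange lam).obj X ≅ (Dual.inD C C)⟦-c⟧)) :
    Nonempty (X ≅ (Dual.inD B B)⟦-c⟧) := by
  obtain ⟨ι⟩ := h
  let mB := IsLocalRing.maximalIdeal B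
  let mC := IsLocalRing.maximalIdeal C
  let κB := B ⧸ mB
  let κC := C ⧸ mC
  letI : Field κB := Ideal.Quotient.field mB
  letI : Field κC := Ideal.Quotient.field mC
  have hle : mB ≤ mC.comap lam := by
    intro x hx
    exact map_nonunit lam x hx
  let lbar : κB →+* κC := Ideal.quotientMap mC lam hle
  have hcomm : lbar.comp (Ideal.Quotient.mk mB) = (Ideal.Quotient.mk mC).comp lam :=
    Ideal.quotientMap_comp_mk hle
  let V := (DRing.LBaseChange (Ideal.Quotient.mk mB)).obj X
  have e : (DRing.LBaseChange lbar).obj V ≅ (Dual.inD κC κC)⟦-c⟧ :=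
    (LComp (Ideal.Quotient.mk mB) lbar _ rfl).app X ≪≫
    (LComp lam (Ideal.Quotient.mk mC) (lbar.comp (Ideal.Quotient.mk mB)) hcomm).symm.app X ≪≫
    (DRing.LBaseChange (Ideal.Quotient.mk mC)).mapIso ι ≪≫
    LShiftSelfIso (Ideal.Quotient.mk mC) (-c)
  have hrank := finrank_HD_of_LBaseChange_iso κB κC lbar V c ⟨e⟩
  obtain ⟨-, -, ⟨P, ⟨b, hb⟩, hP, ⟨eP⟩⟩, -⟩ := Groth.Agent.Lib.Helper13.MC.minimal_main B X hpc
  obtain ⟨ε⟩ := nonempty_toD_iso_shift_of_finrank B P c
    (fun i => ⟨(hP i).1, (hP i).2.1, (hP i).2.2.trans (hrank i)⟩)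
  exact ⟨eP.symm ≪≫ ε⟩

end LocalDescent

end Groth.Agent.Lib.Helper13.RelDual
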