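import Groth.Agent.Lib.Helper13.Shriek4

/-!
# The upper shriek through a presentation and its invariance
-/

set_option autoImplicit false
set_option linter.unusedSectionVars false

open CategoryTheory CategoryTheory.Limits CategoryTheory.Functor Polynomial

universe u

namespace Groth.Agent.Lib.Helper13.Shriek

open DerivedCategory Groth.Agent.Lib.Helper13.DR Groth.Agent.Lib.Helper13.Coind

attribute [local instance] HasDerivedCategory.standard

variable {R S S' A : Type u} [CommRing R] [CommRing S] [CommRing S'] [CommRing A]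

/-- `RHom_S(A, K ⊗_R S)[d]`. -/
noncomputable def Sh (ρ : R →+* S) (π : S →+* A) (d : ℤ) (K : Dual.D R) : Dual.D A :=
  ((Rco π).obj ((DRing.LBaseChange ρ).obj K))⟦d⟧

/-- Invariance under ring isomorphisms. -/
theorem Sh_iso (e : S ≃+* S') (ρ : R →+* S) (π : S →+* A) (ρ' : R →+* S') (π' : S' →+* A)
    (hρ : ρ' = (e : S →+* S').comp ρ) (hπ : π = π'.comp (e : S →+* S')) (d : ℤ) (K : Dual.D R) :
    Nonempty (Sh ρ π d K ≅ Sh ρ' π' d K) := by
  let X := (DRing.LBaseChange ρ).obj K
  let i1 : (DRing.LBaseChange ρ').obj K ≅ (DRing.restrictD (e.symm : S' →+* S)).obj X :=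
    ((LComp ρ (e : S →+* S') ρ' hρ).app K).symm ≪≫ (LIso e).app X
  let i2 : (Rco π).obj X ≅ (Rco π').obj ((DRing.restrictD (e.symm : S' →+* S)).obj X) :=
    ((RComp (e : S →+* S') π' π hπ).app X).symm ≪≫ (Rco π').mapIso ((RIso e).app X)
  exact ⟨(shiftFunctor (Dual.D A) d).mapIso (i2 ≪≫ (Rco π').mapIso i1.symm)⟩

/-- The one variable step, evaluation at zero. -/
theorem Sh_poly_zero (ρ : R →+* S) (π : S →+* A) (d : ℤ) (K : Dual.D R) :
    Nonempty (Sh ((algebraMap S S[X]).comp ρ) (π.comp (Polynomial.evalRingHom (0 : S))) (d + 1) K ≅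
      Sh ρ π d K) := by
  let ε := Polynomial.evalRingHom (0 : S)
  let X := (DRing.LBaseChange ρ).obj K
  let N := (DRing.LBaseChange (algebraMap S S[X])).obj X
  let i1 : (DRing.LBaseChange ((algebraMap S S[X]).comp ρ)).obj K ≅ N :=
    ((LComp ρ (algebraMap S S[X]) _ rfl).app K).symm
  let i2 : (Rco (π.comp ε)).obj N ≅ (Rco π).obj ((Rco ε).obj N) :=
    ((RComp ε π _ rfl).app N).symm
  obtain ⟨i3⟩ := nonempty_Rco_LBaseChange_shift_iso S X
  exact ⟨(shiftFunctor (Dual.D A) (d + 1)).mapIso ((Rco (π.comp ε)).mapIso i1 ≪≫ i2) ≪≫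
    (shiftFunctorAdd' (Dual.D A) 1 d (d + 1) (add_comm 1 d)).app _ ≪≫
    (shiftFunctor (Dual.D A) d).mapIso ((RcoShift π 1 _).symm ≪≫ (Rco π).mapIso i3)⟩

/-- The one variable step, evaluation at an arbitrary point. -/
theorem Sh_poly (ρ : R →+* S) (π : S →+* A) (f : S) (d : ℤ) (K : Dual.D R) :
    Nonempty (Sh ((algebraMap S S[X]).comp ρ) (π.comp (Polynomial.evalRingHom f)) (d + 1) K ≅
      Sh ρ π d K) := by
  obtain ⟨i1⟩ := Sh_iso (Polynomial.algEquivAevalXAddC f).toRingEquiv
    ((algebraMap S S[X]).comp ρ) (π.comp (Polynomial.evalRingHom f))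
    ((algebraMap S S[X]).comp ρ) (π.comp (Polynomial.evalRingHom (0 : S)))
    (by
      ext r
      simp)
    (by
      ext p
      · simp
      · simp [Polynomial.algEquivAevalXAddC])
    (d + 1) K
  obtain ⟨i2⟩ := Sh_poly_zero ρ π d K
  exact ⟨i1 ≪≫ i2⟩

/-- The several variables step. -/
theorem Sh_mvPoly : ∀ (k : ℕ) {S : Type u} [CommRing S] (ρ : R →+* S) (π : S →+* A)
    (g : Fin k → S) (d : ℤ) (K : Dual.D R),
    Nonempty (Sh ((algebraMap S (MvPolynomial (Fin k) S)).comp ρ)
      (π.comp (MvPolynomial.eval g)) (d + k) K ≅ Sh ρ π d K)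
  | 0, S, _, ρ, π, g, d, K => by
    have hC : ∀ s : S, MvPolynomial.isEmptyRingEquiv S (Fin 0) (MvPolynomial.C s) = s := by
      intro s
      rw [← MvPolynomial.isEmptyRingEquiv_symm_apply (R := S) (σ := Fin 0) s,
        RingEquiv.apply_symm_apply]
    obtain ⟨i1⟩ := Sh_iso (MvPolynomial.isEmptyRingEquiv S (Fin 0))
      ((algebraMap S (MvPolynomial (Fin 0) S)).comp ρ) (π.comp (MvPolynomial.eval g)) ρ π
      (by
        refine RingHom.ext fun r => ?_
        change ρ r = MvPolynomial.isEmptyRingEquiv S (Fin 0) (MvPolynomial.C (ρ r))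
        rw [hC])
      (by
        apply MvPolynomial.ringHom_ext
        · intro s
          change π (MvPolynomial.eval g (MvPolynomial.C s)) =
            π (MvPolynomial.isEmptyRingEquiv S (Fin 0) (MvPolynomial.C s))
          rw [hC, MvPolynomial.eval_C]
        · intro i
          exact i.elim0)
      (d + (0 : ℕ)) K
    have h0 : d + ((0 : ℕ) : ℤ) = d := by simp
    rw [h0] at i1 ⊢
    exact ⟨i1⟩
  | k + 1, S, _, ρ, π, g, d, K => by
    obtain ⟨i1⟩ := Sh_iso (MvPolynomial.finSuccEquiv S k).toRingEquiv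
      ((algebraMap S (MvPolynomial (Fin (k + 1)) S)).comp ρ) (π.comp (MvPolynomial.eval g))
      ((algebraMap (MvPolynomial (Fin k) S) (MvPolynomial (Fin k) S)[X]).comp
        ((algebraMap S (MvPolynomial (Fin k) S)).comp ρ))
      ((π.comp (MvPolynomial.eval (fun j : Fin k => g j.succ))).comp
        (Polynomial.evalRingHom (MvPolynomial.C (g 0))))
      (by
        refine RingHom.ext fun r => ?_
        change (Polynomial.C (MvPolynomial.C (ρ r)) : (MvPolynomial (Fin k) S)[X]) =
          MvPolynomial.finSuccEquiv S k (MvPolynomial.C (ρ r))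
        rw [MvPolynomial.finSuccEquiv_apply]
        simp)
      (by
        apply MvPolynomial.ringHom_ext
        · intro s
          change π (MvPolynomial.eval g (MvPolynomial.C s)) =
            π (MvPolynomial.eval (fun j : Fin k => g j.succ)
              (Polynomial.eval (MvPolynomial.C (g 0))
                (MvPolynomial.finSuccEquiv S k (MvPolynomial.C s))))
          rw [MvPolynomial.finSuccEquiv_apply]
          simp
        · intro i
          change π (MvPolynomial.eval g (MvPolynomial.X i)) =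
            π (MvPolynomial.eval (fun j : Fin k => g j.succ)
              (Polynomial.eval (MvPolynomial.C (g 0))
                (MvPolynomial.finSuccEquiv S k (MvPolynomial.X i))))
          refine Fin.cases ?_ (fun j => ?_) i
          · rw [MvPolynomial.finSuccEquiv_X_zero]
            simp
          · rw [MvPolynomial.finSuccEquiv_X_succ]
            simp)
      (d + ((k + 1 : ℕ) : ℤ)) K
    obtain ⟨i2⟩ := Sh_poly ((algebraMap S (MvPolynomial (Fin k) S)).comp ρ)
      (π.comp (MvPolynomial.eval (fun j : Fin k => g j.succ))) (MvPolynomial.C (g 0)) (d + k) K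
    obtain ⟨i3⟩ := Sh_mvPoly k ρ π (fun j : Fin k => g j.succ) d K
    have h1 : d + ((k + 1 : ℕ) : ℤ) = d + k + 1 := by push_cast; ring
    rw [h1] at i1 ⊢
    exact ⟨i1 ≪≫ i2 ≪≫ i3⟩

section Independence

variable [Algebra R A]

/-- Independence of the presentation. -/
theorem Sh_independent {n m : ℕ} (α : MvPolynomial (Fin n) R →ₐ[R] A)
    (hα : Function.Surjective α) (β : MvPolynomial (Fin m) R →ₐ[R] A)
    (hβ : Function.Surjective β) (K : Dual.D R) :
    Nonempty (Sh (algebraMap R (MvPolynomial (Fin n) R)) (α : MvPolynomial (Fin n) R →+* A) n K ≅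
      Sh (algebraMap R (MvPolynomial (Fin m) R)) (β : MvPolynomial (Fin m) R →+* A) m K) := by
  choose g hg using fun j : Fin m => hα (β (MvPolynomial.X j))
  choose g' hg' using fun i : Fin n => hβ (α (MvPolynomial.X i))
  obtain ⟨i1⟩ := Sh_mvPoly m (algebraMap R (MvPolynomial (Fin n) R))
    (α : MvPolynomial (Fin n) R →+* A) g n K
  obtain ⟨i2⟩ := Sh_mvPoly n (algebraMap R (MvPolynomial (Fin m) R))
    (β : MvPolynomial (Fin m) R →+* A) g' m K
  let σ := MvPolynomial.commAlgEquiv R (Fin m) (Fin n)
  obtain ⟨i3⟩ := Sh_iso σ.toRingEquiv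
    ((algebraMap (MvPolynomial (Fin n) R) (MvPolynomial (Fin m) (MvPolynomial (Fin n) R))).comp
      (algebraMap R (MvPolynomial (Fin n) R)))
    ((α : MvPolynomial (Fin n) R →+* A).comp (MvPolynomial.eval g))
    ((algebraMap (MvPolynomial (Fin m) R) (MvPolynomial (Fin n) (MvPolynomial (Fin m) R))).comp
      (algebraMap R (MvPolynomial (Fin m) R)))
    ((β : MvPolynomial (Fin m) R →+* A).comp (MvPolynomial.eval g'))
    (by
      refine RingHom.ext fun r => ?_
      change algebraMap R _ r = σ (algebraMap R _ r)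
      rw [AlgEquiv.commutes])
    (by
      apply MvPolynomial.ringHom_ext
      · intro p
        change α (MvPolynomial.eval g (MvPolynomial.C p)) =
          β (MvPolynomial.eval g' (σ (MvPolynomial.C p)))
        rw [MvPolynomial.eval_C]
        induction p using MvPolynomial.induction_on with
        | C r =>
          rw [MvPolynomial.commAlgEquiv_C, MvPolynomial.map_C, MvPolynomial.eval_C]
          change α (algebraMap R _ r) = β (algebraMap R _ r)
          rw [AlgHom.commutes, AlgHom.commutes]
        | add p q hp hq =>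
          simp only [_root_.map_add, hp, hq]
        | mul_X p i hp =>
          simp only [_root_.map_mul, hp]
          congr 1
          change α (MvPolynomial.X i) = β (MvPolynomial.eval g'
            (MvPolynomial.commAlgEquiv R (Fin m) (Fin n) (MvPolynomial.C (MvPolynomial.X i))))
          rw [MvPolynomial.commAlgEquiv_C_X, MvPolynomial.eval_X, hg']
      · intro j
        change α (MvPolynomial.eval g (MvPolynomial.X j)) =
          β (MvPolynomial.eval g' (σ (MvPolynomial.X j)))
        rw [MvPolynomial.commAlgEquiv_X, MvPolynomial.eval_C, MvPolynomial.eval_X, hg])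
    ((n : ℤ) + m) K
  have hnm : (m : ℤ) + n = (n : ℤ) + m := add_comm _ _
  rw [hnm] at i2
  exact ⟨i1.symm ≪≫ i3 ≪≫ i2⟩

end Independence

end Groth.Agent.Lib.Helper13.Shriek
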