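import Groth.Agent.Lib.Helper13.RelDual4
import Groth.Agent.Lib.Helper13.Shriek5

/-!
# Base change of the relative dualizing complex of a flat finite type ring map
-/

set_option autoImplicit false
set_option linter.style.haveILetI false
universe u
open CategoryTheory CategoryTheory.Limits TensorProduct

namespace Groth.Agent.Lib.Helper13.RelDual

open Groth.Agent.Lib.Helper13.BD Groth.Agent.Lib.Helper13.DR Groth.Agent.Lib.Helper13.PC
  Groth.Agent.Lib.Helper13.Coind Groth.Agent.Lib.Helper13.Shriek
open DerivedCategory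

attribute [local instance] HasDerivedCategory.standard

section BaseChange

open MvPolynomial

attribute [local instance] MvPolynomial.algebraMvPolynomial Algebra.TensorProduct.rightAlgebra

variable (R A : Type u) [CommRing R] [CommRing A] [IsNoetherianRing R] [IsNoetherianRing A]
  [Algebra R A] [Module.Flat R A]

/-- **Base change of the relative dualizing complex**: for a flat finite type `R → A` presented by
`ψ : R[x₁,…,xₙ] → A` and any ring map `R → R'`, the base change of `RHom_P(A, P)[n]` to
`R' ⊗_R A` is `RHom_{P'}(A', P')[n]` for the base changed presentation. -/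
theorem nonempty_LBaseChange_Rco_baseChange (n : ℕ) (ψ : MvPolynomial (Fin n) R →ₐ[R] A)
    (hψ : Function.Surjective ψ) (R' : Type u) [CommRing R'] [Algebra R R'] :
    ∃ ψ₁ : MvPolynomial (Fin n) R' →ₐ[R'] R' ⊗[R] A, Function.Surjective ψ₁ ∧
      Nonempty ((DRing.LBaseChange
          (Algebra.TensorProduct.includeRight : A →ₐ[R] R' ⊗[R] A).toRingHom).obj
        (((Rco ψ.toRingHom).obj
          (Dual.inD (MvPolynomial (Fin n) R) (MvPolynomial (Fin n) R)))⟦(n : ℤ)⟧) ≅
        Sh (algebraMap R' (MvPolynomial (Fin n) R')) (ψ₁ : MvPolynomial (Fin n) R' →+* R' ⊗[R] A)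
          n (Dual.inD R' R')) := by
  let k := R'
  let P := MvPolynomial (Fin n) R
  let P' := MvPolynomial (Fin n) k
  let A' := k ⊗[R] A
  letI : Algebra P A := ψ.toRingHom.toAlgebra
  have : IsScalarTower R P A := IsScalarTower.of_algebraMap_eq fun r => (ψ.commutes r).symm
  have hperf : DRing.IsPerfectModule P A := isPerfectModule_of_flat R A n ψ hψ
  let ψ' : P' →ₐ[k] A' := MvPolynomial.aeval (fun i => (1 : k) ⊗ₜ[R] ψ (MvPolynomial.X i))
  letI : Algebra P' A' := ψ'.toRingHom.toAlgebra
  letI : Algebra P A' := ((algebraMap A A').comp (algebraMap P A)).toAlgebra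
  haveI : IsScalarTower P A A' := IsScalarTower.of_algebraMap_eq (fun _ => rfl)
  haveI : IsScalarTower k P' A' := IsScalarTower.of_algebraMap_eq (fun c => (ψ'.commutes c).symm)
  have hcomm : ((algebraMap A A').comp ψ.toRingHom : P →+* A') =
      ψ'.toRingHom.comp (MvPolynomial.map (algebraMap R k)) := by
    apply MvPolynomial.ringHom_ext
    · intro r
      change (1 : k) ⊗ₜ[R] ψ (MvPolynomial.C r) = ψ' (MvPolynomial.map (algebraMap R k) (MvPolynomial.C r))
      rw [MvPolynomial.map_C, show ψ' (MvPolynomial.C (algebraMap R k r)) =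
        algebraMap k A' (algebraMap R k r) from ψ'.commutes _,
        show ψ (MvPolynomial.C r) = algebraMap R A r from ψ.commutes r,
        Algebra.TensorProduct.algebraMap_apply, Algebra.algebraMap_self, RingHom.id_apply,
        Algebra.algebraMap_eq_smul_one r, Algebra.algebraMap_eq_smul_one r,
        TensorProduct.smul_tmul]
    · intro i
      change (1 : k) ⊗ₜ[R] ψ (MvPolynomial.X i) = ψ' (MvPolynomial.map (algebraMap R k) (MvPolynomial.X i))
      rw [MvPolynomial.map_X]
      change _ = MvPolynomial.aeval (fun i => (1 : k) ⊗ₜ[R] ψ (MvPolynomial.X i)) (MvPolynomial.X i)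
      rw [MvPolynomial.aeval_X]
  haveI : IsScalarTower P P' A' := IsScalarTower.of_algebraMap_eq (fun p => by
    exact RingHom.congr_fun hcomm p)
  haveI : IsScalarTower R P' A' := IsScalarTower.of_algebraMap_eq (fun r => by
    rw [IsScalarTower.algebraMap_apply R k A', IsScalarTower.algebraMap_apply R k P',
      ← IsScalarTower.algebraMap_apply k P' A'])
  haveI : IsScalarTower R A A' := Algebra.TensorProduct.right_isScalarTower
  haveI h1 : Algebra.IsPushout R A k A' := inferInstance
  haveI h2 : Algebra.IsPushout P A P' A' :=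
    (Algebra.IsPushout.comp_iff R P k (S' := P') (T := A) (T' := A')).1 h1
  haveI h3 : Algebra.IsPushout P P' A A' := Algebra.IsPushout.symm h2
  have hq := Groth.Agent.Lib.Helper13.TI.quasiIso_ext_π'_of_flat R P k P' A
  obtain ⟨ι⟩ := Groth.Agent.Lib.Helper13.RcoBC.nonempty_LBaseChange_Rco_iso P A P' A' hψ hperf hq
  have hs' : Function.Surjective ψ'.toRingHom :=
    Groth.Agent.Lib.Helper13.RcoBC.surjective_algebraMap_of_isPushout P A P' A' hψ
  refine ⟨ψ', hs', ⟨?_⟩⟩
  exact LShift (algebraMap A A') (n : ℤ) ((Rco (algebraMap P A)).obj (Dual.inD P P)) ≪≫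
    (CategoryTheory.shiftFunctor (Dual.D A') (n : ℤ)).mapIso
      (ι ≪≫ ((Rco ψ'.toRingHom).mapIso (LBaseChangeSelfIso k P')).symm)

end BaseChange

end Groth.Agent.Lib.Helper13.RelDual
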