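import Groth.Agent.Lib.Helper13.RelPCTensor
import Groth.Agent.Lib.Helper13.DRingProjFormula
import Groth.Agent.Lib.Helper13.TorAmpLocal
import Groth.Agent.Lib.Helper13.DRingLDerived

set_option autoImplicit false
universe u
open CategoryTheory CategoryTheory.Limits MonoidalCategory
open PCoh

namespace Groth.Agent.Lib.Helper13.DR

open Groth.Agent.Lib.Helper13.PC Groth.Agent.Lib.Helper13.BS
open DerivedCategory

attribute [local instance] HasDerivedCategory.standard

section ResExt

variable (A B : Type u) [CommRing A] [CommRing B] [Algebra A B]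

/-- `(B ⊗_A X)|_A ≅ X ⊗_A B`, naturally in `X`. -/
noncomputable def resExtNatIso :
    ModuleCat.extendScalars.{u, u, u} (algebraMap A B) ⋙
      ModuleCat.restrictScalars.{u} (algebraMap A B) ≅ tensorRight (ModuleCat.of A B) :=
  Functor.isoWhiskerLeft (ModuleCat.extendScalars.{u, u, u} (algebraMap A B))
    (Functor.isoWhiskerRight (MonoidalCategory.rightUnitorNatIso (ModuleCat.{u} B)).symm
      (ModuleCat.restrictScalars.{u} (algebraMap A B))) ≪≫ projNatIsoRight A B B

/-- `(B ⊗_A X)|_A ≅ X ⊗_A B` for complexes. -/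
noncomputable def resExtCxIso (X : DRing.Cx A) :
    (DRing.restrictCx (algebraMap A B)).obj ((extendCx A B).obj X) ≅
      (tensorCx (ModuleCat.of A B)).obj X :=
  HomologicalComplex.Hom.isoOfComponents (fun i => (resExtNatIso A B).app (X.X i))
    (fun i j _ => ((resExtNatIso A B).hom.naturality (X.d i j)).symm)

end ResExt

section TwoPres

variable {R A B : Type u} [CommRing R] [CommRing A] [CommRing B]
  [Algebra R A] [Algebra A B] [Algebra R B] [IsScalarTower R A B]

/-- Relative pseudo-coherence over `R` of an object of `D(B)`, tested on the presentation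
`R[x][y] → A[y] → B` built from presentations of `A` over `R` and of `B` over `A`. -/
theorem isRelPC_iff_of_two_presentations {n k : ℕ} (α : MvPolynomial (Fin n) R →ₐ[R] A)
    (hα : Function.Surjective α) (β : MvPolynomial (Fin k) A →ₐ[A] B)
    (hβ : Function.Surjective β) (K : Dual.D B) (m : ℤ) :
    DerCA.IsRelPseudoCoherent R B m K ↔
      IsNPC (Pff (MvPolynomial (Fin k) (MvPolynomial (Fin n) R))) m
        ((DRing.restrictD (MvPolynomial.map (σ := Fin k) (α : MvPolynomial (Fin n) R →+* A))).obj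
          ((DRing.restrictD (β : MvPolynomial (Fin k) A →+* B)).obj K)) := by
  let e : MvPolynomial (Fin (k + n)) R ≃ₐ[R] MvPolynomial (Fin k) (MvPolynomial (Fin n) R) :=
    (MvPolynomial.renameEquiv R finSumFinEquiv.symm).trans (MvPolynomial.sumAlgEquiv R (Fin k) (Fin n))
  let γ : MvPolynomial (Fin (k + n)) R →ₐ[R] B :=
    (β.restrictScalars R).comp ((MvPolynomial.mapAlgHom α).comp e.toAlgHom)
  have hγ : Function.Surjective γ :=
    hβ.comp ((MvPolynomial.map_surjective _ hα).comp e.surjective)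
  rw [isRelPseudoCoherent_iff γ hγ m]
  rw [isNPC_restrictD_comp_ringEquiv_iff e.toRingEquiv
    ((β : MvPolynomial (Fin k) A →+* B).comp
      (MvPolynomial.map (σ := Fin k) (α : MvPolynomial (Fin n) R →+* A)))
    (γ : MvPolynomial (Fin (k + n)) R →+* B) rfl K m]
  obtain ⟨e1⟩ := nonempty_restrictD_comp
    (MvPolynomial.map (σ := Fin k) (α : MvPolynomial (Fin n) R →+* A))
    (β : MvPolynomial (Fin k) A →+* B) K
  exact ⟨fun h => h.of_iso e1.symm, fun h => h.of_iso e1⟩

attribute [local instance] MvPolynomial.algebraMvPolynomial in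
/-- **Base change of relative pseudo-coherence, complex level.**  `F` a bounded above complex of
flat `A`-modules which is `m`-pseudo-coherent relative to `R`; `A[y] → B` a presentation with `B`
pseudo-coherent over `A[y]`.  Then `B ⊗_A F` is `m`-pseudo-coherent relative to `R`. -/
theorem isRelPC_extendCx_of_isPCHom {n k : ℕ} (α : MvPolynomial (Fin n) R →ₐ[R] A)
    (hα : Function.Surjective α) (β : MvPolynomial (Fin k) A →ₐ[A] B)
    (hβ : Function.Surjective β) (hβPC : IsPCHom (β : MvPolynomial (Fin k) A →+* B))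
    (F : DRing.Cx A) (hfl : ∀ i : ℤ, Module.Flat A (F.X i)) (t : ℤ)
    (ht : ∀ i : ℤ, t < i → IsZero (F.X i)) (m : ℤ)
    (h : IsNPC (Pff (MvPolynomial (Fin n) R)) m
      (Q.obj ((DRing.restrictCx (α : MvPolynomial (Fin n) R →+* A)).obj F))) :
    DerCA.IsRelPseudoCoherent R B m (Q.obj ((extendCx A B).obj F)) := by
  rw [isRelPC_iff_of_two_presentations α hα β hβ]
  let _ : Algebra (MvPolynomial (Fin n) R) A := (α : MvPolynomial (Fin n) R →+* A).toAlgebra
  let _ : Algebra (MvPolynomial (Fin k) A) B := (β : MvPolynomial (Fin k) A →+* B).toAlgebra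
  have : IsScalarTower A (MvPolynomial (Fin k) A) B :=
    IsScalarTower.of_algebraMap_eq (fun a => (β.commutes a).symm)
  -- the complex `F[y]`
  let F' : DRing.Cx (MvPolynomial (Fin k) A) := (extendCx A (MvPolynomial (Fin k) A)).obj F
  have hfl' : ∀ i : ℤ, Module.Flat (MvPolynomial (Fin k) A) (F'.X i) := fun i =>
    Pfl_extendScalars (MvPolynomial (Fin k) A) (hfl i)
  have ht' : ∀ i : ℤ, t < i → IsZero (F'.X i) := fun i hi =>
    Functor.map_isZero (ModuleCat.extendScalars.{u, u, u} (algebraMap A (MvPolynomial (Fin k) A)))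
      (ht i hi)
  have h0 : IsNPC (Pff (MvPolynomial (Fin k) (MvPolynomial (Fin n) R))) m
      (Q.obj ((DRing.restrictCx (MvPolynomial.map (σ := Fin k)
        (α : MvPolynomial (Fin n) R →+* A))).obj F')) :=
    (isNPC_extendCx_of_flat (MvPolynomial (Fin n) R) (MvPolynomial (Fin k) (MvPolynomial (Fin n) R))
      m _ h).of_iso (Q.mapIso (pbcCxIso (MvPolynomial (Fin n) R) A
        (MvPolynomial (Fin k) (MvPolynomial (Fin n) R)) (MvPolynomial (Fin k) A) F))
  have hT := tenPC_of_isPC hfl' ht' h0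
    ((ModuleCat.restrictScalars.{u} (β : MvPolynomial (Fin k) A →+* B)).obj (ModuleCat.of B B)) hβPC
  have hT' : TenPC (MvPolynomial.map (σ := Fin k) (α : MvPolynomial (Fin n) R →+* A)) F' m
      (ModuleCat.of (MvPolynomial (Fin k) A) B) :=
    hT.of_iso (restrEquiv (A := MvPolynomial (Fin k) A) B).toModuleIso
  have e1 := resExtCxIso (MvPolynomial (Fin k) A) B F'
  have e2 : (extendCx (MvPolynomial (Fin k) A) B).obj F' ≅ (extendCx A B).obj F :=
    Groth.Agent.Lib.Helper13.DV.extCxCompIso (algebraMap A (MvPolynomial (Fin k) A))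
      (algebraMap (MvPolynomial (Fin k) A) B) F ≪≫
      eqToIso (by rw [← IsScalarTower.algebraMap_eq A (MvPolynomial (Fin k) A) B])
  refine IsNPC.of_iso hT' ?_
  refine Q.mapIso ((DRing.restrictCx _).mapIso (e1.symm ≪≫
    (DRing.restrictCx (β : MvPolynomial (Fin k) A →+* B)).mapIso e2)) ≪≫ ?_
  exact ((restrictDQIso _ _).symm ≪≫ (DRing.restrictD _).mapIso (restrictDQIso _ _).symm)

lemma isRelPC_of_iso {K K' : Dual.D A} (e : K ≅ K') {m : ℤ}
    (h : DerCA.IsRelPseudoCoherent R A m K) : DerCA.IsRelPseudoCoherent R A m K' := by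
  obtain ⟨n, α, hα, -⟩ := id h
  rw [isRelPseudoCoherent_iff α hα m] at h ⊢
  exact h.of_iso ((DRing.restrictD _).mapIso e)

/-- A bounded above flat resolution adapted to a relatively pseudo-coherent object. -/
lemma exists_flat_resolution_of_isRelPC {n : ℕ} (α : MvPolynomial (Fin n) R →ₐ[R] A)
    (K : Dual.D A) {m : ℤ}
    (h : IsNPC (Pff (MvPolynomial (Fin n) R)) m
      ((DRing.restrictD (α : MvPolynomial (Fin n) R →+* A)).obj K)) :
    ∃ (F : DRing.Cx A) (t : ℤ), F.IsKProjective ∧ (∀ i : ℤ, Module.Flat A (F.X i)) ∧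
      (∀ i : ℤ, t < i → IsZero (F.X i)) ∧ Nonempty (Q.obj F ≅ K) := by
  obtain ⟨t, ht⟩ := exists_bound_of_isNPC h
  let E := Q.objPreimage K
  let e : Q.obj E ≅ K := Q.objObjPreimageIso K
  have hH : ∀ i : ℤ, t < i → IsZero (E.homology i) := fun i hi => by
    obtain ⟨e1⟩ := nonempty_homology_restrictD_iso (α : MvPolynomial (Fin n) R →+* A) K i
    have h1 := isZero_of_isZero_restrictScalars (α : MvPolynomial (Fin n) R →+* A) _
      ((ht i hi).of_iso e1.symm)
    exact h1.of_iso ((homologyQIso E i).symm ≪≫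
      (DerivedCategory.homologyFunctor (ModuleCat.{u} A) i).mapIso e)
  obtain ⟨F, φ, hφ, hproj, hz⟩ := exists_projective_quasiIso E t hH
  have hKP : F.IsKProjective := isKProjective_of_forall_projective F t hz hproj
  have : IsIso (Q.map φ) := by rw [isIso_Q_map_iff_quasiIso]; exact hφ
  exact ⟨F, t, hKP, fun i => flat_of_projective' _ (hproj i), hz, ⟨asIso (Q.map φ) ≪≫ e⟩⟩

/-- Derived base change along `A → B` preserves relative pseudo-coherence over `R` when `B` is
pseudo-coherent relative to `A`. -/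
theorem isRelPC_LBaseChange [Algebra.FiniteType A B]
    (hB : DerCA.IsRelPseudoCoherentModuleAll A B B)
    [DRing.HasLBaseChange (algebraMap A B)] (K : Dual.D A) (m : ℤ)
    (h : DerCA.IsRelPseudoCoherent R A m K) :
    DerCA.IsRelPseudoCoherent R B m ((DRing.LBaseChange (algebraMap A B)).obj K) := by
  obtain ⟨n, α, hα, -⟩ := id h
  obtain ⟨k, β, hβ⟩ := exists_presentation A B
  have hβPC := isPCHom_of_isRelPseudoCoherentModuleAll β hβ hB
  have h' := (isRelPseudoCoherent_iff α hα m K).1 h
  obtain ⟨F, t, hKP, hfl, hz, ⟨eK⟩⟩ := exists_flat_resolution_of_isRelPC α K h'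
  have i1 := LBaseChangeIso (algebraMap A B) F
  refine isRelPC_of_iso (i1.symm ≪≫ (DRing.LBaseChange (algebraMap A B)).mapIso eK) ?_
  refine isRelPC_extendCx_of_isPCHom α hα β hβ hβPC F hfl t hz m ?_
  exact h'.of_iso ((DRing.restrictD _).mapIso eK.symm ≪≫ restrictDQIso _ F)

/-- Flat base change of relatively pseudo-coherent modules. -/
theorem isRelPCModule_tensor_of_flat [Algebra.FiniteType A B] [Module.Flat A B]
    (hB : DerCA.IsRelPseudoCoherentModuleAll A B B) (m : ℤ) (M : Type u) [AddCommGroup M]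
    [Module A M] (h : DerCA.IsRelPseudoCoherentModule R A m M) :
    DerCA.IsRelPseudoCoherentModule R B m (TensorProduct A B M) := by
  change DerCA.IsRelPseudoCoherent R A m (Dual.inD A M) at h
  change DerCA.IsRelPseudoCoherent R B m (Dual.inD B (TensorProduct A B M))
  obtain ⟨n, α, hα, -⟩ := id h
  obtain ⟨k, β, hβ⟩ := exists_presentation A B
  have hβPC := isPCHom_of_isRelPseudoCoherentModuleAll β hβ hB
  have h' := (isRelPseudoCoherent_iff α hα m _).1 h
  obtain ⟨F, t, hKP, hfl, hz, ⟨eK⟩⟩ := exists_flat_resolution_of_isRelPC α _ h'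
  refine isRelPC_of_iso ((flatBCQIso A B F).symm ≪≫ (flatBC A B).mapIso eK ≪≫
    flatBCSingleIso A B M) ?_
  refine isRelPC_extendCx_of_isPCHom α hα β hβ hβPC F hfl t hz m ?_
  exact h'.of_iso ((DRing.restrictD _).mapIso eK.symm ≪≫ restrictDQIso _ F)

end TwoPres

end Groth.Agent.Lib.Helper13.DR
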