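import Groth.Agent.Lib.Helper13.RelPCLoc2
import Groth.Agent.Lib.Helper13.RelPCBC2

set_option autoImplicit false
universe u
open CategoryTheory CategoryTheory.Limits TensorProduct
open PCoh

namespace Groth.Agent.Lib.Helper13.DR

open Groth.Agent.Lib.Helper13.PC Groth.Agent.Lib.Helper13.BS
open DerivedCategory

attribute [local instance] HasDerivedCategory.standard

variable {R A : Type u} [CommRing R] [CommRing A] [Algebra R A]

/-- Finite presentation over a presentation is `(-1)`-pseudo-coherence relative to the base. -/
lemma finitePresentation_compHom_iff {n : ℕ} (α : MvPolynomial (Fin n) R →ₐ[R] A)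
    (hα : Function.Surjective α) (M : Type u) [AddCommGroup M] [Module A M] :
    @Module.FinitePresentation (MvPolynomial (Fin n) R) M _ _ (Module.compHom M α.toRingHom) ↔
      DerCA.IsRelPseudoCoherent R A (-1) (Dual.inD A M) := by
  rw [isRelPseudoCoherent_iff α hα]
  have h1 := isNPC_single_neg_one_iff ((ModuleCat.restrictScalars.{u}
    (α : MvPolynomial (Fin n) R →+* A)).obj (ModuleCat.of A M))
  refine Iff.trans ?_ (Iff.trans h1.symm ?_)
  · exact Iff.rfl
  · exact ⟨fun h => h.of_iso (restrictDSingleIso _ _).symm,
      fun h => h.of_iso (restrictDSingleIso _ _)⟩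

/-- The localized module as a base change, in `D`. -/
noncomputable def awaySingleIso (M : Type u) [AddCommGroup M] [Module A M] (f : A) :
    Q.obj ((extendCx A (Localization.Away f)).obj
      ((HomologicalComplex.single (ModuleCat.{u} A) (ComplexShape.up ℤ) 0).obj (ModuleCat.of A M))) ≅
      Dual.inD (Localization.Away f) (LocalizedModule (Submonoid.powers f) M) :=
  (flatBCQIso A (Localization.Away f) _).symm ≪≫
    (flatBC A (Localization.Away f)).mapIso
      ((DerivedCategory.singleFunctorIsoCompQ (ModuleCat.{u} A) 0).app (ModuleCat.of A M)).symm ≪≫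
    flatBCSingleIso A (Localization.Away f) M ≪≫
    (DerivedCategory.singleFunctor (ModuleCat.{u} (Localization.Away f)) 0).mapIso
      ((IsLocalizedModule.isBaseChange (Submonoid.powers f) (Localization.Away f)
        (LocalizedModule.mkLinearMap (Submonoid.powers f) M)).equiv).toModuleIso

/-- Relative pseudo-coherence of a module is local on the source. -/
theorem isRelPCModule_iff_away [Algebra.FiniteType R A] (M : Type u) [AddCommGroup M] [Module A M]
    (m : ℤ) {r : ℕ} (f : Fin r → A) (hf : Ideal.span (Set.range f) = ⊤) :
    DerCA.IsRelPseudoCoherent R A m (Dual.inD A M) ↔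
      ∀ i, DerCA.IsRelPseudoCoherent R (Localization.Away (f i)) m
        (Dual.inD (Localization.Away (f i)) (LocalizedModule (Submonoid.powers (f i)) M)) := by
  let K : DRing.Cx A :=
    (HomologicalComplex.single (ModuleCat.{u} A) (ComplexShape.up ℤ) 0).obj (ModuleCat.of A M)
  let eK : Dual.inD A M ≅ Q.obj K :=
    (DerivedCategory.singleFunctorIsoCompQ (ModuleCat.{u} A) 0).app (ModuleCat.of A M)
  constructor
  · intro h i
    exact isRelPC_of_iso (awaySingleIso M (f i))
      (isRelPC_away_of_isRelPC K m (f i) (isRelPC_of_iso eK h))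
  · intro h
    exact isRelPC_of_iso eK.symm (isRelPC_of_away K m f hf
      (fun i => isRelPC_of_iso (awaySingleIso M (f i)).symm (h i)))

end Groth.Agent.Lib.Helper13.DR
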