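import Groth.Agent.Lib.Helper13.RelPCLoc3
import Mathlib.RingTheory.TensorProduct.MvPolynomial

set_option autoImplicit false
universe u
open CategoryTheory CategoryTheory.Limits
open PCoh

namespace Groth.Agent.Lib.Helper13.DR

open Groth.Agent.Lib.Helper13.PC Groth.Agent.Lib.Helper13.BS
open DerivedCategory

attribute [local instance] HasDerivedCategory.standard

section Pushout

variable (R A R' A' : Type u) [CommRing R] [CommRing A] [Algebra R A] [CommRing R'] [Algebra R R']
  [CommRing A'] [Algebra R A'] [Algebra A A'] [Algebra R' A'] [IsScalarTower R A A']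
  [IsScalarTower R R' A'] [Algebra.IsPushout R R' A A']

/-- `A' ⊗_A A ≅ A'` in `ModuleCat A'`. -/
noncomputable def extendSelfIso :
    (ModuleCat.extendScalars.{u, u, u} (algebraMap A A')).obj (ModuleCat.of A A) ≅
      ModuleCat.of A' A' :=
  ((extendScalarsEquiv A' (ModuleCat.of A A)).trans
    (TensorProduct.AlgebraTensorModule.rid A A' A')).toModuleIso

/-- Flat base change of a pseudo-coherent ring map along a pushout square. -/
theorem isPCHom_of_isPushout_flat [Module.Flat R R'] (h : IsPCHom (algebraMap R A)) :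
    IsPCHom (algebraMap R' A') := by
  intro n
  obtain ⟨E₀, hE₀, ⟨e⟩⟩ := h n
  have e1 : (flatBC R R').obj ((resSingle (algebraMap R A)).obj (ModuleCat.of A A)) ≅
      (DerivedCategory.singleFunctor (ModuleCat.{u} R') 0).obj
        ((ModuleCat.extendScalars.{u, u, u} (algebraMap R R')).obj
          ((ModuleCat.restrictScalars.{u} (algebraMap R A)).obj (ModuleCat.of A A))) :=
    ((ModuleCat.extendScalars.{u, u, u} (algebraMap R R')).mapDerivedCategorySingleFunctor 0).app _
  have e2 : (ModuleCat.extendScalars.{u, u, u} (algebraMap R R')).obj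
      ((ModuleCat.restrictScalars.{u} (algebraMap R A)).obj (ModuleCat.of A A)) ≅
      (ModuleCat.restrictScalars.{u} (algebraMap R' A')).obj (ModuleCat.of A' A') :=
    pbcIso R A R' A' (ModuleCat.of A A) ≪≫
      (ModuleCat.restrictScalars.{u} (algebraMap R' A')).mapIso (extendSelfIso A A')
  refine ⟨(extendCx R R').obj E₀, ?_,
    ⟨(flatBCQIso R R' E₀).symm ≪≫ (flatBC R R').mapIso e ≪≫ e1 ≪≫
      (DerivedCategory.singleFunctor (ModuleCat.{u} R') 0).mapIso e2⟩⟩
  obtain ⟨⟨b, hb⟩, hP⟩ := hE₀
  exact ⟨⟨b, fun i hi => Functor.map_isZero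
    (ModuleCat.extendScalars.{u, u, u} (algebraMap R R')) (hb i hi)⟩,
    fun i hi => Pff_extendScalars R' (hP i hi)⟩

end Pushout

section PolyExt

attribute [local instance] MvPolynomial.algebraMvPolynomial

lemma isPCHom_mvPolynomial_map {P A : Type u} [CommRing P] [CommRing A] (α : P →+* A)
    (hα : IsPCHom α) (k : ℕ) : IsPCHom (MvPolynomial.map (σ := Fin k) α) := by
  let _ : Algebra P A := α.toAlgebra
  exact isPCHom_of_isPushout_flat P A (MvPolynomial (Fin k) P) (MvPolynomial (Fin k) A) hα

/-- A presentation exhibits `A` as a pseudo-coherent module iff `A` is pseudo-coherent relative to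
the base. -/
lemma isPCHom_of_isRelPseudoCoherentModuleAll {R A : Type u} [CommRing R] [CommRing A]
    [Algebra R A] {n : ℕ} (α : MvPolynomial (Fin n) R →ₐ[R] A) (hα : Function.Surjective α)
    (hA : DerCA.IsRelPseudoCoherentModuleAll R A A) :
    IsPCHom (α : MvPolynomial (Fin n) R →+* A) := by
  intro j
  have := (isRelPseudoCoherent_iff α hα j (Dual.inD A A)).1 (hA j)
  exact this.of_iso (restrictDSingleIso (α : MvPolynomial (Fin n) R →+* A) (ModuleCat.of A A))

/-- Transitivity for relative pseudo-coherence when `A` is pseudo-coherent relative to `R`. -/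
theorem isRelPC_iff_of_isRelPCModule {R A B : Type u} [CommRing R] [CommRing A] [CommRing B]
    [Algebra R A] [Algebra A B] [Algebra R B] [IsScalarTower R A B] [Algebra.FiniteType R A]
    [Algebra.FiniteType A B] (hA : DerCA.IsRelPseudoCoherentModuleAll R A A) (K : Dual.D B)
    (m : ℤ) : DerCA.IsRelPseudoCoherent A B m K ↔ DerCA.IsRelPseudoCoherent R B m K := by
  obtain ⟨n, α, hα⟩ := exists_presentation R A
  obtain ⟨k, β, hβ⟩ := exists_presentation A B
  have hPC := isPCHom_of_isRelPseudoCoherentModuleAll α hα hA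
  let e : MvPolynomial (Fin (k + n)) R ≃ₐ[R] MvPolynomial (Fin k) (MvPolynomial (Fin n) R) :=
    (MvPolynomial.renameEquiv R finSumFinEquiv.symm).trans (MvPolynomial.sumAlgEquiv R (Fin k) (Fin n))
  let γ : MvPolynomial (Fin (k + n)) R →ₐ[R] B :=
    (β.restrictScalars R).comp ((MvPolynomial.mapAlgHom α).comp e.toAlgHom)
  have hγ : Function.Surjective γ :=
    hβ.comp ((MvPolynomial.map_surjective _ hα).comp e.surjective)
  rw [isRelPseudoCoherent_iff β hβ m, isRelPseudoCoherent_iff γ hγ m]
  rw [isNPC_restrictD_iff (isPCHom_mvPolynomial_map _ hPC k) m,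
    isNPC_restrictD_iff (isPCHom_of_ringEquiv e.toRingEquiv) m]
  obtain ⟨e1⟩ := nonempty_restrictD_comp
    (MvPolynomial.map (σ := Fin k) (α : MvPolynomial (Fin n) R →+* A))
    (β : MvPolynomial (Fin k) A →+* B) K
  obtain ⟨e2⟩ := nonempty_restrictD_comp
    (e.toRingEquiv : MvPolynomial (Fin (k + n)) R →+* MvPolynomial (Fin k) (MvPolynomial (Fin n) R))
    ((β : MvPolynomial (Fin k) A →+* B).comp
      (MvPolynomial.map (σ := Fin k) (α : MvPolynomial (Fin n) R →+* A))) K
  exact ⟨fun h => h.of_iso ((DRing.restrictD _).mapIso e1 ≪≫ e2),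
    fun h => h.of_iso (((DRing.restrictD _).mapIso e1 ≪≫ e2).symm)⟩

end PolyExt

end Groth.Agent.Lib.Helper13.DR
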