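import Groth.Agent.Lib.Helper13.DRingRelPC
import Mathlib.RingTheory.Localization.Away.AdjoinRoot
import Mathlib.RingTheory.MvPolynomial.Localization

set_option autoImplicit false
universe u
open CategoryTheory CategoryTheory.Limits
open PCoh

namespace Groth.Agent.Lib.Helper13.DR

open Groth.Agent.Lib.Helper13.PC
open DerivedCategory

attribute [local instance] HasDerivedCategory.standard

/-- the quotient map as a `B`-linear map to the restricted module. -/
noncomputable def quotLin (B : Type u) [CommRing B] (I : Ideal B) :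
    B →ₗ[B] ((ModuleCat.restrictScalars.{u} (Ideal.Quotient.mk I)).obj
      (ModuleCat.of (B ⧸ I) (B ⧸ I))) :=
  LinearMap.toSpanSingleton B ((ModuleCat.restrictScalars.{u} (Ideal.Quotient.mk I)).obj
      (ModuleCat.of (B ⧸ I) (B ⧸ I))) (show B ⧸ I from 1)

lemma quotLin_apply (B : Type u) [CommRing B] (I : Ideal B) (r : B) :
    quotLin B I r = (Ideal.Quotient.mk I r : B ⧸ I) := by
  change (Ideal.Quotient.mk I r) * (1 : B ⧸ I) = _
  simp

/-- `B/(g)` is a perfect `B`-module for a regular element `g`. -/
lemma isPCHom_quotient_span_singleton (B : Type u) [CommRing B] (g : B) (hreg : IsRegular g) :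
    IsPCHom (Ideal.Quotient.mk (Ideal.span {g})) := by
  let f : ModuleCat.of B B ⟶ ModuleCat.of B B :=
    ModuleCat.ofHom (LinearMap.toSpanSingleton B B g)
  let g' := ModuleCat.ofHom (quotLin B (Ideal.span {g}))
  have hg : ∀ r : B, g'.hom r = (Ideal.Quotient.mk (Ideal.span {g}) r : B ⧸ Ideal.span {g}) :=
    fun r => quotLin_apply B _ r
  have hf : ∀ r : B, f.hom r = r * g := fun r => rfl
  have zero' : ∀ r : B, g'.hom (f.hom r) = 0 := by
    intro r
    rw [hg, hf]
    exact Ideal.Quotient.eq_zero_iff_mem.2 (Ideal.mem_span_singleton'.2 ⟨r, rfl⟩)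
  have zero : f ≫ g' = 0 := by
    refine ModuleCat.hom_ext (LinearMap.ext fun r => ?_)
    exact zero' r
  let S : ShortComplex (ModuleCat.{u} B) := ShortComplex.mk f g' zero
  have hS : S.ShortExact := by
    refine { exact := ?_, mono_f := ?_, epi_g := ?_ }
    · rw [ShortComplex.ShortExact.moduleCat_exact_iff_function_exact]
      intro r
      constructor
      · intro hr
        have hr' : Ideal.Quotient.mk (Ideal.span {g}) r = 0 := by rw [← hg]; exact hr
        obtain ⟨q, hq⟩ := Ideal.mem_span_singleton'.1 (Ideal.Quotient.eq_zero_iff_mem.1 hr')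
        exact ⟨q, by change f.hom q = _; rw [hf, hq]⟩
      · rintro ⟨q, rfl⟩
        exact zero' q
    · rw [ModuleCat.mono_iff_injective]
      intro r s hrs
      change f.hom r = f.hom s at hrs
      rw [hf, hf] at hrs
      exact hreg.right hrs
    · rw [ModuleCat.epi_iff_surjective]
      intro c
      obtain ⟨c', hc'⟩ := Ideal.Quotient.mk_surjective (I := Ideal.span {g}) (show B ⧸ Ideal.span {g} from c)
      refine ⟨c', ?_⟩
      change g'.hom c' = c
      rw [hg]
      exact hc'
  intro n
  have hfree : IsPC (Pff B)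
      ((DerivedCategory.singleFunctor (ModuleCat.{u} B) 0).obj (ModuleCat.of B B)) :=
    isPC_single_of_Pfp ⟨(inferInstance : Module.Finite B B),
      (inferInstance : Module.Projective B B)⟩
  exact isNPC_obj₃ Pff_prod hqs_Pff hql_Pff hS.singleTriangle hS.singleTriangle_distinguished
    (hfree (n + 1)) (hfree n)

open Polynomial in
lemma isRegular_C_mul_X_sub_one (B : Type u) [CommRing B] (F : B) :
    IsRegular (C F * X - 1 : B[X]) := by
  rw [Commute.isRegular_iff (fun b => Commute.all _ b)]
  intro p q hpq
  have hpq' : (C F * X - 1) * (p - q) = 0 := by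
    rw [mul_sub]; exact sub_eq_zero.2 hpq
  have key : ∀ d : B[X], (C F * X - 1) * d = 0 → d = 0 := by
    intro d hd
    have hc : ∀ k : ℕ, d.coeff k = 0 := by
      intro k
      induction k with
      | zero =>
        have := congrArg (fun e => Polynomial.coeff e 0) hd
        simp only [sub_mul, one_mul, Polynomial.coeff_sub, Polynomial.coeff_zero] at this
        have h2 : (C F * X * d).coeff 0 = 0 := by
          rw [mul_assoc, mul_comm X d, Polynomial.coeff_C_mul, Polynomial.coeff_mul_X_zero, mul_zero]
        rw [h2, zero_sub, neg_eq_zero] at this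
        exact this
      | succ k ih =>
        have := congrArg (fun e => Polynomial.coeff e (k + 1)) hd
        simp only [sub_mul, one_mul, Polynomial.coeff_sub, Polynomial.coeff_zero] at this
        have h2 : (C F * X * d).coeff (k + 1) = 0 := by
          rw [mul_assoc, mul_comm X d, Polynomial.coeff_C_mul, Polynomial.coeff_mul_X, ih, mul_zero]
        rw [h2, zero_sub, neg_eq_zero] at this
        exact this
    exact Polynomial.ext (fun k => by rw [hc k, Polynomial.coeff_zero])
  exact sub_eq_zero.1 (key _ hpq')

open Polynomial in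
/-- `B_F` is a perfect `B[y]`-module via `y ↦ 1/F`. -/
lemma isPCHom_awayInv (B : Type u) [CommRing B] (F : B) (S : Type u) [CommRing S] [Algebra B S]
    [IsLocalization.Away F S] :
    IsPCHom (Polynomial.eval₂RingHom (algebraMap B S) (IsLocalization.Away.invSelf (S := S) F)) := by
  have : IsLocalization.Away F (AdjoinRoot (C F * X - 1 : B[X])) := IsLocalization.adjoin_inv F
  let e : AdjoinRoot (C F * X - 1 : B[X]) ≃ₐ[B] S :=
    IsLocalization.algEquiv (Submonoid.powers F) _ _
  have h1 : IsPCHom (AdjoinRoot.mk (C F * X - 1 : B[X])) :=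
    isPCHom_quotient_span_singleton B[X] _ (isRegular_C_mul_X_sub_one B F)
  have h2 := isPCHom_of_ringEquiv e.toRingEquiv
  refine (h1.comp h2).of_eq ?_
  apply Polynomial.ringHom_ext
  · intro b
    change e (AdjoinRoot.mk _ (C b)) = Polynomial.eval₂ (algebraMap B S) _ (C b)
    rw [Polynomial.eval₂_C, AdjoinRoot.mk_C, ← AdjoinRoot.algebraMap_eq, AlgEquiv.commutes]
  · change e (AdjoinRoot.mk _ X) = Polynomial.eval₂ (algebraMap B S) _ X
    rw [Polynomial.eval₂_X, AdjoinRoot.mk_X]
    have h3 : algebraMap B S F * e (AdjoinRoot.root (C F * X - 1 : B[X])) = 1 := by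
      rw [← AlgEquiv.commutes e F, ← map_mul, AdjoinRoot.algebraMap_eq, AdjoinRoot.root_isInv,
        map_one]
    have h4 := IsLocalization.Away.mul_invSelf (S := S) F
    exact (inv_unique h3 h4)

end Groth.Agent.Lib.Helper13.DR
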