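import Groth.Agent.Lib.Helper13.RelPCFin
import Groth.Agent.Lib.Helper13.DRingTensorSES
import Groth.Agent.Lib.Helper13.DRingTor2
import Mathlib.Algebra.Homology.DerivedCategory.ShortExact

set_option autoImplicit false
universe u
open CategoryTheory CategoryTheory.Limits MonoidalCategory
open PCoh

namespace Groth.Agent.Lib.Helper13.DR

open Groth.Agent.Lib.Helper13.PC Groth.Agent.Lib.Helper13.BS
open DerivedCategory

attribute [local instance] HasDerivedCategory.standard

instance additive_restrictCx {C' C : Type u} [CommRing C'] [CommRing C] (ψ : C' →+* C) :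
    (DRing.restrictCx ψ).Additive := by
  unfold DRing.restrictCx
  infer_instance

section TensorPC

variable {C' C : Type u} [CommRing C'] [CommRing C] (ψ : C' →+* C) (F : DRing.Cx C)

/-- The property `𝒢 d N`: `(F ⊗ N)|_{C'}` is `d`-pseudo-coherent. -/
def TenPC (d : ℤ) (N : ModuleCat.{u} C) : Prop :=
  IsNPC (Pff C') d (Q.obj ((DRing.restrictCx ψ).obj ((tensorCx N).obj F)))

variable {ψ F}

variable (ψ) in
lemma shortExact_restrict_tensorCxSC (hfl : ∀ i : ℤ, Module.Flat C (F.X i))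
    (S : ShortComplex (ModuleCat.{u} C)) (hS : S.ShortExact) :
    ((tensorCxSC F S).map (DRing.restrictCx ψ)).ShortExact := by
  apply HomologicalComplex.shortExact_of_degreewise_shortExact
  intro i
  have h1 := (tensorCxSC_shortExact F hfl S hS).map_of_exact
    (HomologicalComplex.eval (ModuleCat.{u} C) (ComplexShape.up ℤ) i)
  exact h1.map_of_exact (ModuleCat.restrictScalars.{u} ψ)

lemma TenPC.of_iso {d : ℤ} {N N' : ModuleCat.{u} C} (h : TenPC ψ F d N) (e : N ≅ N') :
    TenPC ψ F d N' :=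
  IsNPC.of_iso h (Q.mapIso ((DRing.restrictCx ψ).mapIso (tensorCxMapIso F e)))

lemma TenPC.of_le {d d' : ℤ} {N : ModuleCat.{u} C} (h : TenPC ψ F d N) (hd : d ≤ d') :
    TenPC ψ F d' N :=
  IsNPC.of_le hd h

lemma TenPC.obj₃ (hfl : ∀ i : ℤ, Module.Flat C (F.X i)) {d : ℤ}
    (S : ShortComplex (ModuleCat.{u} C)) (hS : S.ShortExact) (h₁ : TenPC ψ F (d + 1) S.X₁)
    (h₂ : TenPC ψ F d S.X₂) : TenPC ψ F d S.X₃ :=
  isNPC_obj₃ Pff_prod hqs_Pff hql_Pff _
    (triangleOfSES_distinguished (shortExact_restrict_tensorCxSC ψ hfl S hS)) h₁ h₂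

lemma TenPC.obj₂ (hfl : ∀ i : ℤ, Module.Flat C (F.X i)) {d : ℤ}
    (S : ShortComplex (ModuleCat.{u} C)) (hS : S.ShortExact) (h₁ : TenPC ψ F d S.X₁)
    (h₃ : TenPC ψ F d S.X₃) : TenPC ψ F d S.X₂ :=
  isNPC_obj₂ Pff_prod hqs_Pff hql_Pff _
    (triangleOfSES_distinguished (shortExact_restrict_tensorCxSC ψ hfl S hS)) h₁ h₃

/-- Above the top degree of `F` everything is trivially pseudo-coherent. -/
lemma TenPC.of_bound {t : ℤ} (ht : ∀ i : ℤ, t < i → IsZero (F.X i)) {d : ℤ} (hd : t < d)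
    (N : ModuleCat.{u} C) : TenPC ψ F d N := by
  refine isNPC_of_acyclic (fun i hi => ?_)
  refine IsZero.of_iso ?_ (homologyQIso _ i)
  refine ShortComplex.isZero_homology_of_isZero_X₂ _ ?_
  have h1 : IsZero (((tensorCx N).obj F).X i) :=
    Functor.map_isZero (MonoidalCategory.tensorRight N) (ht i (by lia))
  exact Functor.map_isZero (ModuleCat.restrictScalars.{u} ψ) h1

lemma TenPC.unit {m : ℤ} (h0 : IsNPC (Pff C') m (Q.obj ((DRing.restrictCx ψ).obj F))) :
    TenPC ψ F m (𝟙_ (ModuleCat.{u} C)) :=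
  IsNPC.of_iso h0 (Q.mapIso ((DRing.restrictCx ψ).mapIso (tensorCxUnitIso F).symm))

lemma TenPC.of_isZero {d : ℤ} {N : ModuleCat.{u} C} (hN : IsZero N) : TenPC ψ F d N := by
  refine isNPC_of_forall_isZero _ (fun i => ?_) d
  have h1 : IsZero (((tensorCx N).obj F).X i) := by
    rw [isZero_iff_subsingleton]
    have := (isZero_iff_subsingleton _).1 hN
    change Subsingleton (TensorProduct C (F.X i) N)
    infer_instance
  exact Functor.map_isZero (ModuleCat.restrictScalars.{u} ψ) h1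

lemma TenPC.biprod (hfl : ∀ i : ℤ, Module.Flat C (F.X i)) {d : ℤ} {N₁ N₂ : ModuleCat.{u} C}
    (h₁ : TenPC ψ F d N₁) (h₂ : TenPC ψ F d N₂) : TenPC ψ F d (N₁ ⊞ N₂) := by
  let S : ShortComplex (ModuleCat.{u} C) := ShortComplex.mk (biprod.inl : N₁ ⟶ N₁ ⊞ N₂)
    (biprod.snd : N₁ ⊞ N₂ ⟶ N₂) (by simp)
  have hS : S.ShortExact :=
    (ShortComplex.Splitting.ofHasBinaryBiproduct N₁ N₂).shortExact
  exact TenPC.obj₂ hfl S hS h₁ h₂

lemma TenPC.pi (hfl : ∀ i : ℤ, Module.Flat C (F.X i)) {m : ℤ}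
    (h0 : IsNPC (Pff C') m (Q.obj ((DRing.restrictCx ψ).obj F))) (k : ℕ) :
    TenPC ψ F m (ModuleCat.of C (Fin k → C)) := by
  induction k with
  | zero =>
    exact TenPC.of_isZero (ModuleCat.isZero_of_subsingleton (ModuleCat.of C (Fin 0 → C)))
  | succ k ih =>
    have e : ModuleCat.of C C ⊞ ModuleCat.of C (Fin k → C) ≅ ModuleCat.of C (Fin (k + 1) → C) :=
      ModuleCat.biprodIsoProd _ _ ≪≫
        (Fin.consLinearEquiv C (fun _ : Fin (k + 1) => C)).toModuleIso
    exact (TenPC.biprod hfl (TenPC.unit h0) ih).of_iso e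

end TensorPC

/-- A pseudo-coherent module has a finite free cover with pseudo-coherent kernel. -/
lemma exists_shortExact_of_isPC {C : Type u} [CommRing C] {N : ModuleCat.{u} C}
    (hN : IsPC (Pff C) ((DerivedCategory.singleFunctor (ModuleCat.{u} C) 0).obj N)) :
    ∃ (k : ℕ) (S : ShortComplex (ModuleCat.{u} C)), S.ShortExact ∧
      Nonempty (S.X₂ ≅ ModuleCat.of C (Fin k → C)) ∧ Nonempty (S.X₃ ≅ N) ∧
      IsPC (Pff C) ((DerivedCategory.singleFunctor (ModuleCat.{u} C) 0).obj S.X₁) := by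
  have hfin : Module.Finite C N :=
    (isOfFiniteType_Pff_iff N).1 (isOfFiniteType_of_isNPC_single hqs_Pff (hN 0))
  obtain ⟨k, f, hf⟩ := Module.Finite.exists_fin' C N
  let π : ModuleCat.of C (Fin k → C) ⟶ N := ModuleCat.ofHom f
  have : Epi π := (ModuleCat.epi_iff_surjective π).2 hf
  have hS := shortExact_kernel π
  refine ⟨k, _, hS, ⟨Iso.refl _⟩, ⟨Iso.refl _⟩, fun n => ?_⟩
  have hfree : IsPC (Pff C)
      ((DerivedCategory.singleFunctor (ModuleCat.{u} C) 0).obj (ModuleCat.of C (Fin k → C))) :=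
    isPC_single_of_Pfp ⟨(inferInstance : Module.Finite C (Fin k → C)),
      (inferInstance : Module.Projective C (Fin k → C))⟩
  have h := isNPC_obj₁ Pff_prod hqs_Pff hql_Pff hS.singleTriangle hS.singleTriangle_distinguished
    (n := n - 1) (hfree _) (hN _)
  rw [show n - 1 + 1 = n by ring] at h
  exact h

section TensorPC2

variable {C' C : Type u} [CommRing C'] [CommRing C] {ψ : C' →+* C} {F : DRing.Cx C}

/-- **Tensoring with a pseudo-coherent module**: if `F` is a bounded above termwise flat complex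
of `C`-modules whose restriction to `C'` is `m`-pseudo-coherent, and `N` is a pseudo-coherent
`C`-module, then `(F ⊗ N)|_{C'}` is `m`-pseudo-coherent. -/
theorem tenPC_of_isPC (hfl : ∀ i : ℤ, Module.Flat C (F.X i)) {t m : ℤ}
    (ht : ∀ i : ℤ, t < i → IsZero (F.X i))
    (h0 : IsNPC (Pff C') m (Q.obj ((DRing.restrictCx ψ).obj F))) (N : ModuleCat.{u} C)
    (hN : IsPC (Pff C) ((DerivedCategory.singleFunctor (ModuleCat.{u} C) 0).obj N)) :
    TenPC ψ F m N := by
  have key : ∀ (j : ℕ) (N : ModuleCat.{u} C),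
      IsPC (Pff C) ((DerivedCategory.singleFunctor (ModuleCat.{u} C) 0).obj N) →
      ∀ d : ℤ, m ≤ d → t + 1 - j ≤ d → TenPC ψ F d N := by
    intro j
    induction j with
    | zero =>
      intro N _ d _ hd
      exact TenPC.of_bound ht (by simp at hd; lia) N
    | succ j ih =>
      intro N hN d hmd hd
      obtain ⟨k, S, hS, ⟨e₂⟩, ⟨e₃⟩, h₁⟩ := exists_shortExact_of_isPC hN
      have h1 : TenPC ψ F (d + 1) S.X₁ :=
        ih S.X₁ h₁ (d + 1) (by lia) (by push_cast at hd; lia)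
      have h2 : TenPC ψ F d S.X₂ := ((TenPC.pi hfl h0 k).of_le hmd).of_iso e₂.symm
      exact (TenPC.obj₃ hfl S hS h1 h2).of_iso e₃
  exact key (t + 1 - m).toNat N hN m le_rfl (by lia)

end TensorPC2

end Groth.Agent.Lib.Helper13.DR
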