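import Groth.Agent.Lib.Helper13.TorIndep9
import Groth.Agent.Lib.Helper13.RcoBC1
import Groth.Agent.Lib.Helper13.DRingRelPC
import Groth.Agent.Lib.Helper13.Shriek2
import Groth.Agent.S2137

/-!
# Base change of relative pseudo-coherence along a Tor-independent ring map
-/

set_option autoImplicit false
set_option linter.unusedSectionVars false
set_option linter.style.haveILetI false
set_option maxHeartbeats 800000

open CategoryTheory CategoryTheory.Limits TensorProduct

universe u

namespace Groth.Agent.Lib.Helper13.RP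

open DerivedCategory Groth.Agent.Lib.Helper13.DR Groth.Agent.Lib.Helper13.BS
  Groth.Agent.Lib.Helper13.PC PCoh

attribute [local instance] HasDerivedCategory.standard

open MvPolynomial

attribute [local instance] MvPolynomial.algebraMvPolynomial Algebra.TensorProduct.rightAlgebra

theorem isRelPC_LBaseChange_of_tor {R A R' : Type u} [CommRing R] [CommRing A] [CommRing R']
    [Algebra R A] [Algebra R R']
    (htor : ∀ p : ℕ, 0 < p → Subsingleton (DRing.Tor R p A R'))
    [DRing.HasLBaseChange (Algebra.TensorProduct.includeRight : A →ₐ[R] R' ⊗[R] A).toRingHom]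
    (K : Dual.D A) (m : ℤ) (hK : DerCA.IsRelPseudoCoherent R A m K) :
    DerCA.IsRelPseudoCoherent R' (R' ⊗[R] A) m
      ((DRing.LBaseChange
        (Algebra.TensorProduct.includeRight : A →ₐ[R] R' ⊗[R] A).toRingHom).obj K) := by
  obtain ⟨n, ψ, hψ, hK⟩ := hK
  let P := MvPolynomial (Fin n) R
  let P' := MvPolynomial (Fin n) R'
  let A' := R' ⊗[R] A
  letI : Algebra P A := ψ.toRingHom.toAlgebra
  have : IsScalarTower R P A := IsScalarTower.of_algebraMap_eq fun r => (ψ.commutes r).symm
  let ψ' : P' →ₐ[R'] A' := MvPolynomial.aeval (fun i => (1 : R') ⊗ₜ[R] ψ (MvPolynomial.X i))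
  letI : Algebra P' A' := ψ'.toRingHom.toAlgebra
  letI : Algebra P A' := ((algebraMap A A').comp (algebraMap P A)).toAlgebra
  haveI : IsScalarTower P A A' := IsScalarTower.of_algebraMap_eq (fun _ => rfl)
  haveI : IsScalarTower R' P' A' := IsScalarTower.of_algebraMap_eq (fun c => (ψ'.commutes c).symm)
  have hcomm : ((algebraMap A A').comp ψ.toRingHom : P →+* A') =
      ψ'.toRingHom.comp (MvPolynomial.map (algebraMap R R')) := by
    apply MvPolynomial.ringHom_ext
    · intro r
      change (1 : R') ⊗ₜ[R] ψ (MvPolynomial.C r) =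
        ψ' (MvPolynomial.map (algebraMap R R') (MvPolynomial.C r))
      rw [MvPolynomial.map_C, show ψ' (MvPolynomial.C (algebraMap R R' r)) =
        algebraMap R' A' (algebraMap R R' r) from ψ'.commutes _,
        show ψ (MvPolynomial.C r) = algebraMap R A r from ψ.commutes r,
        Algebra.TensorProduct.algebraMap_apply, Algebra.algebraMap_self, RingHom.id_apply,
        Algebra.algebraMap_eq_smul_one r, Algebra.algebraMap_eq_smul_one r,
        TensorProduct.smul_tmul]
    · intro i
      change (1 : R') ⊗ₜ[R] ψ (MvPolynomial.X i) =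
        ψ' (MvPolynomial.map (algebraMap R R') (MvPolynomial.X i))
      rw [MvPolynomial.map_X]
      change _ = MvPolynomial.aeval (fun i => (1 : R') ⊗ₜ[R] ψ (MvPolynomial.X i))
        (MvPolynomial.X i)
      rw [MvPolynomial.aeval_X]
  haveI : IsScalarTower P P' A' := IsScalarTower.of_algebraMap_eq (fun p => by
    exact RingHom.congr_fun hcomm p)
  haveI : IsScalarTower R P' A' := IsScalarTower.of_algebraMap_eq (fun r => by
    rw [IsScalarTower.algebraMap_apply R R' A', IsScalarTower.algebraMap_apply R R' P',
      ← IsScalarTower.algebraMap_apply R' P' A'])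
  haveI : IsScalarTower R A A' := Algebra.TensorProduct.right_isScalarTower
  haveI h1 : Algebra.IsPushout R A R' A' := inferInstance
  haveI h2 : Algebra.IsPushout P A P' A' :=
    (Algebra.IsPushout.comp_iff R P R' (S' := P') (T := A) (T' := A')).1 h1
  haveI h3 : Algebra.IsPushout P P' A A' := Algebra.IsPushout.symm h2
  have hq := Groth.Agent.Lib.Helper13.TI.quasiIso_ext_π'_of_tor R P R' P' A
    (fun p hp => htor p hp)
  have hs' : Function.Surjective ψ' :=
    Groth.Agent.Lib.Helper13.RcoBC.surjective_algebraMap_of_isPushout P A P' A' hψ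
  refine ⟨n, ψ', hs', ?_⟩
  have hcmp := Groth.Agent.Lib.Helper13.TI.isIso_cmp' P A P' A' hq (LBaseChangeAdj _)
    (LBaseChangeAdj _) (Groth.Agent.Lib.Helper13.TI.hsq P A P' A') K
  have h4 := Groth.Agent.S2137.result (algebraMap P P')
    ((DRing.restrictD (algebraMap P A)).obj K) m hK
  change DRing.IsPseudoCoherent P' m _
  rw [isPseudoCoherent_iff] at h4 ⊢
  exact h4.of_iso (@asIso _ _ _ _ _ hcmp)

end Groth.Agent.Lib.Helper13.RP
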