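import Mathlib.Algebra.Module.FinitePresentation
import Mathlib.RingTheory.Localization.BaseChange
import Mathlib.LinearAlgebra.TensorProduct.Tower

/-!
# Spreading out a contracting homotopy from a localization
-/

set_option autoImplicit false
set_option maxHeartbeats 800000
universe u
open TensorProduct

namespace Groth.Agent.Lib.Helper13.SP

variable {R : Type u} [CommRing R] (S : Submonoid R) (A : Type u) [CommRing A] [Algebra R A]
  [IsLocalization S A]

section

variable {M N : Type u} [AddCommGroup M] [Module R M] [AddCommGroup N] [Module R N]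

lemma mapExtendScalars_eq_baseChange (g : M →ₗ[R] N) :
    IsLocalizedModule.mapExtendScalars S (TensorProduct.mk R A M 1) (TensorProduct.mk R A N 1) A g =
      g.baseChange A := by
  apply LinearMap.restrictScalars_injective R
  apply IsLocalizedModule.linearMap_ext S (TensorProduct.mk R A M 1) (TensorProduct.mk R A N 1)
  ext x
  exact IsLocalizedModule.map_apply S (TensorProduct.mk R A M 1) (TensorProduct.mk R A N 1) g x

variable [Module.FinitePresentation R M]

lemma exists_smul_eq_baseChange (s : A ⊗[R] M →ₗ[A] A ⊗[R] N) :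
    ∃ (a : R) (_ : a ∈ S) (s₀ : M →ₗ[R] N), a • s = s₀.baseChange A := by
  obtain ⟨⟨s₀, a⟩, h⟩ := IsLocalizedModule.surj S
    (IsLocalizedModule.mapExtendScalars S (TensorProduct.mk R A M 1) (TensorProduct.mk R A N 1) A) s
  rw [mapExtendScalars_eq_baseChange] at h
  exact ⟨a.1, a.2, s₀, h⟩

lemma exists_smul_eq_zero_of_baseChange_eq_zero (X : M →ₗ[R] N) (h : X.baseChange A = 0) :
    ∃ (c : R) (_ : c ∈ S), c • X = 0 := by
  have h' : IsLocalizedModule.mapExtendScalars S (TensorProduct.mk R A M 1)
      (TensorProduct.mk R A N 1) A X =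
      IsLocalizedModule.mapExtendScalars S (TensorProduct.mk R A M 1)
        (TensorProduct.mk R A N 1) A 0 := by
    rw [mapExtendScalars_eq_baseChange, mapExtendScalars_eq_baseChange, h,
      LinearMap.baseChange_zero]
  obtain ⟨c, hc⟩ := IsLocalizedModule.exists_of_eq (S := S) h'
  exact ⟨c.1, c.2, by rw [smul_zero] at hc; exact hc⟩

end

/-- **Spreading out**: a contracting homotopy over a localization `A = S⁻¹R` of a three-term
complex `F → G → H` (with `G`, `H` finitely presented) comes from a scaled contracting homotopy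
over `R`. -/
theorem exists_scaled_contracting {F G H : Type u} [AddCommGroup F] [Module R F]
    [AddCommGroup G] [Module R G] [AddCommGroup H] [Module R H]
    [Module.FinitePresentation R G] [Module.FinitePresentation R H]
    (u : F →ₗ[R] G) (v : G →ₗ[R] H)
    (s : A ⊗[R] G →ₗ[A] A ⊗[R] F) (t : A ⊗[R] H →ₗ[A] A ⊗[R] G)
    (h : (u.baseChange A) ∘ₗ s + t ∘ₗ (v.baseChange A) = LinearMap.id) :
    ∃ (f : R) (_ : f ∈ S) (s₁ : G →ₗ[R] F) (t₁ : H →ₗ[R] G),
      u ∘ₗ s₁ + t₁ ∘ₗ v = f • LinearMap.id := by
  obtain ⟨a, ha, s₀, hs₀⟩ := exists_smul_eq_baseChange S A s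
  obtain ⟨b, hb, t₀, ht₀⟩ := exists_smul_eq_baseChange S A t
  let X : G →ₗ[R] G := u ∘ₗ (b • s₀) + (a • t₀) ∘ₗ v - (a * b) • LinearMap.id
  have hX : X.baseChange A = 0 := by
    have e1 : X.baseChange A = (u.baseChange A) ∘ₗ (b • (s₀.baseChange A)) +
        (a • t₀.baseChange A) ∘ₗ (v.baseChange A) - (a * b) • LinearMap.id := by
      simp only [X, LinearMap.baseChange_sub, LinearMap.baseChange_add, LinearMap.baseChange_comp,
        LinearMap.baseChange_smul, LinearMap.baseChange_id]
    rw [e1, ← hs₀, ← ht₀]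
    apply LinearMap.ext
    intro y
    have hy := LinearMap.congr_fun h y
    simp only [LinearMap.add_apply, LinearMap.comp_apply, LinearMap.id_apply] at hy
    simp only [LinearMap.add_apply, LinearMap.sub_apply, LinearMap.comp_apply,
      LinearMap.smul_apply, LinearMap.id_apply, LinearMap.zero_apply,
      LinearMap.map_smul_of_tower]
    generalize (u.baseChange A) (s y) = p at hy ⊢
    generalize t ((v.baseChange A) y) = q at hy ⊢
    rw [← hy, smul_add, mul_smul, mul_smul, smul_comm b a p]
    abel
  obtain ⟨c, hc, hcX⟩ := exists_smul_eq_zero_of_baseChange_eq_zero S A X hX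
  refine ⟨c * (a * b), S.mul_mem hc (S.mul_mem ha hb), c • b • s₀, c • a • t₀, ?_⟩
  have h2 : u ∘ₗ (c • b • s₀) + (c • a • t₀) ∘ₗ v = c • X + (c * (a * b)) • LinearMap.id := by
    ext x
    simp only [X, LinearMap.add_apply, LinearMap.comp_apply, LinearMap.smul_apply,
      LinearMap.sub_apply, LinearMap.id_apply, map_smul, smul_add, smul_sub, mul_smul]
    abel
  rw [h2, hcX, zero_add]

end Groth.Agent.Lib.Helper13.SP
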