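import Groth.Agent.Lib.Helper13.SP1
import Groth.Agent.Lib.Helper13.DRingGlobalSplit

/-!
# Spreading out a contracting homotopy at a prime: complex level
-/

set_option autoImplicit false
set_option maxHeartbeats 800000
set_option linter.style.haveILetI false
universe u
open CategoryTheory CategoryTheory.Limits TensorProduct

namespace Groth.Agent.Lib.Helper13.SP

open Groth.Agent.Lib.Helper13.DR Groth.Agent.Lib.Helper13.PC
open DerivedCategory
attribute [local instance] HasDerivedCategory.standard

variable {R : Type u} [CommRing R]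

/-- A bounded above complex of finite free modules whose fibre at a prime `p` is exact at `j`
admits a contracting homotopy at `j` up to an element `f ∉ p`. -/
theorem exists_scaled_contracting_cx (p : Ideal R) [p.IsPrime] (P : DRing.Cx R) (i j k : ℤ)
    (hij : i + 1 = j) (hjk : j + 1 = k) (hj : Pff R (P.X j)) (hk : Pff R (P.X k))
    (h : ((extendCx R p.ResidueField).obj P).ExactAt j) :
    ∃ (f : R) (_ : f ∉ p) (s₁ : P.X j ⟶ P.X i) (t₁ : P.X k ⟶ P.X j),
      s₁ ≫ P.d i j + P.d j k ≫ t₁ = f • 𝟙 (P.X j) := by
  let B := Localization.AtPrime p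
  let PB : DRing.Cx B := (extendCx R B).obj P
  have hex : ((extendCx B (IsLocalRing.ResidueField B)).obj PB).ExactAt j :=
    exactAt_extendScalars_comp (algebraMap R B) (algebraMap B (IsLocalRing.ResidueField B))
      (algebraMap R p.ResidueField) (RingHom.id _) (by
        rw [RingHom.id_comp]
        exact (IsScalarTower.algebraMap_eq R B (IsLocalRing.ResidueField B)).symm)
      (RingHom.Flat.id _) P j h
  obtain ⟨s, t, hst⟩ := exists_contracting_of_exactAt_residue B PB i j k hij hjk
    (Pff_le_Pfp (Pff_extendScalars B hj)) (Pff_extendScalars B hk) hex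
  have := hj.1
  have := hj.2
  have := hk.1
  have := hk.2
  let u : P.X i →ₗ[R] P.X j := (P.d i j).hom
  let v : P.X j →ₗ[R] P.X k := (P.d j k).hom
  let s' : B ⊗[R] (P.X j) →ₗ[B] B ⊗[R] (P.X i) :=
    (extendScalarsEquiv B (P.X i)).toLinearMap ∘ₗ s.hom ∘ₗ
      (extendScalarsEquiv B (P.X j)).symm.toLinearMap
  let t' : B ⊗[R] (P.X k) →ₗ[B] B ⊗[R] (P.X j) :=
    (extendScalarsEquiv B (P.X j)).toLinearMap ∘ₗ t.hom ∘ₗ
      (extendScalarsEquiv B (P.X k)).symm.toLinearMap
  have hst' : (u.baseChange B) ∘ₗ s' + t' ∘ₗ (v.baseChange B) = LinearMap.id := by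
    apply LinearMap.ext
    intro y
    obtain ⟨z, hz⟩ : ∃ z, z = (extendScalarsEquiv B (P.X j)).symm y := ⟨_, rfl⟩
    have hy : extendScalarsEquiv B (P.X j) z = y := by
      rw [hz]; exact LinearEquiv.apply_symm_apply _ _
    have h1 : (PB.d i j).hom (s.hom z) + t.hom ((PB.d j k).hom z) = z := by
      have := congrArg (fun φ => φ.hom z) hst
      simpa only [ModuleCat.hom_add, ModuleCat.hom_comp, ModuleCat.hom_id, LinearMap.add_apply,
        LinearMap.comp_apply, LinearMap.id_apply] using this
    have e1 : (u.baseChange B) (extendScalarsEquiv B (P.X i) (s.hom z)) =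
        extendScalarsEquiv B (P.X j) ((PB.d i j).hom (s.hom z)) :=
      (extendScalarsEquiv_naturality B (P.d i j) (s.hom z)).symm
    have e2 : (extendScalarsEquiv B (P.X k)).symm ((v.baseChange B) y) = (PB.d j k).hom z := by
      rw [LinearEquiv.symm_apply_eq, ← hy]
      exact (extendScalarsEquiv_naturality B (P.d j k) z).symm
    change (u.baseChange B) (extendScalarsEquiv B (P.X i)
        (s.hom ((extendScalarsEquiv B (P.X j)).symm y))) +
      extendScalarsEquiv B (P.X j)
        (t.hom ((extendScalarsEquiv B (P.X k)).symm ((v.baseChange B) y))) = y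
    rw [← hz, e1, e2, ← map_add]
    exact (congrArg (extendScalarsEquiv B (P.X j)) h1).trans hy
  have : Module.FinitePresentation R (P.X j) := Module.finitePresentation_of_projective _ _
  have : Module.FinitePresentation R (P.X k) := Module.finitePresentation_of_projective _ _
  obtain ⟨f, hf, s₁, t₁, h₁⟩ := exists_scaled_contracting p.primeCompl B u v s' t' hst'
  refine ⟨f, hf, ModuleCat.ofHom s₁, ModuleCat.ofHom t₁, ?_⟩
  apply ModuleCat.hom_ext
  rw [ModuleCat.hom_add, ModuleCat.hom_comp, ModuleCat.hom_comp, ModuleCat.hom_smul,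
    ModuleCat.hom_id, ModuleCat.hom_ofHom, ModuleCat.hom_ofHom]
  exact h₁

end Groth.Agent.Lib.Helper13.SP
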