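import Groth.Agent.Lib.Helper13.SP2
import Groth.Agent.Lib.Helper13.LocFF3
import Groth.Agent.Lib.Helper13.DRingColimHom

/-!
# Contracting homotopies over `R_f` and vanishing of `Ext`
-/

set_option autoImplicit false
set_option maxHeartbeats 800000
set_option linter.style.haveILetI false
universe u
open CategoryTheory CategoryTheory.Limits TensorProduct

namespace Groth.Agent.Lib.Helper13.SP

open Groth.Agent.Lib.Helper13.DR Groth.Agent.Lib.Helper13.PC
open DerivedCategory
attribute [local instance] HasDerivedCategory.standard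

variable {R : Type u} [CommRing R]

/-- A scaled contracting homotopy over `R` gives a contracting homotopy over `R_f`. -/
theorem exists_contracting_away (P : DRing.Cx R) (i j k : ℤ) (f : R)
    (s₁ : P.X j ⟶ P.X i) (t₁ : P.X k ⟶ P.X j)
    (h : s₁ ≫ P.d i j + P.d j k ≫ t₁ = f • 𝟙 (P.X j)) :
    ∃ (s : ((extendCx R (Localization.Away f)).obj P).X j ⟶
        ((extendCx R (Localization.Away f)).obj P).X i)
      (t : ((extendCx R (Localization.Away f)).obj P).X k ⟶
        ((extendCx R (Localization.Away f)).obj P).X j),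
      s ≫ ((extendCx R (Localization.Away f)).obj P).d i j +
        ((extendCx R (Localization.Away f)).obj P).d j k ≫ t =
        𝟙 (((extendCx R (Localization.Away f)).obj P).X j) := by
  let B := Localization.Away f
  let Φ := ModuleCat.extendScalars.{u, u, u} (algebraMap R B)
  let c : B := IsLocalization.Away.invSelf f
  have hc : c * algebraMap R B f = 1 := by
    rw [mul_comm]
    exact IsLocalization.Away.mul_invSelf f
  refine ⟨c • Φ.map s₁, c • Φ.map t₁, ?_⟩
  change (c • Φ.map s₁) ≫ Φ.map (P.d i j) + Φ.map (P.d j k) ≫ (c • Φ.map t₁) = 𝟙 (Φ.obj (P.X j))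
  rw [Linear.smul_comp, Linear.comp_smul, ← Φ.map_comp, ← Φ.map_comp, ← smul_add, ← Φ.map_add, h,
    Groth.Agent.Lib.Helper13.Coind.extendScalars_map_smul_id (B := B) f (P.X j), smul_smul, hc,
    one_smul]

/-- A complex with a contracting homotopy at degree `-p` has no `Ext^p` into modules. -/
theorem subsingleton_hom_of_contracting {B : Type u} [CommRing B] (P : DRing.Cx B)
    [P.IsKProjective] {K : Dual.D B} (e₀ : Q.obj P ≅ K) (p : ℤ)
    (s : P.X (-p) ⟶ P.X (-p - 1)) (t : P.X (-p + 1) ⟶ P.X (-p))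
    (h : s ≫ P.d (-p - 1) (-p) + P.d (-p) (-p + 1) ≫ t = 𝟙 (P.X (-p)))
    (M : Type u) [AddCommGroup M] [Module B M] :
    Subsingleton (K ⟶ (shiftFunctor (Dual.D B) p).obj (Dual.inD B M)) := by
  suffices hz : ∀ x : K ⟶ (shiftFunctor (Dual.D B) p).obj (Dual.inD B M), x = 0 from
    ⟨fun x y => (hz x).trans (hz y).symm⟩
  intro x
  obtain ⟨g, rfl⟩ := extCls_surjective P e₀ p (ModuleCat.of B M) x
  rw [extCls_apply]
  have hg : P.d (-p - 1) (-p) ≫ g.1 = 0 := g.2
  have key : g.1 = P.d (-p) (-p + 1) ≫ (t ≫ g.1) := by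
    have : g.1 = (s ≫ P.d (-p - 1) (-p) + P.d (-p) (-p + 1) ≫ t) ≫ g.1 := by
      rw [h, Category.id_comp]
    rw [Preadditive.add_comp, Category.assoc, hg, comp_zero, zero_add, Category.assoc] at this
    exact this
  have hf' : P.d (-p - 1) (-p) ≫ P.d (-p) (-p + 1) ≫ (t ≫ g.1) = 0 := by
    rw [← Category.assoc, P.d_comp_d, zero_comp]
  rw [cls_congr key g.2 hf', cls_eq_zero_of_coboundary P (-p) _ hf', zero_comp, comp_zero]

end Groth.Agent.Lib.Helper13.SP
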