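import Mathlib.Algebra.Homology.HomotopyCategory.KProjective
import Mathlib.Algebra.Homology.HomotopyCategory.MappingCone
import Mathlib.Algebra.Homology.HomologicalComplexLimits
import Mathlib.CategoryTheory.Functor.OfSequence

/-!
# K-projectivity of sequential colimits of cell attachments (abstract part)
-/

set_option autoImplicit false
universe v u
open CategoryTheory CategoryTheory.Limits

namespace Groth.Agent.Lib.Helper13.SF

open CochainComplex HomComplex

section Glue

variable {C : Type u} [Category.{v} C] [Preadditive C]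
  {F : ℕ ⥤ CochainComplex C ℤ} (c : Cocone F)
  (hc : ∀ p : ℤ, IsColimit ((HomologicalComplex.eval C (ComplexShape.up ℤ) p).mapCocone c))

include hc in
/-- Cochains out of a degreewise colimit are determined by their restrictions. -/
lemma cochain_ext {L : CochainComplex C ℤ} {n : ℤ} (α β : Cochain c.pt L n)
    (h : ∀ k : ℕ, (Cochain.ofHom (c.ι.app k)).comp α (zero_add n) =
      (Cochain.ofHom (c.ι.app k)).comp β (zero_add n)) : α = β := by
  ext p q hpq
  apply (hc p).hom_ext
  intro k
  have := Cochain.congr_v (h k) p q hpq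
  simp only [Cochain.zero_cochain_comp_v, Cochain.ofHom_v] at this
  exact this

/-- Gluing a compatible family of cochains. -/
noncomputable def glue {L : CochainComplex C ℤ} {n : ℤ} (β : ∀ k : ℕ, Cochain (F.obj k) L n)
    (hβ : ∀ k : ℕ, (Cochain.ofHom (F.map (homOfLE (Nat.le_add_right k 1)))).comp (β (k + 1))
      (zero_add n) = β k) : Cochain c.pt L n :=
  Cochain.mk (fun p q hpq => (hc p).desc ⟨L.X q,
    NatTrans.ofSequence (F := F ⋙ HomologicalComplex.eval C (ComplexShape.up ℤ) p)
      (G := (Functor.const ℕ).obj (L.X q)) (fun k => (β k).v p q hpq) (fun k => by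
        have := Cochain.congr_v (hβ k) p q hpq
        simp only [Cochain.zero_cochain_comp_v, Cochain.ofHom_v] at this
        dsimp
        rw [Category.comp_id]
        exact this)⟩)

lemma glue_spec {L : CochainComplex C ℤ} {n : ℤ} (β : ∀ k : ℕ, Cochain (F.obj k) L n)
    (hβ : ∀ k : ℕ, (Cochain.ofHom (F.map (homOfLE (Nat.le_add_right k 1)))).comp (β (k + 1))
      (zero_add n) = β k) (k : ℕ) :
    (Cochain.ofHom (c.ι.app k)).comp (glue c hc β hβ) (zero_add n) = β k := by
  ext p q hpq
  simp only [Cochain.zero_cochain_comp_v, Cochain.ofHom_v, glue, Cochain.mk_v]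
  exact (hc p).fac _ k

end Glue

section Ext

variable {C : Type u} [Category.{v} C] [Preadditive C] [HasBinaryBiproducts C]

open mappingCone in
/-- Extending a null-homotopy from `P` to the mapping cone of `g : G ⟶ P`, when degree `-1`
cocycles `G ⟶ L` are coboundaries. -/
lemma exists_extension {G P L : CochainComplex C ℤ} (g : G ⟶ P)
    (hG : ∀ γ : Cochain G L (-1), δ (-1) 0 γ = 0 → ∃ ε : Cochain G L (-2), δ (-2) (-1) ε = γ)
    (f : mappingCone g ⟶ L) (β : Cochain P L (-1))
    (hβ : δ (-1) 0 β = Cochain.ofHom (inr g ≫ f)) :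
    ∃ β' : Cochain (mappingCone g) L (-1), δ (-1) 0 β' = Cochain.ofHom f ∧
      (Cochain.ofHom (inr g)).comp β' (zero_add (-1)) = β := by
  obtain ⟨ε, hε⟩ := hG ((inl g).comp (Cochain.ofHom f) (add_zero (-1)) -
      (Cochain.ofHom g).comp β (zero_add (-1))) (by
    rw [δ_sub, δ_comp_ofHom, δ_ofHom_comp, hβ, δ_inl, ← Cochain.ofHom_comp, ← Cochain.ofHom_comp,
      Category.assoc, sub_self])
  refine ⟨descCochain g ε β (by lia), ?_, inr_descCochain g ε β (by lia)⟩
  rw [δ_descCochain g ε β (by lia) 0 (by lia), hε, hβ,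
    ext_cochain_from_iff g (-1) 0 (by lia)]
  constructor
  · simp
  · simp

end Ext

section ZeroD

variable {C : Type u} [Category.{v} C] [Abelian C]

/-- For a complex `G` with zero differential and projective terms, degree `-1` cocycles into an
acyclic complex are coboundaries. -/
lemma exists_coboundary_of_zero_d {G L : CochainComplex C ℤ} (hd : ∀ i j : ℤ, G.d i j = 0)
    (hproj : ∀ i : ℤ, Projective (G.X i)) (hL : L.Acyclic) (γ : Cochain G L (-1))
    (hγ : δ (-1) 0 γ = 0) : ∃ ε : Cochain G L (-2), δ (-2) (-1) ε = γ := by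
  have h1 : ∀ (p r : ℤ) (hpr : p + (-1) = r), γ.v p r hpr ≫ L.d r p = 0 := fun p r hpr => by
    have := Cochain.congr_v hγ p p (add_zero p)
    rw [δ_v (-1) 0 (by omega) γ p p (add_zero p) r (p + 1) (by omega) rfl, hd, zero_comp, smul_zero,
      add_zero] at this
    exact this
  have hex : ∀ (q r p : ℤ), q + 1 = r → r + 1 = p → (L.sc' q r p).Exact := by
    intro q r p hqr hrp
    have h1 : (ComplexShape.up ℤ).prev r = q := by simp; omega
    have h2 : (ComplexShape.up ℤ).next r = p := by simp; omega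
    exact (L.exactAt_iff' q r p h1 h2).1 (hL r)
  have key : ∀ (p q r : ℤ) (hqr : q + 1 = r) (hpr : p + (-1) = r),
      ∃ l : G.X p ⟶ L.X q, l ≫ L.d q r = γ.v p r hpr := fun p q r hqr hpr =>
    ⟨(hex q r p hqr (by omega)).liftFromProjective (γ.v p r hpr) (h1 p r hpr),
      (hex q r p hqr (by omega)).liftFromProjective_comp (γ.v p r hpr) (h1 p r hpr)⟩
  refine ⟨Cochain.mk (fun p q hpq => (key p q (q + 1) rfl (by omega)).choose), ?_⟩
  ext p r hpr
  rw [δ_v (-2) (-1) (by omega) _ p r hpr (r - 1) (p + 1) rfl rfl, hd, zero_comp, smul_zero, add_zero,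
    Cochain.mk_v]
  have := (key p (r - 1) (r - 1 + 1) rfl (by omega)).choose_spec
  have h2 : ∀ (r' : ℤ) (h : r' = r) (l : G.X p ⟶ L.X (r - 1)) (hpr' : p + (-1) = r'),
      l ≫ L.d (r - 1) r' = γ.v p r' hpr' → l ≫ L.d (r - 1) r = γ.v p r hpr := by
    rintro _ rfl l _ h
    exact h
  exact h2 _ (by omega) _ _ this

end ZeroD

section Main

variable {C : Type u} [Category.{v} C] [Abelian C]
  {F : ℕ ⥤ CochainComplex C ℤ} (c : Cocone F)
  (hc : ∀ p : ℤ, IsColimit ((HomologicalComplex.eval C (ComplexShape.up ℤ) p).mapCocone c))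

include hc in
/-- A degreewise sequential colimit is K-projective provided null-homotopies extend along each
step. -/
theorem isKProjective_of_seq
    (h0 : ∀ (L : CochainComplex C ℤ), L.Acyclic → ∀ f : F.obj 0 ⟶ L,
      ∃ β : Cochain (F.obj 0) L (-1), δ (-1) 0 β = Cochain.ofHom f)
    (hstep : ∀ (k : ℕ) (L : CochainComplex C ℤ), L.Acyclic → ∀ (f : F.obj (k + 1) ⟶ L)
      (β : Cochain (F.obj k) L (-1)),
      δ (-1) 0 β = Cochain.ofHom (F.map (homOfLE (Nat.le_add_right k 1)) ≫ f) →
      ∃ β' : Cochain (F.obj (k + 1)) L (-1), δ (-1) 0 β' = Cochain.ofHom f ∧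
        (Cochain.ofHom (F.map (homOfLE (Nat.le_add_right k 1)))).comp β' (zero_add (-1)) = β) :
    c.pt.IsKProjective := by
  refine ⟨fun {L} f hL => ?_⟩
  -- the recursive family
  let T : ℕ → Type _ := fun k =>
    { β : Cochain (F.obj k) L (-1) // δ (-1) 0 β = Cochain.ofHom (c.ι.app k ≫ f) }
  have hw : ∀ k : ℕ, F.map (homOfLE (Nat.le_add_right k 1)) ≫ c.ι.app (k + 1) ≫ f =
      c.ι.app k ≫ f := fun k => by rw [← Category.assoc, c.w]
  let next : ∀ k : ℕ, T k → T (k + 1) := fun k b =>
    ⟨(hstep k L hL (c.ι.app (k + 1) ≫ f) b.1 (by rw [b.2, hw])).choose,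
      (hstep k L hL (c.ι.app (k + 1) ≫ f) b.1 (by rw [b.2, hw])).choose_spec.1⟩
  have hnext : ∀ (k : ℕ) (b : T k),
      (Cochain.ofHom (F.map (homOfLE (Nat.le_add_right k 1)))).comp (next k b).1 (zero_add (-1)) =
        b.1 := fun k b =>
    (hstep k L hL (c.ι.app (k + 1) ≫ f) b.1 (by rw [b.2, hw])).choose_spec.2
  let b0 : T 0 := ⟨(h0 L hL (c.ι.app 0 ≫ f)).choose, (h0 L hL (c.ι.app 0 ≫ f)).choose_spec⟩
  let b : ∀ k : ℕ, T k := fun k => Nat.rec b0 next k
  have hb : ∀ k : ℕ, (Cochain.ofHom (F.map (homOfLE (Nat.le_add_right k 1)))).comp (b (k + 1)).1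
      (zero_add (-1)) = (b k).1 := fun k => hnext k (b k)
  let β := glue c hc (fun k => (b k).1) hb
  have hβ : δ (-1) 0 β = Cochain.ofHom f := by
    apply cochain_ext c hc
    intro k
    rw [← δ_ofHom_comp, glue_spec c hc (fun k => (b k).1) hb k, (b k).2, Cochain.ofHom_comp]
  exact ⟨(Cochain.equivHomotopy f 0).symm ⟨β, by rw [hβ, Cochain.ofHom_zero, add_zero]⟩⟩

end Main

end Groth.Agent.Lib.Helper13.SF
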