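import Groth.Agent.Lib.Helper13.SemiFree2

/-!
# Cell attachment for complexes of modules
-/

set_option autoImplicit false
universe u
open CategoryTheory CategoryTheory.Limits

namespace Groth.Agent.Lib.Helper13.SF

open CochainComplex HomologicalComplex HomComplex

variable {R : Type u} [Ring R]

/-- The complex with zero differential which is free on a graded set. -/
noncomputable def freeCx (S : ℤ → Type u) : CochainComplex (ModuleCat.{u} R) ℤ where
  X n := ModuleCat.of R (S n →₀ R)
  d _ _ := 0
  shape _ _ _ := rfl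
  d_comp_d' _ _ _ _ _ := by simp

lemma freeCx_d (S : ℤ → Type u) (i j : ℤ) : (freeCx (R := R) S).d i j = 0 := rfl

instance (S : ℤ → Type u) (i : ℤ) : Projective ((freeCx (R := R) S).X i) := by
  change Projective (ModuleCat.of R (S i →₀ R))
  infer_instance

/-- A morphism out of `freeCx S` given by cycles. -/
noncomputable def freeCxDesc (S : ℤ → Type u) (P : CochainComplex (ModuleCat.{u} R) ℤ)
    (z : ∀ n : ℤ, S n → P.X n) (hz : ∀ (n : ℤ) (s : S n), P.d n (n + 1) (z n s) = 0) :
    freeCx (R := R) S ⟶ P where
  f n := ModuleCat.ofHom (Finsupp.linearCombination R (z n))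
  comm' i j hij := by
    obtain rfl : i + 1 = j := hij
    rw [freeCx_d, zero_comp]
    apply ModuleCat.hom_ext
    apply Finsupp.lhom_ext'
    intro s
    apply LinearMap.ext_ring
    change (P.d i (i + 1)).hom (Finsupp.linearCombination R (z i) (Finsupp.single s 1)) = 0
    rw [Finsupp.linearCombination_single, one_smul]
    exact hz i s

@[simp]
lemma freeCxDesc_f_single (S : ℤ → Type u) (P : CochainComplex (ModuleCat.{u} R) ℤ)
    (z : ∀ n : ℤ, S n → P.X n) (hz : ∀ (n : ℤ) (s : S n), P.d n (n + 1) (z n s) = 0)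
    (n : ℤ) (s : S n) :
    ((freeCxDesc S P z hz).f n).hom (Finsupp.single s 1) = z n s := by
  change Finsupp.linearCombination R (z n) (Finsupp.single s 1) = _
  rw [Finsupp.linearCombination_single, one_smul]

/-- A cochain of degree `-1` out of `freeCx S`. -/
noncomputable def freeCxCochain (S : ℤ → Type u) (K : CochainComplex (ModuleCat.{u} R) ℤ)
    (y : ∀ n : ℤ, S n → K.X (n + (-1))) : Cochain (freeCx (R := R) S) K (-1) :=
  Cochain.mk (fun p _ hpq => ModuleCat.ofHom (Finsupp.linearCombination R (y p)) ≫
    (K.XIsoOfEq hpq).hom)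

lemma freeCxCochain_v_single (S : ℤ → Type u) (K : CochainComplex (ModuleCat.{u} R) ℤ)
    (y : ∀ n : ℤ, S n → K.X (n + (-1))) (p : ℤ) (s : S p) :
    ((freeCxCochain S K y).v p (p + (-1)) rfl).hom (Finsupp.single s 1) = y p s := by
  simp only [freeCxCochain, Cochain.mk_v, XIsoOfEq_rfl, Iso.refl_hom, Category.comp_id]
  change Finsupp.linearCombination R (y p) (Finsupp.single s 1) = _
  rw [Finsupp.linearCombination_single, one_smul]

variable (K : CochainComplex (ModuleCat.{u} R) ℤ)

/-- A stage of the construction: a complex over `K`. -/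
structure Stage where
  /-- the complex -/
  P : CochainComplex (ModuleCat.{u} R) ℤ
  /-- the structure map -/
  f : P ⟶ K

variable {K}

/-- The cells to attach: cycles of `P` with a chosen bounding cochain of their image. -/
def Cell (s : Stage K) (n : ℤ) : Type u :=
  { zy : s.P.X n × K.X (n + (-1)) //
    s.P.d n (n + 1) zy.1 = 0 ∧ s.f.f n zy.1 = K.d (n + (-1)) n zy.2 }

/-- The attaching map. -/
noncomputable def attach (s : Stage K) : freeCx (R := R) (Cell s) ⟶ s.P :=
  freeCxDesc (Cell s) s.P (fun _ c => c.1.1) (fun _ c => c.2.1)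

/-- The null-homotopy of the attaching map composed with the structure map. -/
noncomputable def nullH (s : Stage K) : Cochain (freeCx (R := R) (Cell s)) K (-1) :=
  freeCxCochain (Cell s) K (fun _ c => c.1.2)

lemma δ_nullH (s : Stage K) : δ (-1) 0 (nullH s) = Cochain.ofHom (attach s ≫ s.f) := by
  refine Cochain.ext₀ _ _ (fun p => ?_)
  rw [δ_v (-1) 0 (by omega) (nullH s) p p (add_zero p) (p + (-1)) (p + 1) (by omega) rfl, freeCx_d,
    zero_comp, smul_zero, add_zero, Cochain.ofHom_v]
  apply ModuleCat.hom_ext
  apply Finsupp.lhom_ext'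
  intro c
  apply LinearMap.ext_ring
  change (K.d (p + (-1)) p).hom (((nullH s).v p (p + (-1)) rfl).hom (Finsupp.single c 1)) =
    (s.f.f p).hom (((attach s).f p).hom (Finsupp.single c 1))
  rw [nullH, freeCxCochain_v_single, attach, freeCxDesc_f_single]
  exact c.2.2.symm

/-- The next stage. -/
noncomputable def Stage.next (s : Stage K) : Stage K where
  P := mappingCone (attach s)
  f := mappingCone.desc (attach s) (nullH s) s.f (δ_nullH s)

/-- The inclusion into the next stage. -/
noncomputable def Stage.ι (s : Stage K) : s.P ⟶ s.next.P := mappingCone.inr (attach s)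

@[reassoc (attr := simp)]
lemma Stage.ι_f (s : Stage K) : s.ι ≫ s.next.f = s.f :=
  mappingCone.inr_desc (attach s) (nullH s) s.f (δ_nullH s)

/-- A cycle of `P` whose image in `K` is a boundary becomes a boundary in the next stage. -/
lemma Stage.exists_boundary (s : Stage K) (n m : ℤ) (hnm : n + (-1) = m) (z : s.P.X n)
    (hz : s.P.d n (n + 1) z = 0) (y : K.X m) (hy : s.f.f n z = K.d m n y) :
    ∃ v : s.next.P.X m, s.next.P.d m n v = s.ι.f n z := by
  subst hnm
  let c : Cell s n := ⟨(z, y), hz, hy⟩
  refine ⟨((mappingCone.inl (attach s)).v n (n + (-1)) rfl).hom (Finsupp.single c 1), ?_⟩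
  have h1 := mappingCone.inl_v_d (attach s) n (n + (-1)) (n + 1) rfl (by omega)
  rw [freeCx_d, zero_comp, sub_zero] at h1
  have h2 := congrArg (fun φ => φ.hom (Finsupp.single c 1)) h1
  refine h2.trans ?_
  change (s.ι.f n).hom (((attach s).f n).hom (Finsupp.single c 1)) = _
  rw [attach, freeCxDesc_f_single]

/-- Every cycle of `K` lifts to a cycle of the next stage. -/
lemma Stage.exists_cycle (s : Stage K) (m n : ℤ) (hmn : m + (-1) = n) (y : K.X n)
    (hy : K.d n m y = 0) :
    ∃ x : s.next.P.X n, s.next.P.d n m x = 0 ∧ s.next.f.f n x = y := by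
  subst hmn
  let c : Cell s m := ⟨(0, y), by simp, by rw [map_zero]; exact hy.symm⟩
  refine ⟨((mappingCone.inl (attach s)).v m (m + (-1)) rfl).hom (Finsupp.single c 1), ?_, ?_⟩
  · have h1 := mappingCone.inl_v_d (attach s) m (m + (-1)) (m + 1) rfl (by omega)
    rw [freeCx_d, zero_comp, sub_zero] at h1
    have h2 := congrArg (fun φ => φ.hom (Finsupp.single c 1)) h1
    refine h2.trans ?_
    change (s.ι.f m).hom (((attach s).f m).hom (Finsupp.single c 1)) = _
    rw [attach, freeCxDesc_f_single]
    exact map_zero _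
  · have h1 := mappingCone.inl_v_desc_f (attach s) (nullH s) s.f (δ_nullH s) m (m + (-1)) rfl
    have h2 := congrArg (fun φ => φ.hom (Finsupp.single c 1)) h1
    refine h2.trans ?_
    rw [nullH, freeCxCochain_v_single]

end Groth.Agent.Lib.Helper13.SF
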