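import Mathlib.CategoryTheory.Functor.Derived.PointwiseLeftDerived
import Mathlib.CategoryTheory.Functor.Derived.LeftDerived

/-!
# Left derived functors in the presence of enough "colocal" objects

Dual of `Groth.Agent.Lib.Helper17.DerAbs`.
-/

set_option autoImplicit false
set_option linter.unusedSectionVars false

open CategoryTheory CategoryTheory.Limits CategoryTheory.Functor

universe v₁ v₂ v₃ u₁ u₂ u₃

namespace Groth.Agent.Lib.Helper13.DerAbsL

variable {C : Type u₁} {D : Type u₂} {H : Type u₃}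
  [Category.{v₁} C] [Category.{v₂} D] [Category.{v₃} H]
  (L : C ⥤ D) (W : MorphismProperty C) (P : C → Prop)

/-- colocal objects -/
def IsColocalObj (I : C) : Prop :=
  ∀ (K : C) (φ : L.obj I ⟶ L.obj K), ∃ f : I ⟶ K, L.map f = φ

/-- enough colocal objects -/
def EnoughColocal : Prop := ∀ X : C, ∃ (I : C) (f : I ⟶ X), W f ∧ P I ∧ IsColocalObj L I

/-- compatible functors -/
def Compat (Φ : C ⥤ H) : Prop :=
  ∀ ⦃I K : C⦄ (f f' : I ⟶ K), P I → L.map f = L.map f' → Φ.map f = Φ.map f'

variable {L W P}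

section Cone

/-- a lift of a morphism from a colocal object -/
noncomputable def IsColocalObj.lift {I : C} (hI : IsColocalObj L I) {K : C}
    (φ : L.obj I ⟶ L.obj K) : I ⟶ K := (hI K φ).choose

lemma IsColocalObj.map_lift {I : C} (hI : IsColocalObj L I) {K : C}
    (φ : L.obj I ⟶ L.obj K) : L.map (hI.lift φ) = φ := (hI K φ).choose_spec

variable {Φ : C ⥤ H} (hΦ : Compat L P Φ) {I : C} (hPI : P I) (hI : IsColocalObj L I)

/-- the cone with point `Φ.obj I` -/
noncomputable def coneAt : Cone (StructuredArrow.proj (L.obj I) L ⋙ Φ) where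
  pt := Φ.obj I
  π :=
    { app := fun j => Φ.map (hI.lift j.hom)
      naturality := fun j j' g => by
        have h1 : Φ.map (hI.lift j.hom) ≫ Φ.map g.right = Φ.map (hI.lift j'.hom) := by
          rw [← Φ.map_comp]
          apply hΦ _ _ hPI
          rw [L.map_comp, hI.map_lift, hI.map_lift]
          exact (StructuredArrow.w g)
        exact (Category.id_comp _).trans h1.symm }

lemma coneAt_π_id :
    (coneAt hΦ hPI hI).π.app (StructuredArrow.mk (𝟙 (L.obj I))) = 𝟙 (Φ.obj I) := by
  change Φ.map (hI.lift (𝟙 (L.obj I))) = 𝟙 (Φ.obj I)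
  rw [← Φ.map_id]
  apply hΦ _ _ hPI
  rw [hI.map_lift, L.map_id]

/-- it is a limit -/
noncomputable def isLimitConeAt : IsLimit (coneAt hΦ hPI hI) where
  lift s := s.π.app (StructuredArrow.mk (𝟙 (L.obj I)))
  fac s j := by
    have h := s.π.naturality (StructuredArrow.homMk (hI.lift j.hom)
      (by simpa using hI.map_lift j.hom) : StructuredArrow.mk (𝟙 (L.obj I)) ⟶ j)
    exact ((Category.id_comp _).symm.trans h).symm
  uniq s m hm := by
    have := hm (StructuredArrow.mk (𝟙 (L.obj I)))
    rw [coneAt_π_id] at this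
    exact (Category.comp_id _).symm.trans this

end Cone

variable [L.IsLocalization W]

include W in
lemma hasPointwiseLeftDerivedFunctorAt_of_isColocalObj {Φ : C ⥤ H} (hΦ : Compat L P Φ) {I : C}
    (hPI : P I) (hI : IsColocalObj L I) : Φ.HasPointwiseLeftDerivedFunctorAt W I := by
  rw [Φ.hasPointwiseLeftDerivedFunctorAt_iff L W]
  exact ⟨⟨⟨_, isLimitConeAt hΦ hPI hI⟩⟩⟩

lemma hasPointwiseLeftDerivedFunctor (h : EnoughColocal L W P) {Φ : C ⥤ H} (hΦ : Compat L P Φ) :
    Φ.HasPointwiseLeftDerivedFunctor W := by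
  intro X
  obtain ⟨I, f, hf, hPI, hI⟩ := h X
  rw [← Φ.hasPointwiseLeftDerivedFunctorAt_iff_of_mem W f hf]
  exact hasPointwiseLeftDerivedFunctorAt_of_isColocalObj (W := W) hΦ hPI hI

lemma hasLeftDerivedFunctor (h : EnoughColocal L W P) {Φ : C ⥤ H} (hΦ : Compat L P Φ) :
    Φ.HasLeftDerivedFunctor W := by
  have := hasPointwiseLeftDerivedFunctor h hΦ
  infer_instance

end Groth.Agent.Lib.Helper13.DerAbsL
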