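import Groth.Agent.Lib.Helper13.Shriek3
import Groth.Agent.Lib.Helper13.Coind5
import Groth.Agent.Lib.Helper13.PolyZero3

/-!
# The one variable step: `RHom_{Q[X]}(Q, M ⊗_Q Q[X])[1] ≅ M`
-/

set_option autoImplicit false
set_option linter.unusedSectionVars false

open CategoryTheory CategoryTheory.Limits CategoryTheory.Functor Polynomial

universe u

namespace Groth.Agent.Lib.Helper13.Shriek

open DerivedCategory Groth.Agent.Lib.Helper13.DR Groth.Agent.Lib.Helper13.Coind
  Groth.Agent.Lib.Helper13.PZ Pretriangulated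

attribute [local instance] HasDerivedCategory.standard

variable (R : Type u) [CommRing R]

lemma ker_eval_zero :
    RingHom.ker (Polynomial.evalRingHom (0 : R)) = Ideal.span {(X : R[X])} := by
  rw [Polynomial.ker_evalRingHom]
  simp

lemma eval_zero_surjective : Function.Surjective (Polynomial.evalRingHom (0 : R)) :=
  fun r => ⟨C r, by simp⟩

/-- The key computation. -/
theorem nonempty_Rco_LBaseChange_shift_iso (M : Dual.D R) :
    Nonempty (((Rco (Polynomial.evalRingHom (0 : R))).obj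
      ((DRing.LBaseChange (algebraMap R R[X])).obj M))⟦(1 : ℤ)⟧ ≅ M) := by
  obtain ⟨P, hP, -, ⟨eM⟩⟩ := Groth.Agent.Lib.Helper13.SF.exists_kprojective_rep M
  let ε := Polynomial.evalRingHom (0 : R)
  let N := (DRing.LBaseChange (algebraMap R R[X])).obj M
  let eN : N ≅ Q.obj ((extendCx R R[X]).obj P) :=
    (DRing.LBaseChange (algebraMap R R[X])).mapIso eM.symm ≪≫
      LBaseChangeIso (algebraMap R R[X]) P
  -- the first triangle
  obtain ⟨u, w, hT₁⟩ := exists_triangle_of_nonZeroDivisor ε (eval_zero_surjective R) X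
    Polynomial.X_mem_nonzeroDivisors (ker_eval_zero R) (Rco ε) (Coind.adj ε) N
  have hT₁' := rot_of_distTriang _ hT₁
  -- the second triangle
  have hS := sesC_shortExact R P
  have hT₂ := DerivedCategory.triangleOfSES_distinguished hS
  have comm : ((X : R[X]) • 𝟙 N) ≫ eN.hom = eN.hom ≫ Q.map (sesC R P).f := by
    change _ = eN.hom ≫ Q.map ((X : R[X]) • 𝟙 _)
    rw [CategoryTheory.Functor.map_smul, CategoryTheory.Functor.map_id, Linear.smul_comp,
      Linear.comp_smul, Category.id_comp, Category.comp_id]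
  let eT := isoTriangleOfIso₁₂ _ _ hT₁' hT₂ eN eN comm
  let e3 : ((DRing.restrictD ε).obj ((Rco ε).obj N))⟦(1 : ℤ)⟧ ≅
      Q.obj ((DRing.restrictCx ε).obj P) := Triangle.π₃.mapIso eT
  -- conclusion
  let Y := (Rco ε).obj N
  have hεC : RingHom.id R = ε.comp (algebraMap R R[X]) := by
    ext r
    simp [ε]
  let r1 : ∀ Z : Dual.D R, (DRing.restrictD (algebraMap R R[X])).obj ((DRing.restrictD ε).obj Z) ≅ Z :=
    fun Z => (restrictDComp (algebraMap R R[X]) ε (RingHom.id R) hεC ≪≫ restrictDId).app Z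
  exact ⟨(r1 (Y⟦(1 : ℤ)⟧)).symm ≪≫
    (DRing.restrictD (algebraMap R R[X])).mapIso
      (((DRing.restrictD ε).commShiftIso (1 : ℤ)).app Y ≪≫ e3 ≪≫
        (restrictDQIso ε P).symm ≪≫ (DRing.restrictD ε).mapIso eM) ≪≫ r1 M⟩

end Groth.Agent.Lib.Helper13.Shriek
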