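import Groth.Agent.Lib.Helper13.ShriekComp

/-!
# Flat base change for upper shrieks
-/

set_option autoImplicit false
set_option linter.unusedSectionVars false

open CategoryTheory CategoryTheory.Limits CategoryTheory.Functor TensorProduct

universe u

namespace Groth.Agent.Lib.Helper13.Shriek

open DerivedCategory Groth.Agent.Lib.Helper13.DR Groth.Agent.Lib.Helper13.Coind
  Groth.Agent.Lib.Helper13.HomBC

attribute [local instance] HasDerivedCategory.standard

section BC

attribute [local instance] MvPolynomial.algebraMvPolynomial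
attribute [local instance] Algebra.TensorProduct.rightAlgebra

variable (R R' A : Type u) [CommRing R] [CommRing R'] [CommRing A] [IsNoetherianRing R]
  [Algebra R R'] [Module.Flat R R'] [Algebra R A]

/-- The base-changed presentation. -/
noncomputable def bcPres (n : ℕ) (ψ : MvPolynomial (Fin n) R →ₐ[R] A) :
    MvPolynomial (Fin n) R' →ₐ[R'] (R' ⊗[R] A) :=
  MvPolynomial.aeval (fun i => (1 : R') ⊗ₜ[R] ψ (MvPolynomial.X i))

lemma bcPres_map (n : ℕ) (ψ : MvPolynomial (Fin n) R →ₐ[R] A) (p : MvPolynomial (Fin n) R) :
    bcPres R R' A n ψ (MvPolynomial.map (algebraMap R R') p) = (1 : R') ⊗ₜ[R] ψ p := by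
  induction p using MvPolynomial.induction_on with
  | C r =>
    rw [MvPolynomial.map_C, ← MvPolynomial.algebraMap_eq, AlgHom.commutes,
      ← MvPolynomial.algebraMap_eq, AlgHom.commutes, Algebra.TensorProduct.algebraMap_apply,
      Algebra.algebraMap_self, RingHom.id_apply, Algebra.algebraMap_eq_smul_one,
      Algebra.algebraMap_eq_smul_one (A := A), TensorProduct.smul_tmul]
  | add p q hp hq => rw [_root_.map_add, _root_.map_add, _root_.map_add, hp, hq, TensorProduct.tmul_add]
  | mul_X p i hp =>
    rw [map_mul, map_mul, map_mul, hp, MvPolynomial.map_X, bcPres, MvPolynomial.aeval_X,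
      Algebra.TensorProduct.tmul_mul_tmul, mul_one]

lemma bcPres_surjective (n : ℕ) (ψ : MvPolynomial (Fin n) R →ₐ[R] A)
    (hψ : Function.Surjective ψ) : Function.Surjective (bcPres R R' A n ψ) := by
  intro z
  induction z using TensorProduct.induction_on with
  | zero => exact ⟨0, map_zero _⟩
  | tmul r' a =>
    obtain ⟨p, rfl⟩ := hψ a
    refine ⟨MvPolynomial.C r' * MvPolynomial.map (algebraMap R R') p, ?_⟩
    rw [map_mul, bcPres_map, ← MvPolynomial.algebraMap_eq, AlgHom.commutes,
      Algebra.TensorProduct.algebraMap_apply, Algebra.algebraMap_self, RingHom.id_apply,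
      Algebra.TensorProduct.tmul_mul_tmul, mul_one, one_mul]
  | add x y hx hy =>
    obtain ⟨p, rfl⟩ := hx
    obtain ⟨q, rfl⟩ := hy
    exact ⟨p + q, _root_.map_add _ _ _⟩

/-- **Flat base change for the upper shriek**, with the base-changed presentation. -/
theorem Sh_flat_baseChange (n : ℕ) (ψ : MvPolynomial (Fin n) R →ₐ[R] A)
    (hψ : Function.Surjective ψ) (K : Dual.D R) (c : ℤ) [K.IsGE c] :
    Nonempty ((DRing.LBaseChange
        (Algebra.TensorProduct.includeRight : A →ₐ[R] R' ⊗[R] A).toRingHom).obj
        (Sh (algebraMap R (MvPolynomial (Fin n) R)) (ψ : MvPolynomial (Fin n) R →+* A) n K) ≅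
      Sh (algebraMap R' (MvPolynomial (Fin n) R'))
        (bcPres R R' A n ψ : MvPolynomial (Fin n) R' →+* R' ⊗[R] A) n
        ((DRing.LBaseChange (algebraMap R R')).obj K)) := by
  let P := MvPolynomial (Fin n) R
  let P' := MvPolynomial (Fin n) R'
  let A' := R' ⊗[R] A
  let _ : Algebra P A := ψ.toRingHom.toAlgebra
  let _ : Algebra P' A' := (bcPres R R' A n ψ).toRingHom.toAlgebra
  let _ : Algebra P A' := ((algebraMap A A').comp ψ.toRingHom).toAlgebra
  have : IsScalarTower P A A' := IsScalarTower.of_algebraMap_eq fun _ => rfl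
  have : IsScalarTower P P' A' :=
    IsScalarTower.of_algebraMap_eq fun p => (bcPres_map R R' A n ψ p).symm
  have : IsScalarTower R P A := IsScalarTower.of_algebraMap_eq fun r => (ψ.commutes r).symm
  have : IsScalarTower R' P' A' :=
    IsScalarTower.of_algebraMap_eq fun r => ((bcPres R R' A n ψ).commutes r).symm
  have : IsScalarTower R P' A' := IsScalarTower.of_algebraMap_eq fun r => by
    rw [IsScalarTower.algebraMap_apply R R' P', ← IsScalarTower.algebraMap_apply R' P' A',
      ← IsScalarTower.algebraMap_apply R R' A']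
  have : IsScalarTower R P A' := IsScalarTower.of_algebraMap_eq fun r => by
    rw [IsScalarTower.algebraMap_apply P A A', ← IsScalarTower.algebraMap_apply R P A,
      ← IsScalarTower.algebraMap_apply R A A']
  have h1 : Algebra.IsPushout R P R' P' := inferInstance
  have h2 : Algebra.IsPushout R A R' A' := inferInstance
  have h3 : Algebra.IsPushout P A P' A' :=
    (Algebra.IsPushout.comp_iff (R := R) (S := P) (R' := R') (S' := P') (T := A) (T' := A')).1 h2
  have h4 : Algebra.IsPushout P P' A A' := h3.symm
  have : Module.Flat P P' := Module.Flat.isBaseChange (R := R) (S := P) (M := R') (N := P') h1.out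
  have : Module.Flat A A' := Module.Flat.isBaseChange (R := R) (S := A) (M := R') (N := A') h2.out
  have : Module.Finite P A := Module.Finite.of_surjective (Algebra.linearMap P A) hψ
  let M := (DRing.LBaseChange (algebraMap R P)).obj K
  have : M.IsGE c := isGE_LBaseChange R P K c
  obtain ⟨sw⟩ := nonempty_LBaseChange_Rco_iso P A P' A' M c
  let X := (Rco (algebraMap P A)).obj M
  let i1 : (DRing.LBaseChange (algebraMap A A')).obj (X⟦(n : ℤ)⟧) ≅
      ((DRing.LBaseChange (algebraMap A A')).obj X)⟦(n : ℤ)⟧ := LShift _ n X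
  let i2 : (DRing.LBaseChange (algebraMap P P')).obj M ≅
      (DRing.LBaseChange (algebraMap R' P')).obj ((DRing.LBaseChange (algebraMap R R')).obj K) :=
    (LComp (algebraMap R P) (algebraMap P P') ((algebraMap P P').comp (algebraMap R P)) rfl).app K ≪≫
    ((LComp (algebraMap R R') (algebraMap R' P') ((algebraMap P P').comp (algebraMap R P))
      (by rw [← IsScalarTower.algebraMap_eq, ← IsScalarTower.algebraMap_eq])).app K).symm
  exact ⟨i1 ≪≫ (shiftFunctor (Dual.D A') (n : ℤ)).mapIso
    (sw ≪≫ (Rco (algebraMap P' A')).mapIso i2)⟩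

end BC

end Groth.Agent.Lib.Helper13.Shriek
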