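import Mathlib
import Groth.Prelude.Def_KZero
import Groth.Agent.Lib.Helper18.AD2

/-! # `[∐_{Fin r} M] = r • [M]` in `K0sub` (helper13, requested by helper18 for S17876) -/

set_option autoImplicit false
universe v u

open CategoryTheory CategoryTheory.Limits

namespace Groth.Agent.Lib.Helper13.SigmaConst

open Groth.Agent.Lib.Helper18

variable {A : Type u} [Category.{v} A] [Abelian A]

/-- the coproduct over `Fin 0` is a zero object -/
theorem isZero_sigma_fin_zero (M : A) : IsZero (∐ fun _ : Fin 0 => M) := by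
  have hI : IsInitial (∐ fun _ : Fin 0 => M) :=
    (isColimitEquivIsInitialOfIsEmpty A (colimit.cocone (Discrete.functor fun _ : Fin 0 => M)))
      (colimit.isColimit _)
  exact (isZero_zero A).of_iso (hI.uniqueUpToIso (isZero_zero A).isInitial)

/-- `∐_{Fin (r+1)} M ≅ M ⊞ ∐_{Fin r} M` -/
noncomputable def sigmaSuccIso (M : A) (r : ℕ) :
    (∐ fun _ : Fin (r + 1) => M) ≅ M ⊞ (∐ fun _ : Fin r => M) :=
  ((colimit.isColimit (Discrete.functor fun _ : Fin (r + 1) => M)).coconePointUniqueUpToIso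
    (extendCofanIsColimit (fun _ : Fin (r + 1) => M)
      (colimit.isColimit (Discrete.functor fun _ : Fin r => M))
      (colimit.isColimit (pair M (∐ fun _ : Fin r => M))))) ≪≫
    (biprod.isoCoprod M (∐ fun _ : Fin r => M)).symm

theorem clSub_sigma_const (Q : ObjectProperty A)
    (hiso : ∀ {M N : A}, (M ≅ N) → Q M → Q N) (hzero : ∀ M : A, IsZero M → Q M)
    (hbiprod : ∀ M N : A, Q M → Q N → Q (M ⊞ N)) (M : A) (hM : Q M) (r : ℕ) :
    Q (∐ fun _ : Fin r => M) ∧ KZero.clSub Q (∐ fun _ : Fin r => M) = r • KZero.clSub Q M := by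
  induction r with
  | zero =>
    have hz := isZero_sigma_fin_zero M
    exact ⟨hzero _ hz, by rw [AD2.clSub_of_isZero Q hz (hzero _ hz), zero_smul]⟩
  | succ r ih =>
    obtain ⟨hQ, hcl⟩ := ih
    have e := sigmaSuccIso M r
    have hQ' : Q (M ⊞ ∐ fun _ : Fin r => M) := hbiprod _ _ hM hQ
    have hQ'' : Q (∐ fun _ : Fin (r + 1) => M) := hiso e.symm hQ'
    refine ⟨hQ'', ?_⟩
    have h1 : KZero.clSub Q (∐ fun _ : Fin (r + 1) => M)
        = KZero.clSub Q (M ⊞ ∐ fun _ : Fin r => M) :=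
      AD2.clSub_iso Q e.symm hQ' hQ'' (hzero _ (isZero_cokernel_of_epi e.symm.hom))
    rw [h1]
    have hS := (ShortComplex.Splitting.ofHasBinaryBiproduct M
      (∐ fun _ : Fin r => M)).shortExact
    have h2 := AD2.clSub_add Q _ hS hM hQ' hQ
    rw [h2, hcl, succ_nsmul, add_comm]

end Groth.Agent.Lib.Helper13.SigmaConst
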