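import Groth.Agent.Lib.Helper13.SkDual1

/-!
# Openness of the `(S_k)` locus
-/

set_option autoImplicit false
set_option linter.unusedSectionVars false
set_option linter.style.haveILetI false

open CategoryTheory CategoryTheory.Limits Pretriangulated TensorProduct

universe u

namespace Groth.Agent.Lib.Helper13.SkDual

open DerivedCategory Groth.Agent.Lib.Helper13.Coind Groth.Agent.Lib.Helper13.PC
  Groth.Agent.Lib.Helper13.DR Groth.Agent.Lib.Helper13.Shriek Groth.Agent.Lib.Helper13.BD
  Groth.Agent.Lib.Helper13.HomBC Groth.Agent.Lib.Helper13.DualBC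

attribute [local instance] HasDerivedCategory.standard

section Open

variable (A : Type u) [CommRing A] [IsNoetherianRing A]
  (M : Type u) [AddCommGroup M] [Module A M]

/-- `dim M_P` is monotone in `P`. -/
lemma supportDim_localizedModule_mono {P₀ P : PrimeSpectrum A} (h : P₀ ≤ P) :
    Module.supportDim (Localization.AtPrime P₀.asIdeal)
        (LocalizedModule P₀.asIdeal.primeCompl M) ≤
      Module.supportDim (Localization.AtPrime P.asIdeal)
        (LocalizedModule P.asIdeal.primeCompl M) := by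
  rw [Groth.Agent.Lib.Helper18.SkAt.supportDim_localizedModule_eq_krullDim,
    Groth.Agent.Lib.Helper18.SkAt.supportDim_localizedModule_eq_krullDim]
  let f : {Q : Module.support A M // Q.1.asIdeal ≤ P₀.asIdeal} →
      {Q : Module.support A M // Q.1.asIdeal ≤ P.asIdeal} := fun Q => ⟨Q.1, le_trans Q.2 h⟩
  exact Order.krullDim_le_of_strictMono f (fun Q₁ Q₂ h12 => h12)

/-- The specialization closure of the locus in `V(I)` where `dim M_P < c` is closed. -/
lemma isClosed_bad (I : Ideal A) (c : ℕ) :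
    IsClosed {p : PrimeSpectrum A | ∃ P : PrimeSpectrum A, P ≤ p ∧ I ≤ P.asIdeal ∧
      ¬ ((c : WithBot ℕ∞) ≤ Module.supportDim (Localization.AtPrime P.asIdeal)
        (LocalizedModule P.asIdeal.primeCompl M))} := by
  have hfin : (I.minimalPrimes).Finite := Ideal.finite_minimalPrimes_of_isNoetherianRing A I
  have hEq : {p : PrimeSpectrum A | ∃ P : PrimeSpectrum A, P ≤ p ∧ I ≤ P.asIdeal ∧
      ¬ ((c : WithBot ℕ∞) ≤ Module.supportDim (Localization.AtPrime P.asIdeal)
        (LocalizedModule P.asIdeal.primeCompl M))} =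
      ⋃ J ∈ I.minimalPrimes, {p : PrimeSpectrum A | J ≤ p.asIdeal ∧
        ∃ P : PrimeSpectrum A, P.asIdeal = J ∧
          ¬ ((c : WithBot ℕ∞) ≤ Module.supportDim (Localization.AtPrime P.asIdeal)
            (LocalizedModule P.asIdeal.primeCompl M))} := by
    ext p
    simp only [Set.mem_ofPred_eq, Set.mem_iUnion, exists_prop]
    constructor
    · rintro ⟨P, hPp, hIP, hdim⟩
      obtain ⟨J, hJ, hJP⟩ := Ideal.exists_minimalPrimes_le hIP
      have hJprime : J.IsPrime := hJ.1.1
      refine ⟨J, hJ, le_trans hJP hPp, ⟨J, hJprime⟩, rfl, fun hc => hdim ?_⟩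
      exact le_trans hc (supportDim_localizedModule_mono A M (P₀ := ⟨J, hJprime⟩) (P := P) hJP)
    · rintro ⟨J, hJ, hJp, P, rfl, hdim⟩
      exact ⟨P, hJp, hJ.1.2, hdim⟩
  rw [hEq]
  refine hfin.isClosed_biUnion (fun J _ => ?_)
  by_cases hex : ∃ P : PrimeSpectrum A, P.asIdeal = J ∧
      ¬ ((c : WithBot ℕ∞) ≤ Module.supportDim (Localization.AtPrime P.asIdeal)
        (LocalizedModule P.asIdeal.primeCompl M))
  · have : {p : PrimeSpectrum A | J ≤ p.asIdeal ∧ ∃ P : PrimeSpectrum A, P.asIdeal = J ∧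
        ¬ ((c : WithBot ℕ∞) ≤ Module.supportDim (Localization.AtPrime P.asIdeal)
          (LocalizedModule P.asIdeal.primeCompl M))} = PrimeSpectrum.zeroLocus (J : Set A) := by
      ext p
      simp only [Set.mem_ofPred_eq, PrimeSpectrum.mem_zeroLocus, SetLike.coe_subset_coe]
      exact ⟨fun h => h.1, fun h => ⟨h, hex⟩⟩
    rw [this]
    exact PrimeSpectrum.isClosed_zeroLocus _
  · have : {p : PrimeSpectrum A | J ≤ p.asIdeal ∧ ∃ P : PrimeSpectrum A, P.asIdeal = J ∧
        ¬ ((c : WithBot ℕ∞) ≤ Module.supportDim (Localization.AtPrime P.asIdeal)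
          (LocalizedModule P.asIdeal.primeCompl M))} = ∅ := by
      ext p
      simp only [Set.mem_ofPred_eq, Set.mem_empty_iff_false, iff_false, not_and]
      exact fun _ => hex
    rw [this]
    exact isClosed_empty

variable [Module.Finite A M]

/-- **The `(S_k)` locus of a finite module over a Noetherian ring with a dualizing complex is
open.** -/
theorem isOpen_skLocus (ω : Dual.D A) (hω : Dual.IsDualizing A ω) (k : ℕ) :
    IsOpen {p : PrimeSpectrum A | EGA4.HasSkAt k A M p.asIdeal} := by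
  obtain ⟨hA, ⟨a, b, h2⟩, h3, h4, h5⟩ := id hω
  rw [← isClosed_compl_iff]
  let I : ℤ → ℤ → Ideal A := fun i j =>
    Module.annihilator A (Dual.inD A M ⟶ ω⟦i⟧) ⊔ Module.annihilator A (Dual.inD A M ⟶ ω⟦j⟧)
  have hsupp : ∀ (i : ℤ) (P : PrimeSpectrum A),
      P ∈ Module.support A (Dual.inD A M ⟶ ω⟦i⟧) ↔
        Module.annihilator A (Dual.inD A M ⟶ ω⟦i⟧) ≤ P.asIdeal := by
    intro i P
    have := finite_ext' A ω hω M i
    rw [Module.support_eq_zeroLocus, PrimeSpectrum.mem_zeroLocus, SetLike.coe_subset_coe]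
  have hvan : ∀ (i : ℤ) (P : PrimeSpectrum A), P ∈ Module.support A (Dual.inD A M ⟶ ω⟦i⟧) →
      a ≤ i ∧ i ≤ b := by
    intro i P hP
    by_contra hcon
    have := h2 M i (by omega)
    rw [Module.support_eq_empty] at hP
    exact hP
  have hEq : {p : PrimeSpectrum A | EGA4.HasSkAt k A M p.asIdeal}ᶜ =
      ⋃ i ∈ Finset.Icc a b, ⋃ j ∈ Finset.Icc a b,
        {p : PrimeSpectrum A | j < i ∧ ∃ P : PrimeSpectrum A, P ≤ p ∧ I i j ≤ P.asIdeal ∧
          ¬ (((((k : ℤ) + i - j).toNat : ℕ) : WithBot ℕ∞) ≤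
            Module.supportDim (Localization.AtPrime P.asIdeal)
              (LocalizedModule P.asIdeal.primeCompl M))} := by
    ext p
    simp only [Set.mem_compl_iff, Set.mem_ofPred_eq, Set.mem_iUnion, exists_prop,
      Finset.mem_Icc]
    rw [Groth.Agent.Lib.Helper18.SkAt.hasSkAt_iff]
    constructor
    · intro hnot
      push Not at hnot
      obtain ⟨P, hP, hPp, hbad⟩ := hnot
      rw [skIneq_iff A ω hω M k ⟨P, hP⟩] at hbad
      push Not at hbad
      obtain ⟨i, j, hji, hi, hj, hdim⟩ := hbad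
      refine ⟨i, hvan i _ hi, j, hvan j _ hj, hji, ⟨P, hP⟩, hPp, ?_, not_le.2 hdim⟩
      exact sup_le ((hsupp i _).1 hi) ((hsupp j _).1 hj)
    · rintro ⟨i, -, j, -, hji, P, hPp, hIP, hdim⟩ hall
      have h1 := hall P.asIdeal hPp
      rw [skIneq_iff A ω hω M k P] at h1
      exact hdim (h1 i j hji ((hsupp i P).2 (le_trans le_sup_left hIP))
        ((hsupp j P).2 (le_trans le_sup_right hIP)))
  rw [hEq]
  refine Set.Finite.isClosed_biUnion (Finset.finite_toSet _) (fun i _ => ?_)
  refine Set.Finite.isClosed_biUnion (Finset.finite_toSet _) (fun j _ => ?_)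
  by_cases hji : j < i
  · have : {p : PrimeSpectrum A | j < i ∧ ∃ P : PrimeSpectrum A, P ≤ p ∧ I i j ≤ P.asIdeal ∧
          ¬ (((((k : ℤ) + i - j).toNat : ℕ) : WithBot ℕ∞) ≤
            Module.supportDim (Localization.AtPrime P.asIdeal)
              (LocalizedModule P.asIdeal.primeCompl M))} =
        {p : PrimeSpectrum A | ∃ P : PrimeSpectrum A, P ≤ p ∧ I i j ≤ P.asIdeal ∧
          ¬ (((((k : ℤ) + i - j).toNat : ℕ) : WithBot ℕ∞) ≤
            Module.supportDim (Localization.AtPrime P.asIdeal)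
              (LocalizedModule P.asIdeal.primeCompl M))} := by
      ext p
      simp only [Set.mem_ofPred_eq, hji, true_and]
    rw [this]
    exact isClosed_bad A M (I i j) _
  · have : {p : PrimeSpectrum A | j < i ∧ ∃ P : PrimeSpectrum A, P ≤ p ∧ I i j ≤ P.asIdeal ∧
          ¬ (((((k : ℤ) + i - j).toNat : ℕ) : WithBot ℕ∞) ≤
            Module.supportDim (Localization.AtPrime P.asIdeal)
              (LocalizedModule P.asIdeal.primeCompl M))} = ∅ := by
      ext p
      simp only [Set.mem_ofPred_eq, hji, false_and, Set.mem_empty_iff_false]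
    rw [this]
    exact isClosed_empty

end Open

end Groth.Agent.Lib.Helper13.SkDual
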