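import Groth.Agent.Lib.Helper13.SkDual3

/-!
# Finiteness of the set of primes of depth exactly `k` under `(S_k)`
-/

set_option autoImplicit false
set_option linter.unusedSectionVars false
set_option linter.style.haveILetI false

open CategoryTheory CategoryTheory.Limits Pretriangulated TensorProduct

universe u

namespace Groth.Agent.Lib.Helper13.SkDual

open DerivedCategory Groth.Agent.Lib.Helper13.Coind Groth.Agent.Lib.Helper13.PC
  Groth.Agent.Lib.Helper13.DR Groth.Agent.Lib.Helper13.Shriek Groth.Agent.Lib.Helper13.BD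
  Groth.Agent.Lib.Helper13.HomBC Groth.Agent.Lib.Helper13.DualBC

attribute [local instance] HasDerivedCategory.standard

variable (A : Type u) [CommRing A] [IsNoetherianRing A]

theorem finite_setOf_depth_eq_of_hasSk (ω : Dual.D A) (hω : Dual.IsDualizing A ω)
    (M : Type u) [AddCommGroup M] [Module A M] [Module.Finite A M] (k : ℕ)
    (hM : LocCoh.HasSk k A M) :
    Set.Finite {p : PrimeSpectrum A |
      LocCoh.depth (Localization.AtPrime p.asIdeal) (LocalizedModule p.asIdeal.primeCompl M) = k ∧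
      (k : WithBot ℕ∞) < Module.supportDim (Localization.AtPrime p.asIdeal)
        (LocalizedModule p.asIdeal.primeCompl M)} := by
  obtain ⟨hA, ⟨a, b, h2⟩, h3, h4, h5⟩ := id hω
  obtain ⟨T, hmono, hT⟩ := exists_strictMono_top A ω hω
  let I : ℤ → ℤ → Ideal A := fun i j =>
    Module.annihilator A (Dual.inD A M ⟶ ω⟦i⟧) ⊔ Module.annihilator A (Dual.inD A M ⟶ ω⟦j⟧)
  have hsupp : ∀ (i : ℤ) (P : PrimeSpectrum A),
      P ∈ Module.support A (Dual.inD A M ⟶ ω⟦i⟧) ↔
        Module.annihilator A (Dual.inD A M ⟶ ω⟦i⟧) ≤ P.asIdeal := by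
    intro i P
    have := finite_ext' A ω hω M i
    rw [Module.support_eq_zeroLocus, PrimeSpectrum.mem_zeroLocus, SetLike.coe_subset_coe]
  have hvan : ∀ (i : ℤ) (P : PrimeSpectrum A), P ∈ Module.support A (Dual.inD A M ⟶ ω⟦i⟧) →
      a ≤ i ∧ i ≤ b := by
    intro i P hP
    by_contra hcon
    have := h2 M i (by omega)
    rw [Module.support_eq_empty] at hP
    exact hP
  have hntr : ∀ (p : PrimeSpectrum A) (j : ℤ), p ∈ Module.support A (Dual.inD A M ⟶ ω⟦j⟧) →
      Nontrivial (LocalizedModule p.asIdeal.primeCompl M) := by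
    intro p j hj
    by_contra hcon
    rw [not_nontrivial_iff_subsingleton] at hcon
    have hz : IsZero (Dual.inD (Localization.AtPrime p.asIdeal)
        (LocalizedModule p.asIdeal.primeCompl M)) :=
      Functor.map_isZero _ (ModuleCat.isZero_of_subsingleton _)
    have h2 := (mem_support_ext_iff_localized A ω hω M 0 p j j (by ring)).1 hj
    have : Subsingleton (Dual.inD (Localization.AtPrime p.asIdeal)
        (LocalizedModule p.asIdeal.primeCompl M) ⟶
        (((flatBC A (Localization.AtPrime p.asIdeal)).obj ω)⟦(0 : ℤ)⟧)⟦j⟧) :=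
      ⟨fun f g => hz.eq_of_src f g⟩
    exact not_nontrivial _ h2
  have hfin : ∀ i j : ℤ, Set.Finite {p : PrimeSpectrum A | p.asIdeal ∈ (I i j).minimalPrimes} := by
    intro i j
    have h := Ideal.finite_minimalPrimes_of_isNoetherianRing A (I i j)
    refine Set.Finite.of_injOn (f := fun p : PrimeSpectrum A => p.asIdeal) (fun p hp => hp) ?_ h
    intro p _ q _ hpq
    exact PrimeSpectrum.ext hpq
  refine Set.Finite.subset (Set.Finite.biUnion (Finset.finite_toSet (Finset.Icc a b))
    (fun i _ => Set.Finite.biUnion (Finset.finite_toSet (Finset.Icc a b))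
      (fun j _ => hfin i j))) ?_
  rintro p ⟨hpe, hpd⟩
  haveI : Nontrivial (LocalizedModule p.asIdeal.primeCompl M) := by
    by_contra hcon
    rw [not_nontrivial_iff_subsingleton] at hcon
    rw [Module.supportDim_eq_bot_of_subsingleton] at hpd
    exact not_lt_bot hpd
  obtain ⟨e, d, he, hd, hed, hrange, hmemE, hmemD⟩ := ext_support_range_T A ω hω T hT M p
  have hek : e = k := by
    rw [he] at hpe
    exact_mod_cast hpe
  have hkd : k < d := by
    rw [hd] at hpd
    exact_mod_cast hpd
  simp only [Set.mem_iUnion, Finset.coe_Icc, Set.mem_Icc, Set.mem_ofPred_eq, exists_prop]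
  refine ⟨T p - e, hvan _ p hmemE, T p - d, hvan _ p hmemD, ⟨⟨p.2, ?_⟩, ?_⟩⟩
  · exact sup_le ((hsupp _ p).1 hmemE) ((hsupp _ p).1 hmemD)
  · rintro η ⟨hηprime, hIη⟩ hηp
    by_contra hnot
    let η' : PrimeSpectrum A := ⟨η, hηprime⟩
    have hlt : η' < p := lt_of_le_of_ne hηp (fun h => hnot (by rw [← h]))
    have hTlt := hmono hlt
    have hη1 : η' ∈ Module.support A (Dual.inD A M ⟶ ω⟦T p - e⟧) :=
      (hsupp _ η').2 (le_trans le_sup_left hIη)
    have hη2 : η' ∈ Module.support A (Dual.inD A M ⟶ ω⟦T p - d⟧) :=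
      (hsupp _ η').2 (le_trans le_sup_right hIη)
    haveI := hntr η' _ hη1
    obtain ⟨e₀, d₀, he₀, hd₀, hed₀, hrange₀, -, -⟩ := ext_support_range_T A ω hω T hT M η'
    have r1 := hrange₀ _ hη1
    have r2 := hrange₀ _ hη2
    have hsk := hM η
    rw [he₀, hd₀] at hsk
    have h1 : e₀ < k := by lia
    have h2 : e₀ < d₀ := by lia
    rcases min_le_iff.1 hsk with h | h
    · have h' : k ≤ e₀ := by exact_mod_cast h
      lia
    · have h' : d₀ ≤ e₀ := by exact_mod_cast h
      lia

end Groth.Agent.Lib.Helper13.SkDual
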