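import Mathlib
import Groth.Agent.Lib.Helper13.SkDual3
import Groth.Agent.Lib.Helper13.DualMod2
import Groth.Agent.Lib.Helper13.DualBC37
import Groth.Agent.Lib.Helper18.SerreNormal

set_option autoImplicit false
set_option linter.style.haveILetI false
set_option linter.unusedSectionVars false

open CategoryTheory CategoryTheory.Limits Pretriangulated TensorProduct

universe u

namespace Groth.Agent.Lib.Helper13.SkDual

open DerivedCategory Groth.Agent.Lib.Helper13.Coind Groth.Agent.Lib.Helper13.PC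
  Groth.Agent.Lib.Helper13.DR Groth.Agent.Lib.Helper13.Shriek Groth.Agent.Lib.Helper13.BD
  Groth.Agent.Lib.Helper13.HomBC Groth.Agent.Lib.Helper13.DualBC

attribute [local instance] HasDerivedCategory.standard

section Order

variable {α : Type*} [PartialOrder α]

/-- A dimension function vanishing on enough large elements computes the coheight. -/
lemma coheight_eq_of_dimFunction' (T : α → ℤ) (hT : StrictMono T)
    (hcov : ∀ a b : α, a ⋖ b → T b = T a + 1) (hle : ∀ p, T p ≤ 0)
    (hmax : ∀ p, ∃ m, p ≤ m ∧ T m = 0) (p : α) :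
    Order.coheight p = ((-T p).toNat : ℕ∞) := by
  refine le_antisymm ?_ ?_
  · refine Order.coheight_le (fun s hs => ?_)
    have h1 := add_length_le_of_strictMono T hT s
    have h2 : T s.last ≤ 0 := hle _
    rw [hs] at h1
    have : s.length ≤ (-T p).toNat := by omega
    exact_mod_cast this
  · have key : ∀ (n : ℕ) (p : α), T p = -(n : ℤ) → (n : ℕ∞) ≤ Order.coheight p := by
      intro n
      induction n with
      | zero => intro p _; simp
      | succ n ih =>
        intro p hp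
        obtain ⟨m, hpm', hm0⟩ := hmax p
        have hpm : p < m := by
          refine lt_of_le_of_ne hpm' (fun h => ?_)
          rw [h, hm0] at hp
          push_cast at hp
          omega
        obtain ⟨q, hpq, -⟩ := exists_covBy_of_strictMono T hT p m hpm
        have hq : T q = -(n : ℤ) := by
          rw [hcov p q hpq, hp]
          push_cast
          ring
        have h1 := ih q hq
        have h2 := Order.coheight_add_one_le hpq.lt
        calc ((n + 1 : ℕ) : ℕ∞) = (n : ℕ∞) + 1 := by push_cast; rfl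
          _ ≤ Order.coheight q + 1 := by gcongr
          _ ≤ Order.coheight p := h2
    exact key (-T p).toNat p (by have := hle p; omega)

end Order

section Global

variable (A : Type u) [CommRing A] [IsNoetherianRing A]

/-- For a dualizing complex normalized at every maximal ideal, the dimension function is
`p ↦ -dim(A/p)`. -/
theorem top_eq_neg_dim_global (ω : Dual.D A) (hω : Dual.IsDualizing A ω)
    (hnorm : ∀ (m : Ideal A) (_ : m.IsMaximal) (i : ℤ), i ≠ 0 →
      Subsingleton (Dual.inD A (A ⧸ m) ⟶ ω⟦i⟧))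
    (T : PrimeSpectrum A → ℤ) (hmono : StrictMono T)
    (hT : ∀ p : PrimeSpectrum A,
      p ∈ Module.support A (Dual.inD A (A ⧸ p.asIdeal) ⟶ ω⟦T p⟧) ∧
      ∀ j : ℤ, T p < j → p ∉ Module.support A (Dual.inD A (A ⧸ p.asIdeal) ⟶ ω⟦j⟧)) :
    (∀ m : PrimeSpectrum A, m.asIdeal.IsMaximal → T m = 0) ∧
    ∀ p : PrimeSpectrum A,
      T p ≤ 0 ∧ ringKrullDim (A ⧸ p.asIdeal) = (((-T p).toNat : ℕ∞) : WithBot ℕ∞) := by
  have hcov := top_covBy A ω hω T hmono hT
  have hm0 : ∀ m : PrimeSpectrum A, m.asIdeal.IsMaximal → T m = 0 := by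
    intro m hm
    by_contra hne
    have h1 : Subsingleton (Dual.inD A (A ⧸ m.asIdeal) ⟶ ω⟦T m⟧) := hnorm m.asIdeal hm _ hne
    have h3 : Subsingleton (LocalizedModule m.asIdeal.primeCompl
        (Dual.inD A (A ⧸ m.asIdeal) ⟶ ω⟦T m⟧)) := inferInstance
    exact (Module.notMem_support_iff.2 h3) (hT m).1
  have hex : ∀ p : PrimeSpectrum A, ∃ m : PrimeSpectrum A, p ≤ m ∧ T m = 0 := by
    intro p
    obtain ⟨m, hm, hpm⟩ := Ideal.exists_le_maximal p.asIdeal p.isPrime.ne_top
    exact ⟨⟨m, hm.isPrime⟩, hpm, hm0 ⟨m, hm.isPrime⟩ hm⟩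
  have hle : ∀ p : PrimeSpectrum A, T p ≤ 0 := by
    intro p
    obtain ⟨m, hpm, hm⟩ := hex p
    rw [← hm]
    exact hmono.monotone hpm
  refine ⟨hm0, fun p => ⟨hle p, ?_⟩⟩
  rw [ringKrullDim_quotient_eq_coheight, coheight_eq_of_dimFunction' T hmono hcov hle hex p]

end Global

section GlobalRange

variable (A : Type u) [CommRing A] [IsNoetherianRing A]

/-- Global version of `range_of_equidim`. -/
theorem range_of_equidim_global (ω : Dual.D A) (hω : Dual.IsDualizing A ω)
    (T : PrimeSpectrum A → ℤ) (hmono : StrictMono T)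
    (hT : ∀ p : PrimeSpectrum A,
      p ∈ Module.support A (Dual.inD A (A ⧸ p.asIdeal) ⟶ ω⟦T p⟧) ∧
      ∀ j : ℤ, T p < j → p ∉ Module.support A (Dual.inD A (A ⧸ p.asIdeal) ⟶ ω⟦j⟧))
    (hm0 : ∀ m : PrimeSpectrum A, m.asIdeal.IsMaximal → T m = 0)
    (hTdim : ∀ p : PrimeSpectrum A,
      T p ≤ 0 ∧ ringKrullDim (A ⧸ p.asIdeal) = (((-T p).toNat : ℕ∞) : WithBot ℕ∞))
    (M : Type u) [AddCommGroup M] [Module A M] [Module.Finite A M]
    (hM : EGA4.IsEquidimModule A M) (δ : ℕ) (hδ : Module.supportDim A M = δ)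
    (p : PrimeSpectrum A) [Nontrivial (LocalizedModule p.asIdeal.primeCompl M)] :
    Module.supportDim (Localization.AtPrime p.asIdeal)
        (LocalizedModule p.asIdeal.primeCompl M) = ((T p + δ).toNat : ℕ) ∧ 0 ≤ T p + δ ∧
      (∀ j : ℤ, p ∈ Module.support A (Dual.inD A M ⟶ ω⟦j⟧) → -(δ : ℤ) ≤ j) ∧
      p ∈ Module.support A (Dual.inD A M ⟶ ω⟦-(δ : ℤ)⟧) := by
  obtain ⟨e, d, he, hd, hed, hrange, hmemE, hmemD⟩ := ext_support_range_T A ω hω T hT M p
  have hpM : p ∈ Module.support A M := Module.mem_support_iff.2 inferInstance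
  have hann : Module.annihilator A M ≤ p.asIdeal := Module.mem_support_iff_of_finite.1 hpM
  obtain ⟨q₀, hq₀, hq₀p⟩ := Ideal.exists_minimalPrimes_le hann
  have hq₀prime : q₀.IsPrime := hq₀.1.1
  let Q₀ : PrimeSpectrum A := ⟨q₀, hq₀prime⟩
  have hQ₀M : Q₀ ∈ Module.support A M := Module.mem_support_iff_of_finite.2 hq₀.1.2
  haveI : Nontrivial (LocalizedModule Q₀.asIdeal.primeCompl M) := Module.mem_support_iff.1 hQ₀M
  obtain ⟨e₀, d₀, he₀, hd₀, hed₀, hrange₀, hmemE₀, hmemD₀⟩ :=
    ext_support_range_T A ω hω T hT M Q₀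
  have hd₀0 : d₀ = 0 := by
    have h1 : Module.supportDim (Localization.AtPrime q₀) (LocalizedModule q₀.primeCompl M) ≤ 0 := by
      rw [Groth.Agent.Lib.Helper18.SkAt.supportDim_localizedModule_le_zero_iff M q₀ hQ₀M]
      intro Q hQ
      have hannQ : Module.annihilator A M ≤ Q.1.asIdeal := Module.mem_support_iff_of_finite.1 Q.2
      exact hq₀.2 ⟨Q.1.isPrime, hannQ⟩ hQ
    have h2 : ((d₀ : ℕ) : WithBot ℕ∞) ≤ 0 := hd₀ ▸ h1
    have h3 : d₀ ≤ 0 := by exact_mod_cast h2
    omega
  obtain ⟨hT0, hTdimQ⟩ := hTdim Q₀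
  have hTQ₀ : T Q₀ = -(δ : ℤ) := by
    have h1 : ringKrullDim (A ⧸ q₀) = Module.supportDim A M := hM q₀ hq₀
    rw [hδ] at h1
    have h2 : (((-T Q₀).toNat : ℕ∞) : WithBot ℕ∞) = ((δ : ℕ) : WithBot ℕ∞) := hTdimQ.symm.trans h1
    have h3 : (-T Q₀).toNat = δ := by exact_mod_cast h2
    omega
  have hmem1 : p ∈ Module.support A (Dual.inD A M ⟶ ω⟦-(δ : ℤ)⟧) := by
    have h1 : Q₀ ∈ Module.support A (Dual.inD A M ⟶ ω⟦T Q₀ - (d₀ : ℕ)⟧) := hmemD₀
    have hz : T Q₀ - ((d₀ : ℕ) : ℤ) = -(δ : ℤ) := by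
      rw [hd₀0, hTQ₀]
      simp
    rw [hz] at h1
    exact Module.mem_support_mono hq₀p h1
  have hge : T p - d ≤ -(δ : ℤ) := (hrange _ hmem1).1
  -- a maximal ideal above `p`
  obtain ⟨m', hm'max, hpm'⟩ := Ideal.exists_le_maximal p.asIdeal p.isPrime.ne_top
  let m : PrimeSpectrum A := ⟨m', hm'max.isPrime⟩
  have hpm : p ≤ m := hpm'
  have hmM : m ∈ Module.support A M := Module.mem_support_mono hpm hpM
  haveI : Nontrivial (LocalizedModule m.asIdeal.primeCompl M) := Module.mem_support_iff.1 hmM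
  obtain ⟨em, dm, hem, hdm, hedm, hrangem, hmemEm, hmemDm⟩ :=
    ext_support_range_T A ω hω T hT M m
  have hdmδ : dm ≤ δ := by
    have h1 : Module.supportDim (Localization.AtPrime m.asIdeal)
        (LocalizedModule m.asIdeal.primeCompl M) ≤ Module.supportDim A M := by
      rw [Groth.Agent.Lib.Helper18.SkAt.supportDim_localizedModule_eq_krullDim]
      unfold Module.supportDim
      exact Order.krullDim_le_of_strictMono
        (fun Q : {Q : Module.support A M // Q.1.asIdeal ≤ m.asIdeal} => Q.1)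
        (fun Q₁ Q₂ h12 => h12)
    rw [hdm, hδ] at h1
    exact_mod_cast h1
  have hTm : T m = 0 := hm0 m hm'max
  have hle : -(δ : ℤ) ≤ T p - d := by
    have h1 : m ∈ Module.support A (Dual.inD A M ⟶ ω⟦T p - d⟧) := Module.mem_support_mono hpm hmemD
    have h2 := (hrangem _ h1).1
    rw [hTm] at h2
    omega
  have hdeq : (d : ℤ) = T p + δ := by omega
  refine ⟨?_, by omega, fun j hj => ?_, hmem1⟩
  · rw [hd]
    congr 1
    omega
  · have := (hrange j hj).1
    omega

/-- Global version of `hasSk_iff_of_equidim`: `(S_k)` for an equidimensional module over a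
Noetherian ring with a dualizing complex normalized at every maximal ideal. -/
theorem hasSk_iff_of_equidim_global (ω : Dual.D A) (hω : Dual.IsDualizing A ω)
    (hnorm : ∀ (m : Ideal A) (_ : m.IsMaximal) (i : ℤ), i ≠ 0 →
      Subsingleton (Dual.inD A (A ⧸ m) ⟶ ω⟦i⟧))
    (M : Type u) [AddCommGroup M] [Module A M] [Module.Finite A M]
    (hM : EGA4.IsEquidimModule A M) (δ : ℕ) (hδ : Module.supportDim A M = δ) (k : ℕ) :
    LocCoh.HasSk k A M ↔
      ∀ j : ℤ, j ≠ -(δ : ℤ) →
        (-j - (k : ℤ) < 0 → Subsingleton (Dual.inD A M ⟶ ω⟦j⟧)) ∧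
        (0 ≤ -j - (k : ℤ) → Module.supportDim A (Dual.inD A M ⟶ ω⟦j⟧) ≤
          ((-j - (k : ℤ)).toNat : WithBot ℕ∞)) := by
  obtain ⟨T, hmono, hT⟩ := exists_strictMono_top A ω hω
  obtain ⟨hm0, hTdim⟩ := top_eq_neg_dim_global A ω hω hnorm T hmono hT
  have hntr : ∀ (p : PrimeSpectrum A) (j : ℤ), p ∈ Module.support A (Dual.inD A M ⟶ ω⟦j⟧) →
      Nontrivial (LocalizedModule p.asIdeal.primeCompl M) := by
    intro p j hj
    by_contra hcon
    rw [not_nontrivial_iff_subsingleton] at hcon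
    have hz : IsZero (Dual.inD (Localization.AtPrime p.asIdeal)
        (LocalizedModule p.asIdeal.primeCompl M)) :=
      Functor.map_isZero _ (ModuleCat.isZero_of_subsingleton _)
    have h2 := (mem_support_ext_iff_localized A ω hω M 0 p j j (by ring)).1 hj
    have : Subsingleton (Dual.inD (Localization.AtPrime p.asIdeal)
        (LocalizedModule p.asIdeal.primeCompl M) ⟶
        (((flatBC A (Localization.AtPrime p.asIdeal)).obj ω)⟦(0 : ℤ)⟧)⟦j⟧) :=
      ⟨fun f g => hz.eq_of_src f g⟩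
    exact not_subsingleton _ this
  constructor
  · intro hSk j hj
    have hpt : ∀ p : PrimeSpectrum A, p ∈ Module.support A (Dual.inD A M ⟶ ω⟦j⟧) →
        (k : ℤ) + j ≤ T p := by
      intro p hp
      haveI := hntr p j hp
      obtain ⟨hd, h0, hlow, hmem⟩ :=
        range_of_equidim_global A ω hω T hmono hT hm0 hTdim M hM δ hδ p
      have hjlow := hlow j hp
      have h1 := (skIneq_iff A ω hω M k p).1 (hSk p.asIdeal) j (-(δ : ℤ)) (by omega) hp hmem
      rw [hd] at h1
      have h2 : ((k : ℤ) + j - -(δ : ℤ)).toNat ≤ (T p + δ).toNat := by exact_mod_cast h1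
      omega
    constructor
    · intro hneg
      have hempty : Module.support A (Dual.inD A M ⟶ ω⟦j⟧) = ∅ := by
        ext p
        simp only [Set.mem_empty_iff_false, iff_false]
        intro hp
        have h1 := hpt p hp
        have h2 := (hTdim p).1
        omega
      exact Module.support_eq_empty_iff.1 hempty
    · intro hpos
      refine supportDim_le_of_forall _ _ (fun p hp => ?_)
      have h1 := hpt p hp
      obtain ⟨h2, h3⟩ := hTdim p
      rw [h3]
      have : (-T p).toNat ≤ (-j - (k : ℤ)).toNat := by omega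
      exact_mod_cast this
  · intro h P hP
    refine (skIneq_iff A ω hω M k ⟨P, hP⟩).2 ?_
    intro i j hji hi hj
    haveI := hntr ⟨P, hP⟩ i hi
    obtain ⟨hd, h0, hlow, hmem⟩ :=
      range_of_equidim_global A ω hω T hmono hT hm0 hTdim M hM δ hδ ⟨P, hP⟩
    have hjlow := hlow j hj
    have hine : i ≠ -(δ : ℤ) := by omega
    obtain ⟨hA1, hA2⟩ := h i hine
    have hpos : 0 ≤ -i - (k : ℤ) := by
      by_contra hcon
      have := hA1 (by omega)
      rw [Module.mem_support_iff] at hi
      exact not_subsingleton _ (inferInstance : Subsingleton (LocalizedModule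
        (⟨P, hP⟩ : PrimeSpectrum A).asIdeal.primeCompl (Dual.inD A M ⟶ ω⟦i⟧)))
    have h1 := le_trans (ringKrullDim_quotient_le_supportDim _ ⟨P, hP⟩ hi) (hA2 hpos)
    obtain ⟨h2, h3⟩ := hTdim ⟨P, hP⟩
    rw [h3] at h1
    have h4 : (-T ⟨P, hP⟩).toNat ≤ (-i - (k : ℤ)).toNat := by exact_mod_cast h1
    rw [hd]
    have : ((k : ℤ) + i - j).toNat ≤ (T ⟨P, hP⟩ + δ).toNat := by omega
    exact_mod_cast this

end GlobalRange

section GlobalVanish

variable (A : Type u) [CommRing A] [IsNoetherianRing A]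

/-- A dualizing complex normalized at all maximal ideals of a ring of dimension `n` lives in
degrees `[-n, 0]`. -/
theorem subsingleton_HD_global (ω : Dual.D A) (hω : Dual.IsDualizing A ω)
    (hnorm : ∀ (m : Ideal A) (_ : m.IsMaximal) (i : ℤ), i ≠ 0 →
      Subsingleton (Dual.inD A (A ⧸ m) ⟶ ω⟦i⟧))
    (n : ℕ) (hd : ringKrullDim A = n) (j : ℤ) (hj : j < -(n : ℤ) ∨ 0 < j) :
    Subsingleton (Dual.HD A ω j) := by
  obtain ⟨T, hmono, hT⟩ := exists_strictMono_top A ω hω
  obtain ⟨hm0, hTdim⟩ := top_eq_neg_dim_global A ω hω hnorm T hmono hT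
  by_contra hcon
  rw [not_subsingleton_iff_nontrivial] at hcon
  obtain ⟨p, hp⟩ := Module.nonempty_support_of_nontrivial (R := A) (M := Dual.HD A ω j)
  rw [← (homSelfHDEquiv A ω j).support_eq] at hp
  haveI : Nontrivial (LocalizedModule p.asIdeal.primeCompl A) := by
    by_contra hcon'
    rw [not_nontrivial_iff_subsingleton] at hcon'
    have hz : IsZero (Dual.inD (Localization.AtPrime p.asIdeal)
        (LocalizedModule p.asIdeal.primeCompl A)) :=
      Functor.map_isZero _ (ModuleCat.isZero_of_subsingleton _)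
    have h2 := (mem_support_ext_iff_localized A ω hω A 0 p j j (by ring)).1 hp
    have : Subsingleton (Dual.inD (Localization.AtPrime p.asIdeal)
        (LocalizedModule p.asIdeal.primeCompl A) ⟶
        (((flatBC A (Localization.AtPrime p.asIdeal)).obj ω)⟦(0 : ℤ)⟧)⟦j⟧) :=
      ⟨fun f g => hz.eq_of_src f g⟩
    exact not_subsingleton _ this
  obtain ⟨e, d, he, hdd, hed, hrange, -, -⟩ := ext_support_range_T A ω hω T hT A p
  obtain ⟨h1, h2⟩ := hrange j hp
  obtain ⟨hT0, hTd⟩ := hTdim p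
  rcases hj with hj | hj
  · rw [Groth.Agent.Lib.Helper18.Serre.supportDim_localizedModule_self,
      PrimeSpectrum.height_eq_orderHeight] at hdd
    rw [ringKrullDim_quotient_eq_coheight] at hTd
    have h3 : Order.height p = (d : ℕ∞) := by exact_mod_cast hdd
    have h4 : Order.coheight p = ((-T p).toNat : ℕ∞) := by exact_mod_cast hTd
    have h5 := Groth.Agent.Lib.Helper13.DualMod.height_add_coheight_le n hd p
    rw [h3, h4] at h5
    have h6 : d + (-T p).toNat ≤ n := by exact_mod_cast h5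
    omega
  · omega

end GlobalVanish

end Groth.Agent.Lib.Helper13.SkDual
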