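import Mathlib.Algebra.MvPolynomial.Basic
import Mathlib.Algebra.MvPolynomial.Eval
import Mathlib.CategoryTheory.Filtered.Basic
import Mathlib.RingTheory.Ideal.Span

/-!
# Cofiltered systems of rings with a "colimit" cocone
-/

set_option autoImplicit false
universe u v w u'
open CategoryTheory

namespace Groth.Agent.Lib.Helper13.SD

/-- A system of commutative rings indexed contravariantly by a category `J`, with a compatible
family of maps to a ring `A` which is exhaustive and "eventually injective". -/
structure RingSys (J : Type v) [Category.{w} J] where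
  R : J → Type u
  [cr : ∀ j, CommRing (R j)]
  tr : ∀ {l j : J}, (l ⟶ j) → (R j →+* R l)
  tr_comp : ∀ {k l j : J} (e : k ⟶ l) (e' : l ⟶ j), tr (e ≫ e') = (tr e).comp (tr e')
  A : Type u
  [crA : CommRing A]
  a : ∀ j, R j →+* A
  a_tr : ∀ {l j : J} (e : l ⟶ j), (a l).comp (tr e) = a j
  surj : ∀ x : A, ∃ (j : J) (y : R j), a j y = x
  inj : ∀ (j : J) (y : R j), a j y = 0 → ∃ (l : J) (e : l ⟶ j), tr e y = 0

attribute [instance] RingSys.cr RingSys.crA

namespace RingSys

variable {J : Type v} [Category.{w} J] (S : RingSys.{u} J)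

lemma a_tr_apply {l j : J} (e : l ⟶ j) (y : S.R j) : S.a l (S.tr e y) = S.a j y :=
  congr($(S.a_tr e) y)

lemma tr_comp_apply {k l j : J} (e : k ⟶ l) (e' : l ⟶ j) (y : S.R j) :
    S.tr (e ≫ e') y = S.tr e (S.tr e' y) :=
  congr($(S.tr_comp e e') y)

variable [IsCofiltered J]

/-- Finite families lift to a common stage. -/
lemma exists_lift_family {ι : Type*} [Finite ι] (x : ι → S.A) :
    ∃ (j : J) (y : ι → S.R j), ∀ i, S.a j (y i) = x i := by
  classical
  induction ι using Finite.induction_empty_option with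
  | of_equiv e ih =>
    obtain ⟨j, y, hy⟩ := ih (x ∘ e)
    exact ⟨j, y ∘ e.symm, fun i => by simpa using hy (e.symm i)⟩
  | h_empty =>
    have : Nonempty J := IsCofiltered.nonempty
    exact ⟨Classical.arbitrary J, fun i => i.elim, fun i => i.elim⟩
  | h_option ih =>
    obtain ⟨j, y, hy⟩ := ih (fun i => x (some i))
    obtain ⟨l, z, hz⟩ := S.surj (x none)
    refine ⟨IsCofiltered.min j l, fun o => Option.rec (S.tr (IsCofiltered.minToRight j l) z)
      (fun i => S.tr (IsCofiltered.minToLeft j l) (y i)) o, ?_⟩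
    rintro (_ | i)
    · simpa [a_tr_apply] using hz
    · simpa [a_tr_apply] using hy i

/-- Finite families which vanish in the colimit vanish at a common later stage. -/
lemma exists_tr_eq_zero_family {ι : Type*} [Finite ι] (j : J) (y : ι → S.R j)
    (hy : ∀ i, S.a j (y i) = 0) : ∃ (l : J) (e : l ⟶ j), ∀ i, S.tr e (y i) = 0 := by
  classical
  induction ι using Finite.induction_empty_option with
  | of_equiv e ih =>
    obtain ⟨l, f, hf⟩ := ih (y ∘ e) (fun i => hy (e i))
    exact ⟨l, f, fun i => by simpa using hf (e.symm i)⟩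
  | h_empty => exact ⟨j, 𝟙 j, fun i => i.elim⟩
  | h_option ih =>
    obtain ⟨l, f, hf⟩ := ih (fun i => y (some i)) (fun i => hy (some i))
    obtain ⟨l', f', hf'⟩ := S.inj j (y none) (hy none)
    let m := IsCofiltered.min l l'
    let g : m ⟶ j := IsCofiltered.minToLeft l l' ≫ f
    let g' : m ⟶ j := IsCofiltered.minToRight l l' ≫ f'
    refine ⟨IsCofiltered.eq g g', IsCofiltered.eqHom g g' ≫ g, ?_⟩
    rintro (_ | i)
    · rw [IsCofiltered.eq_condition, tr_comp_apply, tr_comp_apply, hf', map_zero, map_zero]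
    · rw [tr_comp_apply, tr_comp_apply, hf i, map_zero, map_zero]

omit [IsCofiltered J] in
lemma map_tr_comp (σ : Type*) {k l j : J} (e : k ⟶ l) (e' : l ⟶ j) :
    MvPolynomial.map (σ := σ) (S.tr (e ≫ e')) =
      (MvPolynomial.map (S.tr e)).comp (MvPolynomial.map (S.tr e')) := by
  refine RingHom.ext fun p => ?_
  rw [RingHom.comp_apply, MvPolynomial.map_map, S.tr_comp]

omit [IsCofiltered J] in
lemma map_a_tr (σ : Type*) {l j : J} (e : l ⟶ j) :
    (MvPolynomial.map (σ := σ) (S.a l)).comp (MvPolynomial.map (S.tr e)) =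
      MvPolynomial.map (S.a j) := by
  refine RingHom.ext fun p => ?_
  rw [RingHom.comp_apply, MvPolynomial.map_map, S.a_tr]

/-- The system of polynomial rings. -/
noncomputable def poly (σ : Type u') : RingSys.{max u' u} J where
  R j := MvPolynomial σ (S.R j)
  tr e := MvPolynomial.map (S.tr e)
  tr_comp e e' := S.map_tr_comp σ e e'
  A := MvPolynomial σ S.A
  a j := MvPolynomial.map (S.a j)
  a_tr e := S.map_a_tr σ e
  surj p := by
    induction p using MvPolynomial.induction_on with
    | C x =>
      obtain ⟨j, y, hy⟩ := S.surj x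
      exact ⟨j, MvPolynomial.C y, by rw [MvPolynomial.map_C, hy]⟩
    | add p q hp hq =>
      obtain ⟨j, p', hp'⟩ := hp
      obtain ⟨l, q', hq'⟩ := hq
      refine ⟨IsCofiltered.min j l,
        MvPolynomial.map (S.tr (IsCofiltered.minToLeft j l)) p' +
          MvPolynomial.map (S.tr (IsCofiltered.minToRight j l)) q', ?_⟩
      rw [map_add, ← RingHom.comp_apply, ← RingHom.comp_apply, S.map_a_tr, S.map_a_tr, hp', hq']
    | mul_X p i hp =>
      obtain ⟨j, p', hp'⟩ := hp
      exact ⟨j, p' * MvPolynomial.X i, by rw [map_mul, MvPolynomial.map_X, hp']⟩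
  inj j p hp := by
    classical
    have h0 : ∀ m : p.support, S.a j (p.coeff m.1) = 0 := fun m => by
      rw [← MvPolynomial.coeff_map, hp, MvPolynomial.coeff_zero]
    obtain ⟨l, e, he⟩ := S.exists_tr_eq_zero_family j (fun m : p.support => p.coeff m.1) h0
    refine ⟨l, e, ?_⟩
    ext m
    rw [MvPolynomial.coeff_map, MvPolynomial.coeff_zero]
    by_cases hm : m ∈ p.support
    · exact he ⟨m, hm⟩
    · rw [MvPolynomial.notMem_support_iff.1 hm, map_zero]

end RingSys

end Groth.Agent.Lib.Helper13.SD
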