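import Groth.Agent.Lib.Helper13.SmoothDesc10

/-!
# Neighbourhood versions of the descent statements
-/

set_option autoImplicit false
set_option linter.unusedSectionVars false
universe u

namespace Groth.Agent.Lib.Helper13.LimitDescent

open AlgebraicGeometry CategoryTheory CategoryTheory.Limits Groth.Agent.Lib.Helper5
  Groth.Agent.Lib.Helper13

section EasyDirection

variable {I : Type u} [SmallCategory I] {D : I ⥤ Scheme.{u}} {c : Cone D}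
  {i₀ : I} {X₀ Y₀ : Scheme.{u}} {f₀ : X₀ ⟶ Y₀} {g₀ : Y₀ ⟶ D.obj i₀}
  {X Y : Scheme.{u}} {f : X ⟶ Y} {g : Y ⟶ c.pt} {qY : Y ⟶ Y₀} {qX : X ⟶ X₀}

/-- The easy direction of the neighbourhood statements. -/
lemma nhd_of_conclusion (P : MorphismProperty Scheme.{u}) [P.IsStableUnderBaseChange]
    (hY : IsPullback qY g g₀ (c.π.app i₀)) (hX : IsPullback qX f f₀ qY) (x : X)
    (h : ∃ (j : I) (φ : j ⟶ i₀) (Xj Yj : Scheme.{u}) (fj : Xj ⟶ Yj) (gj : Yj ⟶ D.obj j)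
      (pY : Yj ⟶ Y₀) (pX : Xj ⟶ X₀) (rX : X ⟶ Xj),
      IsPullback pY gj g₀ (D.map φ) ∧ IsPullback pX fj f₀ pY ∧
        rX ≫ pX = qX ∧ rX ≫ fj ≫ gj = f ≫ g ≫ c.π.app j ∧
          ∃ V : Xj.Opens, rX.base x ∈ V ∧ P (V.ι ≫ fj)) :
    ∃ U : X.Opens, x ∈ U ∧ P (U.ι ≫ f) := by
  obtain ⟨i, φ, Xi, Yi, fi, gi, pY, pX, rX, h1, h2, h3, h4, V, hxV, hV⟩ := h
  have hw1 : qY ≫ g₀ = (g ≫ c.π.app i) ≫ D.map φ := by
    rw [Category.assoc, c.w, hY.w]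
  let r : Y ⟶ Yi := h1.lift qY (g ≫ c.π.app i) hw1
  have hr : r ≫ pY = qY := h1.lift_fst _ _ hw1
  have hr2 : r ≫ gi = g ≫ c.π.app i := h1.lift_snd _ _ hw1
  have hrX : rX ≫ fi = f ≫ r := by
    apply h1.hom_ext
    · rw [Category.assoc, Category.assoc, hr, ← h2.w, reassoc_of% h3, hX.w]
    · rw [Category.assoc, Category.assoc, hr2, h4]
  have hsq : IsPullback rX f fi r := by
    refine IsPullback.of_right ?_ hrX h2
    rw [h3, hr]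
    exact hX
  refine ⟨rX ⁻¹ᵁ V, hxV, ?_⟩
  exact P.of_isPullback ((isPullback_morphismRestrict rX V).paste_vert hsq) hV

end EasyDirection

section Nhd

variable {I : Type u} [SmallCategory I] [IsCofiltered I] {D : I ⥤ Scheme.{u}} {c : Cone D}
  (hc : IsLimit c) [∀ {i j} (f : i ⟶ j), IsAffineHom (D.map f)]
  {i₀ : I} {X₀ Y₀ : Scheme.{u}} {f₀ : X₀ ⟶ Y₀} {g₀ : Y₀ ⟶ D.obj i₀}
  {X Y : Scheme.{u}} {f : X ⟶ Y} {g : Y ⟶ c.pt} {qY : Y ⟶ Y₀} {qX : X ⟶ X₀}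

include hc in
set_option backward.isDefEq.respectTransparency false in
/-- Opens of `X` pulled back from affine opens of stages form a basis. -/
lemma exists_stage_open (hY : IsPullback qY g g₀ (c.π.app i₀)) (hX : IsPullback qX f f₀ qY)
    (x : X) (U : X.Opens) (hxU : x ∈ U) :
    ∃ (j : Over i₀) (V : (Xj D i₀ f₀ g₀ j).Opens), IsAffineOpen V ∧
      x ∈ πX hY hX j ⁻¹ᵁ V ∧ πX hY hX j ⁻¹ᵁ V ≤ U := by
  let D' := bcDiagram D i₀ (f₀ ≫ g₀)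
  let c' := bcCone D c i₀ (f₀ ≫ g₀)
  have hc' : IsLimit c' := isLimitBcCone D c hc i₀ (f₀ ≫ g₀)
  have hB := isBasis_preimage_isAffineOpen D' c' hc'
  let e := isoX hY hX
  have hx' : e.hom x ∈ e.inv ⁻¹ᵁ U := by
    change e.inv (e.hom x) ∈ U
    have : e.inv (e.hom x) = x := by
      rw [← Scheme.Hom.comp_apply, e.hom_inv_id]; rfl
    rw [this]; exact hxU
  obtain ⟨W, ⟨j, V, hV, rfl⟩, hxW, hWU⟩ := TopologicalSpace.Opens.isBasis_iff_nbhd.mp hB hx'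
  refine ⟨j, V, hV, hxW, ?_⟩
  intro y hy
  have h1 : e.hom y ∈ e.inv ⁻¹ᵁ U := hWU hy
  change e.inv (e.hom y) ∈ U at h1
  have : e.inv (e.hom y) = y := by
    rw [← Scheme.Hom.comp_apply, e.hom_inv_id]; rfl
  rwa [this] at h1

variable (P : MorphismProperty Scheme.{u}) [P.IsStableUnderBaseChange]
  (H : ∀ (i₁ : I) {X₁ Y₁ : Scheme.{u}} (f₁ : X₁ ⟶ Y₁) (g₁ : Y₁ ⟶ D.obj i₁)
      [CompactSpace X₁] [LocallyOfFinitePresentation f₁] {X' Y' : Scheme.{u}} (f' : X' ⟶ Y')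
      (g' : Y' ⟶ c.pt) (qY' : Y' ⟶ Y₁) (qX' : X' ⟶ X₁),
      IsPullback qY' g' g₁ (c.π.app i₁) → IsPullback qX' f' f₁ qY' → P f' →
        ∃ j : Over i₁, P (fj D i₁ f₁ g₁ j))

include H in
set_option backward.isDefEq.respectTransparency false in
/-- If `P` holds on the preimage in `X` of a quasi-compact open `V` of a stage `X_j`, then it
holds on the preimage of `V` in a later stage. -/
lemma exists_stage_of_open [LocallyOfFinitePresentation f₀]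
    (hY : IsPullback qY g g₀ (c.π.app i₀)) (hX : IsPullback qX f f₀ qY) (j : Over i₀)
    (V : (Xj D i₀ f₀ g₀ j).Opens) (hV : IsCompact (V : Set (Xj D i₀ f₀ g₀ j)))
    (hP : P ((πX hY hX j ⁻¹ᵁ V).ι ≫ f)) :
    ∃ (l : Over i₀) (e : l ⟶ j),
      P (((bcDiagram D i₀ (f₀ ≫ g₀)).map e ⁻¹ᵁ V).ι ≫ fj D i₀ f₀ g₀ l) := by
  have : CompactSpace V := isCompact_iff_compactSpace.mp hV
  have : LocallyOfFinitePresentation (fj D i₀ f₀ g₀ j) :=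
    MorphismProperty.of_isPullback (isPullback_Xj D i₀ f₀ g₀ j) inferInstance
  have hY' := isPullback_πY hY j
  have hX' := isPullback_πX hY hX j
  have hX'' : IsPullback (πX hY hX j ∣_ V) ((πX hY hX j ⁻¹ᵁ V).ι ≫ f)
      (V.ι ≫ fj D i₀ f₀ g₀ j) (πY hY j) :=
    (isPullback_morphismRestrict _ V).paste_vert hX'
  obtain ⟨k, hk⟩ := H j.left (V.ι ≫ fj D i₀ f₀ g₀ j) (gj D i₀ g₀ j) _ _ _ _ hY' hX'' hP
  let l : Over i₀ := Over.mk (k.hom ≫ j.hom)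
  let e : l ⟶ j := Over.homMk k.hom rfl
  refine ⟨l, e, ?_⟩
  let t := (bcDiagram D i₀ (f₀ ≫ g₀)).map e
  let s := (bcDiagram D i₀ g₀).map e
  have sq1 : IsPullback (t ∣_ V) ((t ⁻¹ᵁ V).ι ≫ fj D i₀ f₀ g₀ l) (V.ι ≫ fj D i₀ f₀ g₀ j) s :=
    (isPullback_morphismRestrict t V).paste_vert (isPullback_map_fj D i₀ f₀ g₀ e)
  have sqY1 : IsPullback s (gj D i₀ g₀ l) (gj D i₀ g₀ j) (D.map k.hom) :=
    isPullback_bcDiagram_map D i₀ g₀ e
  have sqY2 : IsPullback (pYj D j.left (gj D i₀ g₀ j) k) (gj D j.left (gj D i₀ g₀ j) k)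
      (gj D i₀ g₀ j) (D.map k.hom) := isPullback_Yj D j.left (gj D i₀ g₀ j) k
  let θ := sqY2.isoIsPullback _ _ sqY1
  have hθ : θ.hom ≫ s = pYj D j.left (gj D i₀ g₀ j) k := sqY2.isoIsPullback_hom_fst _ _ sqY1
  have sq2 : IsPullback (pXj D j.left (V.ι ≫ fj D i₀ f₀ g₀ j) (gj D i₀ g₀ j) k)
      (fj D j.left (V.ι ≫ fj D i₀ f₀ g₀ j) (gj D i₀ g₀ j) k ≫ θ.hom)
      (V.ι ≫ fj D i₀ f₀ g₀ j) s :=
    (isPullback_Xj D j.left (V.ι ≫ fj D i₀ f₀ g₀ j) (gj D i₀ g₀ j) k).of_iso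
      (Iso.refl _) (Iso.refl _) θ (Iso.refl _) (by simp) (by simp) (by simp)
      (by rw [Iso.refl_hom, Category.comp_id, hθ])
  have h1 : (sq1.isoIsPullback _ _ sq2).hom ≫
      (fj D j.left (V.ι ≫ fj D i₀ f₀ g₀ j) (gj D i₀ g₀ j) k ≫ θ.hom) =
      (t ⁻¹ᵁ V).ι ≫ fj D i₀ f₀ g₀ l := sq1.isoIsPullback_hom_snd _ _ sq2
  rw [← h1, P.cancel_left_of_respectsIso, P.cancel_right_of_respectsIso]
  exact hk

include hc H in
set_option backward.isDefEq.respectTransparency false in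
/-- The neighbourhood version of the descent statement for `P`, given the global version. -/
theorem exists_nhd_stage [IsZariskiLocalAtSource P] [LocallyOfFinitePresentation f₀]
    (hY : IsPullback qY g g₀ (c.π.app i₀)) (hX : IsPullback qX f f₀ qY) (x : X)
    (h : ∃ U : X.Opens, x ∈ U ∧ P (U.ι ≫ f)) :
    ∃ (j : I) (φ : j ⟶ i₀) (Xj Yj : Scheme.{u}) (fj : Xj ⟶ Yj) (gj : Yj ⟶ D.obj j)
      (pY : Yj ⟶ Y₀) (pX : Xj ⟶ X₀) (rX : X ⟶ Xj),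
      IsPullback pY gj g₀ (D.map φ) ∧ IsPullback pX fj f₀ pY ∧
        rX ≫ pX = qX ∧ rX ≫ fj ≫ gj = f ≫ g ≫ c.π.app j ∧
          ∃ V : Xj.Opens, rX.base x ∈ V ∧ P (V.ι ≫ fj) := by
  obtain ⟨U, hxU, hU⟩ := h
  obtain ⟨j, V, hV, hxV, hVU⟩ := exists_stage_open hc hY hX x U hxU
  have hP : P ((πX hY hX j ⁻¹ᵁ V).ι ≫ f) := by
    rw [← X.homOfLE_ι hVU, Category.assoc]
    exact IsZariskiLocalAtSource.comp hU _
  obtain ⟨l, e, hl⟩ := exists_stage_of_open P H hY hX j V hV.isCompact hP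
  refine ⟨l.left, l.hom, _, _, fj D i₀ f₀ g₀ l, gj D i₀ g₀ l, pYj D i₀ g₀ l, pXj D i₀ f₀ g₀ l,
    πX hY hX l, isPullback_Yj D i₀ g₀ l, isPullback_Xj D i₀ f₀ g₀ l, πX_pXj hY hX l, ?_,
    (bcDiagram D i₀ (f₀ ≫ g₀)).map e ⁻¹ᵁ V, ?_, hl⟩
  · rw [πX_fj_assoc, πY_gj]
  · change (πX hY hX l ≫ (bcDiagram D i₀ (f₀ ≫ g₀)).map e) x ∈ V
    rw [πX_map]
    exact hxV

end Nhd

end Groth.Agent.Lib.Helper13.LimitDescent
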