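import Groth.Agent.Lib.Helper13.SmoothDesc1
import Mathlib.RingTheory.Smooth.Basic
import Mathlib.RingTheory.Extension.Presentation.Basic
import Mathlib.Algebra.MvPolynomial.Monad

/-!
# Formal smoothness of a finitely presented algebra as finite polynomial data
-/

set_option autoImplicit false
universe u
open MvPolynomial
open scoped TensorProduct Pointwise

namespace Groth.Agent.Lib.Helper13.SD

section Ideal

variable {R : Type*} [CommRing R] {σ : Type*} [Fintype σ]

lemma mem_span_range_sq_iff (v : σ → R) (x : R) :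
    x ∈ Ideal.span (Set.range v) ^ 2 ↔
      ∃ c : σ × σ → R, ∑ st, c st * (v st.1 * v st.2) = x := by
  rw [pow_two, Ideal.span_mul_span, ← Ideal.mem_span_range_iff_exists_fun]
  have : Set.range v * Set.range v = Set.range (fun st : σ × σ => v st.1 * v st.2) := by
    ext y
    simp only [Set.mem_mul, Set.mem_range]
    constructor
    · rintro ⟨_, ⟨s, rfl⟩, _, ⟨t, rfl⟩, rfl⟩
      exact ⟨(s, t), rfl⟩
    · rintro ⟨⟨s, t⟩, rfl⟩
      exact ⟨_, ⟨s, rfl⟩, _, ⟨t, rfl⟩, rfl⟩
  rw [this]

end Ideal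

section Eqs

variable {A₀ : Type u} [CommRing A₀] {ι σ : Type} [Fintype σ] (r : σ → MvPolynomial ι A₀)

/-- The first family of equations: `h i - X i = ∑ s, q i s * r s`. -/
noncomputable def E1 {T : Type u} [CommRing T] (α : A₀ →+* T) (h : ι → MvPolynomial ι T)
    (q : ι → σ → MvPolynomial ι T) (i : ι) : MvPolynomial ι T :=
  h i - X i - ∑ s, q i s * map α (r s)

/-- The second family of equations: `r s (h) = ∑ s' s'', p s (s', s'') * r s' * r s''`. -/
noncomputable def E2 {T : Type u} [CommRing T] (α : A₀ →+* T) (h : ι → MvPolynomial ι T)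
    (p : σ → σ × σ → MvPolynomial ι T) (s : σ) : MvPolynomial ι T :=
  bind₁ h (map α (r s)) - ∑ st : σ × σ, p s st * (map α (r st.1) * map α (r st.2))

variable {T T' : Type u} [CommRing T] [CommRing T'] (α : A₀ →+* T) (ψ : T →+* T')

lemma map_E1 (h : ι → MvPolynomial ι T) (q : ι → σ → MvPolynomial ι T) (i : ι) :
    map ψ (E1 r α h q i) =
      E1 r (ψ.comp α) (fun i => map ψ (h i)) (fun i s => map ψ (q i s)) i := by
  simp only [E1, map_sub, map_sum, map_mul, map_X, map_map]

lemma map_E2 (h : ι → MvPolynomial ι T) (p : σ → σ × σ → MvPolynomial ι T) (s : σ) :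
    map ψ (E2 r α h p s) =
      E2 r (ψ.comp α) (fun i => map ψ (h i)) (fun s st => map ψ (p s st)) s := by
  simp only [E2, map_sub, map_sum, map_mul, map_bind₁, map_map]

end Eqs

section Data

variable {A₀ B₀ : Type u} [CommRing A₀] [CommRing B₀] [Algebra A₀ B₀] {ι σ : Type}
  [Fintype σ] (P₀ : Algebra.Presentation A₀ B₀ ι σ) (T : Type u) [CommRing T] [Algebra A₀ T]

lemma exists_data_of_formallySmooth [Algebra.FormallySmooth T (T ⊗[A₀] B₀)] :
    ∃ (h : ι → MvPolynomial ι T) (q : ι → σ → MvPolynomial ι T)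
      (p : σ → σ × σ → MvPolynomial ι T),
      (∀ i, E1 P₀.relation (algebraMap A₀ T) h q i = 0) ∧
        (∀ s, E2 P₀.relation (algebraMap A₀ T) h p s = 0) := by
  let Q := P₀.baseChange T
  let f : Q.Ring →ₐ[T] T ⊗[A₀] B₀ := IsScalarTower.toAlgHom _ _ _
  have hkerf : RingHom.ker f = Ideal.span (Set.range Q.relation) :=
    Q.span_range_relation_eq_ker.symm
  obtain ⟨(g : T ⊗[A₀] B₀ →ₐ[T] MvPolynomial ι T ⧸ RingHom.ker f ^ 2), hg⟩ :=
    (Algebra.FormallySmooth.iff_split_surjection f Q.algebraMap_surjective).mp inferInstance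
  have (i : ι) := Ideal.Quotient.mk_surjective (g (Q.val i))
  choose h hh using this
  have hdiag : (Ideal.Quotient.mkₐ T (RingHom.ker f ^ 2)).comp (aeval h) =
      g.comp (aeval Q.val) :=
    algHom_ext (by simp [hh])
  have h2 (s : σ) : aeval h (Q.relation s) ∈ Ideal.span (Set.range Q.relation) ^ 2 := by
    rw [← hkerf, ← Ideal.Quotient.eq_zero_iff_mem]
    have ho : g (aeval Q.val (Q.relation s)) = 0 := by simp
    rw [← ho]
    exact congr($hdiag _)
  have hsig (i : ι) : f (h i) = Q.val i := by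
    rw [← AlgHom.kerSquareLift_mk]
    exact hh i ▸ congr($hg (Q.val i))
  have h1 (i : ι) : h i - X i ∈ Ideal.span (Set.range Q.relation) := by
    rw [Q.span_range_relation_eq_ker, Q.ker_eq_ker_aeval_val, RingHom.mem_ker, map_sub,
      sub_eq_zero, aeval_X]
    exact hsig i
  simp_rw [mem_span_range_sq_iff] at h2
  simp_rw [Ideal.mem_span_range_iff_exists_fun] at h1
  choose q hq using h1
  choose p hp using h2
  refine ⟨h, q, p, fun i => ?_, fun s => ?_⟩
  · rw [E1, ← hq i, sub_eq_zero]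
    rfl
  · rw [E2, sub_eq_zero]
    exact (hp s).symm

lemma formallySmooth_of_data (h : ι → MvPolynomial ι T) (q : ι → σ → MvPolynomial ι T)
    (p : σ → σ × σ → MvPolynomial ι T)
    (e1 : ∀ i, E1 P₀.relation (algebraMap A₀ T) h q i = 0)
    (e2 : ∀ s, E2 P₀.relation (algebraMap A₀ T) h p s = 0) :
    Algebra.FormallySmooth T (T ⊗[A₀] B₀) := by
  let Q := P₀.baseChange T
  let f : Q.Ring →ₐ[T] T ⊗[A₀] B₀ := IsScalarTower.toAlgHom _ _ _
  have hf : Function.Surjective f := Q.algebraMap_surjective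
  have hkerf : RingHom.ker f = Ideal.span (Set.range Q.relation) :=
    Q.span_range_relation_eq_ker.symm
  have h1 (i : ι) : h i - X i ∈ RingHom.ker f := by
    rw [hkerf, Ideal.mem_span_range_iff_exists_fun]
    exact ⟨q i, (sub_eq_zero.1 (e1 i)).symm⟩
  have h2 (s : σ) : aeval h (Q.relation s) ∈ RingHom.ker f ^ 2 := by
    rw [hkerf, mem_span_range_sq_iff]
    exact ⟨p s, (sub_eq_zero.1 (e2 s)).symm⟩
  have hle : RingHom.ker f ≤ Ideal.comap (aeval (R := T) h) (RingHom.ker f ^ 2) := by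
    rw [hkerf, Ideal.span_le, Set.range_subset_iff]
    intro s
    rw [← hkerf]
    exact h2 s
  let g₀ : (Q.Ring ⧸ RingHom.ker f) →ₐ[T] Q.Ring ⧸ RingHom.ker f ^ 2 :=
    Ideal.Quotient.liftₐ (RingHom.ker f)
      ((Ideal.Quotient.mkₐ T (RingHom.ker f ^ 2)).comp (aeval h)) (fun a ha => by
        rw [AlgHom.comp_apply, Ideal.Quotient.mkₐ_eq_mk, Ideal.Quotient.eq_zero_iff_mem]
        exact hle ha)
  let e := Ideal.quotientKerAlgEquivOfSurjective hf
  refine Algebra.FormallySmooth.of_split f (g₀.comp e.symm.toAlgHom) ?_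
  have hfh : f.comp (aeval h) = f := by
    refine algHom_ext fun i => ?_
    rw [AlgHom.comp_apply, aeval_X]
    have := h1 i
    rw [RingHom.mem_ker, map_sub, sub_eq_zero] at this
    exact this
  refine AlgHom.ext fun x => ?_
  obtain ⟨y, rfl⟩ := e.surjective x
  obtain ⟨y, rfl⟩ := Ideal.Quotient.mk_surjective y
  have hx : e.symm (e (Ideal.Quotient.mk _ y)) = Ideal.Quotient.mk _ y := e.symm_apply_apply _
  change f.kerSquareLift (g₀ (e.symm (e (Ideal.Quotient.mk _ y)))) = e (Ideal.Quotient.mk _ y)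
  rw [hx]
  change f.kerSquareLift (Ideal.Quotient.mk _ (aeval h y)) = f y
  rw [AlgHom.kerSquareLift_mk]
  exact congr($hfh y)

end Data

end Groth.Agent.Lib.Helper13.SD
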