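import Groth.Agent.Lib.Helper13.SmoothDesc2

/-!
# Descent of formal smoothness through a cofiltered system of rings
-/

set_option autoImplicit false
universe u v w
open MvPolynomial CategoryTheory
open scoped TensorProduct

namespace Groth.Agent.Lib.Helper13.SD

variable {J : Type v} [Category.{w} J] [IsCofiltered J] (S : RingSys.{u} J)
  {A₀ B₀ : Type u} [CommRing A₀] [CommRing B₀] [Algebra A₀ B₀] {ι σ : Type} [Finite ι] [Fintype σ]
  (α : ∀ j, A₀ →+* S.R j) (hα : ∀ {l j : J} (e : l ⟶ j), (S.tr e).comp (α j) = α l)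
  (αA : A₀ →+* S.A) (hαA : ∀ j, (S.a j).comp (α j) = αA)

include hα hαA in
theorem exists_formallySmooth_stage (P₀ : Algebra.Presentation A₀ B₀ ι σ)
    (hsm : letI := αA.toAlgebra; Algebra.FormallySmooth S.A (S.A ⊗[A₀] B₀)) :
    ∃ j, letI := (α j).toAlgebra; Algebra.FormallySmooth (S.R j) (S.R j ⊗[A₀] B₀) := by
  classical
  let _ := αA.toAlgebra
  obtain ⟨h, q, p, e1, e2⟩ := exists_data_of_formallySmooth P₀ S.A
  let Sp : RingSys.{u} J := S.poly ι
  -- lift the data to a common stage
  let x : (ι ⊕ (ι × σ) ⊕ (σ × σ × σ)) → Sp.A := fun t =>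
    match t with
    | Sum.inl i => h i
    | Sum.inr (Sum.inl is) => q is.1 is.2
    | Sum.inr (Sum.inr sst) => p sst.1 sst.2
  obtain ⟨j, y, hy⟩ := Sp.exists_lift_family x
  let h' : ι → MvPolynomial ι (S.R j) := fun i => y (Sum.inl i)
  let q' : ι → σ → MvPolynomial ι (S.R j) := fun i s => y (Sum.inr (Sum.inl (i, s)))
  let p' : σ → σ × σ → MvPolynomial ι (S.R j) := fun s st => y (Sum.inr (Sum.inr (s, st)))
  have hh' : ∀ i, map (S.a j) (h' i) = h i := fun i => hy (Sum.inl i)
  have hq' : ∀ i s, map (S.a j) (q' i s) = q i s := fun i s => hy (Sum.inr (Sum.inl (i, s)))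
  have hp' : ∀ s st, map (S.a j) (p' s st) = p s st := fun s st =>
    hy (Sum.inr (Sum.inr (s, st)))
  -- the equations hold at a later stage
  let E : (ι ⊕ σ) → Sp.R j := fun t =>
    match t with
    | Sum.inl i => E1 P₀.relation (α j) h' q' i
    | Sum.inr s => E2 P₀.relation (α j) h' p' s
  have hE : ∀ t, Sp.a j (E t) = 0 := by
    rintro (i | s)
    · change map (S.a j) (E1 P₀.relation (α j) h' q' i) = 0
      rw [map_E1, hαA j]
      simp only [hh', hq']
      exact e1 i
    · change map (S.a j) (E2 P₀.relation (α j) h' p' s) = 0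
      rw [map_E2, hαA j]
      simp only [hh', hp']
      exact e2 s
  obtain ⟨l, e, he⟩ := Sp.exists_tr_eq_zero_family j E hE
  refine ⟨l, ?_⟩
  let _ := (α l).toAlgebra
  refine formallySmooth_of_data P₀ (S.R l) (fun i => map (S.tr e) (h' i))
    (fun i s => map (S.tr e) (q' i s)) (fun s st => map (S.tr e) (p' s st)) (fun i => ?_)
    (fun s => ?_)
  · have := he (Sum.inl i)
    change map (S.tr e) (E1 P₀.relation (α j) h' q' i) = 0 at this
    rw [map_E1, hα e] at this
    exact this
  · have := he (Sum.inr s)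
    change map (S.tr e) (E2 P₀.relation (α j) h' p' s) = 0 at this
    rw [map_E2, hα e] at this
    exact this

end Groth.Agent.Lib.Helper13.SD
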