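import Mathlib.RingTheory.Etale.StandardEtale
import Mathlib.RingTheory.Unramified.LocalStructure
import Mathlib.RingTheory.Polynomial.Basic
import Mathlib.Algebra.Polynomial.Lifts

set_option autoImplicit false

namespace Groth.Agent.Lib.Helper13

open Polynomial TensorProduct

/-- Two standard étale pairs with the same `f` and with `g`'s differing by a positive power
have isomorphic rings. -/
noncomputable def StandardEtalePair.equivOfPow {R : Type*} [CommRing R]
    (P Q : StandardEtalePair R) (hf : P.f = Q.f) (n : ℕ) (hg : P.g = Q.g ^ (n + 1)) :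
    P.Ring ≃ₐ[R] Q.Ring := by
  have h1 : P.HasMap Q.X := by
    refine ⟨hf ▸ Q.hasMap_X.1, ?_⟩
    rw [hg, map_pow]
    exact Q.hasMap_X.2.pow _
  have h2 : Q.HasMap P.X := by
    refine ⟨hf ▸ P.hasMap_X.1, ?_⟩
    have := P.hasMap_X.2
    rw [hg, map_pow] at this
    exact (isUnit_pow_iff (Nat.succ_ne_zero n)).mp this
  exact AlgEquiv.ofAlgHom (P.lift Q.X h1) (Q.lift P.X h2)
    (Q.hom_ext (by simp)) (P.hom_ext (by simp))

/-- A standard étale algebra over a quotient `k` of `A` lifts to a standard étale algebra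
over `A`. -/
theorem exists_standardEtalePair_lift {A k B : Type*} [CommRing A] [CommRing k] [CommRing B]
    [Algebra A k] (hsurj : Function.Surjective (algebraMap A k)) [Algebra k B]
    [Algebra.IsStandardEtale k B] :
    ∃ P : StandardEtalePair A, Nonempty (k ⊗[A] P.Ring ≃ₐ[k] B) := by
  obtain ⟨P₀⟩ := Algebra.IsStandardEtale.nonempty_standardEtalePresentation (R := k) (S := B)
  obtain ⟨p₁, p₂, n, e⟩ := P₀.cond
  have hlift : ∀ p : k[X], ∃ p' : A[X], p'.map (algebraMap A k) = p :=
    Polynomial.map_surjective _ hsurj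
  obtain ⟨f', hf', -, hf'm⟩ := Polynomial.lifts_and_natDegree_eq_and_monic
    ((Polynomial.mem_lifts _).mpr (hlift P₀.f)) P₀.monic_f
  obtain ⟨p₁', hp₁'⟩ := hlift p₁
  obtain ⟨p₂', hp₂'⟩ := hlift p₂
  obtain ⟨g₀', hg₀'⟩ := hlift P₀.g
  let P : StandardEtalePair A :=
    ⟨f', hf'm, (derivative f' * p₁' + f' * p₂') * g₀',
      ⟨p₁' * g₀', p₂' * g₀', 1, by ring⟩⟩
  refine ⟨P, ⟨?_⟩⟩
  let Pt : StandardEtalePresentation A P.Ring :=
    ⟨P, P.X, P.hasMap_X, by simpa [StandardEtalePair.lift_X_left] using Function.bijective_id⟩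
  let e1 : k ⊗[A] P.Ring ≃ₐ[k] (P.map (algebraMap A k)).Ring := Pt.baseChange.equivRing
  have hgP : (P.map (algebraMap A k)).g = P₀.g ^ (n + 1) := by
    simp only [StandardEtalePair.map_g, P, Polynomial.map_mul, Polynomial.map_add,
      ← Polynomial.derivative_map, hf', hp₁', hp₂', hg₀', e, pow_succ]
  have hfP : (P.map (algebraMap A k)).f = P₀.f := by
    simp only [StandardEtalePair.map_f, P, hf']
  exact (e1.trans (StandardEtalePair.equivOfPow _ P₀.P hfP n hgP)).trans P₀.equivRing.symm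

end Groth.Agent.Lib.Helper13
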