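import Groth.Agent.Lib.Helper13.DRingInj
import Mathlib.RingTheory.SimpleModule.InjectiveProjective
import Mathlib.Algebra.Homology.SingleHomology
import Mathlib.LinearAlgebra.Dual.Lemmas

/-!
# Over a field, `Hom(T, κ[-k]) = 0` forces `H^k(T) = 0`
-/

set_option autoImplicit false
set_option maxHeartbeats 400000
set_option linter.style.haveILetI false
universe u
open CategoryTheory CategoryTheory.Limits
open HomologicalComplex

namespace Groth.Agent.Lib.Helper13.TFD

open DerivedCategory

attribute [local instance] HasDerivedCategory.standard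

variable {κ : Type u} [Field κ]

/-- Over a field, an object of `D(κ)` with no nonzero maps to `κ[-k]` has `H^k = 0`. -/
theorem isZero_homology_of_subsingleton_hom_single (T : DerivedCategory (ModuleCat.{u} κ)) (k : ℤ)
    (h : Subsingleton (T ⟶ (DerivedCategory.singleFunctor (ModuleCat.{u} κ) k).obj
      (ModuleCat.of κ κ))) :
    IsZero ((DerivedCategory.homologyFunctor (ModuleCat.{u} κ) k).obj T) := by
  let V := Q.objPreimage T
  let e : Q.obj V ≅ T := Q.objObjPreimageIso T
  suffices hz : IsZero (V.homology k) from
    hz.of_iso ((DerivedCategory.homologyFunctor _ k).mapIso e.symm ≪≫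
      (homologyFunctorFactors _ k).app V)
  by_contra hne
  have hnt : Nontrivial (V.homology k) := by
    by_contra hh
    rw [not_nontrivial_iff_subsingleton] at hh
    exact hne (ModuleCat.isZero_of_subsingleton _)
  obtain ⟨x, hx⟩ := exists_ne (0 : V.homology k)
  obtain ⟨μ0, hμ0⟩ : ∃ f : Module.Dual κ (V.homology k), f x ≠ 0 := by
    by_contra hcon
    push Not at hcon
    exact hx ((Module.forall_dual_apply_eq_zero_iff κ x).1 hcon)
  let N : ModuleCat.{u} κ := ModuleCat.of κ κ
  let μ : V.homology k ⟶ N := ModuleCat.ofHom μ0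
  have hinj : Injective N := by
    have := Module.injective_of_isSemisimpleRing κ κ
    exact Module.injective_object_of_injective_module κ κ
  let μ' : V.opcycles k ⟶ N := Injective.factorThru μ (V.homologyι k)
  have hμ' : V.homologyι k ≫ μ' = μ := Injective.comp_factorThru _ _
  let g : V ⟶ (single (ModuleCat.{u} κ) (ComplexShape.up ℤ) k).obj N :=
    mkHomToSingle (V.pOpcycles k ≫ μ') (by
      intro i hi
      rw [d_pOpcycles_assoc, zero_comp])
  have hQ : Q.map g = 0 := by
    have : Subsingleton (Q.obj V ⟶ Q.obj ((single (ModuleCat.{u} κ) (ComplexShape.up ℤ) k).obj N)) :=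
      (Iso.homCongr e.symm ((singleFunctorIsoCompQ (ModuleCat.{u} κ) k).app N)).symm.subsingleton
    exact Subsingleton.elim _ _
  have hH : homologyMap g k = 0 := by
    have nat := (homologyFunctorFactors (ModuleCat.{u} κ) k).hom.naturality g
    dsimp at nat
    rw [hQ] at nat
    erw [Functor.map_zero] at nat
    rw [zero_comp] at nat
    have h2 := congrArg (fun t => (homologyFunctorFactors (ModuleCat.{u} κ) k).inv.app V ≫ t) nat
    simp only [comp_zero, Iso.inv_hom_id_app_assoc] at h2
    exact h2.symm
  have key : V.homologyι k ≫ μ' = homologyMap g k ≫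
      ((single (ModuleCat.{u} κ) (ComplexShape.up ℤ) k).obj N).homologyι k ≫
        (singleObjOpcyclesSelfIso (ComplexShape.up ℤ) k N).inv := by
    rw [homologyι_naturality_assoc]
    congr 1
    rw [← cancel_epi (V.pOpcycles k), p_opcyclesMap_assoc, mkHomToSingle_f, Category.assoc,
      ← Category.assoc (singleObjXSelf (ComplexShape.up ℤ) k N).inv,
      ← singleObjOpcyclesSelfIso_hom, Iso.hom_inv_id, Category.comp_id]
  rw [hH, zero_comp, hμ'] at key
  apply hμ0
  have := congrArg (fun t => t.hom x) key
  exact this

end Groth.Agent.Lib.Helper13.TFD
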