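import Groth.Agent.Lib.Helper13.WayOut3
import Mathlib.Algebra.Module.Injective
import Mathlib.RingTheory.Flat.Basic

/-!
# `Hom•(P, I)` is a complex of injectives for `P` termwise flat and `I` termwise injective
-/

set_option autoImplicit false
set_option maxHeartbeats 400000
set_option linter.style.haveILetI false
universe u
open CategoryTheory CategoryTheory.Limits
open CochainComplex CochainComplex.HomComplex HomologicalComplex
open scoped TensorProduct

namespace Groth.Agent.Lib.Helper13.TFD

variable {A : Type u} [CommRing A]

lemma injective_of_linearEquiv {M N : Type u} [AddCommGroup M] [Module A M] [AddCommGroup N]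
    [Module A N] (e : M ≃ₗ[A] N) [h : Module.Injective A M] : Module.Injective A N where
  out X Y _ _ _ _ f hf g := by
    obtain ⟨h', hh'⟩ := h.out f hf (e.symm.toLinearMap ∘ₗ g)
    refine ⟨e.toLinearMap ∘ₗ h', fun x => ?_⟩
    simp [hh' x]

/-- `Hom(M, I)` is injective for `M` flat and `I` injective. -/
lemma injective_linearMap (M I : Type u) [AddCommGroup M] [Module A M] [AddCommGroup I]
    [Module A I] [Module.Flat A M] [hI : Module.Injective A I] :
    Module.Injective A (M →ₗ[A] I) where
  out X Y _ _ _ _ f hf g := by
    have hf' : Function.Injective (f.rTensor M) := Module.Flat.rTensor_preserves_injective_linearMap f hf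
    obtain ⟨h', hh'⟩ := hI.out (f.rTensor M) hf' (TensorProduct.lift g)
    refine ⟨TensorProduct.curry h', fun x => ?_⟩
    ext m
    have := hh' (x ⊗ₜ m)
    simpa using this


lemma injective_hom (M N : ModuleCat.{u} A) [Module.Flat A M] [Module.Injective A N] :
    Module.Injective A (M ⟶ N) :=
  haveI := injective_linearMap (A := A) M N
  injective_of_linearEquiv (ModuleCat.homLinearEquiv (S := A) (M := M) (N := N)).symm

/-- The terms of `Hom•(P, I)` are injective when `P` is termwise flat and `I` termwise
injective. -/
lemma termwiseInjective_homCx (P I : DRing.Cx A) (hP : ∀ i, Module.Flat A (P.X i))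
    (hI : DRing.TermwiseInjective I) : DRing.TermwiseInjective (DRing.homCx P I) := by
  intro n
  change Module.Injective A (∀ T : Triplet n, P.X T.p ⟶ I.X T.q)
  have : ∀ T : Triplet n, Module.Injective A (P.X T.p ⟶ I.X T.q) := fun T =>
    haveI := hP T.p
    haveI := hI T.q
    injective_hom _ _
  infer_instance

open Groth.Agent.Lib.Helper13.DV in
/-- `Hom•(P, I)` is bounded when `P` and `I` are. -/
lemma vanishesOutside_homCx (P I : DRing.Cx A) (a₁ b₁ a b : ℤ)
    (hP : DRing.VanishesOutside P a₁ b₁) (hI : DRing.VanishesOutside I a b) :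
    DRing.VanishesOutside (DRing.homCx P I) (a - b₁) (b - a₁) := by
  intro n hn
  refine isZero_homCx_X P I n (fun p => ?_)
  by_cases hp : p < a₁ ∨ b₁ < p
  · exact Or.inl (hP p hp)
  · exact Or.inr (hI _ (by lia))

end Groth.Agent.Lib.Helper13.TFD
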