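import Groth.Agent.Lib.Helper13.BDX7
import Groth.Agent.Lib.Helper13.TFD1
import Groth.Agent.Lib.Helper13.TFD2

/-!
# Duality is injective on morphisms to finite modules; vanishing of `Ext(G, N)`
-/

set_option autoImplicit false
set_option maxHeartbeats 800000
set_option linter.style.haveILetI false
universe u
open CategoryTheory CategoryTheory.Limits Opposite
open CochainComplex CochainComplex.HomComplex HomologicalComplex

namespace Groth.Agent.Lib.Helper13.TFD

open Groth.Agent.Lib.Helper13.HOp Groth.Agent.Lib.Helper13.HT Groth.Agent.Lib.Helper13.BD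
  Groth.Agent.Lib.Helper13.PC Groth.Agent.Lib.Helper13.DV Groth.Agent.Lib.Helper13.BDX
open DerivedCategory

attribute [local instance] HasDerivedCategory.standard

variable {A : Type u} [CommRing A] (I : DRing.Cx A)

section

variable [I.IsKInjective]

lemma Q_preMap_congr {X Y : DRing.Cx A} (h h' : X ⟶ Y) (e : Q.map h = Q.map h') :
    Q.map (preMap h I) = Q.map (preMap h' I) := by
  have n1 := (DJIso I).hom.naturality h.op
  have n2 := (DJIso I).hom.naturality h'.op
  have e' : (Q.op ⋙ DJ I).map h.op = (Q.op ⋙ DJ I).map h'.op := by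
    change (DJ I).map (Q.map h).op = (DJ I).map (Q.map h').op
    rw [e]
  rw [e'] at n1
  exact (cancel_epi ((DJIso I).hom.app (op Y))).1 (n1.symm.trans n2)

lemma Q_map_eq_zero_of_preMap {X Y : DRing.Cx A} (g : X ⟶ Y) (hY : BidQis I Y)
    (hz : Q.map (preMap g I) = 0) : Q.map g = 0 := by
  have h1 : Q.map (preMap g I) = Q.map (0 : DRing.homCx Y I ⟶ DRing.homCx X I) := by
    rw [hz, Functor.map_zero]
  have h2 := Q_preMap_congr I _ _ h1
  rw [preMap_zero, Functor.map_zero] at h2
  have h3 := congrArg (fun t => Q.map t) (bid_naturality g I)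
  simp only [Functor.map_comp] at h3
  rw [h2, comp_zero] at h3
  have : IsIso (Q.map (bid Y I)) := by
    rw [isIso_Q_map_iff_quasiIso]
    exact hY
  exact (cancel_mono (Q.map (bid Y I))).1 (by rw [h3, zero_comp])

end

/-- No morphisms in `D(A)` between complexes with disjoint (termwise) supports, the target being
K-injective. -/
lemma subsingleton_hom_of_disjoint (W E' : DRing.Cx A) [E'.IsKInjective]
    (h : ∀ p : ℤ, IsZero (W.X p) ∨ IsZero (E'.X p)) :
    Subsingleton ((Q.obj W : Dual.D A) ⟶ Q.obj E') := by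
  have hz : IsZero ((DRing.homCx W E').X 0) :=
    isZero_homCx_X W E' 0 (fun p => by simpa using h p)
  have hh : IsZero ((DRing.homCx W E').homology 0) :=
    ShortComplex.isZero_homology_of_isZero_X₂ _ hz
  have : Subsingleton ((DRing.homCx W E').homology 0) := ModuleCat.subsingleton_of_isZero hh
  have h2 : Subsingleton ((Q.obj W : Dual.D A) ⟶ (Q.obj E')⟦(0 : ℤ)⟧) :=
    (homEquiv W E' 0).symm.toEquiv.subsingleton
  exact (Iso.homCongr (Iso.refl (Q.obj W : Dual.D A))
    ((shiftFunctorZero (Dual.D A) ℤ).app (Q.obj E'))).symm.subsingleton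


section Dualizing

variable [IsNoetherianRing A]
variable (hJ : ∀ q, Injective (I.X q)) [I.IsKInjective]
  (h4 : Function.Bijective (fun a : A => a • 𝟙 (Q.obj I : Dual.D A)))
  (h5 : ∀ i : ℤ, i ≠ 0 → Subsingleton ((Q.obj I : Dual.D A) ⟶ (Q.obj I)⟦i⟧))
  (a b : ℤ) (hv : DRing.VanishesOutside I a b) (hab : a ≤ b)

include hJ h4 h5 hv hab

/-- Biduality for a finite module placed in degree `k`. -/
lemma bidQis_single_finite (k : ℤ) (N : ModuleCat.{u} A) [Module.Finite A N] :
    BidQis I ((HomologicalComplex.single (ModuleCat.{u} A) (ComplexShape.up ℤ) k).obj N) := by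
  have hzero : ∀ i : ℤ, i ≠ k → IsZero ((DerivedCategory.homologyFunctor (ModuleCat.{u} A) i).obj
      (Q.obj ((HomologicalComplex.single (ModuleCat.{u} A) (ComplexShape.up ℤ) k).obj N))) := by
    intro i hi
    exact isZero_homology_Q_obj _ i (HomologicalComplex.isZero_single_obj_X _ _ _ _ hi)
  refine bidQis_of_bdd_finite I hJ h4 h5 a b hv hab _ k (fun i hi => ?_) (fun i => ?_)
  · exact ModuleCat.subsingleton_of_isZero (hzero i (by lia))
  · by_cases hi : i = k
    · subst hi
      exact Module.Finite.equiv (homologyQIso _ i ≪≫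
        HomologicalComplex.singleObjHomologySelfIso (ComplexShape.up ℤ) i N).symm.toLinearEquiv
    · have := ModuleCat.subsingleton_of_isZero (hzero i hi)
      infer_instance

/-- **Key vanishing**: if `Hom•(F, I)` is isomorphic in `D(A)` to a K-injective complex `E'`
vanishing above `b'`, then there are no nonzero maps in `D(A)` from `F` to a finite module placed
in degree `k` with `b' < a - k`. -/
theorem subsingleton_hom_single_of_dual (F E' : DRing.Cx A) [F.IsKProjective] [E'.IsKInjective]
    (b' : ℤ) (hE' : ∀ p : ℤ, b' < p → IsZero (E'.X p))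
    (eD : (Q.obj (DRing.homCx F I) : Dual.D A) ≅ Q.obj E')
    (k : ℤ) (hk : b' < a - k) (N : ModuleCat.{u} A) [Module.Finite A N] :
    Subsingleton ((Q.obj F : Dual.D A) ⟶
      (DerivedCategory.singleFunctor (ModuleCat.{u} A) k).obj N) := by
  let Y := (HomologicalComplex.single (ModuleCat.{u} A) (ComplexShape.up ℤ) k).obj N
  have hY : BidQis I Y := bidQis_single_finite I hJ h4 h5 a b hv hab k N
  have key : ∀ f : (Q.obj F : Dual.D A) ⟶ Q.obj Y, f = 0 := by
    intro f
    obtain ⟨g, rfl⟩ := Groth.Agent.Lib.Helper13.KP.exists_Q_map_eq f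
    refine Q_map_eq_zero_of_preMap I g hY ?_
    have hsub : Subsingleton ((Q.obj (DRing.homCx Y I) : Dual.D A) ⟶ Q.obj E') := by
      refine subsingleton_hom_of_disjoint _ _ (fun p => ?_)
      by_cases hp : b' < p
      · exact Or.inr (hE' p hp)
      · refine Or.inl (isZero_homCx_X Y I p (fun q => ?_))
        by_cases hq : q = k
        · subst hq
          exact Or.inr (hv _ (Or.inl (by lia)))
        · exact Or.inl (HomologicalComplex.isZero_single_obj_X _ _ _ _ hq)
    have hsub' : Subsingleton ((Q.obj (DRing.homCx Y I) : Dual.D A) ⟶ Q.obj (DRing.homCx F I)) :=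
      (Iso.homCongr (Iso.refl _) eD).subsingleton
    exact Subsingleton.elim _ _
  refine ⟨fun f f' => ?_⟩
  have e := (DerivedCategory.singleFunctorIsoCompQ (ModuleCat.{u} A) k).app N
  have h1 := key (f ≫ e.hom)
  have h2 := key (f' ≫ e.hom)
  exact (cancel_mono e.hom).1 (h1.trans h2.symm)

end Dualizing

end Groth.Agent.Lib.Helper13.TFD
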