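import Groth.Agent.Lib.Helper13.PSF3
import Groth.Agent.Lib.Helper13.LDC9

set_option autoImplicit false
set_option maxHeartbeats 800000
set_option linter.style.haveILetI false
universe u
open CategoryTheory CategoryTheory.Limits MonoidalCategory Pretriangulated
open CochainComplex CochainComplex.HomComplex HomologicalComplex
open scoped TensorProduct

namespace Groth.Agent.Lib.Helper13.TPZ

open DTen Groth.Agent.Lib.Helper13.HT Groth.Agent.Lib.Helper13.SF Groth.Agent.Lib.Helper13.KP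
  Groth.Agent.Lib.Helper13.DT Groth.Agent.Lib.Helper13.DV Groth.Agent.Lib.Helper13.DCN
  Groth.Agent.Lib.Helper13.DR Groth.Agent.Lib.Helper13.PC Groth.Agent.Lib.Helper13
  Groth.Agent.Lib.Helper13.Coind Groth.Agent.Lib.Helper13.FC
  Groth.Agent.Lib.Helper2.RGTors Groth.Agent.Lib.Helper2.TorsExt
  Groth.Agent.Lib.Helper7.DerivedComplete Groth.Agent.Lib.Helper7.DerivedCompleteMT
  Groth.Agent.Lib.Helper7.FComplete Groth.Agent.Lib.Helper13.LDC Groth.Agent.Lib.Helper13.ACF
  Groth.Agent.Lib.Helper13.PSF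

attribute [local instance] HasDerivedCategory.standard

variable {A : Type u} [CommRing A] (I : Ideal A)

section Mod

/-- A map with image in `I • V`, tensored with a module killed by `I`, vanishes. -/
lemma whiskerRight_eq_zero_of_range {U V : ModuleCat.{u} A} (φ : U ⟶ V) (N : ModuleCat.{u} A)
    (hφ : ∀ x, φ.hom x ∈ (I • ⊤ : Submodule A V)) (hN : ∀ a ∈ I, ∀ y : N, a • y = 0) :
    φ ▷ N = 0 := by
  apply ModuleCat.MonoidalCategory.tensor_ext
  intro x n
  change (φ.hom x) ⊗ₜ[A] n = 0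
  refine Submodule.smul_induction_on (hφ x) (fun a ha v _ => ?_) (fun x y hx hy => ?_)
  · rw [TensorProduct.smul_tmul, hN a ha n, TensorProduct.tmul_zero]
  · rw [TensorProduct.add_tmul, hx, hy, add_zero]

/-- The image of `V ⊗ I ⟶ V ⊗ A` lies in `I • (V ⊗ A)`. -/
lemma whiskerLeft_subtype_mem (V : ModuleCat.{u} A)
    (z : (V ⊗ ModuleCat.of A ↥I : ModuleCat.{u} A)) :
    (V ◁ (ModuleCat.ofHom I.subtype : ModuleCat.of A ↥I ⟶ ModuleCat.of A A)).hom z ∈
      (I • ⊤ : Submodule A (V ⊗ ModuleCat.of A A : ModuleCat.{u} A)) := by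
  induction z using TensorProduct.induction_on with
  | zero =>
    rw [map_zero]
    exact Submodule.zero_mem _
  | tmul y x =>
    have h1 : (V ◁ (ModuleCat.ofHom I.subtype : ModuleCat.of A ↥I ⟶ ModuleCat.of A A)).hom
        (y ⊗ₜ[A] x) = (x : A) • (y ⊗ₜ[A] (1 : A)) := by
      change y ⊗ₜ[A] (x : A) = (x : A) • (y ⊗ₜ[A] (1 : A))
      rw [← TensorProduct.tmul_smul, smul_eq_mul, mul_one]
    rw [h1]
    exact Submodule.smul_mem_smul x.2 Submodule.mem_top
  | add a b ha hb =>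
    rw [map_add]
    exact Submodule.add_mem _ ha hb

end Mod

section Cx

/-- A chain map with termwise image in `I • -`, tensored termwise with a module killed by `I`,
vanishes. -/
lemma tensorCx_map_eq_zero {X Y : DRing.Cx A} (m : X ⟶ Y) (N : ModuleCat.{u} A)
    (hm : ∀ (n : ℤ) (z : X.X n), (m.f n).hom z ∈ (I • ⊤ : Submodule A (Y.X n)))
    (hN : ∀ a ∈ I, ∀ y : N, a • y = 0) : (tensorCx N).map m = 0 := by
  refine HomologicalComplex.hom_ext _ _ (fun n => ?_)
  change (m.f n) ▷ N = 0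
  exact whiskerRight_eq_zero_of_range I (m.f n) N (hm n) hN

lemma whiskerRight_sg0_eq_zero {X Y : DRing.Cx A} (m : X ⟶ Y) (N : ModuleCat.{u} A)
    (hm : ∀ (n : ℤ) (z : X.X n), (m.f n).hom z ∈ (I • ⊤ : Submodule A (Y.X n)))
    (hN : ∀ a ∈ I, ∀ y : N, a • y = 0) : m ▷ sg0 N = 0 := by
  have h1 := tensorSingleIso_hom_naturality m N
  rw [tensorCx_map_eq_zero I m N hm hN, zero_comp] at h1
  have h2 : (tensorSingleIso X N).inv ≫ (tensorSingleIso X N).hom ≫ (m ▷ sg0 N) = 0 := by
    rw [← h1, comp_zero]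
  rw [Iso.inv_hom_id_assoc] at h2
  exact h2

end Cx

end Groth.Agent.Lib.Helper13.TPZ
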