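import Groth.Agent.Lib.Helper13.TPZ1

set_option autoImplicit false
set_option maxHeartbeats 800000
set_option linter.style.haveILetI false
universe u
open CategoryTheory CategoryTheory.Limits MonoidalCategory Pretriangulated
open CochainComplex CochainComplex.HomComplex HomologicalComplex
open scoped TensorProduct

namespace Groth.Agent.Lib.Helper13.TPZ

open DTen Groth.Agent.Lib.Helper13.HT Groth.Agent.Lib.Helper13.SF Groth.Agent.Lib.Helper13.KP
  Groth.Agent.Lib.Helper13.DT Groth.Agent.Lib.Helper13.DV Groth.Agent.Lib.Helper13.DCN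
  Groth.Agent.Lib.Helper13.DR Groth.Agent.Lib.Helper13.PC Groth.Agent.Lib.Helper13
  Groth.Agent.Lib.Helper13.Coind Groth.Agent.Lib.Helper13.FC
  Groth.Agent.Lib.Helper2.RGTors Groth.Agent.Lib.Helper2.TorsExt
  Groth.Agent.Lib.Helper7.DerivedComplete Groth.Agent.Lib.Helper7.DerivedCompleteMT
  Groth.Agent.Lib.Helper7.FComplete Groth.Agent.Lib.Helper13.LDC Groth.Agent.Lib.Helper13.ACF
  Groth.Agent.Lib.Helper13.PSF

attribute [local instance] HasDerivedCategory.standard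

variable {A : Type u} [CommRing A] (I : Ideal A)

section Z

variable (F : DRing.Cx A) (hF : KFlat F)

/-- The multiplication map `I[0] ⊗ F ⟶ F`. -/
noncomputable def mulMap : sg0 (ModuleCat.of A ↥I) ⊗ F ⟶ F :=
  ((HomologicalComplex.single (ModuleCat.{u} A) (ComplexShape.up ℤ) 0).map
    (ModuleCat.ofHom I.subtype : ModuleCat.of A ↥I ⟶ ModuleCat.of A A) ▷ F) ≫ (λ_ F).hom

lemma mulMap_mem (n : ℤ) (z : (sg0 (ModuleCat.of A ↥I) ⊗ F).X n) :
    ((mulMap I F).f n).hom z ∈ (I • ⊤ : Submodule A (F.X n)) := by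
  let MI : ModuleCat.{u} A := ModuleCat.of A ↥I
  let MA : ModuleCat.{u} A := ModuleCat.of A A
  let iI : MI ⟶ MA := ModuleCat.ofHom I.subtype
  let σ₁ : sg0 MI ⊗ F ≅ (tensorCx MI).obj F := singleTensorIso F MI
  let σ₂ : sg0 MA ⊗ F ≅ (tensorCx MA).obj F := singleTensorIso F MA
  let lam : sg0 MA ⊗ F ≅ F := λ_ F
  let wI : sg0 MI ⊗ F ⟶ sg0 MA ⊗ F :=
    (HomologicalComplex.single (ModuleCat.{u} A) (ComplexShape.up ℤ) 0).map iI ▷ F
  let tI : (tensorCx MI).obj F ⟶ (tensorCx MA).obj F := tensorCxMap F iI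
  have h1 : σ₁.hom ≫ tI = wI ≫ σ₂.hom := singleTensorIso_hom_naturality F iI
  have h2 : wI = σ₁.hom ≫ tI ≫ σ₂.inv := by
    rw [← Category.assoc, h1, Category.assoc, Iso.hom_inv_id, Category.comp_id]
  have h3 : mulMap I F = σ₁.hom ≫ tI ≫ (σ₂.inv ≫ lam.hom) := by
    change wI ≫ lam.hom = _
    rw [h2]
    simp only [Category.assoc]
  rw [h3]
  change ((σ₂.inv ≫ lam.hom).f n).hom ((tI.f n).hom ((σ₁.hom.f n).hom z)) ∈ _
  apply map_mem_smul_top
  exact whiskerLeft_subtype_mem I (F.X n) _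

include hF in
/-- For a K-flat resolution `Pc ⟶ N[0]` of a module killed by `I`, the map
`(I[0] ⊗ F) ⊗ Pc ⟶ F ⊗ Pc` vanishes in the derived category. -/
theorem Q_map_mulMap_whiskerRight_eq_zero (N : ModuleCat.{u} A)
    (hN : ∀ a ∈ I, ∀ y : N, a • y = 0) (Pc : DRing.Cx A) (ε : Pc ⟶ sg0 N) [QuasiIso ε] :
    DerivedCategory.Q.map (mulMap I F ▷ Pc) = 0 := by
  have hz : mulMap I F ▷ sg0 N = 0 := whiskerRight_sg0_eq_zero I (mulMap I F) N (mulMap_mem I F) hN
  have hex : (mulMap I F ▷ Pc) ≫ (F ◁ ε) = 0 := by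
    rw [← whisker_exchange, hz, comp_zero]
  have qi : QuasiIso (F ◁ ε) := quasiIso_whiskerLeft_of_kflat_left F hF ε
  have iso : IsIso (DerivedCategory.Q.map (F ◁ ε)) := by
    rw [DerivedCategory.isIso_Q_map_iff_quasiIso]
    exact qi
  have h1 : DerivedCategory.Q.map (mulMap I F ▷ Pc) ≫ DerivedCategory.Q.map (F ◁ ε) = 0 := by
    rw [← Functor.map_comp, hex, Functor.map_zero]
  have h2 := congrArg (fun t => t ≫ inv (DerivedCategory.Q.map (F ◁ ε))) h1
  simpa using h2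

end Z

section Main

variable [IsNoetherianRing A] (M : Type u) [AddCommGroup M] [Module A M] [Module.Finite A M]

/-- Uniform vanishing: for `n ≫ 0`, the map `(I^n M)[0] ⊗ Pc ⟶ M[0] ⊗ Pc` is zero in `D(A)` for every
K-flat resolution `Pc` of a module killed by `I`. -/
theorem exists_Q_map_whiskerRight_eq_zero :
    ∃ n : ℕ, 0 < n ∧ ∀ (N : ModuleCat.{u} A) (_ : ∀ a ∈ I, ∀ y : N, a • y = 0) (Pc : DRing.Cx A)
      (_ : KFlat Pc) (ε : Pc ⟶ sg0 N) (_ : QuasiIso ε),
      DerivedCategory.Q.map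
        ((HomologicalComplex.single (ModuleCat.{u} A) (ComplexShape.up ℤ) 0).map
          (ModuleCat.ofHom (I ^ n • (⊤ : Submodule A M)).subtype) ▷ Pc) = 0 := by
  obtain ⟨F, hFp, π, hπ, n, hn, g', hg'⟩ := exists_factor_tensor I M
  refine ⟨n, hn, fun N hN Pc hPc ε hε => ?_⟩
  have hF : KFlat F := isKFlat_of_isKProjective F
  let sj := (HomologicalComplex.single (ModuleCat.{u} A) (ComplexShape.up ℤ) 0).map
    (ModuleCat.ofHom (I ^ n • (⊤ : Submodule A M)).subtype)
  have hE : DerivedCategory.Q.map sj =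
      g' ≫ DerivedCategory.Q.map (mulMap I F) ≫ DerivedCategory.Q.map π := by
    rw [← hg']
    unfold mulMap
    rw [Functor.map_comp, Category.assoc]
  have hz := Q_map_mulMap_whiskerRight_eq_zero I F hF N hN Pc ε
  have hΨ : (Psi Pc hPc).map (DerivedCategory.Q.map sj) = 0 := by
    rw [hE, Functor.map_comp, Functor.map_comp, Psi_map_Q_map Pc hPc (mulMap I F), hz]
    simp
    rfl
  have h1 := Psi_map_Q_map Pc hPc sj
  rw [hΨ] at h1
  have h2 := congrArg (fun t => (psiIso Pc hPc).inv.app _ ≫ t ≫ (psiIso Pc hPc).hom.app _) h1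
  simp only [comp_zero, zero_comp, Category.assoc, Iso.inv_hom_id_app, Iso.inv_hom_id_app_assoc] at h2
  exact h2.symm

end Main

end Groth.Agent.Lib.Helper13.TPZ
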