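import Groth.Agent.Lib.Helper13.TPZ2
import Groth.Agent.Lib.Helper13.TorBridge1
import Mathlib.CategoryTheory.Abelian.Projective.Ext

set_option autoImplicit false
set_option maxHeartbeats 800000
set_option linter.style.haveILetI false
universe u
open CategoryTheory CategoryTheory.Limits MonoidalCategory Pretriangulated
open CochainComplex CochainComplex.HomComplex HomologicalComplex
open scoped TensorProduct

namespace Groth.Agent.Lib.Helper13.TPZ

open DTen Groth.Agent.Lib.Helper13.HT Groth.Agent.Lib.Helper13.SF Groth.Agent.Lib.Helper13.KP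
  Groth.Agent.Lib.Helper13.DT Groth.Agent.Lib.Helper13.DV Groth.Agent.Lib.Helper13.DCN
  Groth.Agent.Lib.Helper13.DR Groth.Agent.Lib.Helper13.PC Groth.Agent.Lib.Helper13
  Groth.Agent.Lib.Helper13.Coind Groth.Agent.Lib.Helper13.FC
  Groth.Agent.Lib.Helper2.RGTors Groth.Agent.Lib.Helper2.TorsExt
  Groth.Agent.Lib.Helper7.DerivedComplete Groth.Agent.Lib.Helper7.DerivedCompleteMT
  Groth.Agent.Lib.Helper7.FComplete Groth.Agent.Lib.Helper13.LDC Groth.Agent.Lib.Helper13.ACF
  Groth.Agent.Lib.Helper13.PSF Groth.Agent.Lib.Helper13.TB

attribute [local instance] HasDerivedCategory.standard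

section General

variable {C D : Type*} [Category C] [Category D] [Abelian C] [Abelian D]
  {ι ι' : Type*} {c : ComplexShape ι} {c' : ComplexShape ι'}

lemma XMapIso_hom_naturality {G G' : C ⥤ D} [G.Additive] [G'.Additive] (α : G ⟶ G')
    (K : HomologicalComplex C c) (o : Option ι) :
    α.app (extend.X K o) ≫ (XMapIso G' K o).hom =
      (XMapIso G K o).hom ≫
        extend.mapX ((NatTrans.mapHomologicalComplex α c).app K) o := by
  match o with
  | some i =>
    change α.app (K.X i) ≫ 𝟙 _ = 𝟙 _ ≫ α.app (K.X i)
    rw [Category.comp_id, Category.id_comp]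
  | none => exact (extend.isZero_X _ rfl).eq_of_tgt _ _

lemma mapExtendIso_hom_naturality {G G' : C ⥤ D} [G.Additive] [G'.Additive] (α : G ⟶ G')
    (K : HomologicalComplex C c) (e : c.Embedding c') :
    (NatTrans.mapHomologicalComplex α c').app (K.extend e) ≫ (mapExtendIso G' K e).hom =
      (mapExtendIso G K e).hom ≫
        HomologicalComplex.extendMap ((NatTrans.mapHomologicalComplex α c).app K) e := by
  ext i'
  exact XMapIso_hom_naturality α K (e.r i')

/-- Vanishing of the homology map before extension follows from vanishing after extension. -/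
lemma homologyMap_eq_zero_of_extend {G G' : C ⥤ D} [G.Additive] [G'.Additive] (α : G ⟶ G')
    (K : HomologicalComplex C c) (e : c.Embedding c') {j : ι} {j' : ι'} (hj' : e.f j = j')
    (h : HomologicalComplex.homologyMap
      ((NatTrans.mapHomologicalComplex α c').app (K.extend e)) j' = 0) :
    HomologicalComplex.homologyMap ((NatTrans.mapHomologicalComplex α c).app K) j = 0 := by
  have nat := mapExtendIso_hom_naturality α K e
  have h1 : HomologicalComplex.extendMap ((NatTrans.mapHomologicalComplex α c).app K) e =
      (mapExtendIso G K e).inv ≫ (NatTrans.mapHomologicalComplex α c').app (K.extend e) ≫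
        (mapExtendIso G' K e).hom := by
    rw [nat, Iso.inv_hom_id_assoc]
  have h2 : HomologicalComplex.homologyMap
      (HomologicalComplex.extendMap ((NatTrans.mapHomologicalComplex α c).app K) e) j' = 0 := by
    rw [h1, HomologicalComplex.homologyMap_comp, HomologicalComplex.homologyMap_comp, h, zero_comp,
      comp_zero]
  have h3 := HomologicalComplex.extendHomologyIso_hom_naturality
    ((NatTrans.mapHomologicalComplex α c).app K) e hj'
  rw [h2, zero_comp] at h3
  have h4 := congrArg (fun t => (HomologicalComplex.extendHomologyIso _ e hj').inv ≫ t) h3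
  simpa using h4.symm

/-- Transport of vanishing of homology maps along isomorphic natural transformations. -/
lemma homologyMap_eq_zero_of_natIso {G G' H H' : C ⥤ D} [G.Additive] [G'.Additive] [H.Additive]
    [H'.Additive] (α : G ⟶ G') (β : H ⟶ H') (b : G ≅ H) (b' : G' ≅ H')
    (hsq : α ≫ b'.hom = b.hom ≫ β) (K : HomologicalComplex C c) (i : ι)
    (h : HomologicalComplex.homologyMap ((NatTrans.mapHomologicalComplex β c).app K) i = 0) :
    HomologicalComplex.homologyMap ((NatTrans.mapHomologicalComplex α c).app K) i = 0 := by
  have e1 : (NatTrans.mapHomologicalComplex α c).app K ≫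
      (NatTrans.mapHomologicalComplex b'.hom c).app K =
      (NatTrans.mapHomologicalComplex b.hom c).app K ≫
        (NatTrans.mapHomologicalComplex β c).app K := by
    rw [← NatTrans.comp_app, ← NatTrans.comp_app, ← NatTrans.mapHomologicalComplex_comp,
      ← NatTrans.mapHomologicalComplex_comp, hsq]
  have e2 : (NatTrans.mapHomologicalComplex b'.hom c).app K ≫
      (NatTrans.mapHomologicalComplex b'.inv c).app K = 𝟙 _ := by
    rw [← NatTrans.comp_app, ← NatTrans.mapHomologicalComplex_comp, Iso.hom_inv_id,
      NatTrans.mapHomologicalComplex_id]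
    rfl
  have e3 : (NatTrans.mapHomologicalComplex α c).app K =
      (NatTrans.mapHomologicalComplex b.hom c).app K ≫
        (NatTrans.mapHomologicalComplex β c).app K ≫
          (NatTrans.mapHomologicalComplex b'.inv c).app K := by
    rw [← Category.assoc, ← e1, Category.assoc, e2, Category.comp_id]
  rw [e3, HomologicalComplex.homologyMap_comp, HomologicalComplex.homologyMap_comp, h, zero_comp,
    comp_zero]

end General

variable {A : Type u} [CommRing A]

lemma homologyMap_eq_zero_of_Q_map_eq_zero {X Y : DRing.Cx A} (g : X ⟶ Y)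
    (h : DerivedCategory.Q.map g = 0) (i : ℤ) : HomologicalComplex.homologyMap g i = 0 := by
  have nat := (DerivedCategory.homologyFunctorFactors (ModuleCat.{u} A) i).hom.naturality g
  rw [Functor.comp_map, h, Functor.map_zero, zero_comp] at nat
  have h2 := congrArg (fun t =>
    (DerivedCategory.homologyFunctorFactors (ModuleCat.{u} A) i).inv.app X ≫ t) nat
  simp only [comp_zero, Iso.inv_hom_id_app_assoc] at h2
  exact h2.symm

/-- The braiding as an isomorphism `M ⊗ - ≅ - ⊗ M`. -/
noncomputable def braidNatIso (M : ModuleCat.{u} A) :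
    (tensoringLeft (ModuleCat.{u} A)).obj M ≅ (tensoringRight (ModuleCat.{u} A)).obj M :=
  NatIso.ofComponents (fun Y => β_ M Y) (fun g => by
    simp)

lemma braidNatIso_naturality {M' M : ModuleCat.{u} A} (f : M' ⟶ M) :
    (tensoringLeft (ModuleCat.{u} A)).map f ≫ (braidNatIso M).hom =
      (braidNatIso M').hom ≫ (tensoringRight (ModuleCat.{u} A)).map f := by
  ext Y : 2
  simp [braidNatIso]

end Groth.Agent.Lib.Helper13.TPZ
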