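import Groth.Agent.Lib.Helper13.TPZ3

set_option autoImplicit false
set_option maxHeartbeats 800000
set_option linter.style.haveILetI false
universe u
open CategoryTheory CategoryTheory.Limits MonoidalCategory Pretriangulated
open CochainComplex CochainComplex.HomComplex HomologicalComplex
open scoped TensorProduct

namespace Groth.Agent.Lib.Helper13.TPZ

open DTen Groth.Agent.Lib.Helper13.HT Groth.Agent.Lib.Helper13.SF Groth.Agent.Lib.Helper13.KP
  Groth.Agent.Lib.Helper13.DT Groth.Agent.Lib.Helper13.DV Groth.Agent.Lib.Helper13.DCN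
  Groth.Agent.Lib.Helper13.DR Groth.Agent.Lib.Helper13.PC Groth.Agent.Lib.Helper13
  Groth.Agent.Lib.Helper13.Coind Groth.Agent.Lib.Helper13.FC
  Groth.Agent.Lib.Helper2.RGTors Groth.Agent.Lib.Helper2.TorsExt
  Groth.Agent.Lib.Helper7.DerivedComplete Groth.Agent.Lib.Helper7.DerivedCompleteMT
  Groth.Agent.Lib.Helper7.FComplete Groth.Agent.Lib.Helper13.LDC Groth.Agent.Lib.Helper13.ACF
  Groth.Agent.Lib.Helper13.PSF Groth.Agent.Lib.Helper13.TB

attribute [local instance] HasDerivedCategory.standard

variable {A : Type u} [CommRing A] [IsNoetherianRing A] (I : Ideal A)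
  (M N : Type u) [AddCommGroup M] [Module A M] [Module.Finite A M] [AddCommGroup N] [Module A N]

theorem main (hN : ∀ a ∈ I, ∀ y : N, a • y = 0) :
    ∃ n : ℕ, 0 < n ∧ ∀ p : ℕ,
      ((CategoryTheory.Tor (ModuleCat.{u} A) p).map
        (ModuleCat.ofHom (I ^ n • ⊤ : Submodule A M).subtype)).app (ModuleCat.of A N) = 0 := by
  obtain ⟨n, hn, key⟩ := exists_Q_map_whiskerRight_eq_zero I M
  refine ⟨n, hn, fun p => ?_⟩
  let Nm : ModuleCat.{u} A := ModuleCat.of A N
  let R : ProjectiveResolution Nm := projectiveResolution Nm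
  let Pc : DRing.Cx A := R.cochainComplex
  have hPc : KFlat Pc := isKFlat_of_isKProjective Pc
  let ε : Pc ⟶ sg0 Nm := R.π'
  have hε : QuasiIso ε := inferInstanceAs (QuasiIso R.π')
  let Mn : ModuleCat.{u} A := ModuleCat.of A ↥(I ^ n • ⊤ : Submodule A M)
  let Mm : ModuleCat.{u} A := ModuleCat.of A M
  let j : Mn ⟶ Mm := ModuleCat.ofHom (I ^ n • ⊤ : Submodule A M).subtype
  have h0 := key Nm hN Pc hPc ε hε
  -- pass to the termwise tensor product
  have h1 : DerivedCategory.Q.map (tensorCxMap Pc j) = 0 := by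
    have nat := singleTensorIso_hom_naturality Pc j
    have e : tensorCxMap Pc j = (singleTensorIso Pc Mn).inv ≫
        ((HomologicalComplex.single (ModuleCat.{u} A) (ComplexShape.up ℤ) 0).map j ▷ Pc) ≫
          (singleTensorIso Pc Mm).hom := by
      rw [← nat, Iso.inv_hom_id_assoc]
    rw [e, Functor.map_comp, Functor.map_comp, h0, zero_comp, comp_zero]
  have h2 : HomologicalComplex.homologyMap
      ((NatTrans.mapHomologicalComplex ((tensoringRight (ModuleCat.{u} A)).map j)
        (ComplexShape.up ℤ)).app Pc) (-(p : ℤ)) = 0 :=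
    homologyMap_eq_zero_of_Q_map_eq_zero (tensorCxMap Pc j) h1 _
  have h3 : HomologicalComplex.homologyMap
      ((NatTrans.mapHomologicalComplex ((tensoringLeft (ModuleCat.{u} A)).map j)
        (ComplexShape.up ℤ)).app Pc) (-(p : ℤ)) = 0 :=
    homologyMap_eq_zero_of_natIso _ _ (braidNatIso Mn) (braidNatIso Mm)
      (braidNatIso_naturality j) Pc _ h2
  have h4 : HomologicalComplex.homologyMap
      ((NatTrans.mapHomologicalComplex ((tensoringLeft (ModuleCat.{u} A)).map j)
        (ComplexShape.down ℕ)).app R.complex) p = 0 :=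
    homologyMap_eq_zero_of_extend ((tensoringLeft (ModuleCat.{u} A)).map j) R.complex
      ComplexShape.embeddingDownNat (j := p) (j' := -(p : ℤ)) (by simp) h3
  change (NatTrans.leftDerived ((tensoringLeft (ModuleCat.{u} A)).map j) p).app Nm = 0
  rw [ProjectiveResolution.leftDerived_app_eq _ R p]
  change _ ≫ HomologicalComplex.homologyMap _ p ≫ _ = 0
  rw [h4, zero_comp, comp_zero]

end Groth.Agent.Lib.Helper13.TPZ
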