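import Groth.Agent.Lib.Helper13.BcRHom2
import Groth.Agent.Lib.Helper13.KFlat6
import Groth.Agent.Lib.Helper13.TorBridge1
import Groth.Agent.S6901

set_option autoImplicit false
universe u
open CategoryTheory CategoryTheory.Limits MonoidalCategory Pretriangulated Opposite

namespace Groth.Agent.Lib.Helper13.DV

open DTen Groth.Agent.Lib.Helper13.SF Groth.Agent.Lib.Helper13.DT Groth.Agent.Lib.Helper13.DR
  Groth.Agent.Lib.Helper13.HT Groth.Agent.Lib.Helper13.KP Groth.Agent.Lib.Helper13.RE
  Groth.Agent.Lib.Helper13.PC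

attribute [local instance] HasDerivedCategory.standard

section Tensor

variable {A : Type u} [CommRing A]

/-- For a K-flat complex `P`, the vanishing of `H^j(X ⊗ P)` only depends on the class of `X` in the
derived category. -/
lemma isZero_homology_tensor_of_iso (P : DRing.Cx A) (hP : KFlat P) (X X' : DRing.Cx A)
    (e : DerivedCategory.Q.obj X ≅ DerivedCategory.Q.obj X') (j : ℤ)
    (h : IsZero ((X ⊗ P).homology j)) : IsZero ((X' ⊗ P).homology j) := by
  obtain ⟨ψ, hψ⟩ := KP.exists_Q_map_eq (DerivedCategory.Q.map (resMap X) ≫ e.hom)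
  have h1 : IsIso (DerivedCategory.Q.map (resMap X)) := by
    rw [DerivedCategory.isIso_Q_map_iff_quasiIso]; infer_instance
  have h2 : IsIso (DerivedCategory.Q.map ψ) := by rw [hψ]; infer_instance
  rw [DerivedCategory.isIso_Q_map_iff_quasiIso] at h2
  have q1 := quasiIso_whiskerRight_of_kflat P hP (resMap X)
  have q2 := quasiIso_whiskerRight_of_kflat P hP ψ
  rw [← isZero_homology_of_quasiIso (ψ ▷ P) j, isZero_homology_of_quasiIso (resMap X ▷ P) j]
  exact h

end Tensor

section LB

variable {R R' : Type u} [CommRing R] [CommRing R'] (φ : R →+* R') [HasLBase φ]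

/-- If `R'` has tor amplitude in `[-d, 0]` over `R`, derived base change lowers the lower
cohomological bound of a complex by at most `d`. -/
theorem isZero_homology_LBase_of_torAmp (d : ℕ)
    (hU : DRing.HasTorAmplitudeIn R (-(d : ℤ)) 0
      (DerivedCategory.Q.obj ((resCx φ).obj (𝟙_ (DRing.Cx R')))))
    (Y : DRing.Cx R) (c : ℤ) (hY : ∀ k : ℤ, k < c → IsZero (Y.X k)) (j : ℤ) (hj : j < c - d) :
    IsZero ((DerivedCategory.homologyFunctor (ModuleCat.{u} R') j).obj
      ((LBase φ).obj (DerivedCategory.Q.obj Y))) := by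
  have h1 : IsIso (DerivedCategory.Q.map (resMap Y)) := by
    rw [DerivedCategory.isIso_Q_map_iff_quasiIso]; infer_instance
  have hb := isIso_baseCmp_app_of_isKProjective φ (res Y)
  let e₁ : (LBase φ).obj (DerivedCategory.Q.obj Y) ≅
      DerivedCategory.Q.obj ((extCx φ).obj (res Y)) :=
    ((LBase φ).mapIso (asIso (DerivedCategory.Q.map (resMap Y)))).symm ≪≫
      @asIso _ _ _ _ ((baseCmp φ).app (res Y)) hb
  refine IsZero.of_iso ?_ ((DerivedCategory.homologyFunctor _ j).mapIso e₁ ≪≫ homologyQIso _ j)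
  apply isZero_of_isZero_restrictScalars φ
  refine IsZero.of_iso ?_ (restrictCxHomologyIso φ _ j).symm
  let e₂ : (resCx φ).obj (𝟙_ (DRing.Cx R')) ⊗ res Y ≅ (resCx φ).obj ((extCx φ).obj (res Y)) :=
    resExtIso φ (𝟙_ _) (res Y) ≪≫ (resCx φ).mapIso (λ_ _)
  refine IsZero.of_iso ?_ ((HomologicalComplex.homologyFunctor _ _ j).mapIso e₂.symm)
  obtain ⟨F, hFv, hFfl, ⟨eF⟩⟩ := hU
  refine isZero_homology_tensor_of_iso (res Y) (isKFlat_of_isKProjective (res Y)) F _ eF j ?_
  have hF : KFlat F := Groth.Agent.S6901.result R F 0 (fun i hi => hFv i (Or.inr hi)) hFfl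
  have q : QuasiIso (F ◁ resMap Y) := by
    rw [whiskerLeft_eq_braid]
    have := quasiIso_whiskerRight_of_kflat F hF (resMap Y)
    infer_instance
  rw [isZero_homology_of_quasiIso (F ◁ resMap Y) j]
  refine ShortComplex.isZero_homology_of_isZero_X₂ _ (isZero_tensor_X F Y j (fun p q hpq => ?_))
  by_cases hp : p < -(d : ℤ)
  · exact Or.inl (hFv p (Or.inl hp))
  · exact Or.inr (hY q (by lia))

end LB

section Main

variable {R R' : Type u} [CommRing R] [CommRing R'] [Algebra R R']

/-- The restriction of the unit complex of `R'` represents `R'[0]` in `D(R)`. -/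
noncomputable def resUnitIso :
    DerivedCategory.Q.obj ((resCx (algebraMap R R')).obj (𝟙_ (DRing.Cx R'))) ≅ Dual.inD R R' :=
  DerivedCategory.Q.mapIso
      ((HomologicalComplex.singleMapHomologicalComplex
        (ModuleCat.restrictScalars.{u} (algebraMap R R')) (ComplexShape.up ℤ) 0).app
          (𝟙_ (ModuleCat.{u} R')) ≪≫
        (HomologicalComplex.single _ (ComplexShape.up ℤ) 0).mapIso (algebraRestrictIso R R').symm) ≪≫
    ((DerivedCategory.singleFunctorIsoCompQ (ModuleCat.{u} R) 0).app (ModuleCat.of R R')).symm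

lemma hasTorAmplitudeIn_resUnit_of_hasTorDimLE (d : ℕ) (h : DRing.HasTorDimLE R d R') :
    DRing.HasTorAmplitudeIn R (-(d : ℤ)) 0
      (DerivedCategory.Q.obj ((resCx (algebraMap R R')).obj (𝟙_ (DRing.Cx R')))) :=
  hasTorAmplitudeIn_of_iso resUnitIso.symm
    ((Groth.Agent.Lib.Helper13.TB.hasTorDimLE_iff_hasTorAmplitudeIn R R' d).1 h)

variable [HasLBase (algebraMap R R')]
  [HasLTen R] [HasLTen R'] [HasRHom R] [HasRHom R'] [HasResTen (algebraMap R R')]
  [ResLegIso (algebraMap R R')]

/-- The way-out theorem for `bcRHom` along a ring map of finite tor dimension. -/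
theorem isIso_bcRHom_of_hasTorDimLE_of_isPseudoCoherent (d : ℕ) (hd : DRing.HasTorDimLE R d R')
    (K M : Dual.D R)
    (hK : DRing.IsPseudoCoherent' R K) (n : ℤ) (hM : DerivedCategory.IsGE M n) :
    IsIso (bcRHom (algebraMap R R') K M) := by
  have hU := hasTorAmplitudeIn_resUnit_of_hasTorDimLE d hd
  obtain ⟨E, b₀, hE, hE', ⟨eK⟩⟩ := hK
  obtain ⟨M', hM', ⟨eM⟩⟩ := DerivedCategory.exists_iso_Q_obj_of_isGE M n
  have hzM : ∀ k : ℤ, k < n → IsZero (M'.X k) := fun k hk =>
    CochainComplex.isZero_of_isStrictlyGE M' n k hk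
  have hLM : ((LBase (algebraMap R R')).obj M).IsGE (n - d) := by
    rw [DerivedCategory.isGE_iff]
    intro j hj
    exact IsZero.of_iso (isZero_homology_LBase_of_torAmp (algebraMap R R') d hU M' n hzM j hj)
      ((DerivedCategory.homologyFunctor _ j).mapIso ((LBase (algebraMap R R')).mapIso eM))
  obtain ⟨M'', hM'', ⟨eM''⟩⟩ :=
    DerivedCategory.exists_iso_Q_obj_of_isGE ((LBase (algebraMap R R')).obj M) (n - d)
  have hzM'' : ∀ k : ℤ, k < n - d → IsZero (M''.X k) := fun k hk =>
    CochainComplex.isZero_of_isStrictlyGE M'' (n - d) k hk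
  suffices h : IsIso ((bcNat (algebraMap R R') M).app (op (DRing.toD E))) from
    (NatTrans.isIso_app_iff_of_iso (bcNat (algebraMap R R') M) eK.op).2 h
  rw [DerivedCategory.isIso_iff]
  intro i
  let m : ℤ := n - d - i - 1
  have hSE := shortExact_truncShortComplex E m
  have k₁ := isKProjective_truncShortComplex_X₁ E b₀ hE hE' m
  have k₃ := isKProjective_truncShortComplex_X₃ E hE' m
  let X₃ := (truncShortComplex E m).X₃
  have hzX : ∀ k : ℤ, m ≤ k → IsZero (X₃.X k) := fun k hk =>
    isZero_truncShortComplex_X₃_X E m k hk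
  let T₀ := DerivedCategory.triangleOfSES hSE
  have hT₀ : T₀ ∈ distTriang (Dual.D R) := DerivedCategory.triangleOfSES_distinguished hSE
  have hη : IsIso ((bcNat (algebraMap R R') M).app (op T₀.obj₁)) :=
    isIso_bcRHom_of_isPerfect (algebraMap R R') _ M (isPerfect_truncShortComplex_X₁ E b₀ hE hE' m)
  -- the source
  have hSvan : ∀ j : ℤ, j ≤ i + 1 →
      IsZero ((DerivedCategory.homologyFunctor (ModuleCat.{u} R') j).obj
        ((bcSrc (algebraMap R R') M).obj (op T₀.obj₃))) := by
    intro j hj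
    obtain ⟨eR⟩ := exists_iso_RHom_Q_homCx (DerivedCategory.Q.obj X₃) M X₃ M' (Iso.refl _)
      eM.symm (isIso_rhoCx X₃ M')
    refine IsZero.of_iso (isZero_homology_LBase_of_torAmp (algebraMap R R') d hU
        (DRing.homCx X₃ M') (n - m + 1) (fun k hk => isZero_homCx_X X₃ M' k (fun p => ?_)) j
        (by lia))
      ((DerivedCategory.homologyFunctor (ModuleCat.{u} R') j).mapIso
        ((LBase (algebraMap R R')).mapIso eR))
    by_cases hp : m ≤ p
    · exact Or.inl (hzX p hp)
    · exact Or.inr (hzM _ (by omega))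
  -- the target
  have hTvan : ∀ j : ℤ, j ≤ i + 1 →
      IsZero ((DerivedCategory.homologyFunctor (ModuleCat.{u} R') j).obj
        ((bcTgt (algebraMap R R') M).obj (op T₀.obj₃))) := by
    intro j hj
    have hb₁ := isIso_baseCmp_app_of_isKProjective (algebraMap R R') X₃
    have kp : ((extCx (algebraMap R R')).obj X₃).IsKProjective :=
      isKProjective_extCx (algebraMap R R') X₃
    let eL : (LBase (algebraMap R R')).obj (DerivedCategory.Q.obj X₃) ≅
        DerivedCategory.Q.obj ((extCx (algebraMap R R')).obj X₃) :=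
      @asIso _ _ _ _ ((baseCmp (algebraMap R R')).app X₃) hb₁
    obtain ⟨e⟩ := exists_iso_RHom_Q_homCx
      ((LBase (algebraMap R R')).obj (DerivedCategory.Q.obj X₃))
      ((LBase (algebraMap R R')).obj M) ((extCx (algebraMap R R')).obj X₃)
      M'' eL eM''.symm (isIso_rhoCx _ _)
    refine IsZero.of_iso (isZero_homology_Q_obj _ j (isZero_homCx_X _ _ j (fun p => ?_)))
      ((DerivedCategory.homologyFunctor (ModuleCat.{u} R') j).mapIso e)
    by_cases hp : m ≤ p
    · exact Or.inl ((ModuleCat.extendScalars.{u, u, u} (algebraMap R R')).map_isZero (hzX p hp))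
    · exact Or.inr (hzM'' _ (by omega))
  exact isIso_homologyMap_app_of_weakTriOp (bcNat (algebraMap R R') M)
    (weakTriOp_bcSrc (algebraMap R R') M)
    (weakTriOp_bcTgt' (algebraMap R R') ((LBase (algebraMap R R')).obj M)) T₀ hT₀ i (i + 1) rfl
    (hSvan _ (by omega)) (hSvan _ (by omega)) (hTvan _ (by omega)) (hTvan _ (by omega))

end Main

end Groth.Agent.Lib.Helper13.DV
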