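import Groth.Agent.Lib.Helper13.HomBC6
import Groth.Prelude.Def_TrivBC

/-!
# Tor-independent base change: formal part
-/

set_option autoImplicit false
set_option linter.unusedSectionVars false

open CategoryTheory CategoryTheory.Limits

universe u

namespace Groth.Agent.Lib.Helper13.TI

open DerivedCategory Groth.Agent.Lib.Helper13.Coind TrivBC Groth.Agent.Lib.Helper13.HomBC
  Groth.Agent.Lib.Helper13.FC

attribute [local instance] HasDerivedCategory.standard

variable {R A R' A' : Type u} [CommRing R] [CommRing A] [CommRing R'] [CommRing A']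
  {φ : R →+* A} {ρ : R →+* R'} {α : A →+* A'} {φ' : R' →+* A'}
  [DRing.HasLBaseChange ρ] [DRing.HasLBaseChange α]
  (adjρ : DRing.LBaseChange ρ ⊣ DRing.restrictD ρ) (adjα : DRing.LBaseChange α ⊣ DRing.restrictD α)
  (h : α.comp φ = φ'.comp ρ)

/-- The base change map for derived coinduction. -/
noncomputable def beta (N : Dual.D R') :
    (DRing.restrictD α).obj ((Rco φ').obj N) ⟶ (Rco φ).obj ((DRing.restrictD ρ).obj N) :=
  (Coind.adj φ).homEquiv _ _ ((resComm h).hom.app ((Rco φ').obj N) ≫
    (DRing.restrictD ρ).map ((Coind.adj φ').counit.app N))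

lemma homEquiv_cmp_comp (K : Dual.D A) (N : Dual.D R')
    (t : (DRing.restrictD φ').obj ((DRing.LBaseChange α).obj K) ⟶ N) :
    adjρ.homEquiv _ _ (TrivBC.cmp adjρ adjα h K ≫ t) =
      ((Coind.adj φ).homEquiv _ _).symm
        (adjα.homEquiv _ _ ((Coind.adj φ').homEquiv _ _ t) ≫ beta h N) := by
  rw [Adjunction.homEquiv_naturality_right]
  unfold TrivBC.cmp
  rw [Equiv.apply_symm_apply]
  unfold beta
  rw [Adjunction.homEquiv_counit, Adjunction.homEquiv_unit, Adjunction.homEquiv_unit,
    Adjunction.homEquiv_unit]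
  simp only [Functor.map_comp, Category.assoc, Functor.comp_obj]
  congr 1
  have n1 := (resComm h).hom.naturality
    ((Coind.adj φ').unit.app ((DRing.LBaseChange α).obj K) ≫ (Rco φ').map t)
  simp only [Functor.comp_map, Functor.map_comp, Category.assoc, Functor.comp_obj] at n1
  rw [Adjunction.counit_naturality, Adjunction.counit_naturality_assoc,
    Adjunction.left_triangle_components_assoc, reassoc_of% n1, ← Functor.map_comp,
    ← Functor.map_comp]
  congr 2
  rw [Adjunction.counit_naturality, Adjunction.left_triangle_components_assoc]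


/-- If all `beta` are isomorphisms, so are all `cmp`. -/
theorem isIso_cmp_of_isIso_beta (hβ : ∀ N : Dual.D R', IsIso (beta (φ := φ) (α := α) h N))
    (K : Dual.D A) : IsIso (TrivBC.cmp adjρ adjα h K) := by
  rw [isIso_iff_coyoneda_map_bijective]
  intro N
  have hb : Function.Bijective (fun t : (DRing.restrictD φ').obj ((DRing.LBaseChange α).obj K) ⟶ N =>
      adjρ.homEquiv _ _ (TrivBC.cmp adjρ adjα h K ≫ t)) := by
    have : (fun t : (DRing.restrictD φ').obj ((DRing.LBaseChange α).obj K) ⟶ N =>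
        adjρ.homEquiv _ _ (TrivBC.cmp adjρ adjα h K ≫ t)) =
        ((Coind.adj φ).homEquiv _ _).symm ∘ (fun v => v ≫ beta h N) ∘ (adjα.homEquiv _ _) ∘
          ((Coind.adj φ').homEquiv _ _) := by
      funext t
      exact homEquiv_cmp_comp adjρ adjα h K N t
    rw [this]
    have := hβ N
    refine (Equiv.bijective _).comp (Function.Bijective.comp ?_
      ((Equiv.bijective _).comp (Equiv.bijective _)))
    exact ⟨fun a b hab => (cancel_mono (beta h N)).1 hab,
      fun b => ⟨b ≫ inv (beta h N), by simp⟩⟩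
  exact (Function.Bijective.of_comp_iff' (adjρ.homEquiv _ _).bijective _).1 hb


/-- If `cmp` is an isomorphism on (objects isomorphic to) the shifts of `A`, all `beta` are
isomorphisms. -/
theorem isIso_beta_of_isIso_cmp (X : ℤ → Dual.D A) (σ : ∀ j, Sj A j ≅ X j)
    (hc : ∀ j, IsIso (TrivBC.cmp adjρ adjα h (X j))) (N : Dual.D R') :
    IsIso (beta (φ := φ) (α := α) h N) := by
  refine isIso_of_bijective_comp _ X σ (fun j => ?_)
  have := hc j
  have : (fun v : X j ⟶ (DRing.restrictD α).obj ((Rco φ').obj N) => v ≫ beta h N) =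
      ((Coind.adj φ).homEquiv _ _) ∘ (adjρ.homEquiv _ _) ∘
        (fun t => TrivBC.cmp adjρ adjα h (X j) ≫ t) ∘ ((Coind.adj φ').homEquiv _ _).symm ∘
          (adjα.homEquiv _ _).symm := by
    funext v
    dsimp only [Function.comp]
    rw [homEquiv_cmp_comp, Equiv.apply_symm_apply, Equiv.apply_symm_apply,
      Equiv.apply_symm_apply]
  rw [this]
  refine (Equiv.bijective _).comp ((Equiv.bijective _).comp (Function.Bijective.comp ?_
    ((Equiv.bijective _).comp (Equiv.bijective _))))
  exact ⟨fun a b hab => (cancel_epi (TrivBC.cmp adjρ adjα h (X j))).1 hab,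
    fun b => ⟨inv (TrivBC.cmp adjρ adjα h (X j)) ≫ b, by simp⟩⟩


section Uniq

variable {C D : Type*} [Category C] [Category D] {F : C ⥤ D} {G : D ⥤ C}

lemma homEquiv_symm_eq_of_adj (adj1 adj2 : F ⊣ G) {X : C} {Y : D} (f : X ⟶ G.obj Y) :
    (adj1.homEquiv X Y).symm f =
      (adj1.leftAdjointUniq adj2).hom.app X ≫ (adj2.homEquiv X Y).symm f := by
  rw [Adjunction.homEquiv_counit, Adjunction.homEquiv_counit,
    ← Adjunction.leftAdjointUniq_hom_app_counit adj1 adj2, NatTrans.naturality_assoc]

/-- Whether the adjunct of a map is an isomorphism does not depend on the adjunction. -/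
lemma isIso_homEquiv_symm_iff (adj1 adj2 : F ⊣ G) {X : C} {Y : D} (f : X ⟶ G.obj Y) :
    IsIso ((adj1.homEquiv X Y).symm f) ↔ IsIso ((adj2.homEquiv X Y).symm f) := by
  rw [homEquiv_symm_eq_of_adj adj1 adj2]
  constructor
  · intro hh
    exact IsIso.of_isIso_comp_left ((adj1.leftAdjointUniq adj2).hom.app X) _
  · intro hh
    infer_instance

end Uniq

/-- Changing the adjunctions changes `cmp` by isomorphisms. -/
lemma cmp_eq_of_adj (adjρ' : DRing.LBaseChange ρ ⊣ DRing.restrictD ρ)
    (adjα' : DRing.LBaseChange α ⊣ DRing.restrictD α) (K : Dual.D A) :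
    TrivBC.cmp (φ := φ) (φ' := φ') adjρ' adjα' h K =
      (adjρ'.leftAdjointUniq adjρ).hom.app _ ≫ TrivBC.cmp adjρ adjα h K ≫
        (DRing.restrictD φ').map ((adjα.leftAdjointUniq adjα').hom.app K) := by
  unfold TrivBC.cmp
  rw [← Adjunction.homEquiv_naturality_right_symm, ← homEquiv_symm_eq_of_adj]
  congr 1
  rw [← Adjunction.unit_leftAdjointUniq_hom_app adjα adjα', Functor.map_comp, Category.assoc,
    Category.assoc]
  congr 1
  exact ((resComm h).hom.naturality _)

lemma isIso_cmp_iff_of_adj (adjρ' : DRing.LBaseChange ρ ⊣ DRing.restrictD ρ)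
    (adjα' : DRing.LBaseChange α ⊣ DRing.restrictD α) (K : Dual.D A) :
    IsIso (TrivBC.cmp (φ := φ) (φ' := φ') adjρ' adjα' h K) ↔
      IsIso (TrivBC.cmp adjρ adjα h K) := by
  rw [cmp_eq_of_adj adjρ adjα h adjρ' adjα' K]
  constructor
  · intro hh
    have h1 := IsIso.of_isIso_comp_left ((adjρ'.leftAdjointUniq adjρ).hom.app _)
      (TrivBC.cmp adjρ adjα h K ≫
        (DRing.restrictD φ').map ((adjα.leftAdjointUniq adjα').hom.app K))
    exact IsIso.of_isIso_comp_right _
      ((DRing.restrictD φ').map ((adjα.leftAdjointUniq adjα').hom.app K))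
  · intro hh
    infer_instance

end Groth.Agent.Lib.Helper13.TI
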