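import Groth.Agent.Lib.Helper13.TorIndep1
import Groth.Agent.Lib.Helper13.DRingAdj

/-!
# Tor-independent base change: chain-level criterion
-/

set_option autoImplicit false
set_option linter.unusedSectionVars false

open CategoryTheory CategoryTheory.Limits

universe u

namespace Groth.Agent.Lib.Helper13.TI

open DerivedCategory Groth.Agent.Lib.Helper13.DR

attribute [local instance] HasDerivedCategory.standard

section CL

variable {B B' : Type u} [CommRing B] [CommRing B'] (φ : B →+* B') [DRing.HasLBaseChange φ]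

lemma LBaseChangeAdj_unit_app_Q (G : DRing.Cx B) :
    (LBaseChangeAdj φ).unit.app (Q.obj G) ≫ (DRing.restrictD φ).map ((αQ φ).app G) =
      Q.map ((adjC φ).unit.app G) ≫ (βQ φ).app ((extC φ).obj G) :=
  Adjunction.derivedη_fac_app (adjC φ)
    (HomologicalComplex.quasiIso (ModuleCat.{u} B) (ComplexShape.up ℤ)) (αQ φ) (βQ φ) G

/-- Chain-level criterion for an adjunct `L_φ(Q X) ⟶ Q Y` to be an isomorphism. -/
theorem isIso_adjunct_of_quasiIso (adj : DRing.LBaseChange φ ⊣ DRing.restrictD φ)
    {X : DRing.Cx B} {Y : DRing.Cx B'} (f : X ⟶ (resC φ).obj Y)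
    {G : DRing.Cx B} [G.IsKProjective] (p : G ⟶ X) [QuasiIso p]
    (hm : QuasiIso (((adjC φ).homEquiv G Y).symm (p ≫ f))) :
    IsIso ((adj.homEquiv _ _).symm (Q.map f ≫ (βQ φ).app Y)) := by
  rw [isIso_homEquiv_symm_iff adj (LBaseChangeAdj φ)]
  set m := ((adjC φ).homEquiv G Y).symm (p ≫ f) with hmdef
  have hpf : p ≫ f = (adjC φ).unit.app G ≫ (resC φ).map m := by
    have := (adjC φ).homEquiv_unit (f := m)
    rw [← this, hmdef, Equiv.apply_symm_apply]
  have key : (DRing.LBaseChange φ).map (Q.map p) ≫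
      ((LBaseChangeAdj φ).homEquiv _ _).symm (Q.map f ≫ (βQ φ).app Y) =
      (αQ φ).app G ≫ Q.map m := by
    rw [← Adjunction.homEquiv_naturality_left_symm, ← Category.assoc, ← Functor.map_comp, hpf,
      Equiv.symm_apply_eq, Adjunction.homEquiv_unit, Functor.map_comp, Functor.map_comp,
      ← Category.assoc, LBaseChangeAdj_unit_app_Q, Category.assoc, Category.assoc]
    congr 1
    exact (βQ φ).naturality m
  have h1 : IsIso ((αQ φ).app G) := isIso_αQ_app φ G
  have h2 : IsIso (Q.map m) := by
    rw [DerivedCategory.isIso_Q_map_iff_quasiIso]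
    exact hm
  have h3 : IsIso (Q.map p) := by
    rw [DerivedCategory.isIso_Q_map_iff_quasiIso]
    infer_instance
  have h4 : IsIso ((DRing.LBaseChange φ).map (Q.map p) ≫
      ((LBaseChangeAdj φ).homEquiv _ _).symm (Q.map f ≫ (βQ φ).app Y)) := by
    rw [key]
    infer_instance
  exact IsIso.of_isIso_comp_left ((DRing.LBaseChange φ).map (Q.map p)) _

end CL

end Groth.Agent.Lib.Helper13.TI
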