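import Groth.Agent.Lib.Helper13.TorIndep2

/-!
# Tor-independent base change: chain-level description of `cmp`
-/

set_option autoImplicit false
set_option linter.unusedSectionVars false

open CategoryTheory CategoryTheory.Limits

universe u

namespace Groth.Agent.Lib.Helper13.TI

open DerivedCategory Groth.Agent.Lib.Helper13.DR TrivBC

attribute [local instance] HasDerivedCategory.standard

variable {R A R' A' : Type u} [CommRing R] [CommRing A] [CommRing R'] [CommRing A']
  {φ : R →+* A} {ρ : R →+* R'} {α : A →+* A'} {φ' : R' →+* A'}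
  (h : α.comp φ = φ'.comp ρ)

/-- The chain-level commutation of restrictions. -/
noncomputable def kappa : resC α ⋙ resC φ ≅ resC φ' ⋙ resC ρ :=
  Functor.mapHomologicalComplexCompIso (resCommMod h) (ComplexShape.up ℤ) ≪≫
    (Functor.mapHomologicalComplexCompIso
      (Iso.refl (ModuleCat.restrictScalars.{u} φ' ⋙ ModuleCat.restrictScalars.{u} ρ))
      (ComplexShape.up ℤ)).symm

lemma resComm_hom_app_Q (Z : DRing.Cx A') :
    (resComm h).hom.app (Q.obj Z)
      = (DRing.restrictD φ).map ((ModuleCat.restrictScalars.{u} α).mapDerivedCategoryFactors.hom.app Z) ≫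
        (ModuleCat.restrictScalars.{u} φ).mapDerivedCategoryFactors.hom.app ((resC α).obj Z) ≫
        Q.map ((kappa h).hom.app Z) ≫ (βQ ρ).app ((resC φ').obj Z) ≫
          (DRing.restrictD ρ).map ((βQ φ').app Z) := by
  unfold resComm
  dsimp only [Localization.liftNatIso]
  rw [Localization.liftNatTrans_app]
  delta liftingRes₂
  simp [resCommCx, kappa, βQ]


variable [DRing.HasLBaseChange ρ] [DRing.HasLBaseChange α]

/-- The chain-level map whose adjunct computes `cmp`. -/
noncomputable def fF (F : DRing.Cx A) :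
    (resC φ).obj F ⟶ (resC ρ).obj ((resC φ').obj ((extC α).obj F)) :=
  (resC φ).map ((adjC α).unit.app F) ≫ (kappa h).hom.app ((extC α).obj F)

lemma trace (F : DRing.Cx A) :
    (βQ φ).app F ≫ ((DRing.restrictD φ).map ((LBaseChangeAdj α).unit.app (Q.obj F)) ≫
        (resComm h).hom.app ((DRing.LBaseChange α).obj (Q.obj F))) ≫
      (DRing.restrictD ρ).map ((DRing.restrictD φ').map ((αQ α).app F)) =
    (Q.map (fF h F) ≫ (βQ ρ).app ((resC φ').obj ((extC α).obj F))) ≫
      (DRing.restrictD ρ).map ((βQ φ').app ((extC α).obj F)) := by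
  have n1 := (resComm h).hom.naturality ((αQ α).app F)
  dsimp only [Functor.comp_obj, Functor.comp_map] at n1
  rw [Category.assoc, Category.assoc, ← n1, ← Functor.map_comp_assoc, LBaseChangeAdj_unit_app_Q,
    Functor.map_comp]
  have n2 := (βQ φ).naturality ((adjC α).unit.app F)
  dsimp only [Functor.comp_obj, Functor.comp_map] at n2
  rw [Category.assoc, ← reassoc_of% n2, resComm_hom_app_Q]
  simp [βQ, fF]


/-- Chain-level criterion for `cmp` to be an isomorphism on `Q F`, `F` K-projective. -/
theorem isIso_cmp_Q_of_quasiIso (adjρ : DRing.LBaseChange ρ ⊣ DRing.restrictD ρ)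
    (adjα : DRing.LBaseChange α ⊣ DRing.restrictD α) (F : DRing.Cx A) [F.IsKProjective]
    {G : DRing.Cx R} [G.IsKProjective] (p : G ⟶ (resC φ).obj F) [QuasiIso p]
    (hm : QuasiIso (((adjC ρ).homEquiv G _).symm (p ≫ fF h F))) :
    IsIso (TrivBC.cmp adjρ adjα h (Q.obj F)) := by
  rw [isIso_cmp_iff_of_adj adjρ (LBaseChangeAdj α) h adjρ adjα]
  have h1 := isIso_adjunct_of_quasiIso ρ adjρ (fF h F) p hm
  have h2 : IsIso ((αQ α).app F) := isIso_αQ_app α F
  have h3 : IsIso ((βQ φ).app F) := by unfold βQ; infer_instance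
  have h4 : IsIso ((βQ φ').app ((extC α).obj F)) := by unfold βQ; infer_instance
  have key : (DRing.LBaseChange ρ).map ((βQ φ).app F) ≫
      TrivBC.cmp adjρ (LBaseChangeAdj α) h (Q.obj F) ≫
        (DRing.restrictD φ').map ((αQ α).app F) =
      (adjρ.homEquiv _ _).symm (Q.map (fF h F) ≫ (βQ ρ).app _) ≫
        (βQ φ').app ((extC α).obj F) := by
    unfold TrivBC.cmp
    rw [← Adjunction.homEquiv_naturality_right_symm]
    refine ((adjρ.homEquiv_naturality_left_symm _ _).symm).trans ?_
    rw [← Adjunction.homEquiv_naturality_right_symm]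
    congr 1
    exact trace h F
  have h5 : IsIso ((DRing.LBaseChange ρ).map ((βQ φ).app F) ≫
      TrivBC.cmp adjρ (LBaseChangeAdj α) h (Q.obj F) ≫
        (DRing.restrictD φ').map ((αQ α).app F)) := by
    rw [key]
    infer_instance
  have h6 := IsIso.of_isIso_comp_left ((DRing.LBaseChange ρ).map ((βQ φ).app F))
    (TrivBC.cmp adjρ (LBaseChangeAdj α) h (Q.obj F) ≫ (DRing.restrictD φ').map ((αQ α).app F))
  exact IsIso.of_isIso_comp_right _ ((DRing.restrictD φ').map ((αQ α).app F))

end Groth.Agent.Lib.Helper13.TI
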