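import Groth.Agent.Lib.Helper13.TorIndep3
import Groth.Agent.Lib.Helper13.BaseChangeSq2

/-!
# Tor-independent base change: the pushout case
-/

set_option autoImplicit false
set_option linter.unusedSectionVars false

open CategoryTheory CategoryTheory.Limits TensorProduct

universe u

namespace Groth.Agent.Lib.Helper13.TI

open DerivedCategory Groth.Agent.Lib.Helper13.DR TrivBC Groth.Agent.Lib.Helper13.BS

attribute [local instance] HasDerivedCategory.standard

variable (R A R' A' : Type u) [CommRing R] [CommRing A] [Algebra R A] [CommRing R'] [Algebra R R']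
  [CommRing A'] [Algebra R A'] [Algebra A A'] [Algebra R' A'] [IsScalarTower R A A']
  [IsScalarTower R R' A'] [Algebra.IsPushout R R' A A']

lemma hsq : (algebraMap A A').comp (algebraMap R A) = (algebraMap R' A').comp (algebraMap R R') := by
  rw [← IsScalarTower.algebraMap_eq, ← IsScalarTower.algebraMap_eq]

variable [DRing.HasLBaseChange (algebraMap R R')] [DRing.HasLBaseChange (algebraMap A A')]

lemma mF_f (F : DRing.Cx A) (n : ℤ) :
    (((adjC (algebraMap R R')).homEquiv _ _).symm (fF (hsq R A R' A') F)).f n =
      (pbcIso R A R' A' (F.X n)).hom := by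
  rw [Adjunction.homEquiv_counit]
  apply ModuleCat.ExtendScalars.hom_ext
  intro m
  have h1 := pbcEquiv_one_tmul R A R' A' (F.X n) m
  refine Eq.trans ?_ h1.symm
  simp only [HomologicalComplex.comp_f, Kan.adjCx_counit_app_f, adjC,
    Functor.mapHomologicalComplex_map_f]
  change ((ModuleCat.extendRestrictScalarsAdj (algebraMap R R')).counit.app _).hom
    (((ModuleCat.extendScalars.{u, u, u} (algebraMap R R')).map
      ((fF (hsq R A R' A') F).f n)).hom ((1 : R') ⊗ₜ[R] m)) = _
  erw [ModuleCat.ExtendScalars.map_tmul,
    ModuleCat.extendRestrictScalarsAdj_counit_app_apply_one_tmul]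
  rfl


lemma isIso_mF (F : DRing.Cx A) :
    IsIso (((adjC (algebraMap R R')).homEquiv _ _).symm (fF (hsq R A R' A') F)) := by
  have : ∀ n, IsIso ((((adjC (algebraMap R R')).homEquiv _ _).symm
      (fF (hsq R A R' A') F)).f n) := by
    intro n
    rw [mF_f]
    infer_instance
  exact HomologicalComplex.Hom.isIso_of_components _

/-- For a pushout square, `cmp` is an isomorphism on `Q F` as soon as `F|_R` computes derived
base change to `R'`. -/
theorem isIso_cmp_Q_of_quasiIso_ext
    (adjρ : DRing.LBaseChange (algebraMap R R') ⊣ DRing.restrictD (algebraMap R R'))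
    (adjα : DRing.LBaseChange (algebraMap A A') ⊣ DRing.restrictD (algebraMap A A'))
    (F : DRing.Cx A) [F.IsKProjective]
    {G : DRing.Cx R} [G.IsKProjective] (p : G ⟶ (resC (algebraMap R A)).obj F) [QuasiIso p]
    (hq : QuasiIso ((extC (algebraMap R R')).map p)) :
    IsIso (TrivBC.cmp adjρ adjα (hsq R A R' A') (Q.obj F)) := by
  apply isIso_cmp_Q_of_quasiIso (hsq R A R' A') adjρ adjα F p
  rw [Adjunction.homEquiv_naturality_left_symm]
  have := isIso_mF R A R' A' F
  infer_instance

end Groth.Agent.Lib.Helper13.TI
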