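import Groth.Agent.Lib.Helper13.TorIndep4
import Groth.Agent.Lib.Helper13.TorBridge1
import Groth.Agent.Lib.Helper13.DRingTensorSES

/-!
# Tor-independent base change: the base case
-/

set_option autoImplicit false
set_option linter.unusedSectionVars false

open CategoryTheory CategoryTheory.Limits TensorProduct

universe u

namespace Groth.Agent.Lib.Helper13.TI

open DerivedCategory Groth.Agent.Lib.Helper13.DR TrivBC Groth.Agent.Lib.Helper13.BS

attribute [local instance] HasDerivedCategory.standard

section General

variable {C D : Type*} [Category C] [Category D] [Abelian C] [Abelian D]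
  (F : C ⥤ D) [F.Additive] [PreservesFiniteColimits F]

/-- A right exact functor preserves quasi-isomorphisms in degree `0` onto a single complex from
a complex concentrated in nonpositive degrees. -/
lemma quasiIsoAt_map_of_rightExact {K : CochainComplex C ℤ} {X : C}
    (π : K ⟶ (HomologicalComplex.single C (ComplexShape.up ℤ) 0).obj X)
    (hK : IsZero (K.X 1)) (hπ : QuasiIsoAt π 0) :
    QuasiIsoAt ((F.mapHomologicalComplex (ComplexShape.up ℤ)).map π) 0 := by
  have hg₁ : (K.sc' (-1) 0 1).g = 0 := hK.eq_of_tgt _ _
  have hf₂ : (((HomologicalComplex.single C (ComplexShape.up ℤ) 0).obj X).sc' (-1) 0 1).f = 0 :=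
    HomologicalComplex.single_obj_d (ComplexShape.up ℤ) 0 X _ _
  have hg₂ : (((HomologicalComplex.single C (ComplexShape.up ℤ) 0).obj X).sc' (-1) 0 1).g = 0 :=
    HomologicalComplex.single_obj_d (ComplexShape.up ℤ) 0 X _ _
  rw [quasiIsoAt_iff' _ (-1) 0 1 (by simp) (by simp),
    ShortComplex.quasiIso_iff_of_zeros' _ hg₁ hf₂ hg₂] at hπ
  have hg₁' : (((F.mapHomologicalComplex (ComplexShape.up ℤ)).obj K).sc' (-1) 0 1).g = 0 :=
    (F.map_isZero hK).eq_of_tgt _ _
  have hf₂' : (((F.mapHomologicalComplex (ComplexShape.up ℤ)).obj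
      ((HomologicalComplex.single C (ComplexShape.up ℤ) 0).obj X)).sc' (-1) 0 1).f = 0 := by
    change F.map _ = 0
    rw [HomologicalComplex.single_obj_d, F.map_zero]
  have hg₂' : (((F.mapHomologicalComplex (ComplexShape.up ℤ)).obj
      ((HomologicalComplex.single C (ComplexShape.up ℤ) 0).obj X)).sc' (-1) 0 1).g = 0 := by
    change F.map _ = 0
    rw [HomologicalComplex.single_obj_d, F.map_zero]
  rw [quasiIsoAt_iff' _ (-1) 0 1 (by simp) (by simp),
    ShortComplex.quasiIso_iff_of_zeros' _ hg₁' hf₂' hg₂']
  have := hπ.2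
  have hF : PreservesFiniteColimits F := inferInstance
  have h31 : PreservesFiniteColimits F → ∀ (S : ShortComplex C), S.Exact ∧ Epi S.g →
      (S.map F).Exact ∧ Epi (F.map S.g) := ((Functor.preservesFiniteColimits_tfae F).out 3 1).1
  exact h31 hF _ hπ

end General


section Base

variable (R A R' : Type u) [CommRing R] [CommRing A] [Algebra R A] [CommRing R'] [Algebra R R']

/-- `A` as an `R`-module, by restriction of scalars. -/
noncomputable abbrev MA : ModuleCat.{u} R :=
  (ModuleCat.restrictScalars.{u} (algebraMap R A)).obj (ModuleCat.of A A)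

/-- The identification of the two `R`-module structures on `A`. -/
noncomputable def eMA : ModuleCat.of R A ≅ MA R A :=
  let e : (ModuleCat.of R A) ≃ₗ[R] (MA R A) :=
    { toFun := fun a => a
      invFun := fun a => a
      map_add' := fun _ _ => rfl
      map_smul' := fun r a => Algebra.smul_def r a
      left_inv := fun _ => rfl
      right_inv := fun _ => rfl }
  e.toModuleIso

/-- `A[0]` as a complex of `A`-modules. -/
noncomputable abbrev F₀ : DRing.Cx A :=
  (HomologicalComplex.single (ModuleCat.{u} A) (ComplexShape.up ℤ) 0).obj (ModuleCat.of A A)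

/-- A projective resolution of `A` over `R`. -/
noncomputable abbrev PA : ProjectiveResolution (MA R A) := projectiveResolution (MA R A)

/-- `res(A[0]) ≅ A_R[0]`. -/
noncomputable def sIso : (resC (algebraMap R A)).obj (F₀ A) ≅
    (CochainComplex.singleFunctor (ModuleCat.{u} R) 0).obj (MA R A) :=
  (HomologicalComplex.singleMapHomologicalComplex
    (ModuleCat.restrictScalars.{u} (algebraMap R A)) (ComplexShape.up ℤ) 0).app (ModuleCat.of A A)

/-- The resolution map. -/
noncomputable def p₀ : (PA R A).cochainComplex ⟶ (resC (algebraMap R A)).obj (F₀ A) :=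
  (PA R A).π' ≫ (sIso R A).inv

instance : QuasiIso (p₀ R A) := by
  unfold p₀
  infer_instance

instance : PreservesFiniteColimits (ModuleCat.extendScalars.{u, u, u} (algebraMap R R')) := by
  have : (ModuleCat.extendScalars.{u, u, u} (algebraMap R R')).IsLeftAdjoint :=
    (ModuleCat.extendRestrictScalarsAdj.{u, u, u} (algebraMap R R')).isLeftAdjoint
  infer_instance

theorem quasiIso_ext_π' (htor : ∀ p : ℕ, 1 ≤ p → Subsingleton (DRing.Tor R p A R')) :
    QuasiIso ((extC (algebraMap R R')).map (PA R A).π') := by
  rw [quasiIso_iff]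
  intro n
  by_cases hn : n = 0
  · subst hn
    have hq : QuasiIso (PA R A).π' := inferInstance
    exact quasiIsoAt_map_of_rightExact _ _ (TB.isZero_cochainComplex_X _ 1 (by norm_num))
      (hq.quasiIsoAt 0)
  · have hL : ((extC (algebraMap R R')).obj
        ((CochainComplex.singleFunctor (ModuleCat.{u} R) 0).obj (MA R A))).ExactAt n := by
      apply ShortComplex.exact_of_isZero_X₂
      exact Functor.map_isZero (ModuleCat.extendScalars.{u, u, u} (algebraMap R R'))
        (HomologicalComplex.isZero_single_obj_X (ComplexShape.up ℤ) 0 (MA R A) n hn)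
    rw [quasiIsoAt_iff_exactAt' _ _ hL]
    rcases lt_or_gt_of_ne hn with h | h
    · obtain ⟨p, hp⟩ : ∃ p : ℕ, -(p : ℤ) = n := ⟨(-n).toNat, by omega⟩
      have hp1 : 1 ≤ p := by omega
      obtain ⟨e⟩ := TB.nonempty_tor_iso_homology_cochain (PA R A) (ModuleCat.of R R') p n hp
      have h0 : IsZero (((Tor (ModuleCat.{u} R) p).obj (MA R A)).obj (ModuleCat.of R R')) := by
        have := htor p hp1
        exact IsZero.of_iso (ModuleCat.isZero_of_subsingleton _)
          (((Tor (ModuleCat.{u} R) p).mapIso (eMA R A)).app (ModuleCat.of R R')).symm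
      have h1 : ((tensorCx (ModuleCat.of R R')).obj (PA R A).cochainComplex).ExactAt n := by
        rw [HomologicalComplex.exactAt_iff_isZero_homology]
        exact IsZero.of_iso h0 e.symm
      exact (exactAt_tensorCx_iff_exactAt_extendCx R R' _ n).1 h1
    · apply ShortComplex.exact_of_isZero_X₂
      exact Functor.map_isZero (ModuleCat.extendScalars.{u, u, u} (algebraMap R R'))
        (TB.isZero_cochainComplex_X (PA R A) n h)

end Base

end Groth.Agent.Lib.Helper13.TI
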