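import Groth.Agent.Lib.Helper13.TorIndep5

/-!
# Tor-independent base change: main theorems
-/

set_option autoImplicit false
set_option linter.unusedSectionVars false

open CategoryTheory CategoryTheory.Limits TensorProduct

universe u

namespace Groth.Agent.Lib.Helper13.TI

open DerivedCategory Groth.Agent.Lib.Helper13.DR TrivBC Groth.Agent.Lib.Helper13.BS
  Groth.Agent.Lib.Helper13.Coind Groth.Agent.Lib.Helper13.FC Groth.Agent.Lib.Helper13.PC

attribute [local instance] HasDerivedCategory.standard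

section Shift

variable {R A R' : Type u} [CommRing R] [CommRing A] [CommRing R'] (φ : R →+* A) (ρ : R →+* R')

/-- The shifted resolution map. -/
noncomputable def pShift {F : DRing.Cx A} {G : DRing.Cx R} (p : G ⟶ (resC φ).obj F) (k : ℤ) :
    G⟦k⟧ ⟶ (resC φ).obj (F⟦k⟧) :=
  p⟦k⟧' ≫ ((resC φ).commShiftIso k).inv.app F

instance {F : DRing.Cx A} {G : DRing.Cx R} (p : G ⟶ (resC φ).obj F) [QuasiIso p] (k : ℤ) :
    QuasiIso (pShift φ p k) := by
  unfold pShift
  have : QuasiIso (p⟦k⟧') := (CochainComplex.quasiIso_shift_iff p k).2 inferInstance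
  infer_instance

lemma quasiIso_ext_pShift {F : DRing.Cx A} {G : DRing.Cx R} (p : G ⟶ (resC φ).obj F) (k : ℤ)
    (hq : QuasiIso ((extC ρ).map p)) : QuasiIso ((extC ρ).map (pShift φ p k)) := by
  unfold pShift
  rw [Functor.map_comp]
  have h1 : QuasiIso (((extC ρ).map p)⟦k⟧') := (CochainComplex.quasiIso_shift_iff _ k).2 hq
  have nat := ((extC ρ).commShiftIso k).hom.naturality p
  dsimp only [Functor.comp_map] at nat
  have h2 : QuasiIso ((extC ρ).map (p⟦k⟧') ≫ ((extC ρ).commShiftIso k).hom.app _) := by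
    rw [nat]
    infer_instance
  have h3 : QuasiIso ((extC ρ).map (p⟦k⟧')) := by
    have := quasiIso_of_comp_right ((extC ρ).map (p⟦k⟧')) (((extC ρ).commShiftIso k).hom.app _)
    exact this
  infer_instance

end Shift


section Main

variable (R A R' A' : Type u) [CommRing R] [CommRing A] [Algebra R A] [CommRing R'] [Algebra R R']
  [CommRing A'] [Algebra R A'] [Algebra A A'] [Algebra R' A'] [IsScalarTower R A A']
  [IsScalarTower R R' A'] [Algebra.IsPushout R R' A A']
  [DRing.HasLBaseChange (algebraMap R R')] [DRing.HasLBaseChange (algebraMap A A')]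

/-- `A[-j] ≅ Q(A[0]⟦-j⟧)`. -/
noncomputable def σ (j : ℤ) : Sj A j ≅ Q.obj ((F₀ A)⟦-j⟧) :=
  ((DerivedCategory.singleFunctors (ModuleCat.{u} A)).shiftIso (-j) j 0 (by omega)).symm.app
      (ModuleCat.of A A) ≪≫
    ((Q.commShiftIso (-j)).app (F₀ A)).symm

/-- **Tor-independent base change**: the comparison map is an isomorphism on shifts of `A`. -/
theorem isIso_cmp_shift (htor : ∀ p : ℕ, 1 ≤ p → Subsingleton (DRing.Tor R p A R'))
    (adjρ : DRing.LBaseChange (algebraMap R R') ⊣ DRing.restrictD (algebraMap R R'))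
    (adjα : DRing.LBaseChange (algebraMap A A') ⊣ DRing.restrictD (algebraMap A A')) (k : ℤ) :
    IsIso (TrivBC.cmp adjρ adjα (hsq R A R' A') (Q.obj ((F₀ A)⟦k⟧))) := by
  refine isIso_cmp_Q_of_quasiIso_ext R A R' A' adjρ adjα ((F₀ A)⟦k⟧)
    (pShift (algebraMap R A) (p₀ R A) k) ?_
  apply quasiIso_ext_pShift
  unfold p₀
  rw [Functor.map_comp]
  have := quasiIso_ext_π' R A R' htor
  infer_instance

/-- **Tor-independent base change for derived coinduction**. -/
theorem isIso_beta (htor : ∀ p : ℕ, 1 ≤ p → Subsingleton (DRing.Tor R p A R')) (N : Dual.D R') :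
    IsIso (beta (φ := algebraMap R A) (α := algebraMap A A') (hsq R A R' A') N) :=
  isIso_beta_of_isIso_cmp (LBaseChangeAdj _) (LBaseChangeAdj _) (hsq R A R' A')
    (fun j => Q.obj ((F₀ A)⟦-j⟧)) (σ A)
    (fun j => isIso_cmp_shift R A R' A' htor _ _ (-j)) N

/-- **Tor-independent base change**. -/
theorem isIso_cmp (htor : ∀ p : ℕ, 1 ≤ p → Subsingleton (DRing.Tor R p A R'))
    (adjρ : DRing.LBaseChange (algebraMap R R') ⊣ DRing.restrictD (algebraMap R R'))
    (adjα : DRing.LBaseChange (algebraMap A A') ⊣ DRing.restrictD (algebraMap A A'))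
    (h : (algebraMap A A').comp (algebraMap R A) = (algebraMap R' A').comp (algebraMap R R'))
    (K : Dual.D A) : IsIso (TrivBC.cmp adjρ adjα h K) :=
  isIso_cmp_of_isIso_beta adjρ adjα h (fun N => isIso_beta R A R' A' htor N) K

end Main

end Groth.Agent.Lib.Helper13.TI
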