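import Groth.Agent.Lib.Helper13.TorIndep8

/-!
# Tor-independence over a polynomial ring from Tor-independence over the base
-/

set_option autoImplicit false
set_option linter.unusedSectionVars false
set_option linter.style.haveILetI false

open CategoryTheory CategoryTheory.Limits TensorProduct

universe u

namespace Groth.Agent.Lib.Helper13.TI

open DerivedCategory Groth.Agent.Lib.Helper13.DR Groth.Agent.Lib.Helper13.BS
  Groth.Agent.Lib.Helper13.PC
open CochainComplex HomologicalComplex

attribute [local instance] HasDerivedCategory.standard

section Square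

variable (R P k P' : Type u) [CommRing R] [CommRing P] [Algebra R P] [CommRing k] [Algebra R k]
  [CommRing P'] [Algebra R P'] [Algebra P P'] [Algebra k P'] [IsScalarTower R P P']
  [IsScalarTower R k P'] [Algebra.IsPushout R k P P']

/-- `A` as an `R`-module in two ways. -/
noncomputable def eRPA (A : Type u) [CommRing A] [Algebra P A] [Algebra R A]
    [IsScalarTower R P A] :
    (ModuleCat.restrictScalars.{u} (algebraMap R P)).obj (MA P A) ≅ MA R A :=
  let e : ((ModuleCat.restrictScalars.{u} (algebraMap R P)).obj (MA P A)) ≃ₗ[R] (MA R A) :=
    { toFun := fun a => a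
      invFun := fun a => a
      map_add' := fun _ _ => rfl
      map_smul' := fun r a => by
        change algebraMap P A (algebraMap R P r) * (show A from a) =
          algebraMap R A r * (show A from a)
        rw [← IsScalarTower.algebraMap_apply]
      left_inv := fun _ => rfl
      right_inv := fun _ => rfl }
  e.toModuleIso

include k in
/-- Tor-independence of `A` and `P' = P ⊗_R k` over `P`, when `P` is flat over `R` and `A`, `k`
are Tor-independent over `R`. -/
theorem quasiIso_ext_π'_of_tor (A : Type u) [CommRing A] [Algebra P A] [Algebra R A]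
    [IsScalarTower R P A] [Module.Flat R P]
    (htor : ∀ p : ℕ, 1 ≤ p → Subsingleton (DRing.Tor R p A k)) :
    QuasiIso ((extC (algebraMap P P')).map (PA P A).π') := by
  rw [quasiIso_iff]
  intro n
  by_cases hn : n = 0
  · subst hn
    have hq : QuasiIso (PA P A).π' := inferInstance
    exact quasiIsoAt_map_of_rightExact _ _ (TB.isZero_cochainComplex_X _ 1 (by norm_num))
      (hq.quasiIsoAt 0)
  · have hL : ((extC (algebraMap P P')).obj
        ((CochainComplex.singleFunctor (ModuleCat.{u} P) 0).obj (MA P A))).ExactAt n := by
      apply ShortComplex.exact_of_isZero_X₂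
      exact Functor.map_isZero (ModuleCat.extendScalars.{u, u, u} (algebraMap P P'))
        (HomologicalComplex.isZero_single_obj_X (ComplexShape.up ℤ) 0 (MA P A) n hn)
    rw [quasiIsoAt_iff_exactAt' _ _ hL]
    rcases lt_or_gt_of_ne hn with h | h
    · let F := (PA P A).cochainComplex
      let FR := (DRing.restrictCx (algebraMap R P)).obj F
      let G := (PA R A).cochainComplex
      -- the augmentation of `FR`
      let eρ : (DRing.restrictCx (algebraMap R P)).obj
          ((CochainComplex.singleFunctor (ModuleCat.{u} P) 0).obj (MA P A)) ≅
          (CochainComplex.singleFunctor (ModuleCat.{u} R) 0).obj (MA R A) :=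
        (HomologicalComplex.singleMapHomologicalComplex
            (ModuleCat.restrictScalars.{u} (algebraMap R P)) (ComplexShape.up ℤ) 0).app (MA P A) ≪≫
          (CochainComplex.singleFunctor (ModuleCat.{u} R) 0).mapIso (eRPA R P A)
      let ρ : FR ⟶ (CochainComplex.singleFunctor (ModuleCat.{u} R) 0).obj (MA R A) :=
        (DRing.restrictCx (algebraMap R P)).map (PA P A).π' ≫ eρ.hom
      have h1 : QuasiIso ((DRing.restrictCx (algebraMap R P)).map (PA P A).π') :=
        (HomologicalComplex.quasiIso_map_iff_of_preservesHomology (PA P A).π'
          (ModuleCat.restrictScalars.{u} (algebraMap R P))).2 inferInstance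
      have hρ' : IsIso (Q.map ρ) := by
        have i1 : IsIso (Q.map ((DRing.restrictCx (algebraMap R P)).map (PA P A).π')) := by
          rw [isIso_Q_map_iff_quasiIso]; exact h1
        have i2 : IsIso (Q.map eρ.hom) := inferInstance
        change IsIso (Q.map (_ ≫ _))
        rw [Functor.map_comp]
        exact @IsIso.comp_isIso _ _ _ _ _ _ _ i1 i2
      have hzG : ∀ i : ℤ, 0 < i → IsZero (G.X i) := fun i hi =>
        TB.isZero_cochainComplex_X (PA R A) i hi
      have hGproj : G.IsKProjective :=
        isKProjective_of_forall_projective G 0 hzG (fun i => inferInstance)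
      have : IsIso (Q.map (PA R A).π') := by rw [isIso_Q_map_iff_quasiIso]; infer_instance
      obtain ⟨g, hg⟩ := exists_Q_map_eq (K := G) (L := FR) (Q.map (PA R A).π' ≫ inv (Q.map ρ))
      have hgq : QuasiIso g := by
        rw [← isIso_Q_map_iff_quasiIso, hg]
        infer_instance
      have hzFR : ∀ i : ℤ, 0 < i → IsZero (FR.X i) := fun i hi =>
        Functor.map_isZero (ModuleCat.restrictScalars.{u} (algebraMap R P))
          (TB.isZero_cochainComplex_X (PA P A) i hi)
      have hflG : ∀ i : ℤ, Module.Flat R (G.X i) := fun i => TB.flat_cochainComplex_X (PA R A) i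
      have hflFR : ∀ i : ℤ, Module.Flat R (FR.X i) := fun i => by
        have := TB.flat_cochainComplex_X (PA P A) i
        exact Groth.Agent.Lib.Helper13.DV.flat_restrictScalars R P _
      have hq2 : QuasiIso ((extendCx R k).map g) :=
        quasiIso_extendCx_map k g 0 hzG hzFR hflG hflFR
      -- vanishing for `G`
      obtain ⟨p, hp⟩ : ∃ p : ℕ, -(p : ℤ) = n := ⟨(-n).toNat, by omega⟩
      have hp1 : 1 ≤ p := by omega
      obtain ⟨e⟩ := TB.nonempty_tor_iso_homology_cochain (PA R A) (ModuleCat.of R k) p n hp
      have h0 : IsZero (((Tor (ModuleCat.{u} R) p).obj (MA R A)).obj (ModuleCat.of R k)) := by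
        have := htor p hp1
        exact IsZero.of_iso (ModuleCat.isZero_of_subsingleton _)
          (((Tor (ModuleCat.{u} R) p).mapIso (eMA R A)).app (ModuleCat.of R k)).symm
      have h2 : ((tensorCx (ModuleCat.of R k)).obj G).ExactAt n := by
        rw [HomologicalComplex.exactAt_iff_isZero_homology]
        exact IsZero.of_iso h0 e.symm
      have h3 : ((extendCx R k).obj G).ExactAt n :=
        (exactAt_tensorCx_iff_exactAt_extendCx R k _ n).1 h2
      have h4 : IsZero (((extendCx R k).obj FR).homology n) := by
        rw [← isZero_homology_of_quasiIso ((extendCx R k).map g) n]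
        exact h3.isZero_homology
      have h5 : IsZero (((DRing.restrictCx (algebraMap k P')).obj
          ((extendCx P P').obj F)).homology n) :=
        h4.of_iso ((HomologicalComplex.homologyFunctor _ _ n).mapIso (pbcCxIso R P k P' F).symm)
      have h6 : IsZero (((extendCx P P').obj F).homology n) :=
        isZero_of_isZero_restrictScalars (algebraMap k P') _
          (h5.of_iso (restrictCxHomologyIso (algebraMap k P') _ n).symm)
      rw [HomologicalComplex.exactAt_iff_isZero_homology]
      exact h6
    · apply ShortComplex.exact_of_isZero_X₂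
      exact Functor.map_isZero (ModuleCat.extendScalars.{u, u, u} (algebraMap P P'))
        (TB.isZero_cochainComplex_X (PA P A) n h)

end Square

end Groth.Agent.Lib.Helper13.TI
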