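import Mathlib.RingTheory.Trace.Basic
import Mathlib.RingTheory.Unramified.Finite
import Mathlib.RingTheory.Smooth.Fiber
import Mathlib.RingTheory.Etale.Basic
import Mathlib.RingTheory.Finiteness.ModuleFinitePresentation
import Mathlib.LinearAlgebra.Dual.Basis
import Mathlib.RingTheory.OrzechProperty

set_option autoImplicit false

namespace Groth.Agent.Lib.Helper13

open TensorProduct Module

section

variable {A B : Type*} [CommRing A] [CommRing B] [Algebra A B]
variable {ι : Type*} [Fintype ι] [DecidableEq ι] (b : Basis ι A B)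

omit [DecidableEq ι] in
/-- The trace is the sum of the diagonal coefficients. -/
theorem trace_eq_sum_coord (x : B) :
    Algebra.trace A B x = ∑ i, b.coord i (x * b i) := by
  classical
  rw [Algebra.trace_eq_matrix_trace b, Matrix.trace]
  simp only [Matrix.diag_apply, Algebra.leftMulMatrix_eq_repr_mul, Basis.coord_apply]

omit [DecidableEq ι] in
include b in
/-- If the trace form is bijective then `B` is formally unramified over `A`. -/
theorem formallyUnramified_of_bijective_traceForm
    (hbij : Function.Bijective (Algebra.traceForm A B)) :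
    Algebra.FormallyUnramified A B := by
  have : Module.Finite A B := Module.Finite.of_basis b
  let Φ : B ≃ₗ[A] Module.Dual A B := LinearEquiv.ofBijective (Algebra.traceForm A B) hbij
  have hΦ : ∀ x y, Φ x y = Algebra.trace A B (x * y) := fun x y => rfl
  let c : ι → B := fun i => Φ.symm (b.coord i)
  have hc : ∀ i x, Algebra.trace A B (c i * x) = b.coord i x := by
    intro i x
    rw [← hΦ, LinearEquiv.apply_symm_apply]
  -- (F1)
  have F1 : ∀ x : B, x = ∑ i, Algebra.trace A B (c i * x) • b i := by
    intro x
    conv_lhs => rw [← b.sum_repr x]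
    simp only [hc, Basis.coord_apply]
  -- (F2)
  have F2 : ∀ y : B, y = ∑ i, Algebra.trace A B (y * b i) • c i := by
    intro y
    apply Φ.injective
    rw [map_sum]
    simp only [map_smul, c, LinearEquiv.apply_symm_apply]
    conv_lhs => rw [← b.sum_dual_apply_smul_coord (Φ y)]
    simp only [hΦ]
  rw [Algebra.FormallyUnramified.iff_exists_tensorProduct]
  refine ⟨∑ i, b i ⊗ₜ[A] c i, ?_, ?_⟩
  · intro s
    rw [sub_mul, sub_eq_zero, Finset.mul_sum, Finset.mul_sum]
    simp only [Algebra.TensorProduct.tmul_mul_tmul, one_mul]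
    -- LHS: ∑ i, b i ⊗ (s * c i); RHS: ∑ i, (s * b i) ⊗ c i
    calc ∑ i, b i ⊗ₜ[A] (s * c i)
        = ∑ i, b i ⊗ₜ[A] (∑ j, Algebra.trace A B (s * c i * b j) • c j) := by
          congr 1; ext i; rw [← F2 (s * c i)]
      _ = ∑ i, ∑ j, Algebra.trace A B (s * c i * b j) • (b i ⊗ₜ[A] c j) := by
          congr 1; ext i; rw [TensorProduct.tmul_sum]; simp only [TensorProduct.tmul_smul]
      _ = ∑ j, ∑ i, Algebra.trace A B (c i * (s * b j)) • (b i ⊗ₜ[A] c j) := by
          rw [Finset.sum_comm]
          congr 1; ext j; congr 1; ext i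
          congr 2; ring
      _ = ∑ j, (∑ i, Algebra.trace A B (c i * (s * b j)) • b i) ⊗ₜ[A] c j := by
          congr 1; ext j; rw [TensorProduct.sum_tmul]; simp only [TensorProduct.smul_tmul']
      _ = ∑ j, (s * b j) ⊗ₜ[A] c j := by
          congr 1; ext j; rw [← F1 (s * b j)]
  · rw [map_sum]
    simp only [Algebra.TensorProduct.lmul'_apply_tmul]
    apply Φ.injective
    ext x
    rw [hΦ, hΦ, one_mul, trace_eq_sum_coord b x, Finset.sum_mul, map_sum]
    congr 1; ext i
    rw [← hc, mul_assoc, mul_comm (b i) (c i * x), ← mul_assoc]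

include b in
/-- If `B` is formally unramified and finite free over `A`, the trace form is bijective. -/
theorem bijective_traceForm_of_formallyUnramified [Algebra.FormallyUnramified A B] :
    Function.Bijective (Algebra.traceForm A B) := by
  have : Module.Finite A B := Module.Finite.of_basis b
  obtain ⟨t, ht1, ht2⟩ := Algebra.FormallyUnramified.iff_exists_tensorProduct.mp
    (inferInstance : Algebra.FormallyUnramified A B)
  -- write `t = ∑ a i ⊗ b i`
  obtain ⟨a, rfl⟩ : ∃ a : ι → B, t = ∑ i, a i ⊗ₜ[A] b i := by
    let b' := ((Basis.singleton PUnit.{1} B).tensorProduct b).reindex (Equiv.punitProd ι)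
    refine ⟨fun i => b'.repr t i, ?_⟩
    conv_lhs => rw [← b'.sum_repr t]
    congr 1; ext i
    simp [b', Basis.tensorProduct, TensorProduct.smul_tmul']
  have hsurj : Function.Surjective (Algebra.traceForm A B) := by
    intro f
    refine ⟨∑ i, f (a i) • b i, ?_⟩
    ext s
    rw [Algebra.traceForm_apply, trace_eq_sum_coord b]
    -- for each j apply `f ⊗ coord j` to relation (2) for `s * b j`
    have key : ∀ j, b.coord j ((∑ i, f (a i) • b i) * s * b j) = f (s * b j * a j) := by
      intro j
      let ψ : B ⊗[A] B →ₗ[A] A :=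
        (TensorProduct.lid A A).toLinearMap ∘ₗ TensorProduct.map f (b.coord j)
      have hψ : ∀ x y, ψ (x ⊗ₜ y) = f x * b.coord j y := fun x y => by simp [ψ]
      have h := ht1 (s * b j)
      rw [sub_mul, sub_eq_zero, Finset.mul_sum, Finset.mul_sum] at h
      simp only [Algebra.TensorProduct.tmul_mul_tmul, one_mul] at h
      have h' := congrArg ψ h
      simp only [map_sum, hψ] at h'
      rw [Finset.sum_mul, Finset.sum_mul, map_sum]
      calc ∑ i, b.coord j (f (a i) • b i * s * b j)
          = ∑ i, f (a i) * b.coord j (s * b j * b i) := by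
            congr 1; ext i
            rw [smul_mul_assoc, smul_mul_assoc, map_smul, smul_eq_mul]
            congr 2; ring
        _ = ∑ i, f (s * b j * a i) * b.coord j (b i) := h'
        _ = f (s * b j * a j) := by
            simp [Basis.coord_apply, Finsupp.single_apply]
    simp only [key]
    rw [← map_sum]
    have h2 : ∑ i, a i * b i = 1 := by simpa using ht2
    rw [show ∑ j, s * b j * a j = s * ∑ j, a j * b j by
      rw [Finset.mul_sum]; congr 1; ext j; ring, h2, mul_one]
  refine ⟨?_, hsurj⟩
  have h3 : Function.Surjective ((b.toDualEquiv.symm.toLinearMap) ∘ₗ (Algebra.traceForm A B)) :=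
    b.toDualEquiv.symm.surjective.comp hsurj
  have h4 := OrzechProperty.injective_of_surjective_endomorphism _ h3
  exact Function.Injective.of_comp h4

end

end Groth.Agent.Lib.Helper13
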