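import Mathlib.Algebra.Homology.DerivedCategory.TStructure
import Mathlib.Algebra.Homology.DerivedCategory.HomologySequence
import Mathlib.CategoryTheory.Triangulated.TStructure.TruncLTGE

set_option autoImplicit false
universe w v u
open CategoryTheory CategoryTheory.Limits CategoryTheory.Pretriangulated

namespace Groth.Agent.Lib.Helper13.TG

open DerivedCategory

variable {C : Type u} [Category.{v} C] [Abelian C] [HasDerivedCategory.{w} C]

variable (C) in
/-- The canonical t-structure. -/
noncomputable abbrev tS : Triangulated.TStructure (DerivedCategory C) := DerivedCategory.TStructure.t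

/-- `H^i(τ_{≥ n} X) = 0` when `H^i(X) = 0` and `i ≥ n`. -/
lemma isZero_homology_truncGE (X : DerivedCategory C) (n i : ℤ) (hi : n ≤ i)
    (h : IsZero ((homologyFunctor C i).obj X)) :
    IsZero ((homologyFunctor C i).obj (((tS C).truncGE n).obj X)) := by
  have hT := (tS C).triangleLTGE_distinguished n X
  have hex := HomologySequence.exact₃ _ hT i (i + 1) rfl
  have h1 : IsZero ((homologyFunctor C (i + 1)).obj (((tS C).triangleLTGE n).obj X).obj₁) := by
    have : (((tS C).triangleLTGE n).obj X).obj₁.IsLE (n - 1) := by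
      infer_instance
    exact isZero_of_isLE _ (n - 1) (i + 1) (by lia)
  exact hex.isZero_X₂ (h.eq_of_src _ _) (h1.eq_of_tgt _ _)

lemma isGE_truncGE_of_gap (X : DerivedCategory C) (n m : ℤ)
    (h : ∀ i : ℤ, n ≤ i → i < m → IsZero ((homologyFunctor C i).obj X)) :
    (((tS C).truncGE n).obj X).IsGE m := by
  rw [isGE_iff]
  intro i hi
  by_cases hni : n ≤ i
  · exact isZero_homology_truncGE X n i hni (h i hni hi)
  · exact isZero_of_isGE _ n i (by lia)

lemma isIso_natTransTruncGEOfLE_app (X : DerivedCategory C) (n m : ℤ) (hnm : n ≤ m)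
    (h : ∀ i : ℤ, n ≤ i → i < m → IsZero ((homologyFunctor C i).obj X)) :
    IsIso (((tS C).natTransTruncGEOfLE n m hnm).app X) := by
  have hY : (((tS C).truncGE n).obj X).IsGE m := isGE_truncGE_of_gap X n m h
  have hiso : IsIso (((tS C).truncGEπ m).app (((tS C).truncGE n).obj X)) := inferInstance
  let θ := ((tS C).natTransTruncGEOfLE n m hnm).app X
  let θ' : ((tS C).truncGE m).obj X ⟶ ((tS C).truncGE n).obj X :=
    ((tS C).truncGE m).map (((tS C).truncGEπ n).app X) ≫ inv (((tS C).truncGEπ m).app (((tS C).truncGE n).obj X))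
  have hnat : ((tS C).truncGEπ m).app X ≫ ((tS C).truncGE m).map (((tS C).truncGEπ n).app X) =
      ((tS C).truncGEπ n).app X ≫ ((tS C).truncGEπ m).app (((tS C).truncGE n).obj X) :=
    (((tS C).truncGEπ m).naturality (((tS C).truncGEπ n).app X)).symm
  have e1 : ((tS C).truncGEπ n).app X ≫ θ = ((tS C).truncGEπ m).app X :=
    (tS C).π_natTransTruncGEOfLE_app n m hnm X
  have h1 : θ ≫ θ' = 𝟙 _ := by
    have : (((tS C).truncGE n).obj X).IsGE n := inferInstance
    apply (tS C).from_truncGE_obj_ext
    rw [reassoc_of% e1]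
    dsimp only [θ']
    rw [reassoc_of% hnat, IsIso.hom_inv_id, Category.comp_id]
  have h2 : θ' ≫ θ = 𝟙 _ := by
    apply (tS C).from_truncGE_obj_ext
    dsimp only [θ']
    rw [Category.assoc, reassoc_of% hnat, IsIso.hom_inv_id_assoc, e1, Category.comp_id]
  exact ⟨θ', h1, h2⟩

end Groth.Agent.Lib.Helper13.TG
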