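import Groth.Agent.Lib.Helper13.WayOut1
import Groth.Agent.Lib.Helper28.KFlatAbs4

/-!
# The stupid truncation short exact sequence `σ_{≥ m} E ⟶ E ⟶ σ_{< m} E`
-/

set_option autoImplicit false
universe u
open CategoryTheory CategoryTheory.Limits MonoidalCategory Pretriangulated

namespace Groth.Agent.Lib.Helper13.DV

open Groth.Agent.Lib.Helper28.KFlatAbs

attribute [local instance] HasDerivedCategory.standard

variable {A : Type u} [CommRing A] (E : DRing.Cx A) (m : ℤ)

instance mono_truncInc : Mono (truncInc E m) := by
  apply HomologicalComplex.mono_of_mono_f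
  intro n
  by_cases h : m ≤ n
  · have := isIso_truncInc_f E m n h
    infer_instance
  · exact ⟨fun _ _ _ => (isZero_truncX E m n h).eq_of_tgt _ _⟩

/-- The short complex `σ_{≥ m} E ⟶ E ⟶ σ_{< m} E`. -/
noncomputable def truncShortComplex : ShortComplex (DRing.Cx A) :=
  ShortComplex.mk (truncInc E m) (cokernel.π (truncInc E m)) (cokernel.condition _)

lemma shortExact_truncShortComplex : (truncShortComplex E m).ShortExact :=
  ShortComplex.ShortExact.mk' (ShortComplex.exact_cokernel _) (mono_truncInc E m)
    (inferInstanceAs (Epi (cokernel.π (truncInc E m))))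

lemma shortExact_truncShortComplex_eval (n : ℤ) :
    ((truncShortComplex E m).map (HomologicalComplex.eval _ _ n)).ShortExact :=
  (shortExact_truncShortComplex E m).map_of_exact (HomologicalComplex.eval _ _ n)

lemma isZero_truncShortComplex_X₃_X (n : ℤ) (h : m ≤ n) :
    IsZero ((truncShortComplex E m).X₃.X n) := by
  have hS := shortExact_truncShortComplex_eval E m n
  have hf : IsIso ((truncShortComplex E m).f.f n) := isIso_truncInc_f E m n h
  have hg : (truncShortComplex E m).g.f n = 0 := by
    have hz : (truncShortComplex E m).f.f n ≫ (truncShortComplex E m).g.f n = 0 := by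
      rw [← HomologicalComplex.comp_f, (truncShortComplex E m).zero, HomologicalComplex.zero_f]
    exact (cancel_epi ((truncShortComplex E m).f.f n)).1 (by rw [hz, comp_zero])
  have he : Epi ((truncShortComplex E m).g.f n) := hS.epi_g
  rw [IsZero.iff_id_eq_zero]
  exact (cancel_epi ((truncShortComplex E m).g.f n)).1 (by rw [hg, zero_comp, zero_comp])

lemma isZero_truncShortComplex_X₁_X (n : ℤ) (h : ¬ m ≤ n) :
    IsZero ((truncShortComplex E m).X₁.X n) := isZero_truncX E m n h

lemma isIso_truncShortComplex_g_f (n : ℤ) (h : ¬ m ≤ n) :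
    IsIso ((truncShortComplex E m).g.f n) := by
  have hS := shortExact_truncShortComplex_eval E m n
  have he : Epi ((truncShortComplex E m).g.f n) := hS.epi_g
  have hm : Mono ((truncShortComplex E m).g.f n) :=
    hS.exact.mono_g ((isZero_truncShortComplex_X₁_X E m n h).eq_of_src _ _)
  exact isIso_of_mono_of_epi _

/-- The degreewise splittings. -/
noncomputable def truncShortComplexSplitting (n : ℤ) :
    ((truncShortComplex E m).map (HomologicalComplex.eval _ _ n)).Splitting := by
  by_cases h : m ≤ n
  · exact ShortComplex.Splitting.ofIsIsoOfIsZero _ (isIso_truncInc_f E m n h)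
      (isZero_truncShortComplex_X₃_X E m n h)
  · exact ShortComplex.Splitting.ofIsZeroOfIsIso _ (isZero_truncShortComplex_X₁_X E m n h)
      (isIso_truncShortComplex_g_f E m n h)

/-- The terms of `σ_{≥ m} E` in degrees `≥ m`. -/
noncomputable def truncShortComplexX₁Iso (n : ℤ) (h : m ≤ n) :
    (truncShortComplex E m).X₁.X n ≅ E.X n :=
  @asIso _ _ _ _ ((truncInc E m).f n) (isIso_truncInc_f E m n h)

/-- The terms of `σ_{< m} E` in degrees `< m`. -/
noncomputable def truncShortComplexX₃Iso (n : ℤ) (h : ¬ m ≤ n) :
    E.X n ≅ (truncShortComplex E m).X₃.X n :=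
  @asIso _ _ _ _ ((truncShortComplex E m).g.f n) (isIso_truncShortComplex_g_f E m n h)

end Groth.Agent.Lib.Helper13.DV
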